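import Mathlib
import Groth.Prelude.Def_ARSys
import Groth.Prelude.Def_DerCA

/-!
# Inverse systems of Artinian modules: Mittag-Leffler and essential constancy  (helper20)
-/

set_option autoImplicit false
set_option linter.unusedSectionVars false
set_option linter.unusedVariables false

universe u v

open CategoryTheory CategoryTheory.Limits Opposite

namespace Groth.Agent.Lib.Helper20.ArtSys

variable {R : Type u} [CommRing R]

lemma range_imageSubobject_arrow {M N : ModuleCat.{v} R} (f : M ⟶ N) :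
    LinearMap.range (imageSubobject f).arrow.hom = LinearMap.range f.hom := by
  have h : f = factorThruImageSubobject f ≫ (imageSubobject f).arrow :=
    (imageSubobject_arrow_comp f).symm
  have hs : Function.Surjective (factorThruImageSubobject f).hom :=
    (ModuleCat.epi_iff_surjective _).1 inferInstance
  conv_rhs => rw [h, ModuleCat.hom_comp, LinearMap.range_comp, LinearMap.range_eq_top.2 hs,
    Submodule.map_top]

lemma imageSubobject_eq_iff {M M' N : ModuleCat.{v} R} (f : M ⟶ N) (g : M' ⟶ N) :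
    imageSubobject f = imageSubobject g ↔ LinearMap.range f.hom = LinearMap.range g.hom := by
  rw [← range_imageSubobject_arrow f, ← range_imageSubobject_arrow g]
  constructor
  · intro h; rw [h]
  · intro h
    exact (ModuleCat.subobjectModule N).injective h

section tr

variable {C : Type*} [Category C] (X : ARSys.PS C)

lemma tr_comp {a b c : ℕ} (h1 : a ≤ b) (h2 : b ≤ c) :
    ARSys.tr X h2 ≫ ARSys.tr X h1 = ARSys.tr X (h1.trans h2) := by
  unfold ARSys.tr
  rw [← X.map_comp]
  congr 1

lemma tr_refl (a : ℕ) : ARSys.tr X (le_refl a) = 𝟙 _ := by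
  unfold ARSys.tr
  have : (homOfLE (le_refl a)).op = 𝟙 (op a) := rfl
  rw [this, X.map_id]

end tr

variable (X : ARSys.PS (ModuleCat.{v} R))

lemma tr_tr_apply {a b c : ℕ} (h1 : a ≤ b) (h2 : b ≤ c) (x : X.obj (op c)) :
    (ARSys.tr X h1).hom ((ARSys.tr X h2).hom x) = (ARSys.tr X (h1.trans h2)).hom x := by
  rw [← tr_comp X h1 h2]
  rfl

lemma tr_refl_apply (a : ℕ) (x : X.obj (op a)) : (ARSys.tr X (le_refl a)).hom x = x := by
  rw [tr_refl]
  rfl

/-- the images of `X_m → X_n` stabilise, for Artinian `X_n`. -/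
lemma exists_stable (hX : ∀ n : ℕ, IsArtinian R (X.obj (op n))) (n : ℕ) :
    ∃ r : ℕ, ∀ (m : ℕ) (h : n ≤ m), n + r ≤ m →
      LinearMap.range (ARSys.tr X h).hom =
        LinearMap.range (ARSys.tr X (Nat.le_add_right n r)).hom := by
  haveI := hX n
  let f : ℕ →o (Submodule R (X.obj (op n)))ᵒᵈ :=
    { toFun := fun s => OrderDual.toDual (LinearMap.range (ARSys.tr X (Nat.le_add_right n s)).hom)
      monotone' := by
        intro s s' hss
        change LinearMap.range (ARSys.tr X (Nat.le_add_right n s')).hom ≤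
          LinearMap.range (ARSys.tr X (Nat.le_add_right n s)).hom
        rintro _ ⟨x, rfl⟩
        refine ⟨(ARSys.tr X (Nat.add_le_add_left hss n)).hom x, ?_⟩
        rw [tr_tr_apply] }
  obtain ⟨r, hr⟩ := IsArtinian.monotone_stabilizes f
  refine ⟨r, fun m h hm => ?_⟩
  obtain ⟨s, rfl⟩ : ∃ s, m = n + s := ⟨m - n, by omega⟩
  have := hr s (by omega)
  exact (congrArg OrderDual.ofDual this).symm

/-- **Mittag-Leffler** for systems of Artinian modules. -/
theorem isML_of_isArtinian (hX : ∀ n : ℕ, IsArtinian R (X.obj (op n))) : ARSys.IsML X := by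
  intro n
  obtain ⟨r, hr⟩ := exists_stable X hX n
  refine ⟨r, fun s hs => ?_⟩
  rw [imageSubobject_eq_iff]
  exact hr (n + s) (Nat.le_add_right n s) (by omega)


section ess

variable (X : ARSys.PS (ModuleCat.{u} R)) (N : ModuleCat.{u} R)
  (c : (Functor.const ℕᵒᵖ).obj N ⟶ X)

lemma tr_c_apply {n m : ℕ} (h : n ≤ m) (x : N) :
    (ARSys.tr X h).hom ((c.app (op m)).hom x) = (c.app (op n)).hom x := by
  have h1 := c.naturality (homOfLE h).op
  have h2 : c.app (op m) ≫ ARSys.tr X h = c.app (op n) := by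
    rw [← h1]
    simp
  rw [← h2]
  rfl

/-- An inverse system of Artinian modules whose limit is (bijectively) an Artinian module `N`
is essentially constant with value `N`. -/
theorem isEssConstant_of_isArtinian (hX : ∀ n : ℕ, IsArtinian R (X.obj (op n)))
    [IsArtinian R N]
    (hinj : ∀ x : N, (∀ n : ℕ, (c.app (op n)).hom x = 0) → x = 0)
    (hsurj : ∀ y : ∀ n : ℕ, X.obj (op n),
      (∀ (n m : ℕ) (h : n ≤ m), (ARSys.tr X h).hom (y m) = y n) →
        ∃ x : N, ∀ n : ℕ, (c.app (op n)).hom x = y n) :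
    DerCA.IsEssConstant X N c := by
  classical
  choose r hr using exists_stable X hX
  let S : ∀ n : ℕ, Submodule R (X.obj (op n)) := fun n =>
    LinearMap.range (ARSys.tr X (Nat.le_add_right n (r n))).hom
  have hS : ∀ (n m : ℕ) (h : n ≤ m), n + r n ≤ m → LinearMap.range (ARSys.tr X h).hom = S n :=
    fun n m h hm => hr n m h hm
  -- lifting along one step
  have hlift : ∀ (n : ℕ) (z : X.obj (op n)), z ∈ S n →
      ∃ w : X.obj (op (n + 1)), w ∈ S (n + 1) ∧ (ARSys.tr X (Nat.le_succ n)).hom w = z := by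
    intro n z hz
    have h1 : n ≤ n + 1 + r (n + 1) + r n := by omega
    have hz' : z ∈ LinearMap.range (ARSys.tr X h1).hom := by
      rw [hS n _ h1 (by omega)]; exact hz
    obtain ⟨v, rfl⟩ := hz'
    have h2 : n + 1 ≤ n + 1 + r (n + 1) + r n := by omega
    refine ⟨(ARSys.tr X h2).hom v, ?_, ?_⟩
    · rw [← hS (n + 1) _ h2 (by omega)]
      exact ⟨v, rfl⟩
    · rw [tr_tr_apply]
  -- chains
  have hchain : ∀ (n : ℕ) (z : X.obj (op n)), z ∈ S n →
      ∃ w : ∀ j : ℕ, X.obj (op (n + j)), w 0 = z ∧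
        ∀ j : ℕ, (ARSys.tr X (Nat.le_succ (n + j))).hom (w (j + 1)) = w j := by
    intro n z hz
    let w : ∀ j : ℕ, {x : X.obj (op (n + j)) // x ∈ S (n + j)} := fun j =>
      Nat.rec (motive := fun j => {x : X.obj (op (n + j)) // x ∈ S (n + j)}) ⟨z, hz⟩
        (fun j x => ⟨(hlift (n + j) x.1 x.2).choose, (hlift (n + j) x.1 x.2).choose_spec.1⟩) j
    refine ⟨fun j => (w j).1, rfl, fun j => ?_⟩
    exact (hlift (n + j) (w j).1 (w j).2).choose_spec.2
  -- range c_n = S n
  have hrange : ∀ n : ℕ, LinearMap.range (c.app (op n)).hom = S n := by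
    intro n
    apply le_antisymm
    · rintro _ ⟨x, rfl⟩
      refine ⟨(c.app (op (n + r n))).hom x, ?_⟩
      rw [tr_c_apply]
    · intro z hz
      obtain ⟨w, hw0, hw⟩ := hchain n z hz
      have hwjl : ∀ (j l : ℕ) (hjl : j ≤ l),
          (ARSys.tr X (Nat.add_le_add_left hjl n)).hom (w l) = w j := by
        intro j l hjl
        induction l, hjl using Nat.le_induction with
        | base => rw [tr_refl_apply]
        | succ l hjl ih =>
          rw [← ih, ← hw l, tr_tr_apply]
      let y : ∀ k : ℕ, X.obj (op k) := fun k => (ARSys.tr X (Nat.le_add_left k n)).hom (w k)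
      have hy : ∀ (k l : ℕ) (h : k ≤ l), (ARSys.tr X h).hom (y l) = y k := by
        intro k l h
        change (ARSys.tr X h).hom ((ARSys.tr X (Nat.le_add_left l n)).hom (w l)) =
          (ARSys.tr X (Nat.le_add_left k n)).hom (w k)
        rw [tr_tr_apply, ← hwjl k l h, tr_tr_apply]
      obtain ⟨x, hx⟩ := hsurj y hy
      refine ⟨x, ?_⟩
      rw [hx n]
      change (ARSys.tr X (Nat.le_add_left n n)).hom (w n) = z
      rw [← hw0]
      exact hwjl 0 n (Nat.zero_le n)
  -- kernels stabilise at zero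
  let K : ℕ →o (Submodule R N)ᵒᵈ :=
    { toFun := fun n => OrderDual.toDual (LinearMap.ker (c.app (op n)).hom)
      monotone' := by
        intro n m hnm
        change LinearMap.ker (c.app (op m)).hom ≤ LinearMap.ker (c.app (op n)).hom
        intro x hx
        rw [LinearMap.mem_ker] at hx ⊢
        rw [← tr_c_apply X N c hnm, hx, map_zero] }
  obtain ⟨i₀, hi₀⟩ := IsArtinian.monotone_stabilizes K
  have hker : ∀ x : N, (c.app (op i₀)).hom x = 0 → x = 0 := by
    intro x hx
    apply hinj
    intro n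
    rcases le_total n i₀ with h | h
    · rw [← tr_c_apply X N c h, hx, map_zero]
    · have h1 : LinearMap.ker (c.app (op i₀)).hom = LinearMap.ker (c.app (op n)).hom :=
        congrArg OrderDual.ofDual (hi₀ n h)
      have h2 : x ∈ LinearMap.ker (c.app (op i₀)).hom := hx
      rw [h1] at h2
      exact h2
  have hinj₀ : Function.Injective (c.app (op i₀)).hom := by
    rw [← LinearMap.ker_eq_bot, eq_bot_iff]
    intro x hx
    exact (Submodule.mem_bot R).2 (hker x hx)
  -- the retraction
  let e : N ≃ₗ[R] LinearMap.range (c.app (op i₀)).hom := LinearEquiv.ofInjective _ hinj₀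
  have hi : i₀ ≤ i₀ + r i₀ := Nat.le_add_right _ _
  let q : X.obj (op (i₀ + r i₀)) →ₗ[R] LinearMap.range (c.app (op i₀)).hom :=
    LinearMap.codRestrict _ (ARSys.tr X hi).hom (fun x => by
      rw [hrange i₀]
      exact ⟨x, rfl⟩)
  let sL : X.obj (op (i₀ + r i₀)) →ₗ[R] N := e.symm.toLinearMap ∘ₗ q
  have hsL : ∀ x, (c.app (op i₀)).hom (sL x) = (ARSys.tr X hi).hom x := by
    intro x
    have h1 : e (e.symm (q x)) = q x := e.apply_symm_apply (q x)
    have h2 := congrArg Subtype.val h1
    exact h2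
  refine ⟨i₀ + r i₀, ModuleCat.ofHom sL, ?_, ?_⟩
  · ext x
    apply hinj₀
    change (c.app (op i₀)).hom (sL ((c.app (op (i₀ + r i₀))).hom x)) = (c.app (op i₀)).hom x
    rw [hsL, tr_c_apply]
  · intro j
    set l := max (i₀ + r i₀) j with hl
    have hil : i₀ + r i₀ ≤ l := le_max_left _ _
    have hjl : j ≤ l := le_max_right _ _
    have hlk : l ≤ l + r l := Nat.le_add_right _ _
    refine ⟨l + r l, hil.trans hlk, hjl.trans hlk, ?_⟩
    ext x
    change (ARSys.tr X (hjl.trans hlk)).hom x =
      (c.app (op j)).hom (sL ((ARSys.tr X (hil.trans hlk)).hom x))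
    have hx : (ARSys.tr X hlk).hom x ∈ S l := ⟨x, rfl⟩
    rw [← hrange l] at hx
    obtain ⟨n', hn'⟩ := hx
    have h1 : sL ((ARSys.tr X (hil.trans hlk)).hom x) = n' := by
      apply hinj₀
      rw [hsL, tr_tr_apply, ← tr_c_apply X N c (hi.trans hil) n', hn', tr_tr_apply]
    rw [h1, ← tr_c_apply X N c hjl n', hn', tr_tr_apply]

end ess

end Groth.Agent.Lib.Helper20.ArtSys
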