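import Mathlib
import Groth.Agent.Lib.Helper4.LC2

/-!
# Local cohomology (model `HH`): elements are power torsion; vanishing when an element of the
ideal acts bijectively.
-/

set_option autoImplicit false
set_option linter.unusedSectionVars false
set_option linter.unusedVariables false

universe u

open CategoryTheory Abelian Groth.Agent.Lib.Helper4.LC

namespace Groth.Agent.Lib.Helper20.LCTorsion

variable {R : Type u} [CommRing R] (I : Ideal R)

lemma ext_smul_eq_zero_left {N M : ModuleCat.{u} R} {r : R}
    (h : r ∈ Module.annihilator R N) {i : ℕ} (e : Ext.{u} N M i) : r • e = 0 := by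
  have h0 : r • 𝟙 N = 0 := by
    simp [← ModuleCat.lsmul_eq_smul_id, Module.mem_annihilator_iff_lsmul_eq_zero.mp h]
  have : r • e = (Ext.mk₀ (r • 𝟙 N)).comp e (zero_add i) := by simp [Ext.mk₀_smul]
  rw [this, h0]
  simp

/-- every element of local cohomology is killed by a power of the ideal. -/
lemma exists_pow_smul_eq_zero (M : ModuleCat.{u} R) (i : ℕ) (x : HH I M i) :
    ∃ n : ℕ, ∀ r ∈ I ^ n, r • x = 0 := by
  obtain ⟨n, y, rfl⟩ := HH.exists_of I M i x
  refine ⟨n, fun r hr => ?_⟩
  have hann : r ∈ Module.annihilator R (Q I n) := by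
    change r ∈ Module.annihilator R (R ⧸ I ^ n)
    rw [Ideal.annihilator_quotient]
    exact hr
  rw [← map_smul, ext_smul_eq_zero_left hann, map_zero]

/-- if an element of the ideal acts bijectively on `M`, all local cohomology vanishes. -/
lemma subsingleton_of_bijective_smul (M : Type u) [AddCommGroup M] [Module R M] (f : R)
    (hf : f ∈ I) (hbij : Function.Bijective (fun x : M => f • x)) (i : ℕ) :
    Subsingleton (HH I (ModuleCat.of R M) i) := by
  let e : M ≃ₗ[R] M := LinearEquiv.ofBijective (LinearMap.lsmul R M f) hbij
  have he : e.toModuleIso.hom = f • 𝟙 (ModuleCat.of R M) := rfl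
  have hinj : Function.Injective (fun x : HH I (ModuleCat.of R M) i => f • x) := by
    intro x y hxy
    simp only [HH.smul_eq_map, ← he] at hxy
    exact (HH.mapIso I e.toModuleIso i).injective hxy
  have hpow : ∀ (n : ℕ) (x : HH I (ModuleCat.of R M) i), f ^ n • x = 0 → x = 0 := by
    intro n
    induction n with
    | zero => intro x hx; simpa using hx
    | succ n ih =>
      intro x hx
      rw [pow_succ', mul_smul] at hx
      have : f ^ n • x = 0 := hinj (by simpa using hx)
      exact ih x this
  refine ⟨fun x y => ?_⟩
  have key : ∀ x : HH I (ModuleCat.of R M) i, x = 0 := by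
    intro x
    obtain ⟨n, hn⟩ := exists_pow_smul_eq_zero I (ModuleCat.of R M) i x
    exact hpow n x (hn _ (Ideal.pow_mem_pow hf n))
  rw [key x, key y]

end Groth.Agent.Lib.Helper20.LCTorsion
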