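import Mathlib
import Groth.Agent.Lib.Helper4.LC3
import Groth.Agent.Lib.Helper17.IdealTransform
import Groth.Agent.Lib.Helper20.LCTorsion

/-!
# Finiteness of local cohomology below `n` is equivalent to annihilation by a power of `I`
-/

set_option autoImplicit false
set_option linter.unusedSectionVars false
set_option linter.unusedVariables false

universe u

open CategoryTheory Abelian Groth.Agent.Lib.Helper4.LC

namespace Groth.Agent.Lib.Helper20.LCFinite

variable {R : Type u} [CommRing R] [IsNoetherianRing R] (I : Ideal R)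

/-- `M ⧸ Γ_I(M)` is `I`-torsion-free. -/
lemma torsionSub_quotient_eq_bot (M : Type u) [AddCommGroup M] [Module R M] :
    DRing.torsionSub I (M ⧸ DRing.torsionSub I M) = ⊥ := by
  rw [eq_bot_iff]
  rintro q ⟨n, hn⟩
  obtain ⟨x, rfl⟩ := Submodule.mkQ_surjective _ q
  -- the submodule `I^n • x`
  let P : Submodule R M := (I ^ n) • (Submodule.span R {x})
  have hPfg : P.FG := Submodule.FG.smul (IsNoetherian.noetherian (I ^ n))
    (Submodule.fg_span_singleton x)
  have hPtors : ∀ p ∈ P, p ∈ DRing.torsionSub I M := by
    intro p hp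
    refine Submodule.smul_induction_on hp ?_ ?_
    · intro a ha y hy
      obtain ⟨c, rfl⟩ := Submodule.mem_span_singleton.1 hy
      have h1 := hn a ha
      rw [Submodule.mkQ_apply, ← Submodule.Quotient.mk_smul, Submodule.Quotient.mk_eq_zero] at h1
      rw [smul_comm]
      exact Submodule.smul_mem _ c h1
    · intro y z hy hz
      exact Submodule.add_mem _ hy hz
  obtain ⟨l, hl⟩ := Groth.Agent.Lib.Helper17.IdealTransform.exists_pow_smul_eq_zero I P hPfg hPtors
  have hx : x ∈ DRing.torsionSub I M := by
    refine ⟨l + n, fun a ha => ?_⟩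
    rw [pow_add] at ha
    refine Submodule.mul_induction_on ha ?_ ?_
    · intro b hb c hc
      rw [mul_smul]
      exact hl b hb _ (Submodule.smul_mem_smul hc (Submodule.mem_span_singleton_self x))
    · intro b c hb hc
      rw [add_smul, hb, hc, add_zero]
  rw [Submodule.mem_bot, Submodule.mkQ_apply, Submodule.Quotient.mk_eq_zero]
  exact hx

/-- an `I`-torsion-free nontrivial finite module has a regular element in `I`. -/
lemma exists_regular_of_torsionSub_eq_bot (M : Type u) [AddCommGroup M] [Module R M]
    [Module.Finite R M] [Nontrivial M] (h : DRing.torsionSub I M = ⊥) :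
    ∃ r ∈ I, IsSMulRegular M r := by
  by_contra hcon
  push Not at hcon
  obtain ⟨p, hp, hIp⟩ :=
    (Groth.Agent.Lib.Helper4.forall_not_isSMulRegular_iff_exists_le_associatedPrime (M := M) I).1 hcon
  obtain ⟨hpp, x, hx⟩ := isAssociatedPrime_iff.1 (AssociatedPrimes.mem_iff.1 hp)
  have hx0 : x ≠ 0 := by
    rintro rfl
    apply hpp.ne_top
    rw [hx, eq_top_iff]
    intro r _
    rw [Submodule.mem_colon_singleton, smul_zero]
    exact Submodule.zero_mem _
  have hxt : x ∈ DRing.torsionSub I M := by
    refine ⟨1, fun a ha => ?_⟩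
    rw [pow_one] at ha
    have h1 : a ∈ (⊥ : Submodule R M).colon {x} := by rw [← hx]; exact hIp ha
    rw [Submodule.mem_colon_singleton] at h1
    exact (Submodule.mem_bot R).1 h1
  rw [h, Submodule.mem_bot] at hxt
  exact hx0 hxt

section iso

variable (M : Type u) [AddCommGroup M] [Module R M]

/-- the sequence `0 → Γ_I(M) → M → M/Γ_I(M) → 0`. -/
noncomputable abbrev torSES : ShortComplex (ModuleCat.{u} R) :=
  sesOf (DRing.torsionSub I M).subtype (DRing.torsionSub I M).mkQ
    (LinearMap.exact_subtype_mkQ _)

lemma torSES_shortExact : (torSES I M).ShortExact :=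
  sesOf_shortExact _ _ (LinearMap.exact_subtype_mkQ _) (Submodule.injective_subtype _)
    (Submodule.mkQ_surjective _)

/-- `H^{i+1}_I(M) ≅ H^{i+1}_I(M/Γ_I(M))`. -/
noncomputable def quotEquiv (i : ℕ) :
    HH I (ModuleCat.of R M) (i + 1) ≃ₗ[R]
      HH I (ModuleCat.of R (M ⧸ DRing.torsionSub I M)) (i + 1) :=
  LinearEquiv.ofBijective (HH.map I (torSES I M).g (i + 1))
    ⟨HH.map_g_injective I (torSES_shortExact I M) (i + 1)
      (HH.subsingleton_of_isPowerTorsion I i _ (isPowerTorsion_torsionSub I M)),
     HH.map_g_surjective I (torSES_shortExact I M) (i + 1)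
      (HH.subsingleton_of_isPowerTorsion I (i + 1) _ (isPowerTorsion_torsionSub I M))⟩

lemma subsingleton_HH_zero_quot :
    Subsingleton (HH I (ModuleCat.of R (M ⧸ DRing.torsionSub I M)) 0) :=
  (HH0_subsingleton_iff I _).2 (torsionSub_quotient_eq_bot I M)

end iso

/-- `H^0_I(M)` is finite for finite `M`. -/
lemma finite_HH_zero (M : Type u) [AddCommGroup M] [Module R M] [Module.Finite R M] :
    Module.Finite R (HH I (ModuleCat.of R M) 0) :=
  Module.Finite.equiv (HH0Equiv I (ModuleCat.of R M)).symm

/-- **Faltings**: if a power of `I` kills `H^i_I(M)` for all `i ≤ n`, these are finite. -/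
theorem finite_of_annihilated : ∀ (n : ℕ) (M : Type u) [AddCommGroup M] [Module R M]
    [Module.Finite R M] (N : ℕ)
    (_ : ∀ i : ℕ, i ≤ n → ∀ a ∈ I ^ N, ∀ x : HH I (ModuleCat.of R M) i, a • x = 0),
    ∀ i : ℕ, i ≤ n → Module.Finite R (HH I (ModuleCat.of R M) i) := by
  intro n
  induction n with
  | zero =>
    intro M _ _ _ N _ i hi
    obtain rfl : i = 0 := by omega
    exact finite_HH_zero I M
  | succ n ih =>
    intro M _ _ _ N hN i hi
    rcases Nat.lt_or_ge i (n + 1) with hlt | hge
    · exact ih M N (fun j hj => hN j (by omega)) i (by omega)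
    obtain rfl : i = n + 1 := by omega
    -- pass to the torsion-free quotient
    set Q := M ⧸ DRing.torsionSub I M with hQ
    have hNQ : ∀ j : ℕ, j ≤ n + 1 → ∀ a ∈ I ^ N, ∀ x : HH I (ModuleCat.of R Q) j, a • x = 0 := by
      intro j hj a ha x
      cases j with
      | zero =>
        have := subsingleton_HH_zero_quot I M
        exact Subsingleton.elim _ _
      | succ j =>
        obtain ⟨y, rfl⟩ := (quotEquiv I M j).surjective x
        rw [← map_smul, hN (j + 1) hj a ha y, map_zero]
    suffices hfin : Module.Finite R (HH I (ModuleCat.of R Q) (n + 1)) from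
      Module.Finite.equiv (quotEquiv I M n).symm
    by_cases hnt : Nontrivial Q
    swap
    · rw [not_nontrivial_iff_subsingleton] at hnt
      have : Subsingleton (HH I (ModuleCat.of R Q) (n + 1)) :=
        HH.subsingleton_of_isPowerTorsion I n Q
          (fun m => ⟨0, fun a _ => Subsingleton.elim _ _⟩)
      infer_instance
    obtain ⟨r, hrI, hreg⟩ := exists_regular_of_torsionSub_eq_bot I Q
      (torsionSub_quotient_eq_bot I M)
    set s := r ^ N with hs
    have hsI : s ∈ I ^ N := Ideal.pow_mem_pow hrI N
    have hsreg : IsSMulRegular Q s := hreg.pow N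
    have hS : (ModuleCat.smulShortComplex (ModuleCat.of R Q) s).ShortExact :=
      IsSMulRegular.smulShortComplex_shortExact (M := ModuleCat.of R Q) hsreg
    set S := ModuleCat.smulShortComplex (ModuleCat.of R Q) s with hSdef
    -- `s` acts as zero
    have hsmap : ∀ (j : ℕ) (hj : j ≤ n + 1) (x : HH I S.X₁ j), HH.map I S.f j x = 0 := by
      intro j hj x
      have : HH.map I S.f j x = s • x := (HH.smul_eq_map I j s x).symm
      rw [this]
      exact hNQ j hj s hsI x
    -- the quotient module
    have hQfin : Module.Finite R (QuotSMulTop s Q) := inferInstance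
    -- `I ^ (N + N)` kills `H^j (Q / sQ)` for `j ≤ n`
    have hkill : ∀ j : ℕ, j ≤ n → ∀ a ∈ I ^ (N + N),
        ∀ x : HH I S.X₃ j, a • x = 0 := by
      intro j hj a ha x
      rw [pow_add] at ha
      refine Submodule.mul_induction_on ha ?_ ?_
      · intro b hb c hc
        have h1 : HH.δ I hS j (c • x) = 0 := by
          rw [map_smul]
          exact hNQ (j + 1) (by omega) c hc _
        obtain ⟨y, hy⟩ := HH.exact₃ I hS j _ h1
        rw [mul_smul]
        have hy' : c • x = HH.map I S.g j y := hy.symm
        have hby : b • y = 0 := hNQ j (by omega) b hb y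
        rw [hy', ← map_smul, hby, map_zero]
      · intro b c hb hc
        rw [add_smul, hb, hc, add_zero]
    have hfinQ : Module.Finite R (HH I S.X₃ n) :=
      ih (QuotSMulTop s Q) (N + N) (fun j hj a ha x => hkill j hj a ha x) n le_rfl
    -- `δ` is onto
    have hδsurj : Function.Surjective (HH.δ I hS n) := by
      intro x
      exact HH.exact₁ I hS n x (hsmap (n + 1) le_rfl x)
    exact Module.Finite.of_surjective (HH.δ I hS n) hδsurj

/-- conversely, finite local cohomology modules are killed by a power of `I`. -/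
theorem exists_pow_annihilates_of_finite (M : ModuleCat.{u} R) (i : ℕ)
    [Module.Finite R (HH I M i)] : ∃ N : ℕ, ∀ a ∈ I ^ N, ∀ x : HH I M i, a • x = 0 := by
  obtain ⟨l, hl⟩ := Groth.Agent.Lib.Helper17.IdealTransform.exists_pow_smul_eq_zero I
    (⊤ : Submodule R (HH I M i)) Module.Finite.fg_top
    (fun p _ => Groth.Agent.Lib.Helper20.LCTorsion.exists_pow_smul_eq_zero I M i p)
  exact ⟨l, fun a ha x => hl a ha x trivial⟩

end Groth.Agent.Lib.Helper20.LCFinite
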