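import Mathlib

/-!
# Secondary representations of Artinian modules (Macdonald)

Every Artinian module is a finite sum of secondary submodules.  As a consequence, over a local
ring with finitely generated maximal ideal `𝔪`, for an Artinian module `N` and finitely many primes
`≠ 𝔪`, there is `x ∈ 𝔪` outside these primes with `𝔪 ^ k • N ⊆ x • N` for some `k`.
-/

set_option autoImplicit false
set_option linter.unusedSectionVars false
set_option linter.unusedVariables false

namespace Groth.Agent.Lib.Helper20.Secondary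

variable {R : Type*} [CommRing R] {N : Type*} [AddCommGroup N] [Module R N]

/-- `S` is a secondary submodule: nonzero, and each `r` acts surjectively or nilpotently. -/
def IsSecondary (S : Submodule R N) : Prop :=
  S ≠ ⊥ ∧ ∀ r : R, (∀ y ∈ S, ∃ z ∈ S, r • z = y) ∨ ∃ k : ℕ, ∀ y ∈ S, r ^ k • y = 0

/-- the radical of the annihilator of a submodule. -/
def prim (S : Submodule R N) : Ideal R := S.annihilator.radical

lemma mem_prim {S : Submodule R N} {r : R} :
    r ∈ prim S ↔ ∃ k : ℕ, ∀ y ∈ S, r ^ k • y = 0 := by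
  unfold prim
  constructor
  · rintro ⟨k, hk⟩
    exact ⟨k, fun y hy => Submodule.mem_annihilator.1 hk y hy⟩
  · rintro ⟨k, hk⟩
    exact ⟨k, Submodule.mem_annihilator.2 hk⟩

lemma IsSecondary.surj_of_notMem {S : Submodule R N} (hS : IsSecondary S) {r : R}
    (hr : r ∉ prim S) : ∀ y ∈ S, ∃ z ∈ S, r • z = y := by
  rcases hS.2 r with h | h
  · exact h
  · exact absurd (mem_prim.2 h) hr

lemma IsSecondary.isPrime {S : Submodule R N} (hS : IsSecondary S) : (prim S).IsPrime := by
  refine ⟨?_, ?_⟩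
  · intro h
    have h1 : (1 : R) ∈ prim S := by rw [h]; exact Submodule.mem_top
    obtain ⟨k, hk⟩ := mem_prim.1 h1
    apply hS.1
    rw [eq_bot_iff]
    intro y hy
    have := hk y hy
    rw [one_pow, one_smul] at this
    exact (Submodule.mem_bot R).2 this
  · intro a b hab
    by_contra hcon
    push Not at hcon
    have ha := hS.surj_of_notMem hcon.1
    have hb := hS.surj_of_notMem hcon.2
    have hsurj : ∀ k : ℕ, ∀ y ∈ S, ∃ z ∈ S, (a * b) ^ k • z = y := by
      intro k
      induction k with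
      | zero => intro y hy; exact ⟨y, hy, by rw [pow_zero, one_smul]⟩
      | succ k ih =>
        intro y hy
        obtain ⟨z, hz, rfl⟩ := ih y hy
        obtain ⟨w, hw, rfl⟩ := ha z hz
        obtain ⟨v, hv, rfl⟩ := hb w hw
        refine ⟨v, hv, ?_⟩
        rw [pow_succ, mul_smul, mul_smul]
    obtain ⟨k, hk⟩ := mem_prim.1 hab
    apply hS.1
    rw [eq_bot_iff]
    intro y hy
    obtain ⟨z, hz, rfl⟩ := hsurj k y hy
    exact (Submodule.mem_bot R).2 (hk z hz)

/-- a sum-irreducible submodule of an Artinian module is secondary. -/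
theorem isSecondary_of_supIrred [IsArtinian R N] {S : Submodule R N} (hS : SupIrred S) :
    IsSecondary S := by
  refine ⟨fun h => hS.1 (by rw [h]; exact isMin_bot), fun r => ?_⟩
  -- the chain `r ^ k • S`
  let f : ℕ →o (Submodule R N)ᵒᵈ :=
    ⟨fun k => OrderDual.toDual (S.map (LinearMap.lsmul R N (r ^ k))), by
      intro i j hij
      apply OrderDual.toDual_le_toDual.mpr
      rintro _ ⟨y, hy, rfl⟩
      refine ⟨r ^ (j - i) • y, S.smul_mem _ hy, ?_⟩
      simp only [LinearMap.lsmul_apply]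
      rw [← mul_smul, ← pow_add, Nat.add_sub_cancel' hij]⟩
  obtain ⟨k, hk⟩ := IsArtinian.monotone_stabilizes f
  have hk' : ∀ j, k ≤ j → S.map (LinearMap.lsmul R N (r ^ k)) =
      S.map (LinearMap.lsmul R N (r ^ j)) := fun j hj => OrderDual.toDual.injective (hk j hj)
  have hle : S.map (LinearMap.lsmul R N (r ^ k)) ≤ S := by
    rintro _ ⟨y, hy, rfl⟩
    exact S.smul_mem _ hy
  have hsup : S.map (LinearMap.lsmul R N (r ^ k)) ⊔
      (S ⊓ LinearMap.ker (LinearMap.lsmul R N (r ^ k))) = S := by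
    apply le_antisymm (sup_le hle inf_le_left)
    intro y hy
    have h1 : r ^ k • y ∈ S.map (LinearMap.lsmul R N (r ^ (k + k))) := by
      rw [← hk' (k + k) (Nat.le_add_right k k)]
      exact ⟨y, hy, rfl⟩
    obtain ⟨z, hz, hzy⟩ := h1
    simp only [LinearMap.lsmul_apply] at hzy
    have h2 : y = r ^ k • z + (y - r ^ k • z) := by abel
    rw [h2]
    refine Submodule.add_mem_sup ⟨z, hz, rfl⟩ ⟨S.sub_mem hy (S.smul_mem _ hz), ?_⟩
    show (LinearMap.lsmul R N (r ^ k)) (y - r ^ k • z) = 0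
    rw [LinearMap.lsmul_apply, smul_sub, ← mul_smul, ← pow_add, hzy, sub_self]
  rcases hS.2 hsup with h | h
  · left
    intro y hy
    have h1 : y ∈ S.map (LinearMap.lsmul R N (r ^ (k + 1))) := by
      rw [← hk' (k + 1) (Nat.le_succ k), h]; exact hy
    obtain ⟨w, hw, rfl⟩ := h1
    refine ⟨r ^ k • w, S.smul_mem _ hw, ?_⟩
    simp only [LinearMap.lsmul_apply]
    rw [← mul_smul, ← pow_succ']
  · right
    refine ⟨k, fun y hy => ?_⟩
    have h1 : y ∈ S ⊓ LinearMap.ker (LinearMap.lsmul R N (r ^ k)) := by rw [h]; exact hy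
    exact LinearMap.mem_ker.1 h1.2

/-- every submodule of an Artinian module is a finite sum of secondary submodules. -/
theorem exists_secondary_decomposition [IsArtinian R N] (T : Submodule R N) :
    ∃ s : Finset (Submodule R N), s.sup id = T ∧ ∀ S ∈ s, IsSecondary S := by
  obtain ⟨s, hs, hs'⟩ := exists_supIrred_decomposition T
  exact ⟨s, hs, fun S hS => isSecondary_of_supIrred (hs' hS)⟩

/-- **Key lemma.**  Over a local ring with finitely generated maximal ideal, for an Artinian
module `N` and a finite set of primes different from `𝔪`, there are `x ∈ 𝔪` outside these primes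
and `k` with `𝔪 ^ k • N ⊆ x • N`. -/
theorem exists_mem_maximalIdeal_pow_smul_le [IsLocalRing R]
    (hfg : (IsLocalRing.maximalIdeal R).FG) [IsArtinian R N]
    (P : Finset (Ideal R)) (hP : ∀ q ∈ P, q.IsPrime ∧ q ≠ IsLocalRing.maximalIdeal R) :
    ∃ x ∈ IsLocalRing.maximalIdeal R, (∀ q ∈ P, x ∉ q) ∧
      ∃ k : ℕ, ∀ a ∈ IsLocalRing.maximalIdeal R ^ k, ∀ n : N, ∃ w : N, a • n = x • w := by
  classical
  obtain ⟨s, hs, hsec⟩ := exists_secondary_decomposition (⊤ : Submodule R N)
  set 𝔪 := IsLocalRing.maximalIdeal R with h𝔪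
  -- the secondary components with `𝔪`-primary radical and the others
  let s₁ := s.filter (fun S => 𝔪 ≤ prim S)
  let s₂ := s.filter (fun S => ¬ 𝔪 ≤ prim S)
  -- exponents for `s₁`
  have hexp : ∀ S ∈ s₁, ∃ k : ℕ, 𝔪 ^ k ≤ S.annihilator := by
    intro S hS
    have h1 : 𝔪 ≤ S.annihilator.radical := (Finset.mem_filter.1 hS).2
    exact Ideal.exists_pow_le_of_le_radical_of_fg h1 hfg
  choose! e he using hexp
  let k := s₁.sup e
  -- prime avoidance
  let Q : Finset (Ideal R) := s₂.image prim ∪ P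
  have hQ : ∀ q ∈ Q, q.IsPrime ∧ ¬ 𝔪 ≤ q := by
    intro q hq
    rcases Finset.mem_union.1 hq with hq | hq
    · obtain ⟨S, hS, rfl⟩ := Finset.mem_image.1 hq
      exact ⟨(hsec S (Finset.mem_filter.1 hS).1).isPrime, (Finset.mem_filter.1 hS).2⟩
    · refine ⟨(hP q hq).1, fun hle => (hP q hq).2 ?_⟩
      exact ((IsLocalRing.maximalIdeal.isMaximal R).eq_of_le (hP q hq).1.ne_top hle).symm
  have hav : ¬ ((𝔪 : Set R) ⊆ ⋃ q ∈ (Q : Set (Ideal R)), (q : Set R)) := by
    intro hsub
    obtain ⟨q, hq, hle⟩ := (Ideal.subset_union_prime (s := Q) (f := id) ⊥ ⊥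
      (fun q hq _ _ => (hQ q hq).1)).1 (by simpa using hsub)
    exact (hQ q hq).2 hle
  obtain ⟨x, hx𝔪, hxQ⟩ := Set.not_subset.1 hav
  have hxQ' : ∀ q ∈ Q, x ∉ q := by
    intro q hq hxq
    exact hxQ (Set.mem_biUnion (Finset.mem_coe.2 hq) hxq)
  refine ⟨x, hx𝔪, fun q hq => hxQ' q (Finset.mem_union_right _ hq), k, ?_⟩
  -- the submodule of elements `n` with `𝔪 ^ k • n ⊆ x • N`
  let U : Submodule R N :=
    { carrier := {n | ∀ a ∈ 𝔪 ^ k, ∃ w : N, a • n = x • w}
      add_mem' := by
        intro n n' hn hn' a ha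
        obtain ⟨w, hw⟩ := hn a ha
        obtain ⟨w', hw'⟩ := hn' a ha
        exact ⟨w + w', by rw [smul_add, smul_add, hw, hw']⟩
      zero_mem' := fun a _ => ⟨0, by rw [smul_zero, smul_zero]⟩
      smul_mem' := by
        intro c n hn a ha
        obtain ⟨w, hw⟩ := hn a ha
        exact ⟨c • w, by rw [smul_comm, hw, smul_comm]⟩ }
  have hU : ∀ S ∈ s, S ≤ U := by
    intro S hS n hn a ha
    by_cases h : 𝔪 ≤ prim S
    · have hS1 : S ∈ s₁ := Finset.mem_filter.2 ⟨hS, h⟩
      have h1 : 𝔪 ^ k ≤ S.annihilator :=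
        le_trans (Ideal.pow_le_pow_right (Finset.le_sup (f := e) hS1)) (he S hS1)
      exact ⟨0, by rw [Submodule.mem_annihilator.1 (h1 ha) n hn, smul_zero]⟩
    · have hS2 : S ∈ s₂ := Finset.mem_filter.2 ⟨hS, h⟩
      have hx : x ∉ prim S :=
        hxQ' _ (Finset.mem_union_left _ (Finset.mem_image_of_mem _ hS2))
      obtain ⟨z, hz, hzn⟩ := (hsec S hS).surj_of_notMem hx (a • n) (S.smul_mem a hn)
      exact ⟨z, hzn.symm⟩
  have htop : (⊤ : Submodule R N) ≤ U := by
    rw [← hs]
    exact Finset.sup_le (fun S hS => hU S hS)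
  intro a ha n
  exact htop (Submodule.mem_top (x := n)) a ha

end Groth.Agent.Lib.Helper20.Secondary
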