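import Mathlib
import Groth.Agent.Lib.Helper4.LC7
import Groth.Agent.Lib.Helper20.LCFinite
import Groth.Agent.Lib.Helper20.Secondary

/-!
# Grothendieck's non-vanishing theorem

For a finite module `M` of dimension `n` over a Noetherian local ring `(R, 𝔪)`, `H^n_𝔪(M) ≠ 0`.
Elementary proof (Macdonald–Sharp) via secondary representations of the Artinian modules
`H^i_𝔪(M)`.
-/

set_option autoImplicit false
set_option linter.unusedSectionVars false
set_option linter.unusedVariables false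
set_option linter.style.haveILetI false
set_option maxHeartbeats 400000

universe u

open CategoryTheory Abelian Groth.Agent.Lib.Helper4.LC Groth.Agent.Lib.Helper20.LCFinite

namespace Groth.Agent.Lib.Helper20.LCNonVanish

variable {R : Type u} [CommRing R] [IsNoetherianRing R] [IsLocalRing R]

section dim

variable (M : Type u) [AddCommGroup M] [Module R M]

/-- killing the `𝔪`-torsion does not change the support, unless the quotient is zero. -/
lemma support_quot_torsion
    [Nontrivial (M ⧸ DRing.torsionSub (IsLocalRing.maximalIdeal R) M)] :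
    Module.support R (M ⧸ DRing.torsionSub (IsLocalRing.maximalIdeal R) M) =
      Module.support R M := by
  apply subset_antisymm (Module.support_subset_of_surjective _ (Submodule.mkQ_surjective _))
  intro p hp
  by_cases hpm : p.asIdeal = IsLocalRing.maximalIdeal R
  · obtain ⟨q, hq⟩ := Module.nonempty_support_of_nontrivial (R := R)
      (M := M ⧸ DRing.torsionSub (IsLocalRing.maximalIdeal R) M)
    refine Module.mem_support_mono ?_ hq
    show q.asIdeal ≤ p.asIdeal
    rw [hpm]
    exact IsLocalRing.le_maximalIdeal q.isPrime.ne_top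
  · have hnle : ¬ IsLocalRing.maximalIdeal R ≤ p.asIdeal := fun hle =>
      hpm ((IsLocalRing.maximalIdeal.isMaximal R).eq_of_le p.isPrime.ne_top hle).symm
    obtain ⟨a, ham, hap⟩ := SetLike.not_le_iff_exists.1 hnle
    obtain ⟨y, hy⟩ := Module.mem_support_iff'.1 hp
    refine Module.mem_support_iff'.2 ⟨Submodule.Quotient.mk y, fun r hr h0 => ?_⟩
    rw [← Submodule.Quotient.mk_smul, Submodule.Quotient.mk_eq_zero] at h0
    obtain ⟨k, hk⟩ := h0
    have h1 : a ^ k • (r • y) = 0 := hk _ (Ideal.pow_mem_pow ham k)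
    rw [← mul_smul] at h1
    refine hy (a ^ k * r) ?_ h1
    intro hmem
    rcases p.isPrime.mem_or_mem hmem with h | h
    · exact hap (p.isPrime.mem_of_pow_mem k h)
    · exact hr h

/-- an `𝔪`-power-torsion module has dimension `≤ 0`. -/
lemma supportDim_le_zero_of_torsion
    (h : ∀ y : M, y ∈ DRing.torsionSub (IsLocalRing.maximalIdeal R) M) :
    Module.supportDim R M ≤ 0 := by
  unfold Module.supportDim
  have key : ∀ p ∈ Module.support R M, p.asIdeal = IsLocalRing.maximalIdeal R := by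
    intro p hp
    obtain ⟨y, hy⟩ := Module.mem_support_iff'.1 hp
    obtain ⟨k, hk⟩ := h y
    have hle : IsLocalRing.maximalIdeal R ≤ p.asIdeal := by
      intro a ha
      by_contra hap
      exact hy (a ^ k) (fun h' => hap (p.isPrime.mem_of_pow_mem k h'))
        (hk _ (Ideal.pow_mem_pow ha k))
    exact ((IsLocalRing.maximalIdeal.isMaximal R).eq_of_le p.isPrime.ne_top hle).symm
  haveI : Subsingleton (Module.support R M) := by
    refine ⟨fun ⟨p, hp⟩ ⟨q, hq⟩ => ?_⟩
    apply Subtype.ext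
    apply PrimeSpectrum.ext
    rw [key p hp, key q hq]
  exact Order.krullDim_nonpos_of_subsingleton

end dim

lemma withBot_add_one_ne_zero (a : WithBot ℕ∞) : a + 1 ≠ 0 := by
  induction a with
  | bot => simp
  | coe a =>
    intro h
    have h' : ((a + 1 : ℕ∞) : WithBot ℕ∞) = ((0 : ℕ∞) : WithBot ℕ∞) := by exact_mod_cast h
    have := WithBot.coe_injective h'
    simp at this

lemma withBot_eq_of_add_one_eq (a : WithBot ℕ∞) (n : ℕ)
    (h : a + 1 = ((n + 1 : ℕ) : WithBot ℕ∞)) : a = (n : WithBot ℕ∞) := by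
  induction a with
  | bot =>
    rw [WithBot.bot_add] at h
    exact absurd h.symm (WithBot.natCast_ne_bot _)
  | coe a =>
    have h' : ((a + 1 : ℕ∞) : WithBot ℕ∞) = (((n + 1 : ℕ) : ℕ∞) : WithBot ℕ∞) := by
      exact_mod_cast h
    have h2 : a + 1 = ((n + 1 : ℕ) : ℕ∞) := WithBot.coe_injective h'
    induction a with
    | top =>
      rw [top_add] at h2
      exact absurd h2.symm (ENat.natCast_ne_top _)
    | coe a =>
      have h3 : a + 1 = n + 1 := by exact_mod_cast h2
      have h4 : a = n := by omega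
      subst h4
      rfl

/-- `H^{n+1}_𝔪(M)` has no nonzero quotient (in particular itself) killed by a power of `𝔪`, when
`dim M ≤ n + 1`. -/
theorem subsingleton_of_pow_smul_eq_zero (n : ℕ) (M : Type u) [AddCommGroup M] [Module R M]
    [Module.Finite R M]
    (hdim : Module.supportDim R M ≤ ((n + 1 : ℕ) : WithBot ℕ∞)) (k : ℕ)
    (hk : ∀ a ∈ IsLocalRing.maximalIdeal R ^ k,
      ∀ z : HH (IsLocalRing.maximalIdeal R) (ModuleCat.of R M) (n + 1), a • z = 0) :
    Subsingleton (HH (IsLocalRing.maximalIdeal R) (ModuleCat.of R M) (n + 1)) := by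
  set 𝔪 := IsLocalRing.maximalIdeal R with h𝔪
  let e := quotEquiv 𝔪 M n
  suffices h : Subsingleton (HH 𝔪 (ModuleCat.of R (M ⧸ DRing.torsionSub 𝔪 M)) (n + 1)) from
    e.toEquiv.subsingleton
  have hk' : ∀ a ∈ 𝔪 ^ k,
      ∀ z : HH 𝔪 (ModuleCat.of R (M ⧸ DRing.torsionSub 𝔪 M)) (n + 1), a • z = 0 := by
    intro a ha z
    obtain ⟨w, rfl⟩ := e.surjective z
    rw [← map_smul, hk a ha w, map_zero]
  by_cases hsub : Subsingleton (M ⧸ DRing.torsionSub 𝔪 M)
  · exact HH.subsingleton_of_subsingleton 𝔪 _ (n + 1)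
  haveI : Nontrivial (M ⧸ DRing.torsionSub 𝔪 M) := not_subsingleton_iff_nontrivial.1 hsub
  obtain ⟨x, hx𝔪, hreg⟩ := exists_regular_of_torsionSub_eq_bot 𝔪 (M ⧸ DRing.torsionSub 𝔪 M)
    (torsionSub_quotient_eq_bot 𝔪 M)
  have hS := IsSMulRegular.smulShortComplex_shortExact
    (M := ModuleCat.of R (M ⧸ DRing.torsionSub 𝔪 M)) hreg
  have hd1 : Module.supportDim R (QuotSMulTop x (M ⧸ DRing.torsionSub 𝔪 M)) + 1 =
      Module.supportDim R (M ⧸ DRing.torsionSub 𝔪 M) :=
    Module.supportDim_quotSMulTop_succ_eq_supportDim hreg hx𝔪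
  have hd2 : Module.supportDim R (M ⧸ DRing.torsionSub 𝔪 M) ≤ Module.supportDim R M :=
    Module.supportDim_le_of_surjective _ (Submodule.mkQ_surjective _)
  have hd3 : Module.supportDim R (QuotSMulTop x (M ⧸ DRing.torsionSub 𝔪 M)) <
      ((n + 1 : ℕ) : WithBot ℕ∞) :=
    withBot_lt_of_add_one_le _ (n + 1) (by rw [hd1]; exact le_trans hd2 hdim)
  have h3 : Subsingleton (HH 𝔪
      (ModuleCat.smulShortComplex (ModuleCat.of R (M ⧸ DRing.torsionSub 𝔪 M)) x).X₃ (n + 1)) :=
    HH.subsingleton_of_supportDim_lt_finite 𝔪 (n + 1)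
      (QuotSMulTop x (M ⧸ DRing.torsionSub 𝔪 M)) hd3
  have hsurj := HH.map_f_surjective 𝔪 hS (n + 1) h3
  have hsurj' : ∀ w : HH 𝔪 (ModuleCat.of R (M ⧸ DRing.torsionSub 𝔪 M)) (n + 1),
      ∃ v : HH 𝔪 (ModuleCat.of R (M ⧸ DRing.torsionSub 𝔪 M)) (n + 1), w = x • v := by
    intro w
    obtain ⟨v, hv⟩ := hsurj w
    exact ⟨v, hv.symm.trans (HH.smul_eq_map 𝔪 (n + 1) x v).symm⟩
  have hpow : ∀ j : ℕ, ∀ z : HH 𝔪 (ModuleCat.of R (M ⧸ DRing.torsionSub 𝔪 M)) (n + 1),
      ∃ w : HH 𝔪 (ModuleCat.of R (M ⧸ DRing.torsionSub 𝔪 M)) (n + 1), z = x ^ j • w := by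
    intro j
    induction j with
    | zero => intro z; exact ⟨z, by rw [pow_zero, one_smul]⟩
    | succ j ih =>
      intro z
      obtain ⟨w, rfl⟩ := ih z
      obtain ⟨v, rfl⟩ := hsurj' w
      exact ⟨v, by rw [← mul_smul, ← pow_succ]⟩
  apply HH.subsingleton_of_forall_eq_zero
  intro z
  obtain ⟨w, rfl⟩ := hpow k z
  exact hk' _ (Ideal.pow_mem_pow hx𝔪 k) w

/-- **Grothendieck's non-vanishing theorem** (in terms of `HH`). -/
theorem nontrivial_top : ∀ (n : ℕ) (M : Type u) [AddCommGroup M] [Module R M] [Module.Finite R M],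
    Module.supportDim R M = (n : WithBot ℕ∞) →
      Nontrivial (HH (IsLocalRing.maximalIdeal R) (ModuleCat.of R M) n) := by
  intro n
  induction n with
  | zero =>
    intro M _ _ _ hdim
    set 𝔪 := IsLocalRing.maximalIdeal R with h𝔪
    by_contra hnt
    have hsub : Subsingleton (HH 𝔪 (ModuleCat.of R M) 0) := not_nontrivial_iff_subsingleton.1 hnt
    have htor : DRing.torsionSub 𝔪 M = ⊥ := (HH0_subsingleton_iff 𝔪 (ModuleCat.of R M)).1 hsub
    haveI : Nontrivial M := by
      rw [← Module.supportDim_ne_bot_iff_nontrivial R, hdim]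
      exact WithBot.coe_ne_bot
    obtain ⟨x, hx𝔪, hreg⟩ := exists_regular_of_torsionSub_eq_bot 𝔪 M htor
    have hd1 : Module.supportDim R (QuotSMulTop x M) + 1 = Module.supportDim R M :=
      Module.supportDim_quotSMulTop_succ_eq_supportDim hreg hx𝔪
    rw [hdim] at hd1
    exact withBot_add_one_ne_zero _ (by exact_mod_cast hd1)
  | succ n ih =>
    intro M _ _ _ hdim
    classical
    set 𝔪 := IsLocalRing.maximalIdeal R with h𝔪
    -- the quotient `M' = M / Γ_𝔪(M)` is nontrivial
    have hsub : ¬ Subsingleton (M ⧸ DRing.torsionSub 𝔪 M) := by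
      intro hsub
      have htop : DRing.torsionSub 𝔪 M = ⊤ := Submodule.Quotient.subsingleton_iff.1 hsub
      have h1 : Module.supportDim R M ≤ 0 :=
        supportDim_le_zero_of_torsion M (fun y => by rw [htop]; exact Submodule.mem_top)
      rw [hdim] at h1
      have h2 : ((n + 1 : ℕ) : WithBot ℕ∞) ≤ ((0 : ℕ) : WithBot ℕ∞) := by exact_mod_cast h1
      have h3 : n + 1 ≤ 0 := by exact_mod_cast h2
      omega
    haveI : Nontrivial (M ⧸ DRing.torsionSub 𝔪 M) := not_subsingleton_iff_nontrivial.1 hsub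
    have hdim' : Module.supportDim R (M ⧸ DRing.torsionSub 𝔪 M) = ((n + 1 : ℕ) : WithBot ℕ∞) := by
      rw [← hdim]
      unfold Module.supportDim
      rw [support_quot_torsion M]
    -- the Artinian module `N = H^n_𝔪(M')`
    haveI hArt : IsArtinian R (HH 𝔪 (ModuleCat.of R (M ⧸ DRing.torsionSub 𝔪 M)) n) :=
      HH.isArtinian_aux 𝔪 n (M ⧸ DRing.torsionSub 𝔪 M) (Or.inl rfl)
    -- the associated primes of `M'` are different from `𝔪`
    have hfin : (associatedPrimes R (M ⧸ DRing.torsionSub 𝔪 M)).Finite :=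
      associatedPrimes.finite R _
    have hP : ∀ q ∈ hfin.toFinset, q.IsPrime ∧ q ≠ 𝔪 := by
      intro q hq
      rw [Set.Finite.mem_toFinset] at hq
      obtain ⟨hqp, y, hy⟩ := isAssociatedPrime_iff.1 (AssociatedPrimes.mem_iff.1 hq)
      refine ⟨hqp, fun hqm => ?_⟩
      have hy0 : y ≠ 0 := by
        rintro rfl
        apply hqp.ne_top
        rw [hy, eq_top_iff]
        intro r _
        rw [Submodule.mem_colon_singleton, smul_zero]
        exact Submodule.zero_mem _
      have hyt : y ∈ DRing.torsionSub 𝔪 (M ⧸ DRing.torsionSub 𝔪 M) := by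
        refine ⟨1, fun a ha => ?_⟩
        rw [pow_one, ← hqm] at ha
        have h1 : a ∈ (⊥ : Submodule R (M ⧸ DRing.torsionSub 𝔪 M)).colon {y} := by
          rw [← hy]; exact ha
        rw [Submodule.mem_colon_singleton] at h1
        exact (Submodule.mem_bot R).1 h1
      rw [torsionSub_quotient_eq_bot 𝔪 M, Submodule.mem_bot] at hyt
      exact hy0 hyt
    obtain ⟨x, hx𝔪, hxP, k, hk⟩ :=
      Groth.Agent.Lib.Helper20.Secondary.exists_mem_maximalIdeal_pow_smul_le
        (N := HH 𝔪 (ModuleCat.of R (M ⧸ DRing.torsionSub 𝔪 M)) n)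
        (IsNoetherian.noetherian (IsLocalRing.maximalIdeal R)) hfin.toFinset hP
    -- `x` is `M'`-regular
    have hreg : IsSMulRegular (M ⧸ DRing.torsionSub 𝔪 M) x := by
      by_contra hnreg
      have h1 : x ∈ {r : R | IsSMulRegular (M ⧸ DRing.torsionSub 𝔪 M) r}ᶜ := hnreg
      rw [← biUnion_associatedPrimes_eq_compl_regular R (M ⧸ DRing.torsionSub 𝔪 M)] at h1
      obtain ⟨q, hq, hxq⟩ := Set.mem_iUnion₂.1 h1
      exact hxP q ((Set.Finite.mem_toFinset hfin).2 hq) hxq
    have hS := IsSMulRegular.smulShortComplex_shortExact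
      (M := ModuleCat.of R (M ⧸ DRing.torsionSub 𝔪 M)) hreg
    have hd1 : Module.supportDim R (QuotSMulTop x (M ⧸ DRing.torsionSub 𝔪 M)) + 1 =
        Module.supportDim R (M ⧸ DRing.torsionSub 𝔪 M) :=
      Module.supportDim_quotSMulTop_succ_eq_supportDim hreg hx𝔪
    rw [hdim'] at hd1
    have hd2 : Module.supportDim R (QuotSMulTop x (M ⧸ DRing.torsionSub 𝔪 M)) =
        (n : WithBot ℕ∞) := withBot_eq_of_add_one_eq _ n hd1
    have hL : Nontrivial (HH 𝔪
        (ModuleCat.smulShortComplex (ModuleCat.of R (M ⧸ DRing.torsionSub 𝔪 M)) x).X₃ n) :=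
      ih (QuotSMulTop x (M ⧸ DRing.torsionSub 𝔪 M)) hd2
    by_contra hnt
    have hsubM : Subsingleton (HH 𝔪 (ModuleCat.of R M) (n + 1)) :=
      not_nontrivial_iff_subsingleton.1 hnt
    have h1 : Subsingleton (HH 𝔪
        (ModuleCat.smulShortComplex (ModuleCat.of R (M ⧸ DRing.torsionSub 𝔪 M)) x).X₁ (n + 1)) :=
      (quotEquiv 𝔪 M n).symm.toEquiv.subsingleton
    have hgsurj := HH.map_g_surjective 𝔪 hS n h1
    apply not_subsingleton (HH 𝔪
        (ModuleCat.smulShortComplex (ModuleCat.of R (M ⧸ DRing.torsionSub 𝔪 M)) x).X₃ n)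
    cases n with
    | zero =>
      haveI : Subsingleton (HH 𝔪
          (ModuleCat.smulShortComplex (ModuleCat.of R (M ⧸ DRing.torsionSub 𝔪 M)) x).X₂ 0) :=
        subsingleton_HH_zero_quot 𝔪 M
      exact hgsurj.subsingleton
    | succ n' =>
      refine subsingleton_of_pow_smul_eq_zero n' (QuotSMulTop x (M ⧸ DRing.torsionSub 𝔪 M))
        (le_of_eq hd2) k ?_
      intro a ha l
      obtain ⟨z, rfl⟩ := hgsurj l
      obtain ⟨w, hw⟩ := hk a ha z
      have h2 : a • (HH.map 𝔪
          (ModuleCat.smulShortComplex (ModuleCat.of R (M ⧸ DRing.torsionSub 𝔪 M)) x).g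
            (n' + 1)) z = 0 := by
        rw [← map_smul]
        have h3 : a • z = HH.map 𝔪
            (ModuleCat.smulShortComplex (ModuleCat.of R (M ⧸ DRing.torsionSub 𝔪 M)) x).f
              (n' + 1) w := hw.trans (HH.smul_eq_map 𝔪 (n' + 1) x w)
        rw [h3]
        exact HH.map_g_map_f 𝔪 (S := ModuleCat.smulShortComplex
          (ModuleCat.of R (M ⧸ DRing.torsionSub 𝔪 M)) x) (n' + 1) w
      exact h2

end Groth.Agent.Lib.Helper20.LCNonVanish
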