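import Mathlib
import Groth.Agent.Lib.Helper4.LCBridge

/-!
# Minimal complexes of finite free modules over a local ring  (helper20)
-/

set_option autoImplicit false
set_option linter.unusedSectionVars false
set_option linter.unusedVariables false

universe u

open CategoryTheory Groth.Agent.Lib.Helper4.LCBridge.ModCx

namespace Groth.Agent.Lib.Helper20.MinCx

variable {A : Type u} [CommRing A] [IsLocalRing A]

section elementwise

variable {E F : ChainComplex (ModuleCat.{u} A) ℕ} (f : E ⟶ F)

lemma comm_apply (i j : ℕ) (x : E.X i) :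
    (F.d i j).hom ((f.f i).hom x) = (f.f j).hom ((E.d i j).hom x) := by
  have := congrArg (fun g => g.hom x) (f.comm i j)
  exact this

lemma d_d_apply (K : ChainComplex (ModuleCat.{u} A) ℕ) (i j k : ℕ) (x : K.X i) :
    (K.d j k).hom ((K.d i j).hom x) = 0 := by
  have := congrArg (fun g => g.hom x) (K.d_comp_d i j k)
  exact this

variable [QuasiIso f]

lemma homologyMap_bijective (n : ℕ) :
    Function.Bijective (HomologicalComplex.homologyMap f n).hom := by
  haveI : IsIso (HomologicalComplex.homologyMap f n) :=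
    (quasiIsoAt_iff_isIso_homologyMap f n).1 inferInstance
  exact ConcreteCategory.bijective_of_isIso (HomologicalComplex.homologyMap f n)

/-- injectivity on homology, elementwise. -/
lemma exists_of_map_boundary (n : ℕ) (z : E.X n) (hz : z ∈ Z E n)
    (y' : F.X (n + 1)) (hy' : (F.d (n + 1) n).hom y' = (f.f n).hom z) :
    ∃ y : E.X (n + 1), (E.d (n + 1) n).hom y = z := by
  have hprev : (ComplexShape.down ℕ).prev n = n + 1 := by simp
  have h1 : (HomologicalComplex.homologyMap f n).hom (cls E n ⟨z, hz⟩) = 0 := by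
    rw [homologyMap_cls]
    rw [cls_eq_zero_iff' F n (n + 1) hprev]
    exact ⟨y', hy'⟩
  have h2 : cls E n ⟨z, hz⟩ = 0 :=
    (homologyMap_bijective f n).1 (h1.trans (map_zero _).symm)
  rw [cls_eq_zero_iff' E n (n + 1) hprev] at h2
  exact h2

/-- surjectivity on homology, elementwise. -/
lemma exists_of_cycle (n : ℕ) (w : F.X n) (hw : w ∈ Z F n) :
    ∃ (z : E.X n) (_ : z ∈ Z E n) (y : F.X (n + 1)),
      w = (f.f n).hom z + (F.d (n + 1) n).hom y := by
  have hprev : (ComplexShape.down ℕ).prev n = n + 1 := by simp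
  obtain ⟨c, hc⟩ := (homologyMap_bijective f n).2 (cls F n ⟨w, hw⟩)
  obtain ⟨z, rfl⟩ := cls_surjective E n c
  rw [homologyMap_cls] at hc
  have h0 : cls F n (⟨w, hw⟩ - ⟨(f.f n).hom z.1, map_mem_Z n f z⟩) = 0 := by
    rw [map_sub, hc, sub_self]
  rw [cls_eq_zero_iff' F n (n + 1) hprev] at h0
  obtain ⟨y, hy⟩ := h0
  refine ⟨z.1, z.2, y, ?_⟩
  have : (F.d (n + 1) n).hom y = w - (f.f n).hom z.1 := hy
  rw [this]
  abel

end elementwise

/-- membership in cycles for a chain complex indexed by `ℕ`. -/
lemma mem_Z_succ (K : ChainComplex (ModuleCat.{u} A) ℕ) (n : ℕ) (z : K.X (n + 1)) :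
    z ∈ Z K (n + 1) ↔ (K.d (n + 1) n).hom z = 0 :=
  mem_Z_iff K (n + 1) n (by simp) z

lemma mem_Z_zero (K : ChainComplex (ModuleCat.{u} A) ℕ) (z : K.X 0) : z ∈ Z K 0 := by
  rw [mem_Z_iff K 0 0 (by simp) z]
  have : K.d 0 0 = 0 := K.shape 0 0 (by simp)
  rw [this]
  rfl

/-- A quasi-isomorphism of minimal complexes of finite projective modules over a local ring is
an isomorphism in each degree. -/
theorem bijective_of_quasiIso (E F : ChainComplex (ModuleCat.{u} A) ℕ)
    (hEfin : ∀ i, Module.Finite A (E.X i)) (hFfin : ∀ i, Module.Finite A (F.X i))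
    (hFproj : ∀ i, Module.Projective A (F.X i))
    (hEmin : ∀ i j, LinearMap.range (E.d i j).hom ≤
      IsLocalRing.maximalIdeal A • (⊤ : Submodule A (E.X j)))
    (hFmin : ∀ i j, LinearMap.range (F.d i j).hom ≤
      IsLocalRing.maximalIdeal A • (⊤ : Submodule A (F.X j)))
    (f : E ⟶ F) [QuasiIso f] (n : ℕ) : Function.Bijective (f.f n).hom := by
  have hjac : IsLocalRing.maximalIdeal A ≤ Ideal.jacobson ⊥ := by
    rw [IsLocalRing.jacobson_eq_maximalIdeal ⊥ bot_ne_top]
  induction n using Nat.strong_induction_on with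
  | _ n ih =>
  -- cycles condition transported
  have hZ : ∀ x : E.X n, (∀ j, j < n → ∀ y : E.X j, (f.f j).hom y = 0 → y = 0) →
      (∀ k, (F.d n k).hom ((f.f n).hom x) = 0) → x ∈ Z E n := by
    intro x hinj hx
    cases n with
    | zero => exact mem_Z_zero E x
    | succ m =>
      rw [mem_Z_succ]
      apply hinj m (Nat.lt_succ_self m)
      rw [← comm_apply, hx]
  have hinjlt : ∀ j, j < n → ∀ y : E.X j, (f.f j).hom y = 0 → y = 0 := by
    intro j hj y hy
    exact (ih j hj).1 (hy.trans (map_zero _).symm)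
  -- surjectivity modulo the maximal ideal
  have hsurjmod : ∀ y : F.X n, ∃ x : E.X n,
      y - (f.f n).hom x ∈ IsLocalRing.maximalIdeal A • (⊤ : Submodule A (F.X n)) := by
    intro y
    cases n with
    | zero =>
      obtain ⟨z, -, w, hw⟩ := exists_of_cycle f 0 y (mem_Z_zero F y)
      refine ⟨z, ?_⟩
      rw [hw, add_sub_cancel_left]
      exact hFmin 1 0 ⟨w, rfl⟩
    | succ m =>
      obtain ⟨x', hx'⟩ := (ih m (Nat.lt_succ_self m)).2 ((F.d (m + 1) m).hom y)
      have hx'Z : x' ∈ Z E m := by
        cases m with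
        | zero => exact mem_Z_zero E x'
        | succ l =>
          rw [mem_Z_succ]
          apply (ih l (by omega)).1
          rw [← comm_apply, hx', d_d_apply, map_zero]
      obtain ⟨x, hx⟩ := exists_of_map_boundary f m x' hx'Z y hx'.symm
      have hcyc : y - (f.f (m + 1)).hom x ∈ Z F (m + 1) := by
        rw [mem_Z_succ, map_sub, comm_apply, hx, hx', sub_self]
      obtain ⟨z, -, w, hw⟩ := exists_of_cycle f (m + 1) _ hcyc
      refine ⟨x + z, ?_⟩
      have : y - (f.f (m + 1)).hom (x + z) = (F.d (m + 1 + 1) (m + 1)).hom w := by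
        rw [map_add, ← sub_sub, hw, add_sub_cancel_left]
      rw [this]
      exact hFmin _ _ ⟨w, rfl⟩
  -- surjectivity by Nakayama
  haveI := hFfin n
  haveI := hEfin n
  have hsurj : Function.Surjective (f.f n).hom := by
    rw [← LinearMap.range_eq_top, eq_top_iff]
    apply Submodule.le_of_le_smul_of_le_jacobson_bot Module.Finite.fg_top hjac
    intro y _
    obtain ⟨x, hx⟩ := hsurjmod y
    have : y = (f.f n).hom x + (y - (f.f n).hom x) := by abel
    rw [this]
    exact Submodule.add_mem_sup ⟨x, rfl⟩ hx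
  refine ⟨?_, hsurj⟩
  -- kernel inside the maximal ideal times the module
  have hker : LinearMap.ker (f.f n).hom ≤
      IsLocalRing.maximalIdeal A • (⊤ : Submodule A (E.X n)) := by
    intro x hx
    rw [LinearMap.mem_ker] at hx
    have hxZ : x ∈ Z E n := hZ x hinjlt (fun k => by rw [hx, map_zero])
    obtain ⟨y, hy⟩ := exists_of_map_boundary f n x hxZ 0 (by rw [map_zero, hx])
    rw [← hy]
    exact hEmin _ _ ⟨y, rfl⟩
  -- split
  haveI := hFproj n
  obtain ⟨s, hs⟩ := Module.projective_lifting_property (f.f n).hom LinearMap.id hsurj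
  let π : E.X n →ₗ[A] E.X n := LinearMap.id - s ∘ₗ (f.f n).hom
  have hπker : ∀ x, π x ∈ LinearMap.ker (f.f n).hom := by
    intro x
    rw [LinearMap.mem_ker]
    change (f.f n).hom (x - s ((f.f n).hom x)) = 0
    rw [map_sub]
    have := congrArg (fun g => g ((f.f n).hom x)) hs
    change (f.f n).hom (s ((f.f n).hom x)) = (f.f n).hom x at this
    rw [this, sub_self]
  have hπid : ∀ x ∈ LinearMap.ker (f.f n).hom, π x = x := by
    intro x hx
    rw [LinearMap.mem_ker] at hx
    change x - s ((f.f n).hom x) = x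
    rw [hx, map_zero, sub_zero]
  have hKle : LinearMap.ker (f.f n).hom ≤
      IsLocalRing.maximalIdeal A • LinearMap.ker (f.f n).hom := by
    intro x hx
    have h1 : x ∈ IsLocalRing.maximalIdeal A • (⊤ : Submodule A (E.X n)) := hker hx
    have h2 : π x ∈ (IsLocalRing.maximalIdeal A • (⊤ : Submodule A (E.X n))).map π :=
      Submodule.mem_map_of_mem h1
    rw [Submodule.map_smul'', hπid x hx] at h2
    refine Submodule.smul_mono le_rfl ?_ h2
    rintro _ ⟨y, -, rfl⟩
    exact hπker y
  have hKfg : (LinearMap.ker (f.f n).hom).FG := by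
    have : LinearMap.ker (f.f n).hom = LinearMap.range π := by
      apply le_antisymm
      · intro x hx
        exact ⟨x, hπid x hx⟩
      · rintro _ ⟨y, rfl⟩
        exact hπker y
    rw [this, LinearMap.range_eq_map]
    exact Submodule.FG.map π Module.Finite.fg_top
  have hK0 := Submodule.eq_bot_of_le_smul_of_le_jacobson_bot _ _ hKfg hKle hjac
  exact LinearMap.ker_eq_bot.1 hK0

end Groth.Agent.Lib.Helper20.MinCx
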