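import Mathlib
import Groth.Agent.Lib.Helper4.LCBridge
import Groth.Agent.Lib.Helper4.Depth
import Groth.Agent.Lib.Helper4.Depth2
import Groth.Agent.Lib.Helper20.MinCx

/-!
# Minimal complexes: nonvanishing of homology in the top `depth + 1` degrees  (helper20)
-/

set_option autoImplicit false
set_option linter.unusedSectionVars false
set_option linter.unusedVariables false

universe u

open CategoryTheory RingTheory.Sequence Groth.Agent.Lib.Helper4.LCBridge.ModCx
  Groth.Agent.Lib.Helper4

namespace Groth.Agent.Lib.Helper20.MinCx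

section basis

variable {A : Type u} [CommRing A] {G : Type u} [AddCommGroup G] [Module A G]

lemma mem_smul_top_iff_repr {ι : Type*} (b : Module.Basis ι A G) (J : Ideal A) (y : G) :
    y ∈ J • (⊤ : Submodule A G) ↔ ∀ i, b.repr y i ∈ J := by
  rw [← b.span_eq, Submodule.mem_ideal_smul_span_iff_exists_sum]
  constructor
  · rintro ⟨a, ha, rfl⟩ i
    have : b.repr (a.sum fun i c => c • b i) = a := by
      rw [← Finsupp.linearCombination_apply, b.repr_linearCombination]
    rw [this]
    exact ha i
  · intro h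
    exact ⟨b.repr y, h, by rw [← Finsupp.linearCombination_apply, b.linearCombination_repr]⟩

/-- an element regular on `A/J` is regular on `G/JG` for free `G`. -/
lemma mem_smul_top_of_smul_mem [Module.Free A G] (J : Ideal A) (x : A)
    (hx : IsSMulRegular (A ⧸ (J • (⊤ : Submodule A A))) x) (y : G)
    (hy : x • y ∈ J • (⊤ : Submodule A G)) : y ∈ J • (⊤ : Submodule A G) := by
  let b := Module.Free.chooseBasis A G
  rw [mem_smul_top_iff_repr b] at hy ⊢
  intro i
  have h1 := hy i
  rw [map_smul, Finsupp.smul_apply, smul_eq_mul] at h1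
  have hJ : J • (⊤ : Submodule A A) = J := by
    rw [smul_eq_mul, Ideal.mul_top]
  have h2 : x • (Submodule.Quotient.mk (b.repr y i) : A ⧸ (J • (⊤ : Submodule A A))) = 0 := by
    rw [← Submodule.Quotient.mk_smul, Submodule.Quotient.mk_eq_zero, hJ, smul_eq_mul]
    exact h1
  have h3 := hx (h2.trans (smul_zero x).symm)
  rw [Submodule.Quotient.mk_eq_zero, hJ] at h3
  exact h3

end basis

variable {A : Type u} [CommRing A] [IsNoetherianRing A] [IsLocalRing A]
  (F : ChainComplex (ModuleCat.{u} A) ℕ)

/-- nonvanishing of the homology of `F/JF` in degree `i`, elementwise. -/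
def NZ (J : Ideal A) (i : ℕ) : Prop :=
  ∃ z : F.X i, (∀ j, (F.d i j).hom z ∈ J • (⊤ : Submodule A (F.X j))) ∧
    z ∉ LinearMap.range (F.d (i + 1) i).hom ⊔ J • (⊤ : Submodule A (F.X i))

lemma map_mem_smul_top {G G' : Type u} [AddCommGroup G] [Module A G] [AddCommGroup G']
    [Module A G'] (φ : G →ₗ[A] G') (J : Ideal A) {y : G} (hy : y ∈ J • (⊤ : Submodule A G)) :
    φ y ∈ J • (⊤ : Submodule A G') := by
  have h := Submodule.mem_map_of_mem (f := φ) hy
  rw [Submodule.map_smul''] at h
  exact Submodule.smul_mono le_rfl le_top h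

/-- the inductive step: passing from `J' + (x)` to `J'`. -/
lemma NZ_step (hfree : ∀ i, Module.Free A (F.X i)) (J' : Ideal A) (x : A)
    (hx : IsSMulRegular (A ⧸ (J' • (⊤ : Submodule A A))) x) (i : ℕ)
    (h : NZ F (J' ⊔ Ideal.span {x}) i) : NZ F J' i ∨ (1 ≤ i ∧ NZ F J' (i - 1)) := by
  obtain ⟨z, hz, hzn⟩ := h
  have hle : ∀ j, J' • (⊤ : Submodule A (F.X j)) ≤ (J' ⊔ Ideal.span {x}) • ⊤ :=
    fun j => Submodule.smul_mono le_sup_left le_rfl
  cases i with
  | zero =>
    left
    refine ⟨z, fun j => ?_, fun hcon => hzn ?_⟩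
    · have : F.d 0 j = 0 := F.shape 0 j (by simp)
      rw [this]
      exact Submodule.zero_mem _
    · exact sup_le_sup_left (hle 0) _ hcon
  | succ i' =>
    by_cases h1 : NZ F J' i'
    · exact Or.inr ⟨by omega, h1⟩
    left
    -- decompose d z
    have hdz := hz i'
    rw [Submodule.sup_smul, Submodule.mem_sup] at hdz
    obtain ⟨j', hj', xw, hxw, hsum⟩ := hdz
    rw [Submodule.ideal_span_singleton_smul] at hxw
    obtain ⟨w, -, rfl⟩ := (Submodule.mem_smul_pointwise_iff_exists _ _ _).1 hxw
    -- w is a cycle mod J'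
    have hwcyc : ∀ j, (F.d i' j).hom w ∈ J' • (⊤ : Submodule A (F.X j)) := by
      intro j
      apply mem_smul_top_of_smul_mem J' x hx
      have h2 : x • (F.d i' j).hom w = - (F.d i' j).hom j' := by
        have h3 : (F.d i' j).hom ((F.d (i' + 1) i').hom z) = 0 := d_d_apply F _ _ _ z
        rw [← hsum, map_add, map_smul] at h3
        exact eq_neg_of_add_eq_zero_right h3
      rw [h2]
      exact Submodule.neg_mem _ (map_mem_smul_top _ J' hj')
    have hw : w ∈ LinearMap.range (F.d (i' + 1) i').hom ⊔ J' • (⊤ : Submodule A (F.X i')) := by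
      by_contra hcon
      exact h1 ⟨w, hwcyc, hcon⟩
    obtain ⟨du, ⟨u, rfl⟩, j'', hj'', hwsum⟩ := Submodule.mem_sup.1 hw
    refine ⟨z - x • u, fun j => ?_, fun hcon => hzn ?_⟩
    · by_cases hj : j = i'
      · subst hj
        have : (F.d (j + 1) j).hom (z - x • u) = j' + x • j'' := by
          rw [map_sub, map_smul, ← hsum, ← hwsum, smul_add]
          abel
        rw [this]
        exact Submodule.add_mem _ hj' (Submodule.smul_mem _ x hj'')
      · have : F.d (i' + 1) j = 0 := F.shape _ _ (by simp; omega)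
        rw [this]
        exact Submodule.zero_mem _
    · obtain ⟨dv, hdv, j3, hj3, hs3⟩ := Submodule.mem_sup.1 hcon
      have hz' : z = dv + (j3 + x • u) := by
        rw [← add_assoc, hs3]; abel
      rw [hz']
      refine Submodule.add_mem_sup hdv (Submodule.add_mem _ (hle _ hj3) ?_)
      exact Submodule.smul_mem_smul (Submodule.mem_sup_right (Ideal.mem_span_singleton_self x))
        Submodule.mem_top


/-- a maximal regular sequence in the maximal ideal, with a socle element of the quotient. -/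
lemma exists_socle_elt (d : ℕ) (hd : LocCoh.depth A A = d) :
    ∃ rs : List A, rs.length = d ∧ IsWeaklyRegular A rs ∧
      ∃ a : A, a ∉ Ideal.ofList rs ∧ ∀ x ∈ IsLocalRing.maximalIdeal A, x * a ∈ Ideal.ofList rs := by
  have hmA : IsLocalRing.maximalIdeal A • (⊤ : Submodule A A) ≠ ⊤ := maximalIdeal_smul_top_ne_top
  obtain ⟨rs, hlen, hmem, hreg⟩ :=
    exists_isWeaklyRegular_of_le_idealDepth (IsLocalRing.maximalIdeal A) hmA d hd.ge
  refine ⟨rs, hlen, hreg, ?_⟩
  have hJm : Ideal.ofList rs ≤ IsLocalRing.maximalIdeal A := by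
    rw [Ideal.ofList, Ideal.span_le]
    intro r hr
    exact hmem r hr
  have hJ : Ideal.ofList rs • (⊤ : Submodule A A) = Ideal.ofList rs := by
    rw [smul_eq_mul, Ideal.mul_top]
  have hlt : Ideal.ofList rs • (⊤ : Submodule A A) < ⊤ := by
    rw [hJ]
    exact lt_of_le_of_lt hJm (lt_top_iff_ne_top.2 (IsLocalRing.maximalIdeal.isMaximal A).ne_top)
  haveI : Nontrivial (A ⧸ Ideal.ofList rs • (⊤ : Submodule A A)) :=
    Submodule.Quotient.nontrivial_iff.2 hlt.ne
  have hno : ∀ x ∈ IsLocalRing.maximalIdeal A,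
      ¬ IsSMulRegular (A ⧸ Ideal.ofList rs • (⊤ : Submodule A A)) x := by
    intro x hx hxreg
    have h1 : IsWeaklyRegular A (rs ++ [x]) := by
      rw [isWeaklyRegular_append_iff]
      exact ⟨hreg, (isWeaklyRegular_singleton_iff _ x).mpr hxreg⟩
    have h2 := length_le_idealDepth (IsLocalRing.maximalIdeal A) (rs ++ [x]) h1 (by
      intro r hr
      rcases List.mem_append.1 hr with h | h
      · exact hmem r h
      · rw [List.mem_singleton] at h; rw [h]; exact hx)
    have h3 : LocCoh.idealDepth (IsLocalRing.maximalIdeal A) A = d := hd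
    rw [h3, List.length_append, hlen, List.length_singleton] at h2
    have : d + 1 ≤ d := by exact_mod_cast h2
    omega
  obtain ⟨p, hp, hmp⟩ := (forall_not_isSMulRegular_iff_exists_le_associatedPrime
    (M := A ⧸ Ideal.ofList rs • (⊤ : Submodule A A)) (IsLocalRing.maximalIdeal A)).1 hno
  obtain ⟨hpprime, q, hq⟩ := isAssociatedPrime_iff.1 hp
  obtain ⟨a, rfl⟩ := Submodule.Quotient.mk_surjective _ q
  refine ⟨a, fun ha => ?_, fun x hx => ?_⟩
  · apply hpprime.ne_top
    rw [hq, Ideal.eq_top_iff_one, Submodule.mem_colon_singleton, one_smul, Submodule.mem_bot,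
      Submodule.Quotient.mk_eq_zero, hJ]
    exact ha
  · have h1 : x ∈ p := hmp hx
    rw [hq, Submodule.mem_colon_singleton, Submodule.mem_bot, ← Submodule.Quotient.mk_smul,
      Submodule.Quotient.mk_eq_zero, hJ] at h1
    exact h1

lemma smul_mem_smul_top_of_socle {G : Type u} [AddCommGroup G] [Module A G] (J : Ideal A) (a : A)
    (ha : ∀ x ∈ IsLocalRing.maximalIdeal A, x * a ∈ J) (y : G)
    (hy : y ∈ IsLocalRing.maximalIdeal A • (⊤ : Submodule A G)) :
    a • y ∈ J • (⊤ : Submodule A G) := by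
  refine Submodule.smul_induction_on (p := fun y => a • y ∈ J • (⊤ : Submodule A G)) hy ?_ ?_
  · intro r hr n hn
    rw [smul_smul, mul_comm]
    exact Submodule.smul_mem_smul (ha r hr) Submodule.mem_top
  · intro x y hx hy
    rw [smul_add]
    exact Submodule.add_mem _ hx hy

/-- the base case: the top module contributes a nonzero class modulo a maximal regular sequence. -/
lemma NZ_top (k : ℕ) (hbd : Limits.IsZero (F.X (k + 1))) (htop : ¬ Limits.IsZero (F.X k))
    (hfree : Module.Free A (F.X k))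
    (hmin : ∀ j, LinearMap.range (F.d k j).hom ≤
      IsLocalRing.maximalIdeal A • (⊤ : Submodule A (F.X j)))
    (J : Ideal A) (a : A) (haJ : a ∉ J) (ha : ∀ x ∈ IsLocalRing.maximalIdeal A, x * a ∈ J) :
    NZ F J k := by
  let b := Module.Free.chooseBasis A (F.X k)
  have hne : Nontrivial (F.X k) := by
    rw [ModuleCat.isZero_iff_subsingleton] at htop
    exact not_subsingleton_iff_nontrivial.1 htop
  have hι : Nonempty (Module.Free.ChooseBasisIndex A (F.X k)) := by
    by_contra hcon
    rw [not_nonempty_iff] at hcon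
    have : Subsingleton (F.X k) := b.repr.toEquiv.subsingleton
    exact not_subsingleton _ this
  obtain ⟨i0⟩ := hι
  refine ⟨a • b i0, fun j => ?_, fun hcon => ?_⟩
  · rw [map_smul]
    exact smul_mem_smul_top_of_socle J a ha _ (hmin j ⟨_, rfl⟩)
  · have hsub : Subsingleton (F.X (k + 1)) := (ModuleCat.isZero_iff_subsingleton).1 hbd
    have hr : LinearMap.range (F.d (k + 1) k).hom = ⊥ := by
      rw [eq_bot_iff]
      rintro _ ⟨w, rfl⟩
      rw [Subsingleton.elim w 0, map_zero]
      exact Submodule.zero_mem _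
    rw [hr, bot_sup_eq, mem_smul_top_iff_repr b] at hcon
    have := hcon i0
    rw [map_smul, b.repr_self, Finsupp.smul_apply, Finsupp.single_eq_same, smul_eq_mul,
      mul_one] at this
    exact haJ this

/-- `NZ F ⊥ i` gives nonzero homology. -/
lemma not_isZero_homology_of_NZ_bot (i : ℕ) (h : NZ F ⊥ i) : ¬ Limits.IsZero (F.homology i) := by
  obtain ⟨z, hz, hzn⟩ := h
  have hbot : ∀ j, (⊥ : Ideal A) • (⊤ : Submodule A (F.X j)) = ⊥ := fun j => Submodule.bot_smul _
  have hzZ : z ∈ Z F i := by
    cases i with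
    | zero => exact mem_Z_zero F z
    | succ n =>
      rw [mem_Z_succ]
      have := hz n
      rw [hbot, Submodule.mem_bot] at this
      exact this
  intro hzero
  rw [ModuleCat.isZero_iff_subsingleton] at hzero
  have h0 : cls F i ⟨z, hzZ⟩ = 0 := Subsingleton.elim _ _
  rw [cls_eq_zero_iff' F i (i + 1) (by simp)] at h0
  apply hzn
  rw [hbot, sup_bot_eq]
  exact h0

/-- **Nonvanishing of homology of a minimal complex in the window `[k - depth, k]`.** -/
theorem exists_homology_ne_zero (k : ℕ)
    (hbd : ∀ i, k < i → Limits.IsZero (F.X i)) (htop : ¬ Limits.IsZero (F.X k))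
    (hfree : ∀ i, Module.Free A (F.X i))
    (hmin : ∀ i j, LinearMap.range (F.d i j).hom ≤
      IsLocalRing.maximalIdeal A • (⊤ : Submodule A (F.X j)))
    (d : ℕ) (hd : LocCoh.depth A A = d) :
    ∃ i, k - d ≤ i ∧ i ≤ k ∧ ¬ Limits.IsZero (F.homology i) := by
  obtain ⟨rs, hlen, hreg, a, haJ, ha⟩ := exists_socle_elt (A := A) d hd
  have hbase : NZ F (Ideal.ofList rs) k :=
    NZ_top F k (hbd _ (Nat.lt_succ_self k)) htop (hfree k) (hmin k) _ a haJ ha
  have key : ∀ t, t ≤ d → ∃ i, k - t ≤ i ∧ i ≤ k ∧ NZ F (Ideal.ofList (rs.take (d - t))) i := by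
    intro t
    induction t with
    | zero =>
      intro _
      refine ⟨k, by omega, le_rfl, ?_⟩
      rw [Nat.sub_zero, ← hlen, List.take_length]
      exact hbase
    | succ t ih =>
      intro ht
      obtain ⟨i, hi1, hi2, hNZ⟩ := ih (by omega)
      have hr : d - t = (d - (t + 1)) + 1 := by omega
      have hlt : d - (t + 1) < rs.length := by omega
      rw [hr, List.take_succ_eq_append_getElem hlt, Ideal.ofList_append,
        Ideal.ofList_singleton] at hNZ
      have hx := (isWeaklyRegular_iff A rs).1 hreg (d - (t + 1)) hlt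
      rcases NZ_step F hfree _ _ hx i hNZ with h | ⟨h1, h⟩
      · exact ⟨i, by omega, hi2, h⟩
      · exact ⟨i - 1, by omega, by omega, h⟩
  obtain ⟨i, hi1, hi2, hNZ⟩ := key d le_rfl
  rw [Nat.sub_self, List.take_zero, Ideal.ofList_nil] at hNZ
  exact ⟨i, hi1, hi2, not_isZero_homology_of_NZ_bot F i hNZ⟩

end Groth.Agent.Lib.Helper20.MinCx
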