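import Mathlib
import Groth.Agent.Lib.Helper4.LC3
import Groth.Agent.Lib.Helper4.Depth2
import Groth.Agent.Lib.Helper4.CM
import Groth.Agent.Lib.Helper4.Ischebeck
import Groth.Agent.Lib.Helper9.BassLemma
import Groth.Agent.Lib.Helper20.MinCx2
import Groth.Agent.Lib.Helper20.LCNonVanish

/-!
# Bass: finite injective dimension forces `Ext^i(k, L) = 0` above `depth A`; Gorenstein ⇒ CM
(helper20)
-/

set_option autoImplicit false
set_option linter.unusedSectionVars false
set_option linter.unusedVariables false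

universe u

open CategoryTheory Abelian RingTheory.Sequence Groth.Agent.Lib.Helper4 Groth.Agent.Lib.Helper4.LC

namespace Groth.Agent.Lib.Helper20.GorCM

variable {A : Type u} [CommRing A] [IsNoetherianRing A] [IsLocalRing A]

/-- the residue field as an object. -/
abbrev kk (A : Type u) [CommRing A] [IsLocalRing A] : ModuleCat.{u} A :=
  ModuleCat.of A (A ⧸ IsLocalRing.maximalIdeal A)

/-- a maximal regular sequence in the maximal ideal with a socle element. -/
lemma exists_socle_elt' (d : ℕ) (hd : LocCoh.depth A A = d) :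
    ∃ rs : List A, rs.length = d ∧ (∀ r ∈ rs, r ∈ IsLocalRing.maximalIdeal A) ∧
      IsWeaklyRegular A rs ∧
      ∃ a : A, a ∉ Ideal.ofList rs ∧ ∀ x ∈ IsLocalRing.maximalIdeal A, x * a ∈ Ideal.ofList rs := by
  obtain ⟨rs, hlen, hreg, a, ha, hma⟩ := MinCx.exists_socle_elt (A := A) d hd
  refine ⟨rs, hlen, fun r hr => ?_, hreg, a, ha, hma⟩
  by_contra hrm
  have hu : IsUnit r := by
    by_contra hnu
    exact hrm ((IsLocalRing.mem_maximalIdeal r).2 hnu)
  apply ha
  have : Ideal.ofList rs = ⊤ :=
    Ideal.eq_top_of_isUnit_mem _ (Ideal.subset_span hr) hu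
  rw [this]
  trivial

/-- the embedding `k → A/(rs)` given by a socle element. -/
noncomputable def socleMap (J : Ideal A) (a : A)
    (hma : ∀ x ∈ IsLocalRing.maximalIdeal A, x * a ∈ J) :
    (A ⧸ IsLocalRing.maximalIdeal A) →ₗ[A] (A ⧸ (J • (⊤ : Submodule A A))) :=
  Submodule.liftQ _ (LinearMap.toSpanSingleton A (A ⧸ (J • (⊤ : Submodule A A)))
    (Submodule.Quotient.mk a)) (by
      intro x hx
      rw [LinearMap.mem_ker, LinearMap.toSpanSingleton_apply, ← Submodule.Quotient.mk_smul,
        Submodule.Quotient.mk_eq_zero, smul_eq_mul, Ideal.mul_top]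
      exact hma x hx)

lemma socleMap_mk (J : Ideal A) (a : A)
    (hma : ∀ x ∈ IsLocalRing.maximalIdeal A, x * a ∈ J) (y : A) :
    socleMap J a hma (Submodule.Quotient.mk y) = Submodule.Quotient.mk (y * a) := rfl

lemma socleMap_injective (J : Ideal A) (a : A) (ha : a ∉ J)
    (hma : ∀ x ∈ IsLocalRing.maximalIdeal A, x * a ∈ J) :
    Function.Injective (socleMap J a hma) := by
  rw [injective_iff_map_eq_zero]
  intro x hx
  obtain ⟨y, rfl⟩ := Submodule.Quotient.mk_surjective _ x
  rw [socleMap_mk, Submodule.Quotient.mk_eq_zero, smul_eq_mul, Ideal.mul_top] at hx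
  rw [Submodule.Quotient.mk_eq_zero]
  by_contra hym
  have hu : IsUnit y := by
    by_contra hnu
    exact hym ((IsLocalRing.mem_maximalIdeal y).2 hnu)
  obtain ⟨u, rfl⟩ := hu
  apply ha
  have := J.mul_mem_left (↑u⁻¹ : A) hx
  rwa [← mul_assoc, Units.inv_mul, one_mul] at this

/-- `Ext^i(A/(rs), L) = 0` above the length of a regular sequence. -/
lemma subsingleton_ext_quot_ofList (rs : List A) (hreg : IsWeaklyRegular A rs)
    (hmem : ∀ r ∈ rs, r ∈ IsLocalRing.maximalIdeal A) (L : ModuleCat.{u} A) (i : ℕ)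
    (hi : rs.length < i) :
    Subsingleton (Ext (ModuleCat.of A (A ⧸ (Ideal.ofList rs • (⊤ : Submodule A A)))) L i) := by
  haveI : Nontrivial (ModuleCat.of A A) := inferInstanceAs (Nontrivial A)
  haveI : Module.Finite A (ModuleCat.of A A) := inferInstanceAs (Module.Finite A A)
  haveI : Projective (ModuleCat.of A A) := ModuleCat.projective_of_free (Module.Basis.singleton Unit A)
  have h1 := ModuleCat.projectiveDimension_quotient_eq_add_length_of_isWeaklyRegular
    (ModuleCat.of A A) rs hreg hmem
  rw [ModuleCat.projectiveDimension_eq_zero_of_projective (ModuleCat.of A A), zero_add] at h1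
  have h2 : HasProjectiveDimensionLE
      (ModuleCat.of A (A ⧸ (Ideal.ofList rs • (⊤ : Submodule A A)))) rs.length :=
    (projectiveDimension_le_iff _ _).1 (le_of_eq h1)
  exact HasProjectiveDimensionLT.subsingleton _ (rs.length + 1) i (by omega) L

/-- the inductive step. -/
lemma subsingleton_ext_kk_step (L : ModuleCat.{u} A) [Module.Finite A L] (t : ℕ)
    (ht : LocCoh.depth A A = t) (j : ℕ) (hj : t < j)
    (hP : ∀ i, j < i → Subsingleton (Ext (kk A) L i)) : Subsingleton (Ext (kk A) L j) := by
  obtain ⟨rs, hlen, hmem, hreg, a, ha, hma⟩ := exists_socle_elt' (A := A) t ht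
  -- the short exact sequence `0 → k → A/(rs) → C → 0`
  let f := socleMap (Ideal.ofList rs) a hma
  have hf : Function.Injective f := socleMap_injective _ a ha hma
  let g := (LinearMap.range f).mkQ
  have hfg : Function.Exact f g := LinearMap.exact_map_mkQ_range f
  have hS := sesOf_shortExact f g hfg hf (Submodule.mkQ_surjective _)
  -- vanishing for all finite modules above `j`
  have hall : ∀ (N : Type u) [AddCommGroup N] [Module A N] [Module.Finite A N] (i : ℕ), j < i →
      Subsingleton (Ext (ModuleCat.of A N) L i) := by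
    intro N _ _ _ i hi
    have hdim : Module.supportDim A N ≤
        (((IsLocalRing.maximalIdeal A).spanFinrank : ℕ) : WithBot ℕ∞) :=
      (Module.supportDim_le_ringKrullDim A N).trans (ringKrullDim_le_spanFinrank_maximalIdeal A)
    exact Groth.Agent.Lib.Helper9.bass_aux L j hP _ N hdim i hi
  refine ⟨fun x y => ?_⟩
  have key : ∀ x : Ext (kk A) L j, x = 0 := by
    intro x
    haveI h3 : Subsingleton (Ext (sesOf f g hfg).X₃ L (1 + j)) :=
      hall (_ ⧸ LinearMap.range f) (1 + j) (by omega)
    obtain ⟨x₂, hx₂⟩ := Ext.contravariant_sequence_exact₁ hS L x rfl (Subsingleton.elim _ _)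
    haveI h2 : Subsingleton (Ext (sesOf f g hfg).X₂ L j) :=
      subsingleton_ext_quot_ofList rs hreg hmem L j (by omega)
    rw [← hx₂, Subsingleton.elim x₂ 0, Ext.comp_zero]
  rw [key x, key y]

/-- **Bass**: if `Ext^i(k, L)` vanishes for large `i`, it vanishes for all `i > depth A`. -/
theorem subsingleton_ext_kk_of_gt_depth (L : ModuleCat.{u} A) [Module.Finite A L] (t : ℕ)
    (ht : LocCoh.depth A A = t) (N₀ : ℕ)
    (hN : ∀ i, N₀ ≤ i → Subsingleton (Ext (kk A) L i)) :
    ∀ i, t < i → Subsingleton (Ext (kk A) L i) := by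
  have key : ∀ c j, t < j → N₀ ≤ j + c → ∀ i, j ≤ i → Subsingleton (Ext (kk A) L i) := by
    intro c
    induction c with
    | zero =>
      intro j _ hj i hi
      exact hN i (by omega)
    | succ c ih =>
      intro j hj hjc i hi
      rcases Nat.eq_or_lt_of_le hi with rfl | hlt
      · exact subsingleton_ext_kk_step L t ht j hj
          (fun i' hi' => ih (j + 1) (by omega) (by omega) i' (by omega))
      · exact ih (j + 1) (by omega) (by omega) i (by omega)
  intro i hi
  exact key N₀ i hi (by omega) i le_rfl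


/-! ### The dimension bound -/

/-- filtration by prime quotients with primes strictly above `p`. -/
lemma subsingleton_ext_of_support (L : ModuleCat.{u} A) (j : ℕ) (p : PrimeSpectrum A)
    (h : ∀ q : PrimeSpectrum A, p < q → Subsingleton (Ext (ModuleCat.of A (A ⧸ q.asIdeal)) L j))
    (N : Type u) [AddCommGroup N] [Module A N] [hfin : Module.Finite A N] :
    (∀ q ∈ Module.support A N, p < q) → Subsingleton (Ext (ModuleCat.of A N) L j) := by
  induction hfin using IsNoetherianRing.induction_on_isQuotientEquivQuotientPrime A with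
  | subsingleton N =>
    intro _
    exact subsingleton_ext_of_subsingleton_left _ _ j
  | quotient N q e =>
    intro hs
    have hq : q ∈ Module.support A N := by
      rw [e.support_eq, Module.support_eq_zeroLocus, Ideal.annihilator_quotient,
        PrimeSpectrum.mem_zeroLocus]
    refine subsingleton_ext_of_iso_left (e.symm.toModuleIso) j ?_
    exact h q (hs q hq)
  | exact N₁ N₂ N₃ f g hf hg hfg h₁ h₃ =>
    intro hs
    have hsupp := Module.support_of_exact hfg hf hg
    have hS := sesOf_shortExact f g hfg hf hg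
    exact subsingleton_ext_left_X₂ hS L j
      (h₁ fun q hq => hs q (by rw [hsupp]; exact Or.inl hq))
      (h₃ fun q hq => hs q (by rw [hsupp]; exact Or.inr hq))

/-- Matsumura's lemma. -/
lemma subsingleton_ext_prime_of_forall_gt (L : ModuleCat.{u} A) [Module.Finite A L]
    (p : PrimeSpectrum A) (hp : p.asIdeal ≠ IsLocalRing.maximalIdeal A) (i : ℕ)
    (h : ∀ q : PrimeSpectrum A, p < q →
      Subsingleton (Ext (ModuleCat.of A (A ⧸ q.asIdeal)) L (i + 1))) :
    Subsingleton (Ext (ModuleCat.of A (A ⧸ p.asIdeal)) L i) := by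
  have hpp : p.asIdeal.IsPrime := p.2
  have hlt : p.asIdeal < IsLocalRing.maximalIdeal A :=
    lt_of_le_of_ne (IsLocalRing.le_maximalIdeal hpp.ne_top) hp
  obtain ⟨x, hxm, hxp⟩ := SetLike.exists_of_lt hlt
  have reg : IsSMulRegular (A ⧸ p.asIdeal) x := by
    intro a b hab
    change x • a = x • b at hab
    rw [Algebra.smul_def, Algebra.smul_def] at hab
    refine mul_left_cancel₀ ?_ hab
    rw [Ideal.Quotient.algebraMap_eq, Ne, Ideal.Quotient.eq_zero_iff_mem]
    exact hxp
  haveI hfinN : Module.Finite A (ModuleCat.of A (A ⧸ p.asIdeal)) :=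
    inferInstanceAs (Module.Finite A (A ⧸ p.asIdeal))
  refine subsingleton_ext_of_quotSMulTop (ModuleCat.of A (A ⧸ p.asIdeal)) L x hxm reg i ?_
  apply subsingleton_ext_of_support L (i + 1) p h (QuotSMulTop x (A ⧸ p.asIdeal))
  intro q hq
  rw [Module.support_quotSMulTop, Module.support_eq_zeroLocus, Ideal.annihilator_quotient] at hq
  obtain ⟨hq1, hq2⟩ := hq
  rw [PrimeSpectrum.mem_zeroLocus] at hq1 hq2
  have hle : p ≤ q := (PrimeSpectrum.asIdeal_le_asIdeal p q).1 hq1
  refine lt_of_le_of_ne hle ?_
  rintro rfl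
  exact hxp (hq2 (Set.mem_singleton x))

/-- vanishing of `Ext^i(N, L)` for all finite `N` above `depth A`. -/
theorem subsingleton_ext_of_gt_depth (L : ModuleCat.{u} A) [Module.Finite A L] (t : ℕ)
    (ht : LocCoh.depth A A = t) (N₀ : ℕ)
    (hN : ∀ i, N₀ ≤ i → Subsingleton (Ext (kk A) L i))
    (N : Type u) [AddCommGroup N] [Module A N] [Module.Finite A N] (i : ℕ) (hi : t < i) :
    Subsingleton (Ext (ModuleCat.of A N) L i) := by
  have hdim : Module.supportDim A N ≤
      (((IsLocalRing.maximalIdeal A).spanFinrank : ℕ) : WithBot ℕ∞) :=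
    (Module.supportDim_le_ringKrullDim A N).trans (ringKrullDim_le_spanFinrank_maximalIdeal A)
  exact Groth.Agent.Lib.Helper9.bass_aux L t (subsingleton_ext_kk_of_gt_depth L t ht N₀ hN)
    _ N hdim i hi

/-- **finite injective dimension ⇒ `dim A ≤ depth A`** (via Grothendieck non-vanishing). -/
theorem ringKrullDim_le_depth (t : ℕ) (ht : LocCoh.depth A A = t) (N₀ : ℕ)
    (hN : ∀ i, N₀ ≤ i → Subsingleton (Ext (kk A) (ModuleCat.of A A) i)) :
    ringKrullDim A ≤ (t : WithBot ℕ∞) := by
  haveI : Module.Finite A (ModuleCat.of A A) := inferInstanceAs (Module.Finite A A)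
  obtain ⟨d, hd⟩ := exists_nat_supportDim (R := A) (M := A)
  rw [← Module.supportDim_self_eq_ringKrullDim, hd]
  by_contra hlt
  push Not at hlt
  have htd : t < d := by exact_mod_cast hlt
  haveI hnt := LCNonVanish.nontrivial_top d A hd
  have hsub : Subsingleton (HH (IsLocalRing.maximalIdeal A) (ModuleCat.of A A) d) := by
    apply HH.subsingleton_of_forall_eq_zero
    intro z
    obtain ⟨n, y, rfl⟩ := HH.exists_of _ _ _ z
    haveI : Subsingleton (Ext (Q (IsLocalRing.maximalIdeal A) n) (ModuleCat.of A A) d) :=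
      subsingleton_ext_of_gt_depth (ModuleCat.of A A) t ht N₀ hN
        (A ⧸ IsLocalRing.maximalIdeal A ^ n) d htd
    rw [Subsingleton.elim y 0, map_zero]
  exact not_subsingleton _ hsub

end Groth.Agent.Lib.Helper20.GorCM
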