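import Mathlib
import Groth.Prelude.Def_GrLC
import Groth.Agent.Lib.Helper4.LC1

/-!
# Local cohomology from a resolution by acyclic modules

If `0 → M → X 0 → X 1 → ⋯` is exact and every `X n` is acyclic for local cohomology with respect
to `I` (in the model `HH` of `Helper4.LCModel`), then the cohomology of `Γ_I(X •)` computes the
local cohomology of `M`.
-/

set_option autoImplicit false
set_option linter.unusedSectionVars false
set_option linter.unusedVariables false

universe u

open CategoryTheory Groth.Agent.Lib.Helper4.LC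

namespace Groth.Agent.Lib.Helper20.LCAcyclic

variable {R : Type u} [CommRing R] (I : Ideal R)

section ses

variable {A B C : Type u} [AddCommGroup A] [Module R A] [AddCommGroup B] [Module R B]
  [AddCommGroup C] [Module R C]
  (f : A →ₗ[R] B) (g : B →ₗ[R] C)

/-- the short complex of a pair of composable linear maps with an exactness proof. -/
abbrev sc (hfg : Function.Exact f g) : ShortComplex (ModuleCat.{u} R) :=
  ModuleCat.shortComplexOfCompEqZero f g (by ext x; simpa using hfg.apply_apply_eq_zero x)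

lemma sc_shortExact (hfg : Function.Exact f g) (hf : Function.Injective f)
    (hg : Function.Surjective g) : (sc f g hfg).ShortExact :=
  ModuleCat.shortComplex_shortExact (sc f g hfg) hfg hf hg

variable (hfg : Function.Exact f g) (hf : Function.Injective f) (hg : Function.Surjective g)

/-- `GrLC.gam` and `DRing.torsionSub` have the same carrier. -/
def gamEquiv (N : Type u) [AddCommGroup N] [Module R N] :
    GrLC.gam I N ≃ₗ[R] DRing.torsionSub I N where
  toFun x := ⟨x.1, x.2⟩
  invFun x := ⟨x.1, x.2⟩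
  map_add' _ _ := rfl
  map_smul' _ _ := rfl
  left_inv _ := rfl
  right_inv _ := rfl

/-- `H^0_I(N) ≃ Γ_I(N)`. -/
noncomputable def HH0gam (N : Type u) [AddCommGroup N] [Module R N] :
    HH I (ModuleCat.of R N) 0 ≃ₗ[R] GrLC.gam I N :=
  (HH0Equiv I (ModuleCat.of R N)).trans (gamEquiv I N).symm

lemma HH0gam_apply (N : Type u) [AddCommGroup N] [Module R N] (y : HH I (ModuleCat.of R N) 0) :
    (HH0gam I N y : N) = HH0 I (ModuleCat.of R N) y := rfl

lemma HH0_HH0gam_symm (N : Type u) [AddCommGroup N] [Module R N] (x : GrLC.gam I N) :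
    HH0 I (ModuleCat.of R N) ((HH0gam I N).symm x) = (x : N) := by
  rw [← HH0gam_apply, LinearEquiv.apply_symm_apply]

/-- The connecting map `Γ_I(C) → H^1_I(A)`. -/
noncomputable def conn : GrLC.gam I C →ₗ[R] HH I (ModuleCat.of R A) 1 :=
  (HH.δ I (sc_shortExact f g hfg hf hg) 0) ∘ₗ (HH0gam I C).symm.toLinearMap

lemma conn_apply (x : GrLC.gam I C) : conn I f g hfg hf hg x =
    HH.δ I (sc_shortExact f g hfg hf hg) 0 ((HH0gam I C).symm x) := rfl

lemma conn_surjective (h2 : Subsingleton (HH I (ModuleCat.of R B) 1)) :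
    Function.Surjective (conn I f g hfg hf hg) := by
  intro x
  obtain ⟨y, hy⟩ := HH.δ_surjective I (sc_shortExact f g hfg hf hg) 0 h2 x
  refine ⟨HH0gam I C y, ?_⟩
  rw [conn_apply, LinearEquiv.symm_apply_apply]
  exact hy

lemma conn_eq_zero_iff (x : GrLC.gam I C) :
    conn I f g hfg hf hg x = 0 ↔ ∃ b ∈ GrLC.gam I B, g b = (x : C) := by
  have hS := sc_shortExact f g hfg hf hg
  set y : HH I (ModuleCat.of R C) 0 := (HH0gam I C).symm x with hy
  have hy0 : HH0 I (ModuleCat.of R C) y = (x : C) := HH0_HH0gam_symm I C x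
  rw [conn_apply]
  constructor
  · intro h
    obtain ⟨x₂, hx₂⟩ := HH.exact₃ I hS 0 y h
    refine ⟨HH0 I (ModuleCat.of R B) x₂, HH0_mem I (ModuleCat.of R B) x₂, ?_⟩
    have := HH0_map I (sc f g hfg).g x₂
    rw [hx₂, hy0] at this
    exact this.symm
  · rintro ⟨b, hb, hgb⟩
    set x₂ : HH I (ModuleCat.of R B) 0 := (HH0gam I B).symm ⟨b, hb⟩ with hx₂
    have hx₂0 : HH0 I (ModuleCat.of R B) x₂ = b := HH0_HH0gam_symm I B ⟨b, hb⟩
    have : HH.map I (sc f g hfg).g 0 x₂ = y := by
      apply HH0_injective I (ModuleCat.of R C)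
      rw [HH0_map, hx₂0, hy0]
      exact hgb
    have h2 := HH.δ_map_g I hS 0 x₂
    rw [this] at h2
    exact h2

/-- the dimension shift isomorphism. -/
noncomputable def shiftEquiv (k : ℕ) (h2 : Subsingleton (HH I (ModuleCat.of R B) (k + 1)))
    (h2' : Subsingleton (HH I (ModuleCat.of R B) (k + 1 + 1))) :
    HH I (ModuleCat.of R C) (k + 1) ≃ₗ[R] HH I (ModuleCat.of R A) (k + 1 + 1) :=
  LinearEquiv.ofBijective (HH.δ I (sc_shortExact f g hfg hf hg) (k + 1))
    ⟨HH.δ_injective I (sc_shortExact f g hfg hf hg) (k + 1) h2,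
      HH.δ_surjective I (sc_shortExact f g hfg hf hg) (k + 1) h2'⟩

end ses

section resolution

variable (M : Type u) [AddCommGroup M] [Module R M]
  (X : ℕ → Type u) [∀ n, AddCommGroup (X n)] [∀ n, Module R (X n)]
  (d : ∀ n, X n →ₗ[R] X (n + 1)) (ε : M →ₗ[R] X 0)

/-- the map `X n → ker (d (n+1))`. -/
def toKer (hs : ∀ n, LinearMap.ker (d (n + 1)) = LinearMap.range (d n)) (n : ℕ) :
    X n →ₗ[R] LinearMap.ker (d (n + 1)) :=
  (d n).codRestrict (LinearMap.ker (d (n + 1))) (fun x => by
    rw [hs n]; exact LinearMap.mem_range_self _ x)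

variable (hs : ∀ n, LinearMap.ker (d (n + 1)) = LinearMap.range (d n))

lemma toKer_apply (n : ℕ) (x : X n) : (toKer X d hs n x : X (n + 1)) = d n x := rfl

include hs in
lemma toKer_surjective (n : ℕ) : Function.Surjective (toKer X d hs n) := by
  rintro ⟨y, hy⟩
  rw [hs n] at hy
  obtain ⟨x, rfl⟩ := hy
  exact ⟨x, rfl⟩

lemma exact_toKer (n : ℕ) :
    Function.Exact (LinearMap.ker (d n)).subtype (toKer X d hs n) := by
  intro y
  constructor
  · intro h
    refine ⟨⟨y, ?_⟩, rfl⟩
    rw [LinearMap.mem_ker]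
    have := congrArg Subtype.val h
    simpa [toKer_apply] using this
  · rintro ⟨z, rfl⟩
    apply Subtype.ext
    rw [toKer_apply]
    exact z.2

variable (hacyc : ∀ n k, Subsingleton (HH I (ModuleCat.of R (X n)) (k + 1)))

include hacyc hs in
lemma nonempty_shift : ∀ (m j n : ℕ), n = j + m →
    Nonempty (HH I (ModuleCat.of R (LinearMap.ker (d n))) 1 ≃ₗ[R]
      HH I (ModuleCat.of R (LinearMap.ker (d j))) (m + 1)) := by
  intro m
  induction m with
  | zero =>
    intro j n hn
    rw [add_zero] at hn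
    subst hn
    exact ⟨LinearEquiv.refl _ _⟩
  | succ m ih =>
    intro j n hn
    obtain ⟨e⟩ := ih (j + 1) n (by omega)
    exact ⟨e.trans (shiftEquiv I (LinearMap.ker (d j)).subtype (toKer X d hs j)
      (exact_toKer X d hs j) (Submodule.injective_subtype _) (toKer_surjective X d hs j) m
      (hacyc j m) (hacyc j (m + 1)))⟩

/-- cocycles of `Γ_I(X •)` in degree `n + 1`, mapped to `Γ_I(ker (d (n+1)))`. -/
def cocycToGam (n : ℕ) :
    ↥(GrLC.gam I (X n) ⊓ LinearMap.ker (d n)) →ₗ[R] GrLC.gam I (LinearMap.ker (d n)) :=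
  LinearMap.codRestrict (GrLC.gam I (LinearMap.ker (d n)))
    (LinearMap.codRestrict (LinearMap.ker (d n))
      (GrLC.gam I (X n) ⊓ LinearMap.ker (d n)).subtype (fun z => z.2.2))
    (fun z => by
      obtain ⟨k, hk⟩ := z.2.1
      exact ⟨k, fun r hr => Subtype.ext (hk r hr)⟩)

lemma cocycToGam_apply (n : ℕ) (z : ↥(GrLC.gam I (X n) ⊓ LinearMap.ker (d n))) :
    ((cocycToGam I X d n z : LinearMap.ker (d n)) : X n) = (z : X n) := rfl

lemma cocycToGam_surjective (n : ℕ) : Function.Surjective (cocycToGam I X d n) := by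
  rintro ⟨⟨y, hy⟩, k, hk⟩
  refine ⟨⟨y, ⟨k, fun r hr => ?_⟩, hy⟩, rfl⟩
  exact congrArg Subtype.val (hk r hr)

include hacyc hs in
theorem nonempty_equiv_succ (k : ℕ) :
    Nonempty ((↥(GrLC.gam I (X (k + 1)) ⊓ LinearMap.ker (d (k + 1))) ⧸
        ((GrLC.gam I (X k)).map (d k)).comap
          (GrLC.gam I (X (k + 1)) ⊓ LinearMap.ker (d (k + 1))).subtype) ≃ₗ[R]
      HH I (ModuleCat.of R (LinearMap.ker (d 0))) (k + 1)) := by
  obtain ⟨e⟩ := nonempty_shift I X d hs hacyc k 0 k (by omega)
  let Ψ : ↥(GrLC.gam I (X (k + 1)) ⊓ LinearMap.ker (d (k + 1))) →ₗ[R]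
      HH I (ModuleCat.of R (LinearMap.ker (d k))) 1 :=
    (conn I (LinearMap.ker (d k)).subtype (toKer X d hs k) (exact_toKer X d hs k)
      (Submodule.injective_subtype _) (toKer_surjective X d hs k)) ∘ₗ cocycToGam I X d (k + 1)
  have hΨs : Function.Surjective Ψ :=
    (conn_surjective I (LinearMap.ker (d k)).subtype (toKer X d hs k) (exact_toKer X d hs k)
      (Submodule.injective_subtype _) (toKer_surjective X d hs k) (hacyc k 0)).comp
      (cocycToGam_surjective I X d (k + 1))
  have hker : LinearMap.ker Ψ = ((GrLC.gam I (X k)).map (d k)).comap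
      (GrLC.gam I (X (k + 1)) ⊓ LinearMap.ker (d (k + 1))).subtype := by
    ext z
    rw [LinearMap.mem_ker, LinearMap.comp_apply, conn_eq_zero_iff, Submodule.mem_comap,
      Submodule.mem_map]
    constructor
    · rintro ⟨b, hb, hgb⟩
      refine ⟨b, hb, ?_⟩
      have := congrArg Subtype.val hgb
      rw [toKer_apply, cocycToGam_apply] at this
      exact this
    · rintro ⟨b, hb, hgb⟩
      refine ⟨b, hb, ?_⟩
      apply Subtype.ext
      rw [toKer_apply, cocycToGam_apply]
      exact hgb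
  exact ⟨((Submodule.quotEquivOfEq _ _ hker.symm).trans
    (LinearMap.quotKerEquivOfSurjective Ψ hΨs)).trans e⟩

variable (hε : Function.Injective ε) (h0 : LinearMap.ker (d 0) = LinearMap.range ε)

include hε h0 in
/-- `M ≃ ker (d 0)`. -/
lemma nonempty_equiv_ker : Nonempty (M ≃ₗ[R] LinearMap.ker (d 0)) :=
  ⟨(LinearEquiv.ofInjective ε hε).trans (LinearEquiv.ofEq _ _ h0.symm)⟩

include hε h0 hacyc hs in
theorem nonempty_equiv_succ' (k : ℕ) :
    Nonempty ((↥(GrLC.gam I (X (k + 1)) ⊓ LinearMap.ker (d (k + 1))) ⧸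
        ((GrLC.gam I (X k)).map (d k)).comap
          (GrLC.gam I (X (k + 1)) ⊓ LinearMap.ker (d (k + 1))).subtype) ≃ₗ[R]
      HH I (ModuleCat.of R M) (k + 1)) := by
  obtain ⟨e⟩ := nonempty_equiv_succ I X d hs hacyc k
  obtain ⟨e0⟩ := nonempty_equiv_ker M X d ε hε h0
  exact ⟨e.trans (HH.mapIso I e0.toModuleIso (k + 1)).symm⟩

include hε h0 in
theorem nonempty_equiv_zero :
    Nonempty ((↥(GrLC.gam I (X 0) ⊓ LinearMap.ker (d 0)) ⧸
        (⊥ : Submodule R (X 0)).comap (GrLC.gam I (X 0) ⊓ LinearMap.ker (d 0)).subtype) ≃ₗ[R]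
      HH I (ModuleCat.of R M) 0) := by
  -- `Γ(M) ≃ cocyc 0`
  let φ : GrLC.gam I M →ₗ[R] ↥(GrLC.gam I (X 0) ⊓ LinearMap.ker (d 0)) :=
    LinearMap.codRestrict _ (ε ∘ₗ (GrLC.gam I M).subtype) (fun m => by
      refine ⟨?_, ?_⟩
      · obtain ⟨k, hk⟩ := m.2
        exact ⟨k, fun r hr => by
          rw [LinearMap.comp_apply, Submodule.subtype_apply, ← map_smul, hk r hr, map_zero]⟩
      · rw [SetLike.mem_coe, h0]
        exact LinearMap.mem_range_self _ _)
  have hφi : Function.Injective φ := by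
    intro a b hab
    have := congrArg Subtype.val hab
    exact Subtype.ext (hε this)
  have hφs : Function.Surjective φ := by
    rintro ⟨z, ⟨k, hk⟩, hz⟩
    rw [SetLike.mem_coe, h0] at hz
    obtain ⟨m, rfl⟩ := hz
    refine ⟨⟨m, k, fun r hr => ?_⟩, rfl⟩
    apply hε
    rw [map_smul, hk r hr, map_zero]
  have hbot : (⊥ : Submodule R (X 0)).comap (GrLC.gam I (X 0) ⊓ LinearMap.ker (d 0)).subtype = ⊥ := by
    rw [Submodule.comap_bot, Submodule.ker_subtype]
  exact ⟨((Submodule.quotEquivOfEqBot _ hbot).trans (LinearEquiv.ofBijective φ ⟨hφi, hφs⟩).symm).trans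
    (HH0gam I M).symm⟩

/-- coboundaries of `Γ_I(X •)`. -/
def cob : (i : ℕ) → Submodule R (X i)
  | 0 => ⊥
  | n + 1 => (GrLC.gam I (X n)).map (d n)

include hε h0 hacyc hs in
/-- uniform version. -/
theorem nonempty_equiv (i : ℕ) :
    Nonempty ((↥(GrLC.gam I (X i) ⊓ LinearMap.ker (d i)) ⧸
        (cob I X d i).comap (GrLC.gam I (X i) ⊓ LinearMap.ker (d i)).subtype) ≃ₗ[R]
      HH I (ModuleCat.of R M) i) := by
  cases i with
  | zero => exact nonempty_equiv_zero I M X d ε hε h0
  | succ k => exact nonempty_equiv_succ' I M X d ε hs hacyc hε h0 k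

end resolution

section injres

variable (S : Type u) [CommRing S]

/-- the successive cokernels in the standard injective resolution. -/
noncomputable def Cseq (M : ModuleCat.{u} S) : ℕ → ModuleCat.{u} S
  | 0 => M
  | n + 1 => ModuleCat.of S (↑(Injective.under (Cseq M n)) ⧸
      LinearMap.range (Injective.ι (Cseq M n)).hom)

/-- every module has an injective resolution, as a sequence. -/
theorem exists_injective_resolution (M : Type u) [AddCommGroup M] [Module S M] :
    ∃ (X : ℕ → ModuleCat.{u} S) (d : ∀ n, X n →ₗ[S] X (n + 1)) (ε : M →ₗ[S] X 0),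
      (∀ n, Module.Injective S (X n)) ∧ Function.Injective ε ∧
      LinearMap.ker (d 0) = LinearMap.range ε ∧
      ∀ n, LinearMap.ker (d (n + 1)) = LinearMap.range (d n) := by
  let C := Cseq S (ModuleCat.of S M)
  let X : ℕ → ModuleCat.{u} S := fun n => Injective.under (C n)
  let ι : ∀ n, C n →ₗ[S] X n := fun n => (Injective.ι (C n)).hom
  have hι : ∀ n, Function.Injective (ι n) := fun n =>
    (ModuleCat.mono_iff_injective (Injective.ι (C n))).1 inferInstance
  let π : ∀ n, X n →ₗ[S] C (n + 1) := fun n => (LinearMap.range (ι n)).mkQ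
  have hπ : ∀ n, Function.Surjective (π n) := fun n => Submodule.mkQ_surjective _
  have hπk : ∀ n, LinearMap.ker (π n) = LinearMap.range (ι n) := fun n => Submodule.ker_mkQ _
  let d : ∀ n, X n →ₗ[S] X (n + 1) := fun n => (ι (n + 1)) ∘ₗ (π n)
  have hdk : ∀ n, LinearMap.ker (d n) = LinearMap.range (ι n) := by
    intro n
    rw [LinearMap.ker_comp_of_ker_eq_bot _ (LinearMap.ker_eq_bot.2 (hι (n + 1))), hπk]
  have hdr : ∀ n, LinearMap.range (d n) = LinearMap.range (ι (n + 1)) := by
    intro n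
    rw [LinearMap.range_comp_of_range_eq_top _ (LinearMap.range_eq_top.2 (hπ n))]
  refine ⟨X, d, ι 0, fun n => ?_, hι 0, hdk 0, fun n => by rw [hdk, hdr]⟩
  have : CategoryTheory.Injective (ModuleCat.of S (X n)) :=
    inferInstanceAs (CategoryTheory.Injective (Injective.under (C n)))
  exact Module.injective_module_of_injective_object S (X n)

end injres

end Groth.Agent.Lib.Helper20.LCAcyclic
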