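import Mathlib
import Groth.Agent.Lib.Helper4.LC2
import Groth.Agent.Lib.Helper20.LCAcyclic
import Groth.Agent.Lib.Helper20.LCTorsion

/-!
# Injective modules over an algebra are acyclic for local cohomology of the base ring
-/

set_option autoImplicit false
set_option linter.unusedSectionVars false
set_option linter.unusedVariables false

universe u

open CategoryTheory Groth.Agent.Lib.Helper4.LC Groth.Agent.Lib.Helper20.LCAcyclic
  Groth.Agent.Lib.Helper20.LCTorsion

namespace Groth.Agent.Lib.Helper20.LCIndep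

section lemmaA

variable {S : Type u} [CommRing S] [IsNoetherianRing S]

lemma mem_torsionSub_span_singleton {N : Type u} [AddCommGroup N] [Module S N] (a : S) (x : N) :
    x ∈ DRing.torsionSub (Ideal.span {a}) N ↔ ∃ n : ℕ, a ^ n • x = 0 := by
  constructor
  · rintro ⟨n, hn⟩
    refine ⟨n, hn _ ?_⟩
    rw [Ideal.span_singleton_pow]
    exact Ideal.mem_span_singleton_self _
  · rintro ⟨n, hn⟩
    refine ⟨n, fun r hr => ?_⟩
    rw [Ideal.span_singleton_pow, Ideal.mem_span_singleton'] at hr
    obtain ⟨c, rfl⟩ := hr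
    rw [mul_smul, hn, smul_zero]

/-- the annihilators of the powers of `a` stabilise. -/
lemma exists_ann_pow_stable (a : S) :
    ∃ n₀ : ℕ, ∀ r : S, r * a ^ (n₀ + 1) = 0 → r * a ^ n₀ = 0 := by
  let f : ℕ →o Ideal S :=
    { toFun := fun n => LinearMap.ker (LinearMap.mulRight S (a ^ n))
      monotone' := by
        intro n m hnm r hr
        rw [LinearMap.mem_ker, LinearMap.mulRight_apply] at hr ⊢
        obtain ⟨k, rfl⟩ := Nat.exists_eq_add_of_le hnm
        rw [pow_add, ← mul_assoc, hr, zero_mul] }
  obtain ⟨n₀, hn₀⟩ := monotone_stabilizes_iff_noetherian.mpr (inferInstance : IsNoetherian S S) f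
  refine ⟨n₀, fun r hr => ?_⟩
  have h1 : r ∈ f (n₀ + 1) := by
    change r ∈ LinearMap.ker (LinearMap.mulRight S (a ^ (n₀ + 1)))
    rw [LinearMap.mem_ker, LinearMap.mulRight_apply]
    exact hr
  rw [← hn₀ (n₀ + 1) (Nat.le_succ _)] at h1
  change r ∈ LinearMap.ker (LinearMap.mulRight S (a ^ n₀)) at h1
  rw [LinearMap.mem_ker, LinearMap.mulRight_apply] at h1
  exact h1

/-- Over a Noetherian ring, `a` acts bijectively on `N ⧸ Γ_a(N)` for `N` injective. -/
lemma smul_bijective_quotient_torsion (N : Type u) [AddCommGroup N] [Module S N]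
    [Module.Injective S N] (a : S) :
    Function.Bijective
      (fun x : N ⧸ DRing.torsionSub (Ideal.span {a}) N => a • x) := by
  constructor
  · intro x y hxy
    obtain ⟨x, rfl⟩ := Submodule.Quotient.mk_surjective _ x
    obtain ⟨y, rfl⟩ := Submodule.Quotient.mk_surjective _ y
    simp only [← Submodule.Quotient.mk_smul] at hxy
    rw [Submodule.Quotient.eq] at hxy ⊢
    rw [mem_torsionSub_span_singleton] at hxy ⊢
    obtain ⟨n, hn⟩ := hxy
    refine ⟨n + 1, ?_⟩
    rw [pow_succ, mul_smul, smul_sub]
    exact hn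
  · intro x
    obtain ⟨x, rfl⟩ := Submodule.Quotient.mk_surjective _ x
    obtain ⟨n₀, hn₀⟩ := exists_ann_pow_stable a
    -- `X = S ⧸ Ann(a^(n₀+1))`
    let A : Ideal S := LinearMap.ker (LinearMap.mulRight S (a ^ (n₀ + 1)))
    let f : (S ⧸ A) →ₗ[S] S := Submodule.liftQ A (LinearMap.mulRight S (a ^ (n₀ + 1))) le_rfl
    have hf : Function.Injective f := by
      rw [← LinearMap.ker_eq_bot]
      exact Submodule.ker_liftQ_eq_bot _ _ _ le_rfl
    let g0 : S →ₗ[S] N := LinearMap.toSpanSingleton S N (a ^ n₀ • x)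
    have hg0 : A ≤ LinearMap.ker g0 := by
      intro r hr
      rw [LinearMap.mem_ker, LinearMap.mulRight_apply] at hr
      rw [LinearMap.mem_ker, LinearMap.toSpanSingleton_apply, ← mul_smul, hn₀ r hr, zero_smul]
    let g : (S ⧸ A) →ₗ[S] N := Submodule.liftQ A g0 hg0
    obtain ⟨h, hh⟩ := Module.Injective.extension_property S N (S ⧸ A) S f hf g
    refine ⟨Submodule.Quotient.mk (h 1), ?_⟩
    change a • Submodule.Quotient.mk (h 1) = Submodule.Quotient.mk x
    rw [← Submodule.Quotient.mk_smul, Submodule.Quotient.eq, mem_torsionSub_span_singleton]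
    refine ⟨n₀, ?_⟩
    have h1 : h (f (Submodule.Quotient.mk 1)) = g (Submodule.Quotient.mk 1) := by
      rw [← hh]; rfl
    have h2 : f (Submodule.Quotient.mk 1) = a ^ (n₀ + 1) := by
      change (LinearMap.mulRight S (a ^ (n₀ + 1))) 1 = _
      rw [LinearMap.mulRight_apply, one_mul]
    have h3 : g (Submodule.Quotient.mk 1) = a ^ n₀ • x := by
      change g0 1 = _
      rw [LinearMap.toSpanSingleton_apply, one_smul]
    rw [h2, h3] at h1
    have h4 : h (a ^ (n₀ + 1)) = a ^ (n₀ + 1) • h 1 := by
      conv_lhs => rw [← mul_one (a ^ (n₀ + 1)), ← smul_eq_mul, map_smul]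
    rw [smul_sub, ← mul_smul, ← pow_succ, ← h1, h4, sub_self]

end lemmaA

section indep

variable {R : Type u} [CommRing R] [IsNoetherianRing R] (R' : Type u) [CommRing R']
  [IsNoetherianRing R'] [Algebra R R'] (I : Ideal R)

/-- `P(K)`: injective `R'`-modules that are `K`-power torsion are `I`-acyclic over `R`. -/
def AcycOn (K : Ideal R) : Prop :=
  ∀ (N : Type u) [AddCommGroup N] [Module R' N] [Module R N] [IsScalarTower R R' N]
    [Module.Injective R' N], LocCoh.IsPowerTorsion K N →
    ∀ k : ℕ, Subsingleton (HH I (ModuleCat.of R N) (k + 1))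

lemma isPowerTorsion_sup {K J : Ideal R} {N : Type u} [AddCommGroup N] [Module R N]
    (hK : LocCoh.IsPowerTorsion K N) (hJ : LocCoh.IsPowerTorsion J N) :
    LocCoh.IsPowerTorsion (K ⊔ J) N := by
  intro x
  obtain ⟨n, hn⟩ := hK x
  obtain ⟨m, hm⟩ := hJ x
  refine ⟨n + m, fun r hr => ?_⟩
  have hr' := Ideal.sup_pow_add_le_pow_sup_pow hr
  obtain ⟨r₁, hr₁, r₂, hr₂, rfl⟩ := Submodule.mem_sup.1 hr'
  rw [add_smul, hn r₁ hr₁, hm r₂ hr₂, add_zero]

lemma acycOn_step (K : Ideal R) (a : R) (ha : a ∈ I)
    (h : AcycOn R' I (K ⊔ Ideal.span {a})) : AcycOn R' I K := by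
  intro N _ _ _ _ _ hN k
  let a' : R' := algebraMap R R' a
  let T : Submodule R' N := DRing.torsionSub (Ideal.span {a'}) N
  have hTinj : Module.Injective R' T := injective_torsionSub (Ideal.span {a'}) N
  have hTK : LocCoh.IsPowerTorsion K T := by
    intro x
    obtain ⟨n, hn⟩ := hN x.1
    exact ⟨n, fun r hr => Subtype.ext (hn r hr)⟩
  have hTa : LocCoh.IsPowerTorsion (Ideal.span {a}) T := by
    intro x
    obtain ⟨n, hn⟩ := (mem_torsionSub_span_singleton a' x.1).1 x.2
    refine ⟨n, fun r hr => ?_⟩
    rw [Ideal.span_singleton_pow, Ideal.mem_span_singleton'] at hr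
    obtain ⟨c, rfl⟩ := hr
    apply Subtype.ext
    rw [Submodule.coe_smul_of_tower, Submodule.coe_zero, mul_smul]
    have : a ^ n • (x : N) = 0 := by
      rw [← hn, ← algebraMap_smul R' (a ^ n) (x : N), map_pow]
    rw [this, smul_zero]
  have h1 := h T (isPowerTorsion_sup hTK hTa) k
  have hbij : Function.Bijective (fun x : N ⧸ T => a • x) := by
    have := smul_bijective_quotient_torsion N a'
    convert this using 2 with x
    exact (algebraMap_smul R' a x).symm
  have h3 := subsingleton_of_bijective_smul I (N ⧸ T) a ha hbij (k + 1)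
  let f : T →ₗ[R] N := T.subtype.restrictScalars R
  let g : N →ₗ[R] N ⧸ T := T.mkQ.restrictScalars R
  have hf : Function.Injective f := Submodule.injective_subtype T
  have hg : Function.Surjective g := Submodule.mkQ_surjective T
  have hfg : Function.Exact f g := by
    intro y
    change T.mkQ y = 0 ↔ y ∈ Set.range T.subtype
    rw [Submodule.mkQ_apply, Submodule.Quotient.mk_eq_zero]
    constructor
    · intro hy; exact ⟨⟨y, hy⟩, rfl⟩
    · rintro ⟨z, rfl⟩; exact z.2
  exact HH.subsingleton_X₂ I (sc_shortExact f g hfg hf hg) (k + 1) h1 h3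

open Classical in
lemma acycOn_of_finset (s : Finset R) (hs : ∀ a ∈ s, a ∈ I) :
    ∀ K : Ideal R, AcycOn R' I (K ⊔ Ideal.span (s : Set R)) → AcycOn R' I K := by
  induction s using Finset.induction_on with
  | empty =>
    intro K h
    simpa using h
  | insert a s has ih =>
    intro K h
    apply acycOn_step R' I K a (hs a (Finset.mem_insert_self a s))
    apply ih (fun b hb => hs b (Finset.mem_insert_of_mem hb))
    rw [Finset.coe_insert, Ideal.span_insert, ← sup_assoc] at h
    exact h

/-- the top case: `I`-power torsion modules are acyclic. -/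
lemma acycOn_self : AcycOn R' I I := by
  intro N _ _ _ _ _ hN k
  exact HH.subsingleton_of_isPowerTorsion I k N hN

/-- **Injective modules over an `R`-algebra are acyclic for `H_I` over `R`.** -/
theorem subsingleton_HH_of_injective_algebra (N : Type u) [AddCommGroup N] [Module R' N]
    [Module R N] [IsScalarTower R R' N] [Module.Injective R' N] (k : ℕ) :
    Subsingleton (HH I (ModuleCat.of R N) (k + 1)) := by
  obtain ⟨s, hs⟩ := (IsNoetherian.noetherian I : I.FG)
  have h0 : AcycOn R' I ⊥ := by
    apply acycOn_of_finset R' I s (fun a ha => by rw [← hs]; exact Ideal.subset_span ha) ⊥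
    rw [bot_sup_eq]
    have : Ideal.span (s : Set R) = I := hs
    rw [this]
    exact acycOn_self R' I
  refine h0 N (fun x => ⟨1, fun r hr => ?_⟩) k
  rw [pow_one, Ideal.mem_bot] at hr
  rw [hr, zero_smul]

end indep

section flat

open TensorProduct

variable {R : Type u} [CommRing R] [IsNoetherianRing R] (R' : Type u) [CommRing R']
  [IsNoetherianRing R'] [Algebra R R'] [Module.Flat R R'] (I : Ideal R)

/-- `P'(K)`: for injective `K`-power torsion `R`-modules `E`, `R' ⊗ E` is `IR'`-acyclic. -/
def FlatAcycOn (K : Ideal R) : Prop :=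
  ∀ (E : Type u) [AddCommGroup E] [Module R E] [Module.Injective R E],
    LocCoh.IsPowerTorsion K E → ∀ k : ℕ,
      Subsingleton (HH (I.map (algebraMap R R')) (ModuleCat.of R' (R' ⊗[R] E)) (k + 1))

omit [IsNoetherianRing R] [IsNoetherianRing R'] [Module.Flat R R'] in
lemma isPowerTorsion_tensor (E : Type u) [AddCommGroup E] [Module R E]
    (hE : LocCoh.IsPowerTorsion I E) :
    LocCoh.IsPowerTorsion (I.map (algebraMap R R')) (R' ⊗[R] E) := by
  intro y
  induction y using TensorProduct.induction_on with
  | zero => exact ⟨0, fun _ _ => smul_zero _⟩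
  | tmul r' e =>
    obtain ⟨n, hn⟩ := hE e
    refine ⟨n, fun b hb => ?_⟩
    rw [← Ideal.map_pow] at hb
    induction hb using Submodule.span_induction with
    | mem b hb =>
      obtain ⟨a, ha, rfl⟩ := hb
      rw [TensorProduct.smul_tmul', smul_eq_mul, ← Algebra.smul_def, TensorProduct.smul_tmul,
        hn a ha, TensorProduct.tmul_zero]
    | zero => rw [zero_smul]
    | add b c _ _ hb hc => rw [add_smul, hb, hc, add_zero]
    | smul c b _ hb => rw [smul_eq_mul, mul_smul, hb, smul_zero]
  | add x y hx hy =>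
    obtain ⟨n, hn⟩ := hx
    obtain ⟨m, hm⟩ := hy
    refine ⟨n + m, fun b hb => ?_⟩
    rw [smul_add, hn b (Ideal.pow_le_pow_right (Nat.le_add_right n m) hb),
      hm b (Ideal.pow_le_pow_right (Nat.le_add_left m n) hb), add_zero]

lemma flatAcycOn_step (K : Ideal R) (a : R) (ha : a ∈ I)
    (h : FlatAcycOn R' I (K ⊔ Ideal.span {a})) : FlatAcycOn R' I K := by
  intro E _ _ _ hE k
  let T : Submodule R E := DRing.torsionSub (Ideal.span {a}) E
  have hTinj : Module.Injective R T := injective_torsionSub (Ideal.span {a}) E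
  have hTK : LocCoh.IsPowerTorsion K T := by
    intro x
    obtain ⟨n, hn⟩ := hE x.1
    exact ⟨n, fun r hr => Subtype.ext (hn r hr)⟩
  have hTa : LocCoh.IsPowerTorsion (Ideal.span {a}) T := isPowerTorsion_torsionSub _ E
  have h1 := h T (isPowerTorsion_sup hTK hTa) k
  have hbij : Function.Bijective (fun x : E ⧸ T => a • x) := smul_bijective_quotient_torsion E a
  let e : (E ⧸ T) ≃ₗ[R] (E ⧸ T) := LinearEquiv.ofBijective (LinearMap.lsmul R (E ⧸ T) a) hbij
  have hbij' : Function.Bijective (fun y : R' ⊗[R] (E ⧸ T) => (algebraMap R R' a) • y) := by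
    have : (fun y : R' ⊗[R] (E ⧸ T) => (algebraMap R R' a) • y) = e.baseChange R R' _ _ := by
      funext y
      induction y using TensorProduct.induction_on with
      | zero => simp
      | tmul r' x =>
        rw [LinearEquiv.baseChange_tmul, TensorProduct.smul_tmul', smul_eq_mul,
          ← Algebra.smul_def, TensorProduct.smul_tmul]
        rfl
      | add x y hx hy =>
        rw [smul_add, hx, hy, map_add]
    rw [this]
    exact (e.baseChange R R' _ _).bijective
  have h3 := subsingleton_of_bijective_smul (I.map (algebraMap R R')) (R' ⊗[R] (E ⧸ T))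
    (algebraMap R R' a) (Ideal.mem_map_of_mem _ ha) hbij' (k + 1)
  let f : R' ⊗[R] T →ₗ[R'] R' ⊗[R] E := T.subtype.baseChange R'
  let g : R' ⊗[R] E →ₗ[R'] R' ⊗[R] (E ⧸ T) := T.mkQ.baseChange R'
  have hf : Function.Injective f := by
    change Function.Injective (T.subtype.baseChange R')
    rw [LinearMap.baseChange_eq_ltensor]
    exact Module.Flat.lTensor_preserves_injective_linearMap _ (Submodule.injective_subtype T)
  have hg : Function.Surjective g := by
    change Function.Surjective (T.mkQ.baseChange R')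
    rw [LinearMap.baseChange_eq_ltensor]
    exact LinearMap.lTensor_surjective _ (Submodule.mkQ_surjective T)
  have hfg : Function.Exact f g := by
    change Function.Exact (T.subtype.baseChange R') (T.mkQ.baseChange R')
    rw [LinearMap.baseChange_eq_ltensor, LinearMap.baseChange_eq_ltensor]
    apply Module.Flat.lTensor_exact
    intro y
    rw [Submodule.mkQ_apply, Submodule.Quotient.mk_eq_zero]
    constructor
    · intro hy; exact ⟨⟨y, hy⟩, rfl⟩
    · rintro ⟨z, rfl⟩; exact z.2
  exact HH.subsingleton_X₂ (I.map (algebraMap R R')) (sc_shortExact f g hfg hf hg) (k + 1) h1 h3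

open Classical in
lemma flatAcycOn_of_finset (s : Finset R) (hs : ∀ a ∈ s, a ∈ I) :
    ∀ K : Ideal R, FlatAcycOn R' I (K ⊔ Ideal.span (s : Set R)) → FlatAcycOn R' I K := by
  induction s using Finset.induction_on with
  | empty =>
    intro K h
    simpa using h
  | insert a s has ih =>
    intro K h
    apply flatAcycOn_step R' I K a (hs a (Finset.mem_insert_self a s))
    apply ih (fun b hb => hs b (Finset.mem_insert_of_mem hb))
    rw [Finset.coe_insert, Ideal.span_insert, ← sup_assoc] at h
    exact h

lemma flatAcycOn_self : FlatAcycOn R' I I := by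
  intro E _ _ _ hE k
  exact HH.subsingleton_of_isPowerTorsion (I.map (algebraMap R R')) k (R' ⊗[R] E)
    (isPowerTorsion_tensor R' I E hE)

/-- **Flat base change of an injective module is acyclic.** -/
theorem subsingleton_HH_tensor_of_injective (E : Type u) [AddCommGroup E] [Module R E]
    [Module.Injective R E] (k : ℕ) :
    Subsingleton (HH (I.map (algebraMap R R')) (ModuleCat.of R' (R' ⊗[R] E)) (k + 1)) := by
  obtain ⟨s, hs⟩ := (IsNoetherian.noetherian I : I.FG)
  have h0 : FlatAcycOn R' I ⊥ := by
    apply flatAcycOn_of_finset R' I s (fun a ha => by rw [← hs]; exact Ideal.subset_span ha) ⊥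
    rw [bot_sup_eq]
    have : Ideal.span (s : Set R) = I := hs
    rw [this]
    exact flatAcycOn_self R' I
  refine h0 E (fun x => ⟨1, fun r hr => ?_⟩) k
  rw [pow_one, Ideal.mem_bot] at hr
  rw [hr, zero_smul]

end flat

end Groth.Agent.Lib.Helper20.LCIndep
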