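import Mathlib
import Groth.Agent.Lib.Helper20.LCIndep

/-!
# The independence theorem for local cohomology
-/

set_option autoImplicit false
set_option linter.unusedSectionVars false
set_option linter.unusedVariables false

universe u

open CategoryTheory Groth.Agent.Lib.Helper4.LC Groth.Agent.Lib.Helper20.LCAcyclic
  Groth.Agent.Lib.Helper20.LCTorsion Groth.Agent.Lib.Helper20.LCIndep

namespace Groth.Agent.Lib.Helper20.LCIndep2

variable {R : Type u} [CommRing R] [IsNoetherianRing R] (R' : Type u) [CommRing R']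
  [IsNoetherianRing R'] [Algebra R R'] (I : Ideal R)

omit [IsNoetherianRing R] [IsNoetherianRing R'] in
/-- `Γ_{IR'}(N) = Γ_I(N)` as sets. -/
lemma mem_gam_map_iff {N : Type u} [AddCommGroup N] [Module R' N] [Module R N]
    [IsScalarTower R R' N] (x : N) :
    x ∈ GrLC.gam (I.map (algebraMap R R')) N ↔ x ∈ GrLC.gam I N := by
  constructor
  · rintro ⟨n, hn⟩
    refine ⟨n, fun a ha => ?_⟩
    rw [← algebraMap_smul R' a x]
    apply hn
    rw [← Ideal.map_pow]
    exact Ideal.mem_map_of_mem _ ha
  · rintro ⟨n, hn⟩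
    refine ⟨n, fun b hb => ?_⟩
    rw [← Ideal.map_pow] at hb
    induction hb using Submodule.span_induction with
    | mem b hb =>
      obtain ⟨a, ha, rfl⟩ := hb
      rw [algebraMap_smul, hn a ha]
    | zero => rw [zero_smul]
    | add b c _ _ hb hc => rw [add_smul, hb, hc, add_zero]
    | smul c b _ hb => rw [smul_eq_mul, mul_smul, hb, smul_zero]

section res

variable (M' : Type u) [AddCommGroup M'] [Module R' M'] [Module R M'] [IsScalarTower R R' M']
  (X : ℕ → Type u) [∀ n, AddCommGroup (X n)] [∀ n, Module R' (X n)] [∀ n, Module R (X n)]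
  [∀ n, IsScalarTower R R' (X n)] [∀ n, Module.Injective R' (X n)]
  (d : ∀ n, X n →ₗ[R'] X (n + 1)) (ε : M' →ₗ[R'] X 0)

omit [IsNoetherianRing R] [IsNoetherianRing R'] [∀ n, Module.Injective R' (X n)] in
lemma mem_cob_iff (i : ℕ) (x : X i) :
    x ∈ cob (I.map (algebraMap R R')) X d i ↔
      x ∈ cob I X (fun n => (d n).restrictScalars R) i := by
  cases i with
  | zero => exact Iff.rfl
  | succ n =>
    change x ∈ (GrLC.gam (I.map (algebraMap R R')) (X n)).map (d n) ↔
      x ∈ (GrLC.gam I (X n)).map ((d n).restrictScalars R)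
    simp only [Submodule.mem_map]
    constructor
    · rintro ⟨y, hy, rfl⟩
      exact ⟨y, (mem_gam_map_iff R' I y).1 hy, rfl⟩
    · rintro ⟨y, hy, rfl⟩
      exact ⟨y, (mem_gam_map_iff R' I y).2 hy, rfl⟩

/-- the comparison of the two cohomology quotients. -/
noncomputable def quotEquiv (i : ℕ) :
    (↥(GrLC.gam I (X i) ⊓ LinearMap.ker ((d i).restrictScalars R)) ⧸
        (cob I X (fun n => (d n).restrictScalars R) i).comap
          (GrLC.gam I (X i) ⊓ LinearMap.ker ((d i).restrictScalars R)).subtype) ≃ₗ[R]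
    (↥(GrLC.gam (I.map (algebraMap R R')) (X i) ⊓ LinearMap.ker (d i)) ⧸
        (cob (I.map (algebraMap R R')) X d i).comap
          (GrLC.gam (I.map (algebraMap R R')) (X i) ⊓ LinearMap.ker (d i)).subtype) := by
  let P : Submodule R (X i) := GrLC.gam I (X i) ⊓ LinearMap.ker ((d i).restrictScalars R)
  let P' : Submodule R' (X i) := GrLC.gam (I.map (algebraMap R R')) (X i) ⊓ LinearMap.ker (d i)
  have hP : ∀ x : X i, x ∈ P ↔ x ∈ P' := by
    intro x
    change (x ∈ GrLC.gam I (X i) ∧ x ∈ LinearMap.ker ((d i).restrictScalars R)) ↔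
      (x ∈ GrLC.gam (I.map (algebraMap R R')) (X i) ∧ x ∈ LinearMap.ker (d i))
    rw [mem_gam_map_iff R' I x]
    exact Iff.rfl
  let j : ↥P →ₗ[R] ↥P' :=
    { toFun := fun p => ⟨p.1, (hP p.1).1 p.2⟩
      map_add' := fun _ _ => rfl
      map_smul' := fun _ _ => rfl }
  let B' : Submodule R' ↥P' := (cob (I.map (algebraMap R R')) X d i).comap P'.subtype
  let ψ : ↥P →ₗ[R] (↥P' ⧸ B') := (B'.mkQ.restrictScalars R) ∘ₗ j
  have hψs : Function.Surjective ψ := by
    intro y
    obtain ⟨⟨y, hy⟩, rfl⟩ := Submodule.Quotient.mk_surjective _ y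
    exact ⟨⟨y, (hP y).2 hy⟩, rfl⟩
  have hker : LinearMap.ker ψ =
      (cob I X (fun n => (d n).restrictScalars R) i).comap P.subtype := by
    ext p
    rw [LinearMap.mem_ker]
    change B'.mkQ (j p) = 0 ↔ _
    rw [Submodule.mkQ_apply, Submodule.Quotient.mk_eq_zero, Submodule.mem_comap,
      Submodule.mem_comap]
    exact mem_cob_iff R' I X d i p.1
  exact (Submodule.quotEquivOfEq _ _ hker.symm).trans (LinearMap.quotKerEquivOfSurjective ψ hψs)

lemma quotEquiv_symm_smul (i : ℕ) (r : R) (y) :
    (quotEquiv R' I X d i).symm (algebraMap R R' r • y) =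
      r • (quotEquiv R' I X d i).symm y := by
  rw [algebraMap_smul, map_smul]

variable (hε : Function.Injective ε) (h0 : LinearMap.ker (d 0) = LinearMap.range ε)
  (hs : ∀ n, LinearMap.ker (d (n + 1)) = LinearMap.range (d n))

include hε h0 hs in
theorem exists_addEquiv_of_resolution (i : ℕ) :
    ∃ φ : HH (I.map (algebraMap R R')) (ModuleCat.of R' M') i ≃+ HH I (ModuleCat.of R M') i,
      ∀ (r : R) (x : HH (I.map (algebraMap R R')) (ModuleCat.of R' M') i),
        φ (algebraMap R R' r • x) = r • φ x := by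
  -- the `R'`-side
  have hacyc' : ∀ n k, Subsingleton
      (HH (I.map (algebraMap R R')) (ModuleCat.of R' (X n)) (k + 1)) := by
    intro n k
    have : CategoryTheory.Injective (ModuleCat.of R' (X n)) :=
      Module.injective_object_of_injective_module R' (X n)
    exact HH.subsingleton_of_injective _ (ModuleCat.of R' (X n)) k
  obtain ⟨e'⟩ := nonempty_equiv (I.map (algebraMap R R')) M' X d ε hs hacyc' hε h0 i
  -- the `R`-side
  have hacyc : ∀ n k, Subsingleton (HH I (ModuleCat.of R (X n)) (k + 1)) :=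
    fun n k => subsingleton_HH_of_injective_algebra R' I (X n) k
  have h0R : LinearMap.ker ((d 0).restrictScalars R) = LinearMap.range (ε.restrictScalars R) := by
    ext x
    have := SetLike.ext_iff.1 h0 x
    exact this
  have hsR : ∀ n, LinearMap.ker ((d (n + 1)).restrictScalars R) =
      LinearMap.range ((d n).restrictScalars R) := by
    intro n
    ext x
    have := SetLike.ext_iff.1 (hs n) x
    exact this
  obtain ⟨e⟩ := nonempty_equiv I M' X (fun n => (d n).restrictScalars R) (ε.restrictScalars R)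
    hsR hacyc hε h0R i
  refine ⟨(e'.symm.toAddEquiv.trans (quotEquiv R' I X d i).symm.toAddEquiv).trans e.toAddEquiv,
    fun r x => ?_⟩
  change e ((quotEquiv R' I X d i).symm (e'.symm (algebraMap R R' r • x))) =
    r • e ((quotEquiv R' I X d i).symm (e'.symm x))
  rw [map_smul, quotEquiv_symm_smul, map_smul]

end res

/-- **Independence theorem.** -/
theorem exists_addEquiv (M' : Type u) [AddCommGroup M'] [Module R' M'] [Module R M']
    [IsScalarTower R R' M'] (i : ℕ) :
    ∃ φ : HH (I.map (algebraMap R R')) (ModuleCat.of R' M') i ≃+ HH I (ModuleCat.of R M') i,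
      ∀ (r : R) (x : HH (I.map (algebraMap R R')) (ModuleCat.of R' M') i),
        φ (algebraMap R R' r • x) = r • φ x := by
  obtain ⟨X, d, ε, hinj, hε, h0, hs⟩ := exists_injective_resolution R' M'
  let _ : ∀ n, Module R (X n) := fun n => Module.compHom (X n) (algebraMap R R')
  have : ∀ n, IsScalarTower R R' (X n) := fun n =>
    IsScalarTower.of_algebraMap_smul (fun r x => rfl)
  have : ∀ n, Module.Injective R' (X n) := hinj
  exact exists_addEquiv_of_resolution R' I M' (fun n => X n) d ε hε h0 hs i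

end Groth.Agent.Lib.Helper20.LCIndep2
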