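import Mathlib
import Groth.Agent.Lib.Helper4.LC3

/-!
# Factoring a multiple of the identity through a free module

If `M` is a finite module over a Noetherian ring and `S⁻¹M` is projective over `S⁻¹R`, then for
some `s ∈ S` the endomorphism `s • id_M` factors through a finite free module.  Consequently
anything that kills `H^i_I(R)` kills `s • H^i_I(M)`.
-/

set_option autoImplicit false
set_option linter.unusedSectionVars false
set_option linter.unusedVariables false

universe u

open CategoryTheory Abelian Groth.Agent.Lib.Helper4.LC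

namespace Groth.Agent.Lib.Helper20.LCFactor

variable {R : Type u} [CommRing R]

section factor

variable [IsNoetherianRing R] (S : Submonoid R) (M : Type u) [AddCommGroup M] [Module R M]
  [Module.Finite R M]

theorem exists_factor [Module.Projective (Localization S) (LocalizedModule S M)] :
    ∃ (n : ℕ) (s : R) (_ : s ∈ S) (α : M →ₗ[R] (Fin n → R)) (β : (Fin n → R) →ₗ[R] M),
      β ∘ₗ α = s • LinearMap.id := by
  let R' := Localization S
  let M' := LocalizedModule S M
  let f : M →ₗ[R] M' := LocalizedModule.mkLinearMap S M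
  obtain ⟨n, π, hπ⟩ := Module.Finite.exists_fin' R' M'
  obtain ⟨σ, hσ⟩ := Module.projective_lifting_property π LinearMap.id hπ
  let g : (Fin n → R) →ₗ[R] (Fin n → R') :=
    LinearMap.pi (fun j => Algebra.linearMap R R' ∘ₗ LinearMap.proj j)
  have hg : IsLocalizedModule S g :=
    IsLocalizedModule.pi S (fun _ : Fin n => Algebra.linearMap R R')
  have : Module.FinitePresentation R M := Module.finitePresentation_of_finite R M
  have : Module.FinitePresentation R (Fin n → R) := Module.finitePresentation_of_finite R _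
  obtain ⟨α₀, s₁, h₁⟩ := Module.FinitePresentation.exists_lift_of_isLocalizedModule S g
    ((σ.restrictScalars R) ∘ₗ f)
  obtain ⟨β₀, s₂, h₂⟩ := Module.FinitePresentation.exists_lift_of_isLocalizedModule S f
    ((π.restrictScalars R) ∘ₗ g)
  have key : f ∘ₗ (β₀ ∘ₗ α₀) = f ∘ₗ (((s₁ : R) * (s₂ : R)) • LinearMap.id) := by
    apply LinearMap.ext
    intro x
    have e1 : f (β₀ (α₀ x)) = (s₂ : R) • π (g (α₀ x)) := by
      have := congrArg (fun l => l (α₀ x)) h₂
      exact this
    have e2 : g (α₀ x) = (s₁ : R) • σ (f x) := by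
      have := congrArg (fun l => l x) h₁
      exact this
    have e3 : π (σ (f x)) = f x := by
      have := congrArg (fun l => l (f x)) hσ
      exact this
    change f (β₀ (α₀ x)) = f (((s₁ : R) * (s₂ : R)) • x)
    rw [e1, e2]
    have e4 : π ((s₁ : R) • σ (f x)) = (s₁ : R) • π (σ (f x)) := by
      rw [← algebraMap_smul R' (s₁ : R) (σ (f x)), map_smul, algebraMap_smul]
    rw [e4, e3, smul_smul, map_smul, mul_comm]
  obtain ⟨s₃, h₃⟩ := Module.Finite.exists_smul_of_comp_eq_of_isLocalizedModule S f _ _ key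
  refine ⟨n, (s₃ : R) * ((s₁ : R) * (s₂ : R)), S.mul_mem s₃.2 (S.mul_mem s₁.2 s₂.2), α₀,
    (s₃ : R) • β₀, ?_⟩
  apply LinearMap.ext
  intro x
  have := congrArg (fun l => l x) h₃
  change (s₃ : R) • β₀ (α₀ x) = (s₃ : R) • (((s₁ : R) * (s₂ : R)) • x) at this
  change (s₃ : R) • β₀ (α₀ x) = ((s₃ : R) * ((s₁ : R) * (s₂ : R))) • x
  rw [this, smul_smul]

end factor

section additive

variable (I : Ideal R) {M M' : ModuleCat.{u} R}

lemma HH_map_add (g g' : M ⟶ M') (i : ℕ) (x : HH I M i) :
    HH.map I (g + g') i x = HH.map I g i x + HH.map I g' i x := by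
  obtain ⟨n, y, rfl⟩ := HH.exists_of I M i x
  rw [HH.map_of, HH.map_of, HH.map_of, Ext.mk₀_add, Ext.comp_add, map_add]

lemma HH_map_sum {ι : Type*} (s : Finset ι) (g : ι → (M ⟶ M')) (i : ℕ) (x : HH I M i) :
    HH.map I (∑ j ∈ s, g j) i x = ∑ j ∈ s, HH.map I (g j) i x := by
  classical
  induction s using Finset.induction_on with
  | empty => rw [Finset.sum_empty, Finset.sum_empty, HH.map_zero']
  | insert a s ha ih => rw [Finset.sum_insert ha, Finset.sum_insert ha, HH_map_add, ih]

/-- decomposition of the identity of `R^n`. -/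
lemma id_pi_eq_sum (n : ℕ) :
    𝟙 (ModuleCat.of R (Fin n → R)) =
      ∑ j : Fin n, (ModuleCat.ofHom (LinearMap.proj (R := R) (φ := fun _ : Fin n => R) j) ≫
        ModuleCat.ofHom (LinearMap.single R (fun _ : Fin n => R) j)) := by
  apply ModuleCat.hom_ext
  apply LinearMap.ext
  intro v
  rw [ModuleCat.hom_sum]
  simp only [ModuleCat.hom_comp, ModuleCat.hom_ofHom, LinearMap.sum_apply, LinearMap.comp_apply,
    LinearMap.proj_apply, LinearMap.single_apply]
  funext k
  rw [Finset.sum_apply]
  simp [Pi.single_apply]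

/-- an element killing `H^i_I(R)` kills `H^i_I(R^n)`. -/
lemma smul_eq_zero_pi (i : ℕ) (a : R)
    (ha : ∀ x : HH I (ModuleCat.of R R) i, a • x = 0) (n : ℕ)
    (y : HH I (ModuleCat.of R (Fin n → R)) i) : a • y = 0 := by
  have h1 : y = HH.map I (𝟙 _) i y := (HH.map_id I i y).symm
  rw [h1, id_pi_eq_sum, HH_map_sum, Finset.smul_sum]
  apply Finset.sum_eq_zero
  intro j _
  rw [HH.map_comp, ← map_smul, ha, map_zero]

/-- if `s • id_M` factors through `R^n`, then `a * s` kills `H^i_I(M)` whenever `a` kills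
`H^i_I(R)`. -/
lemma smul_eq_zero_of_factor (i : ℕ) (a : R)
    (ha : ∀ x : HH I (ModuleCat.of R R) i, a • x = 0)
    (N : Type u) [AddCommGroup N] [Module R N] (n : ℕ) (s : R)
    (α : N →ₗ[R] (Fin n → R)) (β : (Fin n → R) →ₗ[R] N) (hαβ : β ∘ₗ α = s • LinearMap.id)
    (x : HH I (ModuleCat.of R N) i) : (a * s) • x = 0 := by
  have h1 : s • 𝟙 (ModuleCat.of R N) = ModuleCat.ofHom α ≫ ModuleCat.ofHom β := by
    apply ModuleCat.hom_ext
    rw [ModuleCat.hom_comp, ModuleCat.hom_ofHom, ModuleCat.hom_ofHom, hαβ]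
    rfl
  rw [mul_smul, HH.smul_eq_map I i s x, h1, HH.map_comp, ← map_smul,
    smul_eq_zero_pi I i a ha, map_zero]

end additive

end Groth.Agent.Lib.Helper20.LCFactor
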