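import Mathlib
import Groth.Agent.Lib.Helper20.LCFactor

/-!
# Annihilation of local cohomology below the grade, for modules of finite projective dimension
at a prime
-/

set_option autoImplicit false
set_option linter.unusedSectionVars false
set_option linter.unusedVariables false

universe u

open CategoryTheory Abelian Groth.Agent.Lib.Helper4.LC

namespace Groth.Agent.Lib.Helper20.LCFactor

variable {R : Type u} [CommRing R] [IsNoetherianRing R]

/-- the localized short exact sequence over the localized ring. -/
lemma loc_shortExact (S : Submonoid R) {N₁ N₂ N₃ : Type u} [AddCommGroup N₁] [Module R N₁]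
    [AddCommGroup N₂] [Module R N₂] [AddCommGroup N₃] [Module R N₃]
    (f : N₁ →ₗ[R] N₂) (g : N₂ →ₗ[R] N₃)
    (hfg : Function.Exact f g) (hf : Function.Injective f) (hg : Function.Surjective g) :
    ∃ T : ShortComplex (ModuleCat.{u} (Localization S)), T.ShortExact ∧
      T.X₁ = ModuleCat.of (Localization S) (LocalizedModule S N₁) ∧
      T.X₂ = ModuleCat.of (Localization S) (LocalizedModule S N₂) ∧
      T.X₃ = ModuleCat.of (Localization S) (LocalizedModule S N₃) := by
  let f' : LocalizedModule S N₁ →ₗ[Localization S] LocalizedModule S N₂ :=
    (LocalizedModule.map S f).extendScalarsOfIsLocalization S (Localization S)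
  let g' : LocalizedModule S N₂ →ₗ[Localization S] LocalizedModule S N₃ :=
    (LocalizedModule.map S g).extendScalarsOfIsLocalization S (Localization S)
  have hfg' : Function.Exact f' g' := LocalizedModule.map_exact S f g hfg
  have hf' : Function.Injective f' := LocalizedModule.map_injective S f hf
  have hg' : Function.Surjective g' := LocalizedModule.map_surjective S g hg
  refine ⟨ModuleCat.shortComplexOfCompEqZero f' g'
    (by ext x; simpa using hfg'.apply_apply_eq_zero x), ?_, rfl, rfl, rfl⟩
  exact ModuleCat.shortComplex_shortExact _ hfg' hf' hg'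

theorem exists_smul_eq_zero_of_pd (p : Ideal R) [p.IsPrime] :
    ∀ (h : ℕ) (M : Type u) [AddCommGroup M] [Module R M] [Module.Finite R M]
      (_ : HasProjectiveDimensionLE (ModuleCat.of (Localization.AtPrime p)
        (LocalizedModule p.primeCompl M)) h),
      ∃ s : R, s ∉ p ∧ ∀ (b : Ideal R) (i : ℕ),
        ((i + h : ℕ) : ℕ∞) < LocCoh.idealDepth b R →
        ∀ x : HH b (ModuleCat.of R M) i, s • x = 0 := by
  intro h
  induction h with
  | zero =>
    intro M _ _ _ hpd
    have h1 : Projective (ModuleCat.of (Localization.AtPrime p)
        (LocalizedModule p.primeCompl M)) :=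
      (projective_iff_hasProjectiveDimensionLE_zero _).2 hpd
    have hproj : Module.Projective (Localization p.primeCompl)
        (LocalizedModule p.primeCompl M) := (IsProjective.iff_projective _).2 h1
    obtain ⟨n, s, hs, α, β, hαβ⟩ := exists_factor p.primeCompl M
    refine ⟨s, hs, fun b i hi x => ?_⟩
    rw [add_zero] at hi
    have hsub : Subsingleton (HH b (ModuleCat.of R R) i) :=
      HH.subsingleton_of_lt_idealDepth b R i hi
    have h1 := smul_eq_zero_of_factor b i 1 (fun y => Subsingleton.elim _ _) M n s α β hαβ x
    rwa [one_mul] at h1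
  | succ h ih =>
    intro M _ _ _ hpd
    obtain ⟨n, π, hπ⟩ := Module.Finite.exists_fin' R M
    let K : Submodule R (Fin n → R) := LinearMap.ker π
    have hex : Function.Exact K.subtype π := LinearMap.exact_subtype_ker_map π
    have hS := sesOf_shortExact K.subtype π hex (Submodule.injective_subtype _) hπ
    -- projective dimension of the kernel
    obtain ⟨T, hT, h1, h2, h3⟩ := loc_shortExact p.primeCompl K.subtype π hex
      (Submodule.injective_subtype _) hπ
    have hfree : Module.Free (Localization p.primeCompl)
        (LocalizedModule p.primeCompl (Fin n → R)) :=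
      Module.free_of_isLocalizedModule p.primeCompl
        (LocalizedModule.mkLinearMap p.primeCompl (Fin n → R))
    have hprojT : Projective T.X₂ := by
      rw [h2]
      exact (IsProjective.iff_projective _).1 inferInstance
    have hpdK : HasProjectiveDimensionLE (ModuleCat.of (Localization.AtPrime p)
        (LocalizedModule p.primeCompl K)) h := by
      have h3' : HasProjectiveDimensionLT T.X₃ (h + 2) := by
        rw [h3]; exact hpd
      have := (hT.hasProjectiveDimensionLT_X₃_iff h hprojT).1 h3'
      rw [h1] at this
      exact this
    obtain ⟨s, hs, hsK⟩ := ih K hpdK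
    refine ⟨s, hs, fun b i hi x => ?_⟩
    have hi1 : (((i + 1) + h : ℕ) : ℕ∞) < LocCoh.idealDepth b R := by
      have : i + 1 + h = i + (h + 1) := by omega
      rw [this]; exact hi
    have hi0 : (i : ℕ∞) < LocCoh.idealDepth b R :=
      lt_of_le_of_lt (by exact_mod_cast Nat.le_add_right i (h + 1)) hi
    have hδ : HH.δ b hS i (s • x) = 0 := by
      rw [map_smul]
      exact hsK b (i + 1) hi1 _
    obtain ⟨y, hy⟩ := HH.exact₃ b hS i _ hδ
    have hsub : Subsingleton (HH b (ModuleCat.of R R) i) :=
      HH.subsingleton_of_lt_idealDepth b R i hi0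
    have hy0 : y = 0 := by
      have := smul_eq_zero_pi b i 1 (fun z => Subsingleton.elim _ _) n y
      rwa [one_smul] at this
    rw [← hy, hy0, map_zero]

end Groth.Agent.Lib.Helper20.LCFactor
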