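import Mathlib

/-!
# Helper20: dimension of a stalk = height of the prime in an affine chart
(F for helper1, S14335)
-/

set_option autoImplicit false
set_option linter.style.haveILetI false
universe u
open CategoryTheory CategoryTheory.Limits AlgebraicGeometry Opposite

namespace Groth.Agent.Lib.Helper20.CIDimF

/-- (F) [Mathlib only] dimension of the stalk = height of the prime in an affine chart. -/
theorem ringKrullDim_stalk_eq_height {P : Scheme.{u}} (V : P.affineOpens) (ξ : P) (hξ : ξ ∈ V.1) :
    ringKrullDim (P.presheaf.stalk ξ) = (V.2.primeIdealOf ⟨ξ, hξ⟩).asIdeal.height := by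
  letI : Algebra Γ(P, V.1) (P.presheaf.stalk ξ) :=
    TopCat.Presheaf.algebra_section_stalk P.presheaf (⟨ξ, hξ⟩ : V.1)
  haveI := V.2.isLocalization_stalk ⟨ξ, hξ⟩
  exact IsLocalization.AtPrime.ringKrullDim_eq_height (V.2.primeIdealOf ⟨ξ, hξ⟩).asIdeal
    (P.presheaf.stalk ξ)

end Groth.Agent.Lib.Helper20.CIDimF
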