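import Mathlib
import Groth.Prelude.Def_CAlg
import Groth.Prelude.Def_EGA4b
import Groth.Agent.Lib.Helper4.Depth
import Groth.Agent.Lib.Helper4.Depth2

/-!
# Depth of modules filtered by free modules over a quotient; normal flatness along a nilpotent ideal
-/

set_option autoImplicit false

universe u

open LocCoh Groth.Agent.Lib.Helper4

namespace Groth.Agent.Lib.Helper20.NormFlat

variable {R : Type u} [CommRing R] [IsNoetherianRing R]

/-- depth in a short exact sequence whose outer terms have depth `t` or vanish. -/
lemma idealDepth_eq_of_ses (J : Ideal R) (t : ℕ∞) {N' N N'' : Type u}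
    [AddCommGroup N'] [Module R N'] [Module.Finite R N']
    [AddCommGroup N] [Module R N] [Module.Finite R N]
    [AddCommGroup N''] [Module R N''] [Module.Finite R N'']
    (f : N' →ₗ[R] N) (g : N →ₗ[R] N'') (hf : Function.Injective f)
    (hg : Function.Surjective g) (hfg : Function.Exact f g)
    (h' : Subsingleton N' ∨ idealDepth J N' = t) (h'' : Subsingleton N'' ∨ idealDepth J N'' = t)
    [Nontrivial N] : idealDepth J N = t := by
  obtain ⟨h1, h2, h3⟩ := idealDepth_shortExact J f g hf hg hfg
  by_cases hs' : Subsingleton N'
  · -- `g` is bijective
    have hginj : Function.Injective g := by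
      rw [injective_iff_map_eq_zero]
      intro x hx
      obtain ⟨y, rfl⟩ := (hfg x).1 hx
      rw [Subsingleton.elim y 0, map_zero]
    let e : N ≃ₗ[R] N'' := LinearEquiv.ofBijective g ⟨hginj, hg⟩
    have : Nontrivial N'' := e.symm.toEquiv.nontrivial
    rcases h'' with h'' | h''
    · exact absurd h'' (not_subsingleton N'')
    · rw [idealDepth_congr J e, h'']
  · have hd' : idealDepth J N' = t := by
      rcases h' with h' | h'
      · exact absurd h' hs'
      · exact h'
    by_cases hs'' : Subsingleton N''
    · have hfsurj : Function.Surjective f := by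
        intro x
        exact (hfg x).1 (Subsingleton.elim _ _)
      let e : N' ≃ₗ[R] N := LinearEquiv.ofBijective f ⟨hf, hfsurj⟩
      rw [← idealDepth_congr J e, hd']
    · have hd'' : idealDepth J N'' = t := by
        rcases h'' with h'' | h''
        · exact absurd h'' hs''
        · exact h''
      rw [hd', hd''] at h1
      rw [hd', hd''] at h3
      rw [min_self] at h1
      apply le_antisymm _ h1
      by_cases ht : t = ⊤
      · rw [ht]; exact le_top
      · by_contra hlt
        push Not at hlt
        have h4 : t < t + 1 := by
          exact ENat.lt_add_one_iff ht |>.2 le_rfl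
        have h5 : t < min (idealDepth J N) (t + 1) := lt_min hlt h4
        exact absurd h3 (not_le.2 h5)

/-- depth of a product. -/
lemma idealDepth_prod (J : Ideal R) (t : ℕ∞) {N P : Type u}
    [AddCommGroup N] [Module R N] [Module.Finite R N]
    [AddCommGroup P] [Module R P] [Module.Finite R P]
    (hN : idealDepth J N = t) (hP : Subsingleton P ∨ idealDepth J P = t) [Nontrivial N] :
    idealDepth J (N × P) = t := by
  have : Nontrivial (N × P) := inferInstance
  exact idealDepth_eq_of_ses J t (LinearMap.inl R N P) (LinearMap.snd R N P)
    LinearMap.inl_injective LinearMap.snd_surjective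
    (by
      intro x
      constructor
      · intro hx
        exact ⟨x.1, Prod.ext rfl (by simpa using hx.symm)⟩
      · rintro ⟨y, rfl⟩
        simp)
    (Or.inr hN) hP

/-- depth of a free module of positive rank over `N`. -/
lemma idealDepth_pi (J : Ideal R) {N : Type u} [AddCommGroup N] [Module R N] [Module.Finite R N]
    [Nontrivial N] : ∀ r : ℕ, idealDepth J (Fin (r + 1) → N) = idealDepth J N := by
  intro r
  induction r with
  | zero =>
    exact idealDepth_congr J (LinearEquiv.funUnique (Fin 1) R N)
  | succ r ih =>
    have e := Fin.consLinearEquiv R (fun _ : Fin (r + 1 + 1) => N)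
    rw [← idealDepth_congr J e]
    exact idealDepth_prod J _ rfl (Or.inr ih)

end Groth.Agent.Lib.Helper20.NormFlat
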