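import Mathlib
import Groth.Prelude
import Groth.Agent.Lib.Helper3.GlobGen

/-!
# Pushforward along a closed immersion preserves "spanned by global sections" (helper20, for helper1 / S17288)
-/

set_option autoImplicit false
set_option linter.style.haveILetI false
universe u

open CategoryTheory CategoryTheory.Limits AlgebraicGeometry Opposite TopologicalSpace Scheme.Modules
open Groth.Agent.Lib.Helper3 Groth.Agent.Lib.Helper3.QCSec

namespace Groth.Agent.Lib.Helper20.SpannedPush

/-- a section of `i_* H` over `U`, seen as a section of `H` over `i⁻¹ U`. -/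
def asPull {Z X : Scheme.{u}} (i : Z ⟶ X) (H : Z.Modules) (U : X.Opens)
    (k : Γ((Scheme.Modules.pushforward i).obj H, U)) : Γ(H, i ⁻¹ᵁ U) := k

/-- a section of `H` over `i⁻¹ U`, seen as a section of `i_* H` over `U`. -/
def asPush {Z X : Scheme.{u}} (i : Z ⟶ X) (H : Z.Modules) (U : X.Opens)
    (k : Γ(H, i ⁻¹ᵁ U)) : Γ((Scheme.Modules.pushforward i).obj H, U) := k

theorem asPush_smul {Z X : Scheme.{u}} (i : Z ⟶ X) (H : Z.Modules) (U : X.Opens) (a : Γ(X, U))
    (k : Γ(H, i ⁻¹ᵁ U)) :
    asPush i H U ((i.app U).hom a • k) = a • asPush i H U k := rfl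

/-- (ZB1) -/
theorem isSpanned_pushforward {Z X : Scheme.{u}} (i : Z ⟶ X) [IsClosedImmersion i]
    (G : Z.Modules) [G.IsQuasicoherent] (h : GlobGen.IsSpanned G) :
    GlobGen.IsSpanned ((Scheme.Modules.pushforward i).obj G) := by
  classical
  obtain ⟨I, σ, hσ⟩ := h
  refine ⟨I, fun j => (show Γ((Scheme.Modules.pushforward i).obj G, ⊤) from σ j), fun x => ?_⟩
  by_cases hx : x ∈ Set.range i.base
  · obtain ⟨z, rfl⟩ := hx
    obtain ⟨V, hV, hzV, hspan⟩ := hσ z
    obtain ⟨_, ⟨U₀, hU₀, rfl⟩, hxU₀, -⟩ :=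
      X.isBasis_affineOpens.exists_subset_of_mem_open (Set.mem_univ (i.base z)) isOpen_univ
    have hV₀ : IsAffineOpen (i ⁻¹ᵁ U₀) := hU₀.preimage i
    obtain ⟨g₀, hh, hD, hzD⟩ := exists_basicOpen_le_affine_inter hV₀ hV z ⟨hxU₀, hzV⟩
    obtain ⟨f, hf⟩ := i.app_surjective U₀ hU₀ g₀
    have hU : IsAffineOpen (X.basicOpen f) := hU₀.basicOpen f
    have hpre : i ⁻¹ᵁ (X.basicOpen f) = Z.basicOpen hh := by
      rw [Scheme.preimage_basicOpen, ← hD]
      congr 1
    have hxU : i.base z ∈ X.basicOpen f := by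
      have : z ∈ i ⁻¹ᵁ (X.basicOpen f) := by rw [hpre, ← hD]; exact hzD
      exact this
    have hDV : i ⁻¹ᵁ (X.basicOpen f) ≤ V := by
      rw [hpre]; exact Z.basicOpen_le hh
    refine ⟨X.basicOpen f, hU, hxU, ?_⟩
    have hspanD := QCExtend.span_res_eq_top G hV hh hpre hDV _ hspan
    rw [eq_top_iff]
    intro t _
    have ht : asPull i G (X.basicOpen f) t ∈
        Submodule.span Γ(Z, i ⁻¹ᵁ (X.basicOpen f))
          (res G hDV '' Set.range (fun j => res G (le_top : V ≤ ⊤) (σ j))) := by
      rw [hspanD]; exact Submodule.mem_top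
    show asPush i G (X.basicOpen f) (asPull i G (X.basicOpen f) t) ∈ _
    refine Submodule.span_induction
      (p := fun t' _ => asPush i G (X.basicOpen f) t' ∈
        Submodule.span Γ(X, X.basicOpen f)
          (Set.range (fun j => res ((Scheme.Modules.pushforward i).obj G)
            (le_top : X.basicOpen f ≤ ⊤)
            (show Γ((Scheme.Modules.pushforward i).obj G, ⊤) from σ j)))) ?_ ?_ ?_ ?_ ht
    · rintro _ ⟨_, ⟨j, rfl⟩, rfl⟩
      apply Submodule.subset_span
      refine ⟨j, ?_⟩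
      show G.presheaf.map _ _ = res G hDV (res G (le_top : V ≤ ⊤) (σ j))
      rw [res_res]
      rfl
    · exact Submodule.zero_mem _
    · intro a b _ _ ha hb
      exact Submodule.add_mem _ ha hb
    · intro c t' _ ht'
      obtain ⟨a, ha⟩ := i.app_surjective (X.basicOpen f) hU c
      have hsm : asPush i G (X.basicOpen f) (c • t') = a • asPush i G (X.basicOpen f) t' := by
        rw [← ha]; exact asPush_smul i G (X.basicOpen f) a t'
      rw [hsm]
      exact Submodule.smul_mem _ a ht'
  · -- `x` outside the closed range of `i`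
    have hcl : IsClosed (Set.range i.base) := i.isClosedEmbedding.isClosed_range
    obtain ⟨_, ⟨U, hU, rfl⟩, hxU, hUW⟩ :=
      X.isBasis_affineOpens.exists_subset_of_mem_open (show x ∈ (Set.range i.base)ᶜ from hx)
        hcl.isOpen_compl
    refine ⟨U, hU, hxU, ?_⟩
    have hbot : i ⁻¹ᵁ U = ⊥ := by
      ext z
      simp only [Opens.coe_bot, Set.mem_empty_iff_false, iff_false]
      intro hz
      exact hUW hz ⟨z, rfl⟩
    haveI : Subsingleton Γ((Scheme.Modules.pushforward i).obj G, U) := by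
      show Subsingleton Γ(G, i ⁻¹ᵁ U)
      rw [hbot]
      exact Module.subsingleton Γ(Z, ⊥) _
    exact Subsingleton.elim _ _

end Groth.Agent.Lib.Helper20.SpannedPush
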