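import Mathlib
import Groth.Agent.Lib.Helper27.KosH1

/-!
# Helper20: first Koszul homology (by hand, `Helper27.KosH1`) commutes with flat base change
(T2 for helper10, S5179)
-/

set_option autoImplicit false
set_option linter.style.haveILetI false
universe u
open IsLocalRing Groth.Agent.Lib.Helper27.KosH1 TensorProduct

namespace Groth.Agent.Lib.Helper20.KosH1BC

section Bilin

variable {C : Type u} [CommRing C] {ι : Type u} [Fintype ι]

/-- A bilinear map on `ι → C` with values in a submodule on the standard basis has all values in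
the submodule. -/
lemma bilin_mem_of_single [DecidableEq ι] (β : (ι → C) →ₗ[C] (ι → C) →ₗ[C] (ι → C))
    (R' : Submodule C (ι → C))
    (h : ∀ i j, β (Pi.single i 1) (Pi.single j 1) ∈ R') (u v : ι → C) : β u v ∈ R' := by
  have hspan : Submodule.span C (Set.range (fun i : ι => (Pi.single i (1 : C) : ι → C))) = ⊤ := by
    have := (Pi.basisFun C ι).span_eq
    convert this using 3
    ext i j
    simp [Pi.basisFun_apply]
  have h1 : ∀ i (v : ι → C), β (Pi.single i 1) v ∈ R' := by
    intro i v
    have hle : Submodule.span C (Set.range (fun j : ι => (Pi.single j (1 : C) : ι → C))) ≤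
        R'.comap (β (Pi.single i 1)) := by
      rw [Submodule.span_le]
      rintro _ ⟨j, rfl⟩
      exact h i j
    rw [hspan] at hle
    exact hle (Submodule.mem_top : v ∈ ⊤)
  have hle : Submodule.span C (Set.range (fun j : ι => (Pi.single j (1 : C) : ι → C))) ≤
      R'.comap (β.flip v) := by
    rw [Submodule.span_le]
    rintro _ ⟨j, rfl⟩
    exact h1 j v
  rw [hspan] at hle
  exact hle (Submodule.mem_top : u ∈ ⊤)

/-- The Koszul boundary expression as a bilinear map. -/
noncomputable def kosBil (lC : (ι → C) →ₗ[C] C) : (ι → C) →ₗ[C] (ι → C) →ₗ[C] (ι → C) :=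
  (LinearMap.lsmul C (ι → C)).comp lC - ((LinearMap.lsmul C (ι → C)).comp lC).flip

lemma kosBil_apply (lC : (ι → C) →ₗ[C] C) (u v : ι → C) :
    kosBil lC u v = lC u • v - lC v • u := by
  simp [kosBil]

end Bilin

lemma lTensor_mkQ_eq_zero_iff {A C : Type u} [CommRing A] [CommRing C] [Algebra A C]
    {N : Type u} [AddCommGroup N] [Module A N] (B : Submodule A N) (t : C ⊗[A] N) :
    LinearMap.lTensor C B.mkQ t = 0 ↔ t ∈ LinearMap.range (LinearMap.lTensor C B.subtype) := by
  have hex := lTensor_exact C (LinearMap.exact_subtype_mkQ B) (Submodule.mkQ_surjective B)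
  exact hex t

theorem nonempty_baseChange_H_equiv {A C : Type u} [CommRing A] [CommRing C] [Algebra A C]
    [Module.Flat A C] {ι : Type u} [Fintype ι] (y : ι → A) :
    Nonempty (TensorProduct A C (H (Fintype.linearCombination A y)) ≃ₗ[C]
      H (Fintype.linearCombination C (fun i => algebraMap A C (y i)))) := by
  classical
  set l : (ι → A) →ₗ[A] A := Fintype.linearCombination A y with hl
  set lC : (ι → C) →ₗ[C] C := Fintype.linearCombination C (fun i => algebraMap A C (y i)) with hlC
  let Φ : C ⊗[A] (ι → A) ≃ₗ[C] (ι → C) := TensorProduct.piScalarRight A C C ι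
  let lT : C ⊗[A] (ι → A) →ₗ[C] C ⊗[A] A := AlgebraTensorModule.lTensor C C l
  have hΦ : ∀ t, lC (Φ t) = AlgebraTensorModule.rid A C C (lT t) := by
    intro t
    induction t using TensorProduct.induction_on with
    | zero => simp
    | tmul c f =>
      simp only [Φ, lT, TensorProduct.piScalarRight_apply, TensorProduct.piScalarRightHom_tmul,
        AlgebraTensorModule.lTensor_tmul, AlgebraTensorModule.rid_tmul, hl, hlC,
        Fintype.linearCombination_apply, smul_eq_mul, Finset.sum_smul]
      refine Finset.sum_congr rfl fun i _ => ?_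
      simp only [Algebra.smul_def, map_mul]
      ring
    | add a b ha hb => simp only [map_add, ha, hb]
  have hmap : (LinearMap.ker lT).map (Φ : C ⊗[A] (ι → A) →ₗ[C] (ι → C)) = LinearMap.ker lC := by
    ext x
    constructor
    · rintro ⟨t, ht, rfl⟩
      have ht' : lT t = 0 := LinearMap.mem_ker.mp ht
      rw [LinearMap.mem_ker]
      show lC (Φ t) = 0
      rw [hΦ, ht', map_zero]
    · intro hx
      refine ⟨Φ.symm x, ?_, by simp⟩
      rw [LinearMap.mem_ker] at hx
      show lT (Φ.symm x) = 0
      apply (AlgebraTensorModule.rid A C C).injective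
      rw [← hΦ, map_zero]
      simpa using hx
  let e₁ : C ⊗[A] LinearMap.ker l ≃ₗ[C] LinearMap.ker lT := LinearMap.tensorKerEquiv C C l
  let e₂ : C ⊗[A] LinearMap.ker l ≃ₗ[C] LinearMap.ker lC :=
    e₁.trans (LinearEquiv.ofSubmodules Φ _ _ hmap)
  have he₂ : ∀ (c : C) (z : LinearMap.ker l),
      ((e₂ (c ⊗ₜ z) : LinearMap.ker lC) : ι → C) = fun i => (z : ι → A) i • c := by
    intro c z
    show Φ ((e₁ (c ⊗ₜ z) : LinearMap.ker lT) : C ⊗[A] (ι → A)) = _
    have h1 : ((e₁ (c ⊗ₜ z) : LinearMap.ker lT) : C ⊗[A] (ι → A)) = c ⊗ₜ (z : ι → A) := by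
      rw [show e₁ (c ⊗ₜ z) = LinearMap.tensorKer C C l (c ⊗ₜ z) from
        LinearMap.tensorKerEquiv_apply C C l _]
      exact LinearMap.tensorKer_tmul C C l c z
    rw [h1]
    simp only [Φ, TensorProduct.piScalarRight_apply, TensorProduct.piScalarRightHom_tmul]
  -- the comparison map on `F`
  have hφBd : ∀ b : ι → A, b ∈ Bd l → (fun i => algebraMap A C (b i)) ∈ Bd lC := by
    intro b hb
    induction hb using Submodule.span_induction with
    | mem z hz =>
      obtain ⟨u, v, rfl⟩ := hz
      have hlu : ∀ w : ι → A, algebraMap A C (l w) = lC (fun i => algebraMap A C (w i)) := by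
        intro w
        simp only [hl, hlC, Fintype.linearCombination_apply, smul_eq_mul, map_sum, map_mul]
      have : (fun i => algebraMap A C ((l u • v - l v • u) i)) =
          lC (fun i => algebraMap A C (u i)) • (fun i => algebraMap A C (v i)) -
            lC (fun i => algebraMap A C (v i)) • (fun i => algebraMap A C (u i)) := by
        funext i
        simp only [Pi.sub_apply, Pi.smul_apply, smul_eq_mul, map_sub, map_mul, hlu]
      rw [this]
      exact gen_mem_Bd lC _ _
    | zero =>
      have : (fun i => algebraMap A C ((0 : ι → A) i)) = (0 : ι → C) := by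
        funext i; simp
      rw [this]; exact Submodule.zero_mem _
    | add a b _ _ ha hb =>
      have : (fun i => algebraMap A C ((a + b) i)) =
          (fun i => algebraMap A C (a i)) + (fun i => algebraMap A C (b i)) := by
        funext i; simp
      rw [this]; exact Submodule.add_mem _ ha hb
    | smul r a _ ha =>
      have : (fun i => algebraMap A C ((r • a) i)) =
          algebraMap A C r • (fun i => algebraMap A C (a i)) := by
        funext i; simp
      rw [this]; exact Submodule.smul_mem _ _ ha
  -- two surjections from `C ⊗ ker l`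
  let BdA : Submodule A (LinearMap.ker l) := (Bd l).submoduleOf (LinearMap.ker l)
  let BdC : Submodule C (LinearMap.ker lC) := (Bd lC).submoduleOf (LinearMap.ker lC)
  let p₁ : C ⊗[A] LinearMap.ker l →ₗ[C] C ⊗[A] H l := LinearMap.baseChange C BdA.mkQ
  let p₂ : C ⊗[A] LinearMap.ker l →ₗ[C] H lC := BdC.mkQ ∘ₗ e₂.toLinearMap
  have hp₁ : Function.Surjective p₁ := by
    have := LinearMap.lTensor_surjective C (Submodule.mkQ_surjective BdA)
    intro x
    obtain ⟨t, ht⟩ := this x
    exact ⟨t, ht⟩
  have hp₂ : Function.Surjective p₂ := by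
    intro x
    obtain ⟨z, rfl⟩ := Submodule.mkQ_surjective BdC x
    exact ⟨e₂.symm z, by simp [p₂]⟩
  have hker₁ : ∀ t, p₁ t = 0 ↔ t ∈ LinearMap.range (LinearMap.lTensor C BdA.subtype) := by
    intro t
    exact lTensor_mkQ_eq_zero_iff BdA t
  have hker₂ : ∀ t, p₂ t = 0 ↔ ((e₂ t : LinearMap.ker lC) : ι → C) ∈ Bd lC := by
    intro t
    show BdC.mkQ (e₂ t) = 0 ↔ _
    rw [Submodule.mkQ_apply, Submodule.Quotient.mk_eq_zero]
    rfl
  have hker : LinearMap.ker p₁ = LinearMap.ker p₂ := by
    apply le_antisymm
    · intro t ht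
      rw [LinearMap.mem_ker, hker₁] at ht
      obtain ⟨s, rfl⟩ := ht
      rw [LinearMap.mem_ker, hker₂]
      induction s using TensorProduct.induction_on with
      | zero => simp
      | tmul c b =>
        rw [LinearMap.lTensor_tmul, he₂]
        have hb : ((b : LinearMap.ker l) : ι → A) ∈ Bd l := b.2
        have := Submodule.smul_mem _ c (hφBd _ hb)
        convert this using 1
        funext i
        simp [Algebra.smul_def, mul_comm]
      | add a b ha hb =>
        rw [map_add, map_add]
        exact Submodule.add_mem _ ha hb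
    · intro t ht
      rw [LinearMap.mem_ker, hker₂] at ht
      let R' : Submodule C (ι → C) :=
        (LinearMap.ker p₁).map ((LinearMap.ker lC).subtype ∘ₗ e₂.toLinearMap)
      have hR' : Bd lC ≤ R' := by
        rw [Bd, Submodule.span_le]
        rintro z ⟨u, v, rfl⟩
        rw [← kosBil_apply]
        refine bilin_mem_of_single (kosBil lC) R' ?_ u v
        intro i j
        rw [kosBil_apply]
        have hb : l (Pi.single i 1) • (Pi.single j 1 : ι → A) -
            l (Pi.single j 1) • (Pi.single i 1 : ι → A) ∈ Bd l := gen_mem_Bd l _ _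
        let b : BdA := ⟨⟨_, Bd_le_ker l hb⟩, hb⟩
        refine ⟨(1 : C) ⊗ₜ[A] (b : LinearMap.ker l), ?_, ?_⟩
        · show p₁ _ = 0
          rw [hker₁]
          exact ⟨(1 : C) ⊗ₜ[A] b, by simp⟩
        · rw [LinearMap.comp_apply]
          simp only [LinearEquiv.coe_coe, Submodule.subtype_apply]
          rw [he₂]
          funext k
          rw [← Algebra.algebraMap_eq_smul_one]
          simp only [b, hl, hlC, Fintype.linearCombination_apply_single, Pi.sub_apply,
            Pi.smul_apply, smul_eq_mul, one_mul, map_sub, map_mul, Pi.single_apply]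
          split_ifs <;> simp
      obtain ⟨t', ht', hte⟩ := hR' ht
      have : e₂ t' = e₂ t := Subtype.ext hte
      rw [← e₂.injective this]
      exact ht'
  exact ⟨(LinearMap.quotKerEquivOfSurjective p₁ hp₁).symm.trans
    ((Submodule.quotEquivOfEq _ _ hker).trans (LinearMap.quotKerEquivOfSurjective p₂ hp₂))⟩

end Groth.Agent.Lib.Helper20.KosH1BC
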