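import Mathlib

/-!
# Primes with the same homogeneous core in a `ℤ`-graded ring

If `𝔭` is a homogeneous prime and `P ⊇ 𝔭` a prime all of whose homogeneous elements lie in `𝔭`,
there is no prime strictly between `𝔭` and `P`.
-/

set_option autoImplicit false
set_option linter.unusedSectionVars false
set_option linter.unusedVariables false
set_option linter.style.haveILetI false

universe u

open DirectSum

namespace Groth.Agent.Lib.Helper20.GrHeight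

variable {R : Type u} [CommRing R] (𝒜 : ℤ → AddSubgroup R) [GradedRing 𝒜]

/-- the homogeneous component. -/
noncomputable def comp (x : R) (n : ℤ) : R := ((decompose 𝒜 x n : 𝒜 n) : R)

lemma comp_mem (x : R) (n : ℤ) : comp 𝒜 x n ∈ 𝒜 n := (decompose 𝒜 x n).2

lemma comp_add (x y : R) (n : ℤ) : comp 𝒜 (x + y) n = comp 𝒜 x n + comp 𝒜 y n := by
  unfold comp
  rw [decompose_add, DirectSum.add_apply, AddSubgroup.coe_add]

lemma comp_sub (x y : R) (n : ℤ) : comp 𝒜 (x - y) n = comp 𝒜 x n - comp 𝒜 y n := by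
  unfold comp
  rw [decompose_sub, DirectSum.sub_apply, AddSubgroup.coe_sub]

lemma comp_zero (n : ℤ) : comp 𝒜 (0 : R) n = 0 := by
  unfold comp
  rw [decompose_zero, DirectSum.zero_apply, AddSubgroup.coe_zero]

lemma comp_of_mem_same {x : R} {n : ℤ} (hx : x ∈ 𝒜 n) : comp 𝒜 x n = x :=
  decompose_of_mem_same 𝒜 hx

lemma comp_of_mem_ne {x : R} {n m : ℤ} (hx : x ∈ 𝒜 n) (h : n ≠ m) : comp 𝒜 x m = 0 :=
  decompose_of_mem_ne 𝒜 hx h

lemma comp_hom_mul {s : R} {σ : ℤ} (hs : s ∈ 𝒜 σ) (x : R) (n : ℤ) :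
    comp 𝒜 (s * x) n = s * comp 𝒜 x (n - σ) := by
  have h := DirectSum.coe_decompose_mul_add_of_left_mem 𝒜 (j := n - σ) (b := x) hs
  rw [add_sub_cancel] at h
  exact h

lemma exists_sum_comp (x : R) : ∃ s : Finset ℤ, x = ∑ n ∈ s, comp 𝒜 x n ∧
    ∀ n, n ∉ s → comp 𝒜 x n = 0 := by
  classical
  refine ⟨(decompose 𝒜 x).support, (DirectSum.sum_support_decompose 𝒜 x).symm, ?_⟩
  intro n hn
  rw [DFinsupp.notMem_support_iff] at hn
  unfold comp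
  rw [hn]
  rfl

variable (𝔭 : Ideal R)

/-- modulo `𝔭`, the element `x` is supported in degrees `[lo, hi]`. -/
def Sup (x : R) (lo hi : ℤ) : Prop := ∀ n : ℤ, (n < lo ∨ hi < n) → comp 𝒜 x n ∈ 𝔭

variable {𝒜 𝔭}

lemma Sup.mono {x : R} {lo hi lo' hi' : ℤ} (h : Sup 𝒜 𝔭 x lo hi) (h1 : lo' ≤ lo) (h2 : hi ≤ hi') :
    Sup 𝒜 𝔭 x lo' hi' := by
  intro n hn
  apply h
  rcases hn with hn | hn
  · left; omega
  · right; omega

lemma Sup.add {x y : R} {lo hi : ℤ} (hx : Sup 𝒜 𝔭 x lo hi) (hy : Sup 𝒜 𝔭 y lo hi) :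
    Sup 𝒜 𝔭 (x + y) lo hi := by
  intro n hn
  rw [comp_add]
  exact 𝔭.add_mem (hx n hn) (hy n hn)

lemma sup_zero (lo hi : ℤ) : Sup 𝒜 𝔭 (0 : R) lo hi := by
  intro n _
  rw [comp_zero]
  exact 𝔭.zero_mem

lemma sup_of_mem {x : R} {n : ℤ} (hx : x ∈ 𝒜 n) : Sup 𝒜 𝔭 x n n := by
  intro m hm
  rw [comp_of_mem_ne 𝒜 hx (by rcases hm with h | h <;> omega)]
  exact 𝔭.zero_mem

lemma Sup.mem_of_lt {x : R} {lo hi : ℤ} (h : Sup 𝒜 𝔭 x lo hi) (hlt : hi < lo) : x ∈ 𝔭 := by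
  obtain ⟨s, hs, -⟩ := exists_sum_comp 𝒜 x
  rw [hs]
  refine 𝔭.sum_mem fun n _ => h n ?_
  by_cases hn : n < lo
  · exact Or.inl hn
  · right; omega

variable (𝒜 𝔭) in
lemma exists_sup (x : R) : ∃ (lo : ℤ) (L : ℕ), Sup 𝒜 𝔭 x lo (lo + L) := by
  classical
  obtain ⟨s, -, hs⟩ := exists_sum_comp 𝒜 x
  obtain ⟨hi, hhi⟩ := s.exists_le
  obtain ⟨nlo, hlo⟩ := (s.image (fun n => -n)).exists_le
  refine ⟨-nlo, (hi + nlo).toNat, ?_⟩
  intro n hn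
  by_cases hmem : n ∈ s
  · exfalso
    have h1 := hhi n hmem
    have h2 := hlo (-n) (Finset.mem_image_of_mem _ hmem)
    have h3 := Int.self_le_toNat (hi + nlo)
    rcases hn with hn | hn <;> omega
  · rw [hs n hmem]
    exact 𝔭.zero_mem

section main

variable [h𝔭p : 𝔭.IsPrime] (P Q : Ideal R) [hP : P.IsPrime] [hQ : Q.IsPrime]
  (h𝔭P : 𝔭 ≤ P) (hcore : ∀ (n : ℤ) (x : R), x ∈ 𝒜 n → x ∈ P → x ∈ 𝔭)

include h𝔭p hP h𝔭P hcore in
/-- pseudo-division by an element of minimal width. -/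
theorem exists_pseudo_div (g₀ : R) (hg₀P : g₀ ∈ P) (a₀ : ℤ) (L₀ : ℕ) (hL₀ : 1 ≤ L₀)
    (hg₀ : Sup 𝒜 𝔭 g₀ a₀ (a₀ + L₀)) (ht : comp 𝒜 g₀ (a₀ + L₀) ∉ 𝔭)
    (hmin : ∀ L : ℕ, L < L₀ → ∀ p ∈ P, ∀ lo : ℤ, Sup 𝒜 𝔭 p lo (lo + L) → p ∈ 𝔭) :
    ∀ (L : ℕ) (p : R), p ∈ P → ∀ lo : ℤ, Sup 𝒜 𝔭 p lo (lo + L) →
      ∃ (s : R) (σ : ℤ) (u : R), s ∈ 𝒜 σ ∧ s ∉ 𝔭 ∧ s * p - u * g₀ ∈ 𝔭 ∧
        Sup 𝒜 𝔭 u (σ + lo - a₀) (σ + lo + L - (a₀ + L₀)) := by
  intro L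
  induction L using Nat.strong_induction_on with
  | _ L ih =>
    intro p hp lo hsup
    by_cases hL : L < L₀
    · refine ⟨1, 0, 0, SetLike.GradedOne.one_mem, ?_, ?_, sup_zero _ _⟩
      · exact fun h => h𝔭p.ne_top ((Ideal.eq_top_iff_one _).2 h)
      · rw [one_mul, zero_mul, sub_zero]
        exact hmin L hL p hp lo hsup
    · push Not at hL
      set b₀ : ℤ := a₀ + L₀ with hb₀
      set t : R := comp 𝒜 g₀ b₀ with htdef
      have htm : t ∈ 𝒜 b₀ := comp_mem 𝒜 g₀ b₀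
      set c : R := comp 𝒜 p (lo + L) with hcdef
      have hcm : c ∈ 𝒜 (lo + L) := comp_mem 𝒜 p (lo + L)
      set r : R := t * p - c * g₀ with hrdef
      have hrP : r ∈ P := P.sub_mem (P.mul_mem_left _ hp) (P.mul_mem_left _ hg₀P)
      have hL1 : 1 ≤ L := le_trans hL₀ hL
      have hrsup : Sup 𝒜 𝔭 r (b₀ + lo) (b₀ + lo + ((L - 1 : ℕ) : ℤ)) := by
        intro n hn
        rw [hrdef, comp_sub, comp_hom_mul 𝒜 htm, comp_hom_mul 𝒜 hcm]
        have hcast : ((L - 1 : ℕ) : ℤ) = (L : ℤ) - 1 := by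
          rw [Nat.cast_sub hL1]
          simp
        rw [hcast] at hn
        rcases hn with hn | hn
        · refine 𝔭.sub_mem (𝔭.mul_mem_left _ (hsup _ (Or.inl (by omega))))
            (𝔭.mul_mem_left _ (hg₀ _ (Or.inl ?_)))
          have : (L₀ : ℤ) ≤ L := by exact_mod_cast hL
          omega
        · by_cases hneq : n = b₀ + lo + L
          · have e1 : n - b₀ = lo + L := by omega
            have e2 : n - (lo + L) = b₀ := by omega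
            rw [e1, e2, ← hcdef, ← htdef, mul_comm t c, sub_self]
            exact 𝔭.zero_mem
          · refine 𝔭.sub_mem (𝔭.mul_mem_left _ (hsup _ (Or.inr (by omega))))
              (𝔭.mul_mem_left _ (hg₀ _ (Or.inr (by omega))))
      obtain ⟨s', σ', u', hs'm, hs'𝔭, hdiv, hu'⟩ := ih (L - 1) (by omega) r hrP (b₀ + lo) hrsup
      refine ⟨s' * t, σ' + b₀, s' * c + u', SetLike.GradedMul.mul_mem hs'm htm, ?_, ?_, ?_⟩
      · intro h
        rcases h𝔭p.mem_or_mem h with h | h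
        · exact hs'𝔭 h
        · exact ht h
      · have : s' * t * p - (s' * c + u') * g₀ = s' * r - u' * g₀ := by
          rw [hrdef]
          ring
        rw [this]
        exact hdiv
      · have hcast : ((L - 1 : ℕ) : ℤ) = (L : ℤ) - 1 := by
          rw [Nat.cast_sub hL1]
          simp
        rw [hcast] at hu'
        have hLL : (L₀ : ℤ) ≤ L := by exact_mod_cast hL
        refine Sup.add ?_ ?_
        · have hsc : s' * c ∈ 𝒜 (σ' + (lo + L)) := SetLike.GradedMul.mul_mem hs'm hcm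
          refine (sup_of_mem (𝔭 := 𝔭) hsc).mono ?_ ?_
          · omega
          · omega
        · refine hu'.mono ?_ ?_
          · omega
          · omega

include h𝔭p hP hQ h𝔭P hcore in
/-- **no prime lies strictly between a homogeneous prime `𝔭` and a prime `P` whose homogeneous
elements all lie in `𝔭`.** -/
theorem eq_of_between (h𝔭Q : 𝔭 < Q) (hQP : Q ≤ P) : Q = P := by
  classical
  -- minimal widths
  have hexQ : ∃ f, f ∈ Q ∧ f ∉ 𝔭 := by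
    by_contra hcon
    push Not at hcon
    exact h𝔭Q.not_ge (fun f hf => hcon f hf)
  have hexP : ∃ L : ℕ, ∃ g ∈ P, g ∉ 𝔭 ∧ ∃ lo : ℤ, Sup 𝒜 𝔭 g lo (lo + L) := by
    obtain ⟨f, hfQ, hf𝔭⟩ := hexQ
    obtain ⟨lo, L, hs⟩ := exists_sup 𝒜 𝔭 f
    exact ⟨L, f, hQP hfQ, hf𝔭, lo, hs⟩
  have hexQ' : ∃ L : ℕ, ∃ g ∈ Q, g ∉ 𝔭 ∧ ∃ lo : ℤ, Sup 𝒜 𝔭 g lo (lo + L) := by
    obtain ⟨f, hfQ, hf𝔭⟩ := hexQ
    obtain ⟨lo, L, hs⟩ := exists_sup 𝒜 𝔭 f
    exact ⟨L, f, hfQ, hf𝔭, lo, hs⟩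
  obtain ⟨g₀, hg₀P, hg₀𝔭, a₀, hg₀⟩ := Nat.find_spec hexP
  set L₀ := Nat.find hexP with hL₀def
  have hminP : ∀ L : ℕ, L < L₀ → ∀ p ∈ P, ∀ lo : ℤ, Sup 𝒜 𝔭 p lo (lo + L) → p ∈ 𝔭 := by
    intro L hL p hp lo hs
    by_contra hp𝔭
    exact Nat.find_min hexP hL ⟨p, hp, hp𝔭, lo, hs⟩
  have hL₀ : 1 ≤ L₀ := by
    by_contra hcon
    have h0 : L₀ = 0 := by omega
    rw [h0, Nat.cast_zero, add_zero] at hg₀
    apply hg₀𝔭
    have h1 : g₀ - comp 𝒜 g₀ a₀ ∈ 𝔭 := by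
      have hs : Sup 𝒜 𝔭 (g₀ - comp 𝒜 g₀ a₀) a₀ (a₀ - 1) := by
        intro n hn
        rw [comp_sub]
        by_cases hna : n = a₀
        · rw [hna, comp_of_mem_same 𝒜 (comp_mem 𝒜 g₀ a₀), sub_self]
          exact 𝔭.zero_mem
        · rw [comp_of_mem_ne 𝒜 (comp_mem 𝒜 g₀ a₀) (Ne.symm hna), sub_zero]
          exact hg₀ n (by rcases hn with h | h <;> [left; right] <;> omega)
      exact hs.mem_of_lt (by omega)
    have h2 : comp 𝒜 g₀ a₀ ∈ P := by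
      have := P.sub_mem hg₀P (h𝔭P h1)
      rwa [sub_sub_cancel] at this
    have h3 : comp 𝒜 g₀ a₀ ∈ 𝔭 := hcore a₀ _ (comp_mem 𝒜 g₀ a₀) h2
    have := 𝔭.add_mem h1 h3
    rwa [sub_add_cancel] at this
  have ht : comp 𝒜 g₀ (a₀ + L₀) ∉ 𝔭 := by
    intro ht
    have hs : Sup 𝒜 𝔭 g₀ a₀ (a₀ + ((L₀ - 1 : ℕ) : ℤ)) := by
      have hcast : ((L₀ - 1 : ℕ) : ℤ) = (L₀ : ℤ) - 1 := by
        rw [Nat.cast_sub hL₀]
        simp
      rw [hcast]
      intro n hn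
      by_cases hnb : n = a₀ + L₀
      · rw [hnb]
        exact ht
      · exact hg₀ n (by rcases hn with h | h <;> [left; right] <;> omega)
    exact hg₀𝔭 (hminP (L₀ - 1) (by omega) g₀ hg₀P a₀ hs)
  have hdiv := exists_pseudo_div P h𝔭P hcore g₀ hg₀P a₀ L₀ hL₀ hg₀ ht hminP
  -- homogeneous elements outside `𝔭` are outside `Q`
  have hsQ : ∀ (s : R) (σ : ℤ), s ∈ 𝒜 σ → s ∉ 𝔭 → s ∉ Q :=
    fun s σ hs hs𝔭 hsQ => hs𝔭 (hcore σ s hs (hQP hsQ))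
  by_cases hg₀Q : g₀ ∈ Q
  · apply le_antisymm hQP
    intro p hp
    obtain ⟨lo, L, hs⟩ := exists_sup 𝒜 𝔭 p
    obtain ⟨s, σ, u, hsm, hs𝔭, hd, -⟩ := hdiv L p hp lo hs
    have h1 : s * p ∈ Q := by
      have := Q.add_mem (h𝔭Q.le hd) (Q.mul_mem_left u hg₀Q)
      rwa [sub_add_cancel] at this
    rcases hQ.mem_or_mem h1 with h | h
    · exact absurd h (hsQ s σ hsm hs𝔭)
    · exact h
  · exfalso
    obtain ⟨f₀, hf₀Q, hf₀𝔭, c₀, hf₀⟩ := Nat.find_spec hexQ'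
    set M₀ := Nat.find hexQ' with hM₀def
    obtain ⟨s, σ, u, hsm, hs𝔭, hd, hu⟩ := hdiv M₀ f₀ (hQP hf₀Q) c₀ hf₀
    have h1 : u * g₀ ∈ Q := by
      have := Q.sub_mem (Q.mul_mem_left s hf₀Q) (h𝔭Q.le hd)
      rwa [sub_sub_cancel] at this
    have huQ : u ∈ Q := by
      rcases hQ.mem_or_mem h1 with h | h
      · exact h
      · exact absurd h hg₀Q
    have hu𝔭 : u ∉ 𝔭 := by
      intro hu𝔭
      have h2 : s * f₀ ∈ 𝔭 := by
        have := 𝔭.add_mem hd (𝔭.mul_mem_right g₀ hu𝔭)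
        rwa [sub_add_cancel] at this
      rcases h𝔭p.mem_or_mem h2 with h | h
      · exact hs𝔭 h
      · exact hf₀𝔭 h
    by_cases hlt : M₀ < L₀
    · apply hu𝔭
      refine hu.mem_of_lt ?_
      have : (M₀ : ℤ) < L₀ := by exact_mod_cast hlt
      omega
    · push Not at hlt
      have hs' : Sup 𝒜 𝔭 u (σ + c₀ - a₀) ((σ + c₀ - a₀) + ((M₀ - L₀ : ℕ) : ℤ)) := by
        rw [Nat.cast_sub hlt]
        refine hu.mono le_rfl ?_
        omega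
      exact Nat.find_min hexQ' (m := M₀ - L₀) (by omega) ⟨u, huQ, hu𝔭, _, hs'⟩

end main

end Groth.Agent.Lib.Helper20.GrHeight
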