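import Groth.Prelude.Def_GrLC
import Mathlib

/-!
# Basic facts on graded homomorphisms (for the GrLC statements)  (helper20)
-/

set_option autoImplicit false
universe u

namespace Groth.Agent.Lib.Helper20.GrLCBasic

variable {ι : Type} [DecidableEq ι] {R : Type u} [CommRing R]
  {M N : Type u} [AddCommGroup M] [Module R M] [AddCommGroup N] [Module R N]
  (ℳ : ι → AddSubgroup M) (𝒩 : ι → AddSubgroup N)
  [DirectSum.Decomposition ℳ] [DirectSum.Decomposition 𝒩]

/-- A graded homomorphism commutes with taking homogeneous components. -/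
theorem decompose_map (f : M →ₗ[R] N) (hf : GrLC.IsGrHom ℳ 𝒩 f) (x : M) (g : ι) :
    ((DirectSum.decompose 𝒩 (f x) g : 𝒩 g) : N) = f (DirectSum.decompose ℳ x g : ℳ g) := by
  classical
  induction x using DirectSum.Decomposition.inductionOn ℳ with
  | zero => simp
  | @homogeneous i m =>
    by_cases h : i = g
    · subst h
      rw [DirectSum.decompose_of_mem_same 𝒩 (hf _ _ m.2), DirectSum.decompose_of_mem_same ℳ m.2]
    · rw [DirectSum.decompose_of_mem_ne 𝒩 (hf _ _ m.2) h, DirectSum.decompose_of_mem_ne ℳ m.2 h,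
        map_zero]
  | add m m' h h' =>
    rw [map_add, DirectSum.decompose_add, DirectSum.decompose_add, DirectSum.add_apply,
      DirectSum.add_apply, AddSubgroup.coe_add, AddSubgroup.coe_add, map_add, h, h']

theorem ker_isHomogeneous (f : M →ₗ[R] N) (hf : GrLC.IsGrHom ℳ 𝒩 f) :
    (LinearMap.ker f).IsHomogeneous ℳ := by
  intro i x hx
  rw [LinearMap.mem_ker] at hx ⊢
  rw [← decompose_map ℳ 𝒩 f hf, hx, DirectSum.decompose_zero, DirectSum.zero_apply]
  rfl

theorem range_isHomogeneous (f : M →ₗ[R] N) (hf : GrLC.IsGrHom ℳ 𝒩 f) :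
    (LinearMap.range f).IsHomogeneous 𝒩 := by
  rintro i _ ⟨x, rfl⟩
  exact ⟨_, (decompose_map ℳ 𝒩 f hf x i).symm⟩

/-! ### Shifted gradings -/

section shift

variable {ι : Type} [AddCommGroup ι] [DecidableEq ι] {R : Type u} [CommRing R]
  {E : Type u} [AddCommGroup E] [Module R E] (𝓔 : ι → AddSubgroup E) [DirectSum.Decomposition 𝓔]
  (g : ι)

/-- The grading shifted by `g`: `E(g)_j = E_{j+g}`. -/
def shiftGr : ι → AddSubgroup E := fun j => 𝓔 (j + g)

/-- The decomposition map for the shifted grading. -/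
noncomputable def shiftDecompose (x : E) : DirectSum ι (fun j => shiftGr 𝓔 g j) :=
  DFinsupp.comapDomain' (fun j => j + g) (h' := fun i => i - g)
    (fun j => add_sub_cancel_right j g) (DirectSum.decompose 𝓔 x)

theorem shiftDecompose_apply (x : E) (j : ι) :
    ((shiftDecompose 𝓔 g x j : shiftGr 𝓔 g j) : E) =
      (DirectSum.decompose 𝓔 x (j + g) : 𝓔 (j + g)) := rfl

theorem shiftDecompose_zero : shiftDecompose 𝓔 g 0 = 0 := by
  refine DFinsupp.ext fun j => Subtype.ext ?_
  rw [shiftDecompose_apply, DirectSum.decompose_zero]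
  rfl

theorem shiftDecompose_add (x y : E) :
    shiftDecompose 𝓔 g (x + y) = shiftDecompose 𝓔 g x + shiftDecompose 𝓔 g y := by
  refine DFinsupp.ext fun j => Subtype.ext ?_
  rw [shiftDecompose_apply, DirectSum.decompose_add, DirectSum.add_apply, DirectSum.add_apply,
    AddSubgroup.coe_add, AddSubgroup.coe_add, shiftDecompose_apply, shiftDecompose_apply]

theorem shiftDecompose_coe (k : ι) (m : shiftGr 𝓔 g k) :
    shiftDecompose 𝓔 g (m : E) = DirectSum.of (fun j => shiftGr 𝓔 g j) k m := by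
  classical
  refine DFinsupp.ext fun j => Subtype.ext ?_
  rw [shiftDecompose_apply]
  have hm : (m : E) ∈ 𝓔 (k + g) := m.2
  by_cases h : j = k
  · subst h
    rw [DirectSum.decompose_of_mem_same 𝓔 hm]
    exact congrArg Subtype.val (DirectSum.of_eq_same (β := fun j => shiftGr 𝓔 g j) j m).symm
  · have h' : k + g ≠ j + g := fun e => h (add_right_cancel e).symm
    rw [DirectSum.decompose_of_mem_ne 𝓔 hm h']
    have := DirectSum.of_eq_of_ne (β := fun j => shiftGr 𝓔 g j) k j m h
    exact (congrArg Subtype.val this).symm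

noncomputable instance shiftDecomposition : DirectSum.Decomposition (shiftGr 𝓔 g) where
  decompose' := shiftDecompose 𝓔 g
  left_inv x := by
    classical
    induction x using DirectSum.Decomposition.inductionOn 𝓔 with
    | zero => rw [shiftDecompose_zero, map_zero]
    | @homogeneous i m =>
      obtain ⟨k, rfl⟩ : ∃ k, i = k + g := ⟨i - g, (sub_add_cancel i g).symm⟩
      have := shiftDecompose_coe 𝓔 g k m
      rw [this, DirectSum.coeAddMonoidHom_of]
    | add m m' h h' => rw [shiftDecompose_add, map_add, h, h']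
  right_inv y := by
    classical
    induction y using DirectSum.induction_on with
    | zero => rw [map_zero, shiftDecompose_zero]
    | of j m => rw [DirectSum.coeAddMonoidHom_of, shiftDecompose_coe]
    | add y y' h h' => rw [map_add, shiftDecompose_add, h, h']

theorem decompose_shift (x : E) (j : ι) :
    ((DirectSum.decompose (shiftGr 𝓔 g) x j : shiftGr 𝓔 g j) : E) =
      (DirectSum.decompose 𝓔 x (j + g) : 𝓔 (j + g)) := rfl

instance shiftGradedSMul (𝒜 : ι → AddSubgroup R) [GradedRing 𝒜] [SetLike.GradedSMul 𝒜 𝓔] :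
    SetLike.GradedSMul 𝒜 (shiftGr 𝓔 g) where
  smul_mem := by
    intro i j a b ha hb
    have hb' : b ∈ 𝓔 (j + g) := hb
    have h := SetLike.GradedSMul.smul_mem (A := 𝒜) (B := 𝓔) ha hb'
    rw [vadd_eq_add, ← add_assoc] at h
    exact h

theorem isHomogeneous_of_shift (P : Submodule R E) (hP : P.IsHomogeneous (shiftGr 𝓔 g)) :
    P.IsHomogeneous 𝓔 := by
  intro i x hx
  obtain ⟨k, rfl⟩ : ∃ k, i = k + g := ⟨i - g, (sub_add_cancel i g).symm⟩
  exact hP k hx

end shift

/-! ### Components of scalar multiples, and *essential ⇒ essential -/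

section ess

variable {ι : Type} [AddCommGroup ι] [DecidableEq ι] {R : Type u} [CommRing R]
  (𝒜 : ι → AddSubgroup R) [GradedRing 𝒜]
  {L : Type u} [AddCommGroup L] [Module R L] (𝓛 : ι → AddSubgroup L) [DirectSum.Decomposition 𝓛]
  [SetLike.GradedSMul 𝒜 𝓛]

/-- For `c` homogeneous of degree `d`: `(c • x)_{j+d} = c • x_j`. -/
theorem decompose_smul_left {c : R} {d : ι} (hc : c ∈ 𝒜 d) (x : L) (j : ι) :
    ((DirectSum.decompose 𝓛 (c • x) (j + d) : 𝓛 (j + d)) : L) =
      c • ((DirectSum.decompose 𝓛 x j : 𝓛 j) : L) := by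
  have hgr : GrLC.IsGrHom 𝓛 (shiftGr 𝓛 d) (LinearMap.lsmul R L c) := by
    intro i m hm
    have h := SetLike.GradedSMul.smul_mem (A := 𝒜) (B := 𝓛) hc hm
    rw [vadd_eq_add, add_comm] at h
    exact h
  exact decompose_map 𝓛 (shiftGr 𝓛 d) (LinearMap.lsmul R L c) hgr x j

/-- For `w` homogeneous of degree `m`: `(a • w)_{t+m} = a_t • w`. -/
theorem decompose_smul_right {w : L} {m : ι} (hw : w ∈ 𝓛 m) (a : R) (t : ι) :
    ((DirectSum.decompose 𝓛 (a • w) (t + m) : 𝓛 (t + m)) : L) =
      ((DirectSum.decompose 𝒜 a t : 𝒜 t) : R) • w := by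
  have hgr : GrLC.IsGrHom 𝒜 (shiftGr 𝓛 m) (LinearMap.toSpanSingleton R L w) := by
    intro i a ha
    exact SetLike.GradedSMul.smul_mem (A := 𝒜) (B := 𝓛) ha hw
  exact decompose_map 𝒜 (shiftGr 𝓛 m) (LinearMap.toSpanSingleton R L w) hgr a t

include 𝒜 in
/-- The submodule spanned by a homogeneous element is homogeneous. -/
theorem span_singleton_isHomogeneous {w : L} {m : ι} (hw : w ∈ 𝓛 m) :
    (Submodule.span R {w}).IsHomogeneous 𝓛 := by
  intro e z hz
  obtain ⟨a, rfl⟩ := Submodule.mem_span_singleton.1 hz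
  obtain ⟨t, rfl⟩ : ∃ t, e = t + m := ⟨e - m, (sub_add_cancel _ _).symm⟩
  rw [decompose_smul_right 𝒜 𝓛 hw a t]
  exact Submodule.mem_span_singleton.2 ⟨_, rfl⟩

include 𝒜 in
/-- If a homogeneous submodule `N` meets every nonzero homogeneous submodule, then every nonzero
element has a nonzero multiple in `N` (*essential ⇒ essential). -/
theorem exists_smul_mem_of_starEss (N : Submodule R L) (hNhom : N.IsHomogeneous 𝓛)
    (hess : ∀ P : Submodule R L, P.IsHomogeneous 𝓛 → P ≠ ⊥ → P ⊓ N ≠ ⊥) (x : L) (hx : x ≠ 0) :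
    ∃ c : R, c • x ≠ 0 ∧ c • x ∈ N := by
  classical
  let S : R → Finset ι := fun c => (DirectSum.decompose 𝓛 x).support.filter
    (fun j => c • ((DirectSum.decompose 𝓛 x j : 𝓛 j) : L) ∉ N)
  have claim : ∀ k : ℕ, ∀ (c : R) (d : ι), c ∈ 𝒜 d → c • x ≠ 0 → (S c).card = k →
      ∃ c' : R, c' • x ≠ 0 ∧ c' • x ∈ N := by
    intro k
    induction k using Nat.strong_induction_on with
    | _ k ih =>
      intro c d hc hcx hk
      by_cases hall : ∀ j ∈ (DirectSum.decompose 𝓛 x).support,
          c • ((DirectSum.decompose 𝓛 x j : 𝓛 j) : L) ∈ N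
      · refine ⟨c, hcx, ?_⟩
        rw [← DirectSum.sum_support_decompose 𝓛 x, Finset.smul_sum]
        exact Submodule.sum_mem _ hall
      · push Not at hall
        obtain ⟨i, hi, hiN⟩ := hall
        have hwdeg : c • ((DirectSum.decompose 𝓛 x i : 𝓛 i) : L) ∈ 𝓛 (i + d) := by
          have h := SetLike.GradedSMul.smul_mem (A := 𝒜) (B := 𝓛) hc
            (DirectSum.decompose 𝓛 x i).2
          rw [vadd_eq_add, add_comm] at h
          exact h
        generalize hw : c • ((DirectSum.decompose 𝓛 x i : 𝓛 i) : L) = w at hwdeg hiN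
        have hw0 : w ≠ 0 := fun h => hiN (by rw [h]; exact Submodule.zero_mem _)
        have hspan_hom : (Submodule.span R {w}).IsHomogeneous 𝓛 :=
          span_singleton_isHomogeneous 𝒜 𝓛 hwdeg
        have hspan_ne : Submodule.span R {w} ≠ ⊥ := by
          rw [Ne, Submodule.span_singleton_eq_bot]; exact hw0
        obtain ⟨z, hz, hz0⟩ := (Submodule.ne_bot_iff _).1 (hess _ hspan_hom hspan_ne)
        obtain ⟨hz1, hz2⟩ := hz
        obtain ⟨a, rfl⟩ := Submodule.mem_span_singleton.1 hz1
        obtain ⟨e, he⟩ : ∃ e, ((DirectSum.decompose 𝓛 (a • w) e : 𝓛 e) : L) ≠ 0 := by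
          by_contra hcon
          push Not at hcon
          apply hz0
          rw [← DirectSum.sum_support_decompose 𝓛 (a • w)]
          exact Finset.sum_eq_zero (fun e _ => hcon e)
        obtain ⟨t, rfl⟩ : ∃ t, e = t + (i + d) := ⟨e - (i + d), (sub_add_cancel _ _).symm⟩
        have hcomp := decompose_smul_right 𝒜 𝓛 hwdeg a t
        have ha'deg : ((DirectSum.decompose 𝒜 a t : 𝒜 t) : R) ∈ 𝒜 t :=
          (DirectSum.decompose 𝒜 a t).2
        generalize ((DirectSum.decompose 𝒜 a t : 𝒜 t) : R) = a' at hcomp ha'deg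
        have ha'w0 : a' • w ≠ 0 := by rw [← hcomp]; exact he
        have ha'wN : a' • w ∈ N := by rw [← hcomp]; exact hNhom _ hz2
        have hc'deg : a' * c ∈ 𝒜 (t + d) := SetLike.GradedMul.mul_mem ha'deg hc
        have hc'x : (a' * c) • x ≠ 0 := by
          intro h0
          have h1 := decompose_smul_left 𝒜 𝓛 hc'deg x i
          rw [h0, DirectSum.decompose_zero, DirectSum.zero_apply, mul_smul, hw] at h1
          exact ha'w0 h1.symm
        have hsub : S (a' * c) ⊂ S c := by
          rw [Finset.ssubset_iff_of_subset]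
          · refine ⟨i, Finset.mem_filter.2 ⟨hi, by rw [hw]; exact hiN⟩, ?_⟩
            intro hmem
            exact (Finset.mem_filter.1 hmem).2 (by rw [mul_smul, hw]; exact ha'wN)
          · intro j hj
            rw [Finset.mem_filter] at hj ⊢
            refine ⟨hj.1, fun h => hj.2 ?_⟩
            rw [mul_smul]; exact Submodule.smul_mem _ _ h
        exact ih _ (by rw [← hk]; exact Finset.card_lt_card hsub) (a' * c) (t + d) hc'deg hc'x rfl
  exact claim _ 1 0 (SetLike.GradedOne.one_mem) (by rwa [one_smul]) rfl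

end ess

/-! ### The quotient by a homogeneous ideal -/

section quot

variable {ι : Type} [AddCommGroup ι] [DecidableEq ι] {R : Type u} [CommRing R]
  (𝒜 : ι → AddSubgroup R) [GradedRing 𝒜] (p : HomogeneousIdeal 𝒜)
  {E : Type u} [AddCommGroup E] [Module R E] (𝓔 : ι → AddSubgroup E) [DirectSum.Decomposition 𝓔]

/-- A graded map out of `R ⧸ p` (for the bare family `quotGr`) has homogeneous range. -/
theorem range_isHomogeneous_of_quot (e : (R ⧸ p.toIdeal) →ₗ[R] E)
    (he : GrLC.IsGrHom (GrLC.quotGr 𝒜 p) 𝓔 e) : (LinearMap.range e).IsHomogeneous 𝓔 := by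
  have h1 : GrLC.IsGrHom 𝒜 𝓔 (e ∘ₗ (Submodule.mkQ p.toIdeal)) := by
    intro i a ha
    refine he i _ ?_
    exact ⟨a, ha, rfl⟩
  have h2 := range_isHomogeneous 𝒜 𝓔 _ h1
  have h3 : LinearMap.range (e ∘ₗ (Submodule.mkQ p.toIdeal)) = LinearMap.range e := by
    rw [LinearMap.range_comp, Submodule.range_mkQ, Submodule.map_top]
  rwa [h3] at h2

/-- The only possible associated prime of a *injective envelope of `R ⧸ p` is `p`. -/
theorem eq_of_isAssociatedPrime [IsNoetherianRing R] [p.toIdeal.IsPrime] [SetLike.GradedSMul 𝒜 𝓔]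
    (e : (R ⧸ p.toIdeal) →ₗ[R] E) (he : GrLC.IsStarInjHull 𝒜 (GrLC.quotGr 𝒜 p) 𝓔 e)
    (q : Ideal R) (hq : IsAssociatedPrime q E) : q = p.toIdeal := by
  classical
  have hinj := he.injective
  have hNhom := range_isHomogeneous_of_quot 𝒜 p 𝓔 e he.grHom
  have main := exists_smul_mem_of_starEss 𝒜 𝓔 (LinearMap.range e) hNhom he.essential
  have hpp : p.toIdeal.IsPrime := inferInstance
  rw [isAssociatedPrime_iff] at hq
  obtain ⟨hqp, y, rfl⟩ := hq
  have hy0 : y ≠ 0 := by
    rintro rfl
    apply hqp.ne_top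
    ext r; simp [Submodule.mem_colon_singleton]
  obtain ⟨c, hc0, ⟨b, hb⟩⟩ := main y hy0
  obtain ⟨b', rfl⟩ := Ideal.Quotient.mk_surjective b
  have hb0 : Ideal.Quotient.mk p.toIdeal b' ≠ 0 := fun h => hc0 (by rw [← hb, h, map_zero])
  have hsm : ∀ r : R, r • Ideal.Quotient.mk p.toIdeal b' = Ideal.Quotient.mk p.toIdeal (r * b') :=
    fun r => rfl
  ext r
  rw [Submodule.mem_colon_singleton, Submodule.mem_bot]
  constructor
  · intro hr
    have h1 : e (r • Ideal.Quotient.mk p.toIdeal b') = 0 := by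
      rw [map_smul, hb, smul_comm, hr, smul_zero]
    have h2 : Ideal.Quotient.mk p.toIdeal (r * b') = 0 := by
      rw [← hsm]; exact hinj (by rw [map_zero]; exact h1)
    rw [Ideal.Quotient.eq_zero_iff_mem] at h2
    rcases hpp.mem_or_mem h2 with h | h
    · exact h
    · exact absurd (Ideal.Quotient.eq_zero_iff_mem.2 h) hb0
  · intro hr
    have h1 : (r * c) • y = 0 := by
      rw [mul_smul, ← hb, ← map_smul, hsm,
        Ideal.Quotient.eq_zero_iff_mem.2 (p.toIdeal.mul_mem_right _ hr), map_zero]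
    have h2 : r * c ∈ (⊥ : Submodule R E).colon {y} := by
      rw [Submodule.mem_colon_singleton, Submodule.mem_bot]; exact h1
    rcases hqp.mem_or_mem h2 with h | h
    · rwa [Submodule.mem_colon_singleton, Submodule.mem_bot] at h
    · rw [Submodule.mem_colon_singleton, Submodule.mem_bot] at h; exact absurd h hc0

/-- `p` is an associated prime of any module into which `R ⧸ p` embeds. -/
theorem isAssociatedPrime_self [IsNoetherianRing R] [p.toIdeal.IsPrime]
    (e : (R ⧸ p.toIdeal) →ₗ[R] E) (hinj : Function.Injective e) :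
    IsAssociatedPrime p.toIdeal E := by
  rw [isAssociatedPrime_iff]
  refine ⟨inferInstance, e 1, ?_⟩
  ext r
  rw [Submodule.mem_colon_singleton, Submodule.mem_bot, ← map_smul]
  have hsm : r • (1 : R ⧸ p.toIdeal) = Ideal.Quotient.mk p.toIdeal r := by
    rw [Algebra.smul_def, mul_one]; rfl
  rw [hsm]
  constructor
  · intro hr
    rw [Ideal.Quotient.eq_zero_iff_mem.2 hr, map_zero]
  · intro hr
    exact Ideal.Quotient.eq_zero_iff_mem.1 (hinj (by rw [hr, map_zero]))

end quot

end Groth.Agent.Lib.Helper20.GrLCBasic
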