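import Groth.Prelude.Def_GrLC
import Groth.Agent.Lib.Helper20.GrLCBasic
import Mathlib

/-!
# Quotients and submodules of graded modules as bundled graded modules (helper20)
-/

set_option autoImplicit false
set_option linter.unusedSectionVars false
universe u

namespace Groth.Agent.Lib.Helper20.GrLCQuot

open Groth.Agent.Lib.Helper20.GrLCBasic

section quot

variable {ι : Type} [DecidableEq ι] {R : Type u} [CommRing R]
  {X : Type u} [AddCommGroup X] [Module R X] (𝓧 : ι → AddSubgroup X) [DirectSum.Decomposition 𝓧]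
  (P : Submodule R X)

/-- The pieces of the quotient `X ⧸ P`: images of the pieces of `X`. -/
def quotGr (g : ι) : AddSubgroup (X ⧸ P) := (𝓧 g).map (P.mkQ : X →ₗ[R] X ⧸ P).toAddMonoidHom

theorem mem_quotGr {g : ι} {q : X ⧸ P} : q ∈ quotGr 𝓧 P g ↔ ∃ x ∈ 𝓧 g, P.mkQ x = q := Iff.rfl

theorem mkQ_mem_quotGr {g : ι} {x : X} (hx : x ∈ 𝓧 g) : P.mkQ x ∈ quotGr 𝓧 P g := ⟨x, hx, rfl⟩

theorem isInternal_quotGr (hP : P.IsHomogeneous 𝓧) : DirectSum.IsInternal (quotGr 𝓧 P) := by
  classical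
  constructor
  · rw [injective_iff_map_eq_zero]
    intro x hx
    have hrep : ∀ g, ∃ z ∈ 𝓧 g, P.mkQ z = (x g : X ⧸ P) := fun g => (x g).2
    choose z hzg hzx using hrep
    have hsum : P.mkQ (∑ g ∈ x.support, z g) = 0 := by
      rw [map_sum]
      have h1 : ∑ g ∈ x.support, P.mkQ (z g) = DirectSum.coeAddMonoidHom (quotGr 𝓧 P) x := by
        rw [DirectSum.coeAddMonoidHom_eq_dfinsuppSum, DFinsupp.sum]
        exact Finset.sum_congr rfl fun g _ => hzx g
      rw [h1, hx]
    have hmemB : (∑ g ∈ x.support, z g) ∈ P := (Submodule.Quotient.mk_eq_zero _).mp hsum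
    apply DFinsupp.ext
    intro g₀
    by_cases hg : g₀ ∈ x.support
    · have hcomp : ((DirectSum.decompose 𝓧 (∑ g ∈ x.support, z g) g₀ : 𝓧 g₀) : X) = z g₀ := by
        rw [DirectSum.decompose_sum, DFinsupp.finsetSum_apply,
          AddSubgroup.val_finsetSum, Finset.sum_eq_single g₀]
        · rw [DirectSum.decompose_of_mem_same 𝓧 (hzg g₀)]
        · intro g _ hne
          rw [DirectSum.decompose_of_mem_ne 𝓧 (hzg g) hne]
        · intro h
          exact absurd hg h
      have hz0 : z g₀ ∈ P := hcomp ▸ hP g₀ hmemB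
      have h3 : (x g₀ : X ⧸ P) = 0 := by
        rw [← hzx g₀]
        exact (Submodule.Quotient.mk_eq_zero _).mpr hz0
      exact Subtype.ext h3
    · rw [DFinsupp.notMem_support_iff] at hg
      rw [hg]
      rfl
  · intro h
    obtain ⟨z, rfl⟩ := Submodule.mkQ_surjective _ h
    refine ⟨∑ g ∈ (DirectSum.decompose 𝓧 z).support,
      DirectSum.of (fun g => quotGr 𝓧 P g) g ⟨P.mkQ (DirectSum.decompose 𝓧 z g : 𝓧 g),
        mkQ_mem_quotGr 𝓧 P (SetLike.coe_mem _)⟩, ?_⟩
    rw [map_sum]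
    simp only [DirectSum.coeAddMonoidHom_of]
    rw [← map_sum, DirectSum.sum_support_decompose 𝓧 z]

theorem mkQ_isGrHom : GrLC.IsGrHom 𝓧 (quotGr 𝓧 P) P.mkQ := fun _ _ hm => mkQ_mem_quotGr 𝓧 P hm

end quot


section misc

variable {ι : Type} [DecidableEq ι] {R : Type u} [CommRing R]
  {X Y : Type u} [AddCommGroup X] [Module R X] [AddCommGroup Y] [Module R Y]
  (𝓧 : ι → AddSubgroup X) (𝓨 : ι → AddSubgroup Y)
  [DirectSum.Decomposition 𝓧] [DirectSum.Decomposition 𝓨]

/-- The preimage of a homogeneous submodule under a homogeneous map is homogeneous. -/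
theorem comap_isHomogeneous (f : X →ₗ[R] Y) (hf : GrLC.IsGrHom 𝓧 𝓨 f) (Q : Submodule R Y)
    (hQ : Q.IsHomogeneous 𝓨) : (Q.comap f).IsHomogeneous 𝓧 := by
  intro g x hx
  rw [Submodule.mem_comap] at hx ⊢
  rw [← decompose_map 𝓧 𝓨 f hf x g]
  exact hQ g hx

/-- An injective homogeneous map reflects homogeneity of elements. -/
theorem mem_of_map_mem (f : X →ₗ[R] Y) (hf : GrLC.IsGrHom 𝓧 𝓨 f) (hinj : Function.Injective f)
    {x : X} {g : ι} (h : f x ∈ 𝓨 g) : x ∈ 𝓧 g := by
  classical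
  have h0 : ∀ k, k ≠ g → ((DirectSum.decompose 𝓧 x k : 𝓧 k) : X) = 0 := by
    intro k hk
    apply hinj
    rw [← decompose_map 𝓧 𝓨 f hf x k, DirectSum.decompose_of_mem_ne 𝓨 h (Ne.symm hk), map_zero]
  have hx : x = ((DirectSum.decompose 𝓧 x g : 𝓧 g) : X) := by
    conv_lhs => rw [← DirectSum.sum_support_decompose 𝓧 x]
    rw [Finset.sum_eq_single g]
    · intro k _ hk
      exact h0 k hk
    · intro hg
      rw [DFinsupp.notMem_support_iff] at hg
      rw [hg]
      rfl
  rw [hx]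
  exact SetLike.coe_mem _

/-- The inverse of a bijective homogeneous map is homogeneous. -/
theorem symm_isGrHom (e : X ≃ₗ[R] Y) (he : GrLC.IsGrHom 𝓧 𝓨 e.toLinearMap) :
    GrLC.IsGrHom 𝓨 𝓧 e.symm.toLinearMap := by
  intro g y hy
  apply mem_of_map_mem 𝓧 𝓨 e.toLinearMap he e.injective
  change e (e.symm y) ∈ 𝓨 g
  rw [e.apply_symm_apply]
  exact hy

/-- Zorn: a maximal homogeneous submodule disjoint from a given submodule. -/
theorem exists_maximal_homogeneous_disjoint (K : Submodule R X) :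
    ∃ N : Submodule R X, Maximal (fun P : Submodule R X => P.IsHomogeneous 𝓧 ∧ P ⊓ K = ⊥) N := by
  have hbot : (⊥ : Submodule R X) ∈ {P : Submodule R X | P.IsHomogeneous 𝓧 ∧ P ⊓ K = ⊥} := by
    refine ⟨?_, bot_inf_eq _⟩
    intro g x hx
    rw [(Submodule.mem_bot R).mp hx, DirectSum.decompose_zero]
    exact Submodule.zero_mem _
  obtain ⟨N, -, hN⟩ := zorn_le_nonempty₀ {P : Submodule R X | P.IsHomogeneous 𝓧 ∧ P ⊓ K = ⊥}
    (fun c hc hchain y hy => by
      have hne : c.Nonempty := ⟨y, hy⟩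
      have hdir : DirectedOn (· ≤ ·) c := hchain.directedOn
      refine ⟨sSup c, ⟨?_, ?_⟩, fun z hz => le_sSup hz⟩
      · intro g x hx
        obtain ⟨P, hPc, hxP⟩ := (Submodule.mem_sSup_of_directed hne hdir).mp hx
        exact (Submodule.mem_sSup_of_directed hne hdir).mpr ⟨P, hPc, (hc hPc).1 g hxP⟩
      · rw [eq_bot_iff]
        rintro x ⟨hx1, hx2⟩
        obtain ⟨P, hPc, hxP⟩ := (Submodule.mem_sSup_of_directed hne hdir).mp hx1
        rw [← (hc hPc).2]
        exact ⟨hxP, hx2⟩) ⊥ hbot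
  exact ⟨N, hN⟩

end misc


section sub

variable {ι : Type} [DecidableEq ι] {R : Type u} [CommRing R]
  {X : Type u} [AddCommGroup X] [Module R X] (𝓧 : ι → AddSubgroup X) [DirectSum.Decomposition 𝓧]
  (P : Submodule R X)

/-- The pieces of a submodule `P`: the elements of `P` lying in the pieces of `X`. -/
def subGr (g : ι) : AddSubgroup ↥P := (𝓧 g).comap (P.subtype : ↥P →ₗ[R] X).toAddMonoidHom

theorem mem_subGr {g : ι} {x : ↥P} : x ∈ subGr 𝓧 P g ↔ (x : X) ∈ 𝓧 g := Iff.rfl

theorem isInternal_subGr (hP : P.IsHomogeneous 𝓧) : DirectSum.IsInternal (subGr 𝓧 P) := by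
  classical
  constructor
  · rw [injective_iff_map_eq_zero]
    intro y hy
    have hsum : ∑ g ∈ y.support, (((y g : ↥P) : X)) = 0 := by
      have h1 : DirectSum.coeAddMonoidHom (subGr 𝓧 P) y = ∑ g ∈ y.support, (y g : ↥P) := by
        rw [DirectSum.coeAddMonoidHom_eq_dfinsuppSum, DFinsupp.sum]
      rw [h1] at hy
      have h2 := congrArg (fun z : ↥P => (z : X)) hy
      simpa using h2
    have hmem : ∀ g, (((y g : ↥P) : X)) ∈ 𝓧 g := fun g => (y g).2
    apply DFinsupp.ext
    intro g₀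
    by_cases hg : g₀ ∈ y.support
    · have hcomp : ((DirectSum.decompose 𝓧 (∑ g ∈ y.support, (((y g : ↥P) : X))) g₀ : 𝓧 g₀) : X) =
          ((y g₀ : ↥P) : X) := by
        rw [DirectSum.decompose_sum, DFinsupp.finsetSum_apply,
          AddSubgroup.val_finsetSum, Finset.sum_eq_single g₀]
        · rw [DirectSum.decompose_of_mem_same 𝓧 (hmem g₀)]
        · intro g _ hne
          rw [DirectSum.decompose_of_mem_ne 𝓧 (hmem g) hne]
        · intro h
          exact absurd hg h
      rw [hsum, DirectSum.decompose_zero, DirectSum.zero_apply] at hcomp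
      apply Subtype.ext
      apply Subtype.ext
      exact hcomp.symm
    · rw [DFinsupp.notMem_support_iff] at hg
      rw [hg]
      rfl
  · intro x
    refine ⟨∑ g ∈ (DirectSum.decompose 𝓧 (x : X)).support,
      DirectSum.of (fun g => subGr 𝓧 P g) g
        ⟨⟨(DirectSum.decompose 𝓧 (x : X) g : 𝓧 g), hP g x.2⟩,
          (mem_subGr 𝓧 P).mpr (SetLike.coe_mem (DirectSum.decompose 𝓧 (x : X) g))⟩, ?_⟩
    rw [map_sum]
    simp only [DirectSum.coeAddMonoidHom_of]
    apply Subtype.ext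
    rw [Submodule.coe_sum]
    exact DirectSum.sum_support_decompose 𝓧 (x : X)

theorem subtype_isGrHom : GrLC.IsGrHom (subGr 𝓧 P) 𝓧 P.subtype := fun _ _ hm => hm

end sub

section quotG

variable {ι : Type} [AddCommGroup ι] [DecidableEq ι] {R : Type u} [CommRing R]
  (𝒜 : ι → AddSubgroup R) [GradedRing 𝒜]
  {X : Type u} [AddCommGroup X] [Module R X] (𝓧 : ι → AddSubgroup X) [DirectSum.Decomposition 𝓧]
  [SetLike.GradedSMul 𝒜 𝓧] (P : Submodule R X)

instance quotGr_gradedSMul : SetLike.GradedSMul 𝒜 (quotGr 𝓧 P) where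
  smul_mem := by
    rintro i j r q hr ⟨x, hx, rfl⟩
    exact ⟨r • x, SetLike.GradedSMul.smul_mem (A := 𝒜) (B := 𝓧) hr hx, rfl⟩


instance subGr_gradedSMul : SetLike.GradedSMul 𝒜 (subGr 𝓧 P) where
  smul_mem := by
    intro i j r x hr hx
    exact SetLike.GradedSMul.smul_mem (A := 𝒜) (B := 𝓧) hr hx

end quotG

section GMod

variable {ι : Type} [AddCommGroup ι] [DecidableEq ι] {R : Type u} [CommRing R]
  {𝒜 : ι → AddSubgroup R} [GradedRing 𝒜]

/-- The quotient of a bundled graded module by a homogeneous submodule. -/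
noncomputable def quotGMod (X : GrLC.GMod.{u} 𝒜) (P : Submodule R X.carrier)
    (hP : P.IsHomogeneous X.gr) : GrLC.GMod.{u} 𝒜 :=
  letI : DirectSum.Decomposition (quotGr X.gr P) := (isInternal_quotGr X.gr P hP).chooseDecomposition
  { carrier := X.carrier ⧸ P
    gr := quotGr X.gr P }


/-- A homogeneous submodule of a bundled graded module, as a bundled graded module. -/
noncomputable def subGMod (X : GrLC.GMod.{u} 𝒜) (P : Submodule R X.carrier)
    (hP : P.IsHomogeneous X.gr) : GrLC.GMod.{u} 𝒜 :=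
  letI : DirectSum.Decomposition (subGr X.gr P) := (isInternal_subGr X.gr P hP).chooseDecomposition
  { carrier := ↥P
    gr := subGr X.gr P }

end GMod

end Groth.Agent.Lib.Helper20.GrLCQuot
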