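import Groth.Prelude.Def_GrLC
import Groth.Agent.Lib.Helper20.GrLCBasic
import Groth.Agent.Lib.Helper20.GrLCQuot
import Mathlib

/-!
# The cofree graded module on a module, and enough *injectives (helper20)

For an `R`-module `N`, `Tw 𝒜 N = ⊕_{g ∈ ι} N` with `r ∈ R_h` sending the `g`-th copy to the
`(g+h)`-th copy by multiplication by `r`.  This is the right adjoint of the forgetful functor from
graded modules to modules; it sends injective modules to *injective graded modules.
-/

set_option autoImplicit false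
set_option linter.unusedSectionVars false
universe u

namespace Groth.Agent.Lib.Helper20.GrLCCofree

open Groth.Agent.Lib.Helper20.GrLCBasic Groth.Agent.Lib.Helper20.GrLCQuot

section Tw

variable {ι : Type} [AddCommGroup ι] [DecidableEq ι] {R : Type u} [CommRing R]
  (𝒜 : ι → AddSubgroup R) [GradedRing 𝒜] (N : Type u) [AddCommGroup N] [Module R N]

/-- The underlying type of the cofree graded module. -/
def Tw (_𝒜 : ι → AddSubgroup R) (N : Type u) [AddCommGroup N] : Type u := ι →₀ N

noncomputable instance : AddCommGroup (Tw 𝒜 N) := inferInstanceAs (AddCommGroup (ι →₀ N))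

/-- The action of an element `r`, as if it were homogeneous of degree `h`. -/
noncomputable def actFun (h : ι) (r : R) : (ι →₀ N) →+ (ι →₀ N) :=
  (Finsupp.mapRange.addMonoidHom (DistribSMul.toAddMonoidHom N r)).comp
    (Finsupp.mapDomain.addMonoidHom (fun k => k + h))

theorem actFun_single (h : ι) (r : R) (k : ι) (n : N) :
    actFun N h r (Finsupp.single k n) = Finsupp.single (k + h) (r • n) := by
  simp only [actFun, AddMonoidHom.comp_apply, Finsupp.mapDomain.addMonoidHom_apply,
    Finsupp.mapDomain_single, Finsupp.mapRange.addMonoidHom_apply, Finsupp.mapRange_single,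
    DistribSMul.toAddMonoidHom_apply]

theorem end_ext {a b : AddMonoid.End (ι →₀ N)}
    (h : ∀ k n, a (Finsupp.single k n) = b (Finsupp.single k n)) : a = b := by
  apply AddMonoid.End.ext
  intro x
  induction x using Finsupp.induction_linear with
  | zero => rw [map_zero, map_zero]
  | add x y hx hy => rw [map_add, map_add, hx, hy]
  | single k n => exact h k n

/-- The action of a homogeneous element of degree `h`. -/
noncomputable def actHom (h : ι) : 𝒜 h →+ AddMonoid.End (ι →₀ N) where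
  toFun r := (actFun N h (r : R) : (ι →₀ N) →+ (ι →₀ N))
  map_zero' := by
    apply end_ext
    intro k n
    change actFun N h _ (Finsupp.single k n) = 0
    rw [actFun_single, ZeroMemClass.coe_zero, zero_smul, Finsupp.single_zero]
  map_add' r s := by
    apply end_ext
    intro k n
    change actFun N h _ (Finsupp.single k n) =
      actFun N h _ (Finsupp.single k n) + actFun N h _ (Finsupp.single k n)
    rw [actFun_single, actFun_single, actFun_single, AddMemClass.coe_add, add_smul,
      Finsupp.single_add]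

theorem actHom_single (h : ι) (r : 𝒜 h) (k : ι) (n : N) :
    actHom 𝒜 N h r (Finsupp.single k n) = Finsupp.single (k + h) ((r : R) • n) := by
  change actFun N h (r : R) (Finsupp.single k n) = _
  exact actFun_single N h (r : R) k n

theorem actHom_one : actHom 𝒜 N 0 (GradedMonoid.GOne.one (A := fun i => 𝒜 i)) = 1 := by
  apply end_ext
  intro k n
  rw [actHom_single]
  change _ = Finsupp.single k n
  rw [SetLike.coe_gOne, one_smul, add_zero]

theorem actHom_mul {i j : ι} (ai : 𝒜 i) (aj : 𝒜 j) :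
    actHom 𝒜 N (i + j) (GradedMonoid.GMul.mul (A := fun i => 𝒜 i) ai aj) =
      actHom 𝒜 N i ai * actHom 𝒜 N j aj := by
  apply end_ext
  intro k n
  rw [actHom_single]
  change _ = actHom 𝒜 N i ai (actHom 𝒜 N j aj (Finsupp.single k n))
  rw [actHom_single, actHom_single, SetLike.coe_gMul, mul_smul, add_assoc, add_comm j i]

/-- The ring homomorphism `⨁ R_i → End(⊕ N)`. -/
noncomputable def actDS : (DirectSum ι fun i => 𝒜 i) →+* AddMonoid.End (ι →₀ N) :=
  DirectSum.toSemiring (actHom 𝒜 N) (actHom_one 𝒜 N) (actHom_mul 𝒜 N)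

/-- The ring homomorphism `R → End(⊕ N)`. -/
noncomputable def actRingHom : R →+* AddMonoid.End (ι →₀ N) :=
  (actDS 𝒜 N).comp (DirectSum.decomposeRingEquiv 𝒜).toRingHom

noncomputable instance : Module R (Tw 𝒜 N) :=
  Module.compHom (ι →₀ N) (actRingHom 𝒜 N)

/-- `single` into the twisted module. -/
noncomputable def tsingle (k : ι) (n : N) : Tw 𝒜 N := (Finsupp.single k n : ι →₀ N)

theorem smul_def (r : R) (x : Tw 𝒜 N) : r • x = (actRingHom 𝒜 N r) (x : ι →₀ N) := rfl

theorem smul_tsingle {h : ι} {r : R} (hr : r ∈ 𝒜 h) (k : ι) (n : N) :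
    r • tsingle 𝒜 N k n = tsingle 𝒜 N (k + h) (r • n) := by
  rw [smul_def]
  change (actDS 𝒜 N) (DirectSum.decompose 𝒜 r) _ = _
  rw [DirectSum.decompose_of_mem 𝒜 hr]
  change DirectSum.toSemiring (actHom 𝒜 N) _ _ (DirectSum.of _ h ⟨r, hr⟩) _ = _
  rw [DirectSum.toSemiring_of]
  exact actHom_single 𝒜 N h ⟨r, hr⟩ k n


theorem tsingle_add (k : ι) (n n' : N) :
    tsingle 𝒜 N k (n + n') = tsingle 𝒜 N k n + tsingle 𝒜 N k n' :=
  Finsupp.single_add k n n'

theorem tsingle_zero (k : ι) : tsingle 𝒜 N k 0 = 0 := Finsupp.single_zero k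

/-- Induction principle for the twisted module. -/
theorem tw_induction {motive : Tw 𝒜 N → Prop} (zero : motive 0)
    (add : ∀ x y, motive x → motive y → motive (x + y))
    (single : ∀ k n, motive (tsingle 𝒜 N k n)) : ∀ x, motive x := by
  intro x
  exact Finsupp.induction_linear (motive := fun y : ι →₀ N => motive y) x zero add single

/-- Evaluation at a degree. -/
def tapply (x : Tw 𝒜 N) (k : ι) : N := (show ι →₀ N from x) k

theorem tapply_tsingle_same (k : ι) (n : N) : tapply 𝒜 N (tsingle 𝒜 N k n) k = n := by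
  change (Finsupp.single k n : ι →₀ N) k = n
  exact Finsupp.single_eq_same

theorem tapply_tsingle_ne {k j : ι} (h : k ≠ j) (n : N) :
    tapply 𝒜 N (tsingle 𝒜 N k n) j = 0 := by
  change (Finsupp.single k n : ι →₀ N) j = 0
  exact Finsupp.single_eq_of_ne' h

theorem tapply_add (x y : Tw 𝒜 N) (k : ι) :
    tapply 𝒜 N (x + y) k = tapply 𝒜 N x k + tapply 𝒜 N y k := by
  change ((show ι →₀ N from x) + (show ι →₀ N from y)) k = _
  exact Finsupp.add_apply _ _ k

theorem tapply_zero (k : ι) : tapply 𝒜 N (0 : Tw 𝒜 N) k = 0 := by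
  change (0 : ι →₀ N) k = 0
  rfl

theorem tw_ext {x y : Tw 𝒜 N} (h : ∀ k, tapply 𝒜 N x k = tapply 𝒜 N y k) : x = y := by
  change (show ι →₀ N from x) = (show ι →₀ N from y)
  exact Finsupp.ext h

/-- The pieces of the twisted module. -/
def twGr (g : ι) : AddSubgroup (Tw 𝒜 N) where
  carrier := {x | ∃ n, tsingle 𝒜 N g n = x}
  zero_mem' := ⟨0, tsingle_zero 𝒜 N g⟩
  add_mem' := by
    rintro _ _ ⟨n, rfl⟩ ⟨n', rfl⟩
    exact ⟨n + n', tsingle_add 𝒜 N g n n'⟩
  neg_mem' := by
    rintro _ ⟨n, rfl⟩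
    refine ⟨-n, ?_⟩
    exact Finsupp.single_neg g n

theorem tsingle_mem (g : ι) (n : N) : tsingle 𝒜 N g n ∈ twGr 𝒜 N g := ⟨n, rfl⟩

/-- The sum map `⊕ N → N`, additive. -/
noncomputable def sumAdd : Tw 𝒜 N →+ N :=
  (Finsupp.liftAddHom (fun _ : ι => AddMonoidHom.id N) : (ι →₀ N) →+ N)

theorem sumAdd_tsingle (k : ι) (n : N) : sumAdd 𝒜 N (tsingle 𝒜 N k n) = n := by
  change (Finsupp.liftAddHom (fun _ : ι => AddMonoidHom.id N)) (Finsupp.single k n) = n
  rw [Finsupp.liftAddHom_apply_single]
  rfl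

/-- The sum map `⊕ N → N` is `R`-linear. -/
noncomputable def sumMap : Tw 𝒜 N →ₗ[R] N where
  toFun := sumAdd 𝒜 N
  map_add' := map_add _
  map_smul' := by
    intro r x
    induction r using DirectSum.Decomposition.inductionOn 𝒜 with
    | zero => simp
    | @homogeneous h r =>
      induction x using tw_induction with
      | zero => simp
      | add x y hx hy =>
        rw [smul_add, map_add, map_add, hx, hy, smul_add]
      | single k n =>
        rw [smul_tsingle 𝒜 N r.2, sumAdd_tsingle, sumAdd_tsingle]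
        rfl
    | add r r' hr hr' =>
      rw [add_smul, map_add, hr, hr']
      simp only [RingHom.id_apply]
      rw [add_smul]

theorem sumMap_tsingle (k : ι) (n : N) : sumMap 𝒜 N (tsingle 𝒜 N k n) = n :=
  sumAdd_tsingle 𝒜 N k n


/-- `tsingle` into the piece. -/
noncomputable def tsingleHom (k : ι) : N →+ twGr 𝒜 N k where
  toFun n := ⟨tsingle 𝒜 N k n, tsingle_mem 𝒜 N k n⟩
  map_zero' := Subtype.ext (tsingle_zero 𝒜 N k)
  map_add' n n' := Subtype.ext (tsingle_add 𝒜 N k n n')

/-- The decomposition map. -/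
noncomputable def twDecompose : Tw 𝒜 N →+ DirectSum ι (fun k => twGr 𝒜 N k) :=
  (Finsupp.liftAddHom (fun k : ι =>
    (DirectSum.of (fun k => twGr 𝒜 N k) k).comp (tsingleHom 𝒜 N k)) : (ι →₀ N) →+ _)

theorem twDecompose_tsingle (k : ι) (n : N) :
    twDecompose 𝒜 N (tsingle 𝒜 N k n) =
      DirectSum.of (fun k => twGr 𝒜 N k) k ⟨tsingle 𝒜 N k n, tsingle_mem 𝒜 N k n⟩ := by
  change (Finsupp.liftAddHom _) (Finsupp.single k n) = _
  rw [Finsupp.liftAddHom_apply_single]
  rfl

noncomputable instance twDecomposition : DirectSum.Decomposition (twGr 𝒜 N) :=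
  DirectSum.Decomposition.ofAddHom (twGr 𝒜 N) (twDecompose 𝒜 N)
    (by
      ext x
      induction x using tw_induction with
      | zero => simp
      | add x y hx hy => rw [map_add, map_add, hx, hy]
      | single k n =>
        rw [AddMonoidHom.comp_apply, twDecompose_tsingle, DirectSum.coeAddMonoidHom_of]
        rfl)
    (by
      apply DirectSum.addHom_ext
      rintro k ⟨_, ⟨n, rfl⟩⟩
      rw [AddMonoidHom.comp_apply, DirectSum.coeAddMonoidHom_of, twDecompose_tsingle]
      rfl)

theorem decompose_tsingle (k : ι) (n : N) :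
    DirectSum.decompose (twGr 𝒜 N) (tsingle 𝒜 N k n) =
      DirectSum.of (fun k => twGr 𝒜 N k) k ⟨tsingle 𝒜 N k n, tsingle_mem 𝒜 N k n⟩ :=
  twDecompose_tsingle 𝒜 N k n

instance twGradedSMul : SetLike.GradedSMul 𝒜 (twGr 𝒜 N) where
  smul_mem := by
    rintro i j r _ hr ⟨n, rfl⟩
    rw [smul_tsingle 𝒜 N hr, vadd_eq_add, add_comm i j]
    exact tsingle_mem 𝒜 N _ _

/-- The cofree graded module as a bundled graded module. -/
noncomputable def twGMod : GrLC.GMod.{u} 𝒜 where
  carrier := Tw 𝒜 N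
  gr := twGr 𝒜 N

end Tw


section lift

variable {ι : Type} [AddCommGroup ι] [DecidableEq ι] {R : Type u} [CommRing R]
  (𝒜 : ι → AddSubgroup R) [GradedRing 𝒜] (N : Type u) [AddCommGroup N] [Module R N]
  {B : Type u} [AddCommGroup B] [Module R B] (ℬ : ι → AddSubgroup B) [DirectSum.Decomposition ℬ]
  [SetLike.GradedSMul 𝒜 ℬ]

/-- `tsingle` as an additive map. -/
noncomputable def tsingleAdd (k : ι) : N →+ Tw 𝒜 N :=
  (twGr 𝒜 N k).subtype.comp (tsingleHom 𝒜 N k)

theorem tsingleAdd_apply (k : ι) (n : N) : tsingleAdd 𝒜 N k n = tsingle 𝒜 N k n := rfl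

/-- The graded lift of a linear map `B → N` to `B → ⊕ N`, additive version. -/
noncomputable def grLiftAdd (φ : B →ₗ[R] N) : B →+ Tw 𝒜 N :=
  (DirectSum.toAddMonoid (fun k : ι =>
    (tsingleAdd 𝒜 N k).comp (φ.toAddMonoidHom.comp (ℬ k).subtype))).comp
    (DirectSum.decomposeAddEquiv ℬ).toAddMonoidHom

theorem grLiftAdd_of_mem (φ : B →ₗ[R] N) {k : ι} {b : B} (hb : b ∈ ℬ k) :
    grLiftAdd 𝒜 N ℬ φ b = tsingle 𝒜 N k (φ b) := by
  change (DirectSum.toAddMonoid _) (DirectSum.decompose ℬ b) = _
  rw [DirectSum.decompose_of_mem ℬ hb, DirectSum.toAddMonoid_of]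
  rfl

/-- The graded lift of a linear map `B → N` to `B → ⊕ N`. -/
noncomputable def grLift (φ : B →ₗ[R] N) : B →ₗ[R] Tw 𝒜 N where
  toFun := grLiftAdd 𝒜 N ℬ φ
  map_add' := map_add _
  map_smul' := by
    intro r b
    simp only [RingHom.id_apply]
    induction r using DirectSum.Decomposition.inductionOn 𝒜 with
    | zero => simp
    | @homogeneous h r =>
      induction b using DirectSum.Decomposition.inductionOn ℬ with
      | zero => simp
      | @homogeneous k b =>
        have hmem : (r : R) • (b : B) ∈ ℬ (h + k) :=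
          SetLike.GradedSMul.smul_mem (A := 𝒜) (B := ℬ) r.2 b.2
        rw [grLiftAdd_of_mem 𝒜 N ℬ φ hmem, grLiftAdd_of_mem 𝒜 N ℬ φ b.2,
          smul_tsingle 𝒜 N r.2, map_smul, add_comm h k]
      | add b b' hb hb' =>
        rw [smul_add, map_add, map_add, hb, hb', smul_add]
    | add r r' hr hr' =>
      rw [add_smul, map_add, hr, hr', add_smul]

theorem grLift_of_mem (φ : B →ₗ[R] N) {k : ι} {b : B} (hb : b ∈ ℬ k) :
    grLift 𝒜 N ℬ φ b = tsingle 𝒜 N k (φ b) := grLiftAdd_of_mem 𝒜 N ℬ φ hb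

theorem grLift_isGrHom (φ : B →ₗ[R] N) : GrLC.IsGrHom ℬ (twGr 𝒜 N) (grLift 𝒜 N ℬ φ) := by
  intro k b hb
  rw [grLift_of_mem 𝒜 N ℬ φ hb]
  exact tsingle_mem 𝒜 N k _

theorem tapply_grLift (φ : B →ₗ[R] N) (b : B) (k : ι) :
    tapply 𝒜 N (grLift 𝒜 N ℬ φ b) k = φ (DirectSum.decompose ℬ b k : ℬ k) := by
  induction b using DirectSum.Decomposition.inductionOn ℬ with
  | zero =>
    rw [map_zero, tapply_zero, DirectSum.decompose_zero, DirectSum.zero_apply]
    simp
  | @homogeneous j b =>
    rw [grLift_of_mem 𝒜 N ℬ φ b.2]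
    by_cases hjk : j = k
    · subst hjk
      rw [tapply_tsingle_same, DirectSum.decompose_of_mem_same ℬ b.2]
    · rw [tapply_tsingle_ne 𝒜 N hjk, DirectSum.decompose_of_mem_ne ℬ b.2 hjk, map_zero]
  | add b b' hb hb' =>
    rw [map_add, tapply_add, hb, hb', DirectSum.decompose_add, DirectSum.add_apply,
      AddSubgroup.coe_add, map_add]

theorem grLift_injective (φ : B →ₗ[R] N) (hφ : Function.Injective φ) :
    Function.Injective (grLift 𝒜 N ℬ φ) := by
  classical
  rw [injective_iff_map_eq_zero]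
  intro b hb
  have h0 : ∀ k, ((DirectSum.decompose ℬ b k : ℬ k) : B) = 0 := by
    intro k
    apply hφ
    rw [← tapply_grLift 𝒜 N ℬ φ b k, hb, tapply_zero, map_zero]
  rw [← DirectSum.sum_support_decompose ℬ b]
  exact Finset.sum_eq_zero fun k _ => h0 k

/-- The cofree graded module on an injective module is *injective. -/
theorem tw_isStarInj [Module.Injective R N] : GrLC.IsStarInj 𝒜 (twGr 𝒜 N) := by
  intro A C f hf finj g hg
  obtain ⟨φ, hφ⟩ := Module.Injective.out (R := R) (Q := N) f finj ((sumMap 𝒜 N).comp g)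
  refine ⟨grLift 𝒜 N C.gr φ, grLift_isGrHom 𝒜 N C.gr φ, ?_⟩
  apply LinearMap.ext
  intro a
  induction a using DirectSum.Decomposition.inductionOn A.gr with
  | zero => simp
  | @homogeneous k a =>
    rw [LinearMap.comp_apply, grLift_of_mem 𝒜 N C.gr φ (hf k _ a.2), hφ, LinearMap.comp_apply]
    obtain ⟨n, hn⟩ := hg k _ a.2
    rw [← hn, sumMap_tsingle]
  | add a a' ha ha' =>
    rw [map_add, map_add, ha, ha']

end lift

section enough

variable {ι : Type} [AddCommGroup ι] [DecidableEq ι] {R : Type u} [CommRing R]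
  (𝒜 : ι → AddSubgroup R) [GradedRing 𝒜]
  {M : Type u} [AddCommGroup M] [Module R M] (ℳ : ι → AddSubgroup M) [DirectSum.Decomposition ℳ]
  [SetLike.GradedSMul 𝒜 ℳ]

/-- The graded category has enough *injectives. -/
theorem exists_starInj_embedding :
    ∃ (E : GrLC.GMod.{u} 𝒜) (f : M →ₗ[R] E.carrier),
      GrLC.IsStarInj 𝒜 E.gr ∧ GrLC.IsGrHom ℳ E.gr f ∧ Function.Injective f := by
  have := ModuleCat.enoughInjectives.{u} (R := R)
  let J := CategoryTheory.Injective.under (ModuleCat.of R M)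
  let e : ModuleCat.of R M ⟶ J := CategoryTheory.Injective.ι (ModuleCat.of R M)
  have : CategoryTheory.Injective (ModuleCat.of R J) :=
    inferInstanceAs (CategoryTheory.Injective J)
  have : Module.Injective R J := Module.injective_module_of_injective_object R J
  have he : Function.Injective e.hom := (ModuleCat.mono_iff_injective e).mp inferInstance
  exact ⟨twGMod 𝒜 J, grLift 𝒜 J ℳ e.hom, tw_isStarInj 𝒜 J, grLift_isGrHom 𝒜 J ℳ e.hom,
    grLift_injective 𝒜 J ℳ e.hom he⟩

end enough

end Groth.Agent.Lib.Helper20.GrLCCofree
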