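import Groth.Prelude.Def_GrLC
import Groth.Agent.Lib.Helper20.GrLCBasic
import Groth.Agent.Lib.Helper20.GrLCQuot
import Groth.Agent.Lib.Helper20.GrLCCofree
import Mathlib

/-!
# *Injective modules and *injective envelopes (helper20)
-/

set_option autoImplicit false
set_option linter.unusedSectionVars false
universe u

namespace Groth.Agent.Lib.Helper20.GrLCHull

open Groth.Agent.Lib.Helper20.GrLCBasic Groth.Agent.Lib.Helper20.GrLCQuot
  Groth.Agent.Lib.Helper20.GrLCCofree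

section crit

variable {ι : Type} [AddCommGroup ι] [DecidableEq ι] {R : Type u} [CommRing R]
  (𝒜 : ι → AddSubgroup R) [GradedRing 𝒜]
  {M : Type u} [AddCommGroup M] [Module R M] (ℳ : ι → AddSubgroup M) [DirectSum.Decomposition ℳ]
  [SetLike.GradedSMul 𝒜 ℳ]

/-- A *injective module has no proper *essential extension. -/
theorem surjective_of_isStarInj (hinj : GrLC.IsStarInj 𝒜 ℳ) (N : GrLC.GMod.{u} 𝒜)
    (f : M →ₗ[R] N.carrier) (hf : GrLC.IsStarEss ℳ N.gr f) : Function.Surjective f := by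
  obtain ⟨h, hh, hcomp⟩ := hinj (GrLC.GMod.of 𝒜 M ℳ) N f hf.grHom hf.injective LinearMap.id
    (fun g m hm => hm)
  have hhf : ∀ m, h (f m) = m := fun m => LinearMap.congr_fun hcomp m
  have hker : LinearMap.ker h = ⊥ := by
    by_contra hne
    apply hf.essential (LinearMap.ker h) (ker_isHomogeneous N.gr ℳ h hh) hne
    rw [eq_bot_iff]
    rintro x ⟨hx1, ⟨m, rfl⟩⟩
    have hm : m = 0 := by
      rw [← hhf m]
      exact hx1
    rw [hm, map_zero]
    exact Submodule.zero_mem _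
  intro n
  refine ⟨h n, ?_⟩
  apply LinearMap.ker_eq_bot.mp hker
  exact hhf (h n)

/-- A graded module admitting a homogeneous retraction from a *injective module containing it is
*injective. -/
theorem isStarInj_of_retract (E : GrLC.GMod.{u} 𝒜) (hE : GrLC.IsStarInj 𝒜 E.gr)
    (f₀ : M →ₗ[R] E.carrier) (hf₀ : GrLC.IsGrHom ℳ E.gr f₀) (ρ : E.carrier →ₗ[R] M)
    (hρ : GrLC.IsGrHom E.gr ℳ ρ) (hρf : ∀ m, ρ (f₀ m) = m) : GrLC.IsStarInj 𝒜 ℳ := by
  intro A B i hi iinj g hg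
  obtain ⟨h', hh', hcomp⟩ := hE A B i hi iinj (f₀ ∘ₗ g) (fun k a ha => hf₀ k _ (hg k a ha))
  refine ⟨ρ ∘ₗ h', fun k b hb => hρ k _ (hh' k b hb), ?_⟩
  apply LinearMap.ext
  intro a
  have h1 : h' (i a) = f₀ (g a) := LinearMap.congr_fun hcomp a
  rw [LinearMap.comp_apply, LinearMap.comp_apply, h1, hρf]

/-- A graded module without proper *essential extensions is *injective. -/
theorem isStarInj_of_forall_surjective
    (H : ∀ (N : GrLC.GMod.{u} 𝒜) (f : M →ₗ[R] N.carrier), GrLC.IsStarEss ℳ N.gr f →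
      Function.Surjective f) : GrLC.IsStarInj 𝒜 ℳ := by
  obtain ⟨E, f₀, hE, hf₀, hinj₀⟩ := exists_starInj_embedding 𝒜 ℳ
  obtain ⟨Nm, hNm⟩ := exists_maximal_homogeneous_disjoint E.gr (LinearMap.range f₀)
  obtain ⟨⟨hNhom, hNdisj⟩, hNmax⟩ := hNm
  let Q : GrLC.GMod.{u} 𝒜 := quotGMod E Nm hNhom
  let π : E.carrier →ₗ[R] Q.carrier := Nm.mkQ
  have hπ : GrLC.IsGrHom E.gr Q.gr π := mkQ_isGrHom E.gr Nm
  let f : M →ₗ[R] Q.carrier := π ∘ₗ f₀
  have hfinj : Function.Injective f := by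
    rw [injective_iff_map_eq_zero]
    intro m hm
    have h1 : f₀ m ∈ Nm := (Submodule.Quotient.mk_eq_zero Nm).mp hm
    have h2 : f₀ m ∈ Nm ⊓ LinearMap.range f₀ := ⟨h1, ⟨m, rfl⟩⟩
    rw [hNdisj] at h2
    exact hinj₀ (by rw [(Submodule.mem_bot R).mp h2, map_zero])
  have hfgr : GrLC.IsGrHom ℳ Q.gr f := fun k m hm => hπ k _ (hf₀ k m hm)
  have hess : GrLC.IsStarEss ℳ Q.gr f := by
    refine ⟨hfinj, hfgr, ?_⟩
    intro P hP hPne hcon
    have hP' : (P.comap π).IsHomogeneous E.gr := comap_isHomogeneous E.gr Q.gr π hπ P hP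
    have hle : Nm ≤ P.comap π := by
      intro x hx
      rw [Submodule.mem_comap]
      have : π x = 0 := (Submodule.Quotient.mk_eq_zero Nm).mpr hx
      rw [this]
      exact Submodule.zero_mem _
    have hdisj : P.comap π ⊓ LinearMap.range f₀ = ⊥ := by
      rw [eq_bot_iff]
      rintro x ⟨hx1, ⟨m, rfl⟩⟩
      have h3 : f m ∈ P ⊓ LinearMap.range f := ⟨hx1, ⟨m, rfl⟩⟩
      rw [hcon] at h3
      have hm : m = 0 := hfinj (by rw [(Submodule.mem_bot R).mp h3, map_zero])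
      rw [hm, map_zero]
      exact Submodule.zero_mem _
    have hle' : P.comap π ≤ Nm := hNmax ⟨hP', hdisj⟩ hle
    apply hPne
    rw [eq_bot_iff]
    intro q hq
    obtain ⟨x, rfl⟩ := Submodule.mkQ_surjective Nm q
    have hx : x ∈ Nm := hle' hq
    exact (Submodule.mem_bot R).mpr ((Submodule.Quotient.mk_eq_zero Nm).mpr hx)
  have hsurj : Function.Surjective f := H Q f hess
  let e : M ≃ₗ[R] Q.carrier := LinearEquiv.ofBijective f ⟨hfinj, hsurj⟩
  have he : GrLC.IsGrHom Q.gr ℳ e.symm.toLinearMap := symm_isGrHom ℳ Q.gr e hfgr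
  refine isStarInj_of_retract 𝒜 ℳ E hE f₀ hf₀ (e.symm.toLinearMap ∘ₗ π)
    (fun k x hx => he k _ (hπ k x hx)) ?_
  intro m
  change e.symm (f m) = m
  exact e.symm_apply_apply m

end crit

section hull

variable {ι : Type} [AddCommGroup ι] [DecidableEq ι] {R : Type u} [CommRing R]
  (𝒜 : ι → AddSubgroup R) [GradedRing 𝒜]
  {X : Type u} [AddCommGroup X] [Module R X] (𝓧 : ι → AddSubgroup X) [DirectSum.Decomposition 𝓧]
  [SetLike.GradedSMul 𝒜 𝓧]

/-- A nonzero homogeneous submodule contains a nonzero homogeneous element. -/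
theorem exists_homogeneous_mem (P : Submodule R X) (hP : P.IsHomogeneous 𝓧) (hne : P ≠ ⊥) :
    ∃ (g : ι) (x : X), x ∈ P ∧ x ∈ 𝓧 g ∧ x ≠ 0 := by
  classical
  obtain ⟨x, hxP, hx0⟩ := (Submodule.ne_bot_iff P).mp hne
  by_contra hcon
  push Not at hcon
  apply hx0
  rw [← DirectSum.sum_support_decompose 𝓧 x]
  refine Finset.sum_eq_zero fun g _ => ?_
  exact hcon g _ (hP g hxP) (SetLike.coe_mem _)

/-- `P` is a *essential extension of `K` (inside `X`). -/
def StarEssIn (K P : Submodule R X) : Prop :=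
  ∀ P' : Submodule R X, P'.IsHomogeneous 𝓧 → P' ≤ P → P' ≠ ⊥ → P' ⊓ K ≠ ⊥

include 𝒜 in
/-- Zorn: a maximal *essential extension of `K` inside `X`. -/
theorem exists_maximal_starEssIn (K : Submodule R X) (hK : K.IsHomogeneous 𝓧) :
    ∃ Em : Submodule R X,
      Maximal (fun P : Submodule R X => P.IsHomogeneous 𝓧 ∧ K ≤ P ∧ StarEssIn 𝓧 K P) Em := by
  have hK' : K ∈ {P : Submodule R X | P.IsHomogeneous 𝓧 ∧ K ≤ P ∧ StarEssIn 𝓧 K P} := by
    refine ⟨hK, le_refl _, ?_⟩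
    intro P' _ hle hne hcon
    apply hne
    rw [← hcon]
    exact (inf_eq_left.mpr hle).symm
  obtain ⟨N, -, hN⟩ := zorn_le_nonempty₀
    {P : Submodule R X | P.IsHomogeneous 𝓧 ∧ K ≤ P ∧ StarEssIn 𝓧 K P}
    (fun c hc hchain y hy => by
      have hne : c.Nonempty := ⟨y, hy⟩
      have hdir : DirectedOn (· ≤ ·) c := hchain.directedOn
      refine ⟨sSup c, ⟨?_, ?_, ?_⟩, fun z hz => le_sSup hz⟩
      · intro g x hx
        obtain ⟨P, hPc, hxP⟩ := (Submodule.mem_sSup_of_directed hne hdir).mp hx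
        exact (Submodule.mem_sSup_of_directed hne hdir).mpr ⟨P, hPc, (hc hPc).1 g hxP⟩
      · exact le_trans (hc hy).2.1 (le_sSup hy)
      · intro P' hP' hle hP'ne hcon
        obtain ⟨g, x, hxP', hxg, hx0⟩ := exists_homogeneous_mem 𝓧 P' hP' hP'ne
        obtain ⟨P₁, hP₁c, hxP₁⟩ := (Submodule.mem_sSup_of_directed hne hdir).mp (hle hxP')
        have hspan_hom : (Submodule.span R {x}).IsHomogeneous 𝓧 :=
          span_singleton_isHomogeneous 𝒜 𝓧 hxg
        have hspan_le : Submodule.span R {x} ≤ P₁ := by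
          rw [Submodule.span_singleton_le_iff_mem]
          exact hxP₁
        have hspan_ne : Submodule.span R {x} ≠ ⊥ := by
          rw [Ne, Submodule.span_singleton_eq_bot]
          exact hx0
        apply (hc hP₁c).2.2 _ hspan_hom hspan_le hspan_ne
        rw [eq_bot_iff, ← hcon]
        have hspan_le' : Submodule.span R {x} ≤ P' := by
          rw [Submodule.span_singleton_le_iff_mem]
          exact hxP'
        exact inf_le_inf_right K hspan_le') K hK'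
  exact ⟨N, hN⟩

end hull


section main

variable {ι : Type} [AddCommGroup ι] [DecidableEq ι] {R : Type u} [CommRing R]
  (𝒜 : ι → AddSubgroup R) [GradedRing 𝒜]
  {M : Type u} [AddCommGroup M] [Module R M] (ℳ : ι → AddSubgroup M) [DirectSum.Decomposition ℳ]
  [SetLike.GradedSMul 𝒜 ℳ]

/-- A maximal *essential extension of `K` inside a *injective module is *injective. -/
theorem isStarInj_sub_of_maximal (F : GrLC.GMod.{u} 𝒜) (hF : GrLC.IsStarInj 𝒜 F.gr)
    (K Em : Submodule R F.carrier) (hEhom : Em.IsHomogeneous F.gr) (hKE : K ≤ Em)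
    (hEess : StarEssIn F.gr K Em)
    (hEmax : ∀ ⦃y : Submodule R F.carrier⦄,
      (y.IsHomogeneous F.gr ∧ K ≤ y ∧ StarEssIn F.gr K y) → Em ≤ y → y ≤ Em) :
    GrLC.IsStarInj 𝒜 (subGMod F Em hEhom).gr := by
  let E : GrLC.GMod.{u} 𝒜 := subGMod F Em hEhom
  let ιE : E.carrier →ₗ[R] F.carrier := Em.subtype
  have hι : GrLC.IsGrHom E.gr F.gr ιE := subtype_isGrHom F.gr Em
  have hιinj : ∀ y : E.carrier, ιE y = 0 → y = 0 := fun y h => Subtype.ext h
  change GrLC.IsStarInj 𝒜 E.gr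
  apply isStarInj_of_forall_surjective 𝒜 E.gr
  intro Q' φ hφ
  obtain ⟨ψ, hψ, hψφ⟩ := hF E Q' φ hφ.grHom hφ.injective ιE hι
  have hψφ' : ∀ y, ψ (φ y) = ιE y := fun y => LinearMap.congr_fun hψφ y
  have hψ_ker : LinearMap.ker ψ = ⊥ := by
    by_contra hne
    apply hφ.essential (LinearMap.ker ψ) (ker_isHomogeneous Q'.gr F.gr ψ hψ) hne
    rw [eq_bot_iff]
    rintro q ⟨hq1, ⟨y, rfl⟩⟩
    have h1 : ιE y = 0 := by
      rw [← hψφ' y]
      exact hq1
    rw [hιinj y h1, map_zero]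
    exact Submodule.zero_mem _
  have hψ_inj : Function.Injective ψ := LinearMap.ker_eq_bot.mp hψ_ker
  have hP₂hom : (LinearMap.range ψ).IsHomogeneous F.gr :=
    range_isHomogeneous Q'.gr F.gr ψ hψ
  have hEP₂ : Em ≤ LinearMap.range ψ := by
    intro x hx
    exact ⟨φ ⟨x, hx⟩, hψφ' ⟨x, hx⟩⟩
  have hP₂ess : StarEssIn F.gr K (LinearMap.range ψ) := by
    intro P' hP' hle hP'ne hcon
    have hP''hom : (P'.comap ψ).IsHomogeneous Q'.gr :=
      comap_isHomogeneous Q'.gr F.gr ψ hψ P' hP'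
    have hP''ne : P'.comap ψ ≠ ⊥ := by
      obtain ⟨x, hx, hx0⟩ := (Submodule.ne_bot_iff _).mp hP'ne
      obtain ⟨q, rfl⟩ := hle hx
      intro h
      have h1 : q ∈ P'.comap ψ := hx
      rw [h] at h1
      apply hx0
      rw [(Submodule.mem_bot R).mp h1, map_zero]
    obtain ⟨q, ⟨hq1, ⟨y, rfl⟩⟩, hq0⟩ :=
      (Submodule.ne_bot_iff _).mp (hφ.essential _ hP''hom hP''ne)
    have hyP' : ιE y ∈ P' := by
      rw [← hψφ' y]
      exact hq1
    have hy0 : ιE y ≠ 0 := by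
      intro h
      apply hq0
      rw [hιinj y h, map_zero]
    have hinf_hom : (P' ⊓ Em).IsHomogeneous F.gr := fun g x hx => ⟨hP' g hx.1, hEhom g hx.2⟩
    have hinf_ne : P' ⊓ Em ≠ ⊥ := by
      intro h
      have h1 : ιE y ∈ P' ⊓ Em := ⟨hyP', y.2⟩
      rw [h] at h1
      exact hy0 ((Submodule.mem_bot R).mp h1)
    apply hEess _ hinf_hom inf_le_right hinf_ne
    rw [eq_bot_iff, ← hcon]
    exact inf_le_inf_right _ inf_le_left
  have hP₂le : LinearMap.range ψ ≤ Em :=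
    hEmax ⟨hP₂hom, le_trans hKE hEP₂, hP₂ess⟩ hEP₂
  intro q
  have hq : ψ q ∈ Em := hP₂le ⟨q, rfl⟩
  let y : E.carrier := ⟨ψ q, hq⟩
  refine ⟨y, ?_⟩
  apply hψ_inj
  exact hψφ' y

/-- *Essentiality of `K ≤ Em` in `Em`, in terms of the sub graded module. -/
theorem sub_essential (F : GrLC.GMod.{u} 𝒜) (K Em : Submodule R F.carrier)
    (hEhom : Em.IsHomogeneous F.gr) (hEess : StarEssIn F.gr K Em)
    (P : Submodule R (subGMod F Em hEhom).carrier) (hP : P.IsHomogeneous (subGMod F Em hEhom).gr)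
    (hPne : P ≠ ⊥) : ∃ y : (subGMod F Em hEhom).carrier, y ∈ P ∧ y ≠ 0 ∧ Em.subtype y ∈ K := by
  let E : GrLC.GMod.{u} 𝒜 := subGMod F Em hEhom
  let ιE : E.carrier →ₗ[R] F.carrier := Em.subtype
  have hι : GrLC.IsGrHom E.gr F.gr ιE := subtype_isGrHom F.gr Em
  have hιinj : ∀ y : E.carrier, ιE y = 0 → y = 0 := fun y h => Subtype.ext h
  have hmap_hom : (P.map ιE).IsHomogeneous F.gr := by
    rintro g _ ⟨y, hy, rfl⟩
    refine ⟨(DirectSum.decompose E.gr y g : E.gr g), hP g hy, ?_⟩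
    exact (decompose_map E.gr F.gr ιE hι y g).symm
  have hmap_le : P.map ιE ≤ Em := by
    rintro _ ⟨y, -, rfl⟩
    exact y.2
  have hmap_ne : P.map ιE ≠ ⊥ := by
    intro h
    apply hPne
    rw [eq_bot_iff]
    intro y hy
    have h1 : ιE y ∈ P.map ιE := ⟨y, hy, rfl⟩
    rw [h] at h1
    exact (Submodule.mem_bot R).mpr (hιinj y ((Submodule.mem_bot R).mp h1))
  obtain ⟨x, ⟨⟨y, hy, rfl⟩, hxK⟩, hx0⟩ :=
    (Submodule.ne_bot_iff _).mp (hEess _ hmap_hom hmap_le hmap_ne)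
  refine ⟨y, hy, ?_, hxK⟩
  intro h
  apply hx0
  rw [h, map_zero]

/-- Every graded module has a *injective envelope. -/
theorem exists_starInjHull :
    ∃ (E : GrLC.GMod.{u} 𝒜) (f : M →ₗ[R] E.carrier), GrLC.IsStarInjHull 𝒜 ℳ E.gr f := by
  obtain ⟨F, f₀, hF, hf₀, hinj₀⟩ := exists_starInj_embedding 𝒜 ℳ
  have hK : (LinearMap.range f₀).IsHomogeneous F.gr := range_isHomogeneous ℳ F.gr f₀ hf₀
  obtain ⟨Em, ⟨hEhom, hKE, hEess⟩, hEmax⟩ :=
    exists_maximal_starEssIn 𝒜 F.gr (LinearMap.range f₀) hK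
  let E : GrLC.GMod.{u} 𝒜 := subGMod F Em hEhom
  let ιE : E.carrier →ₗ[R] F.carrier := Em.subtype
  have hι : GrLC.IsGrHom E.gr F.gr ιE := subtype_isGrHom F.gr Em
  have hιinj : ∀ y : E.carrier, ιE y = 0 → y = 0 := fun y h => Subtype.ext h
  let f : M →ₗ[R] E.carrier := LinearMap.codRestrict Em f₀ (fun m => hKE ⟨m, rfl⟩)
  have hff₀ : ∀ m, ιE (f m) = f₀ m := fun m => rfl
  have hf_inj : Function.Injective f := by
    intro a b h
    apply hinj₀
    rw [← hff₀ a, ← hff₀ b, h]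
  have hf_gr : GrLC.IsGrHom ℳ E.gr f := fun k m hm => hf₀ k m hm
  have hf_ess : ∀ P : Submodule R E.carrier, P.IsHomogeneous E.gr → P ≠ ⊥ →
      P ⊓ LinearMap.range f ≠ ⊥ := by
    intro P hP hPne hcon
    have hmap_hom : (P.map ιE).IsHomogeneous F.gr := by
      rintro g _ ⟨y, hy, rfl⟩
      refine ⟨(DirectSum.decompose E.gr y g : E.gr g), hP g hy, ?_⟩
      exact (decompose_map E.gr F.gr ιE hι y g).symm
    have hmap_le : P.map ιE ≤ Em := by
      rintro _ ⟨y, -, rfl⟩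
      exact y.2
    have hmap_ne : P.map ιE ≠ ⊥ := by
      intro h
      apply hPne
      rw [eq_bot_iff]
      intro y hy
      have h1 : ιE y ∈ P.map ιE := ⟨y, hy, rfl⟩
      rw [h] at h1
      exact (Submodule.mem_bot R).mpr (hιinj y ((Submodule.mem_bot R).mp h1))
    apply hEess _ hmap_hom hmap_le hmap_ne
    rw [eq_bot_iff]
    rintro x ⟨⟨y, hy, rfl⟩, ⟨m, hm⟩⟩
    have hy' : f m = y := Subtype.ext hm
    have h2 : y ∈ P ⊓ LinearMap.range f := ⟨hy, ⟨m, hy'⟩⟩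
    rw [hcon] at h2
    rw [(Submodule.mem_bot R).mp h2, map_zero]
    exact Submodule.zero_mem _
  have hE_inj : GrLC.IsStarInj 𝒜 E.gr := by
    apply isStarInj_of_forall_surjective 𝒜 E.gr
    intro Q' φ hφ
    obtain ⟨ψ, hψ, hψφ⟩ := hF E Q' φ hφ.grHom hφ.injective ιE hι
    have hψφ' : ∀ y, ψ (φ y) = ιE y := fun y => LinearMap.congr_fun hψφ y
    have hψ_ker : LinearMap.ker ψ = ⊥ := by
      by_contra hne
      apply hφ.essential (LinearMap.ker ψ) (ker_isHomogeneous Q'.gr F.gr ψ hψ) hne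
      rw [eq_bot_iff]
      rintro q ⟨hq1, ⟨y, rfl⟩⟩
      have h1 : ιE y = 0 := by
        rw [← hψφ' y]
        exact hq1
      rw [hιinj y h1, map_zero]
      exact Submodule.zero_mem _
    have hψ_inj : Function.Injective ψ := LinearMap.ker_eq_bot.mp hψ_ker
    have hP₂hom : (LinearMap.range ψ).IsHomogeneous F.gr :=
      range_isHomogeneous Q'.gr F.gr ψ hψ
    have hEP₂ : Em ≤ LinearMap.range ψ := by
      intro x hx
      exact ⟨φ ⟨x, hx⟩, hψφ' ⟨x, hx⟩⟩
    have hP₂ess : StarEssIn F.gr (LinearMap.range f₀) (LinearMap.range ψ) := by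
      intro P' hP' hle hP'ne hcon
      have hP''hom : (P'.comap ψ).IsHomogeneous Q'.gr :=
        comap_isHomogeneous Q'.gr F.gr ψ hψ P' hP'
      have hP''ne : P'.comap ψ ≠ ⊥ := by
        obtain ⟨x, hx, hx0⟩ := (Submodule.ne_bot_iff _).mp hP'ne
        obtain ⟨q, rfl⟩ := hle hx
        intro h
        have h1 : q ∈ P'.comap ψ := hx
        rw [h] at h1
        apply hx0
        rw [(Submodule.mem_bot R).mp h1, map_zero]
      obtain ⟨q, ⟨hq1, ⟨y, rfl⟩⟩, hq0⟩ :=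
        (Submodule.ne_bot_iff _).mp (hφ.essential _ hP''hom hP''ne)
      have hyP' : ιE y ∈ P' := by
        rw [← hψφ' y]
        exact hq1
      have hy0 : ιE y ≠ 0 := by
        intro h
        apply hq0
        rw [hιinj y h, map_zero]
      have hinf_hom : (P' ⊓ Em).IsHomogeneous F.gr := fun g x hx => ⟨hP' g hx.1, hEhom g hx.2⟩
      have hinf_ne : P' ⊓ Em ≠ ⊥ := by
        intro h
        have h1 : ιE y ∈ P' ⊓ Em := ⟨hyP', y.2⟩
        rw [h] at h1
        exact hy0 ((Submodule.mem_bot R).mp h1)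
      apply hEess _ hinf_hom inf_le_right hinf_ne
      rw [eq_bot_iff, ← hcon]
      exact inf_le_inf_right _ inf_le_left
    have hP₂le : LinearMap.range ψ ≤ Em :=
      hEmax ⟨hP₂hom, le_trans hKE hEP₂, hP₂ess⟩ hEP₂
    intro q
    have hq : ψ q ∈ Em := hP₂le ⟨q, rfl⟩
    let y : E.carrier := ⟨ψ q, hq⟩
    refine ⟨y, ?_⟩
    apply hψ_inj
    exact hψφ' y
  exact ⟨E, f, ⟨⟨hf_inj, hf_gr, hf_ess⟩, hE_inj⟩⟩

end main

end Groth.Agent.Lib.Helper20.GrLCHull
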