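import Groth.Prelude.Def_GrLC
import Groth.Agent.Lib.Helper20.GrLCBasic
import Groth.Agent.Lib.Helper20.GrLCQuot
import Groth.Agent.Lib.Helper20.GrLCCofree
import Groth.Agent.Lib.Helper20.GrLCHull
import Mathlib

/-!
# Homogeneous elements with prime annihilator (helper20)
-/

set_option autoImplicit false
set_option linter.unusedSectionVars false
universe u

namespace Groth.Agent.Lib.Helper20.GrLCPrime

open Groth.Agent.Lib.Helper20.GrLCBasic Groth.Agent.Lib.Helper20.GrLCQuot
  Groth.Agent.Lib.Helper20.GrLCCofree Groth.Agent.Lib.Helper20.GrLCHull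

/-- A finitely generated free abelian group carries a compatible linear order. -/
theorem exists_linearOrder (ι : Type) [AddCommGroup ι] [dec : DecidableEq ι] [Module.Free ℤ ι]
    [Module.Finite ℤ ι] :
    ∃ (lo : LinearOrder ι), @IsOrderedCancelAddMonoid ι _ lo.toPartialOrder.toPreorder ∧
      lo.toDecidableEq = dec := by
  classical
  let b := Module.Free.chooseBasis ℤ ι
  let n := Fintype.card (Module.Free.ChooseBasisIndex ℤ ι)
  let e₀ : Module.Free.ChooseBasisIndex ℤ ι ≃ Fin n := Fintype.equivFin _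
  let φ : ι → Lex (Fin n → ℤ) := fun x => toLex (fun i => b.repr x (e₀.symm i))
  have hφinj : Function.Injective φ := by
    intro x y h
    apply b.repr.injective
    ext j
    have := congrFun (toLex.injective h) (e₀ j)
    simpa using this
  have hφadd : ∀ x y, φ (x + y) = φ x + φ y := by
    intro x y
    apply toLex.injective
    funext i
    change (b.repr (x + y)) (e₀.symm i) = (b.repr x) (e₀.symm i) + (b.repr y) (e₀.symm i)
    rw [map_add]
    rfl
  let lo : LinearOrder ι := LinearOrder.lift' φ hφinj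
  refine ⟨lo, ?_, Subsingleton.elim _ _⟩
  exact Function.Injective.isOrderedCancelAddMonoid φ hφadd Iff.rfl

/-- A homogeneous ideal that is prime with respect to homogeneous elements is prime (grading group
finitely generated and torsion-free). -/
theorem isPrime_of_homogeneous_mem_or_mem' {ι : Type} [AddCommGroup ι] [DecidableEq ι]
    [Module.Free ℤ ι] [Module.Finite ℤ ι] {R : Type u} [CommRing R] {𝒜 : ι → AddSubgroup R}
    [GradedRing 𝒜] {I : Ideal R} (hI : I.IsHomogeneous 𝒜) (hne : I ≠ ⊤)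
    (h : ∀ {x y : R}, SetLike.IsHomogeneousElem 𝒜 x → SetLike.IsHomogeneousElem 𝒜 y →
      x * y ∈ I → x ∈ I ∨ y ∈ I) : I.IsPrime := by
  obtain ⟨lo, hlo, hdec⟩ := exists_linearOrder ι
  subst hdec
  exact hI.isPrime_of_homogeneous_mem_or_mem hne h

section ann

variable {ι : Type} [AddCommGroup ι] [DecidableEq ι] [Module.Free ℤ ι] [Module.Finite ℤ ι]
  {R : Type u} [CommRing R] [IsNoetherianRing R]
  (𝒜 : ι → AddSubgroup R) [GradedRing 𝒜]
  {L : Type u} [AddCommGroup L] [Module R L] (𝓛 : ι → AddSubgroup L) [DirectSum.Decomposition 𝓛]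
  [SetLike.GradedSMul 𝒜 𝓛]

/-- The annihilator of a homogeneous element is a homogeneous ideal. -/
theorem ann_isHomogeneous {m : L} {g₀ : ι} (hm : m ∈ 𝓛 g₀) :
    Ideal.IsHomogeneous 𝒜 (Submodule.span R {m}).annihilator := by
  intro h r hr
  rw [Submodule.mem_annihilator_span_singleton] at hr ⊢
  rw [← decompose_smul_right 𝒜 𝓛 hm r h, hr, DirectSum.decompose_zero]
  rfl

/-- A nonzero graded module over a Noetherian graded ring has a nonzero homogeneous element whose
annihilator is a homogeneous prime ideal. -/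
theorem exists_homogeneous_prime_ann [Nontrivial L] :
    ∃ (g₀ : ι) (m : L) (q : HomogeneousIdeal 𝒜), m ∈ 𝓛 g₀ ∧ m ≠ 0 ∧ q.toIdeal.IsPrime ∧
      (Submodule.span R {m}).annihilator = q.toIdeal := by
  have htop_hom : (⊤ : Submodule R L).IsHomogeneous 𝓛 := fun _ _ _ => Submodule.mem_top
  have htop_ne : (⊤ : Submodule R L) ≠ ⊥ := top_ne_bot
  obtain ⟨g₁, m₁, -, hm₁, hm₁0⟩ := exists_homogeneous_mem 𝓛 ⊤ htop_hom htop_ne
  let 𝒮 : Set (Ideal R) :=
    {J | ∃ (g : ι) (m : L), m ∈ 𝓛 g ∧ m ≠ 0 ∧ J = (Submodule.span R {m}).annihilator}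
  have h𝒮 : 𝒮.Nonempty := ⟨_, g₁, m₁, hm₁, hm₁0, rfl⟩
  obtain ⟨p, ⟨g₀, m₀, hm₀, hm₀0, rfl⟩, hpmax⟩ :=
    (set_has_maximal_iff_noetherian.mpr (inferInstance : IsNoetherian R R)) 𝒮 h𝒮
  have hhom : Ideal.IsHomogeneous 𝒜 (Submodule.span R {m₀}).annihilator :=
    ann_isHomogeneous 𝒜 𝓛 hm₀
  have hne : (Submodule.span R {m₀}).annihilator ≠ ⊤ := by
    intro h
    have h1 : (1 : R) ∈ (Submodule.span R {m₀}).annihilator := by
      rw [h]
      exact Submodule.mem_top
    rw [Submodule.mem_annihilator_span_singleton, one_smul] at h1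
    exact hm₀0 h1
  have hprime : (Submodule.span R {m₀}).annihilator.IsPrime := by
    apply isPrime_of_homogeneous_mem_or_mem' hhom hne
    rintro x y ⟨i, hx⟩ ⟨j, hy⟩ hxy
    by_cases hyp : y ∈ (Submodule.span R {m₀}).annihilator
    · exact Or.inr hyp
    · left
      have hym0 : y • m₀ ≠ 0 := by
        intro h
        exact hyp ((Submodule.mem_annihilator_span_singleton m₀ y).mpr h)
      have hymem : y • m₀ ∈ 𝓛 (j + g₀) := SetLike.GradedSMul.smul_mem (A := 𝒜) (B := 𝓛) hy hm₀
      have hJ : (Submodule.span R {y • m₀}).annihilator ∈ 𝒮 := ⟨_, _, hymem, hym0, rfl⟩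
      have hle : (Submodule.span R {m₀}).annihilator ≤ (Submodule.span R {y • m₀}).annihilator := by
        intro r hr
        rw [Submodule.mem_annihilator_span_singleton] at hr ⊢
        rw [smul_comm, hr, smul_zero]
      have heq : (Submodule.span R {m₀}).annihilator = (Submodule.span R {y • m₀}).annihilator :=
        eq_of_le_of_not_lt hle (hpmax _ hJ)
      rw [heq, Submodule.mem_annihilator_span_singleton, ← mul_smul]
      exact (Submodule.mem_annihilator_span_singleton m₀ (x * y)).mp hxy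
  exact ⟨g₀, m₀, ⟨(Submodule.span R {m₀}).annihilator, hhom⟩, hm₀, hm₀0, hprime, rfl⟩

end ann

end Groth.Agent.Lib.Helper20.GrLCPrime
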