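import Groth.Prelude.Def_GrLC
import Groth.Agent.Lib.Helper20.GrLCBasic
import Groth.Agent.Lib.Helper20.GrLCQuot
import Groth.Agent.Lib.Helper20.GrLCCofree
import Groth.Agent.Lib.Helper20.GrLCHull
import Groth.Agent.Lib.Helper20.GrLCPrime
import Mathlib

/-!
# Ext vanishing against *injective modules (helper20)
-/

set_option autoImplicit false
set_option linter.unusedSectionVars false
universe u

namespace Groth.Agent.Lib.Helper20.GrLCExt

open Groth.Agent.Lib.Helper20.GrLCBasic Groth.Agent.Lib.Helper20.GrLCQuot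
  Groth.Agent.Lib.Helper20.GrLCCofree Groth.Agent.Lib.Helper20.GrLCHull
  Groth.Agent.Lib.Helper20.GrLCPrime
open CategoryTheory Abelian

section ext

variable {R : Type u} [CommRing R] (I : Type u) [AddCommGroup I] [Module R I]

/-- `Ext^i(N, I) = 0`. -/
def Van (i : ℕ) (N : Type u) [AddCommGroup N] [Module R N] : Prop :=
  Subsingleton (Ext.{u} (ModuleCat.of R N) (ModuleCat.of R I) i)

variable {I}

theorem van_of_equiv {i : ℕ} {N N' : Type u} [AddCommGroup N] [Module R N] [AddCommGroup N']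
    [Module R N'] (e : N ≃ₗ[R] N') (h : Van (R := R) I i N) : Van (R := R) I i N' := by
  have := h
  unfold Van at this ⊢
  refine subsingleton_of_forall_eq 0 fun x' => ?_
  let E : ModuleCat.of R N ≅ ModuleCat.of R N' := e.toModuleIso
  have h1 : (Ext.mk₀ E.inv).comp ((Ext.mk₀ E.hom).comp x' (zero_add i)) (zero_add i) = x' := by
    rw [Ext.mk₀_comp_mk₀_assoc, E.inv_hom_id, Ext.mk₀_id_comp]
  rw [← h1, Subsingleton.elim ((Ext.mk₀ E.hom).comp x' (zero_add i)) 0, Ext.comp_zero]

theorem van_of_surjective {i : ℕ} {M N : Type u} [AddCommGroup M] [Module R M] [AddCommGroup N]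
    [Module R N] (g : M →ₗ[R] N) (hg : Function.Surjective g)
    (h1 : Van (R := R) I i (LinearMap.ker g)) (h3 : Van (R := R) I i N) : Van (R := R) I i M := by
  have hS := LinearMap.shortExact_shortComplexKer hg
  have := h1
  have := h3
  unfold Van at *
  refine subsingleton_of_forall_eq 0 fun x₂ => ?_
  obtain ⟨x₃, hx₃⟩ := Ext.contravariant_sequence_exact₂ hS (ModuleCat.of R I) x₂
    (Subsingleton.elim _ _)
  rw [← hx₃, Subsingleton.elim x₃ 0, Ext.comp_zero]

theorem van_succ_of_projective {i : ℕ} {F N : Type u} [AddCommGroup F] [Module R F]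
    [AddCommGroup N] [Module R N] [Module.Projective R F] (g : F →ₗ[R] N)
    (hg : Function.Surjective g)
    (h1 : Van (R := R) I (i + 1) (LinearMap.ker g)) : Van (R := R) I (i + 2) N := by
  have hS := LinearMap.shortExact_shortComplexKer hg
  have := h1
  unfold Van at *
  refine subsingleton_of_forall_eq 0 fun x₃ => ?_
  have hproj : Projective (ModuleCat.of R F) :=
    (IsProjective.iff_projective (R := R) (P := F)).mp inferInstance
  have h0 : (Ext.mk₀ g.shortComplexKer.g).comp x₃ (zero_add (i + 2)) = 0 :=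
    Ext.eq_zero_of_projective _
  obtain ⟨x₁, hx₁⟩ := Ext.contravariant_sequence_exact₃ hS (ModuleCat.of R I) x₃ h0
    (show 1 + (i + 1) = i + 2 by omega)
  rw [← hx₁, Subsingleton.elim x₁ 0, Ext.comp_zero]

theorem van_one_of_extends {F N : Type u} [AddCommGroup F] [Module R F] [AddCommGroup N]
    [Module R N] [Module.Projective R F] (g : F →ₗ[R] N) (hg : Function.Surjective g)
    (hext : ∀ φ : LinearMap.ker g →ₗ[R] I, ∃ ψ : F →ₗ[R] I, ψ ∘ₗ (LinearMap.ker g).subtype = φ) :
    Van (R := R) I 1 N := by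
  have hS := LinearMap.shortExact_shortComplexKer hg
  unfold Van
  refine subsingleton_of_forall_eq 0 fun x₃ => ?_
  have hproj : Projective (ModuleCat.of R F) :=
    (IsProjective.iff_projective (R := R) (P := F)).mp inferInstance
  have h0 : (Ext.mk₀ g.shortComplexKer.g).comp x₃ (zero_add 1) = 0 :=
    Ext.eq_zero_of_projective _
  obtain ⟨x₁, hx₁⟩ := Ext.contravariant_sequence_exact₃ hS (ModuleCat.of R I) x₃ h0
    (show 1 + 0 = 1 by omega)
  obtain ⟨ψ, hψ⟩ := hext (Ext.homEquiv₀ x₁).hom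
  have h2 : x₁ = (Ext.mk₀ g.shortComplexKer.f).comp (Ext.mk₀ (ModuleCat.ofHom ψ)) (zero_add 0) := by
    rw [Ext.mk₀_comp_mk₀, ← Ext.mk₀_homEquiv₀_apply x₁]
    congr 1
    ext x
    exact (LinearMap.congr_fun hψ x).symm
  rw [← hx₁, h2]
  exact hS.extClass_comp_assoc _

theorem van_of_subsingleton {i : ℕ} {N : Type u} [AddCommGroup N] [Module R N] [Subsingleton N] :
    Van (R := R) I (i + 1) N := by
  unfold Van
  have hproj : Projective (ModuleCat.of R N) :=
    (IsProjective.iff_projective (R := R) (P := N)).mp inferInstance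
  exact Ext.subsingleton_of_projective _ _ _

end ext

section shiftInj

variable {ι : Type} [AddCommGroup ι] [DecidableEq ι] {R : Type u} [CommRing R]
  (𝒜 : ι → AddSubgroup R) [GradedRing 𝒜]

/-- The shift of a bundled graded module. -/
noncomputable def shiftGMod (X : GrLC.GMod.{u} 𝒜) (g : ι) : GrLC.GMod.{u} 𝒜 where
  carrier := X.carrier
  gr := shiftGr X.gr g

variable {I : Type u} [AddCommGroup I] [Module R I] (ℐ : ι → AddSubgroup I)
  [DirectSum.Decomposition ℐ] [SetLike.GradedSMul 𝒜 ℐ]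

/-- A shift of a *injective module is *injective. -/
theorem isStarInj_shift (hI : GrLC.IsStarInj 𝒜 ℐ) (d : ι) : GrLC.IsStarInj 𝒜 (shiftGr ℐ d) := by
  intro A B f hf finj g hg
  obtain ⟨h, hh, hcomp⟩ := hI (shiftGMod 𝒜 A (-d)) (shiftGMod 𝒜 B (-d)) f
    (fun j m hm => hf (j + -d) m hm) finj g
    (fun j m hm => by
      have h1 := hg (j + -d) m hm
      change g m ∈ ℐ (j + -d + d) at h1
      rwa [neg_add_cancel_right] at h1)
  refine ⟨h, fun k m hm => ?_, hcomp⟩
  have hm' : m ∈ (shiftGMod 𝒜 B (-d)).gr (k + d) := by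
    change m ∈ B.gr (k + d + -d)
    rwa [add_neg_cancel_right]
  exact hh (k + d) m hm'

end shiftInj


section baer

variable {ι : Type} [AddCommGroup ι] [DecidableEq ι] {R : Type u} [CommRing R]
  (𝒜 : ι → AddSubgroup R) [GradedRing 𝒜]
  {I : Type u} [AddCommGroup I] [Module R I] (ℐ : ι → AddSubgroup I)
  [DirectSum.Decomposition ℐ] [SetLike.GradedSMul 𝒜 ℐ]

/-- The component of degree `e`, as an additive map. -/
noncomputable def compAdd (e : ι) : I →+ I where
  toFun x := ((DirectSum.decompose ℐ x e : ℐ e) : I)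
  map_zero' := by
    rw [DirectSum.decompose_zero]
    rfl
  map_add' x y := by
    rw [DirectSum.decompose_add, DirectSum.add_apply, AddSubgroup.coe_add]

theorem compAdd_apply (e : ι) (x : I) :
    compAdd ℐ e x = ((DirectSum.decompose ℐ x e : ℐ e) : I) := rfl

/-- The `d`-th diagonal projection `⊕_g I → I`, `x` in slot `g` going to `x_{g+d}`: additive. -/
noncomputable def prAdd (d : ι) : Tw 𝒜 I →+ I :=
  (Finsupp.liftAddHom (fun g : ι => compAdd ℐ (g + d)) : (ι →₀ I) →+ I)

theorem prAdd_tsingle (d g : ι) (x : I) :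
    prAdd 𝒜 ℐ d (tsingle 𝒜 I g x) = ((DirectSum.decompose ℐ x (g + d) : ℐ (g + d)) : I) := by
  change (Finsupp.liftAddHom (fun g : ι => compAdd ℐ (g + d))) (Finsupp.single g x) = _
  rw [Finsupp.liftAddHom_apply_single]
  rfl

/-- The `d`-th diagonal projection `⊕_g I → I`, `R`-linear. -/
noncomputable def prD (d : ι) : Tw 𝒜 I →ₗ[R] I where
  toFun := prAdd 𝒜 ℐ d
  map_add' := map_add _
  map_smul' := by
    intro r x
    simp only [RingHom.id_apply]
    induction r using DirectSum.Decomposition.inductionOn 𝒜 with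
    | zero => simp
    | @homogeneous h r =>
      induction x using tw_induction with
      | zero => simp
      | add x y hx hy => rw [smul_add, map_add, map_add, hx, hy, smul_add]
      | single g y =>
        rw [smul_tsingle 𝒜 I r.2, prAdd_tsingle, prAdd_tsingle, add_right_comm,
          decompose_smul_left 𝒜 ℐ r.2 y (g + d)]
    | add r r' hr hr' =>
      rw [add_smul, map_add, hr, hr', add_smul]

theorem prD_tsingle (d g : ι) (x : I) :
    prD 𝒜 ℐ d (tsingle 𝒜 I g x) = ((DirectSum.decompose ℐ x (g + d) : ℐ (g + d)) : I) :=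
  prAdd_tsingle 𝒜 ℐ d g x

open Classical in
/-- Summing the diagonal projections over a large enough finite set recovers the element. -/
theorem sum_decompose_shift (x : I) (g : ι) (D : Finset ι)
    (hD : ∀ e ∈ (DirectSum.decompose ℐ x).support, e - g ∈ D) :
    ∑ d ∈ D, ((DirectSum.decompose ℐ x (g + d) : ℐ (g + d)) : I) = x := by
  have h1 : ∑ d ∈ D, ((DirectSum.decompose ℐ x (g + d) : ℐ (g + d)) : I) =
      ∑ e ∈ D.map (addLeftEmbedding g), ((DirectSum.decompose ℐ x e : ℐ e) : I) := by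
    rw [Finset.sum_map]
    rfl
  rw [h1]
  conv_rhs => rw [← DirectSum.sum_support_decompose ℐ x]
  symm
  apply Finset.sum_subset
  · intro e he
    rw [Finset.mem_map]
    refine ⟨e - g, hD e he, ?_⟩
    change g + (e - g) = e
    abel
  · intro e _ he
    rw [DFinsupp.notMem_support_iff] at he
    rw [he]
    rfl

end baer


section baer2

variable {ι : Type} [AddCommGroup ι] [DecidableEq ι] {R : Type u} [CommRing R] [IsNoetherianRing R]
  (𝒜 : ι → AddSubgroup R) [GradedRing 𝒜]
  {I : Type u} [AddCommGroup I] [Module R I] (ℐ : ι → AddSubgroup I)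
  [DirectSum.Decomposition ℐ] [SetLike.GradedSMul 𝒜 ℐ]

open Classical in
/-- Graded Baer property: a linear map from a homogeneous ideal to a *injective module is
multiplication by an element. -/
theorem exists_smul_eq_of_isStarInj (hI : GrLC.IsStarInj 𝒜 ℐ) (J : Ideal R)
    (hJ : J.IsHomogeneous 𝒜) (φ : ↥J →ₗ[R] I) : ∃ y : I, ∀ r : ↥J, φ r = (r : R) • y := by
  let _ : DirectSum.Decomposition (subGr 𝒜 J) := (isInternal_subGr 𝒜 J hJ).chooseDecomposition
  let Φ : ↥J →ₗ[R] Tw 𝒜 I := grLift 𝒜 I (subGr 𝒜 J) φ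
  have hΦ : ∀ (g : ι) (a : ↥J), (a : R) ∈ 𝒜 g → Φ a = tsingle 𝒜 I g (φ a) :=
    fun g a ha => grLift_of_mem 𝒜 I (subGr 𝒜 J) φ ha
  have hext : ∀ d : ι, ∃ ψ : R →ₗ[R] I, ∀ a : ↥J, ψ (a : R) = prD 𝒜 ℐ d (Φ a) := by
    intro d
    have hgr : GrLC.IsGrHom (subGr 𝒜 J) (shiftGr ℐ d) ((prD 𝒜 ℐ d) ∘ₗ Φ) := by
      intro g a ha
      rw [LinearMap.comp_apply, hΦ g a ha, prD_tsingle]
      exact SetLike.coe_mem _
    obtain ⟨ψ, -, hψ⟩ := isStarInj_shift 𝒜 ℐ hI d (subGMod (GrLC.GMod.of 𝒜 R 𝒜) J hJ)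
      (GrLC.GMod.of 𝒜 R 𝒜) J.subtype (subtype_isGrHom 𝒜 J)
      Subtype.val_injective ((prD 𝒜 ℐ d) ∘ₗ Φ) hgr
    exact ⟨ψ, fun a => LinearMap.congr_fun hψ a⟩
  choose ψ hψ using hext
  let φ' : R → I := fun a => if h : a ∈ J then φ ⟨a, h⟩ else 0
  have hφ' : ∀ (a : R) (h : a ∈ J), φ' a = φ ⟨a, h⟩ := fun a h => dif_pos h
  obtain ⟨S, hS⟩ := (isNoetherianRing_iff_ideal_fg R).mp inferInstance J
  let t : R → ι → R := fun s g => ((DirectSum.decompose 𝒜 s g : 𝒜 g) : R)
  let D : Finset ι := S.biUnion (fun s => (DirectSum.decompose 𝒜 s).support.biUnion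
    (fun g => (DirectSum.decompose ℐ (φ' (t s g))).support.image (fun e => e - g)))
  let y : I := ∑ d ∈ D, ψ d 1
  have hsmul : ∀ (a : R) (ha : a ∈ J), a • y = ∑ d ∈ D, prD 𝒜 ℐ d (Φ ⟨a, ha⟩) := by
    intro a ha
    rw [Finset.smul_sum]
    refine Finset.sum_congr rfl fun d _ => ?_
    rw [← hψ d ⟨a, ha⟩, ← map_smul, smul_eq_mul, mul_one]
  have hgen : ∀ s ∈ S, ∀ g, ∀ (h : t s g ∈ J), φ ⟨t s g, h⟩ = t s g • y := by
    intro s hs g h
    by_cases hg : g ∈ (DirectSum.decompose 𝒜 s).support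
    · rw [hsmul _ h]
      have hmem : t s g ∈ 𝒜 g := SetLike.coe_mem (DirectSum.decompose 𝒜 s g)
      rw [hΦ g ⟨t s g, h⟩ hmem]
      simp only [prD_tsingle]
      symm
      apply sum_decompose_shift
      intro e he
      refine Finset.mem_biUnion.mpr ⟨s, hs, Finset.mem_biUnion.mpr ⟨g, hg,
        Finset.mem_image.mpr ⟨e, ?_, rfl⟩⟩⟩
      rw [hφ' _ h]
      exact he
    · rw [DFinsupp.notMem_support_iff] at hg
      have ht0 : t s g = 0 := by
        change ((DirectSum.decompose 𝒜 s g : 𝒜 g) : R) = 0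
        rw [hg]
        rfl
      have h0 : (⟨t s g, h⟩ : ↥J) = 0 := Subtype.ext ht0
      rw [h0, map_zero, ht0, zero_smul]
  have hS' : ∀ s ∈ S, ∀ (h : s ∈ J), φ ⟨s, h⟩ = s • y := by
    intro s hs h
    have hts : ∀ g, t s g ∈ J := fun g => hJ g h
    have hsum : (⟨s, h⟩ : ↥J) = ∑ g ∈ (DirectSum.decompose 𝒜 s).support, ⟨t s g, hts g⟩ := by
      apply Subtype.ext
      rw [Submodule.coe_sum]
      exact (DirectSum.sum_support_decompose 𝒜 s).symm
    rw [hsum, map_sum, Finset.sum_congr rfl (fun g _ => hgen s hs g (hts g)), ← Finset.sum_smul]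
    congr 1
    exact DirectSum.sum_support_decompose 𝒜 s
  have hle : ∀ x, x ∈ Submodule.span R (S : Set R) → x ∈ J := fun x hx => hS ▸ hx
  have hall : ∀ x (hx : x ∈ Submodule.span R (S : Set R)), φ ⟨x, hle x hx⟩ = x • y := by
    intro x hx
    induction hx using Submodule.span_induction with
    | mem x hx => exact hS' x hx _
    | zero =>
      have h0 : (⟨0, hle 0 (Submodule.zero_mem _)⟩ : ↥J) = 0 := rfl
      rw [h0, map_zero, zero_smul]
    | add x z hx hz ihx ihz =>
      have h0 : (⟨x + z, hle _ (Submodule.add_mem _ hx hz)⟩ : ↥J) =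
          ⟨x, hle x hx⟩ + ⟨z, hle z hz⟩ := rfl
      rw [h0, map_add, ihx, ihz, add_smul]
    | smul a x hx ihx =>
      have h0 : (⟨a • x, hle _ (Submodule.smul_mem _ a hx)⟩ : ↥J) = a • ⟨x, hle x hx⟩ := rfl
      rw [h0, map_smul, ihx, smul_assoc]
  refine ⟨y, ?_⟩
  rintro ⟨r, hr⟩
  have hr' : r ∈ Submodule.span R (S : Set R) := by
    have : Ideal.span (S : Set R) = J := hS
    rw [← this] at hr
    exact hr
  exact hall r hr'

end baer2


section filt

variable {ι : Type} [AddCommGroup ι] [DecidableEq ι] {R : Type u} [CommRing R] [IsNoetherianRing R]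
  (𝒜 : ι → AddSubgroup R) [GradedRing 𝒜]
  (I : Type u) [AddCommGroup I] [Module R I]

/-- `Ext^i(R/J, I) = 0` for all homogeneous ideals `J`. -/
def Key (i : ℕ) : Prop := ∀ J : Ideal R, J.IsHomogeneous 𝒜 → Van (R := R) I i (R ⧸ J)

variable {I}
variable {M : Type u} [AddCommGroup M] [Module R M] (ℳ : ι → AddSubgroup M)
  [DirectSum.Decomposition ℳ] [SetLike.GradedSMul 𝒜 ℳ]

theorem sup_isHomogeneous (P Q : Submodule R M) (hP : P.IsHomogeneous ℳ)
    (hQ : Q.IsHomogeneous ℳ) : (P ⊔ Q).IsHomogeneous ℳ := by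
  intro g x hx
  obtain ⟨p, hp, q, hq, rfl⟩ := Submodule.mem_sup.mp hx
  rw [DirectSum.decompose_add, DirectSum.add_apply, AddSubgroup.coe_add]
  exact Submodule.add_mem _ (Submodule.mem_sup_left (hP g hp)) (Submodule.mem_sup_right (hQ g hq))

theorem ker_toSpanSingleton_mkQ_isHomogeneous (P : Submodule R M) (hP : P.IsHomogeneous ℳ)
    {x : M} {g : ι} (hx : x ∈ ℳ g) :
    Ideal.IsHomogeneous 𝒜 (LinearMap.ker (LinearMap.toSpanSingleton R (M ⧸ P) (P.mkQ x))) := by
  have hmem : ∀ r : R, r ∈ LinearMap.ker (LinearMap.toSpanSingleton R (M ⧸ P) (P.mkQ x)) ↔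
      r • x ∈ P := by
    intro r
    rw [LinearMap.mem_ker, LinearMap.toSpanSingleton_apply, ← map_smul]
    exact Submodule.Quotient.mk_eq_zero P
  intro h r hr
  rw [hmem] at hr ⊢
  rw [← decompose_smul_right 𝒜 ℳ hx r h]
  exact hP (h + g) hr

theorem van_step {i : ℕ} {N : Type u} [AddCommGroup N] [Module R N] (x : N)
    (h1 : Van (R := R) I i (R ⧸ LinearMap.ker (LinearMap.toSpanSingleton R N x)))
    (h2 : Van (R := R) I i (N ⧸ Submodule.span R {x})) : Van (R := R) I i N := by
  apply van_of_surjective (Submodule.span R {x}).mkQ (Submodule.mkQ_surjective _) _ h2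
  have hk : LinearMap.ker (Submodule.span R {x}).mkQ =
      LinearMap.range (LinearMap.toSpanSingleton R N x) := by
    rw [Submodule.ker_mkQ, LinearMap.span_singleton_eq_range]
  exact van_of_equiv ((LinearMap.quotKerEquivRange (LinearMap.toSpanSingleton R N x)).trans
    (LinearEquiv.ofEq _ _ hk.symm)) h1

theorem van_quot_of_key {i : ℕ} (hkey : Key 𝒜 I (i + 1)) (T : Finset M)
    (hT : ∀ x ∈ T, ∃ g, x ∈ ℳ g) :
    ∀ P : Submodule R M, P.IsHomogeneous ℳ → P ⊔ Submodule.span R (T : Set M) = ⊤ →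
      Van (R := R) I (i + 1) (M ⧸ P) := by
  classical
  induction T using Finset.induction_on with
  | empty =>
    intro P _ hP
    rw [Finset.coe_empty, Submodule.span_empty, sup_bot_eq] at hP
    have : Subsingleton (M ⧸ P) := Submodule.Quotient.subsingleton_iff.mpr hP
    exact van_of_subsingleton
  | insert x T' hx ih =>
    intro P hP hsup
    obtain ⟨g, hxg⟩ := hT x (Finset.mem_insert_self x T')
    have ih' := ih (fun z hz => hT z (Finset.mem_insert_of_mem hz))
    apply van_step (P.mkQ x)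
    · exact hkey _ (ker_toSpanSingleton_mkQ_isHomogeneous 𝒜 ℳ P hP hxg)
    · have hP' : (P ⊔ Submodule.span R {x}).IsHomogeneous ℳ :=
        sup_isHomogeneous ℳ P _ hP (span_singleton_isHomogeneous 𝒜 ℳ hxg)
      have hsup' : (P ⊔ Submodule.span R {x}) ⊔ Submodule.span R (T' : Set M) = ⊤ := by
        rw [sup_assoc, ← Submodule.span_insert, ← Finset.coe_insert]
        exact hsup
      have h3 := ih' (P ⊔ Submodule.span R {x}) hP' hsup'
      have hmap : (Submodule.span R {x}).map P.mkQ = Submodule.span R {P.mkQ x} := by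
        rw [Submodule.map_span, Set.image_singleton]
      exact van_of_equiv ((Submodule.quotientQuotientEquivQuotientSup P
        (Submodule.span R {x})).symm.trans (Submodule.quotEquivOfEq _ _ hmap)) h3

theorem exists_homogeneous_generators [Module.Finite R M] :
    ∃ T : Finset M, (∀ x ∈ T, ∃ g, x ∈ ℳ g) ∧ Submodule.span R (T : Set M) = ⊤ := by
  classical
  obtain ⟨S, hS⟩ := (Module.Finite.fg_top (R := R) (M := M))
  refine ⟨S.biUnion (fun s => (DirectSum.decompose ℳ s).support.image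
    (fun g => ((DirectSum.decompose ℳ s g : ℳ g) : M))), ?_, ?_⟩
  · intro x hx
    obtain ⟨s, -, hx⟩ := Finset.mem_biUnion.mp hx
    obtain ⟨g, -, rfl⟩ := Finset.mem_image.mp hx
    exact ⟨g, SetLike.coe_mem _⟩
  · rw [eq_top_iff, ← hS, Submodule.span_le]
    intro s hs
    rw [SetLike.mem_coe, ← DirectSum.sum_support_decompose ℳ s]
    refine Submodule.sum_mem _ fun g hg => Submodule.subset_span ?_
    rw [Finset.mem_coe]
    exact Finset.mem_biUnion.mpr ⟨s, hs, Finset.mem_image.mpr ⟨g, hg, rfl⟩⟩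

include 𝒜 ℳ in
theorem van_of_key {i : ℕ} (hkey : Key 𝒜 I (i + 1)) [Module.Finite R M] :
    Van (R := R) I (i + 1) M := by
  obtain ⟨T, hT, hspan⟩ := exists_homogeneous_generators (R := R) ℳ
  have hbot : (⊥ : Submodule R M).IsHomogeneous ℳ := by
    intro g x hx
    rw [(Submodule.mem_bot R).mp hx, DirectSum.decompose_zero]
    exact Submodule.zero_mem _
  have h := van_quot_of_key 𝒜 ℳ hkey T hT ⊥ hbot (by rw [bot_sup_eq]; exact hspan)
  exact van_of_equiv (Submodule.quotEquivOfEqBot ⊥ rfl) h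

variable (ℐ : ι → AddSubgroup I) [DirectSum.Decomposition ℐ] [SetLike.GradedSMul 𝒜 ℐ]

include ℐ in
theorem key_one (hI : GrLC.IsStarInj 𝒜 ℐ) : Key 𝒜 I 1 := by
  intro J hJ
  apply van_one_of_extends (F := R) (Submodule.mkQ J) (Submodule.mkQ_surjective J)
  intro φ
  have hker : LinearMap.ker (Submodule.mkQ J) = J := Submodule.ker_mkQ J
  obtain ⟨y, hy⟩ := exists_smul_eq_of_isStarInj 𝒜 ℐ hI J hJ
    (φ ∘ₗ (LinearEquiv.ofEq _ _ hker.symm).toLinearMap)
  refine ⟨LinearMap.toSpanSingleton R I y, ?_⟩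
  apply LinearMap.ext
  rintro ⟨r, hr⟩
  have h1 := hy ⟨r, hker ▸ hr⟩
  rw [LinearMap.comp_apply, Submodule.subtype_apply, LinearMap.toSpanSingleton_apply]
  exact h1.symm

include ℐ in
theorem key_succ (i : ℕ)
    (hQ : ∀ (J : Ideal R), J.IsHomogeneous 𝒜 → Van (R := R) I (i + 1) ↥J) : Key 𝒜 I (i + 2) := by
  intro J hJ
  apply van_succ_of_projective (F := R) (Submodule.mkQ J) (Submodule.mkQ_surjective J)
  have hker : LinearMap.ker (Submodule.mkQ J) = J := Submodule.ker_mkQ J
  exact van_of_equiv (LinearEquiv.ofEq _ _ hker.symm) (hQ J hJ)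

include ℐ in
/-- `Ext^i(M, I) = 0` for `i ≥ 1`, `M` finitely generated graded, `I` *injective. -/
theorem van_of_isStarInj (hI : GrLC.IsStarInj 𝒜 ℐ) (i : ℕ) :
    ∀ (M : Type u) [AddCommGroup M] [Module R M] (ℳ : ι → AddSubgroup M)
      [DirectSum.Decomposition ℳ] [SetLike.GradedSMul 𝒜 ℳ] [Module.Finite R M],
      Van (R := R) I (i + 1) M := by
  induction i with
  | zero =>
    intro M _ _ ℳ _ _ _
    exact van_of_key 𝒜 ℳ (key_one 𝒜 ℐ hI)
  | succ i ih =>
    intro M _ _ ℳ _ _ _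
    apply van_of_key 𝒜 ℳ
    apply key_succ 𝒜 ℐ i
    intro J hJ
    let _ : DirectSum.Decomposition (subGr 𝒜 J) := (isInternal_subGr 𝒜 J hJ).chooseDecomposition
    exact ih ↥J (subGr 𝒜 J)

end filt


section loccoh

open CategoryTheory Limits Opposite

variable {R : Type u} [CommRing R]

/-- Vanishing of the derived-category `Ext` gives vanishing of the `Ext` functor computed by
projective resolutions. -/
theorem isZero_oldExt_of_subsingleton {X Y : ModuleCat.{u} R} (n : ℕ)
    (h : Subsingleton (Abelian.Ext.{u} X Y (n + 1))) :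
    IsZero (((_root_.Ext R (ModuleCat.{u} R) (n + 1)).obj (op X)).obj Y) := by
  let P := ProjectiveResolution.of X
  refine IsZero.of_iso ?_ (P.isoExt (n + 1) Y)
  rw [← HomologicalComplex.exactAt_iff_isZero_homology,
    HomologicalComplex.exactAt_iff' _ n (n + 1) (n + 2) (by simp) (by simp),
    ShortComplex.moduleCat_exact_iff]
  intro x₂ hx₂
  change (P.complex.X (n + 1) ⟶ Y) at x₂
  have hx₂' : P.complex.d (n + 2) (n + 1) ≫ x₂ = 0 := hx₂
  have h0 : P.extMk x₂ (n + 2) rfl hx₂' = 0 := Subsingleton.elim _ _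
  rw [P.extMk_eq_zero_iff x₂ (n + 2) rfl hx₂' n rfl] at h0
  obtain ⟨g, hg⟩ := h0
  exact ⟨g, hg⟩

theorem isZero_colimit_of_isZero {J : Type*} {C : Type*} [Category J] [Category C]
    [HasZeroMorphisms C] (F : J ⥤ C) [HasColimit F] (h : ∀ j, IsZero (F.obj j)) :
    IsZero (colimit F) := by
  rw [IsZero.iff_id_eq_zero]
  apply colimit.hom_ext
  intro j
  exact (h j).eq_of_src _ _

theorem subsingleton_localCohomology (J : Ideal R) (n : ℕ) (Y : ModuleCat.{u} R)
    (h : ∀ k : ℕ, Subsingleton (Abelian.Ext.{u} (ModuleCat.of R (R ⧸ J ^ k)) Y (n + 1))) :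
    Subsingleton ((localCohomology J (n + 1)).obj Y) := by
  have hz : IsZero ((localCohomology J (n + 1)).obj Y) := by
    unfold localCohomology localCohomology.ofDiagram
    have := localCohomology.hasColimitDiagram.{u, 0} (localCohomology.idealPowersDiagram J) (n + 1)
    refine IsZero.of_iso ?_ (colimitObjIsoColimitCompEvaluation _ Y)
    apply isZero_colimit_of_isZero
    intro k
    exact isZero_oldExt_of_subsingleton n (h k.unop.unop)
  exact ModuleCat.subsingleton_of_isZero hz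

end loccoh

section loccoh2

variable {ι : Type} [AddCommGroup ι] [DecidableEq ι] {R : Type u} [CommRing R] [IsNoetherianRing R]
  (𝒜 : ι → AddSubgroup R) [GradedRing 𝒜]
  {I : Type u} [AddCommGroup I] [Module R I] (ℐ : ι → AddSubgroup I)
  [DirectSum.Decomposition ℐ] [SetLike.GradedSMul 𝒜 ℐ]

theorem pow_isHomogeneous (a : HomogeneousIdeal 𝒜) (n : ℕ) :
    (a.toIdeal ^ n).IsHomogeneous 𝒜 := by
  induction n with
  | zero =>
    rw [pow_zero, Ideal.one_eq_top]
    exact Ideal.IsHomogeneous.top 𝒜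
  | succ n ih =>
    rw [pow_succ]
    exact ih.mul a.isHomogeneous

include ℐ in
/-- Local cohomology of a *injective module with respect to a homogeneous ideal vanishes in
positive degrees. -/
theorem subsingleton_localCohomology_of_isStarInj (hI : GrLC.IsStarInj 𝒜 ℐ)
    (a : HomogeneousIdeal 𝒜) (n : ℕ) :
    Subsingleton ((localCohomology a.toIdeal (n + 1)).obj (ModuleCat.of R I)) := by
  apply subsingleton_localCohomology
  intro k
  have hk := pow_isHomogeneous 𝒜 a k
  let _ : DirectSum.Decomposition (quotGr 𝒜 (a.toIdeal ^ k)) :=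
    (isInternal_quotGr 𝒜 (a.toIdeal ^ k) hk).chooseDecomposition
  exact van_of_isStarInj 𝒜 ℐ hI n (R ⧸ a.toIdeal ^ k) (quotGr 𝒜 (a.toIdeal ^ k))

end loccoh2

end Groth.Agent.Lib.Helper20.GrLCExt
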