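import Mathlib
import Groth.Prelude.Def_GrLC
import Groth.Prelude.Def_Wider
import Groth.Agent.Lib.Helper20.GrLCBasic
import Groth.Agent.Lib.Helper20.GrLCExt

/-!
# Positively `ℤ`-graded rings and modules: elementary bookkeeping  (helper20)
-/

set_option autoImplicit false
set_option linter.unusedSectionVars false
set_option linter.unusedVariables false

universe u

open DirectSum Pointwise Groth.Agent.Lib.Helper20.GrLCBasic

namespace Groth.Agent.Lib.Helper20.GrPos

variable {R : Type u} [CommRing R] (𝒜 : ℤ → AddSubgroup R) [GradedRing 𝒜]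
  {M : Type u} [AddCommGroup M] [Module R M] (ℳ : ℤ → AddSubgroup M) [DirectSum.Decomposition ℳ]
  [SetLike.GradedSMul 𝒜 ℳ]

/-- In a positively graded ring, scalar multiplication does not create components in low
degrees. -/
theorem tail_smul (hpos : ∀ n : ℤ, n < 0 → 𝒜 n = ⊥) (n : ℤ) (r : R) (x : M)
    (hx : ∀ j ≤ n, ((decompose ℳ x j : ℳ j) : M) = 0) :
    ∀ j ≤ n, ((decompose ℳ (r • x) j : ℳ j) : M) = 0 := by
  classical
  intro j hj
  have hr : r • x = ∑ i ∈ (decompose 𝒜 r).support, ((decompose 𝒜 r i : 𝒜 i) : R) • x := by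
    rw [← Finset.sum_smul, DirectSum.sum_support_decompose]
  rw [hr, decompose_sum, DFinsupp.finset_sum_apply, AddSubmonoidClass.coe_finset_sum]
  refine Finset.sum_eq_zero fun i _ => ?_
  obtain ⟨t, rfl⟩ : ∃ t, j = t + i := ⟨j - i, by ring⟩
  rw [decompose_smul_left 𝒜 ℳ (SetLike.coe_mem _) x t]
  by_cases hi : i < 0
  · have h0 : ((decompose 𝒜 r i : 𝒜 i) : R) = 0 := by
      have h : ((decompose 𝒜 r i : 𝒜 i) : R) ∈ (⊥ : AddSubgroup R) :=
        (hpos i hi).le (SetLike.coe_mem (decompose 𝒜 r i))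
      exact (AddSubgroup.mem_bot).1 h
    rw [h0, zero_smul]
  · rw [hx t (by omega), smul_zero]

/-- The elements with no components in degrees `≤ n`. -/
def tail (hpos : ∀ n : ℤ, n < 0 → 𝒜 n = ⊥) (n : ℤ) : Submodule R M where
  carrier := {x | ∀ j ≤ n, ((decompose ℳ x j : ℳ j) : M) = 0}
  add_mem' := by
    intro x y hx hy j hj
    rw [decompose_add, DirectSum.add_apply, AddSubgroup.coe_add, hx j hj, hy j hj, add_zero]
  zero_mem' := by
    intro j _
    rw [decompose_zero, DirectSum.zero_apply, AddSubgroup.coe_zero]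
  smul_mem' := fun r x hx => tail_smul 𝒜 ℳ hpos n r x hx

theorem mem_tail_of_mem (hpos : ∀ n : ℤ, n < 0 → 𝒜 n = ⊥) {n j : ℤ} (hnj : n < j) {x : M}
    (hx : x ∈ ℳ j) : x ∈ tail 𝒜 ℳ hpos n := by
  intro i hi
  rw [decompose_of_mem_ne ℳ hx (by omega)]

theorem eq_zero_of_mem_tail (hpos : ∀ n : ℤ, n < 0 → 𝒜 n = ⊥) {n : ℤ} {x : M}
    (hx : x ∈ ℳ n) (hx' : x ∈ tail 𝒜 ℳ hpos n) : x = 0 := by
  have h := hx' n le_rfl
  rwa [decompose_of_mem_same ℳ hx] at h

theorem smul_mem_tail (hpos : ∀ n : ℤ, n < 0 → 𝒜 n = ⊥) {s : R}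
    (hs : s ∈ Ideal.span ((𝒜 1 : AddSubgroup R) : Set R)) {n : ℤ} {m : M} (hm : m ∈ ℳ n) :
    s • m ∈ tail 𝒜 ℳ hpos n := by
  induction hs using Submodule.span_induction with
  | mem b hb =>
    refine mem_tail_of_mem 𝒜 ℳ hpos (j := 1 + n) (by omega) ?_
    exact SetLike.GradedSMul.smul_mem (A := 𝒜) (B := ℳ) hb hm
  | zero => rw [zero_smul]; exact Submodule.zero_mem _
  | add x y _ _ hx hy => rw [add_smul]; exact Submodule.add_mem _ hx hy
  | smul c x _ hx => rw [smul_eq_mul, mul_smul]; exact Submodule.smul_mem _ c hx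

/-- products of `k` elements of degree one have degree `k`. -/
theorem mem_of_mem_pow {k : ℕ} {c : R} (hc : c ∈ ((𝒜 1 : AddSubgroup R) : Set R) ^ k) :
    c ∈ 𝒜 (k : ℤ) := by
  induction k generalizing c with
  | zero =>
    rw [pow_zero, Set.mem_one] at hc
    rw [hc, Nat.cast_zero]
    exact SetLike.GradedOne.one_mem (A := 𝒜)
  | succ k ih =>
    rw [pow_succ] at hc
    obtain ⟨x, hx, y, hy, rfl⟩ := Set.mem_mul.1 hc
    have := SetLike.GradedMul.mul_mem (A := 𝒜) (ih hx) hy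
    rwa [Nat.cast_succ]

include ℳ in
/-- Graded Nakayama-type statement: if `r ≡ 1` modulo the ideal generated by `R_1` and
`a^k r M = 0` then `a^k M = 0`. -/
theorem pow_smul_eq_zero_of_smul (hpos : ∀ n : ℤ, n < 0 → 𝒜 n = ⊥) (r : R)
    (hr : r - 1 ∈ Ideal.span ((𝒜 1 : AddSubgroup R) : Set R)) (k : ℕ)
    (h : ∀ c ∈ (Ideal.span ((𝒜 1 : AddSubgroup R) : Set R)) ^ k, ∀ m : M, c • r • m = 0) :
    ∀ c ∈ (Ideal.span ((𝒜 1 : AddSubgroup R) : Set R)) ^ k, ∀ m : M, c • m = 0 := by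
  classical
  intro c hc
  have hc' : c ∈ Submodule.span R (((𝒜 1 : AddSubgroup R) : Set R) ^ k) := by
    have := Submodule.span_pow (R := R) ((𝒜 1 : AddSubgroup R) : Set R) k
    rw [← this]
    exact hc
  refine Submodule.span_induction (p := fun c _ => ∀ m : M, c • m = 0) ?_ ?_ ?_ ?_ hc'
  · intro c hcmem
    have hck : c ∈ 𝒜 (k : ℤ) := mem_of_mem_pow 𝒜 hcmem
    have hcI : c ∈ (Ideal.span ((𝒜 1 : AddSubgroup R) : Set R)) ^ k := by
      have := Submodule.span_pow (R := R) ((𝒜 1 : AddSubgroup R) : Set R) k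
      change c ∈ (Submodule.span R ((𝒜 1 : AddSubgroup R) : Set R)) ^ k
      rw [this]
      exact Submodule.subset_span hcmem
    intro m
    induction m using DirectSum.Decomposition.inductionOn ℳ with
    | zero => rw [smul_zero]
    | @homogeneous n m =>
      have h1 := h c hcI (m : M)
      have hcm : c • (m : M) ∈ ℳ ((k : ℤ) + n) :=
        SetLike.GradedSMul.smul_mem (A := 𝒜) (B := ℳ) hck m.2
      have h2 : (r - 1) • (c • (m : M)) ∈ tail 𝒜 ℳ hpos ((k : ℤ) + n) :=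
        smul_mem_tail 𝒜 ℳ hpos hr hcm
      have h3 : c • (m : M) = - ((r - 1) • (c • (m : M))) := by
        rw [sub_smul, one_smul, smul_comm r c, h1, zero_sub, neg_neg]
      refine eq_zero_of_mem_tail 𝒜 ℳ hpos hcm ?_
      rw [h3]
      exact Submodule.neg_mem _ h2
    | add m m' hm hm' => rw [smul_add, hm, hm', add_zero]
  · intro m; rw [zero_smul]
  · intro x y _ _ hx hy m
    rw [add_smul, hx m, hy m, add_zero]
  · intro a x _ hx m
    rw [smul_eq_mul, mul_smul, hx m, smul_zero]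


/-- `R_d ⊆ a^k` for `d ≥ k` in a standard graded ring. -/
theorem le_pow (a : Ideal R) (ha : a = Ideal.span (⋃ n ∈ Set.Ioi (0 : ℤ), (𝒜 n : Set R)))
    (hhom : a = Ideal.span ((𝒜 1 : AddSubgroup R) : Set R)) :
    ∀ (k : ℕ) (d : ℤ), (k : ℤ) ≤ d → ∀ r ∈ 𝒜 d, r ∈ a ^ k := by
  classical
  intro k
  induction k with
  | zero =>
    intro d _ r _
    rw [pow_zero, Ideal.one_eq_top]
    trivial
  | succ k ih =>
    intro d hd r hr
    have hra : r ∈ a := by
      rw [ha]
      refine Ideal.subset_span (Set.mem_iUnion₂.2 ⟨d, ?_, hr⟩)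
      rw [Set.mem_Ioi]
      push_cast at hd
      omega
    have hr1 : r ∈ Submodule.span R ((𝒜 1 : AddSubgroup R) : Set R) := by
      rw [hhom] at hra
      exact hra
    obtain ⟨f, t, ht, -, hsum⟩ := Submodule.mem_span_iff_exists_finset_subset.1 hr1
    have hrd : r = ((decompose 𝒜 r d : 𝒜 d) : R) := (decompose_of_mem_same 𝒜 hr).symm
    obtain ⟨e, rfl⟩ : ∃ e, d = e + 1 := ⟨d - 1, by ring⟩
    rw [hrd, ← hsum, decompose_sum, DFinsupp.finset_sum_apply, AddSubmonoidClass.coe_finset_sum]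
    refine Ideal.sum_mem _ fun b hb => ?_
    rw [decompose_smul_right 𝒜 𝒜 (ht hb) (f b) e, pow_succ, smul_eq_mul]
    refine Ideal.mul_mem_mul (ih e (by push_cast at hd; omega) _ (SetLike.coe_mem _)) ?_
    rw [hhom]
    exact Ideal.subset_span (ht hb)

include 𝒜 in
/-- If a power of the irrelevant ideal kills a finitely generated graded module over a standard
graded ring, the module vanishes in large degrees. -/
theorem eventually_bot_of_pow_smul [IsNoetherianRing R] [Module.Finite R M] (a : Ideal R)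
    (ha : a = Ideal.span (⋃ n ∈ Set.Ioi (0 : ℤ), (𝒜 n : Set R)))
    (hhom : a = Ideal.span ((𝒜 1 : AddSubgroup R) : Set R)) (k : ℕ)
    (h : ∀ c ∈ a ^ k, ∀ m : M, c • m = 0) : ∃ n₀ : ℤ, ∀ n : ℤ, n₀ ≤ n → ℳ n = ⊥ := by
  classical
  obtain ⟨T, hT, hspan⟩ := Groth.Agent.Lib.Helper20.GrLCExt.exists_homogeneous_generators (R := R) ℳ
  let deg : M → ℤ := fun x => if hx : ∃ g, x ∈ ℳ g then hx.choose else 0
  have hdeg : ∀ x ∈ T, x ∈ ℳ (deg x) := by
    intro x hx
    have h1 := hT x hx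
    simp only [deg, dif_pos h1]
    exact h1.choose_spec
  obtain ⟨D, hD⟩ := (T.image deg).exists_le
  refine ⟨D + k, fun n hn => ?_⟩
  rw [eq_bot_iff]
  intro x hx
  rw [AddSubgroup.mem_bot]
  have hxs : x ∈ Submodule.span R (T : Set M) := by rw [hspan]; trivial
  obtain ⟨f, -, hsum⟩ := Submodule.mem_span_finset.1 hxs
  rw [← decompose_of_mem_same ℳ hx, ← hsum, decompose_sum, DFinsupp.finset_sum_apply,
    AddSubmonoidClass.coe_finset_sum]
  refine Finset.sum_eq_zero fun t ht => ?_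
  have hdt : deg t ≤ D := hD _ (Finset.mem_image_of_mem deg ht)
  obtain ⟨e, he⟩ : ∃ e, n = e + deg t := ⟨n - deg t, by ring⟩
  subst he
  rw [decompose_smul_right 𝒜 ℳ (hdeg t ht) (f t) e]
  exact h _ (le_pow 𝒜 a ha hhom k e (by omega) _ (SetLike.coe_mem _)) t

include 𝒜 in
/-- A graded module vanishing in large degrees is torsion for the ideal generated by `R_1`. -/
theorem isPowerTorsion_of_eventually_bot (a : Ideal R)
    (hhom : a = Ideal.span ((𝒜 1 : AddSubgroup R) : Set R)) (n₀ : ℤ)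
    (h : ∀ n : ℤ, n₀ ≤ n → ℳ n = ⊥) : LocCoh.IsPowerTorsion a M := by
  classical
  intro m
  induction m using DirectSum.Decomposition.inductionOn ℳ with
  | zero => exact ⟨0, fun c _ => smul_zero c⟩
  | @homogeneous j m =>
    refine ⟨(n₀ - j).toNat, fun c hc => ?_⟩
    have hc' : c ∈ Submodule.span R (((𝒜 1 : AddSubgroup R) : Set R) ^ (n₀ - j).toNat) := by
      have := Submodule.span_pow (R := R) ((𝒜 1 : AddSubgroup R) : Set R) (n₀ - j).toNat
      rw [← this]
      rw [hhom] at hc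
      exact hc
    refine Submodule.span_induction (p := fun c _ => c • (m : M) = 0) ?_ ?_ ?_ ?_ hc'
    · intro c hcmem
      have hck : c ∈ 𝒜 (((n₀ - j).toNat : ℕ) : ℤ) := mem_of_mem_pow 𝒜 hcmem
      have hcm : c • (m : M) ∈ ℳ ((((n₀ - j).toNat : ℕ) : ℤ) + j) :=
        SetLike.GradedSMul.smul_mem (A := 𝒜) (B := ℳ) hck m.2
      rw [h _ (by have := Int.self_le_toNat (n₀ - j); omega), AddSubgroup.mem_bot] at hcm
      exact hcm
    · rw [zero_smul]
    · intro x y _ _ hx hy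
      rw [add_smul, hx, hy, add_zero]
    · intro r x _ hx
      rw [smul_eq_mul, mul_smul, hx, smul_zero]
  | add m m' hm hm' =>
    obtain ⟨k, hk⟩ := hm
    obtain ⟨k', hk'⟩ := hm'
    refine ⟨max k k', fun c hc => ?_⟩
    rw [smul_add, hk c (Ideal.pow_le_pow_right (le_max_left k k') hc),
      hk' c (Ideal.pow_le_pow_right (le_max_right k k') hc), add_zero]

end Groth.Agent.Lib.Helper20.GrPos
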