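import Mathlib
import Groth.Prelude.Def_GrLC
import Groth.Agent.Lib.Helper20.GrPos

/-!
# Artinian graded modules over positively graded rings; `*`local positively graded rings (helper20)
-/

set_option autoImplicit false
set_option linter.unusedSectionVars false
set_option linter.unusedVariables false

universe u

open DirectSum GrLC Groth.Agent.Lib.Helper20.GrLCBasic Groth.Agent.Lib.Helper20.GrPos

namespace Groth.Agent.Lib.Helper20.GrArtin

variable {R : Type u} [CommRing R] (𝒜 : ℤ → AddSubgroup R) [GradedRing 𝒜]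

section starLocal

variable (hpos : ∀ n : ℤ, n < 0 → 𝒜 n = ⊥) (m : HomogeneousIdeal 𝒜) (hm : IsCoatom m)

include hpos hm in
/-- elements of positive degree lie in a `*`maximal ideal. -/
theorem mem_of_pos {n : ℤ} (hn : 0 < n) {x : R} (hx : x ∈ 𝒜 n) : x ∈ m.toIdeal := by
  classical
  by_contra hxm
  let sx : HomogeneousIdeal 𝒜 := ⟨Ideal.span {x}, Ideal.homogeneous_span 𝒜 {x} (by
    intro y hy
    rw [Set.mem_singleton_iff] at hy
    subst hy
    exact ⟨n, hx⟩)⟩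
  have hlt : m < m ⊔ sx := by
    refine lt_of_le_of_ne le_sup_left ?_
    intro h
    apply hxm
    have h1 : sx ≤ m := by rw [h]; exact le_sup_right
    exact h1 (Ideal.subset_span (Set.mem_singleton x))
  have htop := hm.2 _ hlt
  have h1 : (1 : R) ∈ (m ⊔ sx).toIdeal := by rw [htop]; trivial
  rw [HomogeneousIdeal.toIdeal_sup] at h1
  obtain ⟨a, ha, b, hb, hab⟩ := Submodule.mem_sup.1 h1
  obtain ⟨c, rfl⟩ := Ideal.mem_span_singleton'.1 hb
  have h0 : ((decompose 𝒜 (1 : R) 0 : 𝒜 0) : R) = 1 :=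
    decompose_of_mem_same 𝒜 (SetLike.GradedOne.one_mem (A := 𝒜))
  have h2 : ((decompose 𝒜 (c * x) 0 : 𝒜 0) : R) = 0 := by
    have h3 := decompose_smul_right 𝒜 𝒜 hx c (-n)
    rw [neg_add_cancel] at h3
    rw [← smul_eq_mul, h3]
    have h4 : ((decompose 𝒜 c (-n) : 𝒜 (-n)) : R) ∈ (⊥ : AddSubgroup R) :=
      (hpos (-n) (by omega)).le (SetLike.coe_mem _)
    rw [(AddSubgroup.mem_bot).1 h4, zero_smul]
  have h5 : ((decompose 𝒜 a 0 : 𝒜 0) : R) = 1 := by
    rw [← h0, ← hab, decompose_add, DirectSum.add_apply, AddSubgroup.coe_add, h2, add_zero]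
  have h6 : ((decompose 𝒜 a 0 : 𝒜 0) : R) ∈ m.toIdeal := m.isHomogeneous 0 ha
  rw [h5] at h6
  exact hm.1 (HomogeneousIdeal.toIdeal_injective
    ((Ideal.eq_top_iff_one _).2 h6))

include hpos hm in
/-- modulo a `*`maximal ideal every element is congruent to its degree-zero component. -/
theorem sub_decompose_zero_mem (x : R) : x - ((decompose 𝒜 x 0 : 𝒜 0) : R) ∈ m.toIdeal := by
  classical
  induction x using DirectSum.Decomposition.inductionOn 𝒜 with
  | zero =>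
    rw [decompose_zero, DirectSum.zero_apply, AddSubgroup.coe_zero, sub_zero]
    exact zero_mem _
  | @homogeneous k x =>
    by_cases hk : k = 0
    · subst hk
      rw [decompose_of_mem_same 𝒜 x.2, sub_self]
      exact zero_mem _
    · rw [decompose_of_mem_ne 𝒜 x.2 hk, sub_zero]
      rcases lt_or_gt_of_ne hk with h | h
      · have h4 : (x : R) ∈ (⊥ : AddSubgroup R) := (hpos k h).le x.2
        rw [(AddSubgroup.mem_bot).1 h4]
        exact zero_mem _
      · exact mem_of_pos 𝒜 hpos m hm h x.2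
  | add x y hx hy =>
    have : x + y - ((decompose 𝒜 (x + y) 0 : 𝒜 0) : R) =
        (x - ((decompose 𝒜 x 0 : 𝒜 0) : R)) + (y - ((decompose 𝒜 y 0 : 𝒜 0) : R)) := by
      rw [decompose_add, DirectSum.add_apply, AddSubgroup.coe_add]
      ring
    rw [this]
    exact add_mem hx hy

include hpos hm in
/-- In a positively graded ring a `*`maximal ideal is a maximal ideal. -/
theorem isMaximal_of_isCoatom : m.toIdeal.IsMaximal := by
  classical
  rw [Ideal.isMaximal_iff]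
  refine ⟨?_, ?_⟩
  · intro h1
    exact hm.1 (HomogeneousIdeal.toIdeal_injective ((Ideal.eq_top_iff_one _).2 h1))
  · intro J x hmJ hxm hxJ
    set x₀ : R := ((decompose 𝒜 x 0 : 𝒜 0) : R) with hx₀
    have hd : x - x₀ ∈ m.toIdeal := sub_decompose_zero_mem 𝒜 hpos m hm x
    have hx₀m : x₀ ∉ m.toIdeal := by
      intro h
      apply hxm
      have := add_mem hd h
      rwa [sub_add_cancel] at this
    have hx₀J : x₀ ∈ J := by
      have := J.sub_mem hxJ (hmJ hd)
      rwa [sub_sub_cancel] at this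
    let sx : HomogeneousIdeal 𝒜 := ⟨Ideal.span {x₀}, Ideal.homogeneous_span 𝒜 {x₀} (by
      intro y hy
      rw [Set.mem_singleton_iff] at hy
      subst hy
      exact ⟨0, SetLike.coe_mem _⟩)⟩
    have hlt : m < m ⊔ sx := by
      refine lt_of_le_of_ne le_sup_left ?_
      intro h
      apply hx₀m
      have h1 : sx ≤ m := by rw [h]; exact le_sup_right
      exact h1 (Ideal.subset_span (Set.mem_singleton x₀))
    have htop := hm.2 _ hlt
    have h1 : (1 : R) ∈ (m ⊔ sx).toIdeal := by rw [htop]; trivial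
    rw [HomogeneousIdeal.toIdeal_sup] at h1
    obtain ⟨a, ha, b, hb, hab⟩ := Submodule.mem_sup.1 h1
    obtain ⟨c, rfl⟩ := Ideal.mem_span_singleton'.1 hb
    rw [← hab]
    exact J.add_mem (hmJ ha) (J.mul_mem_left c hx₀J)

end starLocal

section artin

variable {H : Type u} [AddCommGroup H] [Module R H] (ℋ : ℤ → AddSubgroup H)
  [DirectSum.Decomposition ℋ] [SetLike.GradedSMul 𝒜 ℋ] (hpos : ∀ n : ℤ, n < 0 → 𝒜 n = ⊥)

theorem tail_antitone {n n' : ℤ} (h : n ≤ n') : tail 𝒜 ℋ hpos n' ≤ tail 𝒜 ℋ hpos n :=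
  fun x hx j hj => hx j (le_trans hj h)

include 𝒜 hpos in
/-- an Artinian graded module over a positively graded ring vanishes in large degrees. -/
theorem eventually_bot_of_isArtinian [IsArtinian R H] : ∃ N : ℤ, ∀ n : ℤ, N ≤ n → ℋ n = ⊥ := by
  let f : ℕ →o (Submodule R H)ᵒᵈ :=
    ⟨fun k => OrderDual.toDual (tail 𝒜 ℋ hpos (k : ℤ)), fun k k' hkk' =>
      OrderDual.toDual_le_toDual.mpr (tail_antitone 𝒜 ℋ hpos (by exact_mod_cast hkk'))⟩
  obtain ⟨n₀, hn₀⟩ := IsArtinian.monotone_stabilizes f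
  refine ⟨(n₀ : ℤ) + 1, fun n hn => ?_⟩
  rw [eq_bot_iff]
  intro x hx
  rw [AddSubgroup.mem_bot]
  obtain ⟨k, hk⟩ : ∃ k : ℕ, n = (k : ℤ) + 1 := ⟨(n - 1).toNat, by
    rw [Int.toNat_of_nonneg (by omega)]; ring⟩
  have hkn : n₀ ≤ k := by omega
  have h1 : tail 𝒜 ℋ hpos (k : ℤ) = tail 𝒜 ℋ hpos ((k + 1 : ℕ) : ℤ) := by
    have e1 := hn₀ k hkn
    have e2 := hn₀ (k + 1) (by omega)
    exact OrderDual.toDual.injective (e1.symm.trans e2)
  have h2 : x ∈ tail 𝒜 ℋ hpos (k : ℤ) := mem_tail_of_mem 𝒜 ℋ hpos (by omega) hx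
  rw [h1] at h2
  refine eq_zero_of_mem_tail 𝒜 ℋ hpos hx ?_
  rw [hk]
  exact_mod_cast h2

/-- for `x` with no components below degree `n`, `(r • x)_n = r_0 • x_n`. -/
theorem decompose_smul_of_mem_tail (n : ℤ) (r : R) (x : H) (hx : x ∈ tail 𝒜 ℋ hpos (n - 1)) :
    ((decompose ℋ (r • x) n : ℋ n) : H) =
      ((decompose 𝒜 r 0 : 𝒜 0) : R) • ((decompose ℋ x n : ℋ n) : H) := by
  classical
  have hr : r • x = ∑ i ∈ (decompose 𝒜 r).support, ((decompose 𝒜 r i : 𝒜 i) : R) • x := by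
    rw [← Finset.sum_smul, DirectSum.sum_support_decompose]
  rw [hr, decompose_sum, DFinsupp.finsetSum_apply, AddSubmonoidClass.coe_finsetSum]
  have key : ∀ i : ℤ, ((decompose ℋ (((decompose 𝒜 r i : 𝒜 i) : R) • x) n : ℋ n) : H) =
      if i = 0 then ((decompose 𝒜 r 0 : 𝒜 0) : R) • ((decompose ℋ x n : ℋ n) : H) else 0 := by
    intro i
    obtain ⟨t, rfl⟩ : ∃ t, n = t + i := ⟨n - i, by ring⟩
    rw [decompose_smul_left 𝒜 ℋ (SetLike.coe_mem _) x t]
    split_ifs with hi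
    · subst hi
      rw [add_zero]
    · rcases lt_or_gt_of_ne hi with h | h
      · have h0 : ((decompose 𝒜 r i : 𝒜 i) : R) = 0 := by
          have h' : ((decompose 𝒜 r i : 𝒜 i) : R) ∈ (⊥ : AddSubgroup R) :=
            (hpos i h).le (SetLike.coe_mem (decompose 𝒜 r i))
          exact (AddSubgroup.mem_bot).1 h'
        rw [h0, zero_smul]
      · rw [hx t (by omega), smul_zero]
  rw [Finset.sum_congr rfl (fun i _ => key i)]
  rw [Finset.sum_ite_eq']
  split_ifs with h0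
  · rfl
  · rw [DFinsupp.mem_support_toFun, not_not] at h0
    rw [h0]
    simp

/-- the `R`-submodule of `H` attached to an `R_0`-submodule of the piece `H_n`. -/
def lift (n : ℤ) (P : Submodule (deg0 𝒜) (comp 𝒜 ℋ n)) : Submodule R H where
  carrier := {x | x ∈ tail 𝒜 ℋ hpos (n - 1) ∧
    ∃ p : comp 𝒜 ℋ n, p ∈ P ∧ (p : H) = ((decompose ℋ x n : ℋ n) : H)}
  add_mem' := by
    rintro x y ⟨hx, p, hp, hpx⟩ ⟨hy, q, hq, hqy⟩
    refine ⟨add_mem hx hy, p + q, add_mem hp hq, ?_⟩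
    rw [decompose_add, DirectSum.add_apply, AddSubgroup.coe_add, ← hpx, ← hqy]
    rfl
  zero_mem' := by
    refine ⟨zero_mem _, 0, zero_mem _, ?_⟩
    rw [decompose_zero, DirectSum.zero_apply, AddSubgroup.coe_zero]
    rfl
  smul_mem' := by
    rintro r x ⟨hx, p, hp, hpx⟩
    refine ⟨Submodule.smul_mem _ r hx,
      (⟨((decompose 𝒜 r 0 : 𝒜 0) : R), SetLike.coe_mem _⟩ : deg0 𝒜) • p,
      Submodule.smul_mem _ _ hp, ?_⟩
    rw [decompose_smul_of_mem_tail 𝒜 ℋ hpos n r x hx, ← hpx]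
    rfl

theorem lift_mono (n : ℤ) {P Q : Submodule (deg0 𝒜) (comp 𝒜 ℋ n)} (h : P ≤ Q) :
    lift 𝒜 ℋ hpos n P ≤ lift 𝒜 ℋ hpos n Q := by
  rintro x ⟨hx, p, hp, hpx⟩
  exact ⟨hx, p, h hp, hpx⟩

theorem le_of_lift_le (n : ℤ) {P Q : Submodule (deg0 𝒜) (comp 𝒜 ℋ n)}
    (h : lift 𝒜 ℋ hpos n P ≤ lift 𝒜 ℋ hpos n Q) : P ≤ Q := by
  intro p hp
  have hpn : (p : H) ∈ ℋ n := p.2
  have h1 : (p : H) ∈ lift 𝒜 ℋ hpos n P := by
    refine ⟨mem_tail_of_mem 𝒜 ℋ hpos (by omega) hpn, p, hp, ?_⟩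
    rw [decompose_of_mem_same ℋ hpn]
  obtain ⟨-, q, hq, hqp⟩ := h h1
  rw [decompose_of_mem_same ℋ hpn] at hqp
  have : q = p := Subtype.ext hqp
  rw [← this]
  exact hq

include hpos in
/-- the pieces of an Artinian graded module over a positively graded ring are Artinian over
the degree-zero subring. -/
theorem isArtinian_comp_of_isArtinian [IsArtinian R H] (n : ℤ) :
    IsArtinian (deg0 𝒜) (comp 𝒜 ℋ n) := by
  have hsm : StrictMono (lift 𝒜 ℋ hpos n) := by
    intro P Q hPQ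
    refine lt_of_le_of_ne (lift_mono 𝒜 ℋ hpos n hPQ.le) ?_
    intro h
    exact hPQ.ne (le_antisymm hPQ.le (le_of_lift_le 𝒜 ℋ hpos n h.ge))
  exact hsm.wellFoundedLT

end artin

end Groth.Agent.Lib.Helper20.GrArtin
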