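import Mathlib
import Groth.Prelude.Def_GrLC
import Groth.Agent.Lib.Helper20.GrHeight
import Groth.Agent.Lib.Helper20.GrArtin

/-!
# `ht p ≤ ht p* + 1`; the dimension of a `*`local positively graded ring is the height of its
`*`maximal ideal
-/

set_option autoImplicit false
set_option linter.unusedSectionVars false
set_option linter.unusedVariables false
set_option linter.style.haveILetI false

universe u

open DirectSum GrLC

namespace Groth.Agent.Lib.Helper20.GrHeight2

variable {R : Type u} [CommRing R] (𝒜 : ℤ → AddSubgroup R) [GradedRing 𝒜]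

/-- **`ht p ≤ ht p* + 1`** in a Noetherian `ℤ`-graded ring. -/
theorem height_le_core_add_one [IsNoetherianRing R] :
    ∀ (n : ℕ) (p : Ideal R) [p.IsPrime], p.height ≤ n →
      p.height ≤ (p.homogeneousCore 𝒜).toIdeal.height + 1 := by
  intro n
  induction n with
  | zero =>
    intro p _ hp
    exact le_trans hp (by simp)
  | succ n ih =>
    intro p hpp hp
    haveI hcp : (p.homogeneousCore 𝒜).toIdeal.IsPrime := Ideal.IsPrime.homogeneousCore hpp
    obtain ⟨c, hc⟩ := ENat.ne_top_iff_exists.1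
      (Ideal.height_ne_top_of_isPrime (I := (p.homogeneousCore 𝒜).toIdeal))
    rw [← hc]
    have : ((c : ℕ∞) + 1) = ((c + 1 : ℕ) : ℕ∞) := by push_cast; rfl
    rw [this, Ideal.height_le_iff]
    intro q hqp hqlt
    haveI := hqp
    haveI hcq : (q.homogeneousCore 𝒜).toIdeal.IsPrime := Ideal.IsPrime.homogeneousCore hqp
    have hq1 : q.height + 1 ≤ p.height := Ideal.height_add_one_le_of_lt_of_isPrime hqlt
    have hqfin : q.height ≠ ⊤ := Ideal.height_ne_top_of_isPrime
    obtain ⟨hq, hqe⟩ := ENat.ne_top_iff_exists.1 hqfin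
    have hqn : q.height ≤ n := by
      rw [← hqe] at hq1 ⊢
      have h2 : ((hq : ℕ∞) + 1) ≤ ((n + 1 : ℕ) : ℕ∞) := le_trans hq1 hp
      have h3 : ((hq + 1 : ℕ) : ℕ∞) ≤ ((n + 1 : ℕ) : ℕ∞) := by push_cast; exact h2
      rw [Nat.cast_le] at h3 ⊢
      omega
    have hIH := ih q hqn
    have hmono : (q.homogeneousCore 𝒜).toIdeal ≤ (p.homogeneousCore 𝒜).toIdeal :=
      Ideal.homogeneousCore_mono 𝒜 hqlt.le
    have hcltop : ((c : ℕ∞)) < ((c + 1 : ℕ) : ℕ∞) := by
      rw [Nat.cast_lt]
      omega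
    rcases eq_or_lt_of_le hmono with heq | hlt
    · -- same core
      have hcq_le : (q.homogeneousCore 𝒜).toIdeal ≤ q := Ideal.toIdeal_homogeneousCore_le 𝒜 q
      rcases eq_or_lt_of_le hcq_le with heq' | hlt'
      · rw [← heq', heq, ← hc]
        exact hcltop
      · exfalso
        have hcore : ∀ (n : ℤ) (x : R), x ∈ 𝒜 n → x ∈ p → x ∈ (p.homogeneousCore 𝒜).toIdeal :=
          fun n x hx hxp => Ideal.mem_homogeneousCore_of_homogeneous_of_mem ⟨n, hx⟩ hxp
        have := Groth.Agent.Lib.Helper20.GrHeight.eq_of_between (𝒜 := 𝒜)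
          (𝔭 := (p.homogeneousCore 𝒜).toIdeal) p q (Ideal.toIdeal_homogeneousCore_le 𝒜 p) hcore
          (by rw [← heq]; exact hlt') hqlt.le
        exact hqlt.ne this
    · have h1 : (q.homogeneousCore 𝒜).toIdeal.height + 1 ≤ (p.homogeneousCore 𝒜).toIdeal.height :=
        Ideal.height_add_one_le_of_lt_of_isPrime hlt
      calc q.height ≤ (q.homogeneousCore 𝒜).toIdeal.height + 1 := hIH
        _ ≤ (p.homogeneousCore 𝒜).toIdeal.height := h1
        _ = (c : ℕ∞) := hc.symm
        _ < ((c + 1 : ℕ) : ℕ∞) := hcltop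

theorem height_le_core_add_one' [IsNoetherianRing R] (p : Ideal R) [p.IsPrime] :
    p.height ≤ (p.homogeneousCore 𝒜).toIdeal.height + 1 := by
  obtain ⟨n, hn⟩ := ENat.ne_top_iff_exists.1 (Ideal.height_ne_top_of_isPrime (I := p))
  exact height_le_core_add_one 𝒜 n p (le_of_eq hn.symm)

section starLocal

variable [IsNoetherianRing R] (m : HomogeneousIdeal 𝒜) (hm : IsStarLocal 𝒜 m)

include hm in
/-- proper homogeneous ideals lie in the `*`maximal ideal. -/
theorem le_of_isStarLocal (I : HomogeneousIdeal 𝒜) (hI : I ≠ ⊤) : I ≤ m := by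
  have hsm : StrictMono (fun J : HomogeneousIdeal 𝒜 => J.toIdeal) := fun a b h => h
  haveI : WellFoundedGT (HomogeneousIdeal 𝒜) := hsm.wellFoundedGT
  haveI : IsCoatomic (HomogeneousIdeal 𝒜) := isCoatomic_of_orderTop_gt_wellFounded wellFounded_gt
  rcases eq_top_or_exists_le_coatom I with h | ⟨a, ha, hIa⟩
  · exact absurd h hI
  · rw [← hm.2 a ha]
    exact hIa

include hm in
/-- **the dimension of a `*`local positively graded Noetherian ring is the height of its
`*`maximal ideal.** -/
theorem ringKrullDim_eq_height (hpos : ∀ n : ℤ, n < 0 → 𝒜 n = ⊥) :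
    ringKrullDim R = (m.toIdeal.height : WithBot ℕ∞) := by
  haveI hmax : m.toIdeal.IsMaximal :=
    Groth.Agent.Lib.Helper20.GrArtin.isMaximal_of_isCoatom 𝒜 hpos m hm.1
  haveI hmp : m.toIdeal.IsPrime := hmax.isPrime
  apply le_antisymm
  · rw [ringKrullDim_le_iff_isMaximal_height_le]
    intro n hn
    haveI hnp : n.IsPrime := hn.isPrime
    haveI hcn : (n.homogeneousCore 𝒜).toIdeal.IsPrime := Ideal.IsPrime.homogeneousCore hnp
    have hne : n.homogeneousCore 𝒜 ≠ ⊤ := by
      intro h
      apply hnp.ne_top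
      rw [eq_top_iff]
      have : (n.homogeneousCore 𝒜).toIdeal = ⊤ := by rw [h]; rfl
      rw [← this]
      exact Ideal.toIdeal_homogeneousCore_le 𝒜 n
    have hle : (n.homogeneousCore 𝒜).toIdeal ≤ m.toIdeal := le_of_isStarLocal 𝒜 m hm _ hne
    norm_cast
    rcases eq_or_lt_of_le hle with heq | hlt
    · have h1 : m.toIdeal ≤ n := by
        rw [← heq]
        exact Ideal.toIdeal_homogeneousCore_le 𝒜 n
      rw [hmax.eq_of_le hnp.ne_top h1]
    · calc n.height ≤ (n.homogeneousCore 𝒜).toIdeal.height + 1 := height_le_core_add_one' 𝒜 n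
        _ ≤ m.toIdeal.height := Ideal.height_add_one_le_of_lt_of_isPrime hlt
  · exact Ideal.height_le_ringKrullDim_of_ne_top hmp.ne_top

end starLocal

end Groth.Agent.Lib.Helper20.GrHeight2
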