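import Mathlib
import Groth.Prelude.Def_GrLC
import Groth.Prelude.Def_Wider
import Groth.Agent.Lib.Helper20.GrLCExt
import Groth.Agent.Lib.Helper20.LCAcyclic

/-!
# Graded local cohomology from a *injective resolution agrees with local cohomology
-/

set_option autoImplicit false
set_option linter.unusedSectionVars false
set_option linter.unusedVariables false

universe u

open CategoryTheory GrLC Groth.Agent.Lib.Helper4.LC Groth.Agent.Lib.Helper20.GrLCExt
  Groth.Agent.Lib.Helper20.LCAcyclic

namespace Groth.Agent.Lib.Helper20.GrLCCompare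

variable {ι : Type} [AddCommGroup ι] [DecidableEq ι]
variable {R : Type u} [CommRing R] [IsNoetherianRing R] (𝒜 : ι → AddSubgroup R) [GradedRing 𝒜]
variable {M : Type u} [AddCommGroup M] [Module R M] (ℳ : ι → AddSubgroup M)
  [DirectSum.Decomposition ℳ] [SetLike.GradedSMul 𝒜 ℳ]

/-- *injective modules are acyclic for local cohomology in the `HH` model. -/
lemma subsingleton_HH_of_isStarInj (hI : GrLC.IsStarInj 𝒜 ℳ) (a : HomogeneousIdeal 𝒜) (k : ℕ) :
    Subsingleton (HH a.toIdeal (ModuleCat.of R M) (k + 1)) := by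
  have h := subsingleton_localCohomology_of_isStarInj 𝒜 ℳ hI a k
  exact (lcEquiv a.toIdeal (ModuleCat.of R M) (k + 1)).symm.toEquiv.subsingleton

/-- The comparison: graded local cohomology computed from a *injective resolution is local
cohomology (in the `HH` model). -/
theorem nonempty_H_equiv_HH (E : GrLC.StarInjRes 𝒜 ℳ) (a : HomogeneousIdeal 𝒜) (i : ℕ) :
    Nonempty (E.H a i ≃ₗ[R] HH a.toIdeal (ModuleCat.of R M) i) := by
  have hacyc : ∀ n k, Subsingleton (HH a.toIdeal (ModuleCat.of R (E.X n).carrier) (k + 1)) :=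
    fun n k => subsingleton_HH_of_isStarInj 𝒜 (E.X n).gr (E.starInj n) a k
  cases i with
  | zero =>
    exact nonempty_equiv_zero a.toIdeal M (fun n => (E.X n).carrier) E.d E.ε E.ε_injective
      E.exact_zero
  | succ k =>
    exact nonempty_equiv_succ' a.toIdeal M (fun n => (E.X n).carrier) E.d E.ε E.exact_succ hacyc
      E.ε_injective E.exact_zero k

/-- The comparison with Mathlib's local cohomology. -/
theorem nonempty_H_equiv_localCohomology (E : GrLC.StarInjRes 𝒜 ℳ) (a : HomogeneousIdeal 𝒜)
    (i : ℕ) : Nonempty (E.H a i ≃ₗ[R] LocCoh.H a.toIdeal i M) := by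
  obtain ⟨e⟩ := nonempty_H_equiv_HH 𝒜 ℳ E a i
  exact ⟨e.trans (lcEquiv a.toIdeal (ModuleCat.of R M) i).symm⟩

end Groth.Agent.Lib.Helper20.GrLCCompare
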