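import Mathlib
import Groth.Agent.Lib.Helper4.LCBridge

/-!
# A long exact sequence for three cohomological δ-functors

Abstract set-up: three cohomological δ-functors `T₁ T₂ T₃` on `R`-modules, vanishing in positive
degrees on injective modules, with δ-compatible natural transformations `α : T₁ → T₂`,
`β : T₂ → T₃` such that `0 → T₁⁰ → T₂⁰ → T₃⁰` is exact and `T₂⁰(E) → T₃⁰(E)` is onto for injective
`E`.  Then `T₁ⁱ(M) → T₂ⁱ(M) → T₃ⁱ(M)` is exact for all `i` and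
`coker (T₂ⁱ(M) → T₃ⁱ(M)) ≃ ker (T₁ⁱ⁺¹(M) → T₂ⁱ⁺¹(M))`.
-/

set_option autoImplicit false
set_option linter.unusedSectionVars false
set_option linter.unusedVariables false

universe u

open CategoryTheory Groth.Agent.Lib.Helper4.LCBridge

namespace Groth.Agent.Lib.Helper20.LCDelta

variable (R : Type u) [CommRing R]

/-- A cohomological δ-functor on `R`-modules, in elementwise form, effaceable by injectives. -/
structure DF where
  T : ModuleCat.{u} R → ℕ → ModuleCat.{u} R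
  map : ∀ {M N : ModuleCat.{u} R} (_ : M ⟶ N) (i : ℕ), T M i →ₗ[R] T N i
  δ : ∀ {S : ShortComplex (ModuleCat.{u} R)} (_ : S.ShortExact) (i : ℕ),
    T S.X₃ i →ₗ[R] T S.X₁ (i + 1)
  map_f_injective : ∀ {S : ShortComplex (ModuleCat.{u} R)} (_ : S.ShortExact),
    Function.Injective (map S.f 0)
  map_g_map_f : ∀ {S : ShortComplex (ModuleCat.{u} R)} (_ : S.ShortExact) (i : ℕ) (x : T S.X₁ i),
    map S.g i (map S.f i x) = 0
  exact₂ : ∀ {S : ShortComplex (ModuleCat.{u} R)} (_ : S.ShortExact) (i : ℕ) (x : T S.X₂ i),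
    map S.g i x = 0 → ∃ y, map S.f i y = x
  δ_map_g : ∀ {S : ShortComplex (ModuleCat.{u} R)} (hS : S.ShortExact) (i : ℕ) (x : T S.X₂ i),
    δ hS i (map S.g i x) = 0
  exact₃ : ∀ {S : ShortComplex (ModuleCat.{u} R)} (hS : S.ShortExact) (i : ℕ) (x : T S.X₃ i),
    δ hS i x = 0 → ∃ y, map S.g i y = x
  map_f_δ : ∀ {S : ShortComplex (ModuleCat.{u} R)} (hS : S.ShortExact) (i : ℕ) (x : T S.X₃ i),
    map S.f (i + 1) (δ hS i x) = 0
  exact₁ : ∀ {S : ShortComplex (ModuleCat.{u} R)} (hS : S.ShortExact) (i : ℕ)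
    (x : T S.X₁ (i + 1)), map S.f (i + 1) x = 0 → ∃ y, δ hS i y = x
  vanish : ∀ (E : ModuleCat.{u} R), Injective E → ∀ i : ℕ, Subsingleton (T E (i + 1))

variable {R}

/-- A δ-compatible natural transformation. -/
structure DFHom (T₁ T₂ : DF R) where
  app : ∀ (M : ModuleCat.{u} R) (i : ℕ), T₁.T M i →ₗ[R] T₂.T M i
  naturality : ∀ {M N : ModuleCat.{u} R} (f : M ⟶ N) (i : ℕ) (x : T₁.T M i),
    app N i (T₁.map f i x) = T₂.map f i (app M i x)
  comm_δ : ∀ {S : ShortComplex (ModuleCat.{u} R)} (hS : S.ShortExact) (i : ℕ) (x : T₁.T S.X₃ i),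
    app S.X₁ (i + 1) (T₁.δ hS i x) = T₂.δ hS i (app S.X₃ i x)

namespace DF

variable (T : DF R) {S : ShortComplex (ModuleCat.{u} R)} (hS : S.ShortExact)

lemma δ_surjective (hE : Injective S.X₂) (i : ℕ) : Function.Surjective (T.δ hS i) := by
  intro x
  have := T.vanish S.X₂ hE i
  exact T.exact₁ hS i x (Subsingleton.elim _ _)

lemma δ_injective_succ (hE : Injective S.X₂) (i : ℕ) : Function.Injective (T.δ hS (i + 1)) := by
  intro x y hxy
  have h0 : T.δ hS (i + 1) (x - y) = 0 := by rw [map_sub, hxy, sub_self]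
  obtain ⟨z, hz⟩ := T.exact₃ hS (i + 1) _ h0
  have := T.vanish S.X₂ hE i
  rw [Subsingleton.elim z 0, map_zero] at hz
  exact sub_eq_zero.1 hz.symm

end DF

/-- the standard embedding into an injective. -/
noncomputable def ses (M : ModuleCat.{u} R) : ShortComplex (ModuleCat.{u} R) :=
  ShortComplex.mk (Injective.ι M) (Limits.cokernel.π (Injective.ι M)) (by simp)

lemma ses_shortExact (M : ModuleCat.{u} R) : (ses M).ShortExact := by
  have h1 : (ses M).Exact := ShortComplex.exact_cokernel (Injective.ι M)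
  have : Mono (ses M).f := inferInstanceAs (Mono (Injective.ι M))
  have : Epi (ses M).g := inferInstanceAs (Epi (Limits.cokernel.π (Injective.ι M)))
  exact ShortComplex.ShortExact.mk h1

lemma ses_injective (M : ModuleCat.{u} R) : Injective (ses M).X₂ :=
  inferInstanceAs (Injective (Injective.under M))

section main

variable (T₁ T₂ T₃ : DF R) (α : DFHom T₁ T₂) (β : DFHom T₂ T₃)
  (hzero : ∀ (M : ModuleCat.{u} R) (i : ℕ) (x : T₁.T M i), β.app M i (α.app M i x) = 0)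
  (hinj0 : ∀ M : ModuleCat.{u} R, Function.Injective (α.app M 0))
  (hex0 : ∀ (M : ModuleCat.{u} R) (x : T₂.T M 0), β.app M 0 x = 0 → ∃ y, α.app M 0 y = x)
  (hsurj : ∀ E : ModuleCat.{u} R, Injective E → Function.Surjective (β.app E 0))

include hsurj in
lemma surj_inj (E : ModuleCat.{u} R) (hE : Injective E) (i : ℕ) :
    Function.Surjective (β.app E i) := by
  cases i with
  | zero => exact hsurj E hE
  | succ i =>
    intro x
    have := T₃.vanish E hE i
    exact ⟨0, Subsingleton.elim _ _⟩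

include hzero hinj0 hex0 hsurj in
/-- the snake in degree zero. -/
theorem snake_zero {S : ShortComplex (ModuleCat.{u} R)} (hS : S.ShortExact)
    (hE : Injective S.X₂) :
    Nonempty ((T₃.T S.X₁ 0 ⧸ LinearMap.range (β.app S.X₁ 0)) ≃ₗ[R]
      LinearMap.ker (α.app S.X₁ (0 + 1))) := by
  -- abbreviations
  let P : Submodule R (T₁.T S.X₃ 0 × T₂.T S.X₂ 0 × T₃.T S.X₁ 0) :=
    { carrier := {p | α.app S.X₃ 0 p.1 = T₂.map S.g 0 p.2.1 ∧
        β.app S.X₂ 0 p.2.1 = T₃.map S.f 0 p.2.2}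
      add_mem' := by
        rintro p q ⟨hp1, hp2⟩ ⟨hq1, hq2⟩
        refine ⟨?_, ?_⟩
        · change α.app S.X₃ 0 (p.1 + q.1) = T₂.map S.g 0 (p.2.1 + q.2.1)
          rw [map_add, map_add, hp1, hq1]
        · change β.app S.X₂ 0 (p.2.1 + q.2.1) = T₃.map S.f 0 (p.2.2 + q.2.2)
          rw [map_add, map_add, hp2, hq2]
      zero_mem' := by
        refine ⟨?_, ?_⟩
        · change α.app S.X₃ 0 0 = T₂.map S.g 0 0
          rw [map_zero, map_zero]
        · change β.app S.X₂ 0 0 = T₃.map S.f 0 0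
          rw [map_zero, map_zero]
      smul_mem' := by
        rintro r p ⟨hp1, hp2⟩
        refine ⟨?_, ?_⟩
        · change α.app S.X₃ 0 (r • p.1) = T₂.map S.g 0 (r • p.2.1)
          rw [map_smul, map_smul, hp1]
        · change β.app S.X₂ 0 (r • p.2.1) = T₃.map S.f 0 (r • p.2.2)
          rw [map_smul, map_smul, hp2] }
  have hP : ∀ p : P, α.app S.X₃ 0 p.1.1 = T₂.map S.g 0 p.1.2.1 ∧
      β.app S.X₂ 0 p.1.2.1 = T₃.map S.f 0 p.1.2.2 := fun p => p.2
  let f' : P →ₗ[R] (T₃.T S.X₁ 0 ⧸ LinearMap.range (β.app S.X₁ 0)) :=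
    (LinearMap.range (β.app S.X₁ 0)).mkQ ∘ₗ (LinearMap.snd R _ _) ∘ₗ (LinearMap.snd R _ _) ∘ₗ
      P.subtype
  have hf'app : ∀ p : P, f' p = (LinearMap.range (β.app S.X₁ 0)).mkQ p.1.2.2 := fun p => rfl
  let g0 : P →ₗ[R] T₁.T S.X₁ (0 + 1) := T₁.δ hS 0 ∘ₗ (LinearMap.fst R _ _) ∘ₗ P.subtype
  have hg0app : ∀ p : P, g0 p = T₁.δ hS 0 p.1.1 := fun p => rfl
  have hg0mem : ∀ p : P, g0 p ∈ LinearMap.ker (α.app S.X₁ (0 + 1)) := by
    intro p
    rw [LinearMap.mem_ker, hg0app]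
    have := α.comm_δ hS 0 p.1.1
    rw [(hP p).1, T₂.δ_map_g hS 0] at this
    exact this
  let g' : P →ₗ[R] LinearMap.ker (α.app S.X₁ (0 + 1)) := g0.codRestrict _ hg0mem
  have hg'app : ∀ p : P, (g' p : T₁.T S.X₁ (0 + 1)) = T₁.δ hS 0 p.1.1 := fun p => rfl
  -- surjectivity of f'
  have hf's : Function.Surjective f' := by
    intro q
    obtain ⟨m3, rfl⟩ := Submodule.mkQ_surjective _ q
    obtain ⟨e, he⟩ := hsurj S.X₂ hE (T₃.map S.f 0 m3)
    have h1 : β.app S.X₃ 0 (T₂.map S.g 0 e) = 0 := by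
      rw [β.naturality, he, T₃.map_g_map_f hS]
    obtain ⟨c1, hc1⟩ := hex0 S.X₃ _ h1
    exact ⟨⟨(c1, e, m3), hc1, he⟩, rfl⟩
  -- surjectivity of g'
  have hg's : Function.Surjective g' := by
    rintro ⟨x, hx⟩
    rw [LinearMap.mem_ker] at hx
    obtain ⟨c1, hc1⟩ := T₁.δ_surjective hS hE 0 x
    have h1 : T₂.δ hS 0 (α.app S.X₃ 0 c1) = 0 := by
      rw [← α.comm_δ, hc1, hx]
    obtain ⟨e, he⟩ := T₂.exact₃ hS 0 _ h1
    have h2 : T₃.map S.g 0 (β.app S.X₂ 0 e) = 0 := by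
      rw [← β.naturality, he, hzero]
    obtain ⟨m3, hm3⟩ := T₃.exact₂ hS 0 _ h2
    refine ⟨⟨(c1, e, m3), he.symm, hm3.symm⟩, ?_⟩
    apply Subtype.ext
    rw [hg'app]
    exact hc1
  -- kernels
  have hker : LinearMap.ker f' = LinearMap.ker g' := by
    ext p
    rw [LinearMap.mem_ker, LinearMap.mem_ker, hf'app, Submodule.mkQ_apply,
      Submodule.Quotient.mk_eq_zero]
    obtain ⟨hp1, hp2⟩ := hP p
    constructor
    · rintro ⟨m2, hm2⟩
      -- m3 = β m2
      have h1 : β.app S.X₂ 0 (p.1.2.1 - T₂.map S.f 0 m2) = 0 := by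
        rw [map_sub, hp2, β.naturality, hm2, sub_self]
      obtain ⟨e1, he1⟩ := hex0 S.X₂ _ h1
      have h2 : α.app S.X₃ 0 (p.1.1 - T₁.map S.g 0 e1) = 0 := by
        rw [map_sub, α.naturality, he1, map_sub, T₂.map_g_map_f hS, sub_zero, hp1, sub_self]
      have h3 : p.1.1 = T₁.map S.g 0 e1 := by
        have := hinj0 S.X₃ (h2.trans (map_zero _).symm)
        exact sub_eq_zero.1 this
      apply Subtype.ext
      rw [hg'app, h3, T₁.δ_map_g hS]
      rfl
    · intro h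
      have h0 : T₁.δ hS 0 p.1.1 = 0 := by
        have := congrArg Subtype.val h
        rw [hg'app] at this
        exact this
      obtain ⟨e1, he1⟩ := T₁.exact₃ hS 0 _ h0
      have h1 : T₂.map S.g 0 (p.1.2.1 - α.app S.X₂ 0 e1) = 0 := by
        rw [map_sub, ← α.naturality, he1, hp1, sub_self]
      obtain ⟨m2, hm2⟩ := T₂.exact₂ hS 0 _ h1
      refine ⟨m2, ?_⟩
      apply T₃.map_f_injective hS
      rw [← β.naturality, hm2, map_sub, hzero, sub_zero, hp2]
  exact ⟨equivOfSurjOfKerEq f' g' hf's hg's hker⟩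

include hzero hinj0 hex0 hsurj in
theorem step {S : ShortComplex (ModuleCat.{u} R)} (hS : S.ShortExact)
    (hE : Injective S.X₂) (i : ℕ)
    (ihex : ∀ x : T₂.T S.X₃ i, β.app S.X₃ i x = 0 → ∃ y, α.app S.X₃ i y = x)
    (ihiso : (T₃.T S.X₃ i ⧸ LinearMap.range (β.app S.X₃ i)) ≃ₗ[R]
      LinearMap.ker (α.app S.X₃ (i + 1))) :
    (∀ x : T₂.T S.X₁ (i + 1), β.app S.X₁ (i + 1) x = 0 → ∃ y, α.app S.X₁ (i + 1) y = x) ∧
    Nonempty ((T₃.T S.X₁ (i + 1) ⧸ LinearMap.range (β.app S.X₁ (i + 1))) ≃ₗ[R]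
      LinearMap.ker (α.app S.X₁ (i + 1 + 1))) := by
  have hβE := surj_inj T₂ T₃ β hsurj S.X₂ hE i
  constructor
  · -- exactness
    intro x hx
    obtain ⟨c, rfl⟩ := T₂.δ_surjective hS hE i x
    have h1 : T₃.δ hS i (β.app S.X₃ i c) = 0 := by
      rw [← β.comm_δ]; exact hx
    obtain ⟨e3, he3⟩ := T₃.exact₃ hS i _ h1
    obtain ⟨e2, rfl⟩ := hβE e3
    have h2 : β.app S.X₃ i (c - T₂.map S.g i e2) = 0 := by
      rw [map_sub, β.naturality, he3, sub_self]
    obtain ⟨c1, hc1⟩ := ihex _ h2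
    refine ⟨T₁.δ hS i c1, ?_⟩
    rw [α.comm_δ, hc1, map_sub, T₂.δ_map_g hS, sub_zero]
  · -- the isomorphism
    -- coker β^{i+1}_M ≃ coker β^i_C
    let F : T₃.T S.X₃ i →ₗ[R] (T₃.T S.X₁ (i + 1) ⧸ LinearMap.range (β.app S.X₁ (i + 1))) :=
      (LinearMap.range (β.app S.X₁ (i + 1))).mkQ ∘ₗ T₃.δ hS i
    let G : T₃.T S.X₃ i →ₗ[R] (T₃.T S.X₃ i ⧸ LinearMap.range (β.app S.X₃ i)) :=
      (LinearMap.range (β.app S.X₃ i)).mkQ
    have hFs : Function.Surjective F :=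
      (Submodule.mkQ_surjective _).comp (T₃.δ_surjective hS hE i)
    have hGs : Function.Surjective G := Submodule.mkQ_surjective _
    have hker : LinearMap.ker F = LinearMap.ker G := by
      ext c3
      rw [LinearMap.mem_ker, LinearMap.mem_ker]
      change (LinearMap.range (β.app S.X₁ (i + 1))).mkQ (T₃.δ hS i c3) = 0 ↔
        (LinearMap.range (β.app S.X₃ i)).mkQ c3 = 0
      rw [Submodule.mkQ_apply, Submodule.mkQ_apply, Submodule.Quotient.mk_eq_zero,
        Submodule.Quotient.mk_eq_zero]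
      constructor
      · rintro ⟨x, hx⟩
        obtain ⟨c2, rfl⟩ := T₂.δ_surjective hS hE i x
        have h1 : T₃.δ hS i (c3 - β.app S.X₃ i c2) = 0 := by
          rw [map_sub, ← β.comm_δ, hx, sub_self]
        obtain ⟨e3, he3⟩ := T₃.exact₃ hS i _ h1
        obtain ⟨e2, rfl⟩ := hβE e3
        refine ⟨c2 + T₂.map S.g i e2, ?_⟩
        rw [map_add, β.naturality, he3]
        abel
      · rintro ⟨c2, rfl⟩
        exact ⟨T₂.δ hS i c2, β.comm_δ hS i c2⟩
    have e1 : (T₃.T S.X₁ (i + 1) ⧸ LinearMap.range (β.app S.X₁ (i + 1))) ≃ₗ[R]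
        (T₃.T S.X₃ i ⧸ LinearMap.range (β.app S.X₃ i)) :=
      equivOfSurjOfKerEq F G hFs hGs hker
    -- ker α^{i+1}_C ≃ ker α^{i+2}_M
    let D0 : LinearMap.ker (α.app S.X₃ (i + 1)) →ₗ[R] T₁.T S.X₁ (i + 1 + 1) :=
      T₁.δ hS (i + 1) ∘ₗ (LinearMap.ker (α.app S.X₃ (i + 1))).subtype
    have hD0 : ∀ x, D0 x ∈ LinearMap.ker (α.app S.X₁ (i + 1 + 1)) := by
      intro x
      rw [LinearMap.mem_ker]
      change α.app S.X₁ (i + 1 + 1) (T₁.δ hS (i + 1) x.1) = 0
      rw [α.comm_δ, LinearMap.mem_ker.1 x.2, map_zero]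
    let D : LinearMap.ker (α.app S.X₃ (i + 1)) →ₗ[R] LinearMap.ker (α.app S.X₁ (i + 1 + 1)) :=
      D0.codRestrict _ hD0
    have hDapp : ∀ x, (D x : T₁.T S.X₁ (i + 1 + 1)) = T₁.δ hS (i + 1) x.1 := fun x => rfl
    have hDbij : Function.Bijective D := by
      constructor
      · intro x y hxy
        apply Subtype.ext
        apply T₁.δ_injective_succ hS hE i
        rw [← hDapp, ← hDapp, hxy]
      · rintro ⟨y, hy⟩
        obtain ⟨x, rfl⟩ := T₁.δ_surjective hS hE (i + 1) y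
        rw [LinearMap.mem_ker, α.comm_δ] at hy
        have hx : α.app S.X₃ (i + 1) x = 0 :=
          T₂.δ_injective_succ hS hE i (hy.trans (map_zero _).symm)
        exact ⟨⟨x, hx⟩, rfl⟩
    exact ⟨e1.trans (ihiso.trans (LinearEquiv.ofBijective D hDbij))⟩

include hzero hinj0 hex0 hsurj in
theorem main : ∀ (i : ℕ) (M : ModuleCat.{u} R),
    (∀ x : T₂.T M i, β.app M i x = 0 → ∃ y, α.app M i y = x) ∧
    Nonempty ((T₃.T M i ⧸ LinearMap.range (β.app M i)) ≃ₗ[R]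
      LinearMap.ker (α.app M (i + 1))) := by
  intro i
  induction i with
  | zero =>
    intro M
    exact ⟨hex0 M, snake_zero T₁ T₂ T₃ α β hzero hinj0 hex0 hsurj (ses_shortExact M)
      (ses_injective M)⟩
  | succ i ih =>
    intro M
    obtain ⟨ihex, ⟨ihiso⟩⟩ := ih (ses M).X₃
    exact step T₁ T₂ T₃ α β hzero hinj0 hex0 hsurj (ses_shortExact M) (ses_injective M) i
      ihex ihiso

end main

end Groth.Agent.Lib.Helper20.LCDelta
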