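import Mathlib
import Groth.Agent.Lib.Helper4.LC1
import Groth.Agent.Lib.Helper20.LCDelta

/-!
# `HH I` as a δ-functor; change of ideal; naturality of the connecting map
-/

set_option autoImplicit false
set_option linter.unusedSectionVars false
set_option linter.unusedVariables false

universe u

open CategoryTheory Abelian Groth.Agent.Lib.Helper4.LC Groth.Agent.Lib.Helper20.LCDelta

namespace Groth.Agent.Lib.Helper20.LCDeltaHH

variable {R : Type u} [CommRing R]

/-! ### change of ideal -/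

section res

variable {I J : Ideal R} (h : I ≤ J)

/-- the surjection `R ⧸ I^n → R ⧸ J^n` for `I ≤ J`. -/
def pmap (n : ℕ) : Q I n ⟶ Q J n :=
  ModuleCat.ofHom (Submodule.mapQ (I ^ n) (J ^ n) LinearMap.id (Ideal.pow_right_mono h n))

lemma pmap_apply (n : ℕ) (r : R) :
    (pmap h n).hom (Submodule.Quotient.mk r) = Submodule.Quotient.mk r := rfl

lemma pmap_comm {n m : ℕ} (hnm : n ≤ m) : pmap h m ≫ qmap J hnm = qmap I hnm ≫ pmap h n := by
  apply ModuleCat.hom_ext
  apply LinearMap.ext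
  intro x
  obtain ⟨x, rfl⟩ := Submodule.Quotient.mk_surjective _ x
  rfl

variable (M : ModuleCat.{u} R) (i : ℕ)

/-- restriction at stage `n`. -/
noncomputable def resF (n : ℕ) : Ext.{u} (Q J n) M i →ₗ[R] Ext.{u} (Q I n) M i :=
  Ext.precompOfLinear (Ext.mk₀ (pmap h n)) R M (zero_add i)

lemma resF_apply (n : ℕ) (x : Ext.{u} (Q J n) M i) :
    resF h M i n x = (Ext.mk₀ (pmap h n)).comp x (zero_add i) := rfl

lemma resF_comm (n m : ℕ) (hnm : n ≤ m) :
    resF h M i m ∘ₗ trF J M i n m hnm = trF I M i n m hnm ∘ₗ resF h M i n := by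
  apply LinearMap.ext
  intro x
  change (Ext.mk₀ (pmap h m)).comp ((Ext.mk₀ (qmap J hnm)).comp x (zero_add i)) (zero_add i) =
    (Ext.mk₀ (qmap I hnm)).comp ((Ext.mk₀ (pmap h n)).comp x (zero_add i)) (zero_add i)
  rw [Ext.mk₀_comp_mk₀_assoc, Ext.mk₀_comp_mk₀_assoc, pmap_comm]

/-- The comparison map `H^i_J(M) → H^i_I(M)` for `I ≤ J`, on the model. -/
noncomputable def res : HH J M i →ₗ[R] HH I M i :=
  Module.DirectLimit.map (f := trF J M i) (f' := trF I M i) (resF h M i) (resF_comm h M i)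

lemma res_of (n : ℕ) (y : Ext.{u} (Q J n) M i) :
    res h M i (HH.of J M i n y) = HH.of I M i n ((Ext.mk₀ (pmap h n)).comp y (zero_add i)) :=
  Module.DirectLimit.map_apply_of (f := trF J M i) (f' := trF I M i) (resF h M i)
    (resF_comm h M i) y

variable {M}

lemma res_map {M' : ModuleCat.{u} R} (g : M ⟶ M') (x : HH J M i) :
    res h M' i (HH.map J g i x) = HH.map I g i (res h M i x) := by
  obtain ⟨n, y, rfl⟩ := HH.exists_of J M i x
  rw [HH.map_of, res_of, res_of, HH.map_of, Ext.comp_assoc_of_third_deg_zero]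

lemma res_δ {S : ShortComplex (ModuleCat.{u} R)} (hS : S.ShortExact) (x : HH J S.X₃ i) :
    res h S.X₁ (i + 1) (HH.δ J hS i x) = HH.δ I hS i (res h S.X₃ i x) := by
  obtain ⟨n, y, rfl⟩ := HH.exists_of J S.X₃ i x
  rw [HH.δ_of, res_of, res_of, HH.δ_of]
  congr 1
  exact (Ext.comp_assoc (Ext.mk₀ (pmap h n)) y hS.extClass (zero_add i) rfl (by omega)).symm

variable (M)

lemma HH0_res (x : HH J M 0) : HH0 I M (res h M 0 x) = HH0 J M x := by
  obtain ⟨n, y, rfl⟩ := HH.exists_of J M 0 x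
  obtain ⟨φ, rfl⟩ := (Ext.mk₀_bijective (Q J n) M).2 y
  rw [res_of, HH0_of, HH0_of, Ext.mk₀_comp_mk₀, ev0_mk₀, ev0_mk₀]
  rfl

end res

/-! ### naturality of the connecting map -/

lemma δ_naturality (I : Ideal R) {S₁ S₂ : ShortComplex (ModuleCat.{u} R)} (h₁ : S₁.ShortExact)
    (h₂ : S₂.ShortExact) (φ : S₁ ⟶ S₂) (i : ℕ) (x : HH I S₁.X₃ i) :
    HH.δ I h₂ i (HH.map I φ.τ₃ i x) = HH.map I φ.τ₁ (i + 1) (HH.δ I h₁ i x) := by
  obtain ⟨n, y, rfl⟩ := HH.exists_of I S₁.X₃ i x
  rw [HH.map_of, HH.δ_of, HH.δ_of, HH.map_of]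
  congr 1
  rw [Ext.comp_assoc y (Ext.mk₀ φ.τ₃) h₂.extClass (add_zero i) (zero_add 1) (by omega),
    ← ShortComplex.ShortExact.extClass_naturality h₁ h₂ φ,
    ← Ext.comp_assoc y h₁.extClass (Ext.mk₀ φ.τ₁) rfl (add_zero 1) (by omega)]

/-! ### `HH I` as a δ-functor -/

/-- `HH I` as a `DF`. -/
noncomputable def dfHH (I : Ideal R) : DF R where
  T M i := ModuleCat.of R (HH I M i)
  map g i := HH.map I g i
  δ hS i := HH.δ I hS i
  map_f_injective hS := HH.map_f_injective_zero I hS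
  map_g_map_f hS i x := HH.map_g_map_f I i x
  exact₂ hS i x hx := HH.exact₂ I hS i x hx
  δ_map_g hS i x := HH.δ_map_g I hS i x
  exact₃ hS i x hx := HH.exact₃ I hS i x hx
  map_f_δ hS i x := HH.map_f_δ I hS i x
  exact₁ hS i x hx := HH.exact₁ I hS i x hx
  vanish E hE i := by
    have := hE
    exact HH.subsingleton_of_injective I E i

/-- the change of ideal as a morphism of δ-functors. -/
noncomputable def resHom {I J : Ideal R} (h : I ≤ J) : DFHom (dfHH J) (dfHH I) where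
  app M i := res h M i
  naturality g i x := res_map h i g x
  comm_δ hS i x := res_δ h i hS x

end Groth.Agent.Lib.Helper20.LCDeltaHH
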