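import Mathlib
import Groth.Prelude.Def_GrLC
import Groth.Agent.Lib.Helper4.LC1
import Groth.Agent.Lib.Helper20.LCAcyclic
import Groth.Agent.Lib.Helper20.LCDeltaHH

/-!
# Canonical comparison between the cohomology of `Γ_I` of an acyclic resolution and local
cohomology (`HH` model), natural in chain maps and compatible with connecting maps
-/

set_option autoImplicit false
set_option linter.unusedSectionVars false
set_option linter.unusedVariables false

universe u

open CategoryTheory Groth.Agent.Lib.Helper4.LC Groth.Agent.Lib.Helper20.LCAcyclic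

namespace Groth.Agent.Lib.Helper20.ResCmp

variable {R : Type u} [CommRing R] (I : Ideal R)

/-- an (ungraded) resolution by `Γ_I`-acyclic modules. -/
structure Res (M : Type u) [AddCommGroup M] [Module R M] where
  X : ℕ → Type u
  [acg : ∀ n, AddCommGroup (X n)]
  [mod : ∀ n, Module R (X n)]
  d : ∀ n, X n →ₗ[R] X (n + 1)
  ε : M →ₗ[R] X 0
  ε_injective : Function.Injective ε
  exact_zero : LinearMap.ker (d 0) = LinearMap.range ε
  exact_succ : ∀ n, LinearMap.ker (d (n + 1)) = LinearMap.range (d n)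
  acyclic : ∀ n k, Subsingleton (HH I (ModuleCat.of R (X n)) (k + 1))

attribute [instance] Res.acg Res.mod

namespace Res

variable {I} {M : Type u} [AddCommGroup M] [Module R M] (E : Res I M)

/-- cocycles of `Γ_I(X •)`. -/
def cocyc (i : ℕ) : Submodule R (E.X i) := GrLC.gam I (E.X i) ⊓ LinearMap.ker (E.d i)

/-- coboundaries of `Γ_I(X •)`. -/
def cobdy : (i : ℕ) → Submodule R (E.X i)
  | 0 => ⊥
  | n + 1 => (GrLC.gam I (E.X n)).map (E.d n)

/-- cohomology of `Γ_I(X •)`. -/
abbrev H (i : ℕ) : Type u := ↥(E.cocyc i) ⧸ (E.cobdy i).comap (E.cocyc i).subtype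

/-- the class map. -/
abbrev toH (i : ℕ) : ↥(E.cocyc i) →ₗ[R] E.H i := ((E.cobdy i).comap (E.cocyc i).subtype).mkQ

lemma d_comp_d (n : ℕ) (x : E.X n) : E.d (n + 1) (E.d n x) = 0 := by
  have : E.d n x ∈ LinearMap.ker (E.d (n + 1)) := by
    rw [E.exact_succ n]
    exact LinearMap.mem_range_self _ x
  exact this

lemma d_ε (m : M) : E.d 0 (E.ε m) = 0 := by
  have : E.ε m ∈ LinearMap.ker (E.d 0) := by
    rw [E.exact_zero]
    exact LinearMap.mem_range_self _ m
  exact this

/-- the first syzygy. -/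
abbrev K1 : Submodule R (E.X 1) := LinearMap.ker (E.d 1)

/-- the truncated resolution, resolving `K1`. -/
def tail : Res I E.K1 where
  X n := E.X (n + 1)
  d n := E.d (n + 1)
  ε := E.K1.subtype
  ε_injective := Submodule.injective_subtype _
  exact_zero := (Submodule.range_subtype _).symm
  exact_succ n := E.exact_succ (n + 1)
  acyclic n k := E.acyclic (n + 1) k

/-- the map `X 0 → K1`. -/
def toK1 : E.X 0 →ₗ[R] E.K1 :=
  (E.d 0).codRestrict E.K1 (fun x => E.d_comp_d 0 x)

lemma toK1_apply (x : E.X 0) : (E.toK1 x : E.X 1) = E.d 0 x := rfl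

lemma toK1_surjective : Function.Surjective E.toK1 := by
  rintro ⟨y, hy⟩
  have hy' : y ∈ LinearMap.ker (E.d 1) := hy
  rw [E.exact_succ 0] at hy'
  obtain ⟨x, rfl⟩ := hy'
  exact ⟨x, rfl⟩

lemma exact_ε_toK1 : Function.Exact E.ε E.toK1 := by
  intro y
  constructor
  · intro h
    have h1 : y ∈ LinearMap.ker (E.d 0) := by
      have := congrArg Subtype.val h
      exact this
    rw [E.exact_zero] at h1
    exact h1
  · rintro ⟨m, rfl⟩
    apply Subtype.ext
    exact E.d_ε m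

/-- the short exact sequence `0 → M → X 0 → K1 → 0`. -/
abbrev ses : ShortComplex (ModuleCat.{u} R) := sc E.ε E.toK1 E.exact_ε_toK1

lemma ses_shortExact : E.ses.ShortExact :=
  sc_shortExact E.ε E.toK1 E.exact_ε_toK1 E.ε_injective E.toK1_surjective

/-- the identification `H^i(tail) → H^{i+1}`. -/
def σ : (i : ℕ) → E.tail.H i →ₗ[R] E.H (i + 1)
  | 0 => Submodule.mapQ _ _ LinearMap.id (by
      intro z hz
      have hz' : z.1 = 0 := hz
      change z.1 ∈ (GrLC.gam I (E.X 0)).map (E.d 0)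
      rw [hz']
      exact Submodule.zero_mem _)
  | _ + 1 => LinearMap.id

end Res

section cmp

variable {I} {M : Type u} [AddCommGroup M] [Module R M] (E : Res I M)

/-- `Γ_I(M) → cocyc 0`. -/
def gamToCocyc0 : GrLC.gam I M →ₗ[R] ↥(E.cocyc 0) :=
  LinearMap.codRestrict _ (E.ε ∘ₗ (GrLC.gam I M).subtype) (fun m => by
    refine ⟨?_, ?_⟩
    · obtain ⟨k, hk⟩ := m.2
      exact ⟨k, fun r hr => by
        rw [LinearMap.comp_apply, Submodule.subtype_apply, ← map_smul, hk r hr, map_zero]⟩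
    · rw [SetLike.mem_coe, E.exact_zero]
      exact LinearMap.mem_range_self _ _)

lemma gamToCocyc0_apply (m : GrLC.gam I M) : (gamToCocyc0 E m : E.X 0) = E.ε m := rfl

lemma gamToCocyc0_bijective : Function.Bijective (gamToCocyc0 E) := by
  constructor
  · intro a b hab
    have := congrArg Subtype.val hab
    exact Subtype.ext (E.ε_injective this)
  · rintro ⟨z, ⟨k, hk⟩, hz⟩
    rw [SetLike.mem_coe, E.exact_zero] at hz
    obtain ⟨m, rfl⟩ := hz
    refine ⟨⟨m, k, fun r hr => ?_⟩, rfl⟩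
    apply E.ε_injective
    rw [map_smul, hk r hr, map_zero]

lemma comap_cobdy_zero : (E.cobdy 0).comap (E.cocyc 0).subtype = ⊥ := by
  change (⊥ : Submodule R (E.X 0)).comap (E.cocyc 0).subtype = ⊥
  rw [Submodule.comap_bot, Submodule.ker_subtype]

/-- the comparison in degree `0`. -/
noncomputable def cmp0 : E.H 0 ≃ₗ[R] HH I (ModuleCat.of R M) 0 :=
  ((Submodule.quotEquivOfEqBot _ (comap_cobdy_zero E)).trans
    (LinearEquiv.ofBijective (gamToCocyc0 E) (gamToCocyc0_bijective E)).symm).trans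
    (HH0gam I M).symm

lemma ε_HH0_cmp0 (z : E.cocyc 0) :
    E.ε (HH0 I (ModuleCat.of R M) (cmp0 E (E.toH 0 z))) = (z : E.X 0) := by
  have h1 : cmp0 E (E.toH 0 z) = (HH0gam I M).symm
      ((LinearEquiv.ofBijective (gamToCocyc0 E) (gamToCocyc0_bijective E)).symm z) := by
    simp only [cmp0, LinearEquiv.trans_apply]
    congr 2
  rw [h1, HH0_HH0gam_symm, ← gamToCocyc0_apply]
  congr 1
  exact LinearEquiv.apply_symm_apply (LinearEquiv.ofBijective (gamToCocyc0 E)
    (gamToCocyc0_bijective E)) z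

/-- the map `cocyc 1 → H^1_I(M)`. -/
noncomputable def Ψ1 : ↥(E.cocyc 1) →ₗ[R] HH I (ModuleCat.of R M) 1 :=
  (conn I E.ε E.toK1 E.exact_ε_toK1 E.ε_injective E.toK1_surjective) ∘ₗ cocycToGam I E.X E.d 1

lemma Ψ1_surjective : Function.Surjective (Ψ1 E) :=
  (conn_surjective I E.ε E.toK1 E.exact_ε_toK1 E.ε_injective E.toK1_surjective
    (E.acyclic 0 0)).comp (cocycToGam_surjective I E.X E.d 1)

lemma ker_Ψ1 : LinearMap.ker (Ψ1 E) = (E.cobdy 1).comap (E.cocyc 1).subtype := by
  ext z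
  rw [LinearMap.mem_ker, Ψ1, LinearMap.comp_apply, conn_eq_zero_iff, Submodule.mem_comap]
  change _ ↔ (z : E.X 1) ∈ (GrLC.gam I (E.X 0)).map (E.d 0)
  rw [Submodule.mem_map]
  constructor
  · rintro ⟨b, hb, hgb⟩
    refine ⟨b, hb, ?_⟩
    have := congrArg Subtype.val hgb
    exact this
  · rintro ⟨b, hb, hgb⟩
    refine ⟨b, hb, ?_⟩
    apply Subtype.ext
    exact hgb

/-- the comparison in degree `1`. -/
noncomputable def cmp1 : E.H 1 ≃ₗ[R] HH I (ModuleCat.of R M) 1 :=
  (Submodule.quotEquivOfEq _ _ (ker_Ψ1 E).symm).trans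
    (LinearMap.quotKerEquivOfSurjective (Ψ1 E) (Ψ1_surjective E))

lemma cmp1_toH (z : E.cocyc 1) : cmp1 E (E.toH 1 z) = Ψ1 E z := by
  simp only [cmp1, LinearEquiv.trans_apply]
  erw [Submodule.quotEquivOfEq_mk]
  rfl

/-- the dimension shift. -/
noncomputable def shift (i : ℕ) :
    HH I (ModuleCat.of R E.K1) (i + 1) ≃ₗ[R] HH I (ModuleCat.of R M) (i + 1 + 1) :=
  shiftEquiv I E.ε E.toK1 E.exact_ε_toK1 E.ε_injective E.toK1_surjective i (E.acyclic 0 i)
    (E.acyclic 0 (i + 1))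

lemma shift_apply (i : ℕ) (x : HH I (ModuleCat.of R E.K1) (i + 1)) :
    shift E i x = HH.δ I E.ses_shortExact (i + 1) x := rfl

end cmp

/-- **the canonical comparison isomorphism.** -/
noncomputable def cmp {I : Ideal R} : ∀ (i : ℕ) {M : Type u} [AddCommGroup M] [Module R M]
    (E : Res I M), E.H i ≃ₗ[R] HH I (ModuleCat.of R M) i
  | 0, _, _, _, E => cmp0 E
  | 1, _, _, _, E => cmp1 E
  | (i + 2), _, _, _, E => (cmp (i + 1) E.tail).trans (shift E i)

lemma cmp_zero {I : Ideal R} {M : Type u} [AddCommGroup M] [Module R M] (E : Res I M) :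
    cmp 0 E = cmp0 E := rfl

lemma cmp_one {I : Ideal R} {M : Type u} [AddCommGroup M] [Module R M] (E : Res I M) :
    cmp 1 E = cmp1 E := rfl

lemma cmp_succ_succ {I : Ideal R} {M : Type u} [AddCommGroup M] [Module R M] (E : Res I M)
    (i : ℕ) (x : E.H (i + 2)) :
    cmp (i + 2) E x = shift E i (cmp (i + 1) E.tail x) := rfl

/-- a chain map between resolutions over a linear map. -/
structure ResHom {I : Ideal R} {M N : Type u} [AddCommGroup M] [Module R M] [AddCommGroup N]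
    [Module R N] (E : Res I M) (F : Res I N) (g : M →ₗ[R] N) where
  φ : ∀ j, E.X j →ₗ[R] F.X j
  comm_ε : ∀ m, φ 0 (E.ε m) = F.ε (g m)
  comm_d : ∀ j x, φ (j + 1) (E.d j x) = F.d j (φ j x)

namespace ResHom

variable {I} {M N : Type u} [AddCommGroup M] [Module R M] [AddCommGroup N] [Module R N]
  {E : Res I M} {F : Res I N} {g : M →ₗ[R] N} (c : ResHom E F g)

lemma map_gam {A B : Type u} [AddCommGroup A] [Module R A] [AddCommGroup B] [Module R B]
    (f : A →ₗ[R] B) {x : A} (hx : x ∈ GrLC.gam I A) : f x ∈ GrLC.gam I B := by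
  obtain ⟨k, hk⟩ := hx
  exact ⟨k, fun r hr => by rw [← map_smul, hk r hr, map_zero]⟩

lemma map_cocyc (i : ℕ) {z : E.X i} (hz : z ∈ E.cocyc i) : c.φ i z ∈ F.cocyc i := by
  refine ⟨map_gam (c.φ i) hz.1, ?_⟩
  have h2 : E.d i z = 0 := hz.2
  change F.d i (c.φ i z) = 0
  rw [← c.comm_d, h2, map_zero]

lemma map_cobdy (i : ℕ) {z : E.X i} (hz : z ∈ E.cobdy i) : c.φ i z ∈ F.cobdy i := by
  cases i with
  | zero =>
    have hz0 : z = 0 := hz
    rw [hz0, map_zero]
    exact Submodule.zero_mem _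
  | succ n =>
    obtain ⟨y, hy, rfl⟩ := hz
    exact ⟨c.φ n y, map_gam (c.φ n) hy, (c.comm_d n y).symm⟩

/-- the induced map on cocycles. -/
def cocycMap (i : ℕ) : ↥(E.cocyc i) →ₗ[R] ↥(F.cocyc i) :=
  (c.φ i).restrict (fun _ hz => c.map_cocyc i hz)

lemma cocycMap_coe (i : ℕ) (z : E.cocyc i) : (c.cocycMap i z : F.X i) = c.φ i z := rfl

/-- the induced map on cohomology. -/
def Hmap (i : ℕ) : E.H i →ₗ[R] F.H i :=
  Submodule.mapQ _ _ (c.cocycMap i) (fun z hz => c.map_cobdy i hz)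

lemma Hmap_toH (i : ℕ) (z : E.cocyc i) : c.Hmap i (E.toH i z) = F.toH i (c.cocycMap i z) := rfl

/-- the induced map on first syzygies. -/
def k1 : E.K1 →ₗ[R] F.K1 :=
  (c.φ 1).restrict (fun x hx => by
    have h2 : E.d 1 x = 0 := hx
    change F.d 1 (c.φ 1 x) = 0
    rw [← c.comm_d, h2, map_zero])

lemma k1_coe (x : E.K1) : (c.k1 x : F.X 1) = c.φ 1 x := rfl

/-- the induced chain map on truncations. -/
def tail : ResHom E.tail F.tail c.k1 where
  φ j := c.φ (j + 1)
  comm_ε _ := rfl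
  comm_d j x := c.comm_d (j + 1) x

lemma Hmap_tail (i : ℕ) (x : E.tail.H (i + 1)) : c.tail.Hmap (i + 1) x = c.Hmap (i + 2) x := rfl

lemma σ_Hmap (i : ℕ) (x : E.tail.H i) : F.σ i (c.tail.Hmap i x) = c.Hmap (i + 1) (E.σ i x) := by
  cases i with
  | zero =>
    obtain ⟨z, rfl⟩ := Submodule.mkQ_surjective _ x
    rfl
  | succ n => rfl

/-- the induced morphism of short exact sequences. -/
def sesHom : E.ses ⟶ F.ses where
  τ₁ := ModuleCat.ofHom g
  τ₂ := ModuleCat.ofHom (c.φ 0)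
  τ₃ := ModuleCat.ofHom c.k1
  comm₁₂ := by
    ext m
    exact (c.comm_ε m).symm
  comm₂₃ := by
    ext x
    exact (c.comm_d 0 x).symm

end ResHom

section naturality

variable {I : Ideal R}

/-- **naturality of the comparison.** -/
theorem cmp_Hmap : ∀ (i : ℕ) {M N : Type u} [AddCommGroup M] [Module R M] [AddCommGroup N]
    [Module R N] {E : Res I M} {F : Res I N} {g : M →ₗ[R] N} (c : ResHom E F g) (x : E.H i),
    cmp i F (c.Hmap i x) = HH.map I (ModuleCat.ofHom g) i (cmp i E x)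
  | 0, M, N, _, _, _, _, E, F, g, c, x => by
    obtain ⟨z, rfl⟩ := Submodule.mkQ_surjective _ x
    apply HH0_injective I (ModuleCat.of R N)
    apply F.ε_injective
    rw [cmp_zero, cmp_zero, c.Hmap_toH]
    erw [ε_HH0_cmp0 F (c.cocycMap 0 z), HH0_map]
    change _ = F.ε (g (HH0 I (ModuleCat.of R M) (cmp0 E (E.toH 0 z))))
    rw [← c.comm_ε, ε_HH0_cmp0]
    rfl
  | 1, M, N, _, _, _, _, E, F, g, c, x => by
    obtain ⟨z, rfl⟩ := Submodule.mkQ_surjective _ x
    rw [cmp_one, cmp_one, c.Hmap_toH]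
    erw [cmp1_toH F, cmp1_toH E]
    change HH.δ I F.ses_shortExact 0 ((HH0gam I F.K1).symm (cocycToGam I F.X F.d 1 (c.cocycMap 1 z))) =
      HH.map I (ModuleCat.ofHom g) 1
        (HH.δ I E.ses_shortExact 0 ((HH0gam I E.K1).symm (cocycToGam I E.X E.d 1 z)))
    have hnat := LCDeltaHH.δ_naturality I E.ses_shortExact F.ses_shortExact c.sesHom 0
      ((HH0gam I E.K1).symm (cocycToGam I E.X E.d 1 z))
    erw [← hnat]
    congr 1
    apply HH0_injective I (ModuleCat.of R F.K1)
    erw [HH0_HH0gam_symm, HH0_map, HH0_HH0gam_symm]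
    rfl
  | (i + 2), M, N, _, _, _, _, E, F, g, c, x => by
    rw [cmp_succ_succ, cmp_succ_succ, ← c.Hmap_tail, cmp_Hmap (i + 1) c.tail x, shift_apply,
      shift_apply]
    exact LCDeltaHH.δ_naturality I E.ses_shortExact F.ses_shortExact c.sesHom (i + 1) _

/-- **compatibility of the comparison with the connecting map of `0 → M → X 0 → K1 → 0`.** -/
theorem cmp_σ {M : Type u} [AddCommGroup M] [Module R M] (E : Res I M) (i : ℕ)
    (x : E.tail.H i) :
    cmp (i + 1) E (E.σ i x) = HH.δ I E.ses_shortExact i (cmp i E.tail x) := by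
  cases i with
  | zero =>
    obtain ⟨z, rfl⟩ := Submodule.mkQ_surjective _ x
    rw [cmp_one, cmp_zero]
    change cmp1 E (E.toH 1 z) = _
    rw [cmp1_toH]
    change HH.δ I E.ses_shortExact 0 ((HH0gam I E.K1).symm (cocycToGam I E.X E.d 1 z)) = _
    congr 1
    apply HH0_injective I (ModuleCat.of R E.K1)
    rw [HH0_HH0gam_symm]
    apply Subtype.ext
    exact (ε_HH0_cmp0 E.tail z).symm
  | succ n => rfl

end naturality

end Groth.Agent.Lib.Helper20.ResCmp
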