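import Mathlib
import Groth.Prelude.Def_GrLC
import Groth.Agent.Lib.Helper20.GrLCBasic
import Groth.Agent.Lib.Helper20.GrLCQuot
import Groth.Agent.Lib.Helper20.GrLCExt
import Groth.Agent.Lib.Helper20.GrLCCompare
import Groth.Agent.Lib.Helper20.ResCmp

/-!
# Homogeneous chain lifts between *injective resolutions
-/

set_option autoImplicit false
set_option linter.unusedSectionVars false
set_option linter.unusedVariables false

universe u

open GrLC Groth.Agent.Lib.Helper20.GrLCBasic Groth.Agent.Lib.Helper20.GrLCQuot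
  Groth.Agent.Lib.Helper20.GrLCExt Groth.Agent.Lib.Helper20.ResCmp

namespace Groth.Agent.Lib.Helper20.GrRes

variable {ι : Type} [AddCommGroup ι] [DecidableEq ι] {R : Type u} [CommRing R]
  (𝒜 : ι → AddSubgroup R) [GradedRing 𝒜]

/-- extension of homogeneous maps of degree `k` into a *injective module. -/
theorem ext_deg {J : Type u} [AddCommGroup J] [Module R J] (𝒥 : ι → AddSubgroup J)
    [DirectSum.Decomposition 𝒥] [SetLike.GradedSMul 𝒜 𝒥] (hJ : IsStarInj 𝒜 𝒥)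
    (A B : GMod.{u} 𝒜) (f : A.carrier →ₗ[R] B.carrier) (hf : IsGrHom A.gr B.gr f)
    (hinj : Function.Injective f) (k : ι) (g : A.carrier →ₗ[R] J) (hg : IsGrHomDeg A.gr 𝒥 g k) :
    ∃ h : B.carrier →ₗ[R] J, IsGrHomDeg B.gr 𝒥 h k ∧ h ∘ₗ f = g :=
  isStarInj_shift 𝒜 𝒥 hJ k A B f hf hinj g hg

/-- a complex of *injective graded modules. -/
structure Cx where
  X : ℕ → GMod.{u} 𝒜
  d : ∀ n, (X n).carrier →ₗ[R] (X (n + 1)).carrier
  d_grHom : ∀ n, IsGrHom (X n).gr (X (n + 1)).gr (d n)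
  d_comp_d : ∀ n x, d (n + 1) (d n x) = 0
  starInj : ∀ n, IsStarInj 𝒜 (X n).gr

/-- the truncation. -/
def Cx.tail (C : Cx 𝒜) : Cx 𝒜 where
  X n := C.X (n + 1)
  d n := C.d (n + 1)
  d_grHom n := C.d_grHom (n + 1)
  d_comp_d n x := C.d_comp_d (n + 1) x
  starInj n := C.starInj (n + 1)

variable {𝒜}
variable {M : Type u} [AddCommGroup M] [Module R M] {ℳ : ι → AddSubgroup M}
  [DirectSum.Decomposition ℳ] [SetLike.GradedSMul 𝒜 ℳ]

lemma d_comp_d (E : StarInjRes 𝒜 ℳ) (n : ℕ) (x : (E.X n).carrier) : E.d (n + 1) (E.d n x) = 0 := by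
  have : E.d n x ∈ LinearMap.ker (E.d (n + 1)) := by
    rw [E.exact_succ n]
    exact LinearMap.mem_range_self _ x
  exact this

/-- the underlying complex of a resolution. -/
def toCx (E : StarInjRes 𝒜 ℳ) : Cx 𝒜 where
  X := E.X
  d := E.d
  d_grHom := E.d_grHom
  d_comp_d := d_comp_d E
  starInj := E.starInj

/-- a homogeneous chain lift of degree `k`. -/
structure Lift (E : StarInjRes 𝒜 ℳ) (C : Cx 𝒜) (g : M →ₗ[R] (C.X 0).carrier) (k : ι) where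
  φ : ∀ j, (E.X j).carrier →ₗ[R] (C.X j).carrier
  deg : ∀ j, IsGrHomDeg (E.X j).gr (C.X j).gr (φ j) k
  comm_ε : ∀ m, φ 0 (E.ε m) = g m
  comm_d : ∀ j x, φ (j + 1) (E.d j x) = C.d j (φ j x)

section exists_lift

variable (E : StarInjRes 𝒜 ℳ) (C : Cx 𝒜) (g : M →ₗ[R] (C.X 0).carrier) (k : ι)

/-- the invariant of the inductive construction. -/
def Good (j : ℕ) (φ : (E.X j).carrier →ₗ[R] (C.X j).carrier) : Prop :=
  IsGrHomDeg (E.X j).gr (C.X j).gr φ k ∧ ∀ x, E.d j x = 0 → C.d j (φ x) = 0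

lemma exists_zero (hg : IsGrHomDeg ℳ (C.X 0).gr g k) (hdg : ∀ m, C.d 0 (g m) = 0) :
    ∃ φ : (E.X 0).carrier →ₗ[R] (C.X 0).carrier, Good E C k 0 φ ∧ ∀ m, φ (E.ε m) = g m := by
  obtain ⟨φ, hφ, hcomp⟩ := ext_deg 𝒜 (C.X 0).gr (C.starInj 0) (GMod.of 𝒜 M ℳ) (E.X 0) E.ε
    E.ε_grHom E.ε_injective k g hg
  have hc : ∀ m, φ (E.ε m) = g m := fun m => LinearMap.congr_fun hcomp m
  refine ⟨φ, ⟨hφ, fun x hx => ?_⟩, hc⟩
  have hx' : x ∈ LinearMap.ker (E.d 0) := hx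
  rw [E.exact_zero] at hx'
  obtain ⟨m, rfl⟩ := hx'
  rw [hc, hdg]

lemma exists_step (j : ℕ) (φ : (E.X j).carrier →ₗ[R] (C.X j).carrier) (h : Good E C k j φ) :
    ∃ φ' : (E.X (j + 1)).carrier →ₗ[R] (C.X (j + 1)).carrier,
      Good E C k (j + 1) φ' ∧ ∀ x, φ' (E.d j x) = C.d j (φ x) := by
  have hker : (LinearMap.ker (E.d j)).IsHomogeneous (E.X j).gr :=
    ker_isHomogeneous (E.X j).gr (E.X (j + 1)).gr (E.d j) (E.d_grHom j)
  let A : GMod.{u} 𝒜 := quotGMod (E.X j) (LinearMap.ker (E.d j)) hker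
  let fbar : A.carrier →ₗ[R] (E.X (j + 1)).carrier :=
    (LinearMap.ker (E.d j)).liftQ (E.d j) le_rfl
  have hfbar : IsGrHom A.gr (E.X (j + 1)).gr fbar := by
    rintro n _ ⟨x, hx, rfl⟩
    exact E.d_grHom j n x hx
  have hfinj : Function.Injective fbar := by
    rw [← LinearMap.ker_eq_bot]
    exact Submodule.ker_liftQ_eq_bot _ _ _ le_rfl
  let gbar : A.carrier →ₗ[R] (C.X (j + 1)).carrier :=
    (LinearMap.ker (E.d j)).liftQ (C.d j ∘ₗ φ) (fun x hx => h.2 x hx)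
  have hgbar : IsGrHomDeg A.gr (C.X (j + 1)).gr gbar k := by
    rintro n _ ⟨x, hx, rfl⟩
    exact C.d_grHom j (n + k) _ (h.1 n x hx)
  obtain ⟨φ', hφ', hcomp⟩ := ext_deg 𝒜 (C.X (j + 1)).gr (C.starInj (j + 1)) A (E.X (j + 1)) fbar
    hfbar hfinj k gbar hgbar
  have hc : ∀ x, φ' (E.d j x) = C.d j (φ x) := by
    intro x
    have := LinearMap.congr_fun hcomp ((LinearMap.ker (E.d j)).mkQ x)
    exact this
  refine ⟨φ', ⟨hφ', fun y hy => ?_⟩, hc⟩
  have hy' : y ∈ LinearMap.ker (E.d (j + 1)) := hy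
  rw [E.exact_succ j] at hy'
  obtain ⟨x, rfl⟩ := hy'
  rw [hc, C.d_comp_d]

/-- the sequence of maps. -/
noncomputable def seq (φ0 : (E.X 0).carrier →ₗ[R] (C.X 0).carrier) (h0 : Good E C k 0 φ0) :
    ∀ j, {φ : (E.X j).carrier →ₗ[R] (C.X j).carrier // Good E C k j φ}
  | 0 => ⟨φ0, h0⟩
  | j + 1 => ⟨Classical.choose (exists_step E C k j (seq φ0 h0 j).1 (seq φ0 h0 j).2),
      (Classical.choose_spec (exists_step E C k j (seq φ0 h0 j).1 (seq φ0 h0 j).2)).1⟩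

lemma seq_succ (φ0 : (E.X 0).carrier →ₗ[R] (C.X 0).carrier) (h0 : Good E C k 0 φ0) (j : ℕ)
    (x : (E.X j).carrier) :
    (seq E C k φ0 h0 (j + 1)).1 (E.d j x) = C.d j ((seq E C k φ0 h0 j).1 x) :=
  (Classical.choose_spec (exists_step E C k j (seq E C k φ0 h0 j).1 (seq E C k φ0 h0 j).2)).2 x

/-- **existence of homogeneous chain lifts.** -/
theorem exists_lift (hg : IsGrHomDeg ℳ (C.X 0).gr g k) (hdg : ∀ m, C.d 0 (g m) = 0) :
    Nonempty (Lift E C g k) := by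
  obtain ⟨φ0, h0, hc0⟩ := exists_zero E C g k hg hdg
  exact ⟨{ φ := fun j => (seq E C k φ0 h0 j).1
           deg := fun j => (seq E C k φ0 h0 j).2.1
           comm_ε := hc0
           comm_d := fun j x => seq_succ E C k φ0 h0 j x }⟩

end exists_lift

section toRes

variable [IsNoetherianRing R]

/-- the underlying ungraded acyclic resolution. -/
def toRes (E : StarInjRes 𝒜 ℳ) (a : HomogeneousIdeal 𝒜) : Res a.toIdeal M where
  X n := (E.X n).carrier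
  d := E.d
  ε := E.ε
  ε_injective := E.ε_injective
  exact_zero := E.exact_zero
  exact_succ := E.exact_succ
  acyclic n k := GrLCCompare.subsingleton_HH_of_isStarInj 𝒜 (E.X n).gr (E.starInj n) a k

/-- the identification of the cohomology modules. -/
def hEquiv (E : StarInjRes 𝒜 ℳ) (a : HomogeneousIdeal 𝒜) (i : ℕ) :
    E.H a i ≃ₗ[R] (toRes E a).H i := LinearEquiv.refl R _

lemma hEquiv_toH (E : StarInjRes 𝒜 ℳ) (a : HomogeneousIdeal 𝒜) (i : ℕ) (z : E.cocyc a i) :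
    hEquiv E a i (E.toH a i z) = (toRes E a).toH i z := rfl

variable {N : Type u} [AddCommGroup N] [Module R N] {𝒩 : ι → AddSubgroup N}
  [DirectSum.Decomposition 𝒩] [SetLike.GradedSMul 𝒜 𝒩]

/-- a lift into another resolution, as a chain map of ungraded resolutions. -/
def Lift.toResHom {E : StarInjRes 𝒜 ℳ} {F : StarInjRes 𝒜 𝒩} {g : M →ₗ[R] N} {k : ι}
    (l : Lift E (toCx F) (F.ε ∘ₗ g) k) (a : HomogeneousIdeal 𝒜) :
    ResHom (toRes E a) (toRes F a) g where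
  φ := l.φ
  comm_ε := l.comm_ε
  comm_d := l.comm_d

/-- a lift into the truncation of another resolution, as a chain map of ungraded resolutions. -/
def Lift.toResHomTail {E : StarInjRes 𝒜 ℳ} {F : StarInjRes 𝒜 𝒩} {k : ι}
    {h : M →ₗ[R] LinearMap.ker (F.d 1)}
    (l : Lift E (toCx F).tail ((LinearMap.ker (F.d 1)).subtype ∘ₗ h) k) (a : HomogeneousIdeal 𝒜) :
    ResHom (toRes E a) (toRes F a).tail h where
  φ := l.φ
  comm_ε := l.comm_ε
  comm_d := l.comm_d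

/-- the induced map on graded local cohomology. -/
def Lift.Hmap {E : StarInjRes 𝒜 ℳ} {F : StarInjRes 𝒜 𝒩} {g : M →ₗ[R] N} {k : ι}
    (l : Lift E (toCx F) (F.ε ∘ₗ g) k) (a : HomogeneousIdeal 𝒜) (i : ℕ) : E.H a i →ₗ[R] F.H a i :=
  (hEquiv F a i).symm.toLinearMap ∘ₗ (l.toResHom a).Hmap i ∘ₗ (hEquiv E a i).toLinearMap

lemma Lift.Hmap_mem {E : StarInjRes 𝒜 ℳ} {F : StarInjRes 𝒜 𝒩} {g : M →ₗ[R] N} {k : ι}
    (l : Lift E (toCx F) (F.ε ∘ₗ g) k) (a : HomogeneousIdeal 𝒜) (i : ℕ) (n : ι) (x : E.H a i)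
    (hx : x ∈ E.Hcomp a i n) : l.Hmap a i x ∈ F.Hcomp a i (n + k) := by
  obtain ⟨z, hz, rfl⟩ := hx
  exact ⟨(l.toResHom a).cocycMap i z, l.deg i n _ hz, rfl⟩

/-- the induced connecting-type map `H^i(E) → H^{i+1}(F)` of a lift into the truncation. -/
def Lift.HmapTail {E : StarInjRes 𝒜 ℳ} {F : StarInjRes 𝒜 𝒩} {k : ι}
    {h : M →ₗ[R] LinearMap.ker (F.d 1)}
    (l : Lift E (toCx F).tail ((LinearMap.ker (F.d 1)).subtype ∘ₗ h) k) (a : HomogeneousIdeal 𝒜)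
    (i : ℕ) : E.H a i →ₗ[R] F.H a (i + 1) :=
  (hEquiv F a (i + 1)).symm.toLinearMap ∘ₗ (toRes F a).σ i ∘ₗ (l.toResHomTail a).Hmap i ∘ₗ
    (hEquiv E a i).toLinearMap

lemma Lift.HmapTail_mem {E : StarInjRes 𝒜 ℳ} {F : StarInjRes 𝒜 𝒩} {k : ι}
    {h : M →ₗ[R] LinearMap.ker (F.d 1)}
    (l : Lift E (toCx F).tail ((LinearMap.ker (F.d 1)).subtype ∘ₗ h) k) (a : HomogeneousIdeal 𝒜)
    (i : ℕ) (n : ι) (x : E.H a i) (hx : x ∈ E.Hcomp a i n) :
    l.HmapTail a i x ∈ F.Hcomp a (i + 1) (n + k) := by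
  obtain ⟨z, hz, rfl⟩ := hx
  cases i with
  | zero => exact ⟨(l.toResHomTail a).cocycMap 0 z, l.deg 0 n _ hz, rfl⟩
  | succ j => exact ⟨(l.toResHomTail a).cocycMap (j + 1) z, l.deg (j + 1) n _ hz, rfl⟩

end toRes

end Groth.Agent.Lib.Helper20.GrRes
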