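import Mathlib
import Groth.Prelude.Def_GrLC
import Groth.Agent.Lib.Helper20.GrRes

/-!
# The long exact sequence of graded local cohomology, with homogeneous maps
-/

set_option autoImplicit false
set_option linter.unusedSectionVars false
set_option linter.unusedVariables false

universe u

open CategoryTheory GrLC Groth.Agent.Lib.Helper4.LC Groth.Agent.Lib.Helper20.GrLCBasic
  Groth.Agent.Lib.Helper20.GrLCQuot Groth.Agent.Lib.Helper20.GrLCExt
  Groth.Agent.Lib.Helper20.ResCmp Groth.Agent.Lib.Helper20.GrRes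
  Groth.Agent.Lib.Helper20.LCAcyclic

namespace Groth.Agent.Lib.Helper20.GrLES

variable {ι : Type} [AddCommGroup ι] [DecidableEq ι] {R : Type u} [CommRing R] [IsNoetherianRing R]
  {𝒜 : ι → AddSubgroup R} [GradedRing 𝒜]

section cmpE

variable {M : Type u} [AddCommGroup M] [Module R M] {ℳ : ι → AddSubgroup M}
  [DirectSum.Decomposition ℳ] [SetLike.GradedSMul 𝒜 ℳ]
  {N : Type u} [AddCommGroup N] [Module R N] {𝒩 : ι → AddSubgroup N}
  [DirectSum.Decomposition 𝒩] [SetLike.GradedSMul 𝒜 𝒩]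

/-- the canonical comparison of graded local cohomology with the `HH` model. -/
noncomputable def cmpE (E : StarInjRes 𝒜 ℳ) (a : HomogeneousIdeal 𝒜) (i : ℕ) :
    E.H a i ≃ₗ[R] HH a.toIdeal (ModuleCat.of R M) i :=
  (hEquiv E a i).trans (cmp i (toRes E a))

theorem cmpE_Hmap {E : StarInjRes 𝒜 ℳ} {F : StarInjRes 𝒜 𝒩} {g : M →ₗ[R] N} {k : ι}
    (l : Lift E (toCx F) (F.ε ∘ₗ g) k) (a : HomogeneousIdeal 𝒜) (i : ℕ) (x : E.H a i) :
    cmpE F a i (l.Hmap a i x) = HH.map a.toIdeal (ModuleCat.ofHom g) i (cmpE E a i x) :=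
  cmp_Hmap i (l.toResHom a) (hEquiv E a i x)

theorem cmpE_HmapTail {E : StarInjRes 𝒜 ℳ} {F : StarInjRes 𝒜 𝒩} {k : ι}
    {h : M →ₗ[R] LinearMap.ker (F.d 1)}
    (l : Lift E (toCx F).tail ((LinearMap.ker (F.d 1)).subtype ∘ₗ h) k) (a : HomogeneousIdeal 𝒜)
    (i : ℕ) (x : E.H a i) :
    cmpE F a (i + 1) (l.HmapTail a i x) =
      HH.δ a.toIdeal (toRes F a).ses_shortExact i
        (HH.map a.toIdeal (ModuleCat.ofHom h) i (cmpE E a i x)) := by
  have h1 := cmp_σ (toRes F a) i ((l.toResHomTail a).Hmap i (hEquiv E a i x))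
  have h2 := cmp_Hmap i (l.toResHomTail a) (hEquiv E a i x)
  rw [h2] at h1
  exact h1

/-- any two lifts induce the same map. -/
theorem Hmap_unique {E : StarInjRes 𝒜 ℳ} {F : StarInjRes 𝒜 𝒩} {g : M →ₗ[R] N} {k k' : ι}
    (l : Lift E (toCx F) (F.ε ∘ₗ g) k) (l' : Lift E (toCx F) (F.ε ∘ₗ g) k')
    (a : HomogeneousIdeal 𝒜) (i : ℕ) (x : E.H a i) : l.Hmap a i x = l'.Hmap a i x := by
  apply (cmpE F a i).injective
  rw [cmpE_Hmap, cmpE_Hmap]

end cmpE

section surj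

variable {M : Type u} [AddCommGroup M] [Module R M] (ℳ : ι → AddSubgroup M)
  [DirectSum.Decomposition ℳ]
  {N : Type u} [AddCommGroup N] [Module R N] (𝒩 : ι → AddSubgroup N)
  [DirectSum.Decomposition 𝒩]

omit [IsNoetherianRing R] in
/-- a homogeneous map of degree `k` commutes with components. -/
lemma decompose_map_deg (g : M →ₗ[R] N) (k : ι) (hg : IsGrHomDeg ℳ 𝒩 g k) (x : M) (j : ι) :
    ((DirectSum.decompose 𝒩 (g x) (j + k) : 𝒩 (j + k)) : N) =
      g (DirectSum.decompose ℳ x j : ℳ j) := by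
  have h := decompose_map ℳ (shiftGr 𝒩 k) g hg x j
  rw [decompose_shift] at h
  exact h

omit [IsNoetherianRing R] in
/-- a surjective homogeneous map of degree `k` is surjective on pieces. -/
lemma exists_homogeneous_preimage (g : M →ₗ[R] N) (k : ι) (hg : IsGrHomDeg ℳ 𝒩 g k)
    (hsurj : Function.Surjective g) (j : ι) (y : N) (hy : y ∈ 𝒩 (j + k)) :
    ∃ x ∈ ℳ j, g x = y := by
  obtain ⟨x₀, rfl⟩ := hsurj y
  refine ⟨(DirectSum.decompose ℳ x₀ j : ℳ j), SetLike.coe_mem _, ?_⟩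
  rw [← decompose_map_deg ℳ 𝒩 g k hg x₀ j, DirectSum.decompose_of_mem_same 𝒩 hy]

end surj

section les

variable {M' : Type u} [AddCommGroup M'] [Module R M'] {ℳ' : ι → AddSubgroup M'}
  [DirectSum.Decomposition ℳ'] [SetLike.GradedSMul 𝒜 ℳ']
  {M : Type u} [AddCommGroup M] [Module R M] {ℳ : ι → AddSubgroup M}
  [DirectSum.Decomposition ℳ] [SetLike.GradedSMul 𝒜 ℳ]
  {M'' : Type u} [AddCommGroup M''] [Module R M''] {ℳ'' : ι → AddSubgroup M''}
  [DirectSum.Decomposition ℳ''] [SetLike.GradedSMul 𝒜 ℳ'']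
  (f : M' →ₗ[R] M) (g : M →ₗ[R] M'') (kf kg : ι)
  (hf : IsGrHomDeg ℳ' ℳ f kf) (hg : IsGrHomDeg ℳ ℳ'' g kg)
  (hinj : Function.Injective f) (hsurj : Function.Surjective g) (hex : Function.Exact f g)
  (E' : StarInjRes 𝒜 ℳ') (E : StarInjRes 𝒜 ℳ) (E'' : StarInjRes 𝒜 ℳ'')

include hf in
omit [IsNoetherianRing R] in
/-- the lift of `f` exists. -/
lemma nonempty_lift : Nonempty (Lift E' (toCx E) (E.ε ∘ₗ f) kf) := by
  apply exists_lift
  · intro n m hm
    exact E.ε_grHom _ _ (hf n m hm)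
  · intro m
    have : E.ε (f m) ∈ LinearMap.ker (E.d 0) := by
      rw [E.exact_zero]
      exact LinearMap.mem_range_self _ _
    exact this

include hf hinj in
omit [IsNoetherianRing R] in
/-- extension of the augmentation of `E'` to `M`. -/
lemma exists_ψ : ∃ ψ : M →ₗ[R] (E'.X 0).carrier,
    IsGrHomDeg ℳ (E'.X 0).gr ψ (-kf) ∧ ∀ m', ψ (f m') = E'.ε m' := by
  obtain ⟨ψ, hψ, hcomp⟩ := ext_deg 𝒜 (E'.X 0).gr (E'.starInj 0)
    (shiftGMod 𝒜 (GMod.of 𝒜 M' ℳ') (-kf)) (GMod.of 𝒜 M ℳ) f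
    (fun n m hm => by
      have h1 := hf (n + -kf) m hm
      rwa [neg_add_cancel_right] at h1) hinj (-kf) E'.ε
    (fun n m hm => E'.ε_grHom (n + -kf) m hm)
  exact ⟨ψ, hψ, fun m' => LinearMap.congr_fun hcomp m'⟩

variable (a : HomogeneousIdeal 𝒜)

omit [IsNoetherianRing R] in
/-- the map `M'' → E'^1` induced by an extension `ψ`. -/
noncomputable def hMap₀ (ψ : M →ₗ[R] (E'.X 0).carrier) (hψ : ∀ m', ψ (f m') = E'.ε m') :
    M'' →ₗ[R] (E'.X 1).carrier :=
  ((LinearMap.ker g).liftQ (E'.d 0 ∘ₗ ψ) (fun m hm => by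
    obtain ⟨m', rfl⟩ := (hex m).1 hm
    rw [LinearMap.mem_ker, LinearMap.comp_apply, hψ]
    have : E'.ε m' ∈ LinearMap.ker (E'.d 0) := by
      rw [E'.exact_zero]
      exact LinearMap.mem_range_self _ _
    exact this)) ∘ₗ
    (LinearMap.quotKerEquivOfSurjective g hsurj).symm.toLinearMap

omit [IsNoetherianRing R] in
lemma hMap₀_apply (ψ : M →ₗ[R] (E'.X 0).carrier) (hψ : ∀ m', ψ (f m') = E'.ε m') (m : M) :
    hMap₀ f g hsurj hex E' ψ hψ (g m) = E'.d 0 (ψ m) := by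
  have h1 : (LinearMap.quotKerEquivOfSurjective g hsurj).symm (g m) =
      (LinearMap.ker g).mkQ m := by
    rw [LinearEquiv.symm_apply_eq]
    rfl
  simp only [hMap₀, LinearMap.comp_apply, LinearEquiv.coe_coe]
  rw [h1]
  rfl

omit [IsNoetherianRing R] in
/-- the map `M'' → K1(E')` induced by an extension `ψ`. -/
noncomputable def hMap (ψ : M →ₗ[R] (E'.X 0).carrier) (hψ : ∀ m', ψ (f m') = E'.ε m') :
    M'' →ₗ[R] LinearMap.ker (E'.d 1) :=
  (hMap₀ f g hsurj hex E' ψ hψ).codRestrict (LinearMap.ker (E'.d 1)) (fun y => by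
    obtain ⟨m, rfl⟩ := hsurj y
    rw [hMap₀_apply]
    exact d_comp_d E' 0 (ψ m))

omit [IsNoetherianRing R] in
lemma hMap_apply (ψ : M →ₗ[R] (E'.X 0).carrier) (hψ : ∀ m', ψ (f m') = E'.ε m') (m : M) :
    ((hMap f g hsurj hex E' ψ hψ (g m) : LinearMap.ker (E'.d 1)) : (E'.X 1).carrier) =
      E'.d 0 (ψ m) :=
  hMap₀_apply f g hsurj hex E' ψ hψ m

/-- the morphism of short exact sequences. -/
noncomputable def sesHom (ψ : M →ₗ[R] (E'.X 0).carrier) (hψ : ∀ m', ψ (f m') = E'.ε m') :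
    sc f g hex ⟶ (toRes E' a).ses where
  τ₁ := 𝟙 _
  τ₂ := ModuleCat.ofHom ψ
  τ₃ := ModuleCat.ofHom (hMap f g hsurj hex E' ψ hψ)
  comm₁₂ := by
    ext m'
    exact (hψ m').symm
  comm₂₃ := by
    ext m
    exact (hMap_apply f g hsurj hex E' ψ hψ m).symm

include hg in
omit [IsNoetherianRing R] in
lemma hMap_deg (ψ : M →ₗ[R] (E'.X 0).carrier) (hψ : ∀ m', ψ (f m') = E'.ε m')
    (hψd : IsGrHomDeg ℳ (E'.X 0).gr ψ (-kf)) :
    IsGrHomDeg ℳ'' (E'.X 1).gr
      ((LinearMap.ker (E'.d 1)).subtype ∘ₗ hMap f g hsurj hex E' ψ hψ) (-kg + -kf) := by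
  intro n y hy
  have hy' : y ∈ ℳ'' (n + -kg + kg) := by rwa [neg_add_cancel_right]
  obtain ⟨m, hm, rfl⟩ := exists_homogeneous_preimage ℳ ℳ'' g kg hg hsurj (n + -kg) y hy'
  rw [LinearMap.comp_apply, Submodule.subtype_apply, hMap_apply, ← add_assoc]
  exact E'.d_grHom 0 _ _ (hψd _ m hm)

include hf hg hinj hsurj hex in
/-- **The long exact sequence of graded local cohomology**, with homogeneous connecting maps,
for arbitrary *injective resolutions of the three modules. -/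
theorem exists_grLES (lf : Lift E' (toCx E) (E.ε ∘ₗ f) kf)
    (lg : Lift E (toCx E'') (E''.ε ∘ₗ g) kg) :
    ∃ D : ∀ i, E''.H a i →ₗ[R] E'.H a (i + 1),
      (∀ i n x, x ∈ E''.Hcomp a i n → D i x ∈ E'.Hcomp a (i + 1) (n + (-kg + -kf))) ∧
      Function.Injective (lf.Hmap a 0) ∧
      (∀ i x, lg.Hmap a i (lf.Hmap a i x) = 0) ∧
      (∀ i y, lg.Hmap a i y = 0 → ∃ x, lf.Hmap a i x = y) ∧
      (∀ i y, D i (lg.Hmap a i y) = 0) ∧
      (∀ i z, D i z = 0 → ∃ y, lg.Hmap a i y = z) ∧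
      (∀ i z, lf.Hmap a (i + 1) (D i z) = 0) ∧
      (∀ i x, lf.Hmap a (i + 1) x = 0 → ∃ z, D i z = x) := by
  obtain ⟨ψ, hψd, hψ⟩ := exists_ψ f kf hf hinj E'
  obtain ⟨lh⟩ := exists_lift E'' (toCx E').tail
    ((LinearMap.ker (E'.d 1)).subtype ∘ₗ hMap f g hsurj hex E' ψ hψ) (-kg + -kf)
    (hMap_deg f g kf kg hg hsurj hex E' ψ hψ hψd)
    (fun m => (hMap f g hsurj hex E' ψ hψ m).2)
  have hS := sc_shortExact f g hex hinj hsurj
  have keyD : ∀ i z, cmpE E' a (i + 1) (lh.HmapTail a i z) =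
      HH.δ a.toIdeal hS i (cmpE E'' a i z) := by
    intro i z
    rw [cmpE_HmapTail]
    have h1 := LCDeltaHH.δ_naturality a.toIdeal hS (toRes E' a).ses_shortExact
      (sesHom f g hsurj hex E' a ψ hψ) i (cmpE E'' a i z)
    exact h1.trans (HH.map_id a.toIdeal (i + 1) _)
  have keyF : ∀ i x, cmpE E a i (lf.Hmap a i x) =
      HH.map a.toIdeal (sc f g hex).f i (cmpE E' a i x) := fun i x => cmpE_Hmap lf a i x
  have keyG : ∀ i y, cmpE E'' a i (lg.Hmap a i y) =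
      HH.map a.toIdeal (sc f g hex).g i (cmpE E a i y) := fun i y => cmpE_Hmap lg a i y
  refine ⟨fun i => lh.HmapTail a i, fun i n x hx => lh.HmapTail_mem a i n x hx, ?_, ?_, ?_, ?_, ?_,
    ?_, ?_⟩
  · intro x y hxy
    apply (cmpE E' a 0).injective
    apply HH.map_f_injective_zero a.toIdeal hS
    rw [← keyF, ← keyF, hxy]
  · intro i x
    apply (cmpE E'' a i).injective
    rw [keyG, keyF, map_zero]
    exact HH.map_g_map_f a.toIdeal i _
  · intro i y hy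
    have h1 : HH.map a.toIdeal (sc f g hex).g i (cmpE E a i y) = 0 := by
      rw [← keyG, hy, map_zero]
    obtain ⟨w, hw⟩ := HH.exact₂ a.toIdeal hS i _ h1
    refine ⟨(cmpE E' a i).symm w, ?_⟩
    apply (cmpE E a i).injective
    rw [keyF, LinearEquiv.apply_symm_apply, hw]
  · intro i y
    apply (cmpE E' a (i + 1)).injective
    rw [keyD, keyG, map_zero]
    exact HH.δ_map_g a.toIdeal hS i _
  · intro i z hz
    have h1 : HH.δ a.toIdeal hS i (cmpE E'' a i z) = 0 := by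
      rw [← keyD, hz, map_zero]
    obtain ⟨w, hw⟩ := HH.exact₃ a.toIdeal hS i _ h1
    refine ⟨(cmpE E a i).symm w, ?_⟩
    apply (cmpE E'' a i).injective
    rw [keyG, LinearEquiv.apply_symm_apply, hw]
  · intro i z
    apply (cmpE E a (i + 1)).injective
    rw [keyF, keyD, map_zero]
    exact HH.map_f_δ a.toIdeal hS i _
  · intro i x hx
    have h1 : HH.map a.toIdeal (sc f g hex).f (i + 1) (cmpE E' a (i + 1) x) = 0 := by
      rw [← keyF, hx, map_zero]
    obtain ⟨w, hw⟩ := HH.exact₁ a.toIdeal hS i _ h1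
    refine ⟨(cmpE E'' a i).symm w, ?_⟩
    apply (cmpE E' a (i + 1)).injective
    rw [keyD, LinearEquiv.apply_symm_apply, hw]

end les

end Groth.Agent.Lib.Helper20.GrLES
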