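import Mathlib
import Groth.Prelude.Def_GrLC
import Groth.Agent.Lib.Helper20.GrRes
import Groth.Agent.Lib.Helper20.GrLES

/-!
# Coarsening of gradings along a group homomorphism
-/

set_option autoImplicit false
set_option linter.unusedSectionVars false
set_option linter.unusedVariables false

universe u

open GrLC Groth.Agent.Lib.Helper20.GrLCBasic Groth.Agent.Lib.Helper20.GrLCQuot
  Groth.Agent.Lib.Helper20.GrLCExt Groth.Agent.Lib.Helper20.ResCmp

namespace Groth.Agent.Lib.Helper20.GrCoarse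

variable {ι κ : Type} [AddCommGroup ι] [DecidableEq ι] [AddCommGroup κ] [DecidableEq κ]
  (φ : ι →+ κ)

section co

variable {M : Type u} [AddCommGroup M] (ℳ : ι → AddSubgroup M)

/-- the coarsened family. -/
def co : κ → AddSubgroup M := fun h => ⨆ g ∈ φ ⁻¹' {h}, ℳ g

lemma le_co (g : ι) : ℳ g ≤ co φ ℳ (φ g) :=
  le_iSup₂_of_le (f := fun g' (_ : g' ∈ φ ⁻¹' {φ g}) => ℳ g') g rfl le_rfl

lemma le_co' {g : ι} {h : κ} (hg : φ g = h) : ℳ g ≤ co φ ℳ h := by
  subst hg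
  exact le_co φ ℳ g

lemma co_induction {h : κ} {p : M → Prop} {x : M} (hx : x ∈ co φ ℳ h)
    (hp : ∀ g, φ g = h → ∀ y ∈ ℳ g, p y) (h0 : p 0) (hadd : ∀ y z, p y → p z → p (y + z)) :
    p x := by
  refine AddSubgroup.iSup_induction (C := p) _ hx (fun g y hy => ?_) h0 hadd
  refine AddSubgroup.iSup_induction (C := p) _ hy (fun hg z hz => ?_) h0 hadd
  exact hp g hg z hz

variable [DirectSum.Decomposition ℳ]

/-- the decomposition map of the coarsened family. -/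
noncomputable def coDecompose : M →+ DirectSum κ (fun h => co φ ℳ h) :=
  (DirectSum.toAddMonoid fun g =>
    (DirectSum.of (fun h => co φ ℳ h) (φ g)).comp (AddSubgroup.inclusion (le_co φ ℳ g))).comp
    (DirectSum.decomposeAddEquiv ℳ).toAddMonoidHom

lemma coDecompose_of_mem {g : ι} {x : M} (hx : x ∈ ℳ g) :
    coDecompose φ ℳ x = DirectSum.of (fun h => co φ ℳ h) (φ g) ⟨x, le_co φ ℳ g hx⟩ := by
  unfold coDecompose
  simp only [AddMonoidHom.coe_comp, Function.comp_apply, AddEquiv.toAddMonoidHom_eq_coe,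
    AddMonoidHom.coe_coe, DirectSum.decomposeAddEquiv_apply]
  rw [DirectSum.decompose_of_mem ℳ hx, DirectSum.toAddMonoid_of]
  rfl

/-- the coarsened family is a decomposition. -/
@[reducible] noncomputable def coDecomposition : DirectSum.Decomposition (co φ ℳ) :=
  DirectSum.Decomposition.ofAddHom (co φ ℳ) (coDecompose φ ℳ)
    (by
      ext x
      refine DirectSum.Decomposition.inductionOn ℳ (motive := fun x =>
        ((DirectSum.coeAddMonoidHom (co φ ℳ)).comp (coDecompose φ ℳ)) x = x) ?_ ?_ ?_ x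
      · simp
      · intro g m
        rw [AddMonoidHom.comp_apply, coDecompose_of_mem φ ℳ m.2, DirectSum.coeAddMonoidHom_of]
      · intro m m' hm hm'
        rw [map_add, hm, hm'])
    (by
      refine DirectSum.addHom_ext' fun h => AddMonoidHom.ext fun ⟨x, hx⟩ => ?_
      simp only [AddMonoidHom.coe_comp, Function.comp_apply, DirectSum.coeAddMonoidHom_of,
        AddMonoidHom.id_apply]
      suffices hh : ∃ hy : x ∈ co φ ℳ h,
          coDecompose φ ℳ x = DirectSum.of (fun h => co φ ℳ h) h ⟨x, hy⟩ from hh.2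
      refine co_induction φ ℳ (p := fun y => ∃ hy : y ∈ co φ ℳ h,
        coDecompose φ ℳ y = DirectSum.of (fun h => co φ ℳ h) h ⟨y, hy⟩) hx ?_ ?_ ?_
      · intro g hg y hy
        subst hg
        exact ⟨le_co φ ℳ g hy, coDecompose_of_mem φ ℳ hy⟩
      · refine ⟨zero_mem _, ?_⟩
        rw [map_zero]
        exact (map_zero (DirectSum.of (fun h => co φ ℳ h) h)).symm
      · rintro y z ⟨hy, hy'⟩ ⟨hz, hz'⟩
        refine ⟨add_mem hy hz, ?_⟩
        rw [map_add, hy', hz', ← map_add]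
        rfl)

end co

section gmod

variable {R : Type u} [CommRing R] (𝒜 : ι → AddSubgroup R) [GradedRing 𝒜]
  (𝒜' : κ → AddSubgroup R) [GradedRing 𝒜'] (h𝒜 : ∀ h : κ, 𝒜' h = ⨆ g ∈ φ ⁻¹' {h}, 𝒜 g)

include h𝒜 in
/-- the coarsened family is graded over the coarsened ring. -/
lemma co_gradedSMul {M : Type u} [AddCommGroup M] [Module R M] (ℳ : ι → AddSubgroup M)
    [SetLike.GradedSMul 𝒜 ℳ] : SetLike.GradedSMul 𝒜' (co φ ℳ) := by
  refine ⟨fun {h h'} {r x} hr hx => ?_⟩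
  rw [h𝒜 h] at hr
  rw [vadd_eq_add]
  refine co_induction φ 𝒜 (p := fun r => r • x ∈ co φ ℳ (h + h')) hr ?_ ?_ ?_
  · intro g hg r hr
    refine co_induction φ ℳ (p := fun x => r • x ∈ co φ ℳ (h + h')) hx ?_ ?_ ?_
    · intro g' hg' y hy
      have := SetLike.GradedSMul.smul_mem (A := 𝒜) (B := ℳ) hr hy
      rw [vadd_eq_add] at this
      exact le_co' φ ℳ (by rw [map_add, hg, hg']) this
    · rw [smul_zero]
      exact zero_mem _
    · intro y z hy hz
      rw [smul_add]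
      exact add_mem hy hz
  · rw [zero_smul]
    exact zero_mem _
  · intro r s hr hs
    rw [add_smul]
    exact add_mem hr hs

/-- the coarsened graded module. -/
@[reducible] noncomputable def coGMod (X : GMod.{u} 𝒜) : GMod.{u} 𝒜' :=
  letI := coDecomposition φ X.gr
  letI := co_gradedSMul φ 𝒜 𝒜' h𝒜 X.gr
  { carrier := X.carrier, gr := co φ X.gr }

lemma co_isGrHom {M N : Type u} [AddCommGroup M] [Module R M] [AddCommGroup N] [Module R N]
    (ℳ : ι → AddSubgroup M) (𝒩 : ι → AddSubgroup N) (f : M →ₗ[R] N) (hf : IsGrHom ℳ 𝒩 f) :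
    IsGrHom (co φ ℳ) (co φ 𝒩) f := by
  intro h x hx
  refine co_induction φ ℳ (p := fun x => f x ∈ co φ 𝒩 h) hx ?_ ?_ ?_
  · intro g hg y hy
    exact le_co' φ 𝒩 hg (hf g y hy)
  · rw [map_zero]
    exact zero_mem _
  · intro y z hy hz
    rw [map_add]
    exact add_mem hy hz

end gmod

section exlift

open Groth.Agent.Lib.Helper20.GrRes

variable {R : Type u} [CommRing R] {𝒜 : ι → AddSubgroup R} [GradedRing 𝒜]
  {M : Type u} [AddCommGroup M] [Module R M] {ℳ : ι → AddSubgroup M}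
  [DirectSum.Decomposition ℳ] [SetLike.GradedSMul 𝒜 ℳ]

variable (𝒜 ℳ) in
/-- a graded exact resolution whose terms need not be *injective. -/
structure ExRes where
  X : ℕ → GMod.{u} 𝒜
  d : ∀ n : ℕ, (X n).carrier →ₗ[R] (X (n + 1)).carrier
  ε : M →ₗ[R] (X 0).carrier
  d_grHom : ∀ n : ℕ, IsGrHom (X n).gr (X (n + 1)).gr (d n)
  ε_grHom : IsGrHom ℳ (X 0).gr ε
  ε_injective : Function.Injective ε
  exact_zero : LinearMap.ker (d 0) = LinearMap.range ε
  exact_succ : ∀ n : ℕ, LinearMap.ker (d (n + 1)) = LinearMap.range (d n)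

/-- a homogeneous chain lift (of degree zero) out of an exact resolution. -/
structure ExLift (E : ExRes 𝒜 ℳ) (C : Cx 𝒜) (g : M →ₗ[R] (C.X 0).carrier) where
  φ : ∀ j, (E.X j).carrier →ₗ[R] (C.X j).carrier
  deg : ∀ j, IsGrHom (E.X j).gr (C.X j).gr (φ j)
  comm_ε : ∀ m, φ 0 (E.ε m) = g m
  comm_d : ∀ j x, φ (j + 1) (E.d j x) = C.d j (φ j x)

variable (E : ExRes 𝒜 ℳ) (C : Cx 𝒜) (g : M →ₗ[R] (C.X 0).carrier)

/-- the invariant of the inductive construction. -/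
def ExGood (j : ℕ) (φ : (E.X j).carrier →ₗ[R] (C.X j).carrier) : Prop :=
  IsGrHom (E.X j).gr (C.X j).gr φ ∧ ∀ x, E.d j x = 0 → C.d j (φ x) = 0

lemma ex_exists_zero (hg : IsGrHom ℳ (C.X 0).gr g) (hdg : ∀ m, C.d 0 (g m) = 0) :
    ∃ φ : (E.X 0).carrier →ₗ[R] (C.X 0).carrier, ExGood E C 0 φ ∧ ∀ m, φ (E.ε m) = g m := by
  obtain ⟨φ, hφ, hcomp⟩ := C.starInj 0 (GMod.of 𝒜 M ℳ) (E.X 0) E.ε E.ε_grHom E.ε_injective g hg
  have hc : ∀ m, φ (E.ε m) = g m := fun m => LinearMap.congr_fun hcomp m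
  refine ⟨φ, ⟨hφ, fun x hx => ?_⟩, hc⟩
  have hx' : x ∈ LinearMap.ker (E.d 0) := hx
  rw [E.exact_zero] at hx'
  obtain ⟨m, rfl⟩ := hx'
  rw [hc, hdg]

lemma ex_exists_step (j : ℕ) (φ : (E.X j).carrier →ₗ[R] (C.X j).carrier) (h : ExGood E C j φ) :
    ∃ φ' : (E.X (j + 1)).carrier →ₗ[R] (C.X (j + 1)).carrier,
      ExGood E C (j + 1) φ' ∧ ∀ x, φ' (E.d j x) = C.d j (φ x) := by
  have hker : (LinearMap.ker (E.d j)).IsHomogeneous (E.X j).gr :=
    ker_isHomogeneous (E.X j).gr (E.X (j + 1)).gr (E.d j) (E.d_grHom j)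
  let A : GMod.{u} 𝒜 := quotGMod (E.X j) (LinearMap.ker (E.d j)) hker
  let fbar : A.carrier →ₗ[R] (E.X (j + 1)).carrier :=
    (LinearMap.ker (E.d j)).liftQ (E.d j) le_rfl
  have hfbar : IsGrHom A.gr (E.X (j + 1)).gr fbar := by
    rintro n _ ⟨x, hx, rfl⟩
    exact E.d_grHom j n x hx
  have hfinj : Function.Injective fbar := by
    rw [← LinearMap.ker_eq_bot]
    exact Submodule.ker_liftQ_eq_bot _ _ _ le_rfl
  let gbar : A.carrier →ₗ[R] (C.X (j + 1)).carrier :=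
    (LinearMap.ker (E.d j)).liftQ (C.d j ∘ₗ φ) (fun x hx => h.2 x hx)
  have hgbar : IsGrHom A.gr (C.X (j + 1)).gr gbar := by
    rintro n _ ⟨x, hx, rfl⟩
    exact C.d_grHom j n _ (h.1 n x hx)
  obtain ⟨φ', hφ', hcomp⟩ := C.starInj (j + 1) A (E.X (j + 1)) fbar hfbar hfinj gbar hgbar
  have hc : ∀ x, φ' (E.d j x) = C.d j (φ x) := by
    intro x
    have := LinearMap.congr_fun hcomp ((LinearMap.ker (E.d j)).mkQ x)
    exact this
  refine ⟨φ', ⟨hφ', fun y hy => ?_⟩, hc⟩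
  have hy' : y ∈ LinearMap.ker (E.d (j + 1)) := hy
  rw [E.exact_succ j] at hy'
  obtain ⟨x, rfl⟩ := hy'
  rw [hc, C.d_comp_d]

/-- the sequence of maps. -/
noncomputable def exSeq (φ0 : (E.X 0).carrier →ₗ[R] (C.X 0).carrier) (h0 : ExGood E C 0 φ0) :
    ∀ j, {φ : (E.X j).carrier →ₗ[R] (C.X j).carrier // ExGood E C j φ}
  | 0 => ⟨φ0, h0⟩
  | j + 1 => ⟨Classical.choose (ex_exists_step E C j (exSeq φ0 h0 j).1 (exSeq φ0 h0 j).2),
      (Classical.choose_spec (ex_exists_step E C j (exSeq φ0 h0 j).1 (exSeq φ0 h0 j).2)).1⟩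

lemma exSeq_succ (φ0 : (E.X 0).carrier →ₗ[R] (C.X 0).carrier) (h0 : ExGood E C 0 φ0) (j : ℕ)
    (x : (E.X j).carrier) :
    (exSeq E C φ0 h0 (j + 1)).1 (E.d j x) = C.d j ((exSeq E C φ0 h0 j).1 x) :=
  (Classical.choose_spec (ex_exists_step E C j (exSeq E C φ0 h0 j).1 (exSeq E C φ0 h0 j).2)).2 x

/-- **existence of homogeneous chain lifts out of an exact graded resolution.** -/
theorem exists_exLift (hg : IsGrHom ℳ (C.X 0).gr g) (hdg : ∀ m, C.d 0 (g m) = 0) :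
    Nonempty (ExLift E C g) := by
  obtain ⟨φ0, h0, hc0⟩ := ex_exists_zero E C g hg hdg
  exact ⟨{ φ := fun j => (exSeq E C φ0 h0 j).1
           deg := fun j => (exSeq E C φ0 h0 j).2.1
           comm_ε := hc0
           comm_d := fun j x => exSeq_succ E C φ0 h0 j x }⟩

end exlift

section main

open Groth.Agent.Lib.Helper20.GrRes Groth.Agent.Lib.Helper20.GrLES CategoryTheory
  Groth.Agent.Lib.Helper4.LC

variable {R : Type u} [CommRing R] [IsNoetherianRing R] (𝒜 : ι → AddSubgroup R) [GradedRing 𝒜]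
  (𝒜' : κ → AddSubgroup R) [GradedRing 𝒜'] (h𝒜 : ∀ h : κ, 𝒜' h = ⨆ g ∈ φ ⁻¹' {h}, 𝒜 g)
  {M : Type u} [AddCommGroup M] [Module R M] (ℳ : ι → AddSubgroup M)
  [DirectSum.Decomposition ℳ] [SetLike.GradedSMul 𝒜 ℳ]
  (ℳ' : κ → AddSubgroup M) [DirectSum.Decomposition ℳ'] [SetLike.GradedSMul 𝒜' ℳ']
  (hℳ : ∀ h : κ, ℳ' h = ⨆ g ∈ φ ⁻¹' {h}, ℳ g)

/-- the coarsened resolution. -/
noncomputable def coRes (E : StarInjRes 𝒜 ℳ) : ExRes 𝒜' ℳ' where
  X n := coGMod φ 𝒜 𝒜' h𝒜 (E.X n)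
  d := E.d
  ε := E.ε
  d_grHom n := co_isGrHom φ _ _ (E.d n) (E.d_grHom n)
  ε_grHom := by
    intro h m hm
    rw [hℳ h] at hm
    exact co_isGrHom φ ℳ (E.X 0).gr E.ε E.ε_grHom h m hm
  ε_injective := E.ε_injective
  exact_zero := E.exact_zero
  exact_succ := E.exact_succ

include h𝒜 hℳ in
/-- **graded local cohomology commutes with coarsening of the grading.** -/
theorem exists_equiv_coarsening (a : HomogeneousIdeal 𝒜) (a' : HomogeneousIdeal 𝒜')
    (ha : a'.toIdeal = a.toIdeal) (E : StarInjRes 𝒜 ℳ) (E' : StarInjRes 𝒜' ℳ') (i : ℕ) :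
    ∃ ψ : E.H a i ≃ₗ[R] E'.H a' i,
      IsGrHom (fun h : κ => ⨆ g ∈ φ ⁻¹' {h}, E.Hgr a i g) (E'.Hgr a' i) ψ.toLinearMap := by
  obtain ⟨l⟩ := exists_exLift (coRes φ 𝒜 𝒜' h𝒜 ℳ ℳ' hℳ E) (toCx E') E'.ε E'.ε_grHom (fun m => by
    have : E'.ε m ∈ LinearMap.ker (E'.d 0) := by
      rw [E'.exact_zero]
      exact LinearMap.mem_range_self _ _
    exact this)
  obtain ⟨I', hI'⟩ := a'
  change I' = a.toIdeal at ha
  subst ha
  set a'' : HomogeneousIdeal 𝒜' := ⟨a.toIdeal, hI'⟩ with ha''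
  let c : ResHom (toRes E a) (toRes E' a'') LinearMap.id :=
    { φ := l.φ
      comm_ε := l.comm_ε
      comm_d := l.comm_d }
  let ψ : E.H a i ≃ₗ[R] E'.H a'' i := (cmpE E a i).trans (cmpE E' a'' i).symm
  have hψ : ∀ x, ψ x = (hEquiv E' a'' i).symm (c.Hmap i (hEquiv E a i x)) := by
    intro x
    apply (cmpE E' a'' i).injective
    change cmpE E' a'' i ((cmpE E' a'' i).symm (cmpE E a i x)) = _
    rw [LinearEquiv.apply_symm_apply]
    change _ = cmp i (toRes E' a'') (c.Hmap i (hEquiv E a i x))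
    rw [cmp_Hmap i c (hEquiv E a i x)]
    exact (HH.map_id a.toIdeal i _).symm
  refine ⟨ψ, fun h x hx => ?_⟩
  refine co_induction φ (E.Hgr a i) (p := fun x => ψ.toLinearMap x ∈ E'.Hgr a'' i h) hx ?_ ?_ ?_
  · rintro g hg _ ⟨z, hz, rfl⟩
    change ψ _ ∈ _
    rw [hψ]
    exact ⟨c.cocycMap i z, l.deg i h _ (le_co' φ (E.X i).gr hg hz), rfl⟩
  · rw [map_zero]
    exact zero_mem _
  · intro y z hy hz
    rw [map_add]
    exact add_mem hy hz

end main

end Groth.Agent.Lib.Helper20.GrCoarse
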