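import Mathlib
import Groth.Prelude.Def_GrLC
import Groth.Agent.Lib.Helper20.GrCoarse

/-!
# Coarsened graded rings and homogeneous cores (helper20)

* `coGradedRing φ 𝒜` : the grading of `R` coarsened along `φ : ι →+ κ` is a graded ring;
* `homSpan 𝒜 P` : the ideal generated by the `𝒜`-homogeneous elements of `P`
  (`= (P.homogeneousCore 𝒜).toIdeal`);
* `homSpan_eq_of_refine` : if `ψ` is the common refinement of `φ` and `π` and `P` is
  `φ`-homogeneous then the `π`-core and the `ψ`-core of `P` coincide.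
-/

set_option autoImplicit false
set_option linter.unusedSectionVars false
set_option linter.unusedVariables false
set_option linter.style.haveILetI false

universe u

open DirectSum GrLC Groth.Agent.Lib.Helper20.GrCoarse

namespace Groth.Agent.Lib.Helper20.GrMultiCore

section ring

variable {ι κ : Type} [AddCommGroup ι] [DecidableEq ι] [AddCommGroup κ] [DecidableEq κ]
  (φ : ι →+ κ) {R : Type u} [CommRing R] (𝒜 : ι → AddSubgroup R) [GradedRing 𝒜]

lemma co_one_mem : (1 : R) ∈ co φ 𝒜 0 :=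
  le_co' φ 𝒜 (map_zero φ) (SetLike.GradedOne.one_mem (A := 𝒜))

lemma co_mul_mem {h h' : κ} {x y : R} (hx : x ∈ co φ 𝒜 h) (hy : y ∈ co φ 𝒜 h') :
    x * y ∈ co φ 𝒜 (h + h') := by
  refine co_induction φ 𝒜 (p := fun x => x * y ∈ co φ 𝒜 (h + h')) hx ?_ ?_ ?_
  · intro g hg r hr
    refine co_induction φ 𝒜 (p := fun y => r * y ∈ co φ 𝒜 (h + h')) hy ?_ ?_ ?_
    · intro g' hg' s hs
      have := SetLike.GradedMul.mul_mem (A := 𝒜) hr hs
      exact le_co' φ 𝒜 (by rw [map_add, hg, hg']) this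
    · rw [mul_zero]
      exact zero_mem _
    · intro a b ha hb
      rw [mul_add]
      exact add_mem ha hb
  · rw [zero_mul]
    exact zero_mem _
  · intro a b ha hb
    rw [add_mul]
    exact add_mem ha hb

/-- the coarsened grading is a graded ring. -/
@[reducible] noncomputable def coGradedRing : GradedRing (co φ 𝒜) :=
  { one_mem := co_one_mem φ 𝒜
    mul_mem := fun {i j} {x y} hx hy => co_mul_mem φ 𝒜 hx hy
    toDecomposition := coDecomposition φ 𝒜 }

lemma co_eq (h : κ) : co φ 𝒜 h = ⨆ g ∈ φ ⁻¹' {h}, 𝒜 g := rfl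

/-- the coarse components of an element of a fine piece. -/
lemma decompose_co_of_mem {g : ι} {x : R} (hx : x ∈ 𝒜 g) (c : κ) :
    letI := coDecomposition φ 𝒜
    ((DirectSum.decompose (co φ 𝒜) x c : co φ 𝒜 c) : R) = if φ g = c then x else 0 := by
  letI := coDecomposition φ 𝒜
  have hx' : x ∈ co φ 𝒜 (φ g) := le_co φ 𝒜 g hx
  split_ifs with h
  · subst h
    rw [DirectSum.decompose_of_mem_same _ hx']
  · rw [DirectSum.decompose_of_mem_ne _ hx' h]

end ring

section span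

variable {ι : Type} {R : Type u} [CommRing R]

/-- the ideal generated by the homogeneous elements of `P`. -/
def homSpan (𝒜 : ι → AddSubgroup R) (P : Ideal R) : Ideal R :=
  Ideal.span {x | x ∈ P ∧ ∃ i, x ∈ 𝒜 i}

lemma homSpan_le (𝒜 : ι → AddSubgroup R) (P : Ideal R) : homSpan 𝒜 P ≤ P :=
  Ideal.span_le.2 fun x hx => hx.1

lemma mem_homSpan (𝒜 : ι → AddSubgroup R) {P : Ideal R} {x : R} (hx : x ∈ P) {i : ι}
    (hi : x ∈ 𝒜 i) : x ∈ homSpan 𝒜 P :=
  Ideal.subset_span ⟨hx, i, hi⟩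

lemma homSpan_mono (𝒜 : ι → AddSubgroup R) {P Q : Ideal R} (h : P ≤ Q) :
    homSpan 𝒜 P ≤ homSpan 𝒜 Q :=
  Ideal.span_mono fun x hx => ⟨h hx.1, hx.2⟩

lemma homSpan_eq_core [DecidableEq ι] [AddMonoid ι] (𝒜 : ι → AddSubgroup R) [GradedRing 𝒜]
    (P : Ideal R) : (P.homogeneousCore 𝒜).toIdeal = homSpan 𝒜 P := by
  show Ideal.homogeneousCore' 𝒜 P = _
  unfold Ideal.homogeneousCore' homSpan
  congr 1
  ext x
  constructor
  · rintro ⟨⟨y, hy⟩, hyP, rfl⟩
    exact ⟨hyP, hy⟩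
  · rintro ⟨hxP, hx⟩
    exact ⟨⟨x, hx⟩, hxP, rfl⟩

lemma homSpan_isHomogeneous [DecidableEq ι] [AddMonoid ι] (𝒜 : ι → AddSubgroup R) [GradedRing 𝒜]
    (P : Ideal R) : (homSpan 𝒜 P).IsHomogeneous 𝒜 := by
  rw [← homSpan_eq_core]
  exact (P.homogeneousCore 𝒜).isHomogeneous

lemma homSpan_eq_self [DecidableEq ι] [AddMonoid ι] (𝒜 : ι → AddSubgroup R) [GradedRing 𝒜]
    {P : Ideal R} (hP : P.IsHomogeneous 𝒜) : homSpan 𝒜 P = P := by
  rw [← homSpan_eq_core]
  exact hP.toIdeal_homogeneousCore_eq_self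

/-- if the homogeneous elements of `𝒜` are homogeneous for `ℬ`, then `𝒜`-homogeneous ideals
are `ℬ`-homogeneous. -/
lemma isHomogeneous_of_le {ι' : Type} [DecidableEq ι] [AddMonoid ι] [DecidableEq ι'] [AddMonoid ι']
    (𝒜 : ι → AddSubgroup R) [GradedRing 𝒜] (ℬ : ι' → AddSubgroup R) [GradedRing ℬ]
    (h : ∀ i x, x ∈ 𝒜 i → ∃ j, x ∈ ℬ j) {P : Ideal R} (hP : P.IsHomogeneous 𝒜) :
    P.IsHomogeneous ℬ := by
  rw [← homSpan_eq_self 𝒜 hP]
  refine Ideal.homogeneous_span ℬ _ ?_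
  rintro x ⟨_, i, hi⟩
  exact h i x hi

/-- a `ℬ`-homogeneous ideal inside `P` lies in the `ℬ`-core of `P`. -/
lemma le_homSpan_of_isHomogeneous [DecidableEq ι] [AddMonoid ι] (ℬ : ι → AddSubgroup R)
    [GradedRing ℬ] {I P : Ideal R} (hI : I.IsHomogeneous ℬ) (hIP : I ≤ P) : I ≤ homSpan ℬ P := by
  rw [← homSpan_eq_self ℬ hI]
  exact homSpan_mono ℬ hIP

end span

section refine

variable {ι κ κ₂ κ₃ : Type} [AddCommGroup ι] [DecidableEq ι] [AddCommGroup κ] [DecidableEq κ]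
  [AddCommGroup κ₂] [DecidableEq κ₂] [AddCommGroup κ₃] [DecidableEq κ₃]
  (φ : ι →+ κ) (π : ι →+ κ₂) (ψ : ι →+ κ₃)
  {R : Type u} [CommRing R] (𝒜 : ι → AddSubgroup R) [GradedRing 𝒜]

/-- pieces of a finer coarsening lie in pieces of a coarser one. -/
lemma co_le_co (α : κ₃ → κ) (hα : ∀ g, φ g = α (ψ g)) (h : κ₃) :
    co ψ 𝒜 h ≤ co φ 𝒜 (α h) := by
  intro x hx
  refine co_induction ψ 𝒜 (p := fun x => x ∈ co φ 𝒜 (α h)) hx ?_ (zero_mem _)
    (fun _ _ => add_mem)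
  intro g hg y hy
  exact le_co' φ 𝒜 (by rw [hα, hg]) hy

/-- **refinement**: for a `φ`-homogeneous ideal, the `π`-core is the `ψ`-core when `ψ` is the
common refinement of `φ` and `π`. -/
theorem homSpan_eq_of_refine (α : κ₃ → κ) (β : κ₃ → κ₂) (γ : κ → κ₂ → κ₃)
    (hα : ∀ g, φ g = α (ψ g)) (hβ : ∀ g, π g = β (ψ g)) (hγ : ∀ g, ψ g = γ (φ g) (π g))
    (P : Ideal R)
    (hP : letI := coGradedRing φ 𝒜; P.IsHomogeneous (co φ 𝒜)) :
    homSpan (co π 𝒜) P = homSpan (co ψ 𝒜) P := by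
  classical
  apply le_antisymm
  · refine Ideal.span_le.2 ?_
    rintro x ⟨hxP, t, hxt⟩
    letI := coGradedRing φ 𝒜
    -- decompose x into φ-components
    have hsum := DirectSum.sum_support_decompose (co φ 𝒜) x
    rw [← hsum]
    refine Ideal.sum_mem _ fun c _ => ?_
    have hcP : ((DirectSum.decompose (co φ 𝒜) x c : co φ 𝒜 c) : R) ∈ P := hP c hxP
    refine mem_homSpan (co ψ 𝒜) hcP (i := γ c t) ?_
    -- the component is ψ-homogeneous
    refine co_induction π 𝒜 (p := fun x =>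
      ((DirectSum.decompose (co φ 𝒜) x c : co φ 𝒜 c) : R) ∈ co ψ 𝒜 (γ c t)) hxt ?_ ?_ ?_
    · intro g hg y hy
      rw [decompose_co_of_mem φ 𝒜 hy c]
      split_ifs with h
      · exact le_co' ψ 𝒜 (by rw [hγ, h, hg]) hy
      · exact zero_mem _
    · rw [DirectSum.decompose_zero]
      exact zero_mem _
    · intro a b ha hb
      rw [DirectSum.decompose_add, DirectSum.add_apply, AddSubgroup.coe_add]
      exact add_mem ha hb
  · refine Ideal.span_mono ?_
    rintro x ⟨hxP, h, hxh⟩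
    exact ⟨hxP, β h, co_le_co π ψ 𝒜 β hβ h hxh⟩

end refine

end Groth.Agent.Lib.Helper20.GrMultiCore
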