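import Mathlib
import Groth.Prelude.Def_GrLC
import Groth.Agent.Lib.Helper20.GrMultiCore

/-!
# The chain of successive `ℤ`-cores of an ideal in a `ℤ^r`-graded ring (helper20)

For a basis `b` of the grading group `ι`, `F b j : ι →+ (Fin r → ℤ)` keeps the first `j`
coordinates.  `Q b 𝒜 p j` is the core of `p` for the grading coarsened along `F b j`:
`Q 0 = p`, `Q r` is the `ι`-core, and `Q (j+1)` is the `ℤ`-core of `Q j` for the `j`-th coordinate.
-/

set_option autoImplicit false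
set_option linter.unusedSectionVars false
set_option linter.unusedVariables false
set_option linter.style.haveILetI false

universe u

open DirectSum GrLC Groth.Agent.Lib.Helper20.GrCoarse Groth.Agent.Lib.Helper20.GrMultiCore

namespace Groth.Agent.Lib.Helper20.GrMultiChain

variable {ι : Type} [AddCommGroup ι] [DecidableEq ι] {r : ℕ} (b : Module.Basis (Fin r) ℤ ι)
  {R : Type u} [CommRing R] (𝒜 : ι → AddSubgroup R) [GradedRing 𝒜]

/-- the first `j` coordinates. -/
noncomputable def F (j : ℕ) : ι →+ (Fin r → ℤ) where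
  toFun g := fun i => if (i : ℕ) < j then b.repr g i else 0
  map_zero' := by
    ext i
    simp
  map_add' x y := by
    ext i
    simp only [map_add, Finsupp.coe_add, Pi.add_apply]
    split_ifs <;> simp

lemma F_apply (j : ℕ) (g : ι) (i : Fin r) :
    F b j g i = if (i : ℕ) < j then b.repr g i else 0 := rfl

/-- the `i`-th coordinate. -/
noncomputable def c (i : Fin r) : ι →+ ℤ := (b.coord i).toAddMonoidHom

lemma c_apply (i : Fin r) (g : ι) : c b i g = b.repr g i := rfl

/-- the core of `p` with respect to the first `j` coordinates. -/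
noncomputable def Q (p : Ideal R) (j : ℕ) : Ideal R := homSpan (co (F b j) 𝒜) p

lemma Q_le (p : Ideal R) (j : ℕ) : Q b 𝒜 p j ≤ p := homSpan_le _ _

lemma Q_isHomogeneous (p : Ideal R) (j : ℕ) :
    letI := coGradedRing (F b j) 𝒜
    (Q b 𝒜 p j).IsHomogeneous (co (F b j) 𝒜) := by
  letI := coGradedRing (F b j) 𝒜
  exact homSpan_isHomogeneous _ _

lemma mem_co_zero (x : R) : x ∈ co (F b 0) 𝒜 0 := by
  classical
  rw [← DirectSum.sum_support_decompose 𝒜 x]
  refine sum_mem fun g _ => ?_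
  refine le_co' (F b 0) 𝒜 ?_ (SetLike.coe_mem _)
  ext i
  simp [F_apply]

lemma Q_zero (p : Ideal R) : Q b 𝒜 p 0 = p := by
  apply le_antisymm (Q_le b 𝒜 p 0)
  intro x hx
  exact mem_homSpan _ hx (mem_co_zero b 𝒜 x)

lemma F_top_injective : Function.Injective (F b r) := by
  intro g g' h
  apply b.repr.injective
  ext i
  have := congrFun h i
  simpa [F_apply, i.2] using this

lemma Q_top (p : Ideal R) : Q b 𝒜 p r = homSpan 𝒜 p := by
  apply le_antisymm
  · refine Ideal.span_le.2 ?_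
    rintro x ⟨hxP, h, hxh⟩
    by_cases hne : ∃ g₀, F b r g₀ = h
    · obtain ⟨g₀, hg₀⟩ := hne
      refine mem_homSpan 𝒜 hxP (i := g₀) ?_
      refine co_induction (F b r) 𝒜 (p := fun x => x ∈ 𝒜 g₀) hxh ?_ (zero_mem _)
        (fun _ _ => add_mem)
      intro g hg y hy
      have : g = g₀ := F_top_injective b (hg.trans hg₀.symm)
      rw [← this]
      exact hy
    · have hx0 : x = 0 := by
        refine co_induction (F b r) 𝒜 (p := fun x => x = 0) hxh ?_ rfl ?_
        · intro g hg y hy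
          exact absurd ⟨g, hg⟩ hne
        · rintro a b rfl rfl
          rw [add_zero]
      rw [hx0]
      exact zero_mem _
  · refine Ideal.span_mono ?_
    rintro x ⟨hxP, g, hg⟩
    exact ⟨hxP, F b r g, le_co (F b r) 𝒜 g hg⟩

lemma Q_succ_le (p : Ideal R) (j : ℕ) : Q b 𝒜 p (j + 1) ≤ Q b 𝒜 p j := by
  letI := coGradedRing (F b j) 𝒜
  letI i2 := coGradedRing (F b (j + 1)) 𝒜
  have h1 : (Q b 𝒜 p (j + 1)).IsHomogeneous (co (F b j) 𝒜) := by
    refine isHomogeneous_of_le (co (F b (j + 1)) 𝒜) (co (F b j) 𝒜) ?_ (Q_isHomogeneous b 𝒜 p (j + 1))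
    intro h x hx
    refine ⟨_, co_le_co (F b j) (F b (j + 1)) 𝒜
      (fun v i => if (i : ℕ) < j then v i else 0) ?_ h hx⟩
    intro g
    ext i
    simp only [F_apply]
    split_ifs with h1 h2
    · rfl
    · omega
    · rfl
  exact le_homSpan_of_isHomogeneous _ h1 (Q_le b 𝒜 p (j + 1))

/-- **the step**: `Q (j+1)` is the `ℤ`-core of `Q j` for the `j`-th coordinate. -/
theorem Q_succ (p : Ideal R) (j : ℕ) (hj : j < r) :
    Q b 𝒜 p (j + 1) = homSpan (co (c b ⟨j, hj⟩) 𝒜) (Q b 𝒜 p j) := by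
  letI := coGradedRing (F b j) 𝒜
  letI i2 := coGradedRing (F b (j + 1)) 𝒜
  rw [homSpan_eq_of_refine (F b j) (c b ⟨j, hj⟩) (F b (j + 1)) 𝒜
    (fun v i => if (i : ℕ) < j then v i else 0) (fun v => v ⟨j, hj⟩)
    (fun v t => Function.update v ⟨j, hj⟩ t) ?_ ?_ ?_ (Q b 𝒜 p j) (Q_isHomogeneous b 𝒜 p j)]
  · apply le_antisymm
    · exact le_homSpan_of_isHomogeneous _ (Q_isHomogeneous b 𝒜 p (j + 1)) (Q_succ_le b 𝒜 p j)
    · exact homSpan_mono _ (Q_le b 𝒜 p j)
  · intro g
    ext i
    simp only [F_apply]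
    split_ifs with h1 h2
    · rfl
    · omega
    · rfl
  · intro g
    simp [F_apply, c_apply]
  · intro g
    ext i
    by_cases hi : i = ⟨j, hj⟩
    · subst hi
      simp [F_apply, c_apply]
    · rw [Function.update_of_ne hi]
      simp only [F_apply]
      have hne : (i : ℕ) ≠ j := fun h => hi (Fin.ext h)
      split_ifs with h1 h2 h2
      · rfl
      · omega
      · omega
      · rfl

/-- `Q (j+1)` as a homogeneous core for the `j`-th coordinate grading. -/
theorem Q_succ_core (p : Ideal R) (j : ℕ) (hj : j < r) :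
    letI := coGradedRing (c b ⟨j, hj⟩) 𝒜
    Q b 𝒜 p (j + 1) = ((Q b 𝒜 p j).homogeneousCore (co (c b ⟨j, hj⟩) 𝒜)).toIdeal := by
  letI := coGradedRing (c b ⟨j, hj⟩) 𝒜
  rw [homSpan_eq_core]
  exact Q_succ b 𝒜 p j hj

/-- all members of the chain are prime. -/
theorem Q_isPrime (p : Ideal R) [hp : p.IsPrime] : ∀ j, j ≤ r → (Q b 𝒜 p j).IsPrime := by
  intro j
  induction j with
  | zero =>
    intro _
    rw [Q_zero]
    exact hp
  | succ j ih =>
    intro hj
    have hj' : j < r := hj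
    letI := coGradedRing (c b ⟨j, hj'⟩) 𝒜
    rw [Q_succ_core b 𝒜 p j hj']
    exact Ideal.IsPrime.homogeneousCore (ih hj'.le)

/-- `Q j` is not homogeneous for the `j`-th coordinate iff the step is strict. -/
theorem Q_succ_eq_iff (p : Ideal R) (j : ℕ) (hj : j < r) :
    letI := coGradedRing (c b ⟨j, hj⟩) 𝒜
    Q b 𝒜 p (j + 1) = Q b 𝒜 p j ↔ (Q b 𝒜 p j).IsHomogeneous (co (c b ⟨j, hj⟩) 𝒜) := by
  letI := coGradedRing (c b ⟨j, hj⟩) 𝒜
  rw [Q_succ_core b 𝒜 p j hj, Ideal.IsHomogeneous.iff_eq]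

end Groth.Agent.Lib.Helper20.GrMultiChain
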