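import Mathlib
import Groth.Agent.Lib.Helper1.Matlis

/-!
# Localization of generically free modules; quotients of `Finsupp` by a scalar (helper20)
-/

set_option autoImplicit false
set_option linter.unusedSectionVars false
set_option linter.unusedVariables false
set_option linter.style.haveILetI false

universe u v w

open TensorProduct

namespace Groth.Agent.Lib.Helper20.LocFinsupp

section generic

variable {R : Type u} [CommRing R] (S : Submonoid R)
  {F : Type v} {X : Type v} {Y : Type w} [AddCommGroup F] [Module R F] [AddCommGroup X] [Module R X]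
  [AddCommGroup Y] [Module R Y]

/-- If `Φ : F → X` is injective with cokernel killed elementwise by elements of `S`, a localization
map of `X` restricts to a localization map of `F`. -/
theorem isLocalizedModule_comp_of_generic (Φ : F →ₗ[R] X) (hinj : Function.Injective Φ)
    (hsurj : ∀ x : X, ∃ t : R, t ∈ S ∧ t • x ∈ LinearMap.range Φ)
    (l : X →ₗ[R] Y) [hl : IsLocalizedModule S l] : IsLocalizedModule S (l ∘ₗ Φ) where
  map_units := hl.map_units
  surj y := by
    obtain ⟨⟨x, u⟩, hxu⟩ := hl.surj y
    obtain ⟨t, ht, c, hc⟩ := hsurj x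
    refine ⟨⟨c, ⟨t, ht⟩ * u⟩, ?_⟩
    show (⟨t, ht⟩ * u : S) • y = l (Φ c)
    rw [hc, mul_smul]
    have : u • y = l x := hxu
    rw [this, Submonoid.smul_def, ← map_smul]
  exists_of_eq {c c'} h := by
    have h' : l (Φ c) = l (Φ c') := h
    obtain ⟨u, hu⟩ := hl.exists_of_eq h'
    refine ⟨u, hinj ?_⟩
    rw [Submonoid.smul_def, Submonoid.smul_def, map_smul, map_smul]
    exact hu

/-- A module receiving a localization map from a free-like module `s →₀ P` is `s →₀ P_S`. -/
noncomputable def finsuppLocEquiv {s : Type v} {P : Type v} [AddCommGroup P] [Module R P]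
    [Module (Localization S) Y] [IsScalarTower R (Localization S) Y]
    (l : (s →₀ P) →ₗ[R] Y) [IsLocalizedModule S l] :
    (s →₀ LocalizedModule S P) ≃ₗ[Localization S] Y :=
  (IsLocalizedModule.linearEquiv S
    (Finsupp.mapRange.linearMap (α := s) (LocalizedModule.mkLinearMap S P)) l
    ).extendScalarsOfIsLocalization S (Localization S)

end generic

section quot

variable {A : Type u} [CommRing A] (a : A) (s : Type v) (P : Type w) [AddCommGroup P] [Module A P]

/-- `(s →₀ P) / a ≃ s →₀ (P / a)`. -/
noncomputable def quotSMulTopFinsuppEquiv :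
    QuotSMulTop a (s →₀ P) ≃ₗ[A] (s →₀ QuotSMulTop a P) := by
  classical
  exact (QuotSMulTop.equivQuotTensor a (s →₀ P)).trans
    ((TensorProduct.finsuppRight A A (A ⧸ Ideal.span {a}) P s).trans
      (Finsupp.mapRange.linearEquiv (QuotSMulTop.equivQuotTensor a P).symm))

theorem length_quotSMulTop_finsupp :
    Module.length A (QuotSMulTop a (s →₀ P)) = ENat.card s * Module.length A (QuotSMulTop a P) := by
  rw [(quotSMulTopFinsuppEquiv a s P).length_eq, Module.length_finsupp]

variable {s P} in
theorem smul_injective_finsupp (h : Function.Injective fun x : P => a • x) :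
    Function.Injective fun c : s →₀ P => a • c := by
  intro c c' hcc
  ext j
  apply h
  have := DFunLike.congr_fun hcc j
  simpa using this

/-- transport of the quotient by `a` along a surjection whose kernel is `a • ⊤`. -/
noncomputable def quotSMulTopEquivOfExact {C : Type v} [AddCommGroup C] [Module A C]
    (g : P →ₗ[A] C) (hg : Function.Surjective g)
    (hex : ∀ x, g x = 0 ↔ ∃ y, a • y = x) : QuotSMulTop a P ≃ₗ[A] C :=
  (Submodule.quotEquivOfEq _ _ (by
    ext x
    rw [LinearMap.mem_ker, hex, Submodule.mem_smul_pointwise_iff_exists]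
    constructor
    · rintro ⟨y, -, hy⟩
      exact ⟨y, hy⟩
    · rintro ⟨y, hy⟩
      exact ⟨y, Submodule.mem_top, hy⟩)).trans (g.quotKerEquivOfSurjective hg)

end quot

end Groth.Agent.Lib.Helper20.LocFinsupp
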