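import Mathlib
import Groth.Agent.Lib.Helper20.LocFinsupp

/-!
# The long exact `Ext` sequence of `0 → Q –a→ Q → C → 0` when `a` is injective on `Ext(Q, W)`
(helper20)
-/

set_option autoImplicit false
set_option linter.unusedSectionVars false
set_option linter.unusedVariables false
set_option linter.style.haveILetI false
set_option maxHeartbeats 800000

universe u

open CategoryTheory Abelian

namespace Groth.Agent.Lib.Helper20.ExtLESInj

variable {A : Type u} [CommRing A]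

section general

variable {T : ShortComplex (ModuleCat.{u} A)} (hT : T.ShortExact) (W : ModuleCat.{u} A)
  (hinj : ∀ (n : ℕ) (x : Ext.{u} T.X₂ W n), (Ext.mk₀ T.f).comp x (zero_add n) = 0 → x = 0)

include hT hinj in
theorem g_comp_eq_zero (n : ℕ) (x : Ext.{u} T.X₃ W n) :
    (Ext.mk₀ T.g).comp x (zero_add n) = 0 := by
  apply hinj
  rw [Ext.mk₀_comp_mk₀_assoc, T.zero, Ext.mk₀_zero, Ext.zero_comp]

include hT hinj in
theorem ext_zero_eq_zero (x : Ext.{u} T.X₃ W 0) : x = 0 := by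
  have h := g_comp_eq_zero hT W hinj 0 x
  obtain ⟨φ, rfl⟩ := (Ext.mk₀_bijective _ _).2 x
  rw [Ext.mk₀_comp_mk₀] at h
  have h2 : T.g ≫ φ = 0 := (Ext.mk₀_bijective _ _).1 (h.trans (Ext.mk₀_zero _ _).symm)
  haveI := hT.epi_g
  have h3 : φ = 0 := by
    rw [← cancel_epi T.g, h2, Limits.comp_zero]
  rw [h3, Ext.mk₀_zero]

/-- the connecting homomorphism. -/
noncomputable def delta (n : ℕ) : Ext.{u} T.X₁ W n →ₗ[A] Ext.{u} T.X₃ W (n + 1) :=
  Ext.precompOfLinear hT.extClass A W (add_comm 1 n)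

theorem delta_apply (n : ℕ) (x : Ext.{u} T.X₁ W n) :
    delta hT W n x = hT.extClass.comp x (add_comm 1 n) := rfl

include hinj in
theorem delta_surjective (n : ℕ) : Function.Surjective (delta hT W n) := by
  intro x₃
  obtain ⟨x₁, hx₁⟩ := Ext.contravariant_sequence_exact₃ hT W x₃
    (g_comp_eq_zero hT W hinj (n + 1) x₃) (add_comm 1 n)
  exact ⟨x₁, hx₁⟩

theorem delta_eq_zero_iff (n : ℕ) (x : Ext.{u} T.X₁ W n) :
    delta hT W n x = 0 ↔ ∃ y : Ext.{u} T.X₂ W n, (Ext.mk₀ T.f).comp y (zero_add n) = x := by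
  constructor
  · intro h
    exact Ext.contravariant_sequence_exact₁ hT W x (add_comm 1 n) h
  · rintro ⟨y, rfl⟩
    rw [delta_apply]
    exact hT.extClass_comp_assoc y

end general

section smul

variable {Q C : ModuleCat.{u} A} (a : A) (g : Q ⟶ C) (zero : (a • 𝟙 Q) ≫ g = 0)
  (hT : (ShortComplex.mk (a • 𝟙 Q) g zero).ShortExact) (W : ModuleCat.{u} A)
  (hinj : ∀ (n : ℕ) (x : Ext.{u} Q W n), a • x = 0 → x = 0)

theorem mk₀_smul_comp (n : ℕ) (x : Ext.{u} Q W n) :
    (Ext.mk₀ (a • 𝟙 Q)).comp x (zero_add n) = a • x := by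
  rw [Ext.mk₀_smul, Ext.smul_comp, Ext.mk₀_id_comp]

include hT hinj in
theorem subsingleton_ext_zero : Subsingleton (Ext.{u} C W 0) := by
  refine subsingleton_of_forall_eq 0 fun x => ?_
  refine ext_zero_eq_zero hT W ?_ x
  intro n y hy
  apply hinj
  rw [← mk₀_smul_comp]
  exact hy

include hT hinj in
/-- `Ext^{n+1}(C, W) ≃ Ext^n(Q, W) / a`. -/
theorem nonempty_ext_succ_equiv (n : ℕ) :
    Nonempty (QuotSMulTop a (Ext.{u} Q W n) ≃ₗ[A] Ext.{u} C W (n + 1)) := by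
  have hinj' : ∀ (n : ℕ) (x : Ext.{u} (ShortComplex.mk (a • 𝟙 Q) g zero).X₂ W n),
      (Ext.mk₀ (ShortComplex.mk (a • 𝟙 Q) g zero).f).comp x (zero_add n) = 0 → x = 0 := by
    intro n y hy
    apply hinj
    rw [← mk₀_smul_comp]
    exact hy
  refine ⟨LocFinsupp.quotSMulTopEquivOfExact a (Ext.{u} Q W n) (delta hT W n)
    (delta_surjective hT W hinj' n) ?_⟩
  intro x
  rw [delta_eq_zero_iff]
  constructor
  · rintro ⟨y, hy⟩
    refine ⟨y, ?_⟩
    rw [← mk₀_smul_comp]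
    exact hy
  · rintro ⟨y, hy⟩
    refine ⟨y, ?_⟩
    rw [← hy, ← mk₀_smul_comp]

end smul

end Groth.Agent.Lib.Helper20.ExtLESInj
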