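import Mathlib
import Groth.Agent.Lib.Helper4.ExtLoc
import Groth.Agent.Lib.Helper4.StalkDual

/-!
# `Ext` over a localization is the localized module of `Ext` (finite first argument) (helper20)
-/

set_option autoImplicit false
set_option linter.unusedSectionVars false
set_option linter.unusedVariables false
set_option linter.style.haveILetI false
set_option maxHeartbeats 800000

universe u

open CategoryTheory Abelian

namespace Groth.Agent.Lib.Helper20.ExtLocLin

open Groth.Agent.Lib.Helper4 Groth.Agent.Lib.Helper4.LC

variable {R : Type u} [CommRing R] (S : Submonoid R)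

/-- the `R`-module structure on an `Ext` group over `S⁻¹R`. -/
@[instance_reducible]
noncomputable def extModule (X Y : ModuleCat.{u} (Localization S)) (i : ℕ) :
    Module R (Ext.{u} X Y i) :=
  Module.compHom _ (algebraMap R (Localization S))

attribute [local instance] extModule

theorem extModule_smul (X Y : ModuleCat.{u} (Localization S)) (i : ℕ) (r : R) (x : Ext.{u} X Y i) :
    r • x = algebraMap R (Localization S) r • x := rfl

instance isScalarTower (X Y : ModuleCat.{u} (Localization S)) (i : ℕ) :
    IsScalarTower R (Localization S) (Ext.{u} X Y i) :=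
  IsScalarTower.of_algebraMap_smul fun r x => rfl

/-- the localization map on `Ext`, as an `R`-linear map. -/
noncomputable def PhiLin (N M : ModuleCat.{u} R) (i : ℕ) :
    Ext.{u} N M i →ₗ[R] Ext.{u} ((ExtLoc.LF S).obj N) ((ExtLoc.LF S).obj M) i where
  toFun e := e.mapExactFunctor (ExtLoc.LF S)
  map_add' e e' := Ext.mapExactFunctor_add (ExtLoc.LF S) N M i e e'
  map_smul' r e := ExtLoc.Phi_smul S r e

theorem PhiLin_apply (N M : ModuleCat.{u} R) (i : ℕ) (e : Ext.{u} N M i) :
    PhiLin S N M i e = e.mapExactFunctor (ExtLoc.LF S) := rfl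

/-- **`Ext` commutes with localization** for a finite first argument over a Noetherian ring. -/
theorem isLocalizedModule_PhiLin [IsNoetherianRing R] (N : Type u) [AddCommGroup N] [Module R N]
    [Module.Finite R N] (M : ModuleCat.{u} R) (i : ℕ) :
    IsLocalizedModule S (PhiLin S (ModuleCat.of R N) M i) where
  map_units s := by
    have hu : IsUnit (algebraMap R (Localization S) (s : R)) := IsLocalization.map_units _ s
    rw [Module.End.isUnit_iff]
    constructor
    · intro x y hxy
      have h : algebraMap R (Localization S) (s : R) • x =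
          algebraMap R (Localization S) (s : R) • y := hxy
      exact hu.smul_left_cancel.1 h
    · intro y
      obtain ⟨v, hv⟩ := hu.exists_left_inv
      refine ⟨v • y, ?_⟩
      show algebraMap R (Localization S) (s : R) • v • y = y
      rw [smul_smul, mul_comm, hv, one_smul]
  surj y := by
    obtain ⟨e, s, hes⟩ := (ExtLoc.main S M i N).1 y
    exact ⟨⟨e, s⟩, hes⟩
  exists_of_eq {e e'} h := by
    have h0 : (e - e').mapExactFunctor (ExtLoc.LF S) = 0 := by
      have h1 : PhiLin S (ModuleCat.of R N) M i (e - e') = 0 := by
        rw [map_sub]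
        exact sub_eq_zero.2 h
      exact h1
    obtain ⟨s, hs⟩ := (ExtLoc.main S M i N).2 (e - e') h0
    refine ⟨s, ?_⟩
    rw [smul_sub] at hs
    exact sub_eq_zero.1 hs

/-- the concrete form: `Ext` between the localized modules. -/
noncomputable def concreteEquiv (N M : Type u) [AddCommGroup N] [Module R N] [AddCommGroup M]
    [Module R M] [IsNoetherianRing R] (i : ℕ) :
    Ext.{u} ((ExtLoc.LF S).obj (ModuleCat.of R N)) ((ExtLoc.LF S).obj (ModuleCat.of R M)) i
      ≃ₗ[Localization S]
    Ext.{u} (ModuleCat.of (Localization S) (LocalizedModule S N))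
      (ModuleCat.of (Localization S) (LocalizedModule S M)) i :=
  (extCongrLeft (StalkDual.lfIso S N) _ i).trans (extCongrRight _ (StalkDual.lfIso S M) i)

/-- the concrete localization map
`Ext_R(N, M) → Ext_{S⁻¹R}(S⁻¹N, S⁻¹M)`. -/
noncomputable def PhiConc (N M : Type u) [AddCommGroup N] [Module R N] [AddCommGroup M]
    [Module R M] [IsNoetherianRing R] (i : ℕ) :
    Ext.{u} (ModuleCat.of R N) (ModuleCat.of R M) i →ₗ[R]
      Ext.{u} (ModuleCat.of (Localization S) (LocalizedModule S N))
        (ModuleCat.of (Localization S) (LocalizedModule S M)) i :=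
  ((concreteEquiv S N M i).restrictScalars R).toLinearMap ∘ₗ
    PhiLin S (ModuleCat.of R N) (ModuleCat.of R M) i

instance isLocalizedModule_PhiConc (N M : Type u) [AddCommGroup N] [Module R N] [AddCommGroup M]
    [Module R M] [IsNoetherianRing R] [Module.Finite R N] (i : ℕ) :
    IsLocalizedModule S (PhiConc S N M i) := by
  haveI := isLocalizedModule_PhiLin S N (ModuleCat.of R M) i
  unfold PhiConc
  exact IsLocalizedModule.of_linearEquiv S _ _

end Groth.Agent.Lib.Helper20.ExtLocLin
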