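import Mathlib
import Groth.Agent.Lib.Helper20.GrHeight

/-!
# A non-homogeneous prime is generically principal modulo its homogeneous core (helper20)
-/

set_option autoImplicit false
set_option linter.unusedSectionVars false
set_option linter.unusedVariables false
set_option linter.style.haveILetI false

universe u

open DirectSum

namespace Groth.Agent.Lib.Helper20.GrBassAlg

open Groth.Agent.Lib.Helper20.GrHeight

variable {R : Type u} [CommRing R] (𝒜 : ℤ → AddSubgroup R) [GradedRing 𝒜]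
  (𝔭 : Ideal R) [h𝔭p : 𝔭.IsPrime] (P : Ideal R) [hP : P.IsPrime]
  (h𝔭P : 𝔭 ≤ P) (hcore : ∀ (n : ℤ) (x : R), x ∈ 𝒜 n → x ∈ P → x ∈ 𝔭)

include h𝔭p hP h𝔭P hcore in
/-- If `𝔭 ⊊ P` are primes such that all homogeneous elements of `P` lie in `𝔭`, there is `a ∈ P`
generating `P` modulo `𝔭` up to homogeneous denominators outside `𝔭`. -/
theorem exists_generator (hne : ∃ f, f ∈ P ∧ f ∉ 𝔭) :
    ∃ a, a ∈ P ∧ a ∉ 𝔭 ∧ ∀ g ∈ P, ∃ (s : R) (σ : ℤ) (u : R),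
      s ∈ 𝒜 σ ∧ s ∉ 𝔭 ∧ s * g - u * a ∈ 𝔭 := by
  classical
  have hexP : ∃ L : ℕ, ∃ g ∈ P, g ∉ 𝔭 ∧ ∃ lo : ℤ, Sup 𝒜 𝔭 g lo (lo + L) := by
    obtain ⟨f, hfP, hf𝔭⟩ := hne
    obtain ⟨lo, L, hs⟩ := exists_sup 𝒜 𝔭 f
    exact ⟨L, f, hfP, hf𝔭, lo, hs⟩
  obtain ⟨g₀, hg₀P, hg₀𝔭, a₀, hg₀⟩ := Nat.find_spec hexP
  set L₀ := Nat.find hexP with hL₀def
  have hminP : ∀ L : ℕ, L < L₀ → ∀ p ∈ P, ∀ lo : ℤ, Sup 𝒜 𝔭 p lo (lo + L) → p ∈ 𝔭 := by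
    intro L hL p hp lo hs
    by_contra hp𝔭
    exact Nat.find_min hexP hL ⟨p, hp, hp𝔭, lo, hs⟩
  have hL₀ : 1 ≤ L₀ := by
    by_contra hcon
    have h0 : L₀ = 0 := by omega
    rw [h0, Nat.cast_zero, add_zero] at hg₀
    apply hg₀𝔭
    have h1 : g₀ - comp 𝒜 g₀ a₀ ∈ 𝔭 := by
      have hs : Sup 𝒜 𝔭 (g₀ - comp 𝒜 g₀ a₀) a₀ (a₀ - 1) := by
        intro n hn
        rw [comp_sub]
        by_cases hna : n = a₀
        · rw [hna, comp_of_mem_same 𝒜 (comp_mem 𝒜 g₀ a₀), sub_self]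
          exact 𝔭.zero_mem
        · rw [comp_of_mem_ne 𝒜 (comp_mem 𝒜 g₀ a₀) (Ne.symm hna), sub_zero]
          exact hg₀ n (by rcases hn with h | h <;> [left; right] <;> omega)
      exact hs.mem_of_lt (by omega)
    have h2 : comp 𝒜 g₀ a₀ ∈ P := by
      have := P.sub_mem hg₀P (h𝔭P h1)
      rwa [sub_sub_cancel] at this
    have h3 : comp 𝒜 g₀ a₀ ∈ 𝔭 := hcore a₀ _ (comp_mem 𝒜 g₀ a₀) h2
    have := 𝔭.add_mem h1 h3
    rwa [sub_add_cancel] at this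
  have ht : comp 𝒜 g₀ (a₀ + L₀) ∉ 𝔭 := by
    intro ht
    have hs : Sup 𝒜 𝔭 g₀ a₀ (a₀ + ((L₀ - 1 : ℕ) : ℤ)) := by
      have hcast : ((L₀ - 1 : ℕ) : ℤ) = (L₀ : ℤ) - 1 := by
        rw [Nat.cast_sub hL₀]
        simp
      rw [hcast]
      intro n hn
      by_cases hnb : n = a₀ + L₀
      · rw [hnb]
        exact ht
      · exact hg₀ n (by rcases hn with h | h <;> [left; right] <;> omega)
    exact hg₀𝔭 (hminP (L₀ - 1) (by omega) g₀ hg₀P a₀ hs)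
  have hdiv := exists_pseudo_div P h𝔭P hcore g₀ hg₀P a₀ L₀ hL₀ hg₀ ht hminP
  refine ⟨g₀, hg₀P, hg₀𝔭, ?_⟩
  intro g hg
  obtain ⟨lo, L, hs⟩ := exists_sup 𝒜 𝔭 g
  obtain ⟨s, σ, u, hsm, hs𝔭, hd, -⟩ := hdiv L g hg lo hs
  exact ⟨s, σ, u, hsm, hs𝔭, hd⟩

section core

variable (p : Ideal R) [hp : p.IsPrime]

theorem core_le : (Ideal.homogeneousCore 𝒜 p).toIdeal ≤ p :=
  Ideal.toIdeal_homogeneousCore_le 𝒜 p

theorem mem_core_of_homogeneous (n : ℤ) (x : R) (hx : x ∈ 𝒜 n) (hxp : x ∈ p) :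
    x ∈ (Ideal.homogeneousCore 𝒜 p).toIdeal :=
  Ideal.mem_homogeneousCore_of_homogeneous_of_mem ⟨n, hx⟩ hxp

theorem exists_mem_not_mem_core (hnh : ¬ Ideal.IsHomogeneous 𝒜 p) :
    ∃ f, f ∈ p ∧ f ∉ (Ideal.homogeneousCore 𝒜 p).toIdeal := by
  by_contra hcon
  push Not at hcon
  apply hnh
  have : (Ideal.homogeneousCore 𝒜 p).toIdeal = p := le_antisymm (core_le 𝒜 p) hcon
  rw [← this]
  exact (Ideal.homogeneousCore 𝒜 p).isHomogeneous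

/-- The generator of a non-homogeneous prime modulo its core. -/
theorem exists_generator_core (hnh : ¬ Ideal.IsHomogeneous 𝒜 p)
    [hq : (Ideal.homogeneousCore 𝒜 p).toIdeal.IsPrime] :
    ∃ a, a ∈ p ∧ a ∉ (Ideal.homogeneousCore 𝒜 p).toIdeal ∧ ∀ g ∈ p, ∃ (s : R) (u : R),
      s ∉ p ∧ s * g - u * a ∈ (Ideal.homogeneousCore 𝒜 p).toIdeal := by
  obtain ⟨a, hap, haq, h⟩ := exists_generator 𝒜 (Ideal.homogeneousCore 𝒜 p).toIdeal p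
    (core_le 𝒜 p) (mem_core_of_homogeneous 𝒜 p) (exists_mem_not_mem_core 𝒜 p hnh)
  refine ⟨a, hap, haq, fun g hg => ?_⟩
  obtain ⟨s, σ, u, hs, hsq, hd⟩ := h g hg
  exact ⟨s, u, fun hsp => hsq (mem_core_of_homogeneous 𝒜 p σ s hs hsp), hd⟩

end core

end Groth.Agent.Lib.Helper20.GrBassAlg
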