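import Mathlib
import Groth.Agent.Lib.Helper20.LocFinsupp

/-!
# The sequence `0 → (R/q)_p → (R/q)_p → k(p) → 0` for a generically principal `p/q` (helper20)
-/

set_option autoImplicit false
set_option linter.unusedSectionVars false
set_option linter.unusedVariables false
set_option linter.style.haveILetI false

universe u

open IsLocalRing

namespace Groth.Agent.Lib.Helper20.GrBassSES

variable {R : Type u} [CommRing R] (q p : Ideal R) [hq : q.IsPrime] [hp : p.IsPrime] (hqp : q ≤ p)

/-- the `R`-linear map `R ⧸ q → k(p)`. -/
noncomputable def psi0 : (R ⧸ q) →ₗ[R] ResidueField (Localization.AtPrime p) :=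
  Submodule.liftQ q (Algebra.linearMap R (ResidueField (Localization.AtPrime p))) (by
    intro r hr
    rw [LinearMap.mem_ker, Algebra.linearMap_apply]
    show residue _ (algebraMap R (Localization.AtPrime p) r) = 0
    rw [residue_eq_zero_iff, IsLocalization.AtPrime.to_map_mem_maximal_iff _ p]
    exact hqp hr)

theorem psi0_mk (r : R) : psi0 q p hqp (Ideal.Quotient.mk q r) =
    residue _ (algebraMap R (Localization.AtPrime p) r) := rfl

/-- the `R_p`-linear map `(R ⧸ q)_p → k(p)`. -/
noncomputable def psi : LocalizedModule p.primeCompl (R ⧸ q) →ₗ[Localization.AtPrime p]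
    ResidueField (Localization.AtPrime p) :=
  (LocalizedModule.lift p.primeCompl (psi0 q p hqp)
    (isLocalizedModule_id p.primeCompl (ResidueField (Localization.AtPrime p))
      (Localization.AtPrime p)).map_units).extendScalarsOfIsLocalization p.primeCompl
        (Localization.AtPrime p)

theorem psi_mk_one (x : R ⧸ q) : psi q p hqp (LocalizedModule.mk x 1) = psi0 q p hqp x := by
  unfold psi
  rw [LinearMap.extendScalarsOfIsLocalization_apply']
  exact LocalizedModule.lift_mk_one p.primeCompl (psi0 q p hqp) _ x

theorem smul_psi_mk (x : R ⧸ q) (s : p.primeCompl) :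
    (s : R) • psi q p hqp (LocalizedModule.mk x s) = psi0 q p hqp x := by
  rw [← algebraMap_smul (Localization.AtPrime p) (s : R), ← map_smul, algebraMap_smul,
    LocalizedModule.smul'_mk, ← psi_mk_one]
  congr 1
  have := LocalizedModule.mk_cancel_common_left (S := p.primeCompl) s 1 x
  rw [mul_one] at this
  exact this

theorem smul_injective_residue (s : p.primeCompl) (y : ResidueField (Localization.AtPrime p))
    (h : (s : R) • y = 0) : y = 0 := by
  have hu : IsUnit (algebraMap R (Localization.AtPrime p) (s : R)) :=
    IsLocalization.map_units _ s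
  rw [← algebraMap_smul (Localization.AtPrime p) (s : R)] at h
  exact (hu.smul_eq_zero).1 h

theorem psi_surjective : Function.Surjective (psi q p hqp) := by
  intro y
  obtain ⟨z, rfl⟩ := residue_surjective y
  refine ⟨z • LocalizedModule.mk 1 1, ?_⟩
  rw [map_smul, psi_mk_one]
  have : psi0 q p hqp 1 = 1 := by
    have h1 : psi0 q p hqp (Ideal.Quotient.mk q 1) =
        residue _ (algebraMap R (Localization.AtPrime p) 1) := psi0_mk q p hqp 1
    rw [(algebraMap R (Localization.AtPrime p)).map_one, (residue _).map_one,
      (Ideal.Quotient.mk q).map_one] at h1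
    exact h1
  rw [this]
  show residue _ (z * 1) = residue _ z
  rw [mul_one]

variable (a : R) (hap : a ∈ p) (haq : a ∉ q)

include hap in
theorem psi_smul (y : LocalizedModule p.primeCompl (R ⧸ q)) : psi q p hqp (a • y) = 0 := by
  rw [← algebraMap_smul (Localization.AtPrime p) a, map_smul]
  have h0 : residue _ (algebraMap R (Localization.AtPrime p) a) = 0 := by
    rw [residue_eq_zero_iff, IsLocalization.AtPrime.to_map_mem_maximal_iff _ p]
    exact hap
  obtain ⟨z, hz⟩ := residue_surjective (psi q p hqp y)
  rw [← hz]
  show residue _ (algebraMap R (Localization.AtPrime p) a * z) = 0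
  rw [map_mul, h0, zero_mul]

include hqp haq in
theorem smul_injective (y : LocalizedModule p.primeCompl (R ⧸ q)) (h : a • y = 0) : y = 0 := by
  induction y using LocalizedModule.induction_on with
  | _ x s =>
    obtain ⟨r, rfl⟩ := Ideal.Quotient.mk_surjective x
    rw [LocalizedModule.smul'_mk, ← LocalizedModule.zero_mk s, LocalizedModule.mk_eq] at h
    obtain ⟨u, hu⟩ := h
    rw [smul_zero, smul_zero] at hu
    have h1 : Ideal.Quotient.mk q ((u : R) * ((s : R) * (a * r))) = 0 := by
      rw [← hu]
      rfl
    rw [Ideal.Quotient.eq_zero_iff_mem] at h1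
    have hr : r ∈ q := by
      rcases hq.mem_or_mem h1 with h | h
      · exact absurd (hqp h) u.2
      · rcases hq.mem_or_mem h with h | h
        · exact absurd (hqp h) s.2
        · rcases hq.mem_or_mem h with h | h
          · exact absurd h haq
          · exact h
    have : Ideal.Quotient.mk q r = 0 := Ideal.Quotient.eq_zero_iff_mem.2 hr
    rw [this, LocalizedModule.zero_mk]

variable (hgen : ∀ g ∈ p, ∃ (s : R) (u : R), s ∉ p ∧ s * g - u * a ∈ q)

include hgen in
theorem exists_smul_of_psi_eq_zero (y : LocalizedModule p.primeCompl (R ⧸ q))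
    (h : psi q p hqp y = 0) : ∃ z : LocalizedModule p.primeCompl (R ⧸ q), a • z = y := by
  induction y using LocalizedModule.induction_on with
  | _ x s =>
    obtain ⟨r, rfl⟩ := Ideal.Quotient.mk_surjective x
    have h1 := smul_psi_mk q p hqp (Ideal.Quotient.mk q r) s
    rw [h, smul_zero, psi0_mk] at h1
    have hr : r ∈ p := by
      rw [← IsLocalization.AtPrime.to_map_mem_maximal_iff (Localization.AtPrime p) p,
        ← residue_eq_zero_iff]
      exact h1.symm
    obtain ⟨t, u, ht, hd⟩ := hgen r hr
    refine ⟨LocalizedModule.mk (Ideal.Quotient.mk q u) (⟨t, ht⟩ * s), ?_⟩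
    rw [LocalizedModule.smul'_mk, ← LocalizedModule.mk_cancel_common_left ⟨t, ht⟩ s]
    congr 1
    show Ideal.Quotient.mk q (a * u) = Ideal.Quotient.mk q (t * r)
    rw [eq_comm, Ideal.Quotient.eq, mul_comm a u]
    exact hd

include hap hgen in
theorem psi_eq_zero_iff (y : LocalizedModule p.primeCompl (R ⧸ q)) :
    psi q p hqp y = 0 ↔
      ∃ z : LocalizedModule p.primeCompl (R ⧸ q), algebraMap R (Localization.AtPrime p) a • z = y := by
  constructor
  · intro h
    obtain ⟨z, hz⟩ := exists_smul_of_psi_eq_zero q p hqp a hgen y h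
    exact ⟨z, by rw [algebraMap_smul]; exact hz⟩
  · rintro ⟨z, rfl⟩
    rw [algebraMap_smul]
    exact psi_smul q p hqp a hap z

include hqp haq in
theorem smul_injective' : Function.Injective
    fun y : LocalizedModule p.primeCompl (R ⧸ q) => algebraMap R (Localization.AtPrime p) a • y := by
  intro y y' h
  have h1 : a • (y - y') = 0 := by
    have : algebraMap R (Localization.AtPrime p) a • (y - y') = 0 := by
      rw [smul_sub]
      exact sub_eq_zero.2 h
    rwa [algebraMap_smul] at this
  exact sub_eq_zero.1 (smul_injective q p hqp a haq _ h1)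

include hqp hap hgen in
/-- `(R/q)_p / a ≃ k(p)`. -/
theorem length_quotSMulTop : Module.length (Localization.AtPrime p)
    (QuotSMulTop (algebraMap R (Localization.AtPrime p) a)
      (LocalizedModule p.primeCompl (R ⧸ q))) = 1 := by
  rw [(LocFinsupp.quotSMulTopEquivOfExact _ _ (psi q p hqp) (psi_surjective q p hqp)
    (psi_eq_zero_iff q p hqp a hap hgen)).length_eq]
  haveI := Groth.Agent.Lib.Helper1.Matlis.isSimpleModule_residueField
    (R := Localization.AtPrime p)
  exact Module.length_eq_one _ _

end Groth.Agent.Lib.Helper20.GrBassSES
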