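import Mathlib
import Groth.Prelude.Def_GrLC
import Groth.Agent.Lib.Helper20.GrLCExt
import Groth.Agent.Lib.Helper4.LD6

/-!
# `Ext^i_R(R ⧸ J, M)` is gradable for graded `M` and homogeneous `J` (helper20)
-/

set_option autoImplicit false
set_option linter.unusedSectionVars false
set_option linter.unusedVariables false
set_option linter.style.haveILetI false
universe u

namespace Groth.Agent.Lib.Helper20.GrExtGraded

open Groth.Agent.Lib.Helper20.GrLCBasic Groth.Agent.Lib.Helper20.GrLCQuot
  Groth.Agent.Lib.Helper20.GrLCCofree Groth.Agent.Lib.Helper20.GrLCExt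
open CategoryTheory Abelian Groth.Agent.Lib.Helper4.LC

section tor

variable {R : Type u} [CommRing R] (J : Ideal R)

/-- Elements killed by `J`. -/
def tor (M : Type u) [AddCommGroup M] [Module R M] : Submodule R M where
  carrier := {x | ∀ r ∈ J, r • x = 0}
  add_mem' := by
    intro a b ha hb r hr
    rw [smul_add, ha r hr, hb r hr, add_zero]
  zero_mem' := fun r _ => smul_zero r
  smul_mem' := by
    intro c x hx r hr
    rw [smul_comm, hx r hr, smul_zero]

theorem smul_tor {M : Type u} [AddCommGroup M] [Module R M] {r : R} (hr : r ∈ J) (x : tor J M) :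
    r • x = 0 := Subtype.ext (x.2 r hr)

/-- `Hom(R ⧸ J, M) ≃ (0 :_M J)`. -/
noncomputable def homQuotEquiv (M : Type u) [AddCommGroup M] [Module R M] :
    ((R ⧸ J) →ₗ[R] M) ≃ₗ[R] tor J M where
  toFun φ := ⟨φ 1, fun r hr => by
    rw [← map_smul]
    have : r • (1 : R ⧸ J) = 0 := by
      have h1 : r • (1 : R ⧸ J) = Ideal.Quotient.mk J (r * 1) := rfl
      rw [h1, mul_one, Ideal.Quotient.eq_zero_iff_mem]
      exact hr
    rw [this, map_zero]⟩
  map_add' φ ψ := rfl
  map_smul' c φ := rfl
  invFun x := Submodule.liftQ J (LinearMap.toSpanSingleton R M x.1) (by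
    intro r hr
    rw [LinearMap.mem_ker, LinearMap.toSpanSingleton_apply]
    exact x.2 r hr)
  left_inv φ := by
    apply LinearMap.ext
    intro y
    obtain ⟨r, rfl⟩ := Ideal.Quotient.mk_surjective y
    have h1 : Ideal.Quotient.mk J r = r • (1 : R ⧸ J) := by
      have : r • (1 : R ⧸ J) = Ideal.Quotient.mk J (r * 1) := rfl
      rw [this, mul_one]
    show Submodule.liftQ J _ _ (Submodule.Quotient.mk r) = _
    rw [Submodule.liftQ_apply, LinearMap.toSpanSingleton_apply, h1, map_smul]
  right_inv x := by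
    apply Subtype.ext
    show Submodule.liftQ J _ _ (Submodule.Quotient.mk (1 : R)) = _
    rw [Submodule.liftQ_apply, LinearMap.toSpanSingleton_apply, one_smul]

theorem homQuotEquiv_apply (M : Type u) [AddCommGroup M] [Module R M] (φ : (R ⧸ J) →ₗ[R] M) :
    ((homQuotEquiv J M φ : tor J M) : M) = φ 1 := rfl

theorem homQuotEquiv_symm_apply_one (M : Type u) [AddCommGroup M] [Module R M] (x : tor J M) :
    (homQuotEquiv J M).symm x 1 = x.1 := by
  have := (homQuotEquiv J M).apply_symm_apply x
  exact congrArg Subtype.val this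

end tor

section graded

variable {ι : Type} [AddCommGroup ι] [DecidableEq ι] {R : Type u} [CommRing R]
  (𝒜 : ι → AddSubgroup R) [GradedRing 𝒜] (J : Ideal R) (hJ : J.IsHomogeneous 𝒜)

include hJ in
theorem tor_isHomogeneous {M : Type u} [AddCommGroup M] [Module R M] (ℳ : ι → AddSubgroup M)
    [DirectSum.Decomposition ℳ] [SetLike.GradedSMul 𝒜 ℳ] : (tor J M).IsHomogeneous ℳ := by
  classical
  intro g x hx r hr
  -- reduce to homogeneous `r`
  rw [← DirectSum.sum_support_decompose 𝒜 r, Finset.sum_smul]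
  refine Finset.sum_eq_zero fun d _ => ?_
  have hrd : ((DirectSum.decompose 𝒜 r d : 𝒜 d) : R) ∈ J := hJ d hr
  have h1 := decompose_smul_left 𝒜 ℳ (DirectSum.decompose 𝒜 r d).2 x g
  rw [hx _ hrd, DirectSum.decompose_zero, DirectSum.zero_apply] at h1
  exact h1.symm

end graded

section main

variable {ι : Type} [AddCommGroup ι] [DecidableEq ι] {R : Type u} [CommRing R] [IsNoetherianRing R]
  (𝒜 : ι → AddSubgroup R) [GradedRing 𝒜] (J : Ideal R) (hJ : J.IsHomogeneous 𝒜)

include hJ in
/-- `Ext^{i+1}(R ⧸ J, I) = 0` for `I` *injective and `J` homogeneous. -/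
theorem key_all {I : Type u} [AddCommGroup I] [Module R I] (ℐ : ι → AddSubgroup I)
    [DirectSum.Decomposition ℐ] [SetLike.GradedSMul 𝒜 ℐ] (hI : GrLC.IsStarInj 𝒜 ℐ) (i : ℕ) :
    Subsingleton (Ext.{u} (ModuleCat.of R (R ⧸ J)) (ModuleCat.of R I) (i + 1)) := by
  let _ : DirectSum.Decomposition (GrLCQuot.quotGr 𝒜 (J : Submodule R R)) :=
    (isInternal_quotGr 𝒜 (J : Submodule R R) hJ).chooseDecomposition
  exact van_of_isStarInj 𝒜 ℐ hI i (R ⧸ J) (GrLCQuot.quotGr 𝒜 (J : Submodule R R))

include hJ in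
/-- **Gradability of `Ext^i(R ⧸ J, M)`.** -/
theorem exists_graded_ext : ∀ (i : ℕ) (M : GrLC.GMod.{u} 𝒜),
    ∃ X : GrLC.GMod.{u} 𝒜, (∀ r ∈ J, ∀ x : X.carrier, r • x = 0) ∧
      Nonempty (Ext.{u} (ModuleCat.of R (R ⧸ J)) (ModuleCat.of R M.carrier) i ≃ₗ[R]
        X.carrier) := by
  intro i
  induction i with
  | zero =>
    intro M
    refine ⟨subGMod M (tor J M.carrier) (tor_isHomogeneous 𝒜 J hJ M.gr), ?_, ?_⟩
    · intro r hr x
      exact smul_tor J hr x
    · exact ⟨(extZeroEquiv (R ⧸ J) M.carrier).trans (homQuotEquiv J M.carrier)⟩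
  | succ i ih =>
    intro M
    obtain ⟨E, ε, hE, hεgr, hεinj⟩ := exists_starInj_embedding 𝒜 M.gr
    have hrange : (LinearMap.range ε).IsHomogeneous E.gr := range_isHomogeneous M.gr E.gr ε hεgr
    let M' := quotGMod E (LinearMap.range ε) hrange
    let π : E.carrier →ₗ[R] M'.carrier := (LinearMap.range ε).mkQ
    have hex : Function.Exact ε π := LinearMap.exact_map_mkQ_range ε
    let S : ShortComplex (ModuleCat.{u} R) :=
      ModuleCat.shortComplexOfCompEqZero ε π hex.linearMap_comp_eq_zero
    have hS : S.ShortExact := ModuleCat.shortComplex_shortExact S hex hεinj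
      (Submodule.mkQ_surjective _)
    have hvan : ∀ k, Subsingleton (Ext.{u} (ModuleCat.of R (R ⧸ J)) S.X₂ (k + 1)) :=
      fun k => key_all 𝒜 J hJ E.gr hE k
    cases i with
    | zero =>
      -- degree one
      have hπgr : GrLC.IsGrHom E.gr M'.gr π := mkQ_isGrHom E.gr (LinearMap.range ε)
      let TE := subGMod E (tor J E.carrier) (tor_isHomogeneous 𝒜 J hJ E.gr)
      let TM := subGMod M' (tor J M'.carrier) (tor_isHomogeneous 𝒜 J hJ M'.gr)
      have hρ : ∀ x ∈ tor J E.carrier, π x ∈ tor J M'.carrier := by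
        intro x hx r hr
        rw [← map_smul, hx r hr, map_zero]
      let ρ : TE.carrier →ₗ[R] TM.carrier := π.restrict hρ
      have hρgr : GrLC.IsGrHom TE.gr TM.gr ρ := by
        intro g x hx
        exact hπgr g x.1 hx
      let Δ : TM.carrier →ₗ[R] Ext.{u} (ModuleCat.of R (R ⧸ J)) (ModuleCat.of R M.carrier) 1 :=
        (Ext.postcompOfLinear hS.extClass R (ModuleCat.of R (R ⧸ J)) (zero_add 1)) ∘ₗ
          ((extZeroEquiv (R ⧸ J) M'.carrier).symm.toLinearMap ∘ₗ
            (homQuotEquiv J M'.carrier).symm.toLinearMap)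
      have hΔapp : ∀ t : TM.carrier, Δ t =
          (Ext.mk₀ (ModuleCat.ofHom ((homQuotEquiv J M'.carrier).symm t))).comp hS.extClass
            (zero_add 1) := fun t => rfl
      have hΔsurj : Function.Surjective Δ := by
        intro x₁
        have h0 : x₁.comp (Ext.mk₀ S.f) (add_zero 1) = 0 := (hvan 0).elim _ _
        obtain ⟨x₃, hx₃⟩ := Ext.covariant_sequence_exact₁ (ModuleCat.of R (R ⧸ J)) hS x₁ h0
          (zero_add 1)
        obtain ⟨φ₃, rfl⟩ := (Ext.mk₀_bijective _ _).2 x₃
        refine ⟨homQuotEquiv J M'.carrier φ₃.hom, ?_⟩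
        rw [hΔapp, LinearEquiv.symm_apply_apply]
        exact hx₃
      have hker : LinearMap.ker Δ = LinearMap.range ρ := by
        ext t
        rw [LinearMap.mem_ker, hΔapp]
        constructor
        · intro h0
          obtain ⟨x₂, hx₂⟩ := Ext.covariant_sequence_exact₃ (ModuleCat.of R (R ⧸ J)) hS _
            (zero_add 1) h0
          obtain ⟨φ₂, rfl⟩ := (Ext.mk₀_bijective _ _).2 x₂
          rw [Ext.mk₀_comp_mk₀] at hx₂
          have h1 := (Ext.mk₀_bijective _ _).1 hx₂
          have h2 : π (φ₂.hom 1) = ((homQuotEquiv J M'.carrier).symm t) 1 := by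
            have := congrArg (fun k => k.hom (1 : R ⧸ J)) h1
            exact this
          rw [homQuotEquiv_symm_apply_one] at h2
          refine ⟨homQuotEquiv J E.carrier φ₂.hom, ?_⟩
          apply Subtype.ext
          exact h2
        · rintro ⟨y, rfl⟩
          have h1 : Ext.mk₀ (ModuleCat.ofHom ((homQuotEquiv J M'.carrier).symm (ρ y))) =
              (Ext.mk₀ (ModuleCat.ofHom ((homQuotEquiv J E.carrier).symm y))).comp
                (Ext.mk₀ S.g) (zero_add 0) := by
            rw [Ext.mk₀_comp_mk₀]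
            congr 1
            apply ModuleCat.hom_ext
            apply LinearMap.ext
            intro z
            obtain ⟨r, rfl⟩ := Ideal.Quotient.mk_surjective z
            have hz : Ideal.Quotient.mk J r = r • (1 : R ⧸ J) := by
              have : r • (1 : R ⧸ J) = Ideal.Quotient.mk J (r * 1) := rfl
              rw [this, mul_one]
            show ((homQuotEquiv J M'.carrier).symm (ρ y)) (Ideal.Quotient.mk J r) =
              π (((homQuotEquiv J E.carrier).symm y) (Ideal.Quotient.mk J r))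
            rw [hz, map_smul, map_smul, map_smul, homQuotEquiv_symm_apply_one,
              homQuotEquiv_symm_apply_one]
            rfl
          rw [h1, Ext.comp_assoc_of_second_deg_zero, hS.comp_extClass, Ext.comp_zero]
      have hkerhom : (LinearMap.ker Δ).IsHomogeneous TM.gr := by
        rw [hker]
        exact range_isHomogeneous TE.gr TM.gr ρ hρgr
      have hq : ∀ r ∈ J, ∀ x : TM.carrier ⧸ LinearMap.ker Δ, r • x = 0 := by
        intro r hr x
        obtain ⟨x', rfl⟩ := Submodule.Quotient.mk_surjective _ x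
        rw [← Submodule.Quotient.mk_smul]
        have : r • x' = 0 := smul_tor J hr x'
        rw [this, Submodule.Quotient.mk_zero]
      refine ⟨quotGMod TM (LinearMap.ker Δ) hkerhom, ?_, ?_⟩
      · intro r hr x
        exact hq r hr x
      · exact ⟨(LinearMap.quotKerEquivOfSurjective Δ hΔsurj).symm⟩
    | succ j =>
      obtain ⟨X, hX, ⟨eX⟩⟩ := ih M'
      refine ⟨X, hX, ⟨LinearEquiv.trans (LinearEquiv.symm (LinearEquiv.ofBijective
        (Ext.postcompOfLinear hS.extClass R (ModuleCat.of R (R ⧸ J))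
          (rfl : j + 1 + 1 = j + 1 + 1)) ⟨?_, ?_⟩)) eX⟩⟩
      · rw [injective_iff_map_eq_zero]
        intro x₃ hx₃
        obtain ⟨x₂, hx₂⟩ := Ext.covariant_sequence_exact₃ (ModuleCat.of R (R ⧸ J)) hS x₃ rfl hx₃
        rw [← hx₂, (hvan j).elim x₂ 0, Ext.zero_comp]
      · intro x₁
        have h0 : x₁.comp (Ext.mk₀ S.f) (add_zero (j + 1 + 1)) = 0 := (hvan (j + 1)).elim _ _
        exact Ext.covariant_sequence_exact₁ (ModuleCat.of R (R ⧸ J)) hS x₁ h0 rfl

end main

end Groth.Agent.Lib.Helper20.GrExtGraded
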