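import Mathlib
import Groth.Prelude.Def_GrLC
import Groth.Agent.Lib.Helper20.GrLCBasic
import Groth.Agent.Lib.Helper20.GrExtGraded

/-!
# Generic freeness of graded modules killed by a homogeneous prime (helper20)
-/

set_option autoImplicit false
set_option linter.unusedSectionVars false
set_option linter.unusedVariables false
set_option linter.style.haveILetI false
universe u

namespace Groth.Agent.Lib.Helper20.GrGenFree

open Groth.Agent.Lib.Helper20.GrLCBasic Groth.Agent.Lib.Helper20.GrExtGraded

variable {ι : Type} [AddCommGroup ι] [DecidableEq ι] {R : Type u} [CommRing R]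
  (𝒜 : ι → AddSubgroup R) [GradedRing 𝒜] (q : Ideal R) [hqp : q.IsPrime]
  (hq : q.IsHomogeneous 𝒜)
  {X : Type u} [AddCommGroup X] [Module R X] (𝓧 : ι → AddSubgroup X) [DirectSum.Decomposition 𝓧]
  [SetLike.GradedSMul 𝒜 𝓧]

/-- `q`-independence of a set of elements. -/
def QInd (s : Set X) : Prop :=
  ∀ c : X →₀ R, (c.support : Set X) ⊆ s → (c.sum fun x r => r • x) = 0 → ∀ x, c x ∈ q

/-- A `q`-independent set of homogeneous elements. -/
def Good (s : Set X) : Prop := (∀ x ∈ s, ∃ g, x ∈ 𝓧 g) ∧ QInd q s

theorem exists_maximal : ∃ s : Set X, Maximal (fun t => Good q 𝓧 t) s := by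
  refine zorn_subset {t | Good q 𝓧 t} ?_
  intro c hc hchain
  by_cases hne : c.Nonempty
  · refine ⟨⋃₀ c, ⟨?_, ?_⟩, fun s hs => Set.subset_sUnion_of_mem hs⟩
    · intro x hx
      obtain ⟨t, ht, hxt⟩ := Set.mem_sUnion.mp hx
      exact (hc ht).1 x hxt
    · intro co hco hsum
      obtain ⟨t, ht, hsub⟩ := DirectedOn.exists_mem_subset_of_finite_of_subset_sUnion hne
        hchain.directedOn (co.support.finite_toSet) hco
      exact (hc ht).2 co hsub hsum
  · refine ⟨∅, ⟨fun x hx => absurd hx (Set.notMem_empty x), ?_⟩, fun s hs => absurd ⟨s, hs⟩ hne⟩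
    intro co hco _ x
    have : co = 0 := by
      rw [← Finsupp.support_eq_empty]
      exact Finset.coe_eq_empty.mp (Set.subset_empty_iff.mp hco)
    rw [this]
    exact q.zero_mem

variable (hkill : ∀ r ∈ q, ∀ x : X, r • x = 0)

include hq hkill in
/-- For a maximal good set, every homogeneous element is generically in the span. -/
theorem exists_smul_mem_span_of_homogeneous {s : Set X} (hs : Maximal (fun t => Good q 𝓧 t) s)
    {x : X} {g : ι} (hx : x ∈ 𝓧 g) :
    ∃ t : R, (∃ d, t ∈ 𝒜 d) ∧ t ∉ q ∧ t • x ∈ Submodule.span R s := by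
  classical
  by_cases hxs : x ∈ s
  · refine ⟨1, ⟨0, SetLike.GradedOne.one_mem⟩, ?_, ?_⟩
    · intro h1
      exact hqp.ne_top ((Ideal.eq_top_iff_one q).mpr h1)
    · rw [one_smul]
      exact Submodule.subset_span hxs
  · have hnot : ¬ Good q 𝓧 (insert x s) := by
      intro hgood
      exact hxs (hs.2 hgood (Set.subset_insert x s) (Set.mem_insert x s))
    have hhom : ∀ y ∈ insert x s, ∃ g', y ∈ 𝓧 g' := by
      intro y hy
      rcases Set.mem_insert_iff.mp hy with rfl | hy
      · exact ⟨g, hx⟩
      · exact hs.1.1 y hy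
    have hnq : ¬ QInd q (insert x s) := fun h => hnot ⟨hhom, h⟩
    unfold QInd at hnq
    push Not at hnq
    obtain ⟨co, hco, hsum, y₀, hy₀⟩ := hnq
    have hsumF : ∑ y ∈ co.support, co y • y = 0 := hsum
    have hx0 : co x • x = 0 ∨ True := Or.inr trivial
    -- the coefficient of `x` is not in `q`
    have hc0 : co x ∉ q := by
      intro hc0
      have hcx : co x • x = 0 := hkill _ hc0 x
      have hsum' : ((co.erase x).sum fun y r => r • y) = 0 := by
        show ∑ y ∈ (co.erase x).support, (co.erase x) y • y = 0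
        rw [Finsupp.support_erase]
        have h1 : ∑ y ∈ co.support.erase x, (co.erase x) y • y =
            ∑ y ∈ co.support.erase x, co y • y := by
          refine Finset.sum_congr rfl fun y hy => ?_
          rw [Finsupp.erase_ne (Finset.ne_of_mem_erase hy)]
        rw [h1, Finset.sum_erase co.support (f := fun y => co y • y) hcx]
        exact hsumF
      have hsub' : ((co.erase x).support : Set X) ⊆ s := by
        intro y hy
        rw [Finsupp.support_erase, Finset.mem_coe] at hy
        have hyne := Finset.ne_of_mem_erase hy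
        have hy' := hco (Finset.mem_coe.mpr (Finset.mem_of_mem_erase hy))
        rcases Set.mem_insert_iff.mp hy' with h | h
        · exact absurd h hyne
        · exact h
      have hall := hs.1.2 (co.erase x) hsub' hsum'
      by_cases hyx : y₀ = x
      · exact hy₀ (hyx ▸ hc0)
      · have := hall y₀
        rw [Finsupp.erase_ne hyx] at this
        exact hy₀ this
    -- a homogeneous component of the coefficient which is not in `q`
    obtain ⟨d, hd⟩ : ∃ d, ((DirectSum.decompose 𝒜 (co x) d : 𝒜 d) : R) ∉ q := by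
      by_contra hcon
      push Not at hcon
      apply hc0
      rw [← DirectSum.sum_support_decompose 𝒜 (co x)]
      exact q.sum_mem fun d _ => hcon d
    refine ⟨((DirectSum.decompose 𝒜 (co x) d : 𝒜 d) : R), ⟨d, SetLike.coe_mem _⟩, hd, ?_⟩
    have hxsupp : x ∈ co.support := by
      rw [Finsupp.mem_support_iff]
      intro h0
      exact hc0 (h0 ▸ q.zero_mem)
    have hcomp := congrArg (Groth.Agent.Lib.Helper20.GrLCExt.compAdd 𝓧 (d + g)) hsumF
    rw [map_sum, map_zero, ← Finset.add_sum_erase _ _ hxsupp,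
      Groth.Agent.Lib.Helper20.GrLCExt.compAdd_apply, decompose_smul_right 𝒜 𝓧 hx (co x) d] at hcomp
    rw [eq_neg_of_add_eq_zero_left hcomp]
    refine Submodule.neg_mem _ (Submodule.sum_mem _ fun y hy => ?_)
    have hyne := Finset.ne_of_mem_erase hy
    have hy' := hco (Finset.mem_coe.mpr (Finset.mem_of_mem_erase hy))
    have hys : y ∈ s := by
      rcases Set.mem_insert_iff.mp hy' with h | h
      · exact absurd h hyne
      · exact h
    obtain ⟨gy, hgy⟩ := hs.1.1 y hys
    obtain ⟨t, ht⟩ : ∃ t, d + g = t + gy := ⟨d + g - gy, (sub_add_cancel _ _).symm⟩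
    rw [Groth.Agent.Lib.Helper20.GrLCExt.compAdd_apply, ht, decompose_smul_right 𝒜 𝓧 hgy (co y) t]
    exact Submodule.smul_mem _ _ (Submodule.subset_span hys)

include hq hkill in
/-- For a maximal good set, every element is generically in the span. -/
theorem exists_smul_mem_span {s : Set X} (hs : Maximal (fun t => Good q 𝓧 t) s) (x : X) :
    ∃ t : R, (∃ d, t ∈ 𝒜 d) ∧ t ∉ q ∧ t • x ∈ Submodule.span R s := by
  induction x using DirectSum.Decomposition.inductionOn 𝓧 with
  | zero =>
    refine ⟨1, ⟨0, SetLike.GradedOne.one_mem⟩, ?_, by rw [smul_zero]; exact Submodule.zero_mem _⟩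
    intro h1
    exact hqp.ne_top ((Ideal.eq_top_iff_one q).mpr h1)
  | @homogeneous i m => exact exists_smul_mem_span_of_homogeneous 𝒜 q hq 𝓧 hkill hs m.2
  | add a b ha hb =>
    obtain ⟨t₁, ⟨d₁, hd₁⟩, ht₁, h₁⟩ := ha
    obtain ⟨t₂, ⟨d₂, hd₂⟩, ht₂, h₂⟩ := hb
    refine ⟨t₁ * t₂, ⟨d₁ + d₂, SetLike.GradedMul.mul_mem hd₁ hd₂⟩, ?_, ?_⟩
    · intro h
      rcases hqp.mem_or_mem h with h | h
      · exact ht₁ h
      · exact ht₂ h
    · rw [smul_add]
      refine Submodule.add_mem _ ?_ ?_
      · rw [mul_comm, mul_smul]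
        exact Submodule.smul_mem _ _ h₁
      · rw [mul_smul]
        exact Submodule.smul_mem _ _ h₂

/-- A section of the quotient map sending `0` to `0`. -/
noncomputable def sec (z : R ⧸ q) : R :=
  open Classical in if z = 0 then 0 else Function.surjInv Ideal.Quotient.mk_surjective z

theorem mk_sec (z : R ⧸ q) : Ideal.Quotient.mk q (sec q z) = z := by
  unfold sec
  split_ifs with h
  · rw [h, map_zero]
  · exact Function.surjInv_eq Ideal.Quotient.mk_surjective z

theorem sec_zero : sec q (0 : R ⧸ q) = 0 := by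
  unfold sec
  rw [if_pos rfl]

include hkill in
theorem quot_apply_eq (j : X) (z : R ⧸ q) :
    ((homQuotEquiv q X).symm ⟨j, fun r hr => hkill r hr j⟩) z = sec q z • j := by
  conv_lhs => rw [← mk_sec q z]
  have h1 : Ideal.Quotient.mk q (sec q z) = sec q z • (1 : R ⧸ q) := by
    have : sec q z • (1 : R ⧸ q) = Ideal.Quotient.mk q (sec q z * 1) := rfl
    rw [this, mul_one]
  rw [h1, map_smul, homQuotEquiv_symm_apply_one]

include hq hkill 𝓧 in
/-- **Generic freeness**: a graded module killed by a homogeneous prime `q` contains a free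
`R ⧸ q`-module whose cokernel is killed, elementwise, by homogeneous elements outside `q`. -/
theorem exists_generic_basis : ∃ (s : Set X) (Φ : (s →₀ R ⧸ q) →ₗ[R] X), Function.Injective Φ ∧
    ∀ x : X, ∃ t : R, (∃ d, t ∈ 𝒜 d) ∧ t ∉ q ∧ t • x ∈ LinearMap.range Φ := by
  classical
  obtain ⟨s, hs⟩ := exists_maximal q 𝓧
  let hom : s → ((R ⧸ q) →ₗ[R] X) := fun j =>
    (homQuotEquiv q X).symm ⟨j.1, fun r hr => hkill r hr j.1⟩
  let Φ : (s →₀ R ⧸ q) →ₗ[R] X := Finsupp.lsum R hom
  have hΦ : ∀ c : s →₀ R ⧸ q, Φ c = ∑ j ∈ c.support, sec q (c j) • (j : X) := by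
    intro c
    show (Finsupp.lsum R hom) c = _
    rw [Finsupp.lsum_apply]
    refine Finset.sum_congr rfl fun j _ => ?_
    exact quot_apply_eq q hkill j.1 (c j)
  refine ⟨s, Φ, ?_, ?_⟩
  · rw [injective_iff_map_eq_zero]
    intro c hc
    let c' : s →₀ R := c.mapRange (sec q) (sec_zero q)
    let co : X →₀ R := c'.mapDomain Subtype.val
    have hsupp : (co.support : Set X) ⊆ s := by
      intro y hy
      have := Finsupp.mapDomain_support hy
      obtain ⟨j, -, rfl⟩ := Finset.mem_image.mp this
      exact j.2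
    have hsum : (co.sum fun x r => r • x) = 0 := by
      show ((c.mapRange (sec q) (sec_zero q)).mapDomain Subtype.val).sum (fun x r => r • x) = 0
      rw [Finsupp.sum_mapDomain_index_inj Subtype.val_injective,
        Finsupp.sum_mapRange_index (h := fun (a : s) (b : R) => b • (a : X))
          (fun j => zero_smul R (j : X))]
      rw [hΦ] at hc
      exact hc
    have hall := hs.1.2 co hsupp hsum
    ext j
    have h1 := hall j.1
    rw [Finsupp.mapDomain_apply Subtype.val_injective, Finsupp.mapRange_apply] at h1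
    rw [Finsupp.zero_apply, ← mk_sec q (c j), Ideal.Quotient.eq_zero_iff_mem]
    exact h1
  · intro x
    obtain ⟨t, ht, htq, hmem⟩ := exists_smul_mem_span 𝒜 q hq 𝓧 hkill hs x
    refine ⟨t, ht, htq, ?_⟩
    have hle : Submodule.span R s ≤ LinearMap.range Φ := by
      rw [Submodule.span_le]
      intro j hj
      refine ⟨Finsupp.single ⟨j, hj⟩ 1, ?_⟩
      show (Finsupp.lsum R hom) (Finsupp.single ⟨j, hj⟩ 1) = j
      rw [Finsupp.lsum_single]
      exact homQuotEquiv_symm_apply_one q X _
    exact hle hmem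

end Groth.Agent.Lib.Helper20.GrGenFree
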