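import Mathlib
import Groth.Prelude.Def_GrLC
import Groth.Prelude.Def_GrLC2
import Groth.Agent.Lib.Helper20.GrExtGraded
import Groth.Agent.Lib.Helper20.GrGenFree
import Groth.Agent.Lib.Helper20.GrBassAlg
import Groth.Agent.Lib.Helper20.GrBassSES
import Groth.Agent.Lib.Helper20.ExtLocLin
import Groth.Agent.Lib.Helper20.ExtLESInj
import Groth.Agent.Lib.Helper4.GorLoc

/-!
# Bass numbers at a non-homogeneous prime of a `ℤ`-graded ring (helper20)
-/

set_option autoImplicit false
set_option linter.unusedSectionVars false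
set_option linter.unusedVariables false
set_option linter.style.haveILetI false
set_option maxHeartbeats 1600000

universe u

open CategoryTheory Abelian IsLocalRing

namespace Groth.Agent.Lib.Helper20.GrBassMain

open Groth.Agent.Lib.Helper4 Groth.Agent.Lib.Helper4.LC

variable {R : Type u} [CommRing R] [IsNoetherianRing R] (𝒜 : ℤ → AddSubgroup R) [GradedRing 𝒜]
  (M : Type u) [AddCommGroup M] [Module R M] (ℳ : ℤ → AddSubgroup M) [DirectSum.Decomposition ℳ]
  [SetLike.GradedSMul 𝒜 ℳ]
  (q : Ideal R) [hqp : q.IsPrime] (hq : q.IsHomogeneous 𝒜)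

attribute [local instance] ExtLocLin.extModule

include hq ℳ in
/-- After inverting the homogeneous elements outside `q`, `Ext^n(R/q, M)` becomes free over
`R/q`, on a set not depending on the multiplicative set. -/
theorem exists_structure (n : ℕ) : ∃ s : Type u, ∀ (S : Submonoid R),
    (∀ (t : R) (d : ℤ), t ∈ 𝒜 d → t ∉ q → t ∈ S) →
    Nonempty ((s →₀ LocalizedModule S (R ⧸ q)) ≃ₗ[Localization S]
      Ext.{u} (ModuleCat.of (Localization S) (LocalizedModule S (R ⧸ q)))
        (ModuleCat.of (Localization S) (LocalizedModule S M)) n) := by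
  obtain ⟨X, hkill, ⟨θ⟩⟩ := GrExtGraded.exists_graded_ext 𝒜 q hq n (GrLC.GMod.of 𝒜 M ℳ)
  obtain ⟨s, Φ, hΦi, hΦs⟩ := GrGenFree.exists_generic_basis 𝒜 q hq X.gr hkill
  refine ⟨s, fun S hS => ?_⟩
  have θ' : Ext.{u} (ModuleCat.of R (R ⧸ q)) (ModuleCat.of R M) n ≃ₗ[R] X.carrier := θ
  let l₁ : X.carrier →ₗ[R] Ext.{u} (ModuleCat.of (Localization S) (LocalizedModule S (R ⧸ q)))
        (ModuleCat.of (Localization S) (LocalizedModule S M)) n :=
    ExtLocLin.PhiConc S (R ⧸ q) M n ∘ₗ θ'.symm.toLinearMap
  haveI : IsLocalizedModule S l₁ := IsLocalizedModule.of_linearEquiv_right S _ θ'.symm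
  haveI := LocFinsupp.isLocalizedModule_comp_of_generic S Φ hΦi (fun x => by
    obtain ⟨t, ⟨d, hd⟩, htq, hmem⟩ := hΦs x
    exact ⟨t, hS t d hd htq, hmem⟩) l₁
  exact ⟨LocFinsupp.finsuppLocEquiv S (l₁ ∘ₗ Φ)⟩

/-- the Bass number at `q` from the structure of `Ext(R/q, M)_q`. -/
theorem bassNum_core (n : ℕ) (s : Type u)
    (e : (s →₀ LocalizedModule q.primeCompl (R ⧸ q)) ≃ₗ[Localization q.primeCompl]
      Ext.{u} (ModuleCat.of (Localization q.primeCompl) (LocalizedModule q.primeCompl (R ⧸ q)))
        (ModuleCat.of (Localization q.primeCompl) (LocalizedModule q.primeCompl M)) n) :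
    GrLC.bassNum q M n = ENat.card s := by
  unfold GrLC.bassNum GrLC.bassNumLocal
  have e1 := extCongrLeft (residueLocEquiv q).toModuleIso
    (ModuleCat.of (Localization.AtPrime q) (LocalizedModule q.primeCompl M)) n
  rw [← e1.length_eq]
  have e2 : Module.length (Localization.AtPrime q) (Ext.{u}
      (ModuleCat.of (Localization.AtPrime q) (LocalizedModule q.primeCompl (R ⧸ q)))
      (ModuleCat.of (Localization.AtPrime q) (LocalizedModule q.primeCompl M)) n) =
      Module.length (Localization.AtPrime q) (s →₀ LocalizedModule q.primeCompl (R ⧸ q)) :=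
    e.symm.length_eq
  rw [e2, Module.length_finsupp, (residueLocEquiv q).length_eq]
  haveI := Groth.Agent.Lib.Helper1.Matlis.isSimpleModule_residueField
    (R := Localization.AtPrime q)
  rw [Module.length_eq_one, mul_one]

section nonhom

variable (p : Ideal R) [hp : p.IsPrime] (hqp' : q ≤ p) (a : R) (hap : a ∈ p) (haq : a ∉ q)
  (hgen : ∀ g ∈ p, ∃ (s : R) (u : R), s ∉ p ∧ s * g - u * a ∈ q)

include hap in
theorem smul_comp_psi_eq_zero :
    (algebraMap R (Localization.AtPrime p) a •
      𝟙 (ModuleCat.of (Localization.AtPrime p) (LocalizedModule p.primeCompl (R ⧸ q)))) ≫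
      ModuleCat.ofHom (GrBassSES.psi q p hqp') = 0 := by
  apply ModuleCat.hom_ext
  apply LinearMap.ext
  intro x
  show GrBassSES.psi q p hqp' (algebraMap R (Localization.AtPrime p) a • x) = 0
  rw [algebraMap_smul]
  exact GrBassSES.psi_smul q p hqp' a hap x

include haq hgen in
/-- the short exact sequence `0 → (R/q)_p → (R/q)_p → k(p) → 0`. -/
theorem shortExact : (ShortComplex.mk _ _ (smul_comp_psi_eq_zero q p hqp' a hap)).ShortExact := by
  apply ModuleCat.shortComplex_shortExact
  · intro y
    constructor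
    · intro hy
      obtain ⟨z, hz⟩ := (GrBassSES.psi_eq_zero_iff q p hqp' a hap hgen y).1 hy
      exact ⟨z, hz⟩
    · rintro ⟨z, hz⟩
      exact (GrBassSES.psi_eq_zero_iff q p hqp' a hap hgen y).2 ⟨z, hz⟩
  · exact GrBassSES.smul_injective' q p hqp' a haq
  · exact GrBassSES.psi_surjective q p hqp'

variable (hall : ∀ n : ℕ, ∃ s : Type u,
  Nonempty ((s →₀ LocalizedModule p.primeCompl (R ⧸ q)) ≃ₗ[Localization p.primeCompl]
    Ext.{u} (ModuleCat.of (Localization p.primeCompl) (LocalizedModule p.primeCompl (R ⧸ q)))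
      (ModuleCat.of (Localization p.primeCompl) (LocalizedModule p.primeCompl M)) n))

include hqp' haq hall in
theorem smul_ext_injective (n : ℕ)
    (x : Ext.{u} (ModuleCat.of (Localization.AtPrime p) (LocalizedModule p.primeCompl (R ⧸ q)))
      (ModuleCat.of (Localization.AtPrime p) (LocalizedModule p.primeCompl M)) n)
    (hx : algebraMap R (Localization.AtPrime p) a • x = 0) : x = 0 := by
  obtain ⟨s, ⟨e⟩⟩ := hall n
  obtain ⟨c, rfl⟩ := e.surjective x
  rw [← map_smul] at hx
  have h0 : algebraMap R (Localization.AtPrime p) a • c = 0 := by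
    apply e.injective
    rw [hx, map_zero]
  have h1 := LocFinsupp.smul_injective_finsupp (s := s) _
    (GrBassSES.smul_injective' q p hqp' a haq) (a₁ := c) (a₂ := 0) (by
      show algebraMap R (Localization.AtPrime p) a • c = algebraMap R (Localization.AtPrime p) a • 0
      rw [h0, smul_zero])
  rw [h1, map_zero]

include hqp' hap haq hgen hall in
theorem bassNum_zero : GrLC.bassNum p M 0 = 0 := by
  unfold GrLC.bassNum GrLC.bassNumLocal
  rw [Module.length_eq_zero_iff]
  exact ExtLESInj.subsingleton_ext_zero _ _ _ (shortExact q p hqp' a hap haq hgen) _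
    (smul_ext_injective M q p hqp' a haq hall)

include hqp' hap haq hgen hall in
theorem bassNum_succ (n : ℕ) (s : Type u)
    (e : (s →₀ LocalizedModule p.primeCompl (R ⧸ q)) ≃ₗ[Localization p.primeCompl]
      Ext.{u} (ModuleCat.of (Localization p.primeCompl) (LocalizedModule p.primeCompl (R ⧸ q)))
        (ModuleCat.of (Localization p.primeCompl) (LocalizedModule p.primeCompl M)) n) :
    GrLC.bassNum p M (n + 1) = ENat.card s := by
  unfold GrLC.bassNum GrLC.bassNumLocal
  obtain ⟨e1⟩ := ExtLESInj.nonempty_ext_succ_equiv _ _ _ (shortExact q p hqp' a hap haq hgen)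
    (ModuleCat.of (Localization.AtPrime p) (LocalizedModule p.primeCompl M))
    (smul_ext_injective M q p hqp' a haq hall) n
  have e' : (s →₀ LocalizedModule p.primeCompl (R ⧸ q)) ≃ₗ[Localization.AtPrime p]
      Ext.{u} (ModuleCat.of (Localization.AtPrime p) (LocalizedModule p.primeCompl (R ⧸ q)))
        (ModuleCat.of (Localization.AtPrime p) (LocalizedModule p.primeCompl M)) n := e
  rw [← e1.length_eq, ← (QuotSMulTop.congr (M' := s →₀ LocalizedModule p.primeCompl (R ⧸ q))
      (M'' := Ext.{u} (ModuleCat.of (Localization.AtPrime p) (LocalizedModule p.primeCompl (R ⧸ q)))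
        (ModuleCat.of (Localization.AtPrime p) (LocalizedModule p.primeCompl M)) n)
      (algebraMap R (Localization.AtPrime p) a) e').length_eq,
    LocFinsupp.length_quotSMulTop_finsupp, GrBassSES.length_quotSMulTop q p hqp' a hap hgen, mul_one]

end nonhom

end Groth.Agent.Lib.Helper20.GrBassMain
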