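import Mathlib
import Groth.Prelude.Def_GrLC
import Groth.Prelude.Def_GrLC2
import Groth.Agent.Lib.Helper20.GrMultiChain
import Groth.Agent.S18636

/-!
# Bass numbers along the chain of successive `ℤ`-cores (helper20)
-/

set_option autoImplicit false
set_option linter.unusedSectionVars false
set_option linter.unusedVariables false
set_option linter.style.haveILetI false

universe u

open DirectSum GrLC Groth.Agent.Lib.Helper20.GrCoarse Groth.Agent.Lib.Helper20.GrMultiCore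
  Groth.Agent.Lib.Helper20.GrMultiChain

namespace Groth.Agent.Lib.Helper20.GrMultiBass

lemma bassNum_congr {R : Type u} [CommRing R] {p q : Ideal R} [hp : p.IsPrime] [hq : q.IsPrime]
    (h : p = q) (M : Type u) [AddCommGroup M] [Module R M] (i : ℕ) :
    bassNum p M i = bassNum q M i := by
  subst h
  rfl

variable {ι : Type} [AddCommGroup ι] [DecidableEq ι] {r : ℕ} (b : Module.Basis (Fin r) ℤ ι)
  {R : Type u} [CommRing R] [IsNoetherianRing R] (𝒜 : ι → AddSubgroup R) [GradedRing 𝒜]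
  {M : Type u} [AddCommGroup M] [Module R M] (ℳ : ι → AddSubgroup M) [DirectSum.Decomposition ℳ]
  [SetLike.GradedSMul 𝒜 ℳ] (p : Ideal R) [hp : p.IsPrime]

open Classical in
/-- the number of strict steps among the first `j` steps of the chain. -/
noncomputable def e : ℕ → ℕ
  | 0 => 0
  | (j + 1) => e j + if Q b 𝒜 p (j + 1) = Q b 𝒜 p j then 0 else 1

lemma e_zero : e b 𝒜 p 0 = 0 := rfl

open Classical in
lemma e_succ (j : ℕ) :
    e b 𝒜 p (j + 1) = e b 𝒜 p j + if Q b 𝒜 p (j + 1) = Q b 𝒜 p j then 0 else 1 := rfl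

include ℳ in
/-- one step of the chain. -/
theorem step (j : ℕ) (hj : j < r) (hQ : (Q b 𝒜 p j).IsPrime) (hQ' : (Q b 𝒜 p (j + 1)).IsPrime)
    (hne : Q b 𝒜 p (j + 1) ≠ Q b 𝒜 p j) :
    bassNum (Q b 𝒜 p j) M 0 = 0 ∧
      ∀ i : ℕ, bassNum (Q b 𝒜 p j) M (i + 1) = bassNum (Q b 𝒜 p (j + 1)) M i := by
  letI := coGradedRing (c b ⟨j, hj⟩) 𝒜
  letI := coDecomposition (c b ⟨j, hj⟩) ℳ
  letI : SetLike.GradedSMul (co (c b ⟨j, hj⟩) 𝒜) (co (c b ⟨j, hj⟩) ℳ) :=
    co_gradedSMul (c b ⟨j, hj⟩) 𝒜 (co (c b ⟨j, hj⟩) 𝒜) (fun _ => rfl) ℳ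
  have hnh : ¬ (Q b 𝒜 p j).IsHomogeneous (co (c b ⟨j, hj⟩) 𝒜) := by
    intro h
    exact hne ((Q_succ_eq_iff b 𝒜 p j hj).2 h)
  have hcore := Q_succ_core b 𝒜 p j hj
  haveI hcp : ((Q b 𝒜 p j).homogeneousCore (co (c b ⟨j, hj⟩) 𝒜)).toIdeal.IsPrime := by
    rw [← hcore]
    exact hQ'
  obtain ⟨h0, h1⟩ := Groth.Agent.S18636.result R (co (c b ⟨j, hj⟩) 𝒜) M (co (c b ⟨j, hj⟩) ℳ)
    (Q b 𝒜 p j) hnh
  refine ⟨h0, fun i => ?_⟩
  rw [h1 i]
  exact bassNum_congr hcore.symm M i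

include ℳ in
/-- **Bass numbers along the chain.** -/
theorem chain_bass : ∀ j, j ≤ r → ∀ (hQ : (Q b 𝒜 p j).IsPrime),
    (∀ i, i < e b 𝒜 p j → bassNum p M i = 0) ∧
    (∀ i, e b 𝒜 p j ≤ i → bassNum p M i = bassNum (Q b 𝒜 p j) M (i - e b 𝒜 p j)) := by
  classical
  intro j
  induction j with
  | zero =>
    intro _ hQ
    refine ⟨fun i hi => absurd hi (by simp [e_zero]), fun i _ => ?_⟩
    rw [e_zero, Nat.sub_zero]
    exact bassNum_congr (Q_zero b 𝒜 p).symm M i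
  | succ j ih =>
    intro hj hQ'
    have hj' : j < r := hj
    have hQ : (Q b 𝒜 p j).IsPrime := Q_isPrime b 𝒜 p j hj'.le
    obtain ⟨ih0, ih1⟩ := ih hj'.le hQ
    rw [e_succ]
    by_cases heq : Q b 𝒜 p (j + 1) = Q b 𝒜 p j
    · rw [if_pos heq, add_zero]
      refine ⟨ih0, fun i hi => ?_⟩
      rw [ih1 i hi]
      exact bassNum_congr heq.symm M _
    · rw [if_neg heq]
      obtain ⟨s0, s1⟩ := step b 𝒜 ℳ p j hj' hQ hQ' heq
      refine ⟨fun i hi => ?_, fun i hi => ?_⟩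
      · rcases Nat.lt_or_ge i (e b 𝒜 p j) with h | h
        · exact ih0 i h
        · have : i = e b 𝒜 p j := by omega
          rw [ih1 i h, this, Nat.sub_self]
          exact s0
      · have h1 : e b 𝒜 p j ≤ i := by omega
        rw [ih1 i h1]
        have h2 : i - e b 𝒜 p j = (i - (e b 𝒜 p j + 1)) + 1 := by omega
        rw [h2]
        exact s1 _

end Groth.Agent.Lib.Helper20.GrMultiBass
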