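import Mathlib
import Groth.Prelude.Def_GrLC
import Groth.Agent.Lib.Helper20.GrLCQuot

/-!
# The quotient of a graded ring by a homogeneous ideal is a graded ring (helper20)
-/

set_option autoImplicit false
set_option linter.unusedSectionVars false
set_option linter.unusedVariables false
set_option linter.style.haveILetI false

universe u

open DirectSum GrLC

namespace Groth.Agent.Lib.Helper20.GrQuotRing

variable {ι : Type} [DecidableEq ι] [AddMonoid ι] {R : Type u} [CommRing R]
  (𝒜 : ι → AddSubgroup R) [GradedRing 𝒜] (q : Ideal R)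

/-- the pieces of the quotient ring. -/
def quotGrR (i : ι) : AddSubgroup (R ⧸ q) := (𝒜 i).map (Ideal.Quotient.mk q).toAddMonoidHom

lemma mem_quotGrR {i : ι} {y : R ⧸ q} :
    y ∈ quotGrR 𝒜 q i ↔ ∃ x ∈ 𝒜 i, Ideal.Quotient.mk q x = y := Iff.rfl

lemma mk_mem_quotGrR {i : ι} {x : R} (hx : x ∈ 𝒜 i) : Ideal.Quotient.mk q x ∈ quotGrR 𝒜 q i :=
  ⟨x, hx, rfl⟩

variable (hq : q.IsHomogeneous 𝒜)

include hq in
lemma isInternal_quotGrR : DirectSum.IsInternal (quotGrR 𝒜 q) :=
  Groth.Agent.Lib.Helper20.GrLCQuot.isInternal_quotGr 𝒜 (q : Submodule R R) hq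

/-- the quotient graded ring. -/
@[reducible] noncomputable def quotGradedRing : GradedRing (quotGrR 𝒜 q) :=
  { one_mem := ⟨1, SetLike.GradedOne.one_mem (A := 𝒜), map_one (Ideal.Quotient.mk q)⟩
    mul_mem := by
      rintro i j _ _ ⟨x, hx, rfl⟩ ⟨y, hy, rfl⟩
      exact ⟨x * y, SetLike.GradedMul.mul_mem hx hy, map_mul (Ideal.Quotient.mk q) x y⟩
    toDecomposition := (isInternal_quotGrR 𝒜 q hq).chooseDecomposition }

end Groth.Agent.Lib.Helper20.GrQuotRing
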