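import Mathlib
import Groth.Prelude.Def_GrLC
import Groth.Agent.Lib.Helper20.GrMultiBass
import Groth.Agent.Lib.Helper20.GrQuotRing
import Groth.Agent.Lib.Helper20.GrHeight2

/-!
# Heights along the chain of successive `ℤ`-cores (helper20)

For a homogeneous prime `q ≤ p` of a Noetherian `ℤ^r`-graded ring:
`ht (p/q) = ht (p*/q) + e`, where `e` is the number of strict steps of the chain.
-/

set_option autoImplicit false
set_option linter.unusedSectionVars false
set_option linter.unusedVariables false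
set_option linter.style.haveILetI false

universe u

open DirectSum GrLC Groth.Agent.Lib.Helper20.GrCoarse Groth.Agent.Lib.Helper20.GrMultiCore
  Groth.Agent.Lib.Helper20.GrMultiChain Groth.Agent.Lib.Helper20.GrMultiBass
  Groth.Agent.Lib.Helper20.GrQuotRing

namespace Groth.Agent.Lib.Helper20.GrMultiHeight

variable {ι : Type} [AddCommGroup ι] [DecidableEq ι] {r : ℕ} (b : Module.Basis (Fin r) ℤ ι)
  {R : Type u} [CommRing R] [IsNoetherianRing R] (𝒜 : ι → AddSubgroup R) [GradedRing 𝒜]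
  (p : Ideal R) [hp : p.IsPrime] (q : Ideal R) [hqp : q.IsPrime] (hqh : q.IsHomogeneous 𝒜)
  (hle : q ≤ p)

omit [IsNoetherianRing R] hp hqp in
/-- homogeneous ideals stay homogeneous after coarsening. -/
lemma isHomogeneous_co {κ : Type} [AddCommGroup κ] [DecidableEq κ] (φ : ι →+ κ) {I : Ideal R}
    (hI : I.IsHomogeneous 𝒜) :
    letI := coGradedRing φ 𝒜
    I.IsHomogeneous (co φ 𝒜) := by
  letI := coGradedRing φ 𝒜
  exact isHomogeneous_of_le 𝒜 (co φ 𝒜) (fun i x hx => ⟨φ i, le_co φ 𝒜 i hx⟩) hI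

include hqh hle in
omit [IsNoetherianRing R] hp hqp in
lemma q_le_Q (j : ℕ) : q ≤ Q b 𝒜 p j := by
  letI := coGradedRing (F b j) 𝒜
  exact le_homSpan_of_isHomogeneous _ (isHomogeneous_co 𝒜 (F b j) hqh) hle

include hqh hle in
omit [IsNoetherianRing R] hp in
lemma map_isPrime (j : ℕ) (hQ : (Q b 𝒜 p j).IsPrime) :
    ((Q b 𝒜 p j).map (Ideal.Quotient.mk q)).IsPrime := by
  refine Ideal.map_isPrime_of_surjective Ideal.Quotient.mk_surjective ?_
  rw [Ideal.mk_ker]
  exact q_le_Q b 𝒜 p q hqh hle j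

include hqh hle in
/-- one step of the chain, heights in `R ⧸ q`. -/
theorem step_height (j : ℕ) (hj : j < r) (hQ : (Q b 𝒜 p j).IsPrime)
    (hQ' : (Q b 𝒜 p (j + 1)).IsPrime) :
    (Q b 𝒜 p (j + 1) = Q b 𝒜 p j → ((Q b 𝒜 p j).map (Ideal.Quotient.mk q)).height =
      ((Q b 𝒜 p (j + 1)).map (Ideal.Quotient.mk q)).height) ∧
    (Q b 𝒜 p (j + 1) ≠ Q b 𝒜 p j → ((Q b 𝒜 p j).map (Ideal.Quotient.mk q)).height =
      ((Q b 𝒜 p (j + 1)).map (Ideal.Quotient.mk q)).height + 1) := by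
  refine ⟨fun h => by rw [h], fun hne => ?_⟩
  haveI h1 := map_isPrime b 𝒜 p q hqh hle j hQ
  haveI h2 := map_isPrime b 𝒜 p q hqh hle (j + 1) hQ'
  have hqQ := q_le_Q b 𝒜 p q hqh hle j
  have hqQ' := q_le_Q b 𝒜 p q hqh hle (j + 1)
  apply le_antisymm
  · -- `ht P̄ ≤ ht core(P̄) + 1 ≤ ht P̄' + 1`
    letI := coGradedRing (c b ⟨j, hj⟩) 𝒜
    have hq' : q.IsHomogeneous (co (c b ⟨j, hj⟩) 𝒜) := isHomogeneous_co 𝒜 (c b ⟨j, hj⟩) hqh
    letI := quotGradedRing (co (c b ⟨j, hj⟩) 𝒜) q hq'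
    have hmain := Groth.Agent.Lib.Helper20.GrHeight2.height_le_core_add_one'
      (quotGrR (co (c b ⟨j, hj⟩) 𝒜) q) ((Q b 𝒜 p j).map (Ideal.Quotient.mk q))
    refine hmain.trans (add_le_add_left (Ideal.height_mono ?_) 1)
    rw [homSpan_eq_core]
    refine Ideal.span_le.2 ?_
    rintro y ⟨hyP, n, x, hx, rfl⟩
    have hxP : x ∈ Q b 𝒜 p j := (Ideal.mem_quotient_iff_mem hqQ).1 hyP
    have hxQ' : x ∈ Q b 𝒜 p (j + 1) := by
      rw [Q_succ b 𝒜 p j hj]
      exact mem_homSpan _ hxP hx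
    exact Ideal.mem_map_of_mem _ hxQ'
  · have hlt : (Q b 𝒜 p (j + 1)).map (Ideal.Quotient.mk q) <
        (Q b 𝒜 p j).map (Ideal.Quotient.mk q) := by
      refine lt_of_le_of_ne (Ideal.map_mono (Q_succ_le b 𝒜 p j)) ?_
      intro heq
      apply hne
      apply le_antisymm (Q_succ_le b 𝒜 p j)
      intro x hx
      have : Ideal.Quotient.mk q x ∈ (Q b 𝒜 p (j + 1)).map (Ideal.Quotient.mk q) := by
        rw [heq]
        exact Ideal.mem_map_of_mem _ hx
      exact (Ideal.mem_quotient_iff_mem hqQ').1 this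
    exact Ideal.height_add_one_le_of_lt_of_isPrime hlt

include hqh hle in
/-- heights along the chain. -/
theorem chain_height : ∀ j, j ≤ r →
    (p.map (Ideal.Quotient.mk q)).height =
      ((Q b 𝒜 p j).map (Ideal.Quotient.mk q)).height + (e b 𝒜 p j : ℕ∞) := by
  classical
  intro j
  induction j with
  | zero =>
    intro _
    rw [e_zero, Q_zero]
    simp
  | succ j ih =>
    intro hj
    have hj' : j < r := hj
    have hQ : (Q b 𝒜 p j).IsPrime := Q_isPrime b 𝒜 p j hj'.le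
    have hQ' : (Q b 𝒜 p (j + 1)).IsPrime := Q_isPrime b 𝒜 p (j + 1) hj
    obtain ⟨s0, s1⟩ := step_height b 𝒜 p q hqh hle j hj' hQ hQ'
    rw [ih hj'.le, e_succ]
    by_cases heq : Q b 𝒜 p (j + 1) = Q b 𝒜 p j
    · rw [if_pos heq, add_zero, s0 heq]
    · rw [if_neg heq, s1 heq]
      push_cast
      ring

include hqh hle in
/-- **`ht (p/q) = ht (p*/q) + e`**. -/
theorem height_eq :
    (p.map (Ideal.Quotient.mk q)).height =
      ((homSpan 𝒜 p).map (Ideal.Quotient.mk q)).height + (e b 𝒜 p r : ℕ∞) := by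
  rw [chain_height b 𝒜 p q hqh hle r le_rfl, Q_top]

end Groth.Agent.Lib.Helper20.GrMultiHeight
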