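import Mathlib
import Groth.Agent.Lib.Helper28.SuppLoc

/-!
# `dim M_p` is the height of `p` in the support of `M` (helper20)
-/

set_option autoImplicit false
set_option linter.unusedSectionVars false
set_option linter.unusedVariables false

universe u

namespace Groth.Agent.Lib.Helper20.SuppLocHeight

variable {A : Type u} [CommRing A] (M : Type u) [AddCommGroup M] [Module A M]

lemma comap_le_of_prime (p : Ideal A) [p.IsPrime] (Q : Ideal (Localization.AtPrime p))
    [hQ : Q.IsPrime] : Q.comap (algebraMap A (Localization.AtPrime p)) ≤ p :=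
  (IsLocalization.AtPrime.orderIsoOfPrime (Localization.AtPrime p) p ⟨Q, hQ⟩).2.2

/-- `dim M_p` is the height of `p` in the poset `Supp M`. -/
theorem supportDim_loc_eq_height (p : Ideal A) [hp : p.IsPrime]
    (hpM : (⟨p, hp⟩ : PrimeSpectrum A) ∈ Module.support A M) :
    Module.supportDim (Localization.AtPrime p) (LocalizedModule p.primeCompl M) =
      ((Order.height (⟨⟨p, hp⟩, hpM⟩ : Module.support A M) : ℕ∞) : WithBot ℕ∞) := by
  set x₀ : Module.support A M := ⟨⟨p, hp⟩, hpM⟩ with hx₀
  rw [Order.height_eq_krullDim_Iic]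
  apply le_antisymm
  · refine Order.krullDim_le_of_strictMono
      (fun Q => (⟨⟨PrimeSpectrum.comap (algebraMap A (Localization.AtPrime p)) Q.1,
        (Groth.Agent.Lib.Helper28.mem_support_localizedModule_iff p Q.1).mp Q.2⟩,
        comap_le_of_prime p Q.1.asIdeal⟩ : Set.Iic x₀)) ?_
    intro Q₁ Q₂ hlt
    have h2 : Q₁.1.asIdeal < Q₂.1.asIdeal := hlt
    exact (IsLocalization.orderEmbedding p.primeCompl (Localization.AtPrime p)).lt_iff_lt.mpr h2
  · let iso := IsLocalization.AtPrime.primeSpectrumOrderIso (Localization.AtPrime p) p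
    have hmem : ∀ z : Set.Iic x₀, iso.symm ⟨z.1.1, z.2⟩ ∈
        Module.support (Localization.AtPrime p) (LocalizedModule p.primeCompl M) := by
      intro z
      rw [Groth.Agent.Lib.Helper28.mem_support_localizedModule_iff]
      have h1 : iso (iso.symm ⟨z.1.1, z.2⟩) = ⟨z.1.1, z.2⟩ := iso.apply_symm_apply _
      have h2 : (iso (iso.symm ⟨z.1.1, z.2⟩)).1 =
          PrimeSpectrum.comap (algebraMap A (Localization.AtPrime p)) (iso.symm ⟨z.1.1, z.2⟩) := by
        apply PrimeSpectrum.ext
        rfl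
      rw [← h2, h1]
      exact z.1.2
    refine Order.krullDim_le_of_strictMono
      (fun z => (⟨iso.symm ⟨z.1.1, z.2⟩, hmem z⟩ :
        Module.support (Localization.AtPrime p) (LocalizedModule p.primeCompl M))) ?_
    intro z₁ z₂ hlt
    have : (⟨z₁.1.1, z₁.2⟩ : Set.Iic (⟨p, hp⟩ : PrimeSpectrum A)) < ⟨z₂.1.1, z₂.2⟩ := hlt
    exact iso.symm.strictMono this

end Groth.Agent.Lib.Helper20.SuppLocHeight
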