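import Mathlib
import Groth.Prelude.Def_GrLC
import Groth.Agent.Lib.Helper20.GrMultiHeight
import Groth.Agent.Lib.Helper20.GrLCPrime
import Groth.Agent.Lib.Helper20.SuppLocHeight

/-!
# Dimension of localisations of multigraded modules (helper20)
-/

set_option autoImplicit false
set_option linter.unusedSectionVars false
set_option linter.unusedVariables false
set_option linter.style.haveILetI false

universe u

open DirectSum GrLC Groth.Agent.Lib.Helper20.GrCoarse Groth.Agent.Lib.Helper20.GrMultiCore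
  Groth.Agent.Lib.Helper20.GrMultiChain Groth.Agent.Lib.Helper20.GrMultiBass
  Groth.Agent.Lib.Helper20.GrQuotRing Groth.Agent.Lib.Helper20.GrMultiHeight

namespace Groth.Agent.Lib.Helper20.GrMultiDim

section quot

variable {R : Type u} [CommRing R] (M : Type u) [AddCommGroup M] [Module R M]

/-- a chain in the support starting above `q` bounds the height of `x/q` from below. -/
theorem length_le_height_quot (x : PrimeSpectrum R) (s : LTSeries (Module.support R M))
    (hs : s.last.1 ≤ x) (q : Ideal R) (hq : q ≤ s.head.1.asIdeal) :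
    (s.length : ℕ∞) ≤ (x.asIdeal.map (Ideal.Quotient.mk q)).height := by
  have hqi : ∀ i, q ≤ (s i).1.asIdeal := fun i => hq.trans (s.head_le i)
  have hqx : q ≤ x.asIdeal := (hqi (Fin.last _)).trans hs
  have hprime : ∀ y : PrimeSpectrum R, q ≤ y.asIdeal →
      (y.asIdeal.map (Ideal.Quotient.mk q)).IsPrime := by
    intro y hy
    haveI := y.2
    refine Ideal.map_isPrime_of_surjective Ideal.Quotient.mk_surjective ?_
    rw [Ideal.mk_ker]
    exact hy
  let t : LTSeries (PrimeSpectrum (R ⧸ q)) :=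
    { length := s.length
      toFun := fun i => ⟨(s i).1.asIdeal.map (Ideal.Quotient.mk q), hprime _ (hqi i)⟩
      step := by
        intro i
        have hlt : (s i.castSucc).1.asIdeal < (s i.succ).1.asIdeal := s.step i
        show (s i.castSucc).1.asIdeal.map (Ideal.Quotient.mk q) <
          (s i.succ).1.asIdeal.map (Ideal.Quotient.mk q)
        refine lt_of_le_of_ne (Ideal.map_mono hlt.le) ?_
        intro heq
        apply hlt.ne
        apply le_antisymm hlt.le
        intro z hz
        have : Ideal.Quotient.mk q z ∈ (s i.castSucc).1.asIdeal.map (Ideal.Quotient.mk q) := by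
          rw [heq]
          exact Ideal.mem_map_of_mem _ hz
        exact (Ideal.mem_quotient_iff_mem (hqi _)).1 this }
  have hlast : t.last ≤ (⟨x.asIdeal.map (Ideal.Quotient.mk q), hprime x hqx⟩ :
      PrimeSpectrum (R ⧸ q)) := by
    show (s (Fin.last _)).1.asIdeal.map (Ideal.Quotient.mk q) ≤ _
    exact Ideal.map_mono hs
  have h1 := Order.length_le_height hlast
  rw [← PrimeSpectrum.height_eq_orderHeight] at h1
  exact h1

/-- the height of `x/q` is at most the height of `x` in the support, for `q` in the support. -/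
theorem height_quot_le (x : Module.support R M) (q : PrimeSpectrum R)
    (hqS : q ∈ Module.support R M) (hqx : q ≤ x.1) :
    (x.1.asIdeal.map (Ideal.Quotient.mk q.asIdeal)).height ≤ Order.height x := by
  haveI hpr : (x.1.asIdeal.map (Ideal.Quotient.mk q.asIdeal)).IsPrime := by
    haveI := x.1.2
    refine Ideal.map_isPrime_of_surjective Ideal.Quotient.mk_surjective ?_
    rw [Ideal.mk_ker]
    exact hqx
  let f : PrimeSpectrum (R ⧸ q.asIdeal) → Module.support R M := fun P =>
    ⟨PrimeSpectrum.comap (Ideal.Quotient.mk q.asIdeal) P, by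
      refine Module.mem_support_mono ?_ hqS
      intro z hz
      show Ideal.Quotient.mk q.asIdeal z ∈ P.asIdeal
      rw [Ideal.Quotient.eq_zero_iff_mem.2 hz]
      exact zero_mem _⟩
  have hf : StrictMono f := by
    intro P P' hlt
    have h1 : P.asIdeal < P'.asIdeal := hlt
    show P.asIdeal.comap (Ideal.Quotient.mk q.asIdeal) < P'.asIdeal.comap (Ideal.Quotient.mk q.asIdeal)
    refine lt_of_le_of_ne (Ideal.comap_mono h1.le) ?_
    intro heq
    exact h1.ne (Ideal.comap_injective_of_surjective _ Ideal.Quotient.mk_surjective heq)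
  have hfx : f ⟨x.1.asIdeal.map (Ideal.Quotient.mk q.asIdeal), hpr⟩ = x := by
    apply Subtype.ext
    apply PrimeSpectrum.ext
    show (x.1.asIdeal.map (Ideal.Quotient.mk q.asIdeal)).comap (Ideal.Quotient.mk q.asIdeal) =
      x.1.asIdeal
    ext z
    rw [Ideal.mem_comap]
    exact Ideal.mem_quotient_iff_mem hqx
  have := Order.height_le_height_apply_of_strictMono f hf
    ⟨x.1.asIdeal.map (Ideal.Quotient.mk q.asIdeal), hpr⟩
  rw [hfx, ← PrimeSpectrum.height_eq_orderHeight] at this
  exact this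

end quot

variable {ι : Type} [AddCommGroup ι] [DecidableEq ι] [Module.Free ℤ ι] [Module.Finite ℤ ι]
  {R : Type u} [CommRing R] [IsNoetherianRing R] (𝒜 : ι → AddSubgroup R) [GradedRing 𝒜]
  {M : Type u} [AddCommGroup M] [Module R M] (ℳ : ι → AddSubgroup M) [DirectSum.Decomposition ℳ]
  [SetLike.GradedSMul 𝒜 ℳ]

/-- the core of a prime is prime. -/
theorem homSpan_isPrime (y : Ideal R) [y.IsPrime] : (homSpan 𝒜 y).IsPrime := by
  rw [← Q_top (Module.finBasis ℤ ι) 𝒜 y]
  exact Q_isPrime (Module.finBasis ℤ ι) 𝒜 y _ le_rfl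

include ℳ in
/-- **the core of a prime of the support lies in the support.** -/
theorem core_mem_support (y : PrimeSpectrum R) (hy : y ∈ Module.support R M)
    (hc : (homSpan 𝒜 y.asIdeal).IsPrime) :
    (⟨homSpan 𝒜 y.asIdeal, hc⟩ : PrimeSpectrum R) ∈ Module.support R M := by
  classical
  rw [Module.mem_support_iff_exists_annihilator] at hy ⊢
  obtain ⟨m, hm⟩ := hy
  by_contra hcon
  push Not at hcon
  have key : ∀ h : ι, ∃ s : R, s • (DirectSum.decompose ℳ m h : M) = 0 ∧ s ∉ y.asIdeal := by
    intro h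
    have h1 := hcon (DirectSum.decompose ℳ m h : M)
    have hhom := Groth.Agent.Lib.Helper20.GrLCPrime.ann_isHomogeneous 𝒜 ℳ
      (SetLike.coe_mem (DirectSum.decompose ℳ m h))
    by_contra hno
    push Not at hno
    apply h1
    rw [← homSpan_eq_self 𝒜 hhom]
    refine Ideal.span_le.2 ?_
    rintro s ⟨hs, i, hi⟩
    exact mem_homSpan 𝒜 (hno s ((Submodule.mem_annihilator_span_singleton _ _).1 hs)) hi
  choose s hs hsy using key
  have hprod : (∏ h ∈ (DirectSum.decompose ℳ m).support, s h) ∈
      (Submodule.span R {m}).annihilator := by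
    rw [Submodule.mem_annihilator_span_singleton]
    have hsum := DirectSum.sum_support_decompose ℳ m
    calc (∏ h ∈ (DirectSum.decompose ℳ m).support, s h) • m
        = (∏ h ∈ (DirectSum.decompose ℳ m).support, s h) •
            ∑ g ∈ (DirectSum.decompose ℳ m).support, (DirectSum.decompose ℳ m g : M) := by
          rw [hsum]
      _ = 0 := by
          rw [Finset.smul_sum]
          refine Finset.sum_eq_zero fun g hg => ?_
          obtain ⟨c, hc⟩ := Finset.dvd_prod_of_mem s hg
          rw [hc, mul_comm, mul_smul, hs g, smul_zero]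
  have hy' := hm hprod
  haveI := y.2
  obtain ⟨g, _, hg⟩ := (Ideal.IsPrime.prod_mem_iff).1 hy'
  exact hsy g hg

variable (p : Ideal R) [hp : p.IsPrime] [hc : (Ideal.homogeneousCore 𝒜 p).toIdeal.IsPrime]
  (d : ℕ) (hd : (p.map (Ideal.Quotient.mk (Ideal.homogeneousCore 𝒜 p).toIdeal)).height = d)

include hd in
/-- the number of strict steps of the chain is `ht (p/p*)`. -/
theorem e_eq : e (Module.finBasis ℤ ι) 𝒜 p (Module.finrank ℤ ι) = d := by
  have hqh : (Ideal.homogeneousCore 𝒜 p).toIdeal.IsHomogeneous 𝒜 :=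
    (Ideal.homogeneousCore 𝒜 p).isHomogeneous
  have hle : (Ideal.homogeneousCore 𝒜 p).toIdeal ≤ p := Ideal.toIdeal_homogeneousCore_le 𝒜 p
  have hheight := height_eq (Module.finBasis ℤ ι) 𝒜 p (Ideal.homogeneousCore 𝒜 p).toIdeal hqh hle
  rw [← homSpan_eq_core, Ideal.map_quotient_self, Ideal.height_bot, zero_add, hd] at hheight
  exact_mod_cast hheight.symm

include hd in
/-- `ht (p/q) = ht (p*/q) + d` for a homogeneous prime `q ≤ p`. -/
theorem height_eq' (q : Ideal R) [q.IsPrime] (hqh : q.IsHomogeneous 𝒜) (hle : q ≤ p) :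
    (p.map (Ideal.Quotient.mk q)).height =
      ((Ideal.homogeneousCore 𝒜 p).toIdeal.map (Ideal.Quotient.mk q)).height + (d : ℕ∞) := by
  rw [height_eq (Module.finBasis ℤ ι) 𝒜 p q hqh hle, e_eq 𝒜 p d hd, homSpan_eq_core]

lemma enat_add_le_of_forall (a b : ℕ∞) (d : ℕ) (h : ∀ n : ℕ, (n : ℕ∞) ≤ a → (n : ℕ∞) + d ≤ b) :
    a + d ≤ b := by
  induction a using ENat.recTopCoe with
  | top =>
    have hb : b = ⊤ := by
      rw [ENat.eq_top_iff_forall_ge]
      intro n
      exact le_trans (le_self_add) (h n le_top)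
    rw [hb]
    exact le_top
  | coe n => exact h n le_rfl

include ℳ hd in
/-- **`ht_S(p) = ht_S(p*) + d`** in the support `S` of a graded module. -/
theorem height_support_eq (hpS : (⟨p, hp⟩ : PrimeSpectrum R) ∈ Module.support R M)
    (hcS : (⟨(Ideal.homogeneousCore 𝒜 p).toIdeal, hc⟩ : PrimeSpectrum R) ∈ Module.support R M) :
    Order.height (⟨⟨p, hp⟩, hpS⟩ : Module.support R M) =
      Order.height (⟨⟨(Ideal.homogeneousCore 𝒜 p).toIdeal, hc⟩, hcS⟩ : Module.support R M) +
        (d : ℕ∞) := by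
  have hcorele : (Ideal.homogeneousCore 𝒜 p).toIdeal ≤ p := Ideal.toIdeal_homogeneousCore_le 𝒜 p
  -- the data attached to a chain
  have hdata : ∀ s : LTSeries (Module.support R M), s.last.1.asIdeal ≤ p →
      ∃ q : PrimeSpectrum R, q ∈ Module.support R M ∧ q.asIdeal.IsHomogeneous 𝒜 ∧
        q.asIdeal ≤ s.head.1.asIdeal ∧ q.asIdeal ≤ (Ideal.homogeneousCore 𝒜 p).toIdeal := by
    intro s hs
    haveI := s.head.1.2
    have hpr := homSpan_isPrime 𝒜 s.head.1.asIdeal
    refine ⟨⟨homSpan 𝒜 s.head.1.asIdeal, hpr⟩, core_mem_support 𝒜 ℳ s.head.1 s.head.2 hpr,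
      homSpan_isHomogeneous 𝒜 _, homSpan_le 𝒜 _, ?_⟩
    rw [homSpan_eq_core]
    refine homSpan_mono 𝒜 ?_
    have h1 : s.head.1.asIdeal ≤ s.last.1.asIdeal := s.head_le (Fin.last _)
    exact h1.trans hs
  apply le_antisymm
  · rw [Order.height_le_iff]
    intro s hs
    have hs' : s.last.1.asIdeal ≤ p := hs
    obtain ⟨q, hqS, hqh, hqhead, hqc⟩ := hdata s hs'
    haveI := q.2
    have h1 := length_le_height_quot M ⟨p, hp⟩ s hs q.asIdeal hqhead
    have h2 := height_eq' 𝒜 p d hd q.asIdeal hqh (hqc.trans hcorele)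
    have h3 := height_quot_le M
      (⟨⟨(Ideal.homogeneousCore 𝒜 p).toIdeal, hc⟩, hcS⟩ : Module.support R M) q hqS hqc
    calc (s.length : ℕ∞) ≤ (p.map (Ideal.Quotient.mk q.asIdeal)).height := h1
      _ = _ := h2
      _ ≤ _ := add_le_add_left h3 _
  · apply enat_add_le_of_forall
    intro n hn
    obtain ⟨s, hslast, hslen⟩ := Order.exists_series_of_le_height _ hn
    have hs' : s.last.1.asIdeal ≤ p := by
      rw [hslast]
      exact hcorele
    obtain ⟨q, hqS, hqh, hqhead, hqc⟩ := hdata s hs'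
    haveI := q.2
    have h1 := length_le_height_quot M ⟨(Ideal.homogeneousCore 𝒜 p).toIdeal, hc⟩ s
      (by rw [hslast]) q.asIdeal hqhead
    have h2 := height_eq' 𝒜 p d hd q.asIdeal hqh (hqc.trans hcorele)
    have h3 := height_quot_le M (⟨⟨p, hp⟩, hpS⟩ : Module.support R M) q hqS (hqc.trans hcorele)
    rw [hslen] at h1
    calc (n : ℕ∞) + d ≤ _ := add_le_add_left h1 _
      _ = _ := h2.symm
      _ ≤ _ := h3

end Groth.Agent.Lib.Helper20.GrMultiDim
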