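import Groth.Agent.Lib.Helper4.LC4
import Groth.Agent.Lib.Helper4.LC2

/-!
# Top local cohomology: `H^d_I(M) = I · H^d_I(M)` for `d ≥ max 1 (dim R)` (helper20)
-/

set_option autoImplicit false
set_option linter.style.haveILetI false
set_option linter.unusedSectionVars false
set_option maxHeartbeats 400000

open CategoryTheory Limits Opposite Abelian

universe u

namespace Groth.Agent.Lib.Helper20.LCTopSurj

open Groth.Agent.Lib.Helper4.LC

variable {R : Type u} [CommRing R] (I : Ideal R)

section additivity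

variable {M M' : ModuleCat.{u} R}

lemma map_add (f g : M ⟶ M') (i : ℕ) (x : HH I M i) :
    HH.map I (f + g) i x = HH.map I f i x + HH.map I g i x := by
  obtain ⟨n, y, rfl⟩ := HH.exists_of I M i x
  rw [HH.map_of, HH.map_of, HH.map_of, Ext.mk₀_add, Ext.comp_add, _root_.map_add]

lemma map_sum {ι : Type*} (s : Finset ι) (f : ι → (M ⟶ M')) (i : ℕ) (x : HH I M i) :
    HH.map I (∑ j ∈ s, f j) i x = ∑ j ∈ s, HH.map I (f j) i x := by
  classical
  induction s using Finset.induction_on with
  | empty => simp [HH.map_zero']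
  | insert a s ha ih => rw [Finset.sum_insert ha, Finset.sum_insert ha, map_add, ih]

lemma map_smul_hom (r : R) (f : M ⟶ M') (i : ℕ) (x : HH I M i) :
    HH.map I (r • f) i x = r • HH.map I f i x := by
  have : r • f = f ≫ (r • 𝟙 M') := by
    apply ModuleCat.hom_ext
    apply LinearMap.ext
    intro z
    simp
  rw [this, HH.map_comp, ← HH.smul_eq_map]

end additivity

section surj

variable [IsNoetherianRing R]

/-- For `d ≥ 1` with `dim R ≤ d`, top local cohomology satisfies `H^d_I(M) = I · H^d_I(M)`. -/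
theorem mem_smul_top (d : ℕ) (hd : ringKrullDim R ≤ d) (h1 : 1 ≤ d)
    (M : Type u) [AddCommGroup M] [Module R M] (h : HH I (ModuleCat.of R M) d) :
    h ∈ (I • ⊤ : Submodule R (HH I (ModuleCat.of R M) d)) := by
  classical
  obtain ⟨s, hs⟩ := (IsNoetherian.noetherian I : I.FG)
  let φ : (s → M) →ₗ[R] M := ∑ x : s, (x : R) • LinearMap.proj (R := R) (φ := fun _ : s => M) x
  have hφ : ∀ v : s → M, φ v = ∑ x : s, (x : R) • v x := by
    intro v
    simp [φ]
  let P : Submodule R M := LinearMap.range φ
  have hex1 : Function.Exact (LinearMap.ker φ).subtype φ.rangeRestrict := by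
    rw [LinearMap.exact_iff, LinearMap.ker_rangeRestrict, Submodule.range_subtype]
  have hS1 := sesOf_shortExact (LinearMap.ker φ).subtype φ.rangeRestrict hex1
    (Submodule.injective_subtype _) φ.surjective_rangeRestrict
  have hex2 : Function.Exact P.subtype P.mkQ := LinearMap.exact_subtype_mkQ P
  have hS2 := sesOf_shortExact P.subtype P.mkQ hex2 (Submodule.injective_subtype _)
    (Submodule.mkQ_surjective _)
  have hK : Subsingleton
      (HH I (sesOf (LinearMap.ker φ).subtype φ.rangeRestrict hex1).X₁ (d + 1)) :=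
    HH.subsingleton_of_ringKrullDim_lt I _ (d + 1)
      (lt_of_le_of_lt hd (by exact_mod_cast Nat.lt_succ_self d))
  have hsP : ∀ x ∈ s, ∀ m : M, x • m ∈ P := by
    intro x hx m
    refine ⟨Pi.single (⟨x, hx⟩ : s) m, ?_⟩
    rw [hφ]
    rw [Finset.sum_eq_single (⟨x, hx⟩ : s)]
    · simp
    · intro b _ hb
      rw [Pi.single_eq_of_ne hb, smul_zero]
    · intro hb
      exact absurd (Finset.mem_univ _) hb
  have hIP : ∀ a ∈ I, ∀ m : M, a • m ∈ P := by
    intro a ha m
    rw [← hs] at ha
    refine Submodule.span_induction (p := fun a _ => a • m ∈ P) ?_ ?_ ?_ ?_ ha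
    · intro x hx
      exact hsP x hx m
    · rw [zero_smul]; exact zero_mem _
    · intro x y _ _ hx hy
      rw [add_smul]; exact add_mem hx hy
    · intro c x _ hx
      rw [smul_eq_mul, mul_smul]; exact P.smul_mem c hx
  have hQ : Subsingleton (HH I (sesOf P.subtype P.mkQ hex2).X₃ d) := by
    obtain ⟨k, rfl⟩ : ∃ k, d = k + 1 := ⟨d - 1, by omega⟩
    apply HH.subsingleton_of_isPowerTorsion I k (M ⧸ P)
    intro n
    refine ⟨1, fun a ha => ?_⟩
    rw [pow_one] at ha
    obtain ⟨m, rfl⟩ := Submodule.mkQ_surjective P n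
    rw [← _root_.map_smul, Submodule.mkQ_apply, Submodule.Quotient.mk_eq_zero]
    exact hIP a ha m
  have s1 := HH.map_g_surjective I hS1 d hK
  have s2 := HH.map_f_surjective I hS2 d hQ
  have hcomp : (sesOf (LinearMap.ker φ).subtype φ.rangeRestrict hex1).g ≫
      (sesOf P.subtype P.mkQ hex2).f =
      ∑ x : s, (x : R) • (ModuleCat.ofHom (LinearMap.proj (R := R) (φ := fun _ : s => M) x) :
        ModuleCat.of R (s → M) ⟶ ModuleCat.of R M) := by
    apply ModuleCat.hom_ext
    apply LinearMap.ext
    intro v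
    change φ v = _
    rw [hφ]
    simp
  obtain ⟨w, hw⟩ := s2 h
  obtain ⟨v, hv⟩ := s1 w
  have : h = HH.map I ((sesOf (LinearMap.ker φ).subtype φ.rangeRestrict hex1).g ≫
      (sesOf P.subtype P.mkQ hex2).f) d v := by
    rw [HH.map_comp, hv, hw]
  rw [this, hcomp, map_sum]
  refine Submodule.sum_mem _ fun x _ => ?_
  rw [map_smul_hom]
  refine Submodule.smul_mem_smul ?_ Submodule.mem_top
  rw [← hs]
  exact Submodule.subset_span x.2

end surj

end Groth.Agent.Lib.Helper20.LCTopSurj
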