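import Mathlib
import Groth.Prelude.Def_GrLC
import Groth.Agent.Lib.Helper20.GrLES
import Groth.Agent.Lib.Helper20.LCTopSurj
import Groth.Agent.S13225

/-!
# Graded local cohomology: the grading on `E.H a i`, transport of ungraded facts (helper20)
-/

set_option autoImplicit false
set_option linter.unusedSectionVars false
set_option linter.unusedVariables false

universe u

open CategoryTheory GrLC Groth.Agent.Lib.Helper4.LC Groth.Agent.Lib.Helper20.GrLCBasic
  Groth.Agent.Lib.Helper20.GrLES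

namespace Groth.Agent.Lib.Helper20.GrLES2

variable {ι : Type} [AddCommGroup ι] [DecidableEq ι] {R : Type u} [CommRing R]
  {𝒜 : ι → AddSubgroup R} [GradedRing 𝒜]
  {M : Type u} [AddCommGroup M] [Module R M] {ℳ : ι → AddSubgroup M}
  [DirectSum.Decomposition ℳ] [SetLike.GradedSMul 𝒜 ℳ]

section grading

variable (E : StarInjRes 𝒜 ℳ) (a : HomogeneousIdeal 𝒜) (i : ℕ)

theorem isInternal_Hgr : DirectSum.IsInternal (E.Hgr a i) := by
  have hZ : (E.cocyc a i).IsHomogeneous (E.X i).gr := by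
    intro g x hx
    exact ⟨Groth.Agent.S13225.gam_isHomogeneous 𝒜 (E.X i).gr a g hx.1,
      ker_isHomogeneous (E.X i).gr (E.X (i + 1)).gr (E.d i) (E.d_grHom i) g hx.2⟩
  have hB : (E.cobdy a i).IsHomogeneous (E.X i).gr := by
    cases i with
    | zero =>
      intro g x hx
      have hx0 : x = 0 := (Submodule.mem_bot R).mp hx
      rw [hx0, DirectSum.decompose_zero]
      exact Submodule.zero_mem _
    | succ n =>
      rintro g _ ⟨x, hx, rfl⟩
      refine ⟨_, Groth.Agent.S13225.gam_isHomogeneous 𝒜 (E.X n).gr a g hx, ?_⟩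
      exact (decompose_map (E.X n).gr (E.X (n + 1)).gr (E.d n) (E.d_grHom n) x g).symm
  exact Groth.Agent.S13225.isInternal_quotient (E.X i).gr (E.cocyc a i) (E.cobdy a i) hZ hB
    (E.Hgr a i) (fun g x => Iff.rfl)

/-- the decomposition of graded local cohomology (a def, to be installed with `letI`). -/
noncomputable def decH : DirectSum.Decomposition (E.Hgr a i) :=
  (isInternal_Hgr E a i).chooseDecomposition

theorem smul_mem_Hgr {x : R} {k : ι} (hx : x ∈ 𝒜 k) {h : E.H a i} {j : ι}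
    (hh : h ∈ E.Hgr a i j) : x • h ∈ E.Hgr a i (k + j) := by
  obtain ⟨z, hz, rfl⟩ := hh
  refine ⟨x • z, ?_, map_smul _ _ _⟩
  have h := SetLike.GradedSMul.smul_mem (A := 𝒜) (B := (E.X i).gr) hx hz
  rw [vadd_eq_add] at h
  exact h

instance gsmulH : SetLike.GradedSMul 𝒜 (E.Hgr a i) where
  smul_mem {k j} x h hx hh := by
    rw [vadd_eq_add]
    exact smul_mem_Hgr E a i hx hh

/-- If `a` is generated by elements of degree `k`, `H = a H`, and `H_j = 0`, then `H_{j+k} = 0`. -/
theorem Hgr_eq_bot_of_gen {k : ι} (hgen : a.toIdeal = Ideal.span ((𝒜 k : AddSubgroup R) : Set R))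
    (htop : ∀ h : E.H a i, h ∈ (a.toIdeal • ⊤ : Submodule R (E.H a i))) (j : ι)
    (hj : E.Hgr a i j = ⊥) : E.Hgr a i (j + k) = ⊥ := by
  classical
  letI := decH E a i
  have key : ∀ h ∈ (a.toIdeal • ⊤ : Submodule R (E.H a i)),
      ((DirectSum.decompose (E.Hgr a i) h (j + k) : E.Hgr a i (j + k)) : E.H a i) = 0 := by
    intro h hh
    refine Submodule.smul_induction_on hh ?_ ?_
    · intro x hx h' _
      rw [hgen] at hx
      revert h'
      refine Submodule.span_induction (p := fun x _ => ∀ h' : E.H a i, h' ∈ (⊤ : Submodule R _) →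
        ((DirectSum.decompose (E.Hgr a i) (x • h') (j + k) : E.Hgr a i (j + k)) : E.H a i) = 0)
        ?_ ?_ ?_ ?_ hx
      · intro x hx h' _
        rw [decompose_smul_left 𝒜 (E.Hgr a i) hx h' j]
        have : ∀ y : E.H a i, y ∈ E.Hgr a i j → y = 0 := by
          intro y hy
          rw [hj] at hy
          exact (AddSubgroup.mem_bot).1 hy
        rw [this _ (SetLike.coe_mem _), smul_zero]
      · intro h' _
        rw [zero_smul, DirectSum.decompose_zero]
        rfl
      · intro x y _ _ hx hy h' hh'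
        rw [add_smul, DirectSum.decompose_add, DirectSum.add_apply, AddSubgroup.coe_add,
          hx h' hh', hy h' hh', add_zero]
      · intro c x _ hx h' hh'
        rw [smul_eq_mul, mul_comm, mul_smul]
        exact hx (c • h') Submodule.mem_top
    · intro x y hx hy
      rw [DirectSum.decompose_add, DirectSum.add_apply, AddSubgroup.coe_add, hx, hy, add_zero]
  rw [eq_bot_iff]
  intro h hh
  rw [AddSubgroup.mem_bot]
  have := key h (htop h)
  rwa [DirectSum.decompose_of_mem_same _ hh] at this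

end grading

section transport

variable [IsNoetherianRing R] (E : StarInjRes 𝒜 ℳ) (a : HomogeneousIdeal 𝒜)

/-- `H^d_a(M) = a · H^d_a(M)` for `d ≥ max 1 (dim R)`, for graded local cohomology. -/
theorem mem_smul_top_H (d : ℕ) (hd : ringKrullDim R ≤ d) (h1 : 1 ≤ d) (h : E.H a d) :
    h ∈ (a.toIdeal • ⊤ : Submodule R (E.H a d)) := by
  have h2 := Groth.Agent.Lib.Helper20.LCTopSurj.mem_smul_top a.toIdeal d hd h1 M (cmpE E a d h)
  have h3 : (cmpE E a d).symm (cmpE E a d h) ∈
      Submodule.map ((cmpE E a d).symm : _ →ₗ[R] E.H a d)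
        (a.toIdeal • ⊤ : Submodule R (HH a.toIdeal (ModuleCat.of R M) d)) :=
    Submodule.mem_map_of_mem h2
  rw [Submodule.map_smul'', LinearEquiv.symm_apply_apply] at h3
  exact Submodule.smul_mono le_rfl le_top h3

/-- vanishing transported from the `HH` model. -/
theorem subsingleton_H_of_HH (i : ℕ) (h : Subsingleton (HH a.toIdeal (ModuleCat.of R M) i)) :
    Subsingleton (E.H a i) :=
  (cmpE E a i).toEquiv.subsingleton

end transport

section endDeg

variable {N : Type u} [AddCommGroup N] (𝒩 : ℤ → AddSubgroup N)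

theorem le_endDeg {n : ℤ} (hn : 𝒩 n ≠ ⊥) :
    ((n : WithTop ℤ) : WithBot (WithTop ℤ)) ≤ endDeg 𝒩 :=
  le_iSup₂ (f := fun (n : ℤ) (_ : 𝒩 n ≠ ⊥) => ((n : WithTop ℤ) : WithBot (WithTop ℤ))) n hn

theorem eq_bot_of_endDeg_lt {n : ℤ} (hn : endDeg 𝒩 < ((n : WithTop ℤ) : WithBot (WithTop ℤ))) :
    𝒩 n = ⊥ := by
  by_contra h
  exact absurd (le_endDeg 𝒩 h) (not_le.2 hn)

theorem ne_bot_of_endDeg_eq {a : ℤ}
    (ha : endDeg 𝒩 = ((a : WithTop ℤ) : WithBot (WithTop ℤ))) : 𝒩 a ≠ ⊥ := by
  intro h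
  have hle : endDeg 𝒩 ≤ (((a - 1 : ℤ) : WithTop ℤ) : WithBot (WithTop ℤ)) := by
    refine iSup₂_le fun n hn => ?_
    have h1 : ((n : WithTop ℤ) : WithBot (WithTop ℤ)) ≤ ((a : WithTop ℤ) : WithBot (WithTop ℤ)) :=
      ha ▸ le_endDeg 𝒩 hn
    have h2 : n ≤ a := by exact_mod_cast h1
    have h3 : n ≠ a := fun e => hn (e ▸ h)
    have h4 : n ≤ a - 1 := by omega
    exact_mod_cast h4
  rw [ha] at hle
  have : a ≤ a - 1 := by exact_mod_cast hle
  omega

theorem eq_bot_of_endDeg_eq_of_lt {a n : ℤ}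
    (ha : endDeg 𝒩 = ((a : WithTop ℤ) : WithBot (WithTop ℤ))) (hn : a < n) : 𝒩 n = ⊥ := by
  apply eq_bot_of_endDeg_lt
  rw [ha]
  exact_mod_cast hn

end endDeg

end Groth.Agent.Lib.Helper20.GrLES2
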