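import Mathlib
import Groth.Prelude.Def_GrLC2
import Groth.Agent.Lib.Helper20.ExtLocLin
import Groth.Agent.Lib.Helper4.GorLoc
import Groth.Agent.Lib.Helper9.BassLemma
import Groth.Agent.Lib.Helper9.InjDim

/-!
# Injective dimension from the vanishing of Bass numbers (helper20)
-/

set_option autoImplicit false
set_option linter.unusedSectionVars false
set_option linter.unusedVariables false
set_option linter.style.haveILetI false
set_option maxHeartbeats 800000

universe u

open CategoryTheory Abelian IsLocalRing

namespace Groth.Agent.Lib.Helper20.BassInjDim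

open Groth.Agent.Lib.Helper4 Groth.Agent.Lib.Helper4.LC

variable {R : Type u} [CommRing R] [IsNoetherianRing R]

/-- vanishing of `Ext` over a localization, concretely. -/
theorem subsingleton_ext_loc_iff (S : Submonoid R) (N : Type u) [AddCommGroup N] [Module R N]
    [Module.Finite R N] (M : Type u) [AddCommGroup M] [Module R M] (k : ℕ) :
    Subsingleton (Ext.{u} (ModuleCat.of (Localization S) (LocalizedModule S N))
      (ModuleCat.of (Localization S) (LocalizedModule S M)) k) ↔
      ∀ e : Ext.{u} (ModuleCat.of R N) (ModuleCat.of R M) k, ∃ s : S, (s : R) • e = 0 := by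
  rw [← ExtLoc.subsingleton_iff S (ModuleCat.of R M) k N]
  exact (ExtLocLin.concreteEquiv S N M k).symm.toEquiv.subsingleton_congr

/-- vanishing of `Ext` over a localization passes to a further localization. -/
theorem subsingleton_ext_loc_of_le (P P' : Ideal R) [P.IsPrime] [P'.IsPrime]
    (hPP' : P ≤ P') (N : Type u) [AddCommGroup N] [Module R N] [Module.Finite R N]
    (M : Type u) [AddCommGroup M] [Module R M] (k : ℕ)
    (h : Subsingleton (Ext.{u}
      (ModuleCat.of (Localization.AtPrime P') (LocalizedModule P'.primeCompl N))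
      (ModuleCat.of (Localization.AtPrime P') (LocalizedModule P'.primeCompl M)) k)) :
    Subsingleton (Ext.{u}
      (ModuleCat.of (Localization.AtPrime P) (LocalizedModule P.primeCompl N))
      (ModuleCat.of (Localization.AtPrime P) (LocalizedModule P.primeCompl M)) k) := by
  have h' := (subsingleton_ext_loc_iff P'.primeCompl N M k).1 h
  refine (subsingleton_ext_loc_iff P.primeCompl N M k).2 (fun e => ?_)
  obtain ⟨s, hs⟩ := h' e
  exact ⟨⟨(s : R), fun hsP => s.2 (hPP' hsP)⟩, hs⟩

theorem bassNum_eq_zero_iff (P : Ideal R) [P.IsPrime] (M : Type u) [AddCommGroup M] [Module R M]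
    (i : ℕ) : GrLC.bassNum P M i = 0 ↔
      Subsingleton (Ext.{u} (ModuleCat.of (Localization.AtPrime P)
        (ResidueField (Localization.AtPrime P)))
        (ModuleCat.of (Localization.AtPrime P) (LocalizedModule P.primeCompl M)) i) := by
  unfold GrLC.bassNum GrLC.bassNumLocal
  exact Module.length_eq_zero_iff

/-- Bass numbers at `P` vanish in degree `k` if `Ext^k_{R_{P'}}((R/P)_{P'}, M_{P'}) = 0` for
some `P' ⊇ P`. -/
theorem bassNum_eq_zero_of_le (P P' : Ideal R) [P.IsPrime] [P'.IsPrime] (hPP' : P ≤ P')
    (M : Type u) [AddCommGroup M] [Module R M] (k : ℕ)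
    (h : Subsingleton (Ext.{u}
      (ModuleCat.of (Localization.AtPrime P') (LocalizedModule P'.primeCompl (R ⧸ P)))
      (ModuleCat.of (Localization.AtPrime P') (LocalizedModule P'.primeCompl M)) k)) :
    GrLC.bassNum P M k = 0 := by
  rw [bassNum_eq_zero_iff]
  haveI := subsingleton_ext_loc_of_le P P' hPP' (R ⧸ P) M k h
  exact (extCongrLeft (residueLocEquiv P).toModuleIso _ k).symm.toEquiv.subsingleton

/-- **Finite injective dimension from Bass numbers.** -/
theorem hasInjectiveDimensionLT_of_bassNum (C : Type u) [AddCommGroup C] [Module R C]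
    [Module.Finite R C] (N₀ : ℕ)
    (h : ∀ (P : Ideal R) [P.IsPrime] (i : ℕ), N₀ < i → GrLC.bassNum P C i = 0) :
    HasInjectiveDimensionLT (ModuleCat.of R C) (N₀ + 1) := by
  apply Groth.Agent.Lib.Helper9.hasInjectiveDimensionLT_of_cyclic N₀
  intro I
  refine subsingleton_of_forall_eq 0 fun e => ?_
  apply ext_eq_zero_of_forall_prime (N₀ + 1) e
  intro P hP
  refine (subsingleton_ext_loc_iff P.primeCompl (R ⧸ I) C (N₀ + 1)).1 ?_ e
  haveI : Module.Finite (Localization.AtPrime P) (ModuleCat.of (Localization.AtPrime P)
      (LocalizedModule P.primeCompl C)) :=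
    inferInstanceAs (Module.Finite (Localization.AtPrime P) (LocalizedModule P.primeCompl C))
  have hdim : Module.supportDim (Localization.AtPrime P) (LocalizedModule P.primeCompl (R ⧸ I)) ≤
      (((IsLocalRing.maximalIdeal (Localization.AtPrime P)).spanFinrank : ℕ) : WithBot ℕ∞) :=
    (Module.supportDim_le_ringKrullDim _ _).trans
      (ringKrullDim_le_spanFinrank_maximalIdeal (Localization.AtPrime P))
  exact Groth.Agent.Lib.Helper9.bass_aux
    (ModuleCat.of (Localization.AtPrime P) (LocalizedModule P.primeCompl C)) N₀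
    (fun i hi => (bassNum_eq_zero_iff P C i).1 (h P i hi)) _
    (LocalizedModule P.primeCompl (R ⧸ I)) hdim (N₀ + 1) (Nat.lt_succ_self N₀)

end Groth.Agent.Lib.Helper20.BassInjDim
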