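import Mathlib
import Groth.Agent.Lib.Helper4.LC3
import Groth.Agent.Lib.Helper4.LD1

/-!
# Dimension shifting in the second variable of `Ext` (helper20)

For a short exact sequence `0 → X₁ → X₂ → X₃ → 0` with `Ext^n(K, X₂) = 0` for `n ≥ 1` and such that
every map `K → X₂` composes to zero with `X₂ → X₃`, the connecting maps
`Ext^n(K, X₃) → Ext^{n+1}(K, X₁)` are linear equivalences.
-/

set_option autoImplicit false
set_option linter.unusedSectionVars false
set_option linter.unusedVariables false

universe u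

open CategoryTheory Abelian

namespace Groth.Agent.Lib.Helper20.ExtShiftCov

variable {A : Type u} [CommRing A] {S : ShortComplex (ModuleCat.{u} A)} (hS : S.ShortExact)
  (K : ModuleCat.{u} A)
  (hvan : ∀ n : ℕ, Subsingleton (Ext.{u} K S.X₂ (n + 1)))
  (hzero : ∀ x : Ext.{u} K S.X₂ 0, x.comp (Ext.mk₀ S.g) (add_zero 0) = 0)

/-- the connecting map. -/
noncomputable def delta (n : ℕ) : Ext.{u} K S.X₃ n →ₗ[A] Ext.{u} K S.X₁ (n + 1) :=
  Ext.postcompOfLinear hS.extClass A K rfl

theorem delta_apply (n : ℕ) (x : Ext.{u} K S.X₃ n) :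
    delta hS K n x = x.comp hS.extClass rfl := rfl

include hvan hzero in
theorem delta_bijective (n : ℕ) : Function.Bijective (delta hS K n) := by
  constructor
  · rw [injective_iff_map_eq_zero]
    intro x hx
    rw [delta_apply] at hx
    obtain ⟨x₂, hx₂⟩ := Ext.covariant_sequence_exact₃ K hS x rfl hx
    cases n with
    | zero =>
      rw [← hx₂]
      exact hzero x₂
    | succ n =>
      haveI := hvan n
      rw [← hx₂, Subsingleton.elim x₂ 0, Ext.zero_comp]
  · intro x₁
    haveI := hvan n
    obtain ⟨x₃, hx₃⟩ := Ext.covariant_sequence_exact₁ K hS x₁ (Subsingleton.elim _ _) rfl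
    exact ⟨x₃, hx₃⟩

/-- **dimension shifting.** -/
noncomputable def shiftEquiv (n : ℕ) : Ext.{u} K S.X₃ n ≃ₗ[A] Ext.{u} K S.X₁ (n + 1) :=
  LinearEquiv.ofBijective (delta hS K n) (delta_bijective hS K hvan hzero n)

end Groth.Agent.Lib.Helper20.ExtShiftCov
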