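import Mathlib
import Groth.Prelude.Def_GrLC
import Groth.Prelude.Def_GrLC2
import Groth.Agent.Lib.Helper20.GrExtGraded

/-!
# The socle of a localisation and the zeroth Bass number (helper20)

`soc 𝔭 N = (0 :_{N_𝔭} 𝔭 R_𝔭)`; `μ^0(𝔭, N)` is its length; essential extensions have the same
socle; the socle of a direct sum of essential extensions of cyclic modules `R/P_α` has length the
number of `α` with `P_α = 𝔭`.
-/

set_option autoImplicit false
set_option linter.unusedSectionVars false
set_option linter.unusedVariables false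
set_option linter.style.haveILetI false

universe u

open CategoryTheory Abelian IsLocalRing Groth.Agent.Lib.Helper4.LC
  Groth.Agent.Lib.Helper20.GrExtGraded

namespace Groth.Agent.Lib.Helper20.SocleCount

variable {R : Type u} [CommRing R] (𝔭 : Ideal R) [hp : 𝔭.IsPrime]

/-- the socle of the localisation `N_𝔭`. -/
def soc (N : Type u) [AddCommGroup N] [Module R N] :
    Submodule (Localization.AtPrime 𝔭) (LocalizedModule 𝔭.primeCompl N) :=
  tor (maximalIdeal (Localization.AtPrime 𝔭)) (LocalizedModule 𝔭.primeCompl N)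

/-- `μ^0(𝔭, N)` is the length of the socle. -/
theorem bassNum_zero_eq (N : Type u) [AddCommGroup N] [Module R N] :
    GrLC.bassNum 𝔭 N 0 = Module.length (Localization.AtPrime 𝔭) (soc 𝔭 N) := by
  unfold GrLC.bassNum GrLC.bassNumLocal
  exact ((extZeroEquiv (ResidueField (Localization.AtPrime 𝔭))
    (LocalizedModule 𝔭.primeCompl N)).trans
    (homQuotEquiv (maximalIdeal (Localization.AtPrime 𝔭))
      (LocalizedModule 𝔭.primeCompl N))).length_eq

variable {N : Type u} [AddCommGroup N] [Module R N]

lemma mk_eq_zero_iff (x : N) (s : 𝔭.primeCompl) :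
    LocalizedModule.mk x s = 0 ↔ ∃ t : R, t ∉ 𝔭 ∧ t • x = 0 := by
  rw [← LocalizedModule.zero_mk s, LocalizedModule.mk_eq]
  constructor
  · rintro ⟨u, hu⟩
    refine ⟨(u * s : 𝔭.primeCompl), (u * s).2, ?_⟩
    rw [smul_zero, smul_zero] at hu
    rw [Submonoid.coe_mul, mul_smul]
    exact hu
  · rintro ⟨t, ht, htx⟩
    refine ⟨⟨t, ht⟩, ?_⟩
    rw [smul_zero, smul_zero]
    show t • ((s : R) • x) = 0
    rw [smul_comm, htx, smul_zero]

lemma algebraMap_smul_mk (r : R) (x : N) (s : 𝔭.primeCompl) :
    algebraMap R (Localization.AtPrime 𝔭) r • (LocalizedModule.mk x s : LocalizedModule 𝔭.primeCompl N)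
      = LocalizedModule.mk (r • x) s := by
  rw [← Localization.mk_one_eq_algebraMap, LocalizedModule.mk_smul_mk, one_mul]

/-- membership of `mk x s` in the socle. -/
lemma mk_mem_soc_iff (x : N) (s : 𝔭.primeCompl) :
    (LocalizedModule.mk x s : LocalizedModule 𝔭.primeCompl N) ∈ soc 𝔭 N ↔
      ∀ r ∈ 𝔭, ∃ t : R, t ∉ 𝔭 ∧ t • r • x = 0 := by
  constructor
  · intro h r hr
    have h1 := h (algebraMap R (Localization.AtPrime 𝔭) r)
      ((IsLocalization.AtPrime.to_map_mem_maximal_iff (Localization.AtPrime 𝔭) 𝔭 r).2 hr)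
    rw [algebraMap_smul_mk, mk_eq_zero_iff] at h1
    exact h1
  · intro h a ha
    induction a using Localization.induction_on with
    | H as =>
      obtain ⟨a, t⟩ := as
      have ha' : a ∈ 𝔭 := by
        rw [Localization.mk_eq_mk'] at ha
        exact (IsLocalization.AtPrime.mk'_mem_maximal_iff (Localization.AtPrime 𝔭) 𝔭 a t).1 ha
      rw [LocalizedModule.mk_smul_mk, mk_eq_zero_iff]
      exact h a ha'

variable [IsNoetherianRing R]

/-- an element of the socle is represented by an element killed by `𝔭`. -/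
theorem exists_rep_of_mem_soc (y : LocalizedModule 𝔭.primeCompl N) (hy : y ∈ soc 𝔭 N) :
    ∃ (x : N) (s : 𝔭.primeCompl), y = LocalizedModule.mk x s ∧ ∀ r ∈ 𝔭, r • x = 0 := by
  classical
  induction y using LocalizedModule.induction_on with
  | h x s =>
    rw [mk_mem_soc_iff] at hy
    obtain ⟨G, hG⟩ := (isNoetherianRing_iff_ideal_fg R).1 inferInstance 𝔭
    have hGp : ∀ r ∈ G, r ∈ 𝔭 := fun r hr => hG ▸ Ideal.subset_span hr
    choose! t ht htx using hy
    let T : R := ∏ r ∈ G, t r
    have hT : T ∉ 𝔭 := by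
      intro hmem
      obtain ⟨r, hrG, hr⟩ := (Ideal.IsPrime.prod_mem_iff).1 hmem
      exact ht r (hGp r hrG) hr
    refine ⟨T • x, ⟨T, hT⟩ * s, ?_, ?_⟩
    · rw [LocalizedModule.mk_eq]
      refine ⟨1, ?_⟩
      simp only [one_smul]
      show (T * (s : R)) • x = s • T • x
      rw [mul_smul, smul_comm]
      rfl
    · intro r hr
      rw [← hG] at hr
      refine Submodule.span_induction (p := fun r _ => r • T • x = 0) ?_ ?_ ?_ ?_ hr
      · intro r hrG
        obtain ⟨c, hc⟩ := Finset.dvd_prod_of_mem t hrG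
        show r • T • x = 0
        rw [smul_comm, show T = c * t r from hc.trans (mul_comm _ _), mul_smul,
          htx r (hGp r hrG), smul_zero]
      · rw [zero_smul]
      · intro a b _ _ ha hb
        rw [add_smul, ha, hb, add_zero]
      · intro a b _ hb
        rw [smul_eq_mul, mul_smul, hb, smul_zero]

/-- **essential extensions have the same socle.** -/
theorem length_soc_eq_of_essential {N' : Type u} [AddCommGroup N'] [Module R N']
    (f : N →ₗ[R] N') (hf : Function.Injective f)
    (hess : ∀ x : N', x ≠ 0 → ∃ c : R, c • x ≠ 0 ∧ c • x ∈ LinearMap.range f) :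
    Module.length (Localization.AtPrime 𝔭) (soc 𝔭 N) =
      Module.length (Localization.AtPrime 𝔭) (soc 𝔭 N') := by
  let F := LocalizedModule.map 𝔭.primeCompl f
  have hFinj : Function.Injective F := LocalizedModule.map_injective 𝔭.primeCompl f hf
  have hmaps : ∀ y ∈ soc 𝔭 N, F y ∈ soc 𝔭 N' := by
    intro y hy a ha
    rw [← map_smul, hy a ha, map_zero]
  let G : soc 𝔭 N →ₗ[Localization.AtPrime 𝔭] soc 𝔭 N' := F.restrict hmaps
  have hGinj : Function.Injective G := by
    intro a b hab
    apply Subtype.ext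
    apply hFinj
    exact congrArg Subtype.val hab
  have hGsurj : Function.Surjective G := by
    rintro ⟨y', hy'⟩
    obtain ⟨x', s, rfl, hx'⟩ := exists_rep_of_mem_soc 𝔭 y' hy'
    by_cases hx0 : x' = 0
    · refine ⟨0, ?_⟩
      apply Subtype.ext
      rw [map_zero]
      show (0 : LocalizedModule 𝔭.primeCompl N') = LocalizedModule.mk x' s
      rw [hx0, LocalizedModule.zero_mk]
    · obtain ⟨c, hc0, x, hx⟩ := hess x' hx0
      have hc : c ∉ 𝔭 := fun h => hc0 (hx' c h)
      have hmem : (LocalizedModule.mk x (⟨c, hc⟩ * s) : LocalizedModule 𝔭.primeCompl N) ∈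
          soc 𝔭 N := by
        rw [mk_mem_soc_iff]
        intro r hr
        refine ⟨1, 𝔭.primeCompl.one_mem, ?_⟩
        rw [one_smul]
        apply hf
        rw [map_smul, hx, map_zero, smul_comm, hx' r hr, smul_zero]
      refine ⟨⟨_, hmem⟩, ?_⟩
      apply Subtype.ext
      show F (LocalizedModule.mk x (⟨c, hc⟩ * s)) = LocalizedModule.mk x' s
      rw [LocalizedModule.map_mk, hx, LocalizedModule.mk_eq]
      refine ⟨1, ?_⟩
      simp only [one_smul]
      show (s : R) • c • x' = (c * (s : R)) • x'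
      rw [mul_smul, smul_comm]
  exact (LinearEquiv.ofBijective G ⟨hGinj, hGsurj⟩).length_eq

end Groth.Agent.Lib.Helper20.SocleCount
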