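import Mathlib
import Groth.Prelude.Def_GrLC
import Groth.Prelude.Def_GrLC2
import Groth.Agent.Lib.Helper20.ExtShiftCov
import Groth.Agent.Lib.Helper20.SocleCount
import Groth.Agent.Lib.Helper20.BassInjDim

/-!
# Shifting Bass numbers along an essential embedding into a module without higher Bass numbers
(helper20)
-/

set_option autoImplicit false
set_option linter.unusedSectionVars false
set_option linter.unusedVariables false
set_option linter.style.haveILetI false

universe u

open CategoryTheory Abelian IsLocalRing Groth.Agent.Lib.Helper4.LC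
  Groth.Agent.Lib.Helper20.SocleCount Groth.Agent.Lib.Helper20.BassInjDim

namespace Groth.Agent.Lib.Helper20.BassShift

variable {R : Type u} [CommRing R] [IsNoetherianRing R] (𝔭 : Ideal R) [hp : 𝔭.IsPrime]

/-- Bass numbers are invariant under linear equivalences. -/
theorem bassNum_equiv {M N : Type u} [AddCommGroup M] [Module R M] [AddCommGroup N] [Module R N]
    (e : M ≃ₗ[R] N) (i : ℕ) : GrLC.bassNum 𝔭 M i = GrLC.bassNum 𝔭 N i := by
  unfold GrLC.bassNum GrLC.bassNumLocal
  let e' : LocalizedModule 𝔭.primeCompl M ≃ₗ[Localization.AtPrime 𝔭]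
      LocalizedModule 𝔭.primeCompl N :=
    IsLocalizedModule.mapEquiv 𝔭.primeCompl (LocalizedModule.mkLinearMap 𝔭.primeCompl M)
      (LocalizedModule.mkLinearMap 𝔭.primeCompl N) (Localization.AtPrime 𝔭) e
  exact (extCongrRight _ e'.toModuleIso i).length_eq

/-- elements of the socle of an essential extension come from the submodule. -/
theorem exists_preimage_of_mem_soc {N N' : Type u} [AddCommGroup N] [Module R N] [AddCommGroup N']
    [Module R N'] (f : N →ₗ[R] N') (hf : Function.Injective f)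
    (hess : ∀ x : N', x ≠ 0 → ∃ c : R, c • x ≠ 0 ∧ c • x ∈ LinearMap.range f)
    (y : LocalizedModule 𝔭.primeCompl N') (hy : y ∈ soc 𝔭 N') :
    ∃ y₀ : LocalizedModule 𝔭.primeCompl N, LocalizedModule.map 𝔭.primeCompl f y₀ = y := by
  obtain ⟨x', s, rfl, hx'⟩ := exists_rep_of_mem_soc 𝔭 y hy
  by_cases hx0 : x' = 0
  · refine ⟨0, ?_⟩
    rw [map_zero, hx0, LocalizedModule.zero_mk]
  · obtain ⟨c, hc0, x, hx⟩ := hess x' hx0
    have hc : c ∉ 𝔭 := fun h => hc0 (hx' c h)
    refine ⟨LocalizedModule.mk x (⟨c, hc⟩ * s), ?_⟩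
    rw [LocalizedModule.map_mk, hx, LocalizedModule.mk_eq]
    refine ⟨1, ?_⟩
    simp only [one_smul]
    show (s : R) • c • x' = (c * (s : R)) • x'
    rw [mul_smul, smul_comm]

/-- **shifting Bass numbers.** -/
theorem bassNum_shift {Z X Z' : Type u} [AddCommGroup Z] [Module R Z] [AddCommGroup X] [Module R X]
    [AddCommGroup Z'] [Module R Z'] (i : Z →ₗ[R] X) (π : X →ₗ[R] Z')
    (hi : Function.Injective i) (hπ : Function.Surjective π) (hex : Function.Exact i π)
    (hX : ∀ n : ℕ, GrLC.bassNum 𝔭 X (n + 1) = 0)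
    (hess : ∀ x : X, x ≠ 0 → ∃ c : R, c • x ≠ 0 ∧ c • x ∈ LinearMap.range i) (n : ℕ) :
    GrLC.bassNum 𝔭 Z' n = GrLC.bassNum 𝔭 Z (n + 1) := by
  let ip := LocalizedModule.map 𝔭.primeCompl i
  let πp := LocalizedModule.map 𝔭.primeCompl π
  have hexp : Function.Exact ip πp := LocalizedModule.map_exact 𝔭.primeCompl i π hex
  have hip : Function.Injective ip := LocalizedModule.map_injective 𝔭.primeCompl i hi
  have hπp : Function.Surjective πp := LocalizedModule.map_surjective 𝔭.primeCompl π hπ
  have hS := sesOf_shortExact ip πp hexp hip hπp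
  let K : ModuleCat.{u} (Localization.AtPrime 𝔭) :=
    ModuleCat.of (Localization.AtPrime 𝔭) (ResidueField (Localization.AtPrime 𝔭))
  have hvan : ∀ n : ℕ, Subsingleton (Ext.{u} K (sesOf ip πp hexp).X₂ (n + 1)) := by
    intro n
    exact (bassNum_eq_zero_iff 𝔭 X (n + 1)).1 (hX n)
  have hzero : ∀ x : Ext.{u} K (sesOf ip πp hexp).X₂ 0,
      x.comp (Ext.mk₀ (sesOf ip πp hexp).g) (add_zero 0) = 0 := by
    intro x
    obtain ⟨φ, rfl⟩ := (Ext.mk₀_bijective _ _).2 x
    rw [Ext.mk₀_comp_mk₀]
    have h0 : φ ≫ (sesOf ip πp hexp).g = 0 := by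
      ext c
      have hmem : φ.hom c ∈ soc 𝔭 X := by
        intro a ha
        rw [← map_smul]
        have : a • c = 0 := by
          obtain ⟨c', rfl⟩ := Ideal.Quotient.mk_surjective c
          show Ideal.Quotient.mk _ (a * c') = 0
          rw [Ideal.Quotient.eq_zero_iff_mem]
          exact Ideal.mul_mem_right _ _ ha
        rw [this, map_zero]
      obtain ⟨y₀, hy₀⟩ := exists_preimage_of_mem_soc 𝔭 i hi hess _ hmem
      show πp (φ.hom c) = 0
      rw [← hy₀]
      exact hexp.apply_apply_eq_zero y₀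
    rw [h0, Ext.mk₀_zero]
  unfold GrLC.bassNum GrLC.bassNumLocal
  exact (Groth.Agent.Lib.Helper20.ExtShiftCov.shiftEquiv hS K hvan hzero n).length_eq

end Groth.Agent.Lib.Helper20.BassShift
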