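import Mathlib
import Groth.Agent.Lib.Helper20.SocleCount

/-!
# Counting the socle of a direct sum of essential extensions of cyclic modules (helper20)
-/

set_option autoImplicit false
set_option linter.unusedSectionVars false
set_option linter.unusedVariables false
set_option linter.style.haveILetI false

universe u

open IsLocalRing Groth.Agent.Lib.Helper20.GrExtGraded

namespace Groth.Agent.Lib.Helper20.SocleCount

variable {R : Type u} [CommRing R] [IsNoetherianRing R] (𝔭 : Ideal R) [hp : 𝔭.IsPrime]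
  {X : Type u} [AddCommGroup X] [Module R X] {Λ : Type u} (J : Λ → Submodule R X)
  (hind : iSupIndep J) (htop : iSup J = ⊤) (v : Λ → X) (hv : ∀ α, v α ∈ J α)
  (P : Λ → Ideal R) (hP : ∀ α, (P α).IsPrime) (hann : ∀ α r, r • v α = 0 ↔ r ∈ P α)
  (hess : ∀ α, ∀ x ∈ J α, x ≠ 0 → ∃ c b : R, c • x ≠ 0 ∧ c • x = b • v α)

/-- the image of `v α` in the localisation. -/
noncomputable def w (α : Λ) : LocalizedModule 𝔭.primeCompl X := LocalizedModule.mk (v α) 1

include hann in
lemma smul_w_eq_zero (α : Λ) (hα : P α = 𝔭) (a : Localization.AtPrime 𝔭)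
    (ha : a ∈ maximalIdeal (Localization.AtPrime 𝔭)) : a • w 𝔭 v α = 0 := by
  have hmem : w 𝔭 v α ∈ soc 𝔭 X := by
    unfold w
    rw [mk_mem_soc_iff]
    intro r hr
    refine ⟨1, 𝔭.primeCompl.one_mem, ?_⟩
    rw [one_smul, hann, hα]
    exact hr
  exact hmem a ha

/-- the map `k → X_𝔭`, `1 ↦ w α`. -/
noncomputable def φ (α : {α // P α = 𝔭}) :
    (Localization.AtPrime 𝔭 ⧸ maximalIdeal (Localization.AtPrime 𝔭)) →ₗ[Localization.AtPrime 𝔭]
      LocalizedModule 𝔭.primeCompl X :=
  Submodule.liftQ (maximalIdeal (Localization.AtPrime 𝔭))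
    (LinearMap.toSpanSingleton (Localization.AtPrime 𝔭) _ (w 𝔭 v α.1)) (by
      intro a ha
      rw [LinearMap.mem_ker, LinearMap.toSpanSingleton_apply]
      exact smul_w_eq_zero 𝔭 v P hann α.1 α.2 a ha)

lemma φ_mk (α : {α // P α = 𝔭}) (a : Localization.AtPrime 𝔭) :
    φ 𝔭 v P hann α (Submodule.Quotient.mk a) = a • w 𝔭 v α.1 := by
  unfold φ
  rw [Submodule.liftQ_apply, LinearMap.toSpanSingleton_apply]

/-- the comparison map. -/
noncomputable def Φ : ({α // P α = 𝔭} →₀
    (Localization.AtPrime 𝔭 ⧸ maximalIdeal (Localization.AtPrime 𝔭))) →ₗ[Localization.AtPrime 𝔭]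
      LocalizedModule 𝔭.primeCompl X :=
  Finsupp.lsum (Localization.AtPrime 𝔭) (fun α => φ 𝔭 v P hann α)

lemma Φ_single (α : {α // P α = 𝔭}) (a : Localization.AtPrime 𝔭) :
    Φ 𝔭 v P hann (Finsupp.single α (Submodule.Quotient.mk a)) = a • w 𝔭 v α.1 := by
  unfold Φ
  rw [Finsupp.lsum_single, φ_mk]

lemma range_Φ_le : LinearMap.range (Φ 𝔭 v P hann) ≤ soc 𝔭 X := by
  rintro _ ⟨ξ, rfl⟩
  induction ξ using Finsupp.induction_linear with
  | zero => rw [map_zero]; exact Submodule.zero_mem _
  | add f g hf hg => rw [map_add]; exact Submodule.add_mem _ hf hg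
  | single α c =>
    obtain ⟨a, rfl⟩ := Submodule.Quotient.mk_surjective _ c
    rw [Φ_single]
    intro b hb
    rw [smul_comm, smul_w_eq_zero 𝔭 v P hann α.1 α.2 b hb, smul_zero]

include hP hess in
/-- a homogeneous-component-like piece of a socle element lies in the range. -/
lemma mk_mem_range (α : Λ) (z : X) (hz : z ∈ J α) (hz0 : ∀ r ∈ 𝔭, r • z = 0) :
    (LocalizedModule.mk z 1 : LocalizedModule 𝔭.primeCompl X) ∈
      LinearMap.range (Φ 𝔭 v P hann) := by
  by_cases h0 : (LocalizedModule.mk z 1 : LocalizedModule 𝔭.primeCompl X) = 0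
  · rw [h0]
    exact Submodule.zero_mem _
  · have hu : ∀ u : R, u ∉ 𝔭 → u • z ≠ 0 := by
      intro u hu hz
      exact h0 ((mk_eq_zero_iff 𝔭 z 1).2 ⟨u, hu, hz⟩)
    have hzne : z ≠ 0 := by
      intro h
      apply h0
      rw [h, LocalizedModule.zero_mk]
    obtain ⟨c, b, hc0, hcb⟩ := hess α z hz hzne
    have hc : c ∉ 𝔭 := fun h => hc0 (hz0 c h)
    have hbv : b • v α ≠ 0 := hcb ▸ hc0
    have hbP : b ∉ P α := fun h => hbv ((hann α b).2 h)
    have hPα : P α = 𝔭 := by
      apply le_antisymm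
      · intro r hr
        by_contra hrp
        have h1 : (r * c) • z = 0 := by
          rw [mul_smul, hcb, ← mul_smul, mul_comm, mul_smul, (hann α r).2 hr, smul_zero]
        exact hu (r * c) (fun hmem => (hp.mem_or_mem hmem).elim hrp hc) h1
      · intro r hr
        have h1 : (r * b) • v α = 0 := by
          rw [mul_smul, ← hcb, smul_comm, hz0 r hr, smul_zero]
        have h2 := (hann α (r * b)).1 h1
        exact ((hP α).mem_or_mem h2).resolve_right hbP
    refine ⟨Finsupp.single ⟨α, hPα⟩ (Submodule.Quotient.mk (Localization.mk b ⟨c, hc⟩)), ?_⟩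
    rw [Φ_single]
    unfold w
    rw [LocalizedModule.mk_smul_mk, LocalizedModule.mk_eq]
    refine ⟨1, ?_⟩
    simp only [one_smul, mul_one]
    show b • v α = c • z
    rw [hcb]

include hind htop hP hess in
/-- the socle lies in the range. -/
lemma soc_le_range : soc 𝔭 X ≤ LinearMap.range (Φ 𝔭 v P hann) := by
  classical
  intro y hy
  obtain ⟨x, s, rfl, hx⟩ := exists_rep_of_mem_soc 𝔭 y hy
  have hint := DirectSum.isInternal_submodule_of_iSupIndep_of_iSup_eq_top hind htop
  let D := (LinearEquiv.ofBijective (DirectSum.coeLinearMap J) hint).symm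
  have hsum : x = ∑ α ∈ (D x).support, ((D x α : J α) : X) := by
    have h1 : DirectSum.coeLinearMap J (D x) = x :=
      (LinearEquiv.ofBijective (DirectSum.coeLinearMap J) hint).apply_symm_apply x
    rw [DirectSum.coeLinearMap_eq_dfinsuppSum] at h1
    exact h1.symm
  have h2 : (LocalizedModule.mk x s : LocalizedModule 𝔭.primeCompl X) =
      (Localization.mk 1 s : Localization.AtPrime 𝔭) • LocalizedModule.mkLinearMap 𝔭.primeCompl X x := by
    rw [LocalizedModule.mkLinearMap_apply, LocalizedModule.mk_smul_mk, one_smul, mul_one]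
  rw [h2]
  apply Submodule.smul_mem
  rw [hsum, map_sum]
  apply Submodule.sum_mem
  intro α _
  rw [LocalizedModule.mkLinearMap_apply]
  apply mk_mem_range 𝔭 J v P hP hann hess α _ (D x α).2
  intro r hr
  have h3 : D (r • x) = 0 := by rw [hx r hr, map_zero]
  rw [map_smul] at h3
  have h4 : r • (D x α) = 0 := by
    have := congrArg (fun d => (d α : J α)) h3
    exact this
  have h5 := congrArg Subtype.val h4
  simpa using h5

include hind in
/-- a finite sum of elements of the independent family vanishes only termwise. -/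
lemma eq_zero_of_sum_eq_zero {κ : Type*} (F : Finset κ) (ι' : κ → Λ) (hι : Function.Injective ι')
    (u : κ → X) (hu : ∀ α ∈ F, u α ∈ J (ι' α)) (h : ∑ α ∈ F, u α = 0) : ∀ α ∈ F, u α = 0 := by
  classical
  intro α₀ hα₀
  have h1 : u α₀ = -∑ α ∈ F.erase α₀, u α := by
    rw [← Finset.add_sum_erase F u hα₀] at h
    exact eq_neg_of_add_eq_zero_left h
  have h2 : u α₀ ∈ ⨆ (β : Λ) (_ : β ≠ ι' α₀), J β := by
    rw [h1]
    apply Submodule.neg_mem
    apply Submodule.sum_mem
    intro α hα
    have hne : ι' α ≠ ι' α₀ := fun h => (Finset.ne_of_mem_erase hα) (hι h)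
    exact Submodule.mem_iSup_of_mem (ι' α) (Submodule.mem_iSup_of_mem hne
      (hu α (Finset.mem_of_mem_erase hα)))
  have h3 := (hind (ι' α₀)).le_bot ⟨hu α₀ hα₀, h2⟩
  exact (Submodule.mem_bot R).1 h3

include hind hv hann in
/-- coefficients of a vanishing combination of the `w α` lie in the maximal ideal. -/
lemma coeff_mem_of_sum_eq_zero (F : Finset {α // P α = 𝔭}) (a : {α // P α = 𝔭} → Localization.AtPrime 𝔭)
    (h : ∑ α ∈ F, a α • w 𝔭 v α.1 = 0) :
    ∀ α ∈ F, a α ∈ maximalIdeal (Localization.AtPrime 𝔭) := by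
  classical
  obtain ⟨b, hb⟩ := IsLocalization.exist_integer_multiples 𝔭.primeCompl F a
  choose! n hn using hb
  have h1 : (LocalizedModule.mkLinearMap 𝔭.primeCompl X) (∑ α ∈ F, n α • v α.1) = 0 := by
    rw [map_sum]
    have h2 : ∀ α ∈ F, (LocalizedModule.mkLinearMap 𝔭.primeCompl X) (n α • v α.1) =
        algebraMap R (Localization.AtPrime 𝔭) (b : R) • (a α • w 𝔭 v α.1) := by
      intro α hα
      rw [LocalizedModule.mkLinearMap_apply, ← smul_assoc, smul_eq_mul, ← Algebra.smul_def,
        ← hn α hα]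
      unfold w
      rw [algebraMap_smul_mk]
    rw [Finset.sum_congr rfl h2, ← Finset.smul_sum, h, smul_zero]
  rw [LocalizedModule.mkLinearMap_apply, mk_eq_zero_iff] at h1
  obtain ⟨t, ht, htx⟩ := h1
  rw [Finset.smul_sum] at htx
  have h3 := eq_zero_of_sum_eq_zero J hind F (fun α => α.1) Subtype.val_injective
    (fun α => t • n α • v α.1) (fun α _ => Submodule.smul_mem _ _ (Submodule.smul_mem _ _ (hv α.1))) htx
  intro α hα
  have h4 : (t * n α) • v α.1 = 0 := by
    rw [mul_smul]
    exact h3 α hα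
  have h5 : t * n α ∈ 𝔭 := by
    rw [← α.2]
    exact (hann α.1 _).1 h4
  have h6 : n α ∈ 𝔭 := (hp.mem_or_mem h5).resolve_left ht
  have h7 : algebraMap R (Localization.AtPrime 𝔭) (n α) ∈ maximalIdeal (Localization.AtPrime 𝔭) :=
    (IsLocalization.AtPrime.to_map_mem_maximal_iff (Localization.AtPrime 𝔭) 𝔭 (n α)).2 h6
  rw [hn α hα, Algebra.smul_def] at h7
  have hbu : algebraMap R (Localization.AtPrime 𝔭) (b : R) ∉ maximalIdeal (Localization.AtPrime 𝔭) :=
    fun hmem => b.2
      ((IsLocalization.AtPrime.to_map_mem_maximal_iff (Localization.AtPrime 𝔭) 𝔭 (b : R)).1 hmem)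
  exact ((maximalIdeal.isMaximal _).isPrime.mem_or_mem h7).resolve_left hbu

include hind hv hann in
lemma Φ_injective : Function.Injective (Φ 𝔭 v P hann) := by
  classical
  rw [injective_iff_map_eq_zero]
  intro ξ hξ
  choose lift hlift using fun c : Localization.AtPrime 𝔭 ⧸ maximalIdeal (Localization.AtPrime 𝔭) =>
    Submodule.Quotient.mk_surjective _ c
  have h1 : Φ 𝔭 v P hann ξ = ∑ α ∈ ξ.support, lift (ξ α) • w 𝔭 v α.1 := by
    conv_lhs => rw [← Finsupp.sum_single ξ]
    rw [Finsupp.sum, map_sum]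
    refine Finset.sum_congr rfl fun α _ => ?_
    conv_lhs => rw [← hlift (ξ α)]
    exact Φ_single 𝔭 v P hann α _
  rw [h1] at hξ
  have h2 := coeff_mem_of_sum_eq_zero 𝔭 J hind v hv P hann ξ.support (fun α => lift (ξ α)) hξ
  ext α
  by_cases hα : α ∈ ξ.support
  · rw [← hlift (ξ α), Finsupp.zero_apply]
    exact (Submodule.Quotient.mk_eq_zero _).2 (h2 α hα)
  · rw [Finsupp.notMem_support_iff] at hα
    rw [hα, Finsupp.zero_apply]

include hind htop hv hP hess hann in
/-- **the length of the socle is the number of `α` with `P α = 𝔭`.** -/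
theorem length_soc_eq_card :
    Module.length (Localization.AtPrime 𝔭) (soc 𝔭 X) = ENat.card {α // P α = 𝔭} := by
  have hrange : LinearMap.range (Φ 𝔭 v P hann) = soc 𝔭 X :=
    le_antisymm (range_Φ_le 𝔭 v P hann) (soc_le_range 𝔭 J hind htop v P hP hann hess)
  rw [← hrange, ← (LinearEquiv.ofInjective (Φ 𝔭 v P hann)
    (Φ_injective 𝔭 J hind v hv P hann)).length_eq, Module.length_finsupp]
  haveI : IsSimpleModule (Localization.AtPrime 𝔭)
      (Localization.AtPrime 𝔭 ⧸ maximalIdeal (Localization.AtPrime 𝔭)) := by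
    rw [isSimpleModule_iff_isCoatom]
    exact Ideal.isMaximal_def.1 (maximalIdeal.isMaximal _)
  rw [Module.length_eq_one, mul_one]

end Groth.Agent.Lib.Helper20.SocleCount
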