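import Mathlib
import Groth.Prelude.Def_GrLC
import Groth.Prelude.Def_GrLC2
import Groth.Agent.Lib.Helper20.SocleCount2
import Groth.Agent.Lib.Helper20.GrLCQuot
import Groth.Agent.Lib.Helper20.GrLCBasic

/-!
# Counting the summands `*E(R/p)` of a `*`injective hull by Bass numbers (helper20)
-/

set_option autoImplicit false
set_option linter.unusedSectionVars false
set_option linter.unusedVariables false
set_option linter.style.haveILetI false

universe u

open GrLC Groth.Agent.Lib.Helper20.GrLCBasic Groth.Agent.Lib.Helper20.GrLCQuot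
  Groth.Agent.Lib.Helper20.SocleCount

namespace Groth.Agent.Lib.Helper20.GrHullCount

variable {ι : Type} [AddCommGroup ι] [DecidableEq ι] {R : Type u} [CommRing R]
  (𝒜 : ι → AddSubgroup R) [GradedRing 𝒜]
  {E' : Type u} [AddCommGroup E'] [Module R E'] (𝓔 : ι → AddSubgroup E')
  [DirectSum.Decomposition 𝓔] [SetLike.GradedSMul 𝒜 𝓔]

include 𝒜 in
/-- relative form of `*`essential ⇒ essential: inside a homogeneous submodule `J`. -/
theorem exists_smul_mem_rel (J : Submodule R E') (hJ : J.IsHomogeneous 𝓔) (N : Submodule R E')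
    (hN : N.IsHomogeneous 𝓔)
    (hess : ∀ Q : Submodule R E', Q.IsHomogeneous 𝓔 → Q ≤ J → Q ≠ ⊥ → Q ⊓ N ≠ ⊥)
    (x : E') (hx : x ∈ J) (hx0 : x ≠ 0) : ∃ c : R, c • x ≠ 0 ∧ c • x ∈ N := by
  letI : DirectSum.Decomposition (subGr 𝓔 J) := (isInternal_subGr 𝓔 J hJ).chooseDecomposition
  have hN' : (N.comap J.subtype).IsHomogeneous (subGr 𝓔 J) :=
    comap_isHomogeneous (subGr 𝓔 J) 𝓔 J.subtype (subtype_isGrHom 𝓔 J) N hN
  have hess' : ∀ P' : Submodule R ↥J, P'.IsHomogeneous (subGr 𝓔 J) → P' ≠ ⊥ →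
      P' ⊓ N.comap J.subtype ≠ ⊥ := by
    intro P' hP' hP'0
    have hQhom : (P'.map J.subtype).IsHomogeneous 𝓔 := by
      intro i y hy
      obtain ⟨z, hz, rfl⟩ := hy
      rw [decompose_map (subGr 𝓔 J) 𝓔 J.subtype (subtype_isGrHom 𝓔 J) z i]
      exact ⟨_, hP' i hz, rfl⟩
    have hQle : P'.map J.subtype ≤ J := by
      rintro _ ⟨z, _, rfl⟩
      exact z.2
    have hQ0 : P'.map J.subtype ≠ ⊥ := by
      intro h
      apply hP'0
      rw [eq_bot_iff]
      intro z hz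
      have : J.subtype z ∈ P'.map J.subtype := ⟨z, hz, rfl⟩
      rw [h, Submodule.mem_bot] at this
      rw [Submodule.mem_bot]
      exact Subtype.ext this
    obtain ⟨y, ⟨⟨z, hz, rfl⟩, hyN⟩, hy0⟩ := (Submodule.ne_bot_iff _).1 (hess _ hQhom hQle hQ0)
    refine (Submodule.ne_bot_iff _).2 ⟨z, ⟨hz, hyN⟩, ?_⟩
    intro h
    apply hy0
    rw [h]
    rfl
  have hx0' : (⟨x, hx⟩ : ↥J) ≠ 0 := fun h => hx0 (congrArg Subtype.val h)
  obtain ⟨c, hc0, hcN⟩ := exists_smul_mem_of_starEss 𝒜 (subGr 𝓔 J) (N.comap J.subtype) hN' hess'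
    ⟨x, hx⟩ hx0'
  refine ⟨c, fun h => hc0 (Subtype.ext h), hcN⟩

variable [IsNoetherianRing R] {M : Type u} [AddCommGroup M] [Module R M] (ℳ : ι → AddSubgroup M)
  [DirectSum.Decomposition ℳ] [SetLike.GradedSMul 𝒜 ℳ]

/-- **the number of summands `*E(R/p)(−g)` of a `*`injective hull of `M` is `μ^0(p, M)`.** -/
theorem card_eq_bassNum (e : M →ₗ[R] E') (he : GrLC.IsStarInjHull 𝒜 ℳ 𝓔 e) (Λ : Type u)
    (P : Λ → HomogeneousIdeal 𝒜) (hP : ∀ α, (P α).toIdeal.IsPrime) (g : Λ → ι)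
    (J : Λ → Submodule R E') (hJ : ∀ α, (J α).IsHomogeneous 𝓔) (hind : iSupIndep J)
    (htop : iSup J = ⊤) (f : ∀ α, (R ⧸ (P α).toIdeal) →ₗ[R] E')
    (hf : ∀ α, Function.Injective (f α) ∧ GrLC.IsGrHomDeg (GrLC.quotGr 𝒜 (P α)) 𝓔 (f α) (g α) ∧
      LinearMap.range (f α) ≤ J α ∧ ∀ Q : Submodule R E', Q.IsHomogeneous 𝓔 → Q ≤ J α → Q ≠ ⊥ →
        Q ⊓ LinearMap.range (f α) ≠ ⊥)
    (p : HomogeneousIdeal 𝒜) [p.toIdeal.IsPrime] :
    Cardinal.toENat (Cardinal.mk {α : Λ // P α = p}) = GrLC.bassNum p.toIdeal M 0 := by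
  classical
  -- the generators
  let v : Λ → E' := fun α => f α 1
  have hfr : ∀ α (r : R), f α (Ideal.Quotient.mk _ r) = r • v α := by
    intro α r
    have : (Ideal.Quotient.mk (P α).toIdeal r) = r • (1 : R ⧸ (P α).toIdeal) := by
      rw [Algebra.smul_def, mul_one]
      rfl
    rw [this, map_smul]
  have hv : ∀ α, v α ∈ J α := fun α => (hf α).2.2.1 ⟨1, rfl⟩
  have hann : ∀ α r, r • v α = 0 ↔ r ∈ (P α).toIdeal := by
    intro α r
    rw [← hfr, ← map_zero (f α), (hf α).1.eq_iff, Ideal.Quotient.eq_zero_iff_mem]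
  have hrange : ∀ α, LinearMap.range (f α) = Submodule.span R {v α} := by
    intro α
    apply le_antisymm
    · rintro _ ⟨y, rfl⟩
      obtain ⟨r, rfl⟩ := Ideal.Quotient.mk_surjective y
      rw [hfr]
      exact Submodule.smul_mem _ _ (Submodule.subset_span rfl)
    · rw [Submodule.span_le]
      rintro _ rfl
      exact ⟨1, rfl⟩
  have hvdeg : ∀ α, v α ∈ 𝓔 (0 + g α) := by
    intro α
    refine (hf α).2.1 0 1 ?_
    exact ⟨1, SetLike.GradedOne.one_mem (A := 𝒜), map_one (Ideal.Quotient.mk (P α).toIdeal)⟩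
  have hrhom : ∀ α, (LinearMap.range (f α)).IsHomogeneous 𝓔 := by
    intro α
    rw [hrange]
    exact span_singleton_isHomogeneous 𝒜 𝓔 (hvdeg α)
  have hess : ∀ α, ∀ x ∈ J α, x ≠ 0 → ∃ c b : R, c • x ≠ 0 ∧ c • x = b • v α := by
    intro α x hx hx0
    obtain ⟨c, hc0, y, hy⟩ := exists_smul_mem_rel 𝒜 𝓔 (J α) (hJ α) _ (hrhom α) (hf α).2.2.2 x hx hx0
    obtain ⟨b, rfl⟩ := Ideal.Quotient.mk_surjective y
    exact ⟨c, b, hc0, by rw [← hy, hfr]⟩
  have hcount := length_soc_eq_card p.toIdeal J hind htop v hv (fun α => (P α).toIdeal) hP hann hess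
  -- `M ⊂ E'` is essential
  have hrangeM : (LinearMap.range e).IsHomogeneous 𝓔 := by
    intro i y hy
    obtain ⟨x, rfl⟩ := hy
    rw [decompose_map ℳ 𝓔 e he.grHom x i]
    exact ⟨_, rfl⟩
  have hessM := exists_smul_mem_of_starEss 𝒜 𝓔 (LinearMap.range e) hrangeM he.essential
  rw [bassNum_zero_eq, length_soc_eq_of_essential p.toIdeal e he.injective hessM, hcount]
  have heq : {α : Λ // P α = p} ≃ {α : Λ // (P α).toIdeal = p.toIdeal} :=
    Equiv.subtypeEquivRight fun α =>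
      ⟨fun h => by rw [h], fun h => HomogeneousIdeal.toIdeal_injective h⟩
  rw [Cardinal.mk_congr heq]
  rfl

end Groth.Agent.Lib.Helper20.GrHullCount
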