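import Mathlib
import Groth.Prelude.Def_GrLC
import Groth.Prelude.Def_GrLC2
import Groth.Agent.Lib.Helper20.GrHullCount
import Groth.Agent.Lib.Helper20.BassShift
import Groth.Agent.Lib.Helper20.GrExtGraded

/-!
# Counting the summands of a minimal `*`injective resolution by Bass numbers (helper20)
-/

set_option autoImplicit false
set_option linter.unusedSectionVars false
set_option linter.unusedVariables false
set_option linter.style.haveILetI false

universe u

open CategoryTheory Abelian GrLC Groth.Agent.Lib.Helper20.GrLCBasic Groth.Agent.Lib.Helper20.GrLCQuot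
  Groth.Agent.Lib.Helper20.BassShift Groth.Agent.Lib.Helper20.BassInjDim

namespace Groth.Agent.Lib.Helper20.GrMinResCount

variable {ι : Type} [AddCommGroup ι] [DecidableEq ι] {R : Type u} [CommRing R] [IsNoetherianRing R]
  (𝒜 : ι → AddSubgroup R) [GradedRing 𝒜]

/-- Bass numbers of a `*`injective module at a homogeneous prime vanish in positive degrees. -/
theorem bassNum_hom' {X : Type u} [AddCommGroup X] [Module R X] (𝓧 : ι → AddSubgroup X)
    [DirectSum.Decomposition 𝓧] [SetLike.GradedSMul 𝒜 𝓧] (hX : GrLC.IsStarInj 𝒜 𝓧)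
    (P : Ideal R) [P.IsPrime] (hP : P.IsHomogeneous 𝒜) (i : ℕ) :
    GrLC.bassNum P X (i + 1) = 0 := by
  haveI := Groth.Agent.Lib.Helper20.GrExtGraded.key_all 𝒜 P hP 𝓧 hX i
  exact bassNum_eq_zero_of_le P P le_rfl X (i + 1)
    ((subsingleton_ext_loc_iff P.primeCompl (R ⧸ P) X (i + 1)).2
      (fun e => ⟨1, by rw [Subsingleton.elim e 0, smul_zero]⟩))

variable {M : Type u} [AddCommGroup M] [Module R M] {ℳ : ι → AddSubgroup M}
  [DirectSum.Decomposition ℳ] [SetLike.GradedSMul 𝒜 ℳ] (E : GrLC.StarInjRes 𝒜 ℳ)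

/-- the cycles of the resolution. -/
def Zs : (j : ℕ) → Submodule R (E.X j).carrier
  | 0 => LinearMap.range E.ε
  | (j + 1) => LinearMap.range (E.d j)

lemma ker_d (j : ℕ) : LinearMap.ker (E.d j) = Zs 𝒜 E j := by
  cases j with
  | zero => exact E.exact_zero
  | succ j => exact E.exact_succ j

lemma Zs_isHomogeneous (j : ℕ) : (Zs 𝒜 E j).IsHomogeneous (E.X j).gr := by
  cases j with
  | zero => exact range_isHomogeneous ℳ (E.X 0).gr E.ε E.ε_grHom
  | succ j => exact range_isHomogeneous (E.X j).gr (E.X (j + 1)).gr (E.d j) (E.d_grHom j)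

variable (hmin0 : ∀ P : Submodule R (E.X 0).carrier, P.IsHomogeneous (E.X 0).gr → P ≠ ⊥ →
    P ⊓ LinearMap.range E.ε ≠ ⊥)
  (hmin : ∀ (n : ℕ) (P : Submodule R (E.X (n + 1)).carrier), P.IsHomogeneous (E.X (n + 1)).gr →
    P ≠ ⊥ → P ⊓ LinearMap.range (E.d n) ≠ ⊥)

include hmin0 hmin in
lemma Zs_ess (j : ℕ) : ∀ P : Submodule R (E.X j).carrier, P.IsHomogeneous (E.X j).gr → P ≠ ⊥ →
    P ⊓ Zs 𝒜 E j ≠ ⊥ := by
  cases j with
  | zero => exact hmin0
  | succ j => exact hmin j

include hmin0 hmin in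
/-- **Bass numbers of the cycles.** -/
theorem bassNum_Zs (p : Ideal R) [p.IsPrime] (hp : p.IsHomogeneous 𝒜) :
    ∀ (j n : ℕ), GrLC.bassNum p (Zs 𝒜 E j) n = GrLC.bassNum p M (n + j) := by
  intro j
  induction j with
  | zero =>
    intro n
    exact (bassNum_equiv p (LinearEquiv.ofInjective E.ε E.ε_injective) n).symm
  | succ j ih =>
    intro n
    have hex : Function.Exact (Zs 𝒜 E j).subtype (E.d j).rangeRestrict := by
      intro x
      have hmem : x ∈ Set.range ⇑(Zs 𝒜 E j).subtype ↔ x ∈ LinearMap.ker (E.d j) := by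
        rw [ker_d]
        constructor
        · rintro ⟨y, rfl⟩
          exact y.2
        · intro h
          exact ⟨⟨x, h⟩, rfl⟩
      rw [hmem, LinearMap.mem_ker]
      constructor
      · intro h
        exact congrArg Subtype.val h
      · intro h
        apply Subtype.ext
        exact h
    have hshift := bassNum_shift p (Zs 𝒜 E j).subtype (E.d j).rangeRestrict
      (Submodule.injective_subtype _) (LinearMap.surjective_rangeRestrict _) hex
      (fun n => bassNum_hom' 𝒜 (E.X j).gr (E.starInj j) p hp n)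
      (by
        have h := exists_smul_mem_of_starEss 𝒜 (E.X j).gr (Zs 𝒜 E j) (Zs_isHomogeneous 𝒜 E j)
          (Zs_ess 𝒜 E hmin0 hmin j)
        intro x hx
        obtain ⟨c, hc0, hc⟩ := h x hx
        exact ⟨c, hc0, by rw [Submodule.range_subtype]; exact hc⟩) n
    have h1 : GrLC.bassNum p (Zs 𝒜 E (j + 1)) n = GrLC.bassNum p (Zs 𝒜 E j) (n + 1) := hshift
    rw [h1, ih (n + 1)]
    congr 1
    omega

include hmin0 hmin in
/-- **the number of summands `*E(R/p)(−g)` of the `j`-th term of a minimal `*`injective resolution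
of `M` is `μ^j(p, M)`.** -/
theorem card_eq_bassNum (j : ℕ) (Λ : Type u)
    (P : Λ → HomogeneousIdeal 𝒜) (hP : ∀ α, (P α).toIdeal.IsPrime) (g : Λ → ι)
    (J : Λ → Submodule R (E.X j).carrier) (hJ : ∀ α, (J α).IsHomogeneous (E.X j).gr)
    (hind : iSupIndep J) (htop : iSup J = ⊤) (f : ∀ α, (R ⧸ (P α).toIdeal) →ₗ[R] (E.X j).carrier)
    (hf : ∀ α, Function.Injective (f α) ∧
      GrLC.IsGrHomDeg (GrLC.quotGr 𝒜 (P α)) (E.X j).gr (f α) (g α) ∧
      LinearMap.range (f α) ≤ J α ∧ ∀ Q : Submodule R (E.X j).carrier,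
        Q.IsHomogeneous (E.X j).gr → Q ≤ J α → Q ≠ ⊥ → Q ⊓ LinearMap.range (f α) ≠ ⊥)
    (p : HomogeneousIdeal 𝒜) [p.toIdeal.IsPrime] :
    Cardinal.toENat (Cardinal.mk {α : Λ // P α = p}) = GrLC.bassNum p.toIdeal M j := by
  letI : DirectSum.Decomposition (subGr (E.X j).gr (Zs 𝒜 E j)) :=
    (isInternal_subGr (E.X j).gr (Zs 𝒜 E j) (Zs_isHomogeneous 𝒜 E j)).chooseDecomposition
  have he : GrLC.IsStarInjHull 𝒜 (subGr (E.X j).gr (Zs 𝒜 E j)) (E.X j).gr (Zs 𝒜 E j).subtype :=
    { injective := Submodule.injective_subtype _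
      grHom := subtype_isGrHom (E.X j).gr (Zs 𝒜 E j)
      essential := by
        intro Q hQ hQ0
        rw [Submodule.range_subtype]
        exact Zs_ess 𝒜 E hmin0 hmin j Q hQ hQ0
      starInj := E.starInj j }
  rw [Groth.Agent.Lib.Helper20.GrHullCount.card_eq_bassNum 𝒜 (E.X j).gr
    (subGr (E.X j).gr (Zs 𝒜 E j)) (Zs 𝒜 E j).subtype he Λ P hP g J hJ hind htop f hf p,
    bassNum_Zs 𝒜 E hmin0 hmin p.toIdeal p.isHomogeneous j 0, zero_add]

end Groth.Agent.Lib.Helper20.GrMinResCount
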