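import Mathlib
import Groth.Prelude.Def_GrLC
import Groth.Prelude.Def_GrLC2
import Groth.Agent.Lib.Helper20.GrLCPrime
import Groth.Agent.Lib.Helper20.GrHeight2
import Groth.Agent.Lib.Helper20.SocleCount
import Groth.Agent.Lib.Helper20.GrMinResCount

/-!
# `*`local rings: socles, torsion and Bass numbers (helper20)
-/

set_option autoImplicit false
set_option linter.unusedSectionVars false
set_option linter.unusedVariables false
set_option linter.style.haveILetI false

universe u

open GrLC Groth.Agent.Lib.Helper20.GrLCBasic Groth.Agent.Lib.Helper20.GrLCQuot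
  Groth.Agent.Lib.Helper20.GrLCPrime Groth.Agent.Lib.Helper20.SocleCount
  Groth.Agent.Lib.Helper20.GrMinResCount

namespace Groth.Agent.Lib.Helper20.GrStarLocalBass

section prime

variable {ι : Type} [AddCommGroup ι] [DecidableEq ι] [Module.Free ℤ ι] [Module.Finite ℤ ι]
  {R : Type u} [CommRing R] (𝒜 : ι → AddSubgroup R) [GradedRing 𝒜]

/-- a `*`maximal ideal is prime. -/
theorem isPrime_of_isCoatom (m : HomogeneousIdeal 𝒜) (hm : IsCoatom m) : m.toIdeal.IsPrime := by
  apply isPrime_of_homogeneous_mem_or_mem' m.isHomogeneous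
  · intro h
    apply hm.1
    apply HomogeneousIdeal.toIdeal_injective
    rw [h, HomogeneousIdeal.toIdeal_top]
  · rintro x y ⟨i, hx⟩ ⟨j, hy⟩ hxy
    by_contra hcon
    push Not at hcon
    obtain ⟨hxm, hym⟩ := hcon
    let Jx : HomogeneousIdeal 𝒜 := ⟨Ideal.span {x}, Ideal.homogeneous_span 𝒜 {x} (by
      rintro _ rfl
      exact ⟨i, hx⟩)⟩
    have hlt : m < m ⊔ Jx := by
      refine lt_of_le_of_ne le_sup_left ?_
      intro h
      apply hxm
      have h1 : Jx ≤ m := by
        rw [h]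
        exact le_sup_right
      exact h1 (Ideal.subset_span (Set.mem_singleton x))
    have htop : m ⊔ Jx = ⊤ := hm.2 _ hlt
    have h1 : (1 : R) ∈ (m ⊔ Jx).toIdeal := by
      rw [htop, HomogeneousIdeal.toIdeal_top]
      exact Submodule.mem_top
    rw [HomogeneousIdeal.toIdeal_sup] at h1
    obtain ⟨a, ha, b, hb, hab⟩ := Submodule.mem_sup.1 h1
    obtain ⟨r, rfl⟩ := Ideal.mem_span_singleton'.1 hb
    apply hym
    have : y = a * y + r * (x * y) := by
      calc y = (a + r * x) * y := by rw [hab, one_mul]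
        _ = a * y + r * (x * y) := by ring
    rw [this]
    exact Ideal.add_mem _ (Ideal.mul_mem_right _ _ ha) (Ideal.mul_mem_left _ _ hxy)

end prime

section torsion

variable {ι : Type} [AddCommGroup ι] [DecidableEq ι] [Module.Free ℤ ι] [Module.Finite ℤ ι]
  {R : Type u} [CommRing R] [IsNoetherianRing R] (𝒜 : ι → AddSubgroup R) [GradedRing 𝒜]
  (m : HomogeneousIdeal 𝒜) (hm : IsStarLocal 𝒜 m)
  {X : Type u} [AddCommGroup X] [Module R X] (𝓧 : ι → AddSubgroup X) [DirectSum.Decomposition 𝓧]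
  [SetLike.GradedSMul 𝒜 𝓧]

include hm in
/-- proper homogeneous ideals lie in the `*`maximal ideal. -/
theorem le_of_isStarLocal (I : HomogeneousIdeal 𝒜) (hI : I ≠ ⊤) : I ≤ m := by
  have hsm : StrictMono (fun J : HomogeneousIdeal 𝒜 => J.toIdeal) := fun a b h => h
  haveI : WellFoundedGT (HomogeneousIdeal 𝒜) := hsm.wellFoundedGT
  haveI : IsCoatomic (HomogeneousIdeal 𝒜) := isCoatomic_of_orderTop_gt_wellFounded wellFounded_gt
  rcases eq_top_or_exists_le_coatom I with h | ⟨a, ha, hIa⟩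
  · exact absurd h hI
  · rw [← hm.2 a ha]
    exact hIa

include hm in
/-- a nonzero graded `m`-torsion submodule contains a homogeneous element with annihilator `m`. -/
theorem exists_ann_eq (N : Submodule R X) (hN : N.IsHomogeneous 𝓧)
    (hNg : N ≤ GrLC.gam m.toIdeal X) (hne : N ≠ ⊥) :
    ∃ (g₀ : ι) (y : X), y ∈ N ∧ y ∈ 𝓧 g₀ ∧ y ≠ 0 ∧
      (Submodule.span R {y}).annihilator = m.toIdeal := by
  letI : DirectSum.Decomposition (subGr 𝓧 N) := (isInternal_subGr 𝓧 N hN).chooseDecomposition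
  haveI : Nontrivial ↥N := Submodule.nontrivial_iff_ne_bot.2 hne
  obtain ⟨g₀, y', q, hy', hy'0, hq, hann⟩ := exists_homogeneous_prime_ann 𝒜 (subGr 𝓧 N)
  have hann' : (Submodule.span R {(y' : X)}).annihilator = q.toIdeal := by
    rw [← hann]
    ext r
    rw [Submodule.mem_annihilator_span_singleton, Submodule.mem_annihilator_span_singleton]
    constructor
    · intro h
      apply Subtype.ext
      exact h
    · intro h
      have := congrArg Subtype.val h
      exact this
  refine ⟨g₀, y', y'.2, hy', fun h => hy'0 (Subtype.ext h), ?_⟩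
  rw [hann']
  obtain ⟨k, hk⟩ := hNg y'.2
  have hle : m.toIdeal ^ k ≤ q.toIdeal := by
    intro r hr
    rw [← hann', Submodule.mem_annihilator_span_singleton]
    exact hk r hr
  have hmq : m.toIdeal ≤ q.toIdeal := Ideal.IsPrime.le_of_pow_le hle
  have hqne : q ≠ ⊤ := by
    intro h
    apply hq.ne_top
    rw [h, HomogeneousIdeal.toIdeal_top]
  have hqm : q ≤ m := le_of_isStarLocal 𝒜 m hm q hqne
  exact le_antisymm hqm hmq

end torsion

section soc

variable {R : Type u} [CommRing R] [IsNoetherianRing R] (p : Ideal R) [hp : p.IsPrime]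
  {X : Type u} [AddCommGroup X] [Module R X]

/-- an element with annihilator `p` gives a nonzero element of the socle at `p`. -/
theorem mk_mem_soc_of_ann (y : X) (hann : (Submodule.span R {y}).annihilator = p) :
    (LocalizedModule.mk y 1 : LocalizedModule p.primeCompl X) ∈ soc p X ∧
      (LocalizedModule.mk y 1 : LocalizedModule p.primeCompl X) ≠ 0 := by
  constructor
  · rw [mk_mem_soc_iff]
    intro r hr
    refine ⟨1, fun h => hp.ne_top ((Ideal.eq_top_iff_one p).2 h), ?_⟩
    rw [← hann, Submodule.mem_annihilator_span_singleton] at hr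
    rw [hr, smul_zero]
  · intro h
    rw [mk_eq_zero_iff] at h
    obtain ⟨t, ht, hty⟩ := h
    apply ht
    rw [← hann, Submodule.mem_annihilator_span_singleton]
    exact hty

theorem bassNum_zero_ne_zero_of_ann (y : X) (hann : (Submodule.span R {y}).annihilator = p) :
    GrLC.bassNum p X 0 ≠ 0 := by
  rw [bassNum_zero_eq, Ne, Module.length_eq_zero_iff]
  intro hsub
  obtain ⟨h1, h2⟩ := mk_mem_soc_of_ann p y hann
  apply h2
  have := Subsingleton.elim (⟨_, h1⟩ : soc p X) 0
  exact congrArg Subtype.val this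

/-- if `μ^0(p, X) ≠ 0` there is a nonzero element killed by `p`. -/
theorem exists_ne_zero_of_bassNum_ne_zero (h : GrLC.bassNum p X 0 ≠ 0) :
    ∃ x : X, x ≠ 0 ∧ ∀ r ∈ p, r • x = 0 := by
  rw [bassNum_zero_eq, Ne, Module.length_eq_zero_iff, not_subsingleton_iff_nontrivial] at h
  obtain ⟨u, hu⟩ := exists_ne (0 : soc p X)
  obtain ⟨x, s, hxs, hx⟩ := exists_rep_of_mem_soc p u.1 u.2
  refine ⟨x, ?_, hx⟩
  intro hx0
  apply hu
  apply Subtype.ext
  rw [hxs, hx0, LocalizedModule.zero_mk]
  rfl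

/-- if `μ^0(p, X) = 1`, `y` has annihilator `p` and `p z = 0`, then `s z ∈ R y` for some
`s ∉ p`. -/
theorem exists_smul_eq_smul_of_bassNum_eq_one (h : GrLC.bassNum p X 0 = 1) (y : X)
    (hann : (Submodule.span R {y}).annihilator = p) (z : X) (hz : ∀ r ∈ p, r • z = 0) :
    ∃ (s : R) (r : R), s ∉ p ∧ s • z = r • y := by
  rw [bassNum_zero_eq, Module.length_eq_one_iff] at h
  obtain ⟨h1, h2⟩ := mk_mem_soc_of_ann p y hann
  have hzs : (LocalizedModule.mk z 1 : LocalizedModule p.primeCompl X) ∈ soc p X := by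
    rw [mk_mem_soc_iff]
    intro r hr
    refine ⟨1, fun h => hp.ne_top ((Ideal.eq_top_iff_one p).2 h), ?_⟩
    rw [hz r hr, smul_zero]
  have hne : (⟨_, h1⟩ : soc p X) ≠ 0 := fun h => h2 (congrArg Subtype.val h)
  obtain ⟨a, ha⟩ := IsSimpleModule.toSpanSingleton_surjective (Localization.AtPrime p) hne
    (⟨_, hzs⟩ : soc p X)
  have ha' : a • (LocalizedModule.mk y 1 : LocalizedModule p.primeCompl X) =
      LocalizedModule.mk z 1 := congrArg Subtype.val ha
  induction a using Localization.induction_on with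
  | H rs =>
    obtain ⟨r, s⟩ := rs
    rw [LocalizedModule.mk_smul_mk, LocalizedModule.mk_eq] at ha'
    obtain ⟨t, ht⟩ := ha'
    refine ⟨(t : R) * ((s * 1 : p.primeCompl) : R), (t : R) * r, (t * (s * 1)).2, ?_⟩
    rw [mul_smul, mul_smul]
    have ht' : (t : R) • ((1 : p.primeCompl) : R) • r • y =
        (t : R) • ((s * 1 : p.primeCompl) : R) • z := ht
    rw [← ht']
    simp

end soc

section minres

variable {ι : Type} [AddCommGroup ι] [DecidableEq ι] {R : Type u} [CommRing R] [IsNoetherianRing R]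
  (𝒜 : ι → AddSubgroup R) [GradedRing 𝒜]
  {M : Type u} [AddCommGroup M] [Module R M] {ℳ : ι → AddSubgroup M}
  [DirectSum.Decomposition ℳ] [SetLike.GradedSMul 𝒜 ℳ] (E : GrLC.StarInjRes 𝒜 ℳ)
  (hmin0 : ∀ P : Submodule R (E.X 0).carrier, P.IsHomogeneous (E.X 0).gr → P ≠ ⊥ →
    P ⊓ LinearMap.range E.ε ≠ ⊥)
  (hmin : ∀ (n : ℕ) (P : Submodule R (E.X (n + 1)).carrier), P.IsHomogeneous (E.X (n + 1)).gr →
    P ≠ ⊥ → P ⊓ LinearMap.range (E.d n) ≠ ⊥)

include hmin0 hmin in
/-- `μ^0(p, X_j) = μ^j(p, M)` for a minimal `*`injective resolution. -/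
theorem bassNum_X_zero (p : Ideal R) [p.IsPrime] (hp : p.IsHomogeneous 𝒜) (j : ℕ) :
    GrLC.bassNum p (E.X j).carrier 0 = GrLC.bassNum p M j := by
  have hess := exists_smul_mem_of_starEss 𝒜 (E.X j).gr (Zs 𝒜 E j) (Zs_isHomogeneous 𝒜 E j)
    (Zs_ess 𝒜 E hmin0 hmin j)
  rw [bassNum_zero_eq, ← length_soc_eq_of_essential p (Zs 𝒜 E j).subtype
    (Submodule.injective_subtype _) (fun x hx => by
      obtain ⟨c, hc0, hc⟩ := hess x hx
      exact ⟨c, hc0, by rw [Submodule.range_subtype]; exact hc⟩),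
    ← bassNum_zero_eq, bassNum_Zs 𝒜 E hmin0 hmin p hp j 0, zero_add]

end minres

end Groth.Agent.Lib.Helper20.GrStarLocalBass
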