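import Mathlib
import Groth.Agent.Lib.Helper20.LCIndep

/-!
# Flat base change for local cohomology
-/

set_option autoImplicit false
set_option linter.unusedSectionVars false
set_option linter.unusedVariables false

universe u

open CategoryTheory TensorProduct Groth.Agent.Lib.Helper4.LC Groth.Agent.Lib.Helper20.LCAcyclic
  Groth.Agent.Lib.Helper20.LCTorsion Groth.Agent.Lib.Helper20.LCIndep

namespace Groth.Agent.Lib.Helper20.LCFlat

variable {R : Type u} [CommRing R] [IsNoetherianRing R] (R' : Type u) [CommRing R']
  [IsNoetherianRing R'] [Algebra R R'] [Module.Flat R R'] (I : Ideal R)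

section key

variable (N : Type u) [AddCommGroup N] [Module R N]

omit [IsNoetherianRing R] [IsNoetherianRing R'] [Module.Flat R R'] in
lemma isPowerTorsion_gam : LocCoh.IsPowerTorsion I (GrLC.gam I N) := by
  rintro ⟨x, n, hn⟩
  exact ⟨n, fun a ha => Subtype.ext (hn a ha)⟩

/-- the map `R' ⊗ Γ_I(N) → Γ_{IR'}(R' ⊗ N)`. -/
noncomputable def kappaHom :
    R' ⊗[R] (GrLC.gam I N) →ₗ[R'] GrLC.gam (I.map (algebraMap R R')) (R' ⊗[R] N) :=
  LinearMap.codRestrict _ ((GrLC.gam I N).subtype.baseChange R') (fun y => by
    obtain ⟨n, hn⟩ := isPowerTorsion_tensor R' I (GrLC.gam I N) (isPowerTorsion_gam I N) y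
    exact ⟨n, fun b hb => by rw [← map_smul, hn b hb, map_zero]⟩)

omit [IsNoetherianRing R] [IsNoetherianRing R'] [Module.Flat R R'] in
lemma kappaHom_tmul (r' : R') (x : GrLC.gam I N) :
    (kappaHom R' I N (r' ⊗ₜ x) : R' ⊗[R] N) = r' ⊗ₜ (x : N) := rfl

omit [IsNoetherianRing R] [IsNoetherianRing R'] in
lemma kappaHom_injective : Function.Injective (kappaHom R' I N) := by
  intro y z hyz
  have h := congrArg Subtype.val hyz
  change (GrLC.gam I N).subtype.baseChange R' y = (GrLC.gam I N).subtype.baseChange R' z at h
  have hinj : Function.Injective ((GrLC.gam I N).subtype.baseChange R') := by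
    rw [LinearMap.baseChange_eq_ltensor]
    exact Module.Flat.lTensor_preserves_injective_linearMap _ (Submodule.injective_subtype _)
  exact hinj h

open Classical in
omit [IsNoetherianRing R'] in
lemma kappaHom_surjective : Function.Surjective (kappaHom R' I N) := by
  rintro ⟨y, n, hn⟩
  obtain ⟨s, hs⟩ := (IsNoetherian.noetherian (I ^ n) : (I ^ n).FG)
  -- `φ : N → (s → N)`
  let φ : N →ₗ[R] (s → N) := LinearMap.pi (fun a => (a : R) • LinearMap.id)
  let K : Submodule R N := LinearMap.ker φ
  have hK : K ≤ GrLC.gam I N := by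
    intro x hx
    refine ⟨n, fun a ha => ?_⟩
    rw [← hs] at ha
    induction ha using Submodule.span_induction with
    | mem a ha =>
      have := congrFun (LinearMap.mem_ker.1 hx) ⟨a, ha⟩
      simpa [φ] using this
    | zero => rw [zero_smul]
    | add b c _ _ hb hc => rw [add_smul, hb, hc, add_zero]
    | smul c b _ hb => rw [smul_eq_mul, mul_smul, hb, smul_zero]
  have hex : Function.Exact K.subtype φ := LinearMap.exact_subtype_ker_map φ
  have hex' : Function.Exact (K.subtype.lTensor R') (φ.lTensor R') :=
    Module.Flat.lTensor_exact R' hex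
  have hφy : φ.lTensor R' y = 0 := by
    apply (TensorProduct.piRight R R' R' (fun _ : s => N)).injective
    rw [map_zero]
    funext a
    have key : ∀ z : R' ⊗[R] N,
        (TensorProduct.piRight R R' R' (fun _ : s => N)) (φ.lTensor R' z) a =
          algebraMap R R' (a : R) • z := by
      intro z
      induction z using TensorProduct.induction_on with
      | zero => simp
      | tmul r' x =>
        rw [LinearMap.lTensor_tmul, TensorProduct.piRight_apply, TensorProduct.piRightHom_tmul,
          TensorProduct.smul_tmul', smul_eq_mul, ← Algebra.smul_def, TensorProduct.smul_tmul]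
        simp [φ]
      | add z w hz hw =>
        rw [map_add, map_add, Pi.add_apply, hz, hw, smul_add]
    rw [key y, Pi.zero_apply]
    apply hn
    rw [← Ideal.map_pow]
    apply Ideal.mem_map_of_mem
    rw [← hs]
    exact Ideal.subset_span a.2
  obtain ⟨z, hz⟩ := (hex' y).1 hφy
  refine ⟨(Submodule.inclusion hK).lTensor R' z, ?_⟩
  apply Subtype.ext
  change (GrLC.gam I N).subtype.baseChange R' ((Submodule.inclusion hK).lTensor R' z) = y
  rw [LinearMap.baseChange_eq_ltensor, ← LinearMap.comp_apply, ← LinearMap.lTensor_comp, ← hz]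
  rfl

/-- **Key**: `R' ⊗ Γ_I(N) ≃ Γ_{IR'}(R' ⊗ N)`. -/
noncomputable def kappa :
    R' ⊗[R] (GrLC.gam I N) ≃ₗ[R'] GrLC.gam (I.map (algebraMap R R')) (R' ⊗[R] N) :=
  LinearEquiv.ofBijective (kappaHom R' I N)
    ⟨kappaHom_injective R' I N, kappaHom_surjective R' I N⟩

end key

section coker

variable {S : Type u} [CommRing S] {A1 B1 C1 A2 B2 C2 : Type u}
  [AddCommGroup A1] [Module S A1] [AddCommGroup B1] [Module S B1] [AddCommGroup C1] [Module S C1]
  [AddCommGroup A2] [Module S A2] [AddCommGroup B2] [Module S B2] [AddCommGroup C2] [Module S C2]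

/-- isomorphic presentations have isomorphic cokernels. -/
lemma nonempty_equiv_of_exact (f1 : A1 →ₗ[S] B1) (g1 : B1 →ₗ[S] C1) (f2 : A2 →ₗ[S] B2)
    (g2 : B2 →ₗ[S] C2) (h1 : Function.Exact f1 g1) (hg1 : Function.Surjective g1)
    (h2 : Function.Exact f2 g2) (hg2 : Function.Surjective g2)
    (α : A1 → A2) (hα : Function.Surjective α) (β : B1 ≃ₗ[S] B2)
    (hcomm : ∀ a, β (f1 a) = f2 (α a)) : Nonempty (C1 ≃ₗ[S] C2) := by
  let ψ : B1 →ₗ[S] C2 := g2 ∘ₗ β.toLinearMap
  have hψ : Function.Surjective ψ := hg2.comp β.surjective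
  have hker : LinearMap.ker ψ = LinearMap.ker g1 := by
    ext b
    rw [LinearMap.mem_ker, LinearMap.mem_ker]
    change g2 (β b) = 0 ↔ g1 b = 0
    rw [h2 (β b), h1 b]
    constructor
    · rintro ⟨a2, ha2⟩
      obtain ⟨a1, rfl⟩ := hα a2
      refine ⟨a1, β.injective ?_⟩
      rw [hcomm, ha2]
    · rintro ⟨a1, rfl⟩
      exact ⟨α a1, (hcomm a1).symm⟩
  exact ⟨((LinearMap.quotKerEquivOfSurjective g1 hg1).symm.trans
    (Submodule.quotEquivOfEq _ _ hker.symm)).trans (LinearMap.quotKerEquivOfSurjective ψ hψ)⟩

end coker

section ses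

variable {A B C : Type u} [AddCommGroup A] [Module R A] [AddCommGroup B] [Module R B]
  [AddCommGroup C] [Module R C] (f : A →ₗ[R] B) (g : B →ₗ[R] C)
  (hfg : Function.Exact f g) (hf : Function.Injective f) (hg : Function.Surjective g)

omit [IsNoetherianRing R] [IsNoetherianRing R'] in
include hf in
lemma baseChange_injective : Function.Injective (f.baseChange R') := by
  rw [LinearMap.baseChange_eq_ltensor]
  exact Module.Flat.lTensor_preserves_injective_linearMap _ hf

omit [IsNoetherianRing R] [IsNoetherianRing R'] [Module.Flat R R'] in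
include hg in
lemma baseChange_surjective : Function.Surjective (g.baseChange R') := by
  rw [LinearMap.baseChange_eq_ltensor]
  exact LinearMap.lTensor_surjective _ hg

omit [IsNoetherianRing R] [IsNoetherianRing R'] in
include hfg in
lemma baseChange_exact : Function.Exact (f.baseChange R') (g.baseChange R') := by
  rw [LinearMap.baseChange_eq_ltensor, LinearMap.baseChange_eq_ltensor]
  exact Module.Flat.lTensor_exact R' hfg

/-- `g` restricted to torsion. -/
def gamMap : GrLC.gam I B →ₗ[R] GrLC.gam I C :=
  g.restrict (fun x hx => by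
    obtain ⟨n, hn⟩ := hx
    exact ⟨n, fun a ha => by rw [← map_smul, hn a ha, map_zero]⟩)

omit [IsNoetherianRing R] in
lemma gamMap_apply (x : GrLC.gam I B) : (gamMap I g x : C) = g x := rfl

include hfg hf hg in
/-- degree one. -/
theorem nonempty_baseChange_equiv_one
    (h2 : Subsingleton (HH I (ModuleCat.of R B) 1))
    (h2' : Subsingleton (HH (I.map (algebraMap R R')) (ModuleCat.of R' (R' ⊗[R] B)) 1)) :
    Nonempty (R' ⊗[R] HH I (ModuleCat.of R A) 1 ≃ₗ[R']
      HH (I.map (algebraMap R R')) (ModuleCat.of R' (R' ⊗[R] A)) 1) := by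
  -- first row
  let c := conn I f g hfg hf hg
  have hc : Function.Surjective c := conn_surjective I f g hfg hf hg h2
  have hex : Function.Exact (gamMap I g) c := by
    intro x
    rw [conn_eq_zero_iff]
    constructor
    · rintro ⟨b, hb, hgb⟩
      exact ⟨⟨b, hb⟩, Subtype.ext hgb⟩
    · rintro ⟨b, rfl⟩
      exact ⟨b.1, b.2, rfl⟩
  have hex1 : Function.Exact ((gamMap I g).baseChange R') (c.baseChange R') := by
    rw [LinearMap.baseChange_eq_ltensor, LinearMap.baseChange_eq_ltensor]
    exact lTensor_exact R' hex hc
  have hc1 : Function.Surjective (c.baseChange R') := baseChange_surjective R' c hc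
  -- second row
  let f' := f.baseChange R'
  let g' := g.baseChange R'
  have hf' := baseChange_injective R' f hf
  have hg' := baseChange_surjective R' g hg
  have hfg' := baseChange_exact R' f g hfg
  let c' := conn (I.map (algebraMap R R')) f' g' hfg' hf' hg'
  have hc' : Function.Surjective c' :=
    conn_surjective (I.map (algebraMap R R')) f' g' hfg' hf' hg' h2'
  have hex' : Function.Exact (gamMap (I.map (algebraMap R R')) g') c' := by
    intro x
    rw [conn_eq_zero_iff]
    constructor
    · rintro ⟨b, hb, hgb⟩
      exact ⟨⟨b, hb⟩, Subtype.ext hgb⟩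
    · rintro ⟨b, rfl⟩
      exact ⟨b.1, b.2, rfl⟩
  refine nonempty_equiv_of_exact ((gamMap I g).baseChange R') (c.baseChange R')
    (gamMap (I.map (algebraMap R R')) g') c' hex1 hc1 hex' hc' (kappa R' I B)
    (kappa R' I B).surjective (kappa R' I C) ?_
  intro y
  induction y using TensorProduct.induction_on with
  | zero => simp
  | tmul r' x => exact Subtype.ext rfl
  | add y z hy hz => rw [map_add, map_add, map_add, map_add, hy, hz]

end ses

/-- **Flat base change** in the model `HH`. -/
theorem nonempty_baseChange_equiv : ∀ (i : ℕ) (A : Type u) [AddCommGroup A] [Module R A],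
    Nonempty (R' ⊗[R] HH I (ModuleCat.of R A) i ≃ₗ[R']
      HH (I.map (algebraMap R R')) (ModuleCat.of R' (R' ⊗[R] A)) i) := by
  have hstep : ∀ (A : Type u) [AddCommGroup A] [Module R A],
      ∃ (B C : Type u) (_ : AddCommGroup B) (_ : Module R B) (_ : AddCommGroup C) (_ : Module R C)
        (f : A →ₗ[R] B) (g : B →ₗ[R] C), Function.Exact f g ∧ Function.Injective f ∧
          Function.Surjective g ∧ Module.Injective R B := by
    intro A _ _
    let B := Injective.under (ModuleCat.of R A)
    let ι : A →ₗ[R] B := (Injective.ι (ModuleCat.of R A)).hom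
    have hι : Function.Injective ι :=
      (ModuleCat.mono_iff_injective (Injective.ι (ModuleCat.of R A))).1 inferInstance
    have hB : Module.Injective R B := by
      have : CategoryTheory.Injective (ModuleCat.of R B) :=
        inferInstanceAs (CategoryTheory.Injective (Injective.under (ModuleCat.of R A)))
      exact Module.injective_module_of_injective_object R B
    exact ⟨B, B ⧸ LinearMap.range ι, inferInstance, inferInstance, inferInstance, inferInstance, ι,
      (LinearMap.range ι).mkQ, LinearMap.exact_map_mkQ_range ι, hι, Submodule.mkQ_surjective _, hB⟩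
  intro i
  induction i with
  | zero =>
    intro A _ _
    exact ⟨((HH0gam I A).baseChange R R' _ _).trans ((kappa R' I A).trans
      (HH0gam (I.map (algebraMap R R')) (R' ⊗[R] A)).symm)⟩
  | succ k ih =>
    intro A _ _
    obtain ⟨B, C, _, _, _, _, f, g, hfg, hf, hg, hB⟩ := hstep A
    have hBobj : CategoryTheory.Injective (ModuleCat.of R B) :=
      Module.injective_object_of_injective_module R B
    cases k with
    | zero =>
      exact nonempty_baseChange_equiv_one R' I f g hfg hf hg
        (HH.subsingleton_of_injective I (ModuleCat.of R B) 0)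
        (subsingleton_HH_tensor_of_injective R' I B 0)
    | succ k =>
      obtain ⟨e⟩ := ih C
      let e1 := shiftEquiv I f g hfg hf hg k (HH.subsingleton_of_injective I (ModuleCat.of R B) k)
        (HH.subsingleton_of_injective I (ModuleCat.of R B) (k + 1))
      let e2 := shiftEquiv (I.map (algebraMap R R')) (f.baseChange R') (g.baseChange R')
        (baseChange_exact R' f g hfg) (baseChange_injective R' f hf)
        (baseChange_surjective R' g hg) k
        (subsingleton_HH_tensor_of_injective R' I B k)
        (subsingleton_HH_tensor_of_injective R' I B (k + 1))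
      exact ⟨((e1.symm.baseChange R R' _ _).trans e).trans e2⟩

end Groth.Agent.Lib.Helper20.LCFlat
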