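import Mathlib
import Groth.Prelude.Def_GrLC
import Groth.Agent.Lib.Helper20.GrStarLocalBass
import Groth.Agent.Lib.Helper20.GrLES2
import Groth.Agent.Lib.Helper20.LCFlat
import Groth.Agent.Lib.Helper4.LC4
import Groth.Agent.S13224

/-!
# Vanishing of graded local cohomology of a `*`local ring above the height of the `*`maximal
ideal (helper20)
-/

set_option autoImplicit false
set_option linter.unusedSectionVars false
set_option linter.unusedVariables false
set_option linter.style.haveILetI false

universe u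

open GrLC TensorProduct Groth.Agent.Lib.Helper20.GrLCBasic Groth.Agent.Lib.Helper20.GrLCQuot
  Groth.Agent.Lib.Helper20.GrLCPrime Groth.Agent.Lib.Helper20.GrStarLocalBass
  Groth.Agent.Lib.Helper20.SocleCount Groth.Agent.Lib.Helper4.LC Groth.Agent.Lib.Helper4

namespace Groth.Agent.Lib.Helper20.GrVanishAbove

variable {ι : Type} [AddCommGroup ι] [DecidableEq ι] [Module.Free ℤ ι] [Module.Finite ℤ ι]
  {R : Type u} [CommRing R] [IsNoetherianRing R] (𝒜 : ι → AddSubgroup R) [GradedRing 𝒜]
  (m : HomogeneousIdeal 𝒜) (hm : IsStarLocal 𝒜 m) [hmp : m.toIdeal.IsPrime]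

include hm in
/-- a graded module over a `*`local ring whose localisation at the `*`maximal ideal vanishes is
zero. -/
theorem subsingleton_of_localizedModule {N : Type u} [AddCommGroup N] [Module R N]
    (𝒩 : ι → AddSubgroup N) [DirectSum.Decomposition 𝒩] [SetLike.GradedSMul 𝒜 𝒩]
    (h : Subsingleton (LocalizedModule m.toIdeal.primeCompl N)) : Subsingleton N := by
  by_contra hne
  rw [not_subsingleton_iff_nontrivial] at hne
  obtain ⟨g₀, x, q, hx, hx0, hq, hann⟩ := exists_homogeneous_prime_ann 𝒜 𝒩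
  have hqne : q ≠ ⊤ := by
    intro h
    apply hq.ne_top
    rw [h, HomogeneousIdeal.toIdeal_top]
  have hqm : q ≤ m := le_of_isStarLocal 𝒜 m hm q hqne
  have h0 : (LocalizedModule.mk x 1 : LocalizedModule m.toIdeal.primeCompl N) = 0 :=
    Subsingleton.elim _ _
  rw [mk_eq_zero_iff] at h0
  obtain ⟨t, ht, htx⟩ := h0
  apply ht
  apply hqm
  change t ∈ q.toIdeal
  rw [← hann, Submodule.mem_annihilator_span_singleton]
  exact htx

variable {M : Type u} [AddCommGroup M] [Module R M] (ℳ : ι → AddSubgroup M)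
  [DirectSum.Decomposition ℳ] [SetLike.GradedSMul 𝒜 ℳ]

include hm in
/-- **`H^i_m(M) = 0` for `i > ht m` over a `*`local ring `(R, m)`.** -/
theorem subsingleton_H_of_gt_height (E : GrLC.StarInjRes 𝒜 ℳ) (n : ℕ)
    (hn : m.toIdeal.height = n) (i : ℕ) (hi : n < i) : Subsingleton (E.H m i) := by
  letI := Groth.Agent.Lib.Helper20.GrLES2.decH E m i
  apply subsingleton_of_localizedModule 𝒜 m hm (E.Hgr m i)
  obtain ⟨e1⟩ := Groth.Agent.S13224.result R 𝒜 m M ℳ E i
  let e2 : E.H m i ≃ₗ[R] HH m.toIdeal (ModuleCat.of R M) i :=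
    e1.trans (lcEquiv m.toIdeal (ModuleCat.of R M) i)
  let e3 : LocalizedModule m.toIdeal.primeCompl (E.H m i) ≃ₗ[Localization.AtPrime m.toIdeal]
      LocalizedModule m.toIdeal.primeCompl (HH m.toIdeal (ModuleCat.of R M) i) :=
    IsLocalizedModule.mapEquiv m.toIdeal.primeCompl
      (LocalizedModule.mkLinearMap m.toIdeal.primeCompl _)
      (LocalizedModule.mkLinearMap m.toIdeal.primeCompl _) (Localization.AtPrime m.toIdeal) e2
  let e4 := LocalizedModule.equivTensorProduct m.toIdeal.primeCompl
    (HH m.toIdeal (ModuleCat.of R M) i)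
  obtain ⟨e5⟩ := Groth.Agent.Lib.Helper20.LCFlat.nonempty_baseChange_equiv
    (Localization.AtPrime m.toIdeal) m.toIdeal i M
  haveI : Subsingleton (HH (m.toIdeal.map (algebraMap R (Localization.AtPrime m.toIdeal)))
      (ModuleCat.of (Localization.AtPrime m.toIdeal) (Localization.AtPrime m.toIdeal ⊗[R] M)) i) := by
    apply HH.subsingleton_of_ringKrullDim_lt
    rw [IsLocalization.AtPrime.ringKrullDim_eq_height m.toIdeal (Localization.AtPrime m.toIdeal),
      hn]
    exact_mod_cast hi
  exact ((e3.trans e4).trans e5).toEquiv.subsingleton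

end Groth.Agent.Lib.Helper20.GrVanishAbove
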