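import Mathlib
import Groth.Agent.Lib.Helper4.CanonS2
import Groth.Agent.Lib.Helper4.StalkDual
import Groth.Agent.Lib.Helper4.Depth
import Groth.Agent.Lib.Helper4.LC3

/-!
# Depth at a maximal ideal: `depth R_m ≤ grade(m, R)`; vanishing of `H^i_m(R)` below `ht m` for
Cohen–Macaulay rings (helper20)
-/

set_option autoImplicit false
set_option linter.unusedSectionVars false
set_option linter.unusedVariables false
set_option linter.style.haveILetI false

universe u

open CategoryTheory Abelian IsLocalRing

namespace Groth.Agent.Lib.Helper20.DepthMaxLoc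

open Groth.Agent.Lib.Helper4 Groth.Agent.Lib.Helper4.LC

variable {R : Type u} [CommRing R] [IsNoetherianRing R]

/-- the grade of a maximal ideal on `R` is at least the depth of the localization. -/
theorem le_idealDepth_of_le_depth (m : Ideal R) [hm : m.IsMaximal] (n : ℕ)
    (h : (n : ℕ∞) ≤ LocCoh.depth (Localization.AtPrime m) (Localization.AtPrime m)) :
    (n : ℕ∞) ≤ LocCoh.idealDepth m R := by
  haveI : m.IsPrime := hm.isPrime
  have hN : Module.support R (R ⧸ m) = PrimeSpectrum.zeroLocus (m : Set R) := by
    rw [Module.support_eq_zeroLocus, Ideal.annihilator_quotient]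
  refine le_idealDepth_of_subsingleton_ext m (ModuleCat.of R (R ⧸ m)) hN (ModuleCat.of R R) n ?_
  intro i hi
  have hloc : Subsingleton (Ext.{u}
      (ModuleCat.of (Localization.AtPrime m) (LocalizedModule m.primeCompl (R ⧸ m)))
      (ModuleCat.of (Localization.AtPrime m) (Localization.AtPrime m)) i) := by
    refine subsingleton_ext_of_lt_idealDepth (maximalIdeal (Localization.AtPrime m))
      (ModuleCat.of (Localization.AtPrime m) (LocalizedModule m.primeCompl (R ⧸ m)))
      (le_of_eq (CanonMod.support_localizedModule_quotient m))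
      (ModuleCat.of (Localization.AtPrime m) (Localization.AtPrime m)) i ?_
    refine lt_of_lt_of_le ?_ h
    exact_mod_cast hi
  have hall := (StalkDual.subsingleton_ext_localization_iff m.primeCompl (R ⧸ m) i).1 hloc
  refine subsingleton_of_forall_eq 0 (fun e => ?_)
  obtain ⟨s, hs⟩ := hall e
  obtain ⟨b, a, ha, hab⟩ := hm.exists_inv s.2
  have ha0 : a • e = 0 := by
    apply ext_smul_eq_zero_of_mem_annihilator_left
    rw [Ideal.annihilator_quotient]
    exact ha
  calc e = (1 : R) • e := (one_smul R e).symm
    _ = (b * (s : R) + a) • e := by rw [hab]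
    _ = b • ((s : R) • e) + a • e := by rw [add_smul, mul_smul]
    _ = 0 := by rw [hs, ha0, smul_zero, add_zero]

/-- **Cohen–Macaulay vanishing**: for a maximal ideal `m` of a Cohen–Macaulay ring, `H^i_m(R) = 0`
for `i < ht m`. -/
theorem HH.subsingleton_of_lt_height [LocCoh.IsCohenMacaulayRing R] (m : Ideal R)
    [hm : m.IsMaximal] (i : ℕ) (hi : (i : ℕ∞) < m.height) :
    Subsingleton (HH m (ModuleCat.of R R) i) := by
  haveI : m.IsPrime := hm.isPrime
  apply HH.subsingleton_of_lt_idealDepth m R i
  have hCM := LocCoh.IsCohenMacaulayRing.isCohenMacaulayLocalRing_localization (R := R) m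
  have h1 := hCM.supportDim_eq_depth
  rw [Module.supportDim_self_eq_ringKrullDim,
    IsLocalization.AtPrime.ringKrullDim_eq_height m (Localization.AtPrime m)] at h1
  have h2 : m.height = LocCoh.depth (Localization.AtPrime m) (Localization.AtPrime m) := by
    exact_mod_cast h1
  have h3 : ((i + 1 : ℕ) : ℕ∞) ≤ LocCoh.idealDepth m R := by
    apply le_idealDepth_of_le_depth m (i + 1)
    rw [← h2]
    exact_mod_cast Order.add_one_le_of_lt hi
  refine lt_of_lt_of_le ?_ h3
  exact_mod_cast Nat.lt_succ_self i

end Groth.Agent.Lib.Helper20.DepthMaxLoc
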