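import Mathlib
import Groth.Prelude.Def_GrLC
import Groth.Agent.Lib.Helper20.GrLCBasic
import Groth.Agent.Lib.Helper20.GrArtin

/-!
# A positively graded ring over a field is `*`local (helper20)
-/

set_option autoImplicit false
set_option linter.unusedSectionVars false
set_option linter.unusedVariables false
set_option linter.style.haveILetI false

universe u

open DirectSum GrLC Groth.Agent.Lib.Helper20.GrLCBasic

namespace Groth.Agent.Lib.Helper20.GrFieldLocal

variable {R : Type u} [CommRing R] (𝒜 : ℤ → AddSubgroup R) [GradedRing 𝒜]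
  (hpos : ∀ n : ℤ, n < 0 → 𝒜 n = ⊥) (h0 : IsField (deg0 𝒜))
  (m : HomogeneousIdeal 𝒜)
  (hmsp : m.toIdeal = Ideal.span (⋃ n ∈ Set.Ioi (0 : ℤ), (𝒜 n : Set R)))

include hpos in
lemma decompose_neg_eq_zero (x : R) (j : ℤ) (hj : j < 0) : ((decompose 𝒜 x j : 𝒜 j) : R) = 0 := by
  have h : ((decompose 𝒜 x j : 𝒜 j) : R) ∈ (⊥ : AddSubgroup R) :=
    (hpos j hj).le (SetLike.coe_mem _)
  exact (AddSubgroup.mem_bot).1 h

include hpos hmsp in
/-- elements of the irrelevant ideal have no components in degrees `≤ 0`. -/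
theorem decompose_eq_zero_of_mem {y : R} (hy : y ∈ m.toIdeal) :
    ∀ j : ℤ, j ≤ 0 → ((decompose 𝒜 y j : 𝒜 j) : R) = 0 := by
  classical
  rw [hmsp] at hy
  refine Submodule.span_induction (p := fun y _ => ∀ j : ℤ, j ≤ 0 →
    ((decompose 𝒜 y j : 𝒜 j) : R) = 0) ?_ ?_ ?_ ?_ hy
  · intro s hs j hj
    simp only [Set.mem_iUnion, Set.mem_Ioi, SetLike.mem_coe] at hs
    obtain ⟨n, hn, hsn⟩ := hs
    exact decompose_of_mem_ne 𝒜 hsn (by omega)
  · intro j _
    rw [decompose_zero]
    rfl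
  · intro a b _ _ ha hb j hj
    rw [decompose_add, DirectSum.add_apply, AddSubgroup.coe_add, ha j hj, hb j hj, add_zero]
  · intro r y _ hy j hj
    rw [← DirectSum.sum_support_decompose 𝒜 r, Finset.sum_smul, decompose_sum,
      DFinsupp.finset_sum_apply, AddSubmonoidClass.coe_finset_sum]
    refine Finset.sum_eq_zero fun i _ => ?_
    by_cases hi : i < 0
    · rw [decompose_neg_eq_zero 𝒜 hpos r i hi, zero_smul, decompose_zero]
      rfl
    · have h1 := decompose_smul_left 𝒜 𝒜 (SetLike.coe_mem (decompose 𝒜 r i)) y (j - i)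
      rw [sub_add_cancel] at h1
      rw [h1, hy (j - i) (by omega), smul_zero]

include hmsp in
theorem mem_of_pos {n : ℤ} (hn : 0 < n) {x : R} (hx : x ∈ 𝒜 n) : x ∈ m.toIdeal := by
  rw [hmsp]
  apply Ideal.subset_span
  simp only [Set.mem_iUnion, Set.mem_Ioi, SetLike.mem_coe]
  exact ⟨n, hn, hx⟩

include hpos h0 hmsp in
theorem ne_top : m.toIdeal ≠ ⊤ := by
  intro h
  have h1 : (1 : R) ∈ m.toIdeal := by
    rw [h]
    exact Submodule.mem_top
  have h2 := decompose_eq_zero_of_mem 𝒜 hpos m hmsp h1 0 le_rfl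
  rw [decompose_of_mem_same 𝒜 (SetLike.GradedOne.one_mem (A := 𝒜))] at h2
  obtain ⟨x, y, hxy⟩ := h0.exists_pair_ne
  apply hxy
  apply Subtype.ext
  calc (x : R) = x * 1 := (mul_one _).symm
    _ = y * 1 := by rw [h2, mul_zero, mul_zero]
    _ = y := mul_one _

include hpos h0 hmsp in
/-- a proper homogeneous ideal lies in the irrelevant ideal. -/
theorem le_of_ne_top (I : HomogeneousIdeal 𝒜) (hI : I ≠ ⊤) : I ≤ m := by
  classical
  intro x hx
  change x ∈ m.toIdeal
  rw [← DirectSum.sum_support_decompose 𝒜 x]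
  refine Ideal.sum_mem _ fun j _ => ?_
  rcases lt_trichotomy j 0 with hj | hj | hj
  · rw [decompose_neg_eq_zero 𝒜 hpos x j hj]
    exact zero_mem _
  · subst hj
    by_cases hz : ((decompose 𝒜 x 0 : 𝒜 0) : R) = 0
    · rw [hz]
      exact zero_mem _
    · exfalso
      apply hI
      have hmem : ((decompose 𝒜 x 0 : 𝒜 0) : R) ∈ I.toIdeal := I.isHomogeneous 0 hx
      have hne : (⟨((decompose 𝒜 x 0 : 𝒜 0) : R), SetLike.coe_mem _⟩ : deg0 𝒜) ≠ 0 := by
        intro h
        exact hz (congrArg Subtype.val h)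
      obtain ⟨b, hb⟩ := h0.mul_inv_cancel hne
      have hb' : ((decompose 𝒜 x 0 : 𝒜 0) : R) * (b : R) = 1 := congrArg Subtype.val hb
      apply HomogeneousIdeal.toIdeal_injective
      rw [HomogeneousIdeal.toIdeal_top, Ideal.eq_top_iff_one, ← hb']
      exact Ideal.mul_mem_right _ _ hmem
  · exact mem_of_pos 𝒜 m hmsp hj (SetLike.coe_mem _)

include hpos h0 hmsp in
/-- **a positively graded ring with `R_0` a field is `*`local with `*`maximal ideal `R_+`.** -/
theorem isStarLocal : IsStarLocal 𝒜 m := by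
  have hne : m ≠ ⊤ := by
    intro h
    apply ne_top 𝒜 hpos h0 m hmsp
    rw [h, HomogeneousIdeal.toIdeal_top]
  have hco : IsCoatom m := by
    refine ⟨hne, fun b hb => ?_⟩
    by_contra hbt
    exact absurd (le_of_ne_top 𝒜 hpos h0 m hmsp b hbt) (not_le_of_gt hb)
  refine ⟨hco, fun n hn => ?_⟩
  have hnm : n ≤ m := le_of_ne_top 𝒜 hpos h0 m hmsp n hn.1
  rcases eq_or_lt_of_le hnm with h | h
  · exact h
  · exact absurd (hn.2 m h) hne

include hpos h0 hmsp in
theorem isMaximal : m.toIdeal.IsMaximal :=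
  Groth.Agent.Lib.Helper20.GrArtin.isMaximal_of_isCoatom 𝒜 hpos m
    (isStarLocal 𝒜 hpos h0 m hmsp).1

end Groth.Agent.Lib.Helper20.GrFieldLocal
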