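import Mathlib
import Groth.Prelude.Def_GrLC
import Groth.Prelude.Def_GrLC2
import Groth.Agent.Lib.Helper20.BassInjDim
import Groth.Agent.Lib.Helper7.AusBuch

/-!
# Depth of a localisation in terms of Bass numbers (helper20)
-/

set_option autoImplicit false
set_option linter.unusedSectionVars false
set_option linter.unusedVariables false
set_option linter.style.haveILetI false

universe u

open CategoryTheory Abelian IsLocalRing Groth.Agent.Lib.Helper4

namespace Groth.Agent.Lib.Helper20.DepthBass

variable {R : Type u} [CommRing R] [IsNoetherianRing R]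

/-- `n ≤ depth M_P` iff the Bass numbers `μ^i(P, M)` vanish for `i < n`. -/
theorem le_depth_loc_iff (P : Ideal R) [P.IsPrime] (M : Type u) [AddCommGroup M] [Module R M]
    [Module.Finite R M] (n : ℕ) :
    (n : ℕ∞) ≤ LocCoh.depth (Localization.AtPrime P) (LocalizedModule P.primeCompl M) ↔
      ∀ i < n, GrLC.bassNum P M i = 0 := by
  rw [Groth.Agent.Lib.Helper7.AusBuch.le_depth_iff]
  have key : ∀ i, Subsingleton (Ext (Groth.Agent.Lib.Helper7.AusBuch.kk (Localization.AtPrime P))
      (ModuleCat.of (Localization.AtPrime P) (LocalizedModule P.primeCompl M)) i) ↔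
      GrLC.bassNum P M i = 0 := by
    intro i
    rw [Groth.Agent.Lib.Helper20.BassInjDim.bassNum_eq_zero_iff]
    let e : Groth.Agent.Lib.Helper7.AusBuch.kk (Localization.AtPrime P) ≅
        ModuleCat.of (Localization.AtPrime P) (ResidueField (Localization.AtPrime P)) :=
      (Shrink.linearEquiv (Localization.AtPrime P)
        (Localization.AtPrime P ⧸ maximalIdeal (Localization.AtPrime P))).toModuleIso
    constructor
    · intro h
      exact subsingleton_ext_of_iso_left e i h
    · intro h
      exact subsingleton_ext_of_iso_left e.symm i h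
  constructor
  · intro h i hi
    exact (key i).1 (h i hi)
  · intro h i hi
    exact (key i).2 (h i hi)

end Groth.Agent.Lib.Helper20.DepthBass
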