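import Mathlib
import Groth.Agent.S13232
import Groth.Agent.S13234
import Groth.Agent.Lib.Helper26.RegQuotLoc
import Groth.Agent.Lib.Helper28.Reflexive
import Groth.Agent.Lib.Helper20.GrFieldLocal
import Groth.Agent.Lib.Helper20.GrHeight2
import Groth.Agent.Lib.Helper20.DepthMaxLoc
import Groth.Agent.Lib.Helper4.CM

/-!
# The graded Cohen–Macaulay criterion: a positively graded ring over a field is Cohen–Macaulay as soon
as its local cohomology with support in the irrelevant ideal vanishes below the dimension (helper20)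
-/

set_option autoImplicit false
set_option linter.unusedSectionVars false
set_option linter.unusedVariables false
set_option linter.style.haveILetI false

universe u

open CategoryTheory Abelian IsLocalRing GrLC

namespace Groth.Agent.Lib.Helper20.SegCM

open Groth.Agent.Lib.Helper4 Groth.Agent.Lib.Helper4.LC

section core

variable {R : Type u} [CommRing R] [IsNoetherianRing R] (𝒜 : ℤ → AddSubgroup R) [GradedRing 𝒜]

/-- `R_p` is Cohen–Macaulay as soon as `R_{p*}` is. -/
theorem cm_atPrime_of_core (p : Ideal R) [hp : p.IsPrime]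
    (hcore : haveI := Ideal.IsPrime.homogeneousCore (𝒜 := 𝒜) hp
      LocCoh.IsCohenMacaulayLocalRing
        (Localization.AtPrime (Ideal.homogeneousCore 𝒜 p).toIdeal)) :
    LocCoh.IsCohenMacaulayLocalRing (Localization.AtPrime p) := by
  haveI hc : (Ideal.homogeneousCore 𝒜 p).toIdeal.IsPrime := Ideal.IsPrime.homogeneousCore hp
  haveI hq : (p.map (Ideal.Quotient.mk (Ideal.homogeneousCore 𝒜 p).toIdeal)).IsPrime := by
    apply Ideal.map_isPrime_of_surjective Ideal.Quotient.mk_surjective
    rw [Ideal.mk_ker]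
    exact Ideal.toIdeal_homogeneousCore_le 𝒜 p
  obtain ⟨d, hd⟩ := ENat.ne_top_iff_exists.1 (Ideal.height_ne_top_of_isPrime
    (I := p.map (Ideal.Quotient.mk (Ideal.homogeneousCore 𝒜 p).toIdeal)))
  have hsupp : Nontrivial (LocalizedModule p.primeCompl R) :=
    (Groth.Agent.Lib.Helper28.localizedSelfEquiv p.primeCompl).toEquiv.nontrivial
  have h1 := Groth.Agent.S13232.result R 𝒜 R 𝒜 p d hd.symm hsupp
  have h2 := Groth.Agent.S13234.result R 𝒜 R 𝒜 p d hd.symm
  have h3 := hcore.supportDim_eq_depth
  rw [← Module.supportDim_eq_of_equiv (Groth.Agent.Lib.Helper28.localizedSelfEquiv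
    (Ideal.homogeneousCore 𝒜 p).toIdeal.primeCompl)] at h3
  have h4 : LocCoh.depth (Localization.AtPrime (Ideal.homogeneousCore 𝒜 p).toIdeal)
      (Localization.AtPrime (Ideal.homogeneousCore 𝒜 p).toIdeal) =
      LocCoh.depth (Localization.AtPrime (Ideal.homogeneousCore 𝒜 p).toIdeal)
        (LocalizedModule (Ideal.homogeneousCore 𝒜 p).toIdeal.primeCompl R) := by
    unfold LocCoh.depth
    rw [Groth.Agent.Lib.Helper28.idealDepth_congr (Groth.Agent.Lib.Helper28.localizedSelfEquiv
      (Ideal.homogeneousCore 𝒜 p).toIdeal.primeCompl)]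
  rw [h4] at h3
  have h5 : LocCoh.depth (Localization.AtPrime p) (Localization.AtPrime p) =
      LocCoh.depth (Localization.AtPrime p) (LocalizedModule p.primeCompl R) := by
    unfold LocCoh.depth
    rw [Groth.Agent.Lib.Helper28.idealDepth_congr (Groth.Agent.Lib.Helper28.localizedSelfEquiv
      p.primeCompl)]
  refine { supportDim_eq_depth := ?_ }
  rw [← Module.supportDim_eq_of_equiv (Groth.Agent.Lib.Helper28.localizedSelfEquiv p.primeCompl),
    h5, h1, h2, h3]
  push_cast
  rfl

end core

section irrelevant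

variable {R : Type u} [CommRing R] [IsNoetherianRing R]

/-- the depth of the localization at a maximal ideal is at least the grade. -/
theorem le_depth_of_le_idealDepth (m : Ideal R) [hm : m.IsMaximal] (n : ℕ)
    (h : (n : ℕ∞) ≤ LocCoh.idealDepth m R) :
    (n : ℕ∞) ≤ LocCoh.depth (Localization.AtPrime m) (Localization.AtPrime m) := by
  haveI : m.IsPrime := hm.isPrime
  have hN : Module.support R (R ⧸ m) = PrimeSpectrum.zeroLocus (m : Set R) := by
    rw [Module.support_eq_zeroLocus, Ideal.annihilator_quotient]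
  unfold LocCoh.depth
  refine le_idealDepth_of_subsingleton_ext (maximalIdeal (Localization.AtPrime m))
    (ModuleCat.of (Localization.AtPrime m) (LocalizedModule m.primeCompl (R ⧸ m)))
    (CanonMod.support_localizedModule_quotient m)
    (ModuleCat.of (Localization.AtPrime m) (Localization.AtPrime m)) n ?_
  intro i hi
  rw [StalkDual.subsingleton_ext_localization_iff m.primeCompl (R ⧸ m) i]
  intro e
  haveI : Subsingleton (Ext.{u} (ModuleCat.of R (R ⧸ m)) (ModuleCat.of R R) i) :=
    subsingleton_ext_of_lt_idealDepth m (ModuleCat.of R (R ⧸ m)) (le_of_eq hN)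
      (ModuleCat.of R R) i (lt_of_lt_of_le (by exact_mod_cast hi) h)
  exact ⟨1, by rw [Subsingleton.elim e 0, smul_zero]⟩

/-- the grade of a proper ideal is bounded below by the vanishing of local cohomology. -/
theorem le_idealDepth_of_HH_vanishing (I : Ideal R) (hI : I ≠ ⊤) (n : ℕ)
    (h : ∀ i < n, Subsingleton (HH I (ModuleCat.of R R) i)) :
    (n : ℕ∞) ≤ LocCoh.idealDepth I R := by
  by_contra hlt
  rw [not_le] at hlt
  have hne : LocCoh.idealDepth I R ≠ ⊤ := ne_top_of_lt hlt
  obtain ⟨d, hd⟩ := ENat.ne_top_iff_exists.1 hne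
  have hdn : d < n := by
    rw [← hd] at hlt
    exact_mod_cast hlt
  have hIM : I • (⊤ : Submodule R R) ≠ ⊤ := by
    rw [smul_eq_mul, Ideal.mul_top]
    exact hI
  haveI := HH.nontrivial_of_idealDepth_eq I d R hIM hd.symm
  haveI := h d hdn
  exact false_of_nontrivial_of_subsingleton (HH I (ModuleCat.of R R) d)

/-- the localization at a maximal ideal of height `n` is Cohen–Macaulay when local cohomology
vanishes below `n`. -/
theorem cm_atPrime_of_HH_vanishing (m : Ideal R) [hm : m.IsMaximal] (n : ℕ)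
    (hn : m.height = n) (h : ∀ i < n, Subsingleton (HH m (ModuleCat.of R R) i)) :
    haveI : m.IsPrime := hm.isPrime
    LocCoh.IsCohenMacaulayLocalRing (Localization.AtPrime m) := by
  haveI : m.IsPrime := hm.isPrime
  have h1 := le_depth_of_le_idealDepth m n (le_idealDepth_of_HH_vanishing m hm.ne_top n h)
  refine { supportDim_eq_depth := ?_ }
  apply le_antisymm
  · rw [Module.supportDim_self_eq_ringKrullDim,
      IsLocalization.AtPrime.ringKrullDim_eq_height m (Localization.AtPrime m), hn]
    exact_mod_cast h1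
  · exact depth_le_supportDim

end irrelevant

section main

variable {R : Type u} [CommRing R] [IsNoetherianRing R] (𝒜 : ℤ → AddSubgroup R) [GradedRing 𝒜]
  (hpos : ∀ n : ℤ, n < 0 → 𝒜 n = ⊥) (h0 : IsField (deg0 𝒜))
  (m : HomogeneousIdeal 𝒜)
  (hmsp : m.toIdeal = Ideal.span (⋃ n ∈ Set.Ioi (0 : ℤ), (𝒜 n : Set R)))

include hpos h0 hmsp in
/-- **the graded Cohen–Macaulay criterion.** -/
theorem isCohenMacaulayRing_of_HH_vanishing (n : ℕ) (hn : ringKrullDim R = n)
    (h : ∀ i < n, Subsingleton (HH m.toIdeal (ModuleCat.of R R) i)) :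
    LocCoh.IsCohenMacaulayRing R := by
  have hloc := Groth.Agent.Lib.Helper20.GrFieldLocal.isStarLocal 𝒜 hpos h0 m hmsp
  haveI hmax : m.toIdeal.IsMaximal :=
    Groth.Agent.Lib.Helper20.GrFieldLocal.isMaximal 𝒜 hpos h0 m hmsp
  haveI hmp : m.toIdeal.IsPrime := hmax.isPrime
  have hdim := Groth.Agent.Lib.Helper20.GrHeight2.ringKrullDim_eq_height 𝒜 m hloc hpos
  rw [hn] at hdim
  have hht : m.toIdeal.height = ((n : ℕ) : ℕ∞) := by
    have : ((m.toIdeal.height : ℕ∞) : WithBot ℕ∞) = (((n : ℕ) : ℕ∞) : WithBot ℕ∞) := by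
      rw [← hdim]
      rfl
    exact_mod_cast this
  have hm := cm_atPrime_of_HH_vanishing m.toIdeal n hht h
  refine { isCohenMacaulayLocalRing_localization := fun p hp => ?_ }
  haveI := hp
  apply cm_atPrime_of_core 𝒜 p
  haveI hc : (Ideal.homogeneousCore 𝒜 p).toIdeal.IsPrime := Ideal.IsPrime.homogeneousCore hp
  have hle : (Ideal.homogeneousCore 𝒜 p).toIdeal ≤ m.toIdeal := by
    have hne : Ideal.homogeneousCore 𝒜 p ≠ ⊤ := by
      intro h
      apply hp.ne_top
      rw [eq_top_iff]
      have := congrArg HomogeneousIdeal.toIdeal h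
      rw [HomogeneousIdeal.toIdeal_top] at this
      rw [← this]
      exact Ideal.toIdeal_homogeneousCore_le 𝒜 p
    exact Groth.Agent.Lib.Helper20.GrFieldLocal.le_of_ne_top 𝒜 hpos h0 m hmsp _ hne
  exact Groth.Agent.Lib.Helper26.RegQuotLoc.cm_atPrime_of_le _ m.toIdeal hle hm

end main

end Groth.Agent.Lib.Helper20.SegCM
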