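import Mathlib
import Groth.Agent.Lib.Helper20.SegCM1
import Groth.Agent.Lib.Helper28.DepthLoc
import Groth.Agent.Lib.Helper4.LocTrans
import Groth.Agent.Lib.Helper4.CMLoc
import Groth.Agent.Lib.Helper20.SuppLocHeight
import Groth.Agent.Lib.Helper20.LCNonVanish
import Groth.Agent.Lib.Helper20.LCFlat
import Groth.Agent.Lib.Helper20.GrVanishAbove
import Groth.Agent.Lib.Helper20.GrMultiDim
import Groth.Agent.Lib.Helper20.GrHeight

/-!
# Cohen–Macaulay modules and local cohomology at a maximal ideal: ungraded preliminaries (helper20)
-/

set_option autoImplicit false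
set_option linter.unusedSectionVars false
set_option linter.unusedVariables false
set_option linter.style.haveILetI false

universe u

open CategoryTheory Abelian IsLocalRing GrLC

namespace Groth.Agent.Lib.Helper20.GrModCM

open Groth.Agent.Lib.Helper4 Groth.Agent.Lib.Helper4.LC

section ungraded

variable {R : Type u} [CommRing R] [IsNoetherianRing R]

/-- the grade is bounded below by the vanishing of local cohomology. -/
theorem le_idealDepth_of_HH_vanishing (I : Ideal R) (M : Type u) [AddCommGroup M] [Module R M]
    [Module.Finite R M] (n : ℕ) (h : ∀ i < n, Subsingleton (HH I (ModuleCat.of R M) i)) :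
    (n : ℕ∞) ≤ LocCoh.idealDepth I M := by
  by_cases hIM : I • (⊤ : Submodule R M) = ⊤
  · rw [idealDepth_of_smul_top_eq I hIM]
    exact le_top
  by_contra hlt
  rw [not_le] at hlt
  have hne : LocCoh.idealDepth I M ≠ ⊤ := ne_top_of_lt hlt
  obtain ⟨d, hd⟩ := ENat.ne_top_iff_exists.1 hne
  have hdn : d < n := by
    rw [← hd] at hlt
    exact_mod_cast hlt
  haveI := HH.nontrivial_of_idealDepth_eq I d M hIM hd.symm
  haveI := h d hdn
  exact false_of_nontrivial_of_subsingleton (HH I (ModuleCat.of R M) d)

/-- at a maximal ideal the depth of the localization is the grade. -/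
theorem depth_loc_eq_idealDepth (m : Ideal R) [hm : m.IsMaximal] (M : Type u) [AddCommGroup M]
    [Module R M] [Module.Finite R M] [Nontrivial (LocalizedModule m.primeCompl M)] :
    LocCoh.depth (Localization.AtPrime m) (LocalizedModule m.primeCompl M) =
      LocCoh.idealDepth m M := by
  apply le_antisymm
  · rw [← ENat.forall_natCast_le_iff_le]
    intro n hn
    apply Groth.Agent.Lib.Helper28.le_idealDepth_of_forall_localization m n
    intro p hp hmp hnt
    have hpm : m = p := hm.eq_of_le hp.ne_top hmp
    subst hpm
    exact hn
  · exact Groth.Agent.Lib.Helper28.idealDepth_le_depth_localization m m le_rfl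

/-- localizing can only decrease the dimension. -/
theorem supportDim_loc_le (p : Ideal R) [hp : p.IsPrime] (M : Type u) [AddCommGroup M]
    [Module R M] :
    Module.supportDim (Localization.AtPrime p) (LocalizedModule p.primeCompl M) ≤
      Module.supportDim R M := by
  by_cases hpM : (⟨p, hp⟩ : PrimeSpectrum R) ∈ Module.support R M
  · rw [Groth.Agent.Lib.Helper20.SuppLocHeight.supportDim_loc_eq_height M p hpM]
    exact Order.height_le_krullDim _
  · rw [Module.notMem_support_iff] at hpM
    rw [Module.supportDim_eq_bot_of_subsingleton]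
    exact bot_le

/-- Cohen–Macaulayness passes to smaller primes. -/
theorem cm_loc_of_le (m q : Ideal R) [hm : m.IsPrime] [hq : q.IsPrime] (hqm : q ≤ m)
    (M : Type u) [AddCommGroup M] [Module R M] [Module.Finite R M]
    (hM : LocCoh.IsCohenMacaulayModule (Localization.AtPrime m)
      (LocalizedModule m.primeCompl M)) :
    Subsingleton (LocalizedModule q.primeCompl M) ∨
      LocCoh.IsCohenMacaulayModule (Localization.AtPrime q) (LocalizedModule q.primeCompl M) := by
  have hdisj : Disjoint (m.primeCompl : Set R) (q : Set R) := by
    rw [Set.disjoint_left]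
    intro a ha haq
    exact ha (hqm haq)
  set Q : Ideal (Localization m.primeCompl) :=
    q.map (algebraMap R (Localization m.primeCompl)) with hQdef
  haveI hQ : Q.IsPrime :=
    IsLocalization.isPrime_of_isPrime_disjoint m.primeCompl (Localization m.primeCompl) q hq hdisj
  have hcomap : Q.comap (algebraMap R (Localization m.primeCompl)) = q :=
    IsLocalization.comap_map_of_isPrime_disjoint m.primeCompl (Localization m.primeCompl) hq hdisj
  obtain ⟨h1, h2⟩ := LocTrans.depth_supportDim_locLoc' m.primeCompl M Q q hcomap
  by_cases hsupp : (⟨Q, hQ⟩ : PrimeSpectrum (Localization m.primeCompl)) ∈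
      Module.support (Localization.AtPrime m) (LocalizedModule m.primeCompl M)
  · right
    have hcm := cm_localizedModule hM ⟨Q, hQ⟩ hsupp
    unfold LocCoh.IsCohenMacaulayModule at hcm ⊢
    rw [← h1, ← h2]
    exact hcm
  · left
    rw [Module.notMem_support_iff] at hsupp
    rw [← Module.supportDim_eq_bot_iff_subsingleton (Localization.AtPrime q), ← h2]
    exact (Module.supportDim_eq_bot_iff_subsingleton _ _).2 hsupp

end ungraded

end Groth.Agent.Lib.Helper20.GrModCM
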