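import Mathlib
import Groth.Agent.Lib.Helper14.CMMod.CoprofFib
import Groth.Agent.Lib.Helper12.DimFT2
import Groth.Agent.Lib.Helper12.SchemeDimIneq

/-!
# Rectified depth on fibres, ring level, part 1 (helper20)

The dimension formula for the fibre local rings of a polynomial ring: for a prime `P` of
`R[T₁,…,Tₘ]` over `p`, `dim (R[T]_P / p R[T]_P) + trdeg (κ(P)/κ(p)) = m`.
-/

set_option autoImplicit false
set_option linter.style.haveILetI false
set_option linter.unusedSectionVars false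
universe u

open IsLocalRing TensorProduct

namespace Groth.Agent.Lib.Helper20.RD

open Groth.Agent.Lib.Helper14.CMMod Groth.Agent.Lib.Helper12

section Fiber

variable (R S : Type u) [CommRing R] [CommRing S] [Algebra R S] (p : Ideal R) [p.IsPrime]

/-- the residue transcendence degree of a prime of the fibre ring. -/
theorem trdeg_fiber_prime (𝔮 : Ideal (p.Fiber S)) [𝔮.IsPrime] (P : Ideal S) [P.IsPrime]
    [P.LiesOver p]
    (hP : 𝔮.comap (Algebra.TensorProduct.includeRight : S →ₐ[R] p.Fiber S) = P)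
    (inst : Algebra p.ResidueField 𝔮.ResidueField)
    (tow : IsScalarTower p.ResidueField (p.Fiber S) 𝔮.ResidueField) :
    Algebra.trdeg (R ⧸ p) (S ⧸ P) = Algebra.trdeg p.ResidueField 𝔮.ResidueField := by
  let β : S →+* 𝔮.ResidueField := (algebraMap (p.Fiber S) 𝔮.ResidueField).comp
    (Algebra.TensorProduct.includeRight : S →ₐ[R] p.Fiber S).toRingHom
  have hRκ : ∀ r : R, algebraMap (p.Fiber S) 𝔮.ResidueField (algebraMap R (p.Fiber S) r) =
      algebraMap p.ResidueField 𝔮.ResidueField (algebraMap R p.ResidueField r) := by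
    intro r
    rw [IsScalarTower.algebraMap_apply R p.ResidueField (p.Fiber S),
      ← IsScalarTower.algebraMap_apply p.ResidueField (p.Fiber S) 𝔮.ResidueField]
  refine SchemeDimIneq.trdeg_quotient_eq_of_fractions (algebraMap R p.ResidueField) β ?_ p P
    (Ideal.ker_algebraMap_residueField p) ?_ ?_ ?_
  · intro a
    change algebraMap (p.Fiber S) 𝔮.ResidueField
      ((Algebra.TensorProduct.includeRight : S →ₐ[R] p.Fiber S) (algebraMap R S a)) = _
    rw [AlgHom.commutes, hRκ]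
  · ext x
    rw [RingHom.mem_ker, ← hP, Ideal.mem_comap]
    change algebraMap (p.Fiber S) 𝔮.ResidueField _ = 0 ↔ _
    rw [Ideal.algebraMap_residueField_eq_zero]
    rfl
  · intro z
    obtain ⟨⟨x, y⟩, hxy⟩ := IsLocalization.surj (nonZeroDivisors (R ⧸ p)) z
    obtain ⟨a, rfl⟩ := Ideal.Quotient.mk_surjective x
    obtain ⟨s, hs⟩ := Ideal.Quotient.mk_surjective y.1
    refine ⟨a, s, ?_, ?_⟩
    · rw [Ne, Ideal.algebraMap_residueField_eq_zero, ← Ideal.Quotient.eq_zero_iff_mem, hs]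
      exact nonZeroDivisors.ne_zero y.2
    · have : algebraMap (R ⧸ p) p.ResidueField y.1 = algebraMap R p.ResidueField s := by
        rw [← hs]; rfl
      rw [← this]
      exact hxy
  · intro z
    obtain ⟨⟨x, y⟩, hxy⟩ := IsLocalization.surj (R := p.Fiber S ⧸ 𝔮) (S := 𝔮.ResidueField)
      (nonZeroDivisors (p.Fiber S ⧸ 𝔮)) z
    obtain ⟨x', rfl⟩ := Ideal.Quotient.mk_surjective x
    obtain ⟨y', hy'⟩ := Ideal.Quotient.mk_surjective y.1
    obtain ⟨r₁, hr₁, s₁, h₁⟩ := Ideal.Fiber.exists_smul_eq_one_tmul p x'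
    obtain ⟨r₂, hr₂, s₂, h₂⟩ := Ideal.Fiber.exists_smul_eq_one_tmul p y'
    have hy0 : algebraMap (p.Fiber S) 𝔮.ResidueField y' ≠ 0 := by
      rw [Ne, Ideal.algebraMap_residueField_eq_zero, ← Ideal.Quotient.eq_zero_iff_mem, hy']
      exact nonZeroDivisors.ne_zero y.2
    have hr0 : ∀ r : R, r ∉ p →
        algebraMap (p.Fiber S) 𝔮.ResidueField (algebraMap R (p.Fiber S) r) ≠ 0 := by
      intro r hr
      rw [hRκ]
      intro h0
      have := (algebraMap p.ResidueField 𝔮.ResidueField).injective (h0.trans (map_zero _).symm)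
      rw [Ideal.algebraMap_residueField_eq_zero] at this
      exact hr this
    have hβ : ∀ s : S, β s = algebraMap (p.Fiber S) 𝔮.ResidueField (1 ⊗ₜ[R] s) := fun s => rfl
    have hxy' : z * algebraMap (p.Fiber S) 𝔮.ResidueField y' =
        algebraMap (p.Fiber S) 𝔮.ResidueField x' := by
      simp only at hxy
      rw [← hy'] at hxy
      exact hxy
    have e₁ : (1 : p.ResidueField) ⊗ₜ[R] (r₁ • s₂) = (r₁ * r₂) • y' := by
      rw [TensorProduct.tmul_smul, ← h₂, smul_smul]
    have e₂ : (1 : p.ResidueField) ⊗ₜ[R] (r₂ • s₁) = (r₁ * r₂) • x' := by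
      rw [TensorProduct.tmul_smul, ← h₁, smul_smul, mul_comm]
    have hr12 : algebraMap (p.Fiber S) 𝔮.ResidueField (algebraMap R (p.Fiber S) (r₁ * r₂)) ≠ 0 :=
      hr0 _ (fun h => (Ideal.IsPrime.mem_or_mem inferInstance h).elim hr₁ hr₂)
    -- `t = r₁ • s₂`, `b = r₂ • s₁`
    refine ⟨r₂ • s₁, r₁ • s₂, ?_, ?_⟩
    · rw [hβ, e₁, Algebra.smul_def, map_mul]
      exact mul_ne_zero hr12 hy0
    · rw [hβ, hβ, e₁, e₂, Algebra.smul_def, Algebra.smul_def]
      generalize algebraMap R (p.Fiber S) (r₁ * r₂) = c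
      rw [map_mul, map_mul, ← hxy']
      ring

end Fiber

section PolyFormula

theorem isScalarTower_residueField_aux (k F : Type u) [Field k] [CommRing F] [Algebra k F]
    (𝔮 : Ideal F) [𝔮.IsPrime] : IsScalarTower k F 𝔮.ResidueField := inferInstance

variable (R : Type u) [CommRing R]

set_option maxHeartbeats 1000000 in
/-- **the dimension formula on the fibres of a polynomial ring.** -/
theorem fibLocRing_mvPolynomial_dim_add_trdeg (m : ℕ) (P : Ideal (MvPolynomial (Fin m) R))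
    [P.IsPrime] (p : Ideal R) [p.IsPrime] [P.LiesOver p] :
    ringKrullDim (EGA4.FibLocRing R (MvPolynomial (Fin m) R) P) +
      ((Cardinal.toENat (Algebra.trdeg (R ⧸ p) (MvPolynomial (Fin m) R ⧸ P)) : ℕ∞) : WithBot ℕ∞) =
      ((m : ℕ∞) : WithBot ℕ∞) := by
  have hr : P.comap (algebraMap R (MvPolynomial (Fin m) R)) = p :=
    (Ideal.LiesOver.over (p := p) (P := P)).symm
  obtain ⟨𝔮, h𝔮, h𝔮P⟩ := exists_fiber_prime R (MvPolynomial (Fin m) R) p P hr
  haveI := h𝔮
  have htr := trdeg_fiber_prime R (MvPolynomial (Fin m) R) p 𝔮 P h𝔮P _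
    (isScalarTower_residueField_aux p.ResidueField (p.Fiber (MvPolynomial (Fin m) R)) 𝔮)
  subst h𝔮P
  obtain ⟨e⟩ := nonempty_localization_fiber_equiv R (MvPolynomial (Fin m) R) p 𝔮
  rw [← ringKrullDim_eq_of_ringEquiv e]
  have e' : p.Fiber (MvPolynomial (Fin m) R) ≃ₐ[p.ResidueField]
      MvPolynomial (Fin m) p.ResidueField := MvPolynomial.algebraTensorAlgEquiv R p.ResidueField
  haveI : IsDomain (p.Fiber (MvPolynomial (Fin m) R)) := e'.toMulEquiv.isDomain _
  haveI : Algebra.FiniteType p.ResidueField (p.Fiber (MvPolynomial (Fin m) R)) :=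
    inferInstanceAs (Algebra.FiniteType p.ResidueField
      (p.ResidueField ⊗[R] (MvPolynomial (Fin m) R)))
  have hd : ringKrullDim (p.Fiber (MvPolynomial (Fin m) R)) = (m : ℕ) := by
    rw [ringKrullDim_eq_of_ringEquiv e'.toRingEquiv, MvPolynomial.ringKrullDim_of_isNoetherianRing,
      ringKrullDim_eq_zero_of_field, zero_add, Nat.card_fin]
  have h1 := DimFT2.height_add_coheight' p.ResidueField (p.Fiber (MvPolynomial (Fin m) R)) m hd
    ⟨𝔮, inferInstance⟩
  obtain ⟨n, hn1, -, hn3⟩ := DimFT2.exists_trdeg_residueField p.ResidueField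
    (p.Fiber (MvPolynomial (Fin m) R)) 𝔮
  have h2 := PrimeSpectrum.height_eq_orderHeight (⟨𝔮, inferInstance⟩ : PrimeSpectrum _)
  change 𝔮.height = _ at h2
  have hn1' := htr.trans hn1
  rw [IsLocalization.AtPrime.ringKrullDim_eq_height 𝔮 (Localization.AtPrime 𝔮),
    h2, hn1', Cardinal.toENat_nat]
  rw [hn3] at h1
  exact_mod_cast congrArg (fun x : ℕ∞ => (x : WithBot ℕ∞)) h1

end PolyFormula

end Groth.Agent.Lib.Helper20.RD
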