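import Mathlib
import Groth.Agent.Lib.Helper20.RD1
import Groth.Agent.Lib.Helper12.DimIneq

/-!
# Rectified depth on fibres, ring level, part 2: descent along a polynomial ring (helper20)

`fdepth A B N Q`: the depth of the fibre module `N_Q / p N_Q`; `rtr A B Q`: the transcendence
degree of `κ(Q)` over `κ(p)`; `RD A B N Q n`: `n ≤ fdepth + rtr` (the rectified depth of the fibre
module at `Q` is at least `n`).
-/

set_option autoImplicit false
set_option linter.style.haveILetI false
set_option linter.unusedSectionVars false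
set_option linter.dupNamespace false
universe u

open IsLocalRing TensorProduct

namespace Groth.Agent.Lib.Helper20.RD

open Groth.Agent.Lib.Helper14.CMMod Groth.Agent.Lib.Helper12

section Def

variable (A B : Type u) [CommRing A] [CommRing B] [Algebra A B]
  (N : Type u) [AddCommGroup N] [Module B N] (Q : Ideal B) [Q.IsPrime]

/-- the depth of the fibre module `N_Q / p N_Q` over `B_Q`. -/
noncomputable def fdepth : ℕ∞ :=
  LocCoh.depth (Localization.AtPrime Q) (LocalizedModule Q.primeCompl N ⧸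
    (Ideal.map (algebraMap A (Localization.AtPrime Q)) (Q.comap (algebraMap A B))) •
      (⊤ : Submodule (Localization.AtPrime Q) (LocalizedModule Q.primeCompl N)))

/-- the residue transcendence degree at `Q`. -/
noncomputable def rtr : ℕ∞ :=
  letI : Q.LiesOver (Q.comap (algebraMap A B)) := ⟨rfl⟩
  Cardinal.toENat (Algebra.trdeg (A ⧸ Q.comap (algebraMap A B)) (B ⧸ Q))

/-- the rectified depth of the fibre module at `Q` is at least `n`. -/
def RD (n : ℕ) : Prop := (n : ℕ∞) ≤ fdepth A B N Q + rtr A B Q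

theorem rtr_eq (p : Ideal A) [Q.LiesOver p] :
    rtr A B Q = Cardinal.toENat (Algebra.trdeg (A ⧸ p) (B ⧸ Q)) := by
  have hp : p = Q.comap (algebraMap A B) := Ideal.LiesOver.over (p := p) (P := Q)
  subst hp
  rfl

end Def

section Descend

variable (A : Type u) [CommRing A] (m : ℕ) (B : Type u) [CommRing B]
  [Algebra A B] [Algebra (MvPolynomial (Fin m) A) B] [IsScalarTower A (MvPolynomial (Fin m) A) B]
  [Algebra.FiniteType A B]
  (N : Type u) [AddCommGroup N] [Module B N] [Module.Finite B N]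
  [Module (MvPolynomial (Fin m) A) N] [IsScalarTower (MvPolynomial (Fin m) A) B N]
  (Q : Ideal B) [Q.IsPrime]

local notation "A'" => MvPolynomial (Fin m) A
local notation "LQ" => Localization.AtPrime Q
local notation "WQ" => LocalizedModule (Ideal.primeCompl Q) N
local notation "K1" => Ideal.map (algebraMap A (Localization.AtPrime Q))
  (Ideal.comap (algebraMap A B) Q)
local notation "K2" => Ideal.map (algebraMap (MvPolynomial (Fin m) A) (Localization.AtPrime Q))
  (Ideal.comap (algebraMap (MvPolynomial (Fin m) A) B) Q)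

set_option maxHeartbeats 1600000 in
/-- the fibre depth over `A` in terms of the one over `A[T]`. -/
theorem fdepth_descend (hflat : Module.Flat A' (LocalizedModule Q.primeCompl N)) :
    ((fdepth A B N Q : ℕ∞) : WithBot ℕ∞) =
      ringKrullDim (EGA4.FibLocRing A A' (Q.comap (algebraMap A' B))) +
        ((fdepth A' B N Q : ℕ∞) : WithBot ℕ∞) := by
  obtain ⟨A₀, i1, i2, e, i3, i4, i5, i6, h12, hK, hfl⟩ := descend_setup A A' B N Q
  haveI : IsRegularLocalRing (EGA4.FibLocRing A A' (Q.comap (algebraMap A' B))) :=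
    isRegularLocalRing_fibLocRing_mvPolynomial A m _
  haveI : IsRegularLocalRing A₀ := IsRegularLocalRing.of_ringEquiv e.symm
  haveI lL : IsLocalRing (LQ ⧸ K1) := isLocalRing_fibLocRing A B Q
  haveI nL : IsNoetherianRing (LQ ⧸ K1) := isNoetherianRing_fibLocRing A B Q
  haveI := hfl hflat
  have hsurj : Function.Surjective (algebraMap LQ (LQ ⧸ K1)) := Ideal.Quotient.mk_surjective
  haveI : Module.Finite (LQ ⧸ K1) (WQ ⧸ K1 • (⊤ : Submodule LQ WQ)) :=
    Module.Finite.of_restrictScalars_finite LQ _ _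
  have h1 := Groth.Agent.Lib.Helper4.depth_tensor_eq (R := A₀) (S := LQ ⧸ K1) A₀
    (WQ ⧸ K1 • (⊤ : Submodule LQ WQ))
  rw [hK] at h1
  have e1 := quotQuotEquiv (W := WQ) K1 K2 h12
  have hA₀ := Groth.Agent.Lib.Helper4.RegCM.depth_eq_ringKrullDim A₀
  rw [ringKrullDim_eq_of_ringEquiv e] at hA₀
  -- identify the three depths
  have hd1 : LocCoh.depth (LQ ⧸ K1) ((WQ ⧸ K1 • (⊤ : Submodule LQ WQ)) ⊗[A₀] A₀) =
      fdepth A B N Q := by
    unfold fdepth
    rw [depth_eq_of_surjective hsurj (WQ ⧸ K1 • (⊤ : Submodule LQ WQ))]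
    exact Groth.Agent.Lib.Helper4.idealDepth_congr _
      (TensorProduct.AlgebraTensorModule.rid A₀ (LQ ⧸ K1) (WQ ⧸ K1 • (⊤ : Submodule LQ WQ)))
  have hd2 : LocCoh.depth (LQ ⧸ K1) ((WQ ⧸ K1 • (⊤ : Submodule LQ WQ)) ⧸
      ((Ideal.map (Ideal.Quotient.mk K1) K2) •
        (⊤ : Submodule (LQ ⧸ K1) (WQ ⧸ K1 • (⊤ : Submodule LQ WQ))))) = fdepth A' B N Q := by
    unfold fdepth
    rw [← depth_eq_of_surjective hsurj]
    exact Groth.Agent.Lib.Helper4.idealDepth_congr _ e1
  rw [hd1, hd2] at h1
  rw [h1, ← hA₀]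
  push_cast
  rfl

/-- **descent of the rectified depth along a polynomial ring.** -/
theorem rd_descend (k : ℕ) (hflat : Module.Flat A' (LocalizedModule Q.primeCompl N))
    (h : RD A' B N Q k) : RD A B N Q (k + m) := by
  have h1 := fdepth_descend A m B N Q hflat
  haveI hQp : Q.LiesOver (Q.comap (algebraMap A B)) := ⟨rfl⟩
  haveI hQP : Q.LiesOver (Q.comap (algebraMap A' B)) := ⟨rfl⟩
  haveI : (Q.comap (algebraMap A B)).IsPrime := Ideal.IsPrime.comap _
  haveI : (Q.comap (algebraMap A' B)).IsPrime := Ideal.IsPrime.comap _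
  haveI hPp : (Q.comap (algebraMap A' B)).LiesOver (Q.comap (algebraMap A B)) := ⟨by
    change _ = Ideal.comap (algebraMap A A') (Q.comap (algebraMap A' B))
    rw [Ideal.comap_comap, ← IsScalarTower.algebraMap_eq]⟩
  have h2 := fibLocRing_mvPolynomial_dim_add_trdeg A m (Q.comap (algebraMap A' B))
    (Q.comap (algebraMap A B))
  have h3 := DimIneq.trdeg_quotient_tower (Q.comap (algebraMap A B)) (Q.comap (algebraMap A' B)) Q
  have h4 : rtr A B Q = Cardinal.toENat (Algebra.trdeg (A ⧸ Q.comap (algebraMap A B))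
      (A' ⧸ Q.comap (algebraMap A' B))) + rtr A' B Q := by
    unfold rtr
    rw [← h3, map_add]
  unfold RD at h ⊢
  have h5 : ((fdepth A B N Q + rtr A B Q : ℕ∞) : WithBot ℕ∞) =
      ((m : ℕ∞) : WithBot ℕ∞) + ((fdepth A' B N Q + rtr A' B Q : ℕ∞) : WithBot ℕ∞) := by
    rw [← h2, h4]
    push_cast
    rw [h1]
    abel
  have h6 : fdepth A B N Q + rtr A B Q = (m : ℕ∞) + (fdepth A' B N Q + rtr A' B Q) := by
    exact_mod_cast h5
  rw [h6]
  push_cast
  rw [add_comm]
  exact add_le_add_right h _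

end Descend

end Groth.Agent.Lib.Helper20.RD
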