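import Mathlib
import Groth.Agent.Lib.Helper20.RD2
import Groth.Agent.Lib.Helper14.CMMod.CoprofMain

/-!
# Rectified depth on fibres, ring level, part 3: openness at a point (helper20)
-/

set_option autoImplicit false
set_option linter.style.haveILetI false
set_option linter.unusedSectionVars false
set_option linter.dupNamespace false
universe u

open IsLocalRing TensorProduct RingTheory.Sequence

namespace Groth.Agent.Lib.Helper20.RD

open Groth.Agent.Lib.Helper14.CMMod Groth.Agent.Lib.Helper12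
  Groth.Agent.Lib.Helper14.LCF Groth.Agent.Lib.Helper14.FlatOpen

section Trans

open MvPolynomial

/-- a lift of a transcendence basis of `κ(Q)` over `κ(p)`, with the transcendence degree. -/
theorem exists_algIndep_lift' (A B : Type u) [CommRing A] [CommRing B] [Algebra A B]
    [Algebra.FiniteType A B] (Q : Ideal B) [Q.IsPrime] :
    ∃ (e : ℕ) (hs : Fin e → B),
      (∀ F : MvPolynomial (Fin e) A, MvPolynomial.aeval hs F ∈ Q →
        F ∈ (Q.comap (algebraMap A B)).map (MvPolynomial.C : A →+* MvPolynomial (Fin e) A)) ∧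
      rtr A B Q = e := by
  classical
  set p := Q.comap (algebraMap A B) with hp
  haveI : p.IsPrime := Ideal.IsPrime.comap _
  haveI : Q.LiesOver p := ⟨rfl⟩
  haveI : IsDomain (B ⧸ Q) := Ideal.Quotient.isDomain Q
  haveI : IsDomain (A ⧸ p) := Ideal.Quotient.isDomain p
  haveI ft1 : Algebra.FiniteType A (B ⧸ Q) :=
    Algebra.FiniteType.trans (S := B) inferInstance inferInstance
  haveI ft2 : Algebra.FiniteType (A ⧸ p) (B ⧸ Q) :=
    Algebra.FiniteType.of_restrictScalars_finiteType A (A ⧸ p) (B ⧸ Q)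
  obtain ⟨s, hs⟩ := ft2.out
  haveI halg : Algebra.IsAlgebraic (Algebra.adjoin (A ⧸ p) (s : Set (B ⧸ Q))) (B ⧸ Q) := by
    refine ⟨fun a => ?_⟩
    have ha : a ∈ Algebra.adjoin (A ⧸ p) (s : Set (B ⧸ Q)) := by rw [hs]; exact Algebra.mem_top
    exact isAlgebraic_algebraMap (⟨a, ha⟩ : Algebra.adjoin (A ⧸ p) (s : Set (B ⧸ Q)))
  obtain ⟨t, hts, htb⟩ := exists_isTranscendenceBasis_subset (R := A ⧸ p) (s : Set (B ⧸ Q))
  haveI : Finite t := (s.finite_toSet.subset hts).to_subtype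
  obtain ⟨e, ⟨eq⟩⟩ := Finite.exists_equiv_fin t
  -- the reindexed family
  set x : Fin e → B ⧸ Q := fun i => ((eq.symm i : t) : B ⧸ Q) with hx
  have hxind : AlgebraicIndependent (A ⧸ p) x :=
    htb.1.comp eq.symm eq.symm.injective
  -- lifts
  choose hsB hhsB using fun i => Ideal.Quotient.mk_surjective (x i)
  have hcomp : ∀ G : MvPolynomial (Fin e) A,
      MvPolynomial.aeval x (MvPolynomial.map (algebraMap A (A ⧸ p)) G) =
        Ideal.Quotient.mk Q (MvPolynomial.aeval hsB G) := by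
    intro G
    rw [MvPolynomial.aeval_def, MvPolynomial.eval₂_map, MvPolynomial.aeval_def,
      MvPolynomial.eval₂_comp_left]
    congr 1
    funext i
    exact (hhsB i).symm
  refine ⟨e, hsB, ?_, ?_⟩
  · intro F hF
    have h1 : MvPolynomial.aeval x (MvPolynomial.map (algebraMap A (A ⧸ p)) F) = 0 := by
      rw [hcomp, Ideal.Quotient.eq_zero_iff_mem]
      exact hF
    have h2 : MvPolynomial.map (algebraMap A (A ⧸ p)) F = 0 :=
      (injective_iff_map_eq_zero _).1 (algebraicIndependent_iff_injective_aeval.1 hxind) _ h1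
    have h3 : F ∈ RingHom.ker (MvPolynomial.map (algebraMap A (A ⧸ p)) :
        MvPolynomial (Fin e) A →+* MvPolynomial (Fin e) (A ⧸ p)) := h2
    rw [MvPolynomial.ker_map, Ideal.Quotient.algebraMap_eq, Ideal.mk_ker] at h3
    exact h3
  · rw [rtr_eq A B Q p, ← htb.cardinalMk_eq_trdeg, Cardinal.toENat_eq_nat, Cardinal.mk_eq_nat_iff]
    exact ⟨eq⟩

end Trans

section FibSeq

variable (A B : Type u) [CommRing A] [CommRing B] [Algebra A B] [Algebra.FiniteType A B]
  (N : Type u) [AddCommGroup N] [Module B N] [Module.Finite B N] (Q : Ideal B) [Q.IsPrime]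

local notation "LQ" => Localization.AtPrime Q
local notation "WQ" => LocalizedModule (Ideal.primeCompl Q) N
local notation "K1" => Ideal.map (algebraMap A (Localization.AtPrime Q))
  (Ideal.comap (algebraMap A B) Q)
local notation "pB" => Ideal.map (algebraMap A B) (Ideal.comap (algebraMap A B) Q)

set_option maxHeartbeats 1600000 in
/-- **a fibrewise regular sequence of prescribed length.** -/
theorem exists_fibre_seq_rd (n : ℕ)
    (hnt : Nontrivial (WQ ⧸ K1 • (⊤ : Submodule LQ WQ)))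
    (hd : (n : ℕ∞) ≤ fdepth A B N Q) :
    ∃ g : List B, g.length = n ∧ (∀ b ∈ g, b ∈ Q) ∧
      (∀ (k : Fin g.length) (w : WQ),
        g.get k • w ∈ (pB ⊔ Ideal.span (g.get '' {j : Fin g.length | j < k})) •
          (⊤ : Submodule B WQ) →
        w ∈ (pB ⊔ Ideal.span (g.get '' {j : Fin g.length | j < k})) •
          (⊤ : Submodule B WQ)) := by
  haveI lL : IsLocalRing (LQ ⧸ K1) := isLocalRing_fibLocRing A B Q
  haveI nL : IsNoetherianRing (LQ ⧸ K1) := isNoetherianRing_fibLocRing A B Q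
  have hsurj : Function.Surjective (algebraMap LQ (LQ ⧸ K1)) := Ideal.Quotient.mk_surjective
  haveI : Module.Finite (LQ ⧸ K1) (WQ ⧸ K1 • (⊤ : Submodule LQ WQ)) :=
    Module.Finite.of_restrictScalars_finite LQ _ _
  have hd' : (n : ℕ∞) ≤ LocCoh.idealDepth (maximalIdeal (LQ ⧸ K1))
      (WQ ⧸ K1 • (⊤ : Submodule LQ WQ)) := by
    unfold fdepth at hd
    rw [depth_eq_of_surjective hsurj] at hd
    exact hd
  have hne : maximalIdeal (LQ ⧸ K1) • (⊤ : Submodule (LQ ⧸ K1) (WQ ⧸ K1 • (⊤ : Submodule LQ WQ)))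
      ≠ ⊤ := Groth.Agent.Lib.Helper4.maximalIdeal_smul_top_ne_top
  obtain ⟨rs, hlen, hrsm, hrsreg⟩ :=
    Groth.Agent.Lib.Helper4.exists_isWeaklyRegular_of_le_idealDepth (maximalIdeal (LQ ⧸ K1)) hne n
      hd'
  -- lifting elements of the maximal ideal up to units
  have key : ∀ r : LQ ⧸ K1, ∃ b s : B, r ∈ maximalIdeal (LQ ⧸ K1) →
      b ∈ Q ∧ s ∉ Q ∧ r * algebraMap B (LQ ⧸ K1) s = algebraMap B (LQ ⧸ K1) b := by
    intro r
    obtain ⟨l, rfl⟩ := Ideal.Quotient.mk_surjective r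
    obtain ⟨b, s, rfl⟩ := IsLocalization.exists_mk'_eq Q.primeCompl l
    refine ⟨b, s.1, fun hr => ⟨?_, s.2, ?_⟩⟩
    · have h1 : (IsLocalization.mk' LQ b s) ∈ maximalIdeal LQ :=
        (mem_maximalIdeal_of_surjective (R := LQ) (R' := LQ ⧸ K1) hsurj).1 hr
      exact (IsLocalization.AtPrime.mk'_mem_maximal_iff LQ Q b s).1 h1
    · rw [IsScalarTower.algebraMap_apply B LQ (LQ ⧸ K1), IsScalarTower.algebraMap_apply B LQ (LQ ⧸ K1),
        Ideal.Quotient.algebraMap_eq, ← map_mul, IsLocalization.mk'_spec]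
  choose fb fs hf using key
  set F : (LQ ⧸ K1) → (LQ ⧸ K1) := fun r => algebraMap B (LQ ⧸ K1) (fb r) with hF
  have hFu : ∀ r, r ∈ maximalIdeal (LQ ⧸ K1) → ∃ u : LQ ⧸ K1, IsUnit u ∧ F r = r * u := by
    intro r hr
    refine ⟨algebraMap B (LQ ⧸ K1) (fs r), ?_, ((hf r hr).2.2).symm⟩
    rw [IsScalarTower.algebraMap_apply B LQ (LQ ⧸ K1)]
    exact (IsLocalization.map_units LQ (⟨fs r, (hf r hr).2.1⟩ : Q.primeCompl)).map _
  set g : List B := rs.map fb with hg
  have hgts : g.map (algebraMap B (LQ ⧸ K1)) = rs.map F := by rw [hg, List.map_map]; rfl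
  have htsreg : IsWeaklyRegular (WQ ⧸ K1 • (⊤ : Submodule LQ WQ)) (rs.map F) :=
    isWeaklyRegular_map_of_unit rs F (fun r hr => hFu r (hrsm r hr)) hrsreg
  have hgreg : IsWeaklyRegular (WQ ⧸ K1 • (⊤ : Submodule LQ WQ)) g := by
    rw [← hgts] at htsreg
    exact (isWeaklyRegular_map_algebraMap_iff (LQ ⧸ K1) _ g).1 htsreg
  have hgQ : ∀ b ∈ g, b ∈ Q := by
    intro b hb
    rw [hg] at hb
    obtain ⟨r, hr, rfl⟩ := List.mem_map.1 hb
    exact (hf r (hrsm r hr)).1
  refine ⟨g, by rw [hg, List.length_map]; exact hlen, hgQ, ?_⟩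
  intro k w hw
  rw [image_get_lt'] at hw ⊢
  rw [mem_sup_smul_iff] at hw ⊢
  have h2 := (isWeaklyRegular_iff _ _).mp hgreg k k.2
  rw [isSMulRegular_quotient_iff_mem_of_smul_mem] at h2
  refine h2 _ ?_
  rw [← Submodule.Quotient.mk_smul]
  exact hw

end FibSeq

end Groth.Agent.Lib.Helper20.RD
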