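import Mathlib
import Groth.Agent.Lib.Helper20.RD3

/-!
# Rectified depth on fibres, ring level, part 4: openness at a point (helper20)
-/

set_option autoImplicit false
set_option linter.style.haveILetI false
set_option linter.unusedSectionVars false
set_option linter.dupNamespace false
universe u

open IsLocalRing TensorProduct RingTheory.Sequence

namespace Groth.Agent.Lib.Helper20.RD

open Groth.Agent.Lib.Helper14.CMMod Groth.Agent.Lib.Helper12
  Groth.Agent.Lib.Helper14.LCF Groth.Agent.Lib.Helper14.FlatOpen

section Basic

variable (A B : Type u) [CommRing A] [CommRing B] [Algebra A B]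
  (N : Type u) [AddCommGroup N] [Module B N] (Q : Ideal B) [Q.IsPrime]

theorem rd_mono {n n' : ℕ} (h : n ≤ n') (h' : RD A B N Q n') : RD A B N Q n :=
  le_trans (by exact_mod_cast h) h'

theorem rd_zero : RD A B N Q 0 := by
  unfold RD
  simp

end Basic

section Closed

variable (A B : Type u) [CommRing A] [CommRing B] [Algebra A B] [Algebra.FinitePresentation A B]
  (N : Type u) [AddCommGroup N] [Module B N] [Module.FinitePresentation B N] [Module A N]
  [IsScalarTower A B N] (Q : Ideal B) [Q.IsPrime]

set_option maxHeartbeats 3200000 in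
/-- **openness when the depth of the fibre module is large.** -/
theorem RM_rd_closed (n : ℕ)
    (hflat : Module.Flat A (LocalizedModule Q.primeCompl N))
    (hnt : Nontrivial (LocalizedModule Q.primeCompl N ⧸
        (Ideal.map (algebraMap A (Localization.AtPrime Q)) (Q.comap (algebraMap A B))) •
          (⊤ : Submodule (Localization.AtPrime Q) (LocalizedModule Q.primeCompl N))))
    (hd : (n : ℕ∞) ≤ fdepth A B N Q) :
    ∃ c : B, c ∉ Q ∧ ∀ (Q' : Ideal B) [Q'.IsPrime], c ∉ Q' →
      Module.Flat A (LocalizedModule Q'.primeCompl N) ∧ RD A B N Q' n := by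
  haveI : Module.Finite B N := inferInstance
  haveI := hflat
  obtain ⟨g, hglen, hgQ, hreg⟩ := exists_fibre_seq_rd A B N Q n hnt hd
  have hgs : ∀ i, g.get i ∈ Q := fun i => hgQ _ (List.get_mem _ _)
  have h0 := flat_mvPolynomial_of_regular_fibre (A := A) Q g.get
    (LocalizedModule.mkLinearMap Q.primeCompl N) hgs hreg
  letI aA₂ := mvPolyAlgebra A g.get
  haveI tA₂ := mvPolyAlgebra_isScalarTower A g.get
  haveI fpA₂ := mvPolyAlgebra_finitePresentation A g.get
  letI mRN := mvPolyModule A g.get N
  haveI tA₂N : IsScalarTower (MvPolynomial (Fin g.length) A) B N :=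
    IsScalarTower.of_algebraMap_smul fun r n => rfl
  have heq : ∀ T : Submonoid B, mvPolyModule A g.get (LocalizedModule T N) =
      (inferInstance : Module (MvPolynomial (Fin g.length) A) (LocalizedModule T N)) := by
    intro T
    refine Module.ext' _ _ fun r w => ?_
    exact algebraMap_smul B r w
  rw [heq] at h0
  obtain ⟨c₁, hc₁, hfl⟩ := exists_flatOnD (A := MvPolynomial (Fin g.length) A) (S := B) (N := N)
    Q h0
  refine ⟨c₁, hc₁, ?_⟩
  intro Q' _ hcQ'
  have hflA₂ : Module.Flat (MvPolynomial (Fin g.length) A) (LocalizedModule Q'.primeCompl N) :=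
    hfl Q' hcQ'
  haveI tAA₂W : IsScalarTower A (MvPolynomial (Fin g.length) A)
      (LocalizedModule Q'.primeCompl N) := by
    refine IsScalarTower.of_algebraMap_smul fun a w => ?_
    rw [← algebraMap_smul B (algebraMap A (MvPolynomial (Fin g.length) A) a) w,
      ← IsScalarTower.algebraMap_apply, algebraMap_smul]
  have hflA : Module.Flat A (LocalizedModule Q'.primeCompl N) := by
    haveI := hflA₂
    exact Module.Flat.trans A (MvPolynomial (Fin g.length) A) _
  refine ⟨hflA, ?_⟩
  have h1 := rd_descend A g.length B N Q' 0 hflA₂ (rd_zero _ _ _ _)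
  rw [zero_add, hglen] at h1
  exact h1

end Closed

section General

variable (A B : Type u) [CommRing A] [CommRing B] [Algebra A B] [Algebra.FinitePresentation A B]
  (N : Type u) [AddCommGroup N] [Module B N] [Module.FinitePresentation B N] [Module A N]
  [IsScalarTower A B N] (Q : Ideal B) [Q.IsPrime]

set_option maxHeartbeats 1600000 in
/-- **openness of the locus where the fibrewise rectified depth of a flat finitely presented
module is at least `n`, at a point.** -/
theorem RM_rd (n : ℕ)
    (hflat : Module.Flat A (LocalizedModule Q.primeCompl N))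
    (hrd : RD A B N Q n) :
    ∃ c : B, c ∉ Q ∧ ∀ (Q' : Ideal B) [Q'.IsPrime], c ∉ Q' →
      Module.Flat A (LocalizedModule Q'.primeCompl N) ∧ RD A B N Q' n := by
  haveI : Module.Finite B N := inferInstance
  by_cases hz : Subsingleton (LocalizedModule Q.primeCompl N ⧸
      (Ideal.map (algebraMap A (Localization.AtPrime Q)) (Q.comap (algebraMap A B))) •
        (⊤ : Submodule (Localization.AtPrime Q) (LocalizedModule Q.primeCompl N)))
  · -- the zero case
    have h0 : Subsingleton (LocalizedModule Q.primeCompl N) := by
      rw [Submodule.Quotient.subsingleton_iff] at hz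
      have h1 := Submodule.eq_bot_of_le_smul_of_le_jacobson_bot
        (Ideal.map (algebraMap A (Localization.AtPrime Q)) (Q.comap (algebraMap A B)))
        (⊤ : Submodule (Localization.AtPrime Q) (LocalizedModule Q.primeCompl N))
        Module.Finite.fg_top hz.ge
        (by
          rw [IsLocalRing.jacobson_eq_maximalIdeal ⊥ bot_ne_top]
          exact map_comap_le_maximalIdeal A B Q)
      exact (Submodule.subsingleton_iff (Localization.AtPrime Q)).1
        (subsingleton_of_bot_eq_top h1.symm)
    obtain ⟨c, hc, hall⟩ := RM_zero B N Q h0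
    refine ⟨c, hc, ?_⟩
    intro Q' _ hcQ'
    haveI := hall Q' hcQ'
    refine ⟨inferInstance, ?_⟩
    unfold RD fdepth
    rw [Groth.Agent.Lib.Helper4.depth_eq_top_of_subsingleton, top_add]
    exact le_top
  · rw [not_subsingleton_iff_nontrivial] at hz
    obtain ⟨e, hs, h1, htr⟩ := exists_algIndep_lift' A B Q
    letI aA₁ := mvPolyAlgebra A hs
    haveI tA₁ := mvPolyAlgebra_isScalarTower A hs
    haveI fpA₁ := mvPolyAlgebra_finitePresentation A hs
    letI mRN := mvPolyModule A hs N
    haveI tA₁N : IsScalarTower (MvPolynomial (Fin e) A) B N :=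
      IsScalarTower.of_algebraMap_smul fun r n => rfl
    have hC : ∀ a : A, algebraMap (MvPolynomial (Fin e) A) B (MvPolynomial.C a) =
        algebraMap A B a := fun a => by
      change MvPolynomial.aeval hs (MvPolynomial.C a) = _
      rw [MvPolynomial.aeval_C]
    have hP : Q.comap (algebraMap (MvPolynomial (Fin e) A) B) =
        (Q.comap (algebraMap A B)).map (algebraMap A (MvPolynomial (Fin e) A)) := by
      refine le_antisymm (fun F hF => h1 F hF) ?_
      rw [Ideal.map_le_iff_le_comap]
      intro a ha
      rw [Ideal.mem_comap, Ideal.mem_comap, MvPolynomial.algebraMap_eq, hC]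
      exact ha
    have hflatA₁ : Module.Flat (MvPolynomial (Fin e) A) (LocalizedModule Q.primeCompl N) :=
      flat_of_comap_eq_map A (MvPolynomial (Fin e) A) B N Q hP hflat
    have hK : Ideal.map (algebraMap (MvPolynomial (Fin e) A) (Localization.AtPrime Q))
        (Q.comap (algebraMap (MvPolynomial (Fin e) A) B)) =
        Ideal.map (algebraMap A (Localization.AtPrime Q)) (Q.comap (algebraMap A B)) := by
      rw [hP, Ideal.map_map, ← IsScalarTower.algebraMap_eq]
    have hnt₁ : Nontrivial (LocalizedModule Q.primeCompl N ⧸
          (Ideal.map (algebraMap (MvPolynomial (Fin e) A) (Localization.AtPrime Q))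
            (Q.comap (algebraMap (MvPolynomial (Fin e) A) B))) •
          (⊤ : Submodule (Localization.AtPrime Q) (LocalizedModule Q.primeCompl N))) := by
      rw [hK]
      exact hz
    have hfd : fdepth (MvPolynomial (Fin e) A) B N Q = fdepth A B N Q := by
      unfold fdepth
      rw [hK]
    have hd : ((n - e : ℕ) : ℕ∞) ≤ fdepth (MvPolynomial (Fin e) A) B N Q := by
      rw [hfd]
      unfold RD at hrd
      rw [htr] at hrd
      generalize fdepth A B N Q = d at hrd ⊢
      induction d using ENat.recTopCoe with
      | top => exact le_top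
      | coe d =>
        have : n ≤ d + e := by exact_mod_cast hrd
        exact_mod_cast (by omega : n - e ≤ d)
    obtain ⟨c, hc, hall⟩ := RM_rd_closed (MvPolynomial (Fin e) A) B N Q (n - e) hflatA₁ hnt₁ hd
    refine ⟨c, hc, ?_⟩
    intro Q' _ hcQ'
    obtain ⟨hfl', hrd'⟩ := hall Q' hcQ'
    haveI tAA₁W : IsScalarTower A (MvPolynomial (Fin e) A)
        (LocalizedModule Q'.primeCompl N) := by
      refine IsScalarTower.of_algebraMap_smul fun a w => ?_
      rw [← algebraMap_smul B (algebraMap A (MvPolynomial (Fin e) A) a) w,
        ← IsScalarTower.algebraMap_apply, algebraMap_smul]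
    have hflA : Module.Flat A (LocalizedModule Q'.primeCompl N) := by
      haveI := hfl'
      exact Module.Flat.trans A (MvPolynomial (Fin e) A) _
    refine ⟨hflA, ?_⟩
    have h2 := rd_descend A e B N Q' (n - e) hfl' hrd'
    exact rd_mono _ _ _ _ (by omega) h2

end General

end Groth.Agent.Lib.Helper20.RD
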