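import Mathlib
import Groth.Agent.Lib.Helper20.RD4
import Groth.Agent.Lib.Helper14.CMMod.CoprofSch
import Groth.Agent.Lib.Helper12.SchemeDimIneq2
import Groth.Agent.Lib.Helper12.ClosedSub
import Groth.Agent.Lib.Helper12.SchemeDimFT3

/-!
# Rectified depth on fibres: schemes (helper20)
-/

set_option autoImplicit false
set_option linter.style.haveILetI false
set_option linter.unusedSectionVars false
set_option linter.dupNamespace false
universe u

open IsLocalRing TensorProduct CategoryTheory AlgebraicGeometry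

namespace Groth.Agent.Lib.Helper20.RD

open Groth.Agent.Lib.Helper14.CMMod Groth.Agent.Lib.Helper12

section Abstract

/-- the depth is invariant under semilinear isomorphisms along a surjective ring map. -/
theorem depth_eq_of_semilinear {R R' : Type u} [CommRing R] [CommRing R'] [IsLocalRing R]
    [IsLocalRing R'] (φ : R →+* R') (hφ : Function.Surjective φ)
    {M M' : Type u} [AddCommGroup M] [Module R M] [AddCommGroup M'] [Module R' M']
    (g : M ≃+ M') (hg : ∀ (r : R) (m : M), g (r • m) = φ r • g m) :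
    LocCoh.depth R M = LocCoh.depth R' M' := by
  letI : Algebra R R' := φ.toAlgebra
  letI : Module R M' := Module.compHom M' φ
  haveI : IsScalarTower R R' M' := IsScalarTower.of_algebraMap_smul fun r m => rfl
  let e : M ≃ₗ[R] M' := { g with map_smul' := fun r m => hg r m }
  have h1 : LocCoh.depth R M = LocCoh.depth R M' :=
    Groth.Agent.Lib.Helper4.idealDepth_congr _ e
  rw [h1]
  exact depth_eq_of_surjective (R := R) (R' := R') hφ M'

/-- transfer of the depth of `W / K W` along a semilinear isomorphism over a ring isomorphism. -/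
theorem depthq_eq_of_equiv {L L' : Type u} [CommRing L] [CommRing L'] [IsLocalRing L]
    [IsLocalRing L'] (θ : L ≃+* L') {W W' : Type u} [AddCommGroup W] [Module L W]
    [AddCommGroup W'] [Module L' W'] (g : W ≃+ W') (hg : ∀ l w, g (l • w) = θ l • g w)
    (K : Ideal L) (K' : Ideal L') (hK : K.map (θ : L →+* L') = K') :
    LocCoh.depth L (W ⧸ K • (⊤ : Submodule L W)) =
      LocCoh.depth L' (W' ⧸ K' • (⊤ : Submodule L' W')) := by
  letI aLL' : Algebra L L' := (θ : L →+* L').toAlgebra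
  letI mLW' : Module L W' := Module.compHom W' (θ : L →+* L')
  haveI tLL'W' : IsScalarTower L L' W' := IsScalarTower.of_algebraMap_smul fun r m => rfl
  let ĝ : W ≃ₗ[L] W' := { g with map_smul' := fun l w => hg l w }
  have h1 : (K • (⊤ : Submodule L W)).map ĝ.toLinearMap =
      (K' • (⊤ : Submodule L' W')).restrictScalars L := by
    rw [Submodule.map_smul'', Submodule.map_top, LinearMap.range_eq_top.2 ĝ.surjective]
    have h2 := Ideal.smul_restrictScalars (S := L') K (⊤ : Submodule L' W')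
    rw [Submodule.restrictScalars_top] at h2
    rw [← h2]
    congr 2
  let e : (W ⧸ K • (⊤ : Submodule L W)) ≃ₗ[L] (W' ⧸ K' • (⊤ : Submodule L' W')) :=
    (Submodule.Quotient.equiv _ _ ĝ h1).trans
      (Submodule.Quotient.restrictScalarsEquiv L (K' • (⊤ : Submodule L' W')))
  have hsemi : ∀ (l : L) (m : W ⧸ K • (⊤ : Submodule L W)),
      e.toAddEquiv (l • m) = (θ : L →+* L') l • e.toAddEquiv m := fun l m => by
    change e (l • m) = _
    rw [e.map_smul]
    exact (algebraMap_smul L' l (e m)).symm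
  exact depth_eq_of_semilinear (θ : L →+* L') θ.surjective e.toAddEquiv hsemi

/-- the depth of a base change along a surjection. -/
theorem depth_eq_of_isBaseChange {R R₀ : Type u} [CommRing R] [CommRing R₀]
    [IsLocalRing R] [IsLocalRing R₀] [Algebra R R₀]
    (hφ : Function.Surjective (algebraMap R R₀))
    {M M₁ : Type u} [AddCommGroup M] [Module R M] [AddCommGroup M₁] [Module R₀ M₁]
    [Module R M₁] [IsScalarTower R R₀ M₁] (γ : M →ₗ[R] M₁) (hγ : IsBaseChange R₀ γ)
    (K : Ideal R) (hK : RingHom.ker (algebraMap R R₀) = K) :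
    LocCoh.depth R₀ M₁ = LocCoh.depth R (M ⧸ K • (⊤ : Submodule R M)) := by
  have hK' : RingHom.ker (Algebra.ofId R R₀) = K := by
    rw [← hK]
    rfl
  subst hK'
  let e₁ : (M ⧸ (RingHom.ker (Algebra.ofId R R₀)) • (⊤ : Submodule R M)) ≃ₗ[R]
      (R ⧸ RingHom.ker (Algebra.ofId R R₀)) ⊗[R] M :=
    (TensorProduct.quotTensorEquivQuotSMul M _).symm
  let a : (R ⧸ RingHom.ker (Algebra.ofId R R₀)) ≃ₗ[R] R₀ :=
    (Ideal.quotientKerAlgEquivOfSurjective (f := Algebra.ofId R R₀) hφ).toLinearEquiv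
  let e₂ : (R ⧸ RingHom.ker (Algebra.ofId R R₀)) ⊗[R] M ≃ₗ[R] R₀ ⊗[R] M :=
    TensorProduct.congr a (LinearEquiv.refl R M)
  let e₃ : R₀ ⊗[R] M ≃ₗ[R] M₁ := hγ.equiv.restrictScalars R
  let e := e₁ ≪≫ₗ e₂ ≪≫ₗ e₃
  have hsemi : ∀ (r : R) (m : M ⧸ (RingHom.ker (Algebra.ofId R R₀)) • (⊤ : Submodule R M)),
      e.toAddEquiv (r • m) = (algebraMap R R₀) r • e.toAddEquiv m := fun r m => by
    change e (r • m) = _
    rw [e.map_smul]
    exact (algebraMap_smul R₀ r (e m)).symm
  exact (depth_eq_of_semilinear (algebraMap R R₀) hφ e.toAddEquiv hsemi).symm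

end Abstract

section Sch

open Groth.Agent.Lib.Helper3 Groth.Agent.Lib.Helper1.FlatAffine Groth.Agent.Lib.Helper17
  Groth.Agent.Lib.Helper14.FlatOpen

variable {X Y : Scheme.{u}} (f : X ⟶ Y) (F : X.Modules)

/-- the depth of `F_x / 𝔪_{f x} F_x` over `O_{X,x}`. -/
noncomputable def xdepth (x : X) : ℕ∞ :=
  LocCoh.depth (X.presheaf.stalk x) (F.presheaf.stalk x ⧸
    (Ideal.map (f.stalkMap x).hom (IsLocalRing.maximalIdeal (Y.presheaf.stalk (f.base x)))) •
      (⊤ : Submodule (X.presheaf.stalk x) (F.presheaf.stalk x)))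

/-- the intrinsic condition at `x`: the rectified depth of the fibre of `F` at `x` is at
least `n`. -/
def QXrd (n : ℕ) (x : X) : Prop :=
  (n : ℕ∞) ≤ xdepth f F x + SchemeDimIneq.trn f x

/-- the depth on the fibre is the intrinsic depth. -/
theorem fibre_depth_eq [F.IsQuasicoherent] (s : Y) (z : f.fiber s) :
    LocCoh.depth ((f.fiber s).presheaf.stalk z)
        (((Scheme.Modules.pullback (f.fiberι s)).obj F).presheaf.stalk z) =
      xdepth f F ((f.fiberι s).base z) := by
  letI := ((f.fiberι s).stalkMap z).hom.toAlgebra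
  letI : Module (X.presheaf.stalk ((f.fiberι s) z))
      (((Scheme.Modules.pullback (f.fiberι s)).obj F).presheaf.stalk z) :=
    Module.compHom _ ((f.fiberι s).stalkMap z).hom
  obtain ⟨hst, γ, hγ⟩ := PbStalk.exists_isBaseChange_stalk (f.fiberι s) F z
  obtain ⟨hsurj, hker⟩ := FibreStalkMap.stalkMap_fiberι f s z
  exact depth_eq_of_isBaseChange hsurj γ hγ _ hker

/-- the rectified depth condition on the fibre is the intrinsic condition. -/
theorem fibre_rd_iff [F.IsQuasicoherent] [LocallyOfFiniteType f] (n : ℕ) (s : Y) (z : f.fiber s) :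
    (n : WithBot ℕ∞) ≤
      ((LocCoh.depth ((f.fiber s).presheaf.stalk z)
        (((Scheme.Modules.pullback (f.fiberι s)).obj F).presheaf.stalk z) : ℕ∞) : WithBot ℕ∞) +
        topologicalKrullDim ↥(closure ({z} : Set ↥(f.fiber s))) ↔
      QXrd f F n ((f.fiberι s).base z) := by
  letI _ovF : (f.fiber s).Over (Spec (CommRingCat.of (Y.residueField s))) :=
    ⟨f.fiberToSpecResidueField s⟩
  haveI : LocallyOfFiniteType ((f.fiber s) ↘ Spec (CommRingCat.of (Y.residueField s))) :=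
    FibreRes.locallyOfFiniteType_fiberToSpecResidueField f s
  have hy : f ((f.fiberι s).base z) = s := by
    have h3 : (f.fiberι s).base z ∈ f.base ⁻¹' {s} := by
      rw [← f.range_fiberι s]
      exact ⟨z, rfl⟩
    exact h3
  have h1 := ClosedSub.trn_eq_tr_of_fiber f ((f.fiberι s).base z) s hy z rfl
  have h2 := SchemeDimFT.topologicalKrullDim_closure_singleton (Y.residueField s) (f.fiber s) z
  rw [fibre_depth_eq f F s z, h2]
  unfold QXrd
  rw [h1]
  constructor
  · intro h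
    exact_mod_cast h
  · intro h
    exact_mod_cast h

variable {U : X.Opens} {V : Y.Opens} (hU : IsAffineOpen U) (hV : IsAffineOpen V)
  (hUV : U ≤ f ⁻¹ᵁ V)

include hU hV in
set_option maxHeartbeats 1600000 in
/-- the intrinsic depth on an affine chart. -/
theorem xdepth_eq_chart [F.IsQuasicoherent] (x : X) (hx : x ∈ U) :
    letI a0 : Algebra Γ(Y, V) Γ(X, U) := (f.appLE V U hUV).hom.toAlgebra
    xdepth f F x = fdepth Γ(Y, V) Γ(X, U) Γ(F, U) (hU.primeIdealOf ⟨x, hx⟩).asIdeal := by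
  letI a0 : Algebra Γ(Y, V) Γ(X, U) := (f.appLE V U hUV).hom.toAlgebra
  obtain ⟨i1, i2, i3, i4, gF, hg1, hg2, hg3⟩ := QS.exists_isLocalizedModule hU F x hx
  have hyV : f x ∈ V := hUV hx
  -- the ring isomorphism
  let θ : X.presheaf.stalk x ≃ₐ[Γ(X, U)] Localization.AtPrime (hU.primeIdealOf ⟨x, hx⟩).asIdeal :=
    IsLocalization.algEquiv (hU.primeIdealOf ⟨x, hx⟩).asIdeal.primeCompl _ _
  letI mLW : Module (X.presheaf.stalk x)
      (LocalizedModule (hU.primeIdealOf ⟨x, hx⟩).asIdeal.primeCompl Γ(F, U)) :=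
    Module.compHom _ (θ : X.presheaf.stalk x →+*
      Localization.AtPrime (hU.primeIdealOf ⟨x, hx⟩).asIdeal)
  haveI tBLW : IsScalarTower Γ(X, U) (X.presheaf.stalk x)
      (LocalizedModule (hU.primeIdealOf ⟨x, hx⟩).asIdeal.primeCompl Γ(F, U)) := by
    refine IsScalarTower.of_algebraMap_smul fun b w => ?_
    change θ (algebraMap _ _ b) • w = b • w
    rw [θ.commutes, algebraMap_smul]
  let g₀ : F.presheaf.stalk x ≃ₗ[Γ(X, U)]
      LocalizedModule (hU.primeIdealOf ⟨x, hx⟩).asIdeal.primeCompl Γ(F, U) :=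
    IsLocalizedModule.linearEquiv (hU.primeIdealOf ⟨x, hx⟩).asIdeal.primeCompl gF
      (LocalizedModule.mkLinearMap (hU.primeIdealOf ⟨x, hx⟩).asIdeal.primeCompl Γ(F, U))
  let g₁ : F.presheaf.stalk x ≃ₗ[X.presheaf.stalk x]
      LocalizedModule (hU.primeIdealOf ⟨x, hx⟩).asIdeal.primeCompl Γ(F, U) :=
    LinearEquiv.extendScalarsOfIsLocalization (hU.primeIdealOf ⟨x, hx⟩).asIdeal.primeCompl
      (X.presheaf.stalk x) g₀
  unfold xdepth fdepth
  refine depthq_eq_of_equiv θ.toRingEquiv g₁.toAddEquiv (fun l w => g₁.map_smul l w) _ _ ?_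
  -- the ideals
  letI aBB' : Algebra Γ(Y, V) (Y.presheaf.stalk (f x)) :=
    TopCat.Presheaf.algebra_section_stalk Y.presheaf (U := V) ⟨f x, hyV⟩
  haveI locB' : IsLocalization.AtPrime (Y.presheaf.stalk (f x))
      (hV.primeIdealOf ⟨f x, hyV⟩).asIdeal := hV.isLocalization_stalk ⟨f x, hyV⟩
  have hq : (hU.primeIdealOf ⟨x, hx⟩).asIdeal.comap (algebraMap Γ(Y, V) Γ(X, U)) =
      (hV.primeIdealOf ⟨f x, hyV⟩).asIdeal :=
    congrArg PrimeSpectrum.asIdeal (IsAffineOpen.comap_primeIdealOf_appLE V hV U hU hUV hx)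
  have hmax : IsLocalRing.maximalIdeal (Y.presheaf.stalk (f.base x)) =
      Ideal.map (algebraMap Γ(Y, V) (Y.presheaf.stalk (f x)))
        (hV.primeIdealOf ⟨f x, hyV⟩).asIdeal :=
    (IsLocalization.AtPrime.map_eq_maximalIdeal (hV.primeIdealOf ⟨f x, hyV⟩).asIdeal
      (Y.presheaf.stalk (f x))).symm
  rw [hmax, hq, Ideal.map_map, Ideal.map_map]
  congr 1
  ext a
  simp only [RingHom.comp_apply]
  have e1 : algebraMap Γ(Y, V) (Y.presheaf.stalk (f x)) a = Y.presheaf.germ V (f x) hyV a := rfl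
  rw [e1, ← germ_appLE f hUV x hx a, ← hg1]
  change θ (algebraMap Γ(X, U) (X.presheaf.stalk x) (algebraMap Γ(Y, V) Γ(X, U) a)) = _
  rw [θ.commutes, ← IsScalarTower.algebraMap_apply]

include hU hV in
/-- the residue transcendence degree on an affine chart. -/
theorem trn_eq_chart (x : X) (hx : x ∈ U) :
    letI a0 : Algebra Γ(Y, V) Γ(X, U) := (f.appLE V U hUV).hom.toAlgebra
    SchemeDimIneq.trn f x = rtr Γ(Y, V) Γ(X, U) (hU.primeIdealOf ⟨x, hx⟩).asIdeal := by
  letI a0 : Algebra Γ(Y, V) Γ(X, U) := (f.appLE V U hUV).hom.toAlgebra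
  letI := (f.residueFieldMap x).hom.toAlgebra
  haveI : (hU.primeIdealOf ⟨x, hx⟩).asIdeal.LiesOver (hV.primeIdealOf ⟨f x, hUV hx⟩).asIdeal :=
    ⟨SchemeDimIneq.primeIdealOf_comap f hU hV hUV x hx⟩
  rw [rtr_eq Γ(Y, V) Γ(X, U) (hU.primeIdealOf ⟨x, hx⟩).asIdeal
    (hV.primeIdealOf ⟨f x, hUV hx⟩).asIdeal, SchemeDimIneq.trdeg_chart f hU hV hUV x hx]
  rfl

include hU hV in
/-- the intrinsic condition on an affine chart. -/
theorem qxrd_iff_chart [F.IsQuasicoherent] (n : ℕ) (x : X) (hx : x ∈ U) :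
    letI a0 : Algebra Γ(Y, V) Γ(X, U) := (f.appLE V U hUV).hom.toAlgebra
    QXrd f F n x ↔ RD Γ(Y, V) Γ(X, U) Γ(F, U) (hU.primeIdealOf ⟨x, hx⟩).asIdeal n := by
  letI a0 : Algebra Γ(Y, V) Γ(X, U) := (f.appLE V U hUV).hom.toAlgebra
  unfold QXrd RD
  rw [xdepth_eq_chart f F hU hV hUV x hx, trn_eq_chart f hU hV hUV x hx]

end Sch

end Groth.Agent.Lib.Helper20.RD
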