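import Mathlib
import Groth.Agent.Lib.Helper20.RD5

/-!
# Lower semicontinuity of the fibrewise rectified depth: schemes (helper20)
-/

set_option autoImplicit false
set_option linter.style.haveILetI false
set_option linter.unusedSectionVars false
set_option linter.dupNamespace false
universe u

open IsLocalRing TensorProduct CategoryTheory AlgebraicGeometry

namespace Groth.Agent.Lib.Helper20.RD

open Groth.Agent.Lib.Helper14.CMMod Groth.Agent.Lib.Helper12

section Sch

open Groth.Agent.Lib.Helper3 Groth.Agent.Lib.Helper1.FlatAffine Groth.Agent.Lib.Helper17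
  Groth.Agent.Lib.Helper14.FlatOpen

variable {X Y : Scheme.{u}} (f : X ⟶ Y) (F : X.Modules)

/-- **openness of the locus where the fibrewise rectified depth of a finitely presented module
is at least `n` and the module is flat over the base.** -/
theorem isOpen_flat_and_QXrd [LocallyOfFinitePresentation f]
    [SheafOfModules.IsFinitePresentation (R := X.ringCatSheaf) F] (n : ℕ) :
    IsOpen {x : X | FlatMod.IsFlatOverAt f F x ∧ QXrd f F n x} := by
  refine isOpen_iff_forall_mem_open.mpr fun x hx ↦ ?_
  obtain ⟨_, ⟨V, hV, rfl⟩, hxV, -⟩ :=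
    Y.isBasis_affineOpens.exists_subset_of_mem_open (Set.mem_univ (f x)) isOpen_univ
  obtain ⟨_, ⟨U, hU, rfl⟩, hxU, hUV⟩ :=
    X.isBasis_affineOpens.exists_subset_of_mem_open hxV (V.2.preimage f.continuous)
  letI a0 : Algebra Γ(Y, V) Γ(X, U) := (f.appLE V U hUV).hom.toAlgebra
  letI a1 : Module Γ(Y, V) Γ(F, U) := Module.compHom _ (f.appLE V U hUV).hom
  haveI a2 : IsScalarTower Γ(Y, V) Γ(X, U) Γ(F, U) :=
    IsScalarTower.of_algebraMap_smul fun r n => rfl
  haveI : Algebra.FinitePresentation Γ(Y, V) Γ(X, U) := f.finitePresentation_appLE hV hU hUV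
  haveI : Module.FinitePresentation Γ(X, U) Γ(F, U) := QCProps.finitePresentation_sections F hU
  have hfl := (isFlatOverAt_iff_localizedModule f F hU hV hUV x hxU).mp hx.1
  have hcm := (qxrd_iff_chart f F hU hV hUV n x hxU).mp hx.2
  obtain ⟨c, hc, hall⟩ := RM_rd Γ(Y, V) Γ(X, U) Γ(F, U) (hU.primeIdealOf ⟨x, hxU⟩).asIdeal n
    hfl hcm
  refine ⟨X.basicOpen c, ?_, (X.basicOpen c).2, ?_⟩
  · intro y hy
    have hyU : y ∈ U := X.basicOpen_le c hy
    have h3 := hall _ ((mem_basicOpen_iff_notMem_primeIdealOf hU y hyU c).mp hy)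
    exact ⟨(isFlatOverAt_iff_localizedModule f F hU hV hUV y hyU).mpr h3.1,
      (qxrd_iff_chart f F hU hV hUV n y hyU).mpr h3.2⟩
  · exact (mem_basicOpen_iff_notMem_primeIdealOf hU x hxU c).mpr hc

theorem isOpen_QXrd [LocallyOfFinitePresentation f]
    [SheafOfModules.IsFinitePresentation (R := X.ringCatSheaf) F]
    (hflat : FlatMod.IsFlatOver f F) (n : ℕ) : IsOpen {x : X | QXrd f F n x} := by
  convert isOpen_flat_and_QXrd f F n using 1
  ext x
  simp only [Set.mem_setOf_eq]
  exact ⟨fun h => ⟨hflat x, h⟩, fun h => h.2⟩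

/-- pointwise form on the total space. -/
theorem isOpen_fibre_rd [LocallyOfFinitePresentation f]
    [SheafOfModules.IsFinitePresentation (R := X.ringCatSheaf) F]
    (hflat : FlatMod.IsFlatOver f F) (n : ℕ) :
    IsOpen {x : X | (n : WithBot ℕ∞) ≤
      ((LocCoh.depth ((f.fiber (f.base x)).presheaf.stalk (f.asFiber x))
        (((Scheme.Modules.pullback (f.fiberι (f.base x))).obj F).presheaf.stalk
          (f.asFiber x)) : ℕ∞) : WithBot ℕ∞) +
        topologicalKrullDim ↥(closure ({f.asFiber x} : Set ↥(f.fiber (f.base x))))} := by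
  have h := isOpen_QXrd f F hflat n
  convert h using 1
  ext x
  simp only [Set.mem_setOf_eq]
  rw [fibre_rd_iff f F n (f.base x) (f.asFiber x)]
  have := f.fiberι_asFiber x
  rw [this]

/-- form on the base, for a closed map. -/
theorem isOpen_fibre_rd_base [LocallyOfFinitePresentation f]
    [SheafOfModules.IsFinitePresentation (R := X.ringCatSheaf) F]
    (hflat : FlatMod.IsFlatOver f F) (hcl : IsClosedMap f.base) (n : ℕ) :
    IsOpen {y : Y | ∀ x : ↥(f.fiber y), (n : WithBot ℕ∞) ≤
      ((LocCoh.depth ((f.fiber y).presheaf.stalk x)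
        (((Scheme.Modules.pullback (f.fiberι y)).obj F).presheaf.stalk x) : ℕ∞) : WithBot ℕ∞) +
        topologicalKrullDim ↥(closure ({x} : Set ↥(f.fiber y)))} := by
  have h := isOpen_QXrd f F hflat n
  have h2 : IsClosed (f.base '' {x : X | QXrd f F n x}ᶜ) := hcl _ h.isClosed_compl
  convert h2.isOpen_compl using 1
  ext y
  simp only [Set.mem_setOf_eq, Set.mem_compl_iff, Set.mem_image, not_exists, not_and, not_not]
  constructor
  · intro hall x hx hxy
    subst hxy
    have h3 := hall (f.asFiber x)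
    rw [fibre_rd_iff f F n (f.base x) (f.asFiber x)] at h3
    have := f.fiberι_asFiber x
    rw [this] at h3
    exact hx h3
  · intro hall z
    rw [fibre_rd_iff f F n y z]
    by_contra hne
    have h3 : (f.fiberι y).base z ∈ f.base ⁻¹' {y} := by
      rw [← f.range_fiberι y]
      exact ⟨z, rfl⟩
    exact hall _ hne h3

end Sch

end Groth.Agent.Lib.Helper20.RD
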