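import Mathlib
import Groth.Agent.Lib.Helper20.RD4
import Groth.Agent.Lib.Helper20.FibLocGen
import Groth.Agent.Lib.Helper9.DepthLocV

/-!
# Fibrewise depth along a closed subset, ring level (helper20)

If the fibre module of `N` has depth `≥ n` at all primes `Q''` with `J ≤ Q'' ≤ Q` in the fibre
through `Q`, then there is a sequence of length `n` in `J` which is regular on the fibre module
at `Q`; in the flat finitely presented case the depth condition then holds at all primes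
containing `J` in a neighbourhood of `Q`.
-/

set_option autoImplicit false
set_option linter.style.haveILetI false
set_option linter.unusedSectionVars false
set_option linter.dupNamespace false
universe u

open IsLocalRing TensorProduct RingTheory.Sequence

namespace Groth.Agent.Lib.Helper20.DepthAlong

open Groth.Agent.Lib.Helper14.CMMod Groth.Agent.Lib.Helper12
  Groth.Agent.Lib.Helper14.LCF Groth.Agent.Lib.Helper14.FlatOpen Groth.Agent.Lib.Helper20.RD

section FibSeq

variable (A B : Type u) [CommRing A] [CommRing B] [Algebra A B] [Algebra.FiniteType A B]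
  (N : Type u) [AddCommGroup N] [Module B N] [Module.Finite B N] [Module A N] [IsScalarTower A B N]
  (Q : Ideal B) [Q.IsPrime]

local notation "LQ" => Localization.AtPrime Q
local notation "WQ" => LocalizedModule (Ideal.primeCompl Q) N
local notation "K1" => Ideal.map (algebraMap A (Localization.AtPrime Q))
  (Ideal.comap (algebraMap A B) Q)
local notation "pB" => Ideal.map (algebraMap A B) (Ideal.comap (algebraMap A B) Q)

/-- the fibre depth as a depth over the fibre local ring. -/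
theorem fdepth_eq_fibLoc (Q' : Ideal B) [Q'.IsPrime] :
    fdepth A B N Q' = LocCoh.depth (EGA4.FibLocRing A B Q') (EGA4.FibLocMod A B Q' N) := by
  unfold fdepth
  exact depth_eq_of_surjective (R := Localization.AtPrime Q') (R' := EGA4.FibLocRing A B Q')
    Ideal.Quotient.mk_surjective (EGA4.FibLocMod A B Q' N)

set_option maxHeartbeats 1600000 in
/-- the ideal depth along `J` of the fibre module at `Q`. -/
theorem le_idealDepth_fib (n : ℕ) (J : Ideal B)
    (hd : ∀ (Q'' : Ideal B) [Q''.IsPrime], J ≤ Q'' → Q'' ≤ Q →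
      Q''.comap (algebraMap A B) = Q.comap (algebraMap A B) → (n : ℕ∞) ≤ fdepth A B N Q'') :
    (n : ℕ∞) ≤ LocCoh.idealDepth (J.map (algebraMap B (LQ ⧸ K1)))
      (WQ ⧸ K1 • (⊤ : Submodule LQ WQ)) := by
  haveI lL : IsLocalRing (LQ ⧸ K1) := isLocalRing_fibLocRing A B Q
  haveI nL : IsNoetherianRing (LQ ⧸ K1) := isNoetherianRing_fibLocRing A B Q
  haveI : Module.Finite (LQ ⧸ K1) (WQ ⧸ K1 • (⊤ : Submodule LQ WQ)) :=
    Module.Finite.of_restrictScalars_finite LQ _ _
  refine Groth.Agent.Lib.Helper28.V.le_idealDepth_of_forall_localization _ n ?_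
  intro 𝔓 _ hJ𝔓 _
  obtain ⟨q', hq'⟩ : ∃ q' : Ideal B, 𝔓.comap (algebraMap B (EGA4.FibLocRing A B Q)) = q' :=
    ⟨_, rfl⟩
  haveI : q'.IsPrime := hq' ▸ Ideal.IsPrime.comap _
  obtain ⟨hq'Q, hcomap, hdep, -⟩ := FibLocGen.tcore A B N Q 𝔓 q' hq'
  have hJq' : J ≤ q' := by
    rw [← hq']
    exact Ideal.map_le_iff_le_comap.mp hJ𝔓
  have h1 := hd q' hJq' hq'Q hcomap
  rw [fdepth_eq_fibLoc] at h1
  exact h1.trans hdep.ge

set_option maxHeartbeats 1600000 in
/-- **a fibrewise regular sequence of prescribed length inside `J`.** -/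
theorem exists_fibre_seq_along (n : ℕ) (J : Ideal B) (hJQ : J ≤ Q)
    (hnt : Nontrivial (WQ ⧸ K1 • (⊤ : Submodule LQ WQ)))
    (hd : ∀ (Q'' : Ideal B) [Q''.IsPrime], J ≤ Q'' → Q'' ≤ Q →
      Q''.comap (algebraMap A B) = Q.comap (algebraMap A B) → (n : ℕ∞) ≤ fdepth A B N Q'') :
    ∃ g : List B, g.length = n ∧ (∀ b ∈ g, b ∈ J) ∧
      (∀ (k : Fin g.length) (w : WQ),
        g.get k • w ∈ (pB ⊔ Ideal.span (g.get '' {j : Fin g.length | j < k})) •
          (⊤ : Submodule B WQ) →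
        w ∈ (pB ⊔ Ideal.span (g.get '' {j : Fin g.length | j < k})) •
          (⊤ : Submodule B WQ)) := by
  haveI lL : IsLocalRing (LQ ⧸ K1) := isLocalRing_fibLocRing A B Q
  haveI nL : IsNoetherianRing (LQ ⧸ K1) := isNoetherianRing_fibLocRing A B Q
  have hsurj : Function.Surjective (algebraMap LQ (LQ ⧸ K1)) := Ideal.Quotient.mk_surjective
  haveI : Module.Finite (LQ ⧸ K1) (WQ ⧸ K1 • (⊤ : Submodule LQ WQ)) :=
    Module.Finite.of_restrictScalars_finite LQ _ _
  have hd' := le_idealDepth_fib A B N Q n J hd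
  have hJle : J.map (algebraMap B (LQ ⧸ K1)) ≤ maximalIdeal (LQ ⧸ K1) := by
    rw [Ideal.map_le_iff_le_comap]
    intro b hb
    rw [Ideal.mem_comap, IsScalarTower.algebraMap_apply B LQ (LQ ⧸ K1),
      mem_maximalIdeal_of_surjective (R := LQ) (R' := LQ ⧸ K1) hsurj,
      IsLocalization.AtPrime.to_map_mem_maximal_iff LQ Q]
    exact hJQ hb
  have hne : (J.map (algebraMap B (LQ ⧸ K1))) •
      (⊤ : Submodule (LQ ⧸ K1) (WQ ⧸ K1 • (⊤ : Submodule LQ WQ))) ≠ ⊤ := by
    have hne0 : maximalIdeal (LQ ⧸ K1) •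
        (⊤ : Submodule (LQ ⧸ K1) (WQ ⧸ K1 • (⊤ : Submodule LQ WQ))) ≠ ⊤ :=
      Groth.Agent.Lib.Helper4.maximalIdeal_smul_top_ne_top
    intro h
    apply hne0
    have h3 : (J.map (algebraMap B (LQ ⧸ K1))) •
        (⊤ : Submodule (LQ ⧸ K1) (WQ ⧸ K1 • (⊤ : Submodule LQ WQ))) ≤
        maximalIdeal (LQ ⧸ K1) •
        (⊤ : Submodule (LQ ⧸ K1) (WQ ⧸ K1 • (⊤ : Submodule LQ WQ))) :=
      Submodule.smul_mono_left hJle
    rw [h] at h3
    exact le_antisymm le_top h3
  obtain ⟨rs, hlen, hrsm, hrsreg⟩ :=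
    Groth.Agent.Lib.Helper4.exists_isWeaklyRegular_of_le_idealDepth
      (J.map (algebraMap B (LQ ⧸ K1))) hne n hd'
  -- lifting elements of `J (LQ/K1)` up to units
  have key : ∀ r : LQ ⧸ K1, ∃ b s : B, r ∈ J.map (algebraMap B (LQ ⧸ K1)) →
      b ∈ J ∧ s ∉ Q ∧ r * algebraMap B (LQ ⧸ K1) s = algebraMap B (LQ ⧸ K1) b := by
    intro r
    by_cases hr : r ∈ J.map (algebraMap B (LQ ⧸ K1))
    · have h1 : J.map (algebraMap B (LQ ⧸ K1)) =
          (J.map (algebraMap B LQ)).map (Ideal.Quotient.mk K1) := by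
        rw [Ideal.map_map]
        rfl
      rw [h1, Ideal.mem_map_iff_of_surjective _ Ideal.Quotient.mk_surjective] at hr
      obtain ⟨l, hl, rfl⟩ := hr
      rw [IsLocalization.mem_map_algebraMap_iff Q.primeCompl LQ] at hl
      obtain ⟨⟨b, s⟩, hbs⟩ := hl
      refine ⟨b.1, s.1, fun _ => ⟨b.2, s.2, ?_⟩⟩
      rw [IsScalarTower.algebraMap_apply B LQ (LQ ⧸ K1),
        IsScalarTower.algebraMap_apply B LQ (LQ ⧸ K1), Ideal.Quotient.algebraMap_eq, ← map_mul]
      exact congrArg _ hbs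
    · exact ⟨0, 0, fun h => absurd h hr⟩
  choose fb fs hf using key
  set F : (LQ ⧸ K1) → (LQ ⧸ K1) := fun r => algebraMap B (LQ ⧸ K1) (fb r) with hF
  have hFu : ∀ r, r ∈ J.map (algebraMap B (LQ ⧸ K1)) →
      ∃ u : LQ ⧸ K1, IsUnit u ∧ F r = r * u := by
    intro r hr
    refine ⟨algebraMap B (LQ ⧸ K1) (fs r), ?_, ((hf r hr).2.2).symm⟩
    rw [IsScalarTower.algebraMap_apply B LQ (LQ ⧸ K1)]
    exact (IsLocalization.map_units LQ (⟨fs r, (hf r hr).2.1⟩ : Q.primeCompl)).map _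
  set g : List B := rs.map fb with hg
  have hgts : g.map (algebraMap B (LQ ⧸ K1)) = rs.map F := by rw [hg, List.map_map]; rfl
  have htsreg : IsWeaklyRegular (WQ ⧸ K1 • (⊤ : Submodule LQ WQ)) (rs.map F) :=
    isWeaklyRegular_map_of_unit rs F (fun r hr => hFu r (hrsm r hr)) hrsreg
  have hgreg : IsWeaklyRegular (WQ ⧸ K1 • (⊤ : Submodule LQ WQ)) g := by
    rw [← hgts] at htsreg
    exact (isWeaklyRegular_map_algebraMap_iff (LQ ⧸ K1) _ g).1 htsreg
  have hgJ : ∀ b ∈ g, b ∈ J := by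
    intro b hb
    rw [hg] at hb
    obtain ⟨r, hr, rfl⟩ := List.mem_map.1 hb
    exact (hf r (hrsm r hr)).1
  refine ⟨g, by rw [hg, List.length_map]; exact hlen, hgJ, ?_⟩
  intro k w hw
  rw [image_get_lt'] at hw ⊢
  rw [mem_sup_smul_iff] at hw ⊢
  have h2 := (isWeaklyRegular_iff _ _).mp hgreg k k.2
  rw [isSMulRegular_quotient_iff_mem_of_smul_mem] at h2
  refine h2 _ ?_
  rw [← Submodule.Quotient.mk_smul]
  exact hw

end FibSeq

end Groth.Agent.Lib.Helper20.DepthAlong
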