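import Mathlib
import Groth.Agent.Lib.Helper20.DepthAlong1

/-!
# Fibrewise depth along a closed subset, ring level, part 2: openness at a point (helper20)
-/

set_option autoImplicit false
set_option linter.style.haveILetI false
set_option linter.unusedSectionVars false
set_option linter.dupNamespace false
universe u

open IsLocalRing TensorProduct RingTheory.Sequence

namespace Groth.Agent.Lib.Helper20.DepthAlong

open Groth.Agent.Lib.Helper14.CMMod Groth.Agent.Lib.Helper12
  Groth.Agent.Lib.Helper14.LCF Groth.Agent.Lib.Helper14.FlatOpen Groth.Agent.Lib.Helper20.RD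

section Poly

variable (A : Type u) [CommRing A]

theorem exists_sub_C_mem (m : ℕ) (P : Ideal (MvPolynomial (Fin m) A))
    (hX : ∀ i, (MvPolynomial.X i : MvPolynomial (Fin m) A) ∈ P) (f : MvPolynomial (Fin m) A) :
    ∃ a : A, f - MvPolynomial.C a ∈ P := by
  induction f using MvPolynomial.induction_on with
  | C a => exact ⟨a, by rw [sub_self]; exact zero_mem _⟩
  | add f g hf hg =>
    obtain ⟨a, ha⟩ := hf
    obtain ⟨b, hb⟩ := hg
    refine ⟨a + b, ?_⟩
    rw [map_add]
    have : f + g - (MvPolynomial.C a + MvPolynomial.C b) =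
        (f - MvPolynomial.C a) + (g - MvPolynomial.C b) := by ring
    rw [this]
    exact add_mem ha hb
  | mul_X f i _ =>
    refine ⟨0, ?_⟩
    rw [map_zero, sub_zero]
    exact P.mul_mem_left _ (hX i)

set_option maxHeartbeats 800000 in
/-- the fibre local ring of `A[T_1..T_m]` at a prime containing all the `T_i` has dimension `m`. -/
theorem dim_fibLocRing_of_X_mem (m : ℕ) (P : Ideal (MvPolynomial (Fin m) A)) [P.IsPrime]
    (hX : ∀ i, (MvPolynomial.X i : MvPolynomial (Fin m) A) ∈ P) :
    ringKrullDim (EGA4.FibLocRing A (MvPolynomial (Fin m) A) P) = ((m : ℕ∞) : WithBot ℕ∞) := by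
  obtain ⟨p, hp⟩ : ∃ p : Ideal A, p = P.comap (algebraMap A (MvPolynomial (Fin m) A)) := ⟨_, rfl⟩
  haveI : p.IsPrime := hp ▸ Ideal.IsPrime.comap _
  haveI : P.LiesOver p := ⟨hp⟩
  have h1 := fibLocRing_mvPolynomial_dim_add_trdeg A m P p
  have hsurj : Function.Surjective (algebraMap (A ⧸ p) (MvPolynomial (Fin m) A ⧸ P)) := by
    intro y
    obtain ⟨f, rfl⟩ := Ideal.Quotient.mk_surjective y
    obtain ⟨a, ha⟩ := exists_sub_C_mem A m P hX f
    refine ⟨Ideal.Quotient.mk p a, ?_⟩
    rw [Ideal.Quotient.algebraMap_mk_of_liesOver, MvPolynomial.algebraMap_eq]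
    exact (Ideal.Quotient.eq.2 ha).symm
  haveI : Algebra.IsIntegral (A ⧸ p) (MvPolynomial (Fin m) A ⧸ P) :=
    Algebra.isIntegral_of_surjective hsurj
  have h2 : Algebra.trdeg (A ⧸ p) (MvPolynomial (Fin m) A ⧸ P) = 0 := trdeg_eq_zero
  rw [h2, map_zero] at h1
  simpa using h1

end Poly

section Along

variable (A B : Type u) [CommRing A] [CommRing B] [Algebra A B] [Algebra.FinitePresentation A B]
  (N : Type u) [AddCommGroup N] [Module B N] [Module.FinitePresentation B N] [Module A N]
  [IsScalarTower A B N] (Q : Ideal B) [Q.IsPrime]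

set_option maxHeartbeats 3200000 in
/-- **openness of the fibrewise depth along `V(J)`, at a point, in the non-zero case.** -/
theorem RM_along_nontrivial (n : ℕ) (J : Ideal B) (hJQ : J ≤ Q)
    (hflat : Module.Flat A (LocalizedModule Q.primeCompl N))
    (hnt : Nontrivial (LocalizedModule Q.primeCompl N ⧸
        (Ideal.map (algebraMap A (Localization.AtPrime Q)) (Q.comap (algebraMap A B))) •
          (⊤ : Submodule (Localization.AtPrime Q) (LocalizedModule Q.primeCompl N))))
    (hd : ∀ (Q'' : Ideal B) [Q''.IsPrime], J ≤ Q'' → Q'' ≤ Q →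
      Q''.comap (algebraMap A B) = Q.comap (algebraMap A B) → (n : ℕ∞) ≤ fdepth A B N Q'') :
    ∃ c : B, c ∉ Q ∧ ∀ (Q' : Ideal B) [Q'.IsPrime], c ∉ Q' → J ≤ Q' →
      (n : ℕ∞) ≤ fdepth A B N Q' := by
  haveI : Module.Finite B N := inferInstance
  haveI := hflat
  obtain ⟨g, hglen, hgJ, hreg⟩ := exists_fibre_seq_along A B N Q n J hJQ hnt hd
  have hgs : ∀ i, g.get i ∈ Q := fun i => hJQ (hgJ _ (List.get_mem _ _))
  have h0 := flat_mvPolynomial_of_regular_fibre (A := A) Q g.get
    (LocalizedModule.mkLinearMap Q.primeCompl N) hgs hreg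
  letI aA₂ := mvPolyAlgebra A g.get
  haveI tA₂ := mvPolyAlgebra_isScalarTower A g.get
  haveI fpA₂ := mvPolyAlgebra_finitePresentation A g.get
  letI mRN := mvPolyModule A g.get N
  haveI tA₂N : IsScalarTower (MvPolynomial (Fin g.length) A) B N :=
    IsScalarTower.of_algebraMap_smul fun r n => rfl
  have heq : ∀ T : Submonoid B, mvPolyModule A g.get (LocalizedModule T N) =
      (inferInstance : Module (MvPolynomial (Fin g.length) A) (LocalizedModule T N)) := by
    intro T
    refine Module.ext' _ _ fun r w => ?_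
    exact algebraMap_smul B r w
  rw [heq] at h0
  obtain ⟨c₁, hc₁, hfl⟩ := exists_flatOnD (A := MvPolynomial (Fin g.length) A) (S := B) (N := N)
    Q h0
  refine ⟨c₁, hc₁, ?_⟩
  intro Q' _ hcQ' hJQ'
  have hflA₂ : Module.Flat (MvPolynomial (Fin g.length) A) (LocalizedModule Q'.primeCompl N) :=
    hfl Q' hcQ'
  have h1 := fdepth_descend A g.length B N Q' hflA₂
  have hX : ∀ i, (MvPolynomial.X i : MvPolynomial (Fin g.length) A) ∈
      Q'.comap (algebraMap (MvPolynomial (Fin g.length) A) B) := by
    intro i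
    rw [Ideal.mem_comap]
    have : algebraMap (MvPolynomial (Fin g.length) A) B (MvPolynomial.X i) = g.get i := by
      change MvPolynomial.aeval g.get (MvPolynomial.X i) = _
      rw [MvPolynomial.aeval_X]
    rw [this]
    exact hJQ' (hgJ _ (List.get_mem _ _))
  haveI : (Q'.comap (algebraMap (MvPolynomial (Fin g.length) A) B)).IsPrime :=
    Ideal.IsPrime.comap _
  have h2 := dim_fibLocRing_of_X_mem A g.length
    (Q'.comap (algebraMap (MvPolynomial (Fin g.length) A) B)) hX
  rw [h2] at h1
  have h3 : fdepth A B N Q' =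
      (g.length : ℕ∞) + fdepth (MvPolynomial (Fin g.length) A) B N Q' := by
    exact_mod_cast h1
  rw [h3]
  calc (n : ℕ∞) = (g.length : ℕ∞) := by rw [hglen]
    _ ≤ _ := le_self_add

set_option maxHeartbeats 1600000 in
/-- **openness of the fibrewise depth along `V(J)`, at a point.** -/
theorem RM_along (n : ℕ) (J : Ideal B) (hJQ : J ≤ Q)
    (hflat : Module.Flat A (LocalizedModule Q.primeCompl N))
    (hd : ∀ (Q'' : Ideal B) [Q''.IsPrime], J ≤ Q'' → Q'' ≤ Q →
      Q''.comap (algebraMap A B) = Q.comap (algebraMap A B) → (n : ℕ∞) ≤ fdepth A B N Q'') :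
    ∃ c : B, c ∉ Q ∧ ∀ (Q' : Ideal B) [Q'.IsPrime], c ∉ Q' → J ≤ Q' →
      (n : ℕ∞) ≤ fdepth A B N Q' := by
  haveI : Module.Finite B N := inferInstance
  by_cases hz : Subsingleton (LocalizedModule Q.primeCompl N ⧸
      (Ideal.map (algebraMap A (Localization.AtPrime Q)) (Q.comap (algebraMap A B))) •
        (⊤ : Submodule (Localization.AtPrime Q) (LocalizedModule Q.primeCompl N)))
  · have h0 : Subsingleton (LocalizedModule Q.primeCompl N) := by
      rw [Submodule.Quotient.subsingleton_iff] at hz
      have h1 := Submodule.eq_bot_of_le_smul_of_le_jacobson_bot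
        (Ideal.map (algebraMap A (Localization.AtPrime Q)) (Q.comap (algebraMap A B)))
        (⊤ : Submodule (Localization.AtPrime Q) (LocalizedModule Q.primeCompl N))
        Module.Finite.fg_top hz.ge
        (by
          rw [IsLocalRing.jacobson_eq_maximalIdeal ⊥ bot_ne_top]
          exact map_comap_le_maximalIdeal A B Q)
      exact (Submodule.subsingleton_iff (Localization.AtPrime Q)).1
        (subsingleton_of_bot_eq_top h1.symm)
    obtain ⟨c, hc, hall⟩ := RM_zero B N Q h0
    refine ⟨c, hc, ?_⟩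
    intro Q' _ hcQ' _
    haveI := hall Q' hcQ'
    unfold fdepth
    rw [Groth.Agent.Lib.Helper4.depth_eq_top_of_subsingleton]
    exact le_top
  · rw [not_subsingleton_iff_nontrivial] at hz
    exact RM_along_nontrivial A B N Q n J hJQ hflat hz hd

end Along

end Groth.Agent.Lib.Helper20.DepthAlong
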