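import Mathlib
import Groth.Agent.Lib.Helper20.DepthAlong2
import Groth.Agent.Lib.Helper20.RD6
import Groth.Agent.Lib.Helper1.DepthOpen2
import Groth.Prelude.Def_CInt

/-!
# Fibrewise depth along a closed subset: schemes (helper20)

For `f : X ⟶ S` locally of finite presentation, `F` finitely presented and flat over `S`, and `Y`
closed in `X`, the set of `y ∈ Y` where the fibrewise depth of `F` along `Y` is `≥ n` is open
in `Y`.
-/

set_option autoImplicit false
set_option linter.style.haveILetI false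
set_option linter.unusedSectionVars false
set_option linter.dupNamespace false
universe u

open IsLocalRing TensorProduct CategoryTheory AlgebraicGeometry TopologicalSpace

namespace Groth.Agent.Lib.Helper20.DepthAlong

open Groth.Agent.Lib.Helper14.CMMod Groth.Agent.Lib.Helper12 Groth.Agent.Lib.Helper20.RD
  Groth.Agent.Lib.Helper1.DepthOpen

section Sch

open Groth.Agent.Lib.Helper3 Groth.Agent.Lib.Helper1.FlatAffine Groth.Agent.Lib.Helper17
  Groth.Agent.Lib.Helper14.FlatOpen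

variable {X S : Scheme.{u}} (f : X ⟶ S) (F : X.Modules)

/-- the fibre depth of the prelude is the intrinsic depth. -/
theorem fiberDepth_eq_xdepth [F.IsQuasicoherent] (z : X) :
    CInt.fiberDepth f F z = xdepth f F z := by
  unfold CInt.fiberDepth
  rw [fibre_depth_eq f F (f.base z) (f.asFiber z), f.fiberι_asFiber z]

theorem fdepth_congr_prime (A B : Type u) [CommRing A] [CommRing B] [Algebra A B]
    (N : Type u) [AddCommGroup N] [Module B N] (q₁ q₂ : Ideal B) [q₁.IsPrime] [q₂.IsPrime]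
    (h : q₁ = q₂) : fdepth A B N q₁ = fdepth A B N q₂ := by
  subst h
  rfl

set_option maxHeartbeats 1600000 in
/-- the local statement. -/
theorem exists_nhds [LocallyOfFinitePresentation f] [F.IsQuasicoherent]
    [SheafOfModules.IsFinitePresentation (R := X.ringCatSheaf) F]
    (hflat : FlatMod.IsFlatOver f F) (Y : Closeds ↥X) (n : ℕ) (y : X) (hy : y ∈ Y)
    (hd : (n : ℕ∞) ≤ CInt.fiberDepthAlong f F (Y : Set ↥X) y) :
    ∃ W : X.Opens, y ∈ W ∧ ∀ z ∈ W, z ∈ Y → (n : ℕ∞) ≤ CInt.fiberDepth f F z := by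
  obtain ⟨_, ⟨V, hV, rfl⟩, hyV, -⟩ :=
    S.isBasis_affineOpens.exists_subset_of_mem_open (Set.mem_univ (f y)) isOpen_univ
  obtain ⟨_, ⟨U, hU, rfl⟩, hyU, hUV⟩ :=
    X.isBasis_affineOpens.exists_subset_of_mem_open hyV (V.2.preimage f.continuous)
  letI a0 : Algebra Γ(S, V) Γ(X, U) := (f.appLE V U hUV).hom.toAlgebra
  letI a1 : Module Γ(S, V) Γ(F, U) := Module.compHom _ (f.appLE V U hUV).hom
  haveI a2 : IsScalarTower Γ(S, V) Γ(X, U) Γ(F, U) :=
    IsScalarTower.of_algebraMap_smul fun r n => rfl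
  haveI : Algebra.FinitePresentation Γ(S, V) Γ(X, U) := f.finitePresentation_appLE hV hU hUV
  haveI : Module.FinitePresentation Γ(X, U) Γ(F, U) := QCProps.finitePresentation_sections F hU
  have hfl := (isFlatOverAt_iff_localizedModule f F hU hV hUV y hyU).mp (hflat y)
  obtain ⟨T, hTdef⟩ : ∃ T : Set (PrimeSpectrum Γ(X, U)), T = {q | hU.fromSpec q ∈ Y} := ⟨_, rfl⟩
  have hT : IsClosed T := by
    rw [hTdef]
    exact Y.isClosed.preimage hU.fromSpec.continuous
  have key : ∀ q : PrimeSpectrum Γ(X, U),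
      PrimeSpectrum.vanishingIdeal T ≤ q.asIdeal ↔ hU.fromSpec q ∈ Y := by
    intro q
    constructor
    · intro h
      have h1 : q ∈ PrimeSpectrum.zeroLocus (PrimeSpectrum.vanishingIdeal T : Set Γ(X, U)) :=
        (PrimeSpectrum.mem_zeroLocus q _).mpr (fun a ha => h ha)
      rw [PrimeSpectrum.zeroLocus_vanishingIdeal_eq_closure, hT.closure_eq, hTdef] at h1
      exact h1
    · intro h a ha
      exact (PrimeSpectrum.mem_vanishingIdeal _ _).mp ha q (by rw [hTdef]; exact h)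
  haveI := (hU.primeIdealOf ⟨y, hyU⟩).isPrime
  have hJQ : PrimeSpectrum.vanishingIdeal T ≤ (hU.primeIdealOf ⟨y, hyU⟩).asIdeal :=
    (key _).mpr (by rw [hU.fromSpec_primeIdealOf]; exact hy)
  have hyp : ∀ (q : Ideal Γ(X, U)) [q.IsPrime], PrimeSpectrum.vanishingIdeal T ≤ q →
      q ≤ (hU.primeIdealOf ⟨y, hyU⟩).asIdeal →
      q.comap (algebraMap Γ(S, V) Γ(X, U)) =
        (hU.primeIdealOf ⟨y, hyU⟩).asIdeal.comap (algebraMap Γ(S, V) Γ(X, U)) →
      (n : ℕ∞) ≤ fdepth Γ(S, V) Γ(X, U) Γ(F, U) q := by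
    intro q hq hIq hqp hcomap
    have hzU : hU.fromSpec ⟨q, hq⟩ ∈ U := fromSpec_mem hU _
    have hzY : hU.fromSpec ⟨q, hq⟩ ∈ Y := (key ⟨q, hq⟩).mp hIq
    have hzy : hU.fromSpec ⟨q, hq⟩ ⤳ y := by
      have h1 : (⟨q, hq⟩ : PrimeSpectrum Γ(X, U)) ⤳ hU.primeIdealOf ⟨y, hyU⟩ :=
        (PrimeSpectrum.le_iff_specializes _ _).mp hqp
      have h2 := h1.map hU.fromSpec.continuous
      rwa [hU.fromSpec_primeIdealOf] at h2
    have e : (hU.primeIdealOf ⟨hU.fromSpec ⟨q, hq⟩, hzU⟩).asIdeal = q :=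
      congrArg PrimeSpectrum.asIdeal (primeIdealOf_fromSpec hU ⟨q, hq⟩ hzU)
    have hfz : f (hU.fromSpec ⟨q, hq⟩) = f y := by
      have h1 := IsAffineOpen.comap_primeIdealOf_appLE V hV U hU hUV hzU
      have h2 := IsAffineOpen.comap_primeIdealOf_appLE V hV U hU hUV hyU
      have h3 : hV.primeIdealOf ⟨f (hU.fromSpec ⟨q, hq⟩), hUV hzU⟩ =
          hV.primeIdealOf ⟨f y, hUV hyU⟩ := by
        rw [← h1, ← h2]
        apply PrimeSpectrum.ext
        change (hU.primeIdealOf ⟨hU.fromSpec ⟨q, hq⟩, hzU⟩).asIdeal.comap _ =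
          (hU.primeIdealOf ⟨y, hyU⟩).asIdeal.comap _
        rw [e]
        exact hcomap
      have h4 := congrArg hV.fromSpec h3
      rwa [hV.fromSpec_primeIdealOf, hV.fromSpec_primeIdealOf] at h4
    have h3 : (n : ℕ∞) ≤ CInt.fiberDepth f F (hU.fromSpec ⟨q, hq⟩) :=
      hd.trans (iInf_le (fun z : {z : X // z ∈ (Y : Set X) ∧ z ⤳ y ∧ f.base z = f.base y} =>
        CInt.fiberDepth f F z.1) ⟨hU.fromSpec ⟨q, hq⟩, hzY, hzy, hfz⟩)
    rw [fiberDepth_eq_xdepth, xdepth_eq_chart f F hU hV hUV _ hzU] at h3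
    haveI := (hU.primeIdealOf ⟨hU.fromSpec ⟨q, hq⟩, hzU⟩).isPrime
    exact h3.trans (fdepth_congr_prime _ _ _ _ _ e).le
  obtain ⟨c, hc, hall⟩ := RM_along Γ(S, V) Γ(X, U) Γ(F, U) (hU.primeIdealOf ⟨y, hyU⟩).asIdeal n
    (PrimeSpectrum.vanishingIdeal T) hJQ hfl hyp
  refine ⟨X.basicOpen c, (mem_basicOpen_iff_notMem_primeIdealOf hU y hyU c).mpr hc,
    fun z hzW hzY => ?_⟩
  have hzU : z ∈ U := X.basicOpen_le c hzW
  haveI := (hU.primeIdealOf ⟨z, hzU⟩).isPrime
  rw [fiberDepth_eq_xdepth, xdepth_eq_chart f F hU hV hUV z hzU]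
  apply hall
  · exact (mem_basicOpen_iff_notMem_primeIdealOf hU z hzU c).mp hzW
  · exact (key _).mpr (by rw [hU.fromSpec_primeIdealOf]; exact hzY)

/-- **the fibrewise depth along a closed subset is lower semicontinuous on that subset, for a flat
finitely presented module.** -/
theorem main [LocallyOfFinitePresentation f] [F.IsQuasicoherent]
    [SheafOfModules.IsFinitePresentation (R := X.ringCatSheaf) F]
    (hflat : FlatMod.IsFlatOver f F) (Y : Closeds ↥X) (n : ℕ) :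
    ∃ W : X.Opens, ∀ y : ↥X, y ∈ Y →
      (y ∈ W ↔ (n : ℕ∞) ≤ CInt.fiberDepthAlong f F (Y : Set ↥X) y) := by
  refine ⟨sSup {W : X.Opens | ∀ z ∈ W, z ∈ Y → (n : ℕ∞) ≤ CInt.fiberDepth f F z},
    fun y hy => ⟨fun hyW => ?_, fun hd => ?_⟩⟩
  · obtain ⟨W, hWS, hyW'⟩ := Opens.mem_sSup.mp hyW
    unfold CInt.fiberDepthAlong
    apply le_iInf
    rintro ⟨z, hzY, hzy, -⟩
    exact hWS z (hzy.mem_open W.2 hyW') hzY
  · obtain ⟨W, hyW, hW⟩ := exists_nhds f F hflat Y n y hy hd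
    exact Opens.mem_sSup.mpr ⟨W, hW, hyW⟩

end Sch

end Groth.Agent.Lib.Helper20.DepthAlong
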