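import Mathlib
import Groth.Agent.Lib.Helper20.FibLocGen

/-!
# `(S_k)` on fibre local rings, prime by prime, without Noetherian hypotheses (helper20)

Copies of `Helper9.QGorT.hasSk_fib_iff`, `fibSelfEquiv`, `closed_ring_of_hasSk` with the Noetherian
hypotheses on `A`, `B` removed.
-/

set_option autoImplicit false
set_option maxHeartbeats 800000
set_option linter.unusedSectionVars false
set_option linter.unusedVariables false
set_option linter.style.haveILetI false
universe u

open IsLocalRing
open Groth.Agent.Lib.Helper14.CMMod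

namespace Groth.Agent.Lib.Helper20.FibLocGen

section T1'

variable (A B : Type u) [CommRing A] [CommRing B]
  [Algebra A B]
  (X : Type u) [AddCommGroup X] [Module B X] [Module A X] [IsScalarTower A B X]
  [Module.Finite B X] (q : Ideal B) [q.IsPrime]

/-- **`(S_k)` on the fibre local ring, prime by prime.** -/
theorem hasSk_fib_iff (k : ℕ) :
    LocCoh.HasSk k (EGA4.FibLocRing A B q) (EGA4.FibLocMod A B q X) ↔
      ∀ (q' : Ideal B) [q'.IsPrime], q' ≤ q →
        q'.comap (algebraMap A B) = q.comap (algebraMap A B) →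
        min (k : WithBot ℕ∞)
          (Module.supportDim (EGA4.FibLocRing A B q') (EGA4.FibLocMod A B q' X)) ≤
        ((LocCoh.depth (EGA4.FibLocRing A B q') (EGA4.FibLocMod A B q' X) : ℕ∞) :
          WithBot ℕ∞) := by
  constructor
  · intro h q' _ hq'q hcomap
    obtain ⟨𝔓, h𝔓, h𝔓q'⟩ := exists_prime_fib A B q q' hq'q hcomap
    obtain ⟨-, -, hd, hs⟩ := tcore A B X q 𝔓 q' h𝔓q'
    have := h 𝔓
    rwa [hd, hs] at this
  · intro h 𝔓 _
    obtain ⟨q', hq'⟩ : ∃ q' : Ideal B, 𝔓.comap (algebraMap B (EGA4.FibLocRing A B q)) = q' :=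
      ⟨_, rfl⟩
    haveI : q'.IsPrime := hq' ▸ Ideal.IsPrime.comap _
    obtain ⟨hq'q, hcomap, hd, hs⟩ := tcore A B X q 𝔓 q' hq'
    rw [hd, hs]
    exact h q' hq'q hcomap

end T1'

section self

noncomputable def quotSelfEquiv {S : Type u} [CommRing S] (I : Ideal S) {N : Type u}
    [AddCommGroup N] [Module S N] (e : N ≃ₗ[S] S) :
    (N ⧸ I • (⊤ : Submodule S N)) ≃ₗ[S ⧸ I] (S ⧸ I) :=
  (Submodule.Quotient.equiv (I • (⊤ : Submodule S N)) I e (by
    rw [Submodule.map_smul'', Submodule.map_top, LinearEquiv.range, smul_eq_mul,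
      Ideal.mul_top])).extendScalarsOfSurjective Ideal.Quotient.mk_surjective

variable (A B : Type u) [CommRing A] [CommRing B]
  [Algebra A B] (q : Ideal B) [q.IsPrime]

noncomputable def fibSelfEquiv :
    EGA4.FibLocMod A B q B ≃ₗ[EGA4.FibLocRing A B q] EGA4.FibLocRing A B q :=
  quotSelfEquiv (S := Localization.AtPrime q)
    ((q.comap (algebraMap A B)).map (algebraMap A (Localization.AtPrime q)))
    (N := LocalizedModule q.primeCompl B)
    (Groth.Agent.Lib.Helper28.localizedSelfEquiv q.primeCompl)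

/-- the closed point condition for the ring at every prime below `q` in the same fibre -/
theorem closed_ring_of_hasSk (k : ℕ)
    (hS : LocCoh.HasSk k (EGA4.FibLocRing A B q) (EGA4.FibLocRing A B q))
    (q' : Ideal B) [q'.IsPrime] (hq'q : q' ≤ q)
    (hcomap : q'.comap (algebraMap A B) = q.comap (algebraMap A B)) :
    min (k : WithBot ℕ∞) (ringKrullDim (EGA4.FibLocRing A B q')) ≤
      ((LocCoh.depth (EGA4.FibLocRing A B q') (EGA4.FibLocRing A B q') : ℕ∞) : WithBot ℕ∞) := by
  have h1 : LocCoh.HasSk k (EGA4.FibLocRing A B q) (EGA4.FibLocMod A B q B) :=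
    Groth.Agent.Lib.Helper28.hasSk_congr k (fibSelfEquiv A B q).symm hS
  have h2 := (hasSk_fib_iff A B B q k).mp h1 q' hq'q hcomap
  rw [Module.supportDim_eq_of_equiv (fibSelfEquiv A B q'),
    Module.supportDim_self_eq_ringKrullDim] at h2
  unfold LocCoh.depth at h2 ⊢
  rw [Groth.Agent.Lib.Helper28.idealDepth_congr (fibSelfEquiv A B q')] at h2
  exact h2

end self

end Groth.Agent.Lib.Helper20.FibLocGen
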