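import Mathlib
import Groth.Agent.Lib.Helper20.DepthAlong2
import Groth.Agent.Lib.Helper20.FibLocGen2
import Groth.Agent.Lib.Helper22.DimFlat4

/-!
# Openness of the `(S_k)` locus on the fibres of a flat finitely presented module, ring level
(helper20)

`A → B` of finite presentation, `N` a finitely presented `B`-module.  If `N_Q` is flat over `A`
and the fibre module `N_Q / p N_Q` satisfies `(S_k)` over the fibre local ring `B_Q / p B_Q`,
the same holds at all primes of a basic open neighbourhood of `Q`.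

Idea: the locus `G` where `N` is flat with Cohen–Macaulay (or zero) fibre module is open
(Helper14 `RM`); on its closed complement `T = V(J)`, `(S_k)` at `Q` means that the fibrewise depth
along `T` is `≥ k`, which is an open condition on `T` (`RM_along`).
-/

set_option autoImplicit false
set_option linter.style.haveILetI false
set_option linter.unusedSectionVars false
set_option linter.dupNamespace false
universe u

open IsLocalRing TensorProduct RingTheory.Sequence

namespace Groth.Agent.Lib.Helper20.SkFib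

open Groth.Agent.Lib.Helper14.CMMod Groth.Agent.Lib.Helper12
  Groth.Agent.Lib.Helper14.LCF Groth.Agent.Lib.Helper14.FlatOpen Groth.Agent.Lib.Helper20.RD
  Groth.Agent.Lib.Helper20.DepthAlong

section Pointwise

variable (A B : Type u) [CommRing A] [CommRing B] [Algebra A B] [Algebra.FiniteType A B]
  (N : Type u) [AddCommGroup N] [Module B N] [Module.Finite B N] [Module A N]
  [IsScalarTower A B N]

/-- the pointwise `(S_k)` condition of the fibre module at `q'`. -/
def PW (k : ℕ) (q' : Ideal B) [q'.IsPrime] : Prop :=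
  min (k : WithBot ℕ∞) (Module.supportDim (EGA4.FibLocRing A B q') (EGA4.FibLocMod A B q' N)) ≤
    ((LocCoh.depth (EGA4.FibLocRing A B q') (EGA4.FibLocMod A B q' N) : ℕ∞) : WithBot ℕ∞)

/-- the fibre module at `q'` is zero or Cohen–Macaulay. -/
abbrev CMf (q' : Ideal B) [q'.IsPrime] : Prop :=
  CMq (Localization.AtPrime q') (LocalizedModule q'.primeCompl N)
    (Ideal.map (algebraMap A (Localization.AtPrime q')) (q'.comap (algebraMap A B)))

theorem finite_fibLocMod (q' : Ideal B) [q'.IsPrime] :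
    Module.Finite (EGA4.FibLocRing A B q') (EGA4.FibLocMod A B q' N) :=
  Module.Finite.of_restrictScalars_finite (Localization.AtPrime q') _ _

theorem supportDim_fibLoc (q' : Ideal B) [q'.IsPrime] :
    Module.supportDim (EGA4.FibLocRing A B q') (EGA4.FibLocMod A B q' N) =
      Module.supportDim (Localization.AtPrime q') (EGA4.FibLocMod A B q' N) := by
  haveI := finite_fibLocMod A B N q'
  exact Groth.Agent.Lib.Helper22.DimFlat.supportDim_quotient_ring_eq
    ((q'.comap (algebraMap A B)).map (algebraMap A (Localization.AtPrime q')))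
    (EGA4.FibLocMod A B q' N)

theorem depth_fibLoc (q' : Ideal B) [q'.IsPrime] :
    LocCoh.depth (EGA4.FibLocRing A B q') (EGA4.FibLocMod A B q' N) =
      LocCoh.depth (Localization.AtPrime q') (EGA4.FibLocMod A B q' N) :=
  (depth_eq_of_surjective (R := Localization.AtPrime q') (R' := EGA4.FibLocRing A B q')
    Ideal.Quotient.mk_surjective (EGA4.FibLocMod A B q' N)).symm

theorem pw_of_cmf (k : ℕ) (q' : Ideal B) [q'.IsPrime] (h : CMf A B N q') : PW A B N k q' := by
  unfold PW
  rcases h with h | h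
  · haveI : Subsingleton (EGA4.FibLocMod A B q' N) := h
    rw [Module.supportDim_eq_bot_of_subsingleton]
    simp
  · have h1 : Module.supportDim (Localization.AtPrime q') (EGA4.FibLocMod A B q' N) =
        ((LocCoh.depth (Localization.AtPrime q') (EGA4.FibLocMod A B q' N) : ℕ∞) : WithBot ℕ∞) := h
    rw [supportDim_fibLoc, depth_fibLoc, h1]
    exact min_le_right _ _

theorem pw_of_le_fdepth (k : ℕ) (q' : Ideal B) [q'.IsPrime]
    (h : (k : ℕ∞) ≤ fdepth A B N q') : PW A B N k q' := by
  unfold PW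
  rw [fdepth_eq_fibLoc] at h
  refine le_trans (min_le_left _ _) ?_
  exact_mod_cast h

theorem le_fdepth_of_pw_not_cmf (k : ℕ) (q' : Ideal B) [q'.IsPrime]
    (h : PW A B N k q') (hn : ¬ CMf A B N q') : (k : ℕ∞) ≤ fdepth A B N q' := by
  rw [fdepth_eq_fibLoc]
  unfold PW at h
  have hnt : Nontrivial (EGA4.FibLocMod A B q' N) := by
    rw [← not_subsingleton_iff_nontrivial]
    exact fun hs => hn (Or.inl hs)
  have hne : Module.supportDim (EGA4.FibLocRing A B q') (EGA4.FibLocMod A B q' N) ≠
      ((LocCoh.depth (EGA4.FibLocRing A B q') (EGA4.FibLocMod A B q' N) : ℕ∞) : WithBot ℕ∞) := by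
    intro he
    apply hn
    right
    change Module.supportDim (Localization.AtPrime q') (EGA4.FibLocMod A B q' N) =
        ((LocCoh.depth (Localization.AtPrime q') (EGA4.FibLocMod A B q' N) : ℕ∞) : WithBot ℕ∞)
    rw [← supportDim_fibLoc, ← depth_fibLoc]
    exact he
  haveI := finite_fibLocMod A B N q'
  haveI : IsNoetherianRing (EGA4.FibLocRing A B q') := isNoetherianRing_fibLocRing A B q'
  have hle := Groth.Agent.Lib.Helper4.depth_le_supportDim (R := EGA4.FibLocRing A B q')
    (M := EGA4.FibLocMod A B q' N)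
  have hlt := lt_of_le_of_ne hle (Ne.symm hne)
  rcases min_choice (k : WithBot ℕ∞)
    (Module.supportDim (EGA4.FibLocRing A B q') (EGA4.FibLocMod A B q' N)) with hm | hm
  · rw [hm] at h
    exact_mod_cast h
  · rw [hm] at h
    exact absurd h (not_le.mpr hlt)

end Pointwise

section Main

variable (A B : Type u) [CommRing A] [CommRing B] [Algebra A B] [Algebra.FinitePresentation A B]
  (N : Type u) [AddCommGroup N] [Module B N] [Module.FinitePresentation B N] [Module A N]
  [IsScalarTower A B N]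

/-- the locus where `N` is flat over `A` with zero or Cohen–Macaulay fibre module. -/
def G : Set (PrimeSpectrum B) :=
  {q | Module.Flat A (LocalizedModule q.asIdeal.primeCompl N) ∧ CMf A B N q.asIdeal}

theorem isOpen_G : IsOpen (G A B N) := by
  rw [isOpen_iff_forall_mem_open]
  intro q hq
  obtain ⟨c, hc, hall⟩ := RM A B N q.asIdeal hq.1 hq.2
  refine ⟨(PrimeSpectrum.basicOpen c : Set (PrimeSpectrum B)), ?_,
    (PrimeSpectrum.basicOpen c).2, hc⟩
  intro q' hq'
  exact hall q'.asIdeal hq'

theorem vanishingIdeal_le_iff (q : PrimeSpectrum B) :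
    PrimeSpectrum.vanishingIdeal (G A B N)ᶜ ≤ q.asIdeal ↔ q ∉ G A B N := by
  have hcl : IsClosed (G A B N)ᶜ := (isOpen_G A B N).isClosed_compl
  constructor
  · intro h
    have h1 : q ∈ PrimeSpectrum.zeroLocus
        (PrimeSpectrum.vanishingIdeal (G A B N)ᶜ : Set B) :=
      (PrimeSpectrum.mem_zeroLocus q _).mpr (fun a ha => h ha)
    rw [PrimeSpectrum.zeroLocus_vanishingIdeal_eq_closure, hcl.closure_eq] at h1
    exact h1
  · intro h a ha
    exact (PrimeSpectrum.mem_vanishingIdeal _ _).mp ha q h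

variable (Q : Ideal B) [Q.IsPrime]

set_option maxHeartbeats 1600000 in
/-- **openness of the `(S_k)` locus of the fibre modules of a flat finitely presented module, at a
point.** -/
theorem RM_Sk (k : ℕ)
    (hflat : Module.Flat A (LocalizedModule Q.primeCompl N))
    (hS : LocCoh.HasSk k (EGA4.FibLocRing A B Q) (EGA4.FibLocMod A B Q N)) :
    ∃ c : B, c ∉ Q ∧ ∀ (Q' : Ideal B) [Q'.IsPrime], c ∉ Q' →
      Module.Flat A (LocalizedModule Q'.primeCompl N) ∧
      LocCoh.HasSk k (EGA4.FibLocRing A B Q') (EGA4.FibLocMod A B Q' N) := by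
  haveI : Module.Finite B N := inferInstance
  obtain ⟨c₀, hc₀, hfl⟩ := exists_flatOnD (A := A) (S := B) (N := N) Q hflat
  have hS' := (FibLocGen.hasSk_fib_iff A B N Q k).mp hS
  by_cases hQG : (⟨Q, inferInstance⟩ : PrimeSpectrum B) ∈ G A B N
  · obtain ⟨c, hc, hall⟩ := RM A B N Q hQG.1 hQG.2
    refine ⟨c, hc, ?_⟩
    intro Q' _ hcQ'
    refine ⟨(hall Q' hcQ').1, ?_⟩
    rw [FibLocGen.hasSk_fib_iff A B N Q' k]
    intro q' _ hq'Q' _
    have hcq' : c ∉ q' := fun h => hcQ' (hq'Q' h)
    exact pw_of_cmf A B N k q' (hall q' hcq').2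
  · have hJQ : PrimeSpectrum.vanishingIdeal (G A B N)ᶜ ≤ Q :=
      (vanishingIdeal_le_iff A B N ⟨Q, inferInstance⟩).mpr hQG
    have hyp : ∀ (Q'' : Ideal B) [Q''.IsPrime], PrimeSpectrum.vanishingIdeal (G A B N)ᶜ ≤ Q'' →
        Q'' ≤ Q → Q''.comap (algebraMap A B) = Q.comap (algebraMap A B) →
        (k : ℕ∞) ≤ fdepth A B N Q'' := by
      intro Q'' _ hJ hle hco
      have hnG : (⟨Q'', inferInstance⟩ : PrimeSpectrum B) ∉ G A B N :=
        (vanishingIdeal_le_iff A B N ⟨Q'', inferInstance⟩).mp hJ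
      have hflQ'' : Module.Flat A (LocalizedModule Q''.primeCompl N) :=
        hfl Q'' (fun h => hc₀ (hle h))
      have hncm : ¬ CMf A B N Q'' := fun h => hnG ⟨hflQ'', h⟩
      exact le_fdepth_of_pw_not_cmf A B N k Q'' (hS' Q'' hle hco) hncm
    obtain ⟨c₁, hc₁, hall⟩ := RM_along A B N Q k (PrimeSpectrum.vanishingIdeal (G A B N)ᶜ)
      hJQ hflat hyp
    refine ⟨c₀ * c₁, fun h => (Ideal.IsPrime.mem_or_mem inferInstance h).elim hc₀ hc₁, ?_⟩
    intro Q' _ hcQ'
    have hc₀Q' : c₀ ∉ Q' := fun h => hcQ' (Q'.mul_mem_right _ h)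
    have hc₁Q' : c₁ ∉ Q' := fun h => hcQ' (Q'.mul_mem_left _ h)
    refine ⟨hfl Q' hc₀Q', ?_⟩
    rw [FibLocGen.hasSk_fib_iff A B N Q' k]
    intro q' _ hq'Q' _
    have hc₀q' : c₀ ∉ q' := fun h => hc₀Q' (hq'Q' h)
    have hc₁q' : c₁ ∉ q' := fun h => hc₁Q' (hq'Q' h)
    by_cases hq'G : (⟨q', inferInstance⟩ : PrimeSpectrum B) ∈ G A B N
    · exact pw_of_cmf A B N k q' hq'G.2
    · have hJq' : PrimeSpectrum.vanishingIdeal (G A B N)ᶜ ≤ q' :=
        (vanishingIdeal_le_iff A B N ⟨q', inferInstance⟩).mpr hq'G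
      exact pw_of_le_fdepth A B N k q' (hall q' hc₁q' hJq')

end Main

end Groth.Agent.Lib.Helper20.SkFib
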