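import Mathlib
import Groth.Agent.Lib.Helper20.SkFib1
import Groth.Agent.Lib.Helper14.CMMod.CoprofRing
import Groth.Agent.Lib.Helper14.SkTensor

/-!
# Openness of the `(S_k)` locus on the fibres of a flat morphism: schemes (helper20)
-/

set_option autoImplicit false
set_option linter.style.haveILetI false
set_option linter.unusedSectionVars false
set_option linter.dupNamespace false
universe u

open IsLocalRing TensorProduct CategoryTheory CategoryTheory.Limits AlgebraicGeometry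

namespace Groth.Agent.Lib.Helper20.SkFib

open Groth.Agent.Lib.Helper14.CMMod Groth.Agent.Lib.Helper12

section Sch

open Groth.Agent.Lib.Helper3 Groth.Agent.Lib.Helper1.FlatAffine Groth.Agent.Lib.Helper17
  Groth.Agent.Lib.Helper14.FlatOpen

variable {X Y : Scheme.{u}} (f : X ⟶ Y)

theorem isNoetherianRing_fibreStalk [LocallyOfFiniteType f] (s : Y) (z : f.fiber s) :
    IsNoetherianRing ((f.fiber s).presheaf.stalk z) := by
  haveI : LocallyOfFiniteType (f.fiberToSpecResidueField s) := by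
    change LocallyOfFiniteType (pullback.snd f (Y.fromSpecResidueField s))
    infer_instance
  haveI : IsLocallyNoetherian (f.fiber s) :=
    LocallyOfFiniteType.isLocallyNoetherian (f.fiberToSpecResidueField s)
  infer_instance

variable {U : X.Opens} {V : Y.Opens} (hU : IsAffineOpen U) (hV : IsAffineOpen V)
  (hUV : U ≤ f ⁻¹ᵁ V)

include hU hV in
set_option maxHeartbeats 1600000 in
/-- the local ring of the fibre on an affine chart. -/
theorem nonempty_fibreStalk_equiv (s : Y) (z : f.fiber s) (x : X)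
    (hzx : (f.fiberι s).base z = x) (hx : x ∈ U) :
    letI a0 : Algebra Γ(Y, V) Γ(X, U) := (f.appLE V U hUV).hom.toAlgebra
    Nonempty ((f.fiber s).presheaf.stalk z ≃+*
      EGA4.FibLocRing Γ(Y, V) Γ(X, U) (hU.primeIdealOf ⟨x, hx⟩).asIdeal) := by
  subst hzx
  letI a0 : Algebra Γ(Y, V) Γ(X, U) := (f.appLE V U hUV).hom.toAlgebra
  obtain ⟨hsurj, hker⟩ := FibreStalkMap.stalkMap_fiberι f s z
  obtain ⟨x, hxdef⟩ : ∃ x : X, x = (f.fiberι s).base z := ⟨_, rfl⟩
  letI i1 : Algebra Γ(X, U) (X.presheaf.stalk ((f.fiberι s).base z)) :=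
    TopCat.Presheaf.algebra_section_stalk X.presheaf (U := U) ⟨(f.fiberι s).base z, hx⟩
  haveI i4 : IsLocalization.AtPrime (X.presheaf.stalk ((f.fiberι s).base z))
      (hU.primeIdealOf ⟨(f.fiberι s).base z, hx⟩).asIdeal :=
    hU.isLocalization_stalk ⟨(f.fiberι s).base z, hx⟩
  have hg1 : ∀ r : Γ(X, U), algebraMap Γ(X, U) (X.presheaf.stalk ((f.fiberι s).base z)) r =
      X.presheaf.germ U ((f.fiberι s).base z) hx r := fun r => rfl
  have hyV : f ((f.fiberι s).base z) ∈ V := hUV hx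
  let θ : X.presheaf.stalk ((f.fiberι s).base z) ≃ₐ[Γ(X, U)]
      Localization.AtPrime (hU.primeIdealOf ⟨(f.fiberι s).base z, hx⟩).asIdeal :=
    IsLocalization.algEquiv (hU.primeIdealOf ⟨(f.fiberι s).base z, hx⟩).asIdeal.primeCompl _ _
  letI aBB' : Algebra Γ(Y, V) (Y.presheaf.stalk (f ((f.fiberι s).base z))) :=
    TopCat.Presheaf.algebra_section_stalk Y.presheaf (U := V) ⟨f ((f.fiberι s).base z), hyV⟩
  haveI locB' : IsLocalization.AtPrime (Y.presheaf.stalk (f ((f.fiberι s).base z)))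
      (hV.primeIdealOf ⟨f ((f.fiberι s).base z), hyV⟩).asIdeal :=
    hV.isLocalization_stalk ⟨f ((f.fiberι s).base z), hyV⟩
  have hq : (hU.primeIdealOf ⟨(f.fiberι s).base z, hx⟩).asIdeal.comap
      (algebraMap Γ(Y, V) Γ(X, U)) =
      (hV.primeIdealOf ⟨f ((f.fiberι s).base z), hyV⟩).asIdeal :=
    congrArg PrimeSpectrum.asIdeal (IsAffineOpen.comap_primeIdealOf_appLE V hV U hU hUV hx)
  have hmax : IsLocalRing.maximalIdeal (Y.presheaf.stalk (f.base ((f.fiberι s).base z))) =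
      Ideal.map (algebraMap Γ(Y, V) (Y.presheaf.stalk (f ((f.fiberι s).base z))))
        (hV.primeIdealOf ⟨f ((f.fiberι s).base z), hyV⟩).asIdeal :=
    (IsLocalization.AtPrime.map_eq_maximalIdeal
      (hV.primeIdealOf ⟨f ((f.fiberι s).base z), hyV⟩).asIdeal
      (Y.presheaf.stalk (f ((f.fiberι s).base z)))).symm
  have hK : Ideal.map (algebraMap Γ(Y, V)
        (Localization.AtPrime (hU.primeIdealOf ⟨(f.fiberι s).base z, hx⟩).asIdeal))
        ((hU.primeIdealOf ⟨(f.fiberι s).base z, hx⟩).asIdeal.comap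
          (algebraMap Γ(Y, V) Γ(X, U))) =
      Ideal.map (θ.toRingEquiv : X.presheaf.stalk ((f.fiberι s).base z) →+* _)
        (RingHom.ker ((f.fiberι s).stalkMap z).hom) := by
    rw [hker, hmax, hq, Ideal.map_map, Ideal.map_map]
    congr 1
    ext a
    simp only [RingHom.comp_apply]
    have e1 : algebraMap Γ(Y, V) (Y.presheaf.stalk (f ((f.fiberι s).base z))) a =
        Y.presheaf.germ V (f ((f.fiberι s).base z)) hyV a := rfl
    rw [e1, ← germ_appLE f hUV ((f.fiberι s).base z) hx a, ← hg1]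
    change _ = θ (algebraMap Γ(X, U) (X.presheaf.stalk ((f.fiberι s).base z))
      (algebraMap Γ(Y, V) Γ(X, U) a))
    rw [θ.commutes, ← IsScalarTower.algebraMap_apply]
  let e₁ : (f.fiber s).presheaf.stalk z ≃+*
      (X.presheaf.stalk ((f.fiberι s).base z) ⧸ RingHom.ker ((f.fiberι s).stalkMap z).hom) :=
    (RingHom.quotientKerEquivOfSurjective hsurj).symm
  let e₂ : (X.presheaf.stalk ((f.fiberι s).base z) ⧸ RingHom.ker ((f.fiberι s).stalkMap z).hom) ≃+*
      EGA4.FibLocRing Γ(Y, V) Γ(X, U) (hU.primeIdealOf ⟨(f.fiberι s).base z, hx⟩).asIdeal :=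
    Ideal.quotientEquiv _ _ θ.toRingEquiv hK
  exact ⟨e₁.trans e₂⟩

include hU hV in
/-- `(S_k)` of the local ring of the fibre on an affine chart. -/
theorem fibre_hasSk_iff_chart [LocallyOfFiniteType f] (k : ℕ) (x : X) (hx : x ∈ U) :
    letI a0 : Algebra Γ(Y, V) Γ(X, U) := (f.appLE V U hUV).hom.toAlgebra
    LocCoh.HasSk k ((f.fiber (f.base x)).presheaf.stalk (f.asFiber x))
        ((f.fiber (f.base x)).presheaf.stalk (f.asFiber x)) ↔
      LocCoh.HasSk k (EGA4.FibLocRing Γ(Y, V) Γ(X, U) (hU.primeIdealOf ⟨x, hx⟩).asIdeal)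
        (EGA4.FibLocMod Γ(Y, V) Γ(X, U) (hU.primeIdealOf ⟨x, hx⟩).asIdeal Γ(X, U)) := by
  letI a0 : Algebra Γ(Y, V) Γ(X, U) := (f.appLE V U hUV).hom.toAlgebra
  haveI : Algebra.FiniteType Γ(Y, V) Γ(X, U) := f.finiteType_appLE hV hU hUV
  obtain ⟨e⟩ := nonempty_fibreStalk_equiv f hU hV hUV (f.base x) (f.asFiber x) x
    (f.fiberι_asFiber x) hx
  haveI := isNoetherianRing_fibreStalk f (f.base x) (f.asFiber x)
  haveI : IsNoetherianRing (EGA4.FibLocRing Γ(Y, V) Γ(X, U) (hU.primeIdealOf ⟨x, hx⟩).asIdeal) :=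
    isNoetherianRing_fibLocRing Γ(Y, V) Γ(X, U) (hU.primeIdealOf ⟨x, hx⟩).asIdeal
  constructor
  · intro h
    exact Groth.Agent.Lib.Helper28.hasSk_congr k
      (FibLocGen.fibSelfEquiv Γ(Y, V) Γ(X, U) (hU.primeIdealOf ⟨x, hx⟩).asIdeal).symm
      (Groth.Agent.Lib.Helper14.SkTensor.hasSk_self_of_ringEquiv e k h)
  · intro h
    exact Groth.Agent.Lib.Helper14.SkTensor.hasSk_self_of_ringEquiv e.symm k
      (Groth.Agent.Lib.Helper28.hasSk_congr k
        (FibLocGen.fibSelfEquiv Γ(Y, V) Γ(X, U) (hU.primeIdealOf ⟨x, hx⟩).asIdeal) h)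

omit hU hV hUV in
/-- **openness of the locus where `f` is flat with `(S_k)` fibre local ring.** -/
theorem isOpen_flat_and_fibre_hasSk [LocallyOfFinitePresentation f] (k : ℕ) :
    IsOpen {x : X | (f.stalkMap x).hom.Flat ∧
      LocCoh.HasSk k ((f.fiber (f.base x)).presheaf.stalk (f.asFiber x))
        ((f.fiber (f.base x)).presheaf.stalk (f.asFiber x))} := by
  refine isOpen_iff_forall_mem_open.mpr fun x hx ↦ ?_
  obtain ⟨_, ⟨V, hV, rfl⟩, hxV, -⟩ :=
    Y.isBasis_affineOpens.exists_subset_of_mem_open (Set.mem_univ (f x)) isOpen_univ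
  obtain ⟨_, ⟨U, hU, rfl⟩, hxU, hUV⟩ :=
    X.isBasis_affineOpens.exists_subset_of_mem_open hxV (V.2.preimage f.continuous)
  letI a0 : Algebra Γ(Y, V) Γ(X, U) := (f.appLE V U hUV).hom.toAlgebra
  haveI : Algebra.FinitePresentation Γ(Y, V) Γ(X, U) := f.finitePresentation_appLE hV hU hUV
  have hfl := (flat_stalkMap_iff V hV U hU hUV hxU).mp hx.1
  have hsk := (fibre_hasSk_iff_chart f hU hV hUV k x hxU).mp hx.2
  obtain ⟨c, hc, hall⟩ := RM_Sk Γ(Y, V) Γ(X, U) Γ(X, U) (hU.primeIdealOf ⟨x, hxU⟩).asIdeal k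
    hfl hsk
  refine ⟨X.basicOpen c, ?_, (X.basicOpen c).2, ?_⟩
  · intro y hy
    have hyU : y ∈ U := X.basicOpen_le c hy
    have h3 := hall _ ((mem_basicOpen_iff_notMem_primeIdealOf hU y hyU c).mp hy)
    exact ⟨(flat_stalkMap_iff V hV U hU hUV hyU).mpr h3.1,
      (fibre_hasSk_iff_chart f hU hV hUV k y hyU).mpr h3.2⟩
  · exact (mem_basicOpen_iff_notMem_primeIdealOf hU x hxU c).mpr hc

omit hU hV hUV in
/-- for a flat morphism. -/
theorem isOpen_fibre_hasSk [Flat f] [LocallyOfFinitePresentation f] (k : ℕ) :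
    IsOpen {x : X | LocCoh.HasSk k ((f.fiber (f.base x)).presheaf.stalk (f.asFiber x))
        ((f.fiber (f.base x)).presheaf.stalk (f.asFiber x))} := by
  convert isOpen_flat_and_fibre_hasSk f k using 1
  ext x
  simp only [Set.mem_setOf_eq]
  exact ⟨fun h => ⟨Flat.stalkMap f x, h⟩, fun h => h.2⟩

end Sch

end Groth.Agent.Lib.Helper20.SkFib
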