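import Mathlib
import Groth.Agent.Lib.Helper20.SkFib1
import Groth.Agent.Lib.Helper4.Sk

/-!
# No embedded associated primes on the fibres: ring level (helper20)

`NEf A B N Q`: among the primes `q ≤ Q` in the fibre through `Q` at which the fibre module of `N`
has depth zero (the associated primes of the fibre module at `Q`), there are no strict inclusions.
This is `(S_1)` for the fibre module at `Q`, hence an open condition in the flat finitely
presented case.
-/

set_option autoImplicit false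
set_option linter.style.haveILetI false
set_option linter.unusedSectionVars false
set_option linter.dupNamespace false
universe u

open IsLocalRing TensorProduct RingTheory.Sequence

namespace Groth.Agent.Lib.Helper20.SkFib

open Groth.Agent.Lib.Helper14.CMMod Groth.Agent.Lib.Helper12
  Groth.Agent.Lib.Helper14.LCF Groth.Agent.Lib.Helper14.FlatOpen Groth.Agent.Lib.Helper20.RD
  Groth.Agent.Lib.Helper20.DepthAlong

section NE

variable (A B : Type u) [CommRing A] [CommRing B] [Algebra A B] [Algebra.FiniteType A B]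
  (N : Type u) [AddCommGroup N] [Module B N] [Module.Finite B N] [Module A N]
  [IsScalarTower A B N] (Q : Ideal B) [Q.IsPrime]

/-- no embedded associated primes of the fibre module at `Q`. -/
def NEf : Prop :=
  ∀ (q : Ideal B) [q.IsPrime], q ≤ Q → q.comap (algebraMap A B) = Q.comap (algebraMap A B) →
    fdepth A B N q = 0 →
    ∀ (q' : Ideal B) [q'.IsPrime], q' ≤ q →
      q'.comap (algebraMap A B) = Q.comap (algebraMap A B) → fdepth A B N q' = 0 → q' = q

/-- the contraction map from the spectrum of the fibre local ring reflects the order. -/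
theorem le_of_comap_le (𝔓' 𝔓 : Ideal (EGA4.FibLocRing A B Q)) [𝔓'.IsPrime] [𝔓.IsPrime]
    (h : 𝔓'.comap (algebraMap B (EGA4.FibLocRing A B Q)) ≤
      𝔓.comap (algebraMap B (EGA4.FibLocRing A B Q))) : 𝔓' ≤ 𝔓 := by
  intro x hx
  obtain ⟨l, rfl⟩ := Ideal.Quotient.mk_surjective x
  obtain ⟨b, s, rfl⟩ := IsLocalization.exists_mk'_eq Q.primeCompl l
  have hbs : Ideal.Quotient.mk _ (IsLocalization.mk' (Localization.AtPrime Q) b s) *
      algebraMap B (EGA4.FibLocRing A B Q) s.1 = algebraMap B (EGA4.FibLocRing A B Q) b := by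
    rw [IsScalarTower.algebraMap_apply B (Localization.AtPrime Q) (EGA4.FibLocRing A B Q),
      IsScalarTower.algebraMap_apply B (Localization.AtPrime Q) (EGA4.FibLocRing A B Q),
      Ideal.Quotient.algebraMap_eq, ← map_mul, IsLocalization.mk'_spec]
  have hb' : algebraMap B (EGA4.FibLocRing A B Q) b ∈ 𝔓' := by
    rw [← hbs]
    exact 𝔓'.mul_mem_right _ hx
  have hb : algebraMap B (EGA4.FibLocRing A B Q) b ∈ 𝔓 := h hb'
  rw [← hbs] at hb
  have hu : IsUnit (algebraMap B (EGA4.FibLocRing A B Q) s.1) := by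
    rw [IsScalarTower.algebraMap_apply B (Localization.AtPrime Q) (EGA4.FibLocRing A B Q)]
    exact (IsLocalization.map_units (Localization.AtPrime Q) s).map _
  rcases Ideal.IsPrime.mem_or_mem inferInstance hb with h1 | h1
  · exact h1
  · exact absurd (Ideal.eq_top_of_isUnit_mem _ h1 hu) (Ideal.IsPrime.ne_top inferInstance)

theorem eq_of_comap_eq (𝔓' 𝔓 : Ideal (EGA4.FibLocRing A B Q)) [𝔓'.IsPrime] [𝔓.IsPrime]
    (h : 𝔓'.comap (algebraMap B (EGA4.FibLocRing A B Q)) =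
      𝔓.comap (algebraMap B (EGA4.FibLocRing A B Q))) : 𝔓' = 𝔓 :=
  le_antisymm (le_of_comap_le A B Q 𝔓' 𝔓 h.le) (le_of_comap_le A B Q 𝔓 𝔓' h.ge)

/-- the depth of the fibre module at `𝔓` of the fibre local ring, via its contraction. -/
theorem depth_loc_eq_fdepth (𝔓 : Ideal (EGA4.FibLocRing A B Q)) [𝔓.IsPrime] (q' : Ideal B)
    [q'.IsPrime] (hq' : 𝔓.comap (algebraMap B (EGA4.FibLocRing A B Q)) = q') :
    LocCoh.depth (Localization.AtPrime 𝔓)
      (LocalizedModule 𝔓.primeCompl (EGA4.FibLocMod A B Q N)) = fdepth A B N q' := by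
  rw [fdepth_eq_fibLoc]
  exact (FibLocGen.tcore A B N Q 𝔓 q' hq').2.2.1

set_option maxHeartbeats 800000 in
theorem nef_iff_hasSk_one :
    NEf A B N Q ↔ LocCoh.HasSk 1 (EGA4.FibLocRing A B Q) (EGA4.FibLocMod A B Q N) := by
  haveI : IsNoetherianRing (EGA4.FibLocRing A B Q) := isNoetherianRing_fibLocRing A B Q
  haveI := finite_fibLocMod A B N Q
  rw [← Groth.Agent.Lib.Helper4.noEmbedded_iff_hasS1]
  constructor
  · intro hne 𝔓 h𝔓
    haveI h𝔓p : 𝔓.IsPrime := h𝔓.isPrime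
    obtain ⟨q, hq⟩ : ∃ q : Ideal B, 𝔓.comap (algebraMap B (EGA4.FibLocRing A B Q)) = q := ⟨_, rfl⟩
    haveI : q.IsPrime := hq ▸ Ideal.IsPrime.comap _
    obtain ⟨hqQ, hqco, -, -⟩ := FibLocGen.tcore A B N Q 𝔓 q hq
    have hdq : fdepth A B N q = 0 := by
      rw [← depth_loc_eq_fdepth A B N Q 𝔓 q hq]
      exact (Groth.Agent.Lib.Helper4.depth_localizedModule_eq_zero_iff 𝔓).mpr h𝔓
    have hann : Module.annihilator (EGA4.FibLocRing A B Q) (EGA4.FibLocMod A B Q N) ≤ 𝔓 := by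
      have := Groth.Agent.Lib.Helper4.mem_support_of_mem_associatedPrimes h𝔓
      rw [Module.support_eq_zeroLocus, PrimeSpectrum.mem_zeroLocus, SetLike.coe_subset_coe] at this
      exact this
    refine ⟨⟨h𝔓p, hann⟩, ?_⟩
    intro 𝔓'' h𝔓'' hle
    haveI : 𝔓''.IsPrime := h𝔓''.1
    obtain ⟨𝔓', h𝔓'min, h𝔓'le⟩ := Ideal.exists_minimalPrimes_le h𝔓''.2
    have h𝔓'ass : 𝔓' ∈ associatedPrimes (EGA4.FibLocRing A B Q) (EGA4.FibLocMod A B Q N) :=
      Module.associatedPrimes.minimalPrimes_annihilator_subset_associatedPrimes _ _ h𝔓'min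
    haveI h𝔓'p : 𝔓'.IsPrime := h𝔓'ass.isPrime
    obtain ⟨q', hq'⟩ : ∃ q' : Ideal B, 𝔓'.comap (algebraMap B (EGA4.FibLocRing A B Q)) = q' :=
      ⟨_, rfl⟩
    haveI : q'.IsPrime := hq' ▸ Ideal.IsPrime.comap _
    obtain ⟨-, hq'co, -, -⟩ := FibLocGen.tcore A B N Q 𝔓' q' hq'
    have hdq' : fdepth A B N q' = 0 := by
      rw [← depth_loc_eq_fdepth A B N Q 𝔓' q' hq']
      exact (Groth.Agent.Lib.Helper4.depth_localizedModule_eq_zero_iff 𝔓').mpr h𝔓'ass
    have hq'q : q' ≤ q := by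
      rw [← hq, ← hq']
      exact Ideal.comap_mono (h𝔓'le.trans hle)
    have heq := hne q hqQ hqco hdq q' hq'q hq'co hdq'
    have h𝔓eq : 𝔓' = 𝔓 := eq_of_comap_eq A B Q 𝔓' 𝔓 (by rw [hq, hq', heq])
    rw [← h𝔓eq]
    exact h𝔓'le
  · intro hS q _ hqQ hqco hdq q' _ hq'q hq'co hdq'
    obtain ⟨𝔓, h𝔓p, h𝔓q⟩ := FibLocGen.exists_prime_fib A B Q q hqQ hqco
    obtain ⟨𝔓', h𝔓'p, h𝔓'q'⟩ := FibLocGen.exists_prime_fib A B Q q' (hq'q.trans hqQ) hq'co
    haveI := h𝔓p
    haveI := h𝔓'p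
    have h𝔓ass : 𝔓 ∈ associatedPrimes (EGA4.FibLocRing A B Q) (EGA4.FibLocMod A B Q N) := by
      rw [← Groth.Agent.Lib.Helper4.depth_localizedModule_eq_zero_iff,
        depth_loc_eq_fdepth A B N Q 𝔓 q h𝔓q]
      exact hdq
    have h𝔓'ass : 𝔓' ∈ associatedPrimes (EGA4.FibLocRing A B Q) (EGA4.FibLocMod A B Q N) := by
      rw [← Groth.Agent.Lib.Helper4.depth_localizedModule_eq_zero_iff,
        depth_loc_eq_fdepth A B N Q 𝔓' q' h𝔓'q']
      exact hdq'
    have hmin := hS 𝔓 h𝔓ass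
    have hmin' := hS 𝔓' h𝔓'ass
    have hle : 𝔓' ≤ 𝔓 := le_of_comap_le A B Q 𝔓' 𝔓 (by rw [h𝔓q, h𝔓'q']; exact hq'q)
    have hge : 𝔓 ≤ 𝔓' := hmin.2 hmin'.1 hle
    rw [← h𝔓q, ← h𝔓'q', le_antisymm hle hge]

end NE

section Open

variable (A B : Type u) [CommRing A] [CommRing B] [Algebra A B] [Algebra.FinitePresentation A B]
  (N : Type u) [AddCommGroup N] [Module B N] [Module.FinitePresentation B N] [Module A N]
  [IsScalarTower A B N] (Q : Ideal B) [Q.IsPrime]

/-- **openness of the locus without embedded associated primes on the fibres, at a point.** -/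
theorem RM_nef (hflat : Module.Flat A (LocalizedModule Q.primeCompl N)) (h : NEf A B N Q) :
    ∃ c : B, c ∉ Q ∧ ∀ (Q' : Ideal B) [Q'.IsPrime], c ∉ Q' → NEf A B N Q' := by
  haveI : Module.Finite B N := inferInstance
  obtain ⟨c, hc, hall⟩ := RM_Sk A B N Q 1 hflat ((nef_iff_hasSk_one A B N Q).mp h)
  exact ⟨c, hc, fun Q' _ hcQ' => (nef_iff_hasSk_one A B N Q').mpr (hall Q' hcQ').2⟩

end Open

end Groth.Agent.Lib.Helper20.SkFib
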