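import Mathlib
import Groth.Agent.Lib.Helper20.SkFib4
import Groth.Agent.Lib.Helper20.SkFib2
import Groth.Agent.Lib.Helper20.DepthAlong3
import Groth.Agent.Lib.Helper17.PbFinite
import Groth.Agent.Lib.Helper17.CohStalk
import Groth.Prelude.Def_FDesc

/-!
# Openness of the locus of points on no embedded associated cycle of the fibre module (helper20)
-/

set_option autoImplicit false
set_option linter.style.haveILetI false
set_option linter.unusedSectionVars false
set_option linter.dupNamespace false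
universe u

open IsLocalRing TensorProduct CategoryTheory CategoryTheory.Limits AlgebraicGeometry
  TopologicalSpace

namespace Groth.Agent.Lib.Helper20.SkFib

open Groth.Agent.Lib.Helper14.CMMod Groth.Agent.Lib.Helper12 Groth.Agent.Lib.Helper20.RD
  Groth.Agent.Lib.Helper20.DepthAlong Groth.Agent.Lib.Helper1.DepthOpen

section Sch

open Groth.Agent.Lib.Helper3 Groth.Agent.Lib.Helper1.FlatAffine Groth.Agent.Lib.Helper17
  Groth.Agent.Lib.Helper14.FlatOpen

variable {X Y : Scheme.{u}} (f : X ⟶ Y) (F : X.Modules)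

/-- the associated points of the fibre module are the points of fibre depth zero. -/
theorem mem_ass_fibre_iff [F.IsQuasicoherent] [F.IsFiniteType] [LocallyOfFiniteType f]
    (s : Y) (z : f.fiber s) :
    z ∈ AssSch.Ass ((Scheme.Modules.pullback (f.fiberι s)).obj F) ↔
      xdepth f F ((f.fiberι s).base z) = 0 := by
  haveI := isNoetherianRing_fibreStalk f s z
  haveI : ((Scheme.Modules.pullback (f.fiberι s)).obj F).IsQuasicoherent :=
    PbStalk.isQuasicoherent_pullback (f.fiberι s) F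
  haveI : ((Scheme.Modules.pullback (f.fiberι s)).obj F).IsFiniteType :=
    PbFinite.isFiniteType_pullback (f.fiberι s) F
  haveI := CohStalk.finite_stalk ((Scheme.Modules.pullback (f.fiberι s)).obj F) z
  rw [← fibre_depth_eq f F s z,
    Groth.Agent.Lib.Helper4.depth_eq_zero_iff_maximalIdeal_mem_associatedPrimes]
  rfl

/-- the set of points lying on no embedded associated cycle of the fibre module. -/
def NESet : Set X :=
  {x : X | ∀ z ∈ AssSch.Ass ((Scheme.Modules.pullback (f.fiberι (f.base x))).obj F),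
    f.asFiber x ∈ closure {z} →
    ∀ z' ∈ AssSch.Ass ((Scheme.Modules.pullback (f.fiberι (f.base x))).obj F),
      z ∈ closure {z'} → z' = z}

variable {U : X.Opens} {V : Y.Opens} (hU : IsAffineOpen U) (hV : IsAffineOpen V)
  (hUV : U ≤ f ⁻¹ᵁ V)

include hU hV in
/-- primes below `Q_x` in the same fibre are points of the fibre specializing to `x`. -/
theorem point_of_prime (x : X) (hx : x ∈ U) (q : Ideal Γ(X, U)) [hq : q.IsPrime]
    (hqQ : q ≤ (hU.primeIdealOf ⟨x, hx⟩).asIdeal)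
    (hco : letI a0 : Algebra Γ(Y, V) Γ(X, U) := (f.appLE V U hUV).hom.toAlgebra
      q.comap (algebraMap Γ(Y, V) Γ(X, U)) =
        (hU.primeIdealOf ⟨x, hx⟩).asIdeal.comap (algebraMap Γ(Y, V) Γ(X, U))) :
    ∃ (z : f.fiber (f.base x)) (hzU : (f.fiberι (f.base x)).base z ∈ U),
      (hU.primeIdealOf ⟨(f.fiberι (f.base x)).base z, hzU⟩).asIdeal = q ∧
      (f.fiberι (f.base x)).base z ⤳ x := by
  letI a0 : Algebra Γ(Y, V) Γ(X, U) := (f.appLE V U hUV).hom.toAlgebra
  have hzU : hU.fromSpec ⟨q, hq⟩ ∈ U := fromSpec_mem hU _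
  have hzx : hU.fromSpec ⟨q, hq⟩ ⤳ x := by
    have h1 : (⟨q, hq⟩ : PrimeSpectrum Γ(X, U)) ⤳ hU.primeIdealOf ⟨x, hx⟩ :=
      (PrimeSpectrum.le_iff_specializes _ _).mp hqQ
    have h2 := h1.map hU.fromSpec.continuous
    rwa [hU.fromSpec_primeIdealOf] at h2
  have e : (hU.primeIdealOf ⟨hU.fromSpec ⟨q, hq⟩, hzU⟩).asIdeal = q :=
    congrArg PrimeSpectrum.asIdeal (primeIdealOf_fromSpec hU ⟨q, hq⟩ hzU)
  have hfz : f (hU.fromSpec ⟨q, hq⟩) = f x := by
    have h1 := IsAffineOpen.comap_primeIdealOf_appLE V hV U hU hUV hzU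
    have h2 := IsAffineOpen.comap_primeIdealOf_appLE V hV U hU hUV hx
    have h3 : hV.primeIdealOf ⟨f (hU.fromSpec ⟨q, hq⟩), hUV hzU⟩ =
        hV.primeIdealOf ⟨f x, hUV hx⟩ := by
      rw [← h1, ← h2]
      apply PrimeSpectrum.ext
      change (hU.primeIdealOf ⟨hU.fromSpec ⟨q, hq⟩, hzU⟩).asIdeal.comap _ =
        (hU.primeIdealOf ⟨x, hx⟩).asIdeal.comap _
      rw [e]
      exact hco
    have h4 := congrArg hV.fromSpec h3
    rwa [hV.fromSpec_primeIdealOf, hV.fromSpec_primeIdealOf] at h4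
  have hmem : hU.fromSpec ⟨q, hq⟩ ∈ Set.range (f.fiberι (f.base x)).base := by
    rw [f.range_fiberι (f.base x)]
    exact hfz
  obtain ⟨z, hz⟩ := hmem
  refine ⟨z, by rw [hz]; exact hzU, ?_, by rw [hz]; exact hzx⟩
  have : (⟨(f.fiberι (f.base x)).base z, by rw [hz]; exact hzU⟩ : U) =
      ⟨hU.fromSpec ⟨q, hq⟩, hzU⟩ := Subtype.ext hz
  rw [this]
  exact e

include hU hV in
/-- points of the fibre specializing to `x` are primes below `Q_x` in the same fibre. -/
theorem prime_of_point (x : X) (hx : x ∈ U) (z : f.fiber (f.base x))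
    (hzx : (f.fiberι (f.base x)).base z ⤳ x) :
    ∃ (hzU : (f.fiberι (f.base x)).base z ∈ U),
      (hU.primeIdealOf ⟨(f.fiberι (f.base x)).base z, hzU⟩).asIdeal ≤
        (hU.primeIdealOf ⟨x, hx⟩).asIdeal ∧
      (letI a0 : Algebra Γ(Y, V) Γ(X, U) := (f.appLE V U hUV).hom.toAlgebra
      (hU.primeIdealOf ⟨(f.fiberι (f.base x)).base z, hzU⟩).asIdeal.comap
          (algebraMap Γ(Y, V) Γ(X, U)) =
        (hU.primeIdealOf ⟨x, hx⟩).asIdeal.comap (algebraMap Γ(Y, V) Γ(X, U))) := by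
  letI a0 : Algebra Γ(Y, V) Γ(X, U) := (f.appLE V U hUV).hom.toAlgebra
  have hzU : (f.fiberι (f.base x)).base z ∈ U := hzx.mem_open U.2 hx
  refine ⟨hzU, ?_, ?_⟩
  · exact (SchemeDimFT.primeIdealOf_le_iff hU ⟨_, hzU⟩ ⟨x, hx⟩).mpr hzx
  · have hfz : f ((f.fiberι (f.base x)).base z) = f x := by
      have h3 : (f.fiberι (f.base x)).base z ∈ f.base ⁻¹' {f.base x} := by
        rw [← f.range_fiberι (f.base x)]
        exact ⟨z, rfl⟩
      exact h3
    have h1 := IsAffineOpen.comap_primeIdealOf_appLE V hV U hU hUV hzU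
    have h2 := IsAffineOpen.comap_primeIdealOf_appLE V hV U hU hUV hx
    have h3 : hV.primeIdealOf ⟨f ((f.fiberι (f.base x)).base z), hUV hzU⟩ =
        hV.primeIdealOf ⟨f x, hUV hx⟩ := by
      congr 1
      exact Subtype.ext hfz
    have h4 := congrArg PrimeSpectrum.asIdeal (h1.trans (h3.trans h2.symm))
    exact h4

include hU hV in
set_option maxHeartbeats 1600000 in
/-- the set on an affine chart. -/
theorem mem_neSet_iff_chart [F.IsQuasicoherent] [F.IsFiniteType] [LocallyOfFiniteType f]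
    (x : X) (hx : x ∈ U) :
    letI a0 : Algebra Γ(Y, V) Γ(X, U) := (f.appLE V U hUV).hom.toAlgebra
    x ∈ NESet f F ↔ NEf Γ(Y, V) Γ(X, U) Γ(F, U) (hU.primeIdealOf ⟨x, hx⟩).asIdeal := by
  letI a0 : Algebra Γ(Y, V) Γ(X, U) := (f.appLE V U hUV).hom.toAlgebra
  have hemb := (f.fiberι (f.base x)).isEmbedding
  have hx₀ : (f.fiberι (f.base x)).base (f.asFiber x) = x := f.fiberι_asFiber x
  constructor
  · intro h q _ hqQ hco hdq q' _ hq'q hco' hdq'
    obtain ⟨z, hzU, hzq, hzx⟩ := point_of_prime f hU hV hUV x hx q hqQ hco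
    obtain ⟨z', hz'U, hz'q, hz'x⟩ := point_of_prime f hU hV hUV x hx q' (hq'q.trans hqQ) hco'
    haveI := (hU.primeIdealOf ⟨(f.fiberι (f.base x)).base z, hzU⟩).isPrime
    haveI := (hU.primeIdealOf ⟨(f.fiberι (f.base x)).base z', hz'U⟩).isPrime
    have hzass : z ∈ AssSch.Ass ((Scheme.Modules.pullback (f.fiberι (f.base x))).obj F) := by
      rw [mem_ass_fibre_iff, xdepth_eq_chart f F hU hV hUV _ hzU,
        fdepth_congr_prime _ _ _ _ _ hzq]
      exact hdq
    have hz'ass : z' ∈ AssSch.Ass ((Scheme.Modules.pullback (f.fiberι (f.base x))).obj F) := by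
      rw [mem_ass_fibre_iff, xdepth_eq_chart f F hU hV hUV _ hz'U,
        fdepth_congr_prime _ _ _ _ _ hz'q]
      exact hdq'
    have h1 : f.asFiber x ∈ closure {z} := by
      rw [← specializes_iff_mem_closure, ← hemb.isInducing.specializes_iff, hx₀]
      exact hzx
    have h2 : z ∈ closure {z'} := by
      rw [← specializes_iff_mem_closure, ← hemb.isInducing.specializes_iff]
      refine (SchemeDimFT.primeIdealOf_le_iff hU ⟨_, hz'U⟩ ⟨_, hzU⟩).mp ?_
      change (hU.primeIdealOf ⟨_, hz'U⟩).asIdeal ≤ (hU.primeIdealOf ⟨_, hzU⟩).asIdeal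
      rw [hzq, hz'q]
      exact hq'q
    have h3 := h z hzass h1 z' hz'ass h2
    rw [← hzq, ← hz'q]
    subst h3
    rfl
  · intro h z hzass hxz z' hz'ass hzz'
    have hzx : (f.fiberι (f.base x)).base z ⤳ x := by
      have h0 : z ⤳ f.asFiber x := specializes_iff_mem_closure.mpr hxz
      have h1 := h0.map (f.fiberι (f.base x)).continuous
      rwa [hx₀] at h1
    have hz'z : (f.fiberι (f.base x)).base z' ⤳ (f.fiberι (f.base x)).base z := by
      rw [hemb.isInducing.specializes_iff, specializes_iff_mem_closure]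
      exact hzz'
    obtain ⟨hzU, hzQ, hzco⟩ := prime_of_point f hU hV hUV x hx z hzx
    obtain ⟨hz'U, hz'Q, hz'co⟩ := prime_of_point f hU hV hUV x hx z' (hz'z.trans hzx)
    haveI := (hU.primeIdealOf ⟨(f.fiberι (f.base x)).base z, hzU⟩).isPrime
    haveI := (hU.primeIdealOf ⟨(f.fiberι (f.base x)).base z', hz'U⟩).isPrime
    rw [mem_ass_fibre_iff, xdepth_eq_chart f F hU hV hUV _ hzU] at hzass
    rw [mem_ass_fibre_iff, xdepth_eq_chart f F hU hV hUV _ hz'U] at hz'ass
    have hle : (hU.primeIdealOf ⟨(f.fiberι (f.base x)).base z', hz'U⟩).asIdeal ≤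
        (hU.primeIdealOf ⟨(f.fiberι (f.base x)).base z, hzU⟩).asIdeal :=
      (SchemeDimFT.primeIdealOf_le_iff hU ⟨_, hz'U⟩ ⟨_, hzU⟩).mpr hz'z
    have h3 := h _ hzQ hzco hzass _ hle hz'co hz'ass
    have h4 : hU.primeIdealOf ⟨(f.fiberι (f.base x)).base z', hz'U⟩ =
        hU.primeIdealOf ⟨(f.fiberι (f.base x)).base z, hzU⟩ := PrimeSpectrum.ext h3
    have h5 := congrArg hU.fromSpec h4
    rw [hU.fromSpec_primeIdealOf, hU.fromSpec_primeIdealOf] at h5
    exact hemb.injective h5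

omit hU hV hUV in
/-- **the set of points lying on no embedded associated cycle of the fibre module of a flat
finitely presented module is open.** -/
theorem isOpen_neSet [LocallyOfFinitePresentation f] [F.IsQuasicoherent]
    [SheafOfModules.IsFinitePresentation (R := X.ringCatSheaf) F]
    (hflat : FlatMod.IsFlatOver f F) : IsOpen (NESet f F) := by
  refine isOpen_iff_forall_mem_open.mpr fun x hx ↦ ?_
  obtain ⟨_, ⟨V, hV, rfl⟩, hxV, -⟩ :=
    Y.isBasis_affineOpens.exists_subset_of_mem_open (Set.mem_univ (f x)) isOpen_univ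
  obtain ⟨_, ⟨U, hU, rfl⟩, hxU, hUV⟩ :=
    X.isBasis_affineOpens.exists_subset_of_mem_open hxV (V.2.preimage f.continuous)
  letI a0 : Algebra Γ(Y, V) Γ(X, U) := (f.appLE V U hUV).hom.toAlgebra
  letI a1 : Module Γ(Y, V) Γ(F, U) := Module.compHom _ (f.appLE V U hUV).hom
  haveI a2 : IsScalarTower Γ(Y, V) Γ(X, U) Γ(F, U) :=
    IsScalarTower.of_algebraMap_smul fun r n => rfl
  haveI : Algebra.FinitePresentation Γ(Y, V) Γ(X, U) := f.finitePresentation_appLE hV hU hUV
  haveI : Module.FinitePresentation Γ(X, U) Γ(F, U) := QCProps.finitePresentation_sections F hU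
  have hfl := (isFlatOverAt_iff_localizedModule f F hU hV hUV x hxU).mp (hflat x)
  have hne := (mem_neSet_iff_chart f F hU hV hUV x hxU).mp hx
  obtain ⟨c, hc, hall⟩ := RM_nef Γ(Y, V) Γ(X, U) Γ(F, U) (hU.primeIdealOf ⟨x, hxU⟩).asIdeal
    hfl hne
  refine ⟨X.basicOpen c, ?_, (X.basicOpen c).2, ?_⟩
  · intro y hy
    have hyU : y ∈ U := X.basicOpen_le c hy
    have h3 := hall _ ((mem_basicOpen_iff_notMem_primeIdealOf hU y hyU c).mp hy)
    exact (mem_neSet_iff_chart f F hU hV hUV y hyU).mpr h3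
  · exact (mem_basicOpen_iff_notMem_primeIdealOf hU x hxU c).mpr hc

end Sch

end Groth.Agent.Lib.Helper20.SkFib
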