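import Mathlib
import Groth.Agent.Lib.Helper20.SkFib5
import Groth.Agent.Lib.Helper20.RD6
import Groth.Agent.Lib.Helper12.Chevalley
import Groth.Agent.Lib.Helper12.EquidimHyp
import Groth.Agent.Lib.Helper12.EquidimOpen

/-!
# Openness of the locus where the associated points of the fibre module through a point have
closures of prescribed dimensions (EGA IV 12.1.1 (ii)) (helper20)
-/

set_option autoImplicit false
set_option linter.style.haveILetI false
set_option linter.unusedSectionVars false
set_option linter.dupNamespace false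
universe u

open IsLocalRing TensorProduct CategoryTheory CategoryTheory.Limits AlgebraicGeometry
  TopologicalSpace

namespace Groth.Agent.Lib.Helper20.AssDim

open Groth.Agent.Lib.Helper14.CMMod Groth.Agent.Lib.Helper12 Groth.Agent.Lib.Helper20.RD
  Groth.Agent.Lib.Helper20.SkFib Groth.Agent.Lib.Helper12.SchemeDimIneq
  Groth.Agent.Lib.Helper12.ClosedSub Groth.Agent.Lib.Helper12.EquidimHyp

section Chev

variable {X Y : Scheme.{u}} (f : X ⟶ Y) [LocallyOfFiniteType f]

/-- **Chevalley's semicontinuity for a closed subset**: the set of points of a closed subset `Z`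
which have a generization in `Z`, in the same fibre, of transcendence degree at least `n`, is
closed. -/
theorem isClosed_setOf_exists_generization (Z : Set X) (hZ : IsClosed Z) (n : ℕ) :
    IsClosed {x : X | x ∈ Z ∧ ∃ z ∈ Z, f z = f x ∧ z ⤳ x ∧ (n : ℕ∞) ≤ trn f z} := by
  rcases n with _ | k
  · convert hZ using 1
    ext x
    simp only [Set.mem_setOf_eq]
    constructor
    · exact fun h => h.1
    · intro hx
      exact ⟨hx, x, hx, rfl, specializes_rfl, by simp⟩
  · set I := Scheme.IdealSheafData.vanishingIdeal ⟨Z, hZ⟩ with hI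
    set ι := I.subschemeι with hι
    have hrange : Set.range ι = Z := by
      rw [hι, Scheme.IdealSheafData.range_subschemeι]
      exact Scheme.IdealSheafData.coe_support_vanishingIdeal _
    have hO := Chevalley.isOpen_setOf_fibreDimAt_le (ι ≫ f) k
    have hcl : IsClosed (ι '' {w | FlatMor.fibreDimAt (ι ≫ f) w ≤ (k : WithBot ℕ∞)}ᶜ) :=
      ι.isClosedEmbedding.isClosedMap _ hO.isClosed_compl
    convert hcl using 1
    ext x
    simp only [Set.mem_setOf_eq, Set.mem_image, Set.mem_compl_iff]
    constructor
    · rintro ⟨hx, z, hz, hfz, hzx, hn⟩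
      obtain ⟨w, rfl⟩ : x ∈ Set.range ι := by rw [hrange]; exact hx
      obtain ⟨z', rfl⟩ : z ∈ Set.range ι := by rw [hrange]; exact hz
      refine ⟨w, ?_, rfl⟩
      rw [fibreDimAt_le_iff]
      intro hall
      have h1 := hall z' hfz (ι.isEmbedding.isInducing.specializes_iff.mp hzx)
      rw [trn_comp_preimmersion] at h1
      have h2 := hn.trans h1
      have : (k + 1 : ℕ) ≤ k := by exact_mod_cast h2
      omega
    · rintro ⟨w, hw, rfl⟩
      rw [fibreDimAt_le_iff] at hw
      push_neg at hw
      obtain ⟨z', hz1, hz2, hz3⟩ := hw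
      rw [trn_comp_preimmersion] at hz3
      refine ⟨hrange ▸ ⟨w, rfl⟩, ι z', hrange ▸ ⟨z', rfl⟩, hz1, hz2.map ι.continuous, ?_⟩
      obtain ⟨t, ht⟩ := exists_trn_eq f (ι z')
      rw [ht] at hz3 ⊢
      have : k < t := by exact_mod_cast hz3
      exact_mod_cast this

end Chev

end Groth.Agent.Lib.Helper20.AssDim
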