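import Mathlib
import Groth.Agent.Lib.Helper20.AssDim1

/-!
# Openness of the locus where the associated points of the fibre module through a point have
closures of prescribed dimensions (EGA IV 12.1.1 (ii)), main statements (helper20)
-/

set_option autoImplicit false
set_option linter.style.haveILetI false
set_option linter.unusedSectionVars false
set_option linter.dupNamespace false
universe u

open IsLocalRing TensorProduct CategoryTheory CategoryTheory.Limits AlgebraicGeometry
  TopologicalSpace

namespace Groth.Agent.Lib.Helper20.AssDim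

open Groth.Agent.Lib.Helper14.CMMod Groth.Agent.Lib.Helper12 Groth.Agent.Lib.Helper20.RD
  Groth.Agent.Lib.Helper20.SkFib Groth.Agent.Lib.Helper12.SchemeDimIneq
  Groth.Agent.Lib.Helper12.ClosedSub Groth.Agent.Lib.Helper12.EquidimHyp

section Main

variable {X Y : Scheme.{u}} (f : X ⟶ Y) (F : X.Modules)

/-- the set of points having, in their fibre, a generization which is an associated point of the
fibre module (fibre depth zero) of transcendence degree `n`. -/
def CSet (n : ℕ) : Set X :=
  {x | ∃ z : X, f z = f x ∧ z ⤳ x ∧ xdepth f F z = 0 ∧ trn f z = (n : ℕ∞)}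

theorem isClosed_cSet [LocallyOfFinitePresentation f]
    [SheafOfModules.IsFinitePresentation (R := X.ringCatSheaf) F]
    (hflat : FlatMod.IsFlatOver f F) (n : ℕ) : IsClosed (CSet f F n) := by
  have hO := isOpen_QXrd f F hflat (n + 1)
  convert isClosed_setOf_exists_generization f _ hO.isClosed_compl n using 1
  ext x
  simp only [CSet, Set.mem_setOf_eq, Set.mem_compl_iff]
  constructor
  · rintro ⟨z, hfz, hzx, hd, ht⟩
    have hzY : ¬ QXrd f F (n + 1) z := by
      unfold QXrd
      rw [hd, ht, zero_add]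
      intro h
      have : n + 1 ≤ n := by exact_mod_cast h
      omega
    exact ⟨fun hx => hzY (hzx.mem_open hO hx), z, hzY, hfz, hzx, ht.ge⟩
  · rintro ⟨-, z, hzY, hfz, hzx, hn⟩
    refine ⟨z, hfz, hzx, ?_⟩
    unfold QXrd at hzY
    obtain ⟨t, ht⟩ := exists_trn_eq f z
    rw [ht] at hzY hn ⊢
    rw [not_le] at hzY
    have hnt : n ≤ t := by exact_mod_cast hn
    by_cases htop : xdepth f F z = ⊤
    · rw [htop] at hzY
      exact absurd hzY (by simp)
    · obtain ⟨d, h⟩ := ENat.ne_top_iff_exists.mp htop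
      rw [← h] at hzY ⊢
      have h2 : d + t < n + 1 := by exact_mod_cast hzY
      have hd : d = 0 := by omega
      have htn : t = n := by omega
      subst hd htn
      exact ⟨rfl, rfl⟩

/-- the intrinsic form of the set of `12.1.1 (ii)`. -/
def GSet (Φ : Finset ℕ) : Set X :=
  {x | ∀ z : X, f z = f x → z ⤳ x → xdepth f F z = 0 → ∃ n ∈ Φ, trn f z = (n : ℕ∞)}

theorem isOpen_gSet [LocallyOfFinitePresentation f]
    [SheafOfModules.IsFinitePresentation (R := X.ringCatSheaf) F]
    (hflat : FlatMod.IsFlatOver f F) (Φ : Finset ℕ) : IsOpen (GSet f F Φ) := by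
  classical
  refine isOpen_iff_forall_mem_open.mpr fun x hx => ?_
  obtain ⟨z0, hz0, hz0x, hle⟩ := exists_generization_trn_eq_fibreDimAt f x
  obtain ⟨t, ht⟩ := exists_trn_eq f z0
  rw [ht] at hle
  have hU := Chevalley.isOpen_setOf_fibreDimAt_le f t
  refine ⟨{x' | FlatMor.fibreDimAt f x' ≤ (t : WithBot ℕ∞)} ∩
    ⋂ n ∈ (Finset.range (t + 1)).filter (· ∉ Φ), (CSet f F n)ᶜ, ?_, ?_, ?_⟩
  · rintro x' ⟨hx't, hx'C⟩ z hfz hzx hd
    obtain ⟨m, hm⟩ := exists_trn_eq f z
    have hmt : m ≤ t := by
      have := (fibreDimAt_le_iff f x' t).mp hx't z hfz hzx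
      rw [hm] at this
      exact_mod_cast this
    by_contra hcon
    have hmΦ : m ∉ Φ := fun h => hcon ⟨m, h, hm⟩
    have h1 : x' ∈ (CSet f F m)ᶜ := by
      refine Set.mem_iInter₂.mp hx'C m ?_
      rw [Finset.mem_filter, Finset.mem_range]
      exact ⟨by omega, hmΦ⟩
    exact h1 ⟨z, hfz, hzx, hd, hm⟩
  · exact hU.inter (isOpen_biInter_finset fun n _ => (isClosed_cSet f F hflat n).isOpen_compl)
  · refine ⟨hle, Set.mem_iInter₂.mpr fun n hn => ?_⟩
    rintro ⟨z, hfz, hzx, hd, htz⟩
    obtain ⟨n', hn', hn'eq⟩ := hx z hfz hzx hd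
    rw [htz] at hn'eq
    have : n = n' := by exact_mod_cast hn'eq
    subst this
    exact (Finset.mem_filter.mp hn).2 hn'

/-- the dimension of the closure of a point of a fibre is the transcendence degree. -/
theorem dim_closure_eq_trn [LocallyOfFiniteType f] (s : Y) (z : f.fiber s) :
    topologicalKrullDim ↥(closure ({z} : Set ↥(f.fiber s))) =
      ((trn f ((f.fiberι s).base z) : ℕ∞) : WithBot ℕ∞) := by
  letI _ovF : (f.fiber s).Over (Spec (CommRingCat.of (Y.residueField s))) :=
    ⟨f.fiberToSpecResidueField s⟩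
  haveI : LocallyOfFiniteType ((f.fiber s) ↘ Spec (CommRingCat.of (Y.residueField s))) :=
    FibreRes.locallyOfFiniteType_fiberToSpecResidueField f s
  have hy : f ((f.fiberι s).base z) = s := by
    have h3 : (f.fiberι s).base z ∈ f.base ⁻¹' {s} := by
      rw [← f.range_fiberι s]
      exact ⟨z, rfl⟩
    exact h3
  have h1 := ClosedSub.trn_eq_tr_of_fiber f ((f.fiberι s).base z) s hy z rfl
  have h2 := SchemeDimFT.topologicalKrullDim_closure_singleton (Y.residueField s) (f.fiber s) z
  rw [h2, h1]
  rfl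

theorem apply_fiberι' (s : Y) (z : f.fiber s) : f ((f.fiberι s).base z) = s := by
  have h3 : (f.fiberι s).base z ∈ f.base ⁻¹' {s} := by
    rw [← f.range_fiberι s]
    exact ⟨z, rfl⟩
  exact h3

/-- the set of the statement is the intrinsic set. -/
theorem mem_gSet_iff [F.IsQuasicoherent] [F.IsFiniteType] [LocallyOfFiniteType f]
    (Φ : Finset ℕ) (x : X) :
    (∀ z ∈ AssSch.Ass ((Scheme.Modules.pullback (f.fiberι (f.base x))).obj F),
      f.asFiber x ∈ closure {z} →
      ∃ n ∈ Φ, topologicalKrullDim ↥(closure ({z} : Set ↥(f.fiber (f.base x)))) =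
        (n : WithBot ℕ∞)) ↔ x ∈ GSet f F Φ := by
  constructor
  · intro h z' hfz' hz'x hd
    set z := (f.fiberHomeo (f x)).symm ⟨z', hfz'⟩ with hz
    have hιz : f.fiberι (f x) z = z' := f.fiberι_fiberHomeo_symm (f x) ⟨z', hfz'⟩
    have hass : z ∈ AssSch.Ass ((Scheme.Modules.pullback (f.fiberι (f.base x))).obj F) := by
      rw [mem_ass_fibre_iff f F (f x) z]
      rw [← hιz] at hd
      exact hd
    have hcl : f.asFiber x ∈ closure {z} := by
      rw [← specializes_iff_mem_closure]
      apply (f.fiberι (f x)).isEmbedding.isInducing.specializes_iff.mp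
      rw [hιz, f.fiberι_asFiber x]
      exact hz'x
    obtain ⟨n, hn, hdim⟩ := h z hass hcl
    refine ⟨n, hn, ?_⟩
    rw [dim_closure_eq_trn f (f x) z] at hdim
    have hιz' : (f.fiberι (f x)).base z = z' := hιz
    rw [hιz'] at hdim
    exact_mod_cast hdim
  · intro h z hass hcl
    have hd := (mem_ass_fibre_iff f F (f x) z).mp hass
    have hsp : (f.fiberι (f x)).base z ⤳ x := by
      have h1 := (specializes_iff_mem_closure.mpr hcl).map (f.fiberι (f x)).continuous
      rwa [f.fiberι_asFiber x] at h1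
    obtain ⟨n, hn, htr⟩ := h _ (apply_fiberι' f (f x) z) hsp hd
    refine ⟨n, hn, ?_⟩
    rw [dim_closure_eq_trn f (f x) z, htr]
    rfl

/-- **EGA IV 12.1.1 (ii)**. -/
theorem isOpen_fibre_assDims [LocallyOfFinitePresentation f] [F.IsQuasicoherent]
    [SheafOfModules.IsFinitePresentation (R := X.ringCatSheaf) F]
    (hflat : FlatMod.IsFlatOver f F) (Φ : Finset ℕ) :
    IsOpen {x : X | ∀ z ∈ AssSch.Ass ((Scheme.Modules.pullback (f.fiberι (f.base x))).obj F),
      f.asFiber x ∈ closure {z} →
      ∃ n ∈ Φ, topologicalKrullDim ↥(closure ({z} : Set ↥(f.fiber (f.base x)))) =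
        (n : WithBot ℕ∞)} := by
  convert isOpen_gSet f F hflat Φ using 1
  ext x
  exact mem_gSet_iff f F Φ x

/-- the form on the base, for a closed map. -/
theorem isOpen_fibre_assDims_base [LocallyOfFinitePresentation f] [F.IsQuasicoherent]
    [SheafOfModules.IsFinitePresentation (R := X.ringCatSheaf) F]
    (hflat : FlatMod.IsFlatOver f F) (hcl : IsClosedMap f.base) (Φ : Finset ℕ) :
    IsOpen {y : Y | ∀ z ∈ AssSch.Ass ((Scheme.Modules.pullback (f.fiberι y)).obj F), ∃ n ∈ Φ,
      topologicalKrullDim ↥(closure ({z} : Set ↥(f.fiber y))) = (n : WithBot ℕ∞)} := by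
  have h2 : IsClosed (f.base '' (GSet f F Φ)ᶜ) := hcl _ (isOpen_gSet f F hflat Φ).isClosed_compl
  convert h2.isOpen_compl using 1
  ext y
  simp only [Set.mem_setOf_eq, Set.mem_compl_iff, Set.mem_image, not_exists, not_and, not_not]
  constructor
  · intro hall x hx hxy
    subst hxy
    apply hx
    rw [← mem_gSet_iff f F Φ x]
    intro z hass _
    exact hall z hass
  · intro hall z hass
    have hd := (mem_ass_fibre_iff f F y z).mp hass
    have hx : (f.fiberι y).base z ∈ GSet f F Φ := by
      by_contra hne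
      exact hall _ hne (apply_fiberι' f y z)
    obtain ⟨n, hn, htr⟩ := hx _ rfl specializes_rfl hd
    refine ⟨n, hn, ?_⟩
    rw [dim_closure_eq_trn f y z, htr]
    rfl

end Main

end Groth.Agent.Lib.Helper20.AssDim
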