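import Mathlib
import Groth.Prelude.Def_Coh
import Groth.Prelude.Def_CohB1
import Groth.Agent.Lib.Helper13.ModSheafBasic

/-!
# Helper20: vanishing of `R^i f_*` on quasi-coherent modules from the coherent case (core)
(K1 for helper12, S7411)
-/

set_option autoImplicit false
set_option linter.style.haveILetI false
universe u
open CategoryTheory CategoryTheory.Limits AlgebraicGeometry TopologicalSpace Opposite

namespace Groth.Agent.Lib.Helper20.QcohVanishCore

/-- A sheaf of abelian groups all of whose stalks vanish is zero. -/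
theorem isZero_of_forall_isZero_stalk {Y : TopCat.{u}}
    (F : Sheaf (Opens.grothendieckTopology Y) AddCommGrpCat.{u})
    (h : ∀ y : Y, IsZero (TopCat.Presheaf.stalk (C := AddCommGrpCat.{u}) (X := Y) F.obj y)) :
    IsZero F := by
  have hsub : ∀ U : Opens Y, Subsingleton (F.obj.obj (op U)) := by
    intro U
    refine ⟨fun s t => ?_⟩
    refine TopCat.Presheaf.section_ext (C := AddCommGrpCat.{u}) F U s t ?_
    intro x hx
    exact (AddCommGrpCat.subsingleton_of_isZero (h x)).elim _ _
  rw [IsZero.iff_id_eq_zero]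
  apply Sheaf.hom_ext
  ext U s
  haveI := hsub U.unop
  exact Subsingleton.elim _ _

/-- The vertex of a colimit cocone on a diagram of zero objects is zero. -/
theorem isZero_of_isColimit_of_forall_isZero {J : Type*} [Category J] {C : Type*} [Category C]
    [HasZeroMorphisms C] {D : J ⥤ C} {c : Cocone D} (hc : IsColimit c)
    (h : ∀ j, IsZero (D.obj j)) : IsZero c.pt := by
  rw [IsZero.iff_id_eq_zero]
  apply hc.hom_ext
  intro j
  exact (h j).eq_of_src _ _

theorem isCoh_of_isFP {X : Scheme.{u}} (N : X.Modules) (hN : CohB1.IsFP N) : Coh.IsCoh N := by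
  haveI : CohB1.IsFP N := hN
  exact ⟨inferInstance, inferInstance⟩

/-- **K1, core form**: the three landed ingredients (S0042 for the fixed `f`, `i`; S2128 for `M`;
S0800 for `f`, `i`) are taken as hypotheses. -/
theorem isZero_RpushAb_qcoh_core {X Y : Scheme.{u}} (f : X ⟶ Y) (M : X.Modules) (i : ℕ)
    (h42 : ∀ (y : Y) (N : X.Modules), Coh.IsCoh N →
      IsZero (TopCat.Presheaf.stalk ((Coh.RpushAb f i).obj (Coh.toAb N)).obj y))
    (h2128 : ∃ (I : Type u) (_ : SmallCategory I) (_ : IsFiltered I) (D : I ⥤ X.Modules)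
      (c : Limits.Cocone D) (_ : Limits.IsColimit c), (∀ i, CohB1.IsFP (D.obj i)) ∧ c.pt = M)
    (h800 : ∀ (J : Type u) [SmallCategory J] [IsFiltered J],
      PreservesColimitsOfShape J (Coh.RpushAb f i)) :
    IsZero ((Coh.RpushAb f i).obj (Coh.toAb M)) := by
  obtain ⟨I, _, _, D, c, hc, hD, rfl⟩ := h2128
  haveI := h800 I
  have hc1 : IsColimit ((SheafOfModules.toSheaf X.ringCatSheaf).mapCocone c) :=
    isColimitOfPreserves _ hc
  have hc2 : IsColimit ((Coh.RpushAb f i).mapCocone
      ((SheafOfModules.toSheaf X.ringCatSheaf).mapCocone c)) :=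
    isColimitOfPreserves _ hc1
  refine isZero_of_isColimit_of_forall_isZero hc2 (fun j => ?_)
  apply isZero_of_forall_isZero_stalk
  intro y
  exact h42 y (D.obj j) (isCoh_of_isFP _ (hD j))

end Groth.Agent.Lib.Helper20.QcohVanishCore
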