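import Mathlib
import Groth.Agent.Lib.Helper20.AssDim1
import Groth.Agent.Lib.Helper12.FibreMax
import Groth.Agent.Lib.Helper12.SchemeDimIneq2

/-!
# Generic constructibility of the fibrewise codimension condition (helper20)

For a closed subset `Sg` of `X` (thought of as the singular locus) and `f : X ⟶ Y` locally of
finite type, the set of points `x` none of whose generizations in the fibre lying in `Sg` has
fibre codimension `≤ k` contains, or is disjoint from, a neighbourhood of `ξ` in `closure {ξ}`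
whenever `f ξ` is a generic point of `Y` (EGA IV 9.9.1 in generic form).
-/

set_option autoImplicit false
set_option linter.style.haveILetI false
set_option linter.unusedSectionVars false
set_option linter.dupNamespace false
universe u

open IsLocalRing CategoryTheory CategoryTheory.Limits AlgebraicGeometry TopologicalSpace

namespace Groth.Agent.Lib.Helper20.GRkC

open Groth.Agent.Lib.Helper12 Groth.Agent.Lib.Helper12.SchemeDimIneq
  Groth.Agent.Lib.Helper20.AssDim Groth.Agent.Lib.Helper12.FibreMax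

variable {X Y : Scheme.{u}} (f : X ⟶ Y)

/-- the fibre codimension of `z` (dimension of the local ring of the fibre at `z`) is `≤ k`. -/
def CodimLE (k : ℕ) (z : X) : Prop :=
  ringKrullDim ((f.fiber (f z)).presheaf.stalk (f.asFiber z)) ≤ (k : WithBot ℕ∞)

/-- points none of whose generizations in the fibre lying in `Sg` has fibre codimension `≤ k`. -/
def RSet (Sg : Set X) (k : ℕ) : Set X :=
  {x | ∀ z ∈ Sg, f z = f x → z ⤳ x → ¬ CodimLE f k z}

variable [LocallyOfFiniteType f]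

theorem codimLE_iff (k : ℕ) (z : X) (t : ℕ) (ht : trn f z = (t : ℕ∞)) :
    CodimLE f k z ↔ FlatMor.fibreDimAt f z ≤ ((t + k : ℕ) : WithBot ℕ∞) := by
  unfold CodimLE
  rw [fibreDimAt_eq_trn_add f z, ht]
  generalize ringKrullDim ((f.fiber (f z)).presheaf.stalk (f.asFiber z)) = r
  induction r using WithBot.recBotCoe with
  | bot => simp
  | coe r =>
    induction r using ENat.recTopCoe with
    | top =>
      constructor
      · intro h
        exact absurd h (by
          rw [not_le]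
          exact_mod_cast ENat.coe_lt_top k)
      · intro h
        exfalso
        have h2 : ((t : ℕ∞) : WithBot ℕ∞) + ((⊤ : ℕ∞) : WithBot ℕ∞) =
            (((t : ℕ∞) + ⊤ : ℕ∞) : WithBot ℕ∞) := rfl
        rw [h2, add_top] at h
        have h3 : (⊤ : ℕ∞) ≤ ((t + k : ℕ) : ℕ∞) := by exact_mod_cast h
        exact absurd h3 (by simp)
    | coe b =>
      constructor
      · intro h
        have : b ≤ k := by exact_mod_cast h
        exact_mod_cast (by omega : t + b ≤ t + k)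
      · intro h
        have : t + b ≤ t + k := by exact_mod_cast h
        exact_mod_cast (by omega : b ≤ k)

theorem fibreDimAt_le_of_specializes_of_le (σ z : X) (h : σ ⤳ z) (n : ℕ)
    (hz : FlatMor.fibreDimAt f z ≤ (n : WithBot ℕ∞)) :
    FlatMor.fibreDimAt f σ ≤ (n : WithBot ℕ∞) :=
  h.mem_open (Chevalley.isOpen_setOf_fibreDimAt_le f n) hz

/-- case A: a bad generization at the generic point spreads out. -/
theorem caseA (Sg : Set X) (hSg : IsClosed Sg) (k : ℕ) (ξ : X) (hξ : ξ ∉ RSet f Sg k) :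
    ∃ W : Set X, IsOpen W ∧ ξ ∈ W ∧ W ∩ closure {ξ} ⊆ (RSet f Sg k)ᶜ := by
  unfold RSet at hξ
  simp only [Set.mem_setOf_eq, not_forall, not_not] at hξ
  obtain ⟨z₀, hz₀S, hfz₀, hz₀ξ, hc₀⟩ := hξ
  obtain ⟨t₀, ht₀⟩ := exists_trn_eq f z₀
  have hd₀ := (codimLE_iff f k z₀ t₀ ht₀).mp hc₀
  set U : Set X := {x | FlatMor.fibreDimAt f x ≤ ((t₀ + k : ℕ) : WithBot ℕ∞)} with hU
  have hUo : IsOpen U := Chevalley.isOpen_setOf_fibreDimAt_le f (t₀ + k)
  set Z₀ : Set X := closure {z₀} with hZ₀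
  have hZ₀c : IsClosed Z₀ := isClosed_closure
  have hZ₀S : Z₀ ⊆ Sg := closure_minimal (Set.singleton_subset_iff.mpr hz₀S) hSg
  set C : Set X := Z₀ ∩ Uᶜ with hC
  have hCc : IsClosed C := hZ₀c.inter hUo.isClosed_compl
  have hB' := isClosed_setOf_exists_generization f C hCc t₀
  have hB := isClosed_setOf_exists_generization f Z₀ hZ₀c t₀
  refine ⟨{x : X | x ∈ C ∧ ∃ z ∈ C, f z = f x ∧ z ⤳ x ∧ (t₀ : ℕ∞) ≤ trn f z}ᶜ,
    hB'.isOpen_compl, ?_, ?_⟩
  · rintro ⟨-, z, hzC, hfz, hzξ, hle⟩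
    have hz₀z : z₀ ⤳ z := specializes_iff_mem_closure.mpr hzC.1
    have hne : z₀ ≠ z := by
      rintro rfl
      exact hzC.2 hd₀
    have hlt := trn_lt_of_specializes f z z₀ (hfz₀.trans hfz.symm) hz₀z hne
    rw [ht₀] at hlt
    exact absurd hle (not_le.mpr hlt)
  · rintro x ⟨hxW, hxξ⟩ hxR
    have hξZ₀ : ξ ∈ Z₀ := specializes_iff_mem_closure.mp hz₀ξ
    have hxZ₀ : x ∈ Z₀ := closure_minimal (Set.singleton_subset_iff.mpr hξZ₀) hZ₀c hxξ
    have hz₀B : z₀ ∈ {x : X | x ∈ Z₀ ∧ ∃ z ∈ Z₀, f z = f x ∧ z ⤳ x ∧ (t₀ : ℕ∞) ≤ trn f z} :=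
      ⟨subset_closure rfl, z₀, subset_closure rfl, rfl, specializes_rfl, ht₀.ge⟩
    have hZ₀B := closure_minimal (Set.singleton_subset_iff.mpr hz₀B) hB
    obtain ⟨-, z, hzZ₀, hfz, hzx, hle⟩ := hZ₀B hxZ₀
    by_cases hzU : z ∈ U
    · obtain ⟨t, ht⟩ := exists_trn_eq f z
      rw [ht] at hle
      have htt : t₀ ≤ t := by exact_mod_cast hle
      have hzc : CodimLE f k z := by
        rw [codimLE_iff f k z t ht]
        refine le_trans hzU ?_
        exact_mod_cast (by omega : t₀ + k ≤ t + k)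
      exact hxR z (hZ₀S hzZ₀) hfz hzx hzc
    · have hzC : z ∈ C := ⟨hzZ₀, hzU⟩
      have hxC : x ∈ C := hzx.mem_closed hCc hzC
      exact hxW ⟨hxC, z, hzC, hfz, hzx, hle⟩

/-- case B, for one irreducible closed subset of `Sg`. -/
theorem caseB_component (Sg : Set X) (k : ℕ) (ξ : X) (hgen : ∀ s : Y, f ξ ⤳ s)
    (hξ : ξ ∈ RSet f Sg k) (T : Set X) (hTc : IsClosed T) (hTi : IsIrreducible T)
    (hTS : T ⊆ Sg) :
    ∃ K : Set X, IsClosed K ∧ ξ ∉ K ∧ ∀ x : X, x ∉ K → ∀ z ∈ T, f z = f x → z ⤳ x →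
      ¬ CodimLE f k z := by
  by_cases hξT : ξ ∈ T
  · obtain ⟨σ, hσ⟩ := QuasiSober.sober hTi hTc
    have hσT : σ ∈ T := hσ.mem
    have hσξ : σ ⤳ ξ := hσ.specializes hξT
    have hfσ : f σ = f ξ :=
      ((hσξ.map f.continuous).antisymm (hgen (f σ))).eq
    obtain ⟨n, hn⟩ := exists_trn_eq f σ
    have hσbad : ¬ CodimLE f k σ := hξ σ (hTS hσT) hfσ hσξ
    refine ⟨{x : X | x ∈ T ∧ ∃ z ∈ T, f z = f x ∧ z ⤳ x ∧ ((n + 1 : ℕ) : ℕ∞) ≤ trn f z},
      isClosed_setOf_exists_generization f T hTc (n + 1), ?_, ?_⟩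
    · rintro ⟨-, z, hzT, hfz, hzξ, hle⟩
      have hσz : σ ⤳ z := hσ.specializes hzT
      by_cases hne : σ = z
      · rw [← hne, hn] at hle
        have : n + 1 ≤ n := by exact_mod_cast hle
        omega
      · have hlt := trn_lt_of_specializes f z σ (hfσ.trans hfz.symm) hσz hne
        rw [hn] at hlt
        have h2 := lt_of_le_of_lt hle hlt
        have : n + 1 < n := by exact_mod_cast h2
        omega
    · intro x hxK z hzT hfz hzx hzc
      have hxT : x ∈ T := hzx.mem_closed hTc hzT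
      obtain ⟨t, ht⟩ := exists_trn_eq f z
      have htn : t ≤ n := by
        by_contra hcon
        apply hxK
        refine ⟨hxT, z, hzT, hfz, hzx, ?_⟩
        rw [ht]
        exact_mod_cast (by omega : n + 1 ≤ t)
      have hσz : σ ⤳ z := hσ.specializes hzT
      have h1 := (codimLE_iff f k z t ht).mp hzc
      have h2 := fibreDimAt_le_of_specializes_of_le f σ z hσz (t + k) h1
      apply hσbad
      rw [codimLE_iff f k σ n hn]
      refine le_trans h2 ?_
      exact_mod_cast (by omega : t + k ≤ n + k)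
  · exact ⟨T, hTc, hξT, fun x hxT z hzT _ hzx _ => hxT (hzx.mem_closed hTc hzT)⟩

/-- **the generic alternative.** -/
theorem generic_rSet [NoetherianSpace X] (Sg : Set X) (hSg : IsClosed Sg) (k : ℕ) (ξ : X)
    (hgen : ∀ s : Y, f ξ ⤳ s) :
    ∃ W : Set X, IsOpen W ∧ ξ ∈ W ∧
      (W ∩ closure {ξ} ⊆ RSet f Sg k ∨ W ∩ closure {ξ} ⊆ (RSet f Sg k)ᶜ) := by
  by_cases hξ : ξ ∈ RSet f Sg k
  · obtain ⟨S, hSf, hSc, hSi, hSU⟩ :=
      NoetherianSpace.exists_finite_set_isClosed_irreducible hSg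
    have hcomp : ∀ T ∈ S, ∃ K : Set X, IsClosed K ∧ ξ ∉ K ∧ ∀ x : X, x ∉ K → ∀ z ∈ T,
        f z = f x → z ⤳ x → ¬ CodimLE f k z := by
      intro T hT
      refine caseB_component f Sg k ξ hgen hξ T (hSc T hT) (hSi T hT) ?_
      rw [hSU]
      exact Set.subset_sUnion_of_mem hT
    choose! K hK using hcomp
    refine ⟨(⋃ T ∈ S, K T)ᶜ, (hSf.isClosed_biUnion fun T hT => (hK T hT).1).isOpen_compl,
      ?_, Or.inl ?_⟩
    · simp only [Set.mem_compl_iff, Set.mem_iUnion, not_exists]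
      intro T hT
      exact (hK T hT).2.1
    · rintro x ⟨hxW, -⟩ z hzS hfz hzx
      rw [hSU] at hzS
      obtain ⟨T, hT, hzT⟩ := hzS
      simp only [Set.mem_compl_iff, Set.mem_iUnion, not_exists] at hxW
      exact (hK T hT).2.2 x (hxW T hT) z hzT hfz hzx
  · obtain ⟨W, hW, hξW, h⟩ := caseA f Sg hSg k ξ hξ
    exact ⟨W, hW, hξW, Or.inr h⟩

end Groth.Agent.Lib.Helper20.GRkC
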