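import Mathlib
import Groth.Agent.Lib.Helper20.SkFib5
import Groth.Agent.Lib.Helper20.AssDim2

/-!
# The dimension of the fibre module at a point: intrinsic and chart forms (helper20)

The analogue for `Module.supportDim` of the depth pipeline `fibre_depth_eq`/`xdepth_eq_chart`.
-/

set_option autoImplicit false
set_option linter.style.haveILetI false
set_option linter.unusedSectionVars false
set_option linter.dupNamespace false
universe u

open IsLocalRing TensorProduct CategoryTheory CategoryTheory.Limits AlgebraicGeometry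
  TopologicalSpace

namespace Groth.Agent.Lib.Helper20.EquiSk

open Groth.Agent.Lib.Helper14.CMMod Groth.Agent.Lib.Helper12 Groth.Agent.Lib.Helper20.RD
  Groth.Agent.Lib.Helper20.SkFib

section Abstract

/-- the dimension is invariant under semilinear isomorphisms along a surjective ring map. -/
theorem sd_eq_of_semilinear {R R' : Type u} [CommRing R] [CommRing R'] [IsLocalRing R]
    [IsLocalRing R'] (φ : R →+* R') (hφ : Function.Surjective φ)
    {M M' : Type u} [AddCommGroup M] [Module R M] [AddCommGroup M'] [Module R' M']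
    (g : M ≃+ M') (hg : ∀ (r : R) (m : M), g (r • m) = φ r • g m) :
    Module.supportDim R M = Module.supportDim R' M' := by
  letI : Algebra R R' := φ.toAlgebra
  letI : Module R M' := Module.compHom M' φ
  haveI : IsScalarTower R R' M' := IsScalarTower.of_algebraMap_smul fun r m => rfl
  let e : M ≃ₗ[R] M' := { g with map_smul' := fun r m => hg r m }
  rw [Module.supportDim_eq_of_equiv e]
  exact supportDim_eq_of_surjective (R := R) (R' := R') hφ M'

/-- transfer of the dimension of `W / K W` along a semilinear isomorphism over a ring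
isomorphism. -/
theorem sdq_eq_of_equiv {L L' : Type u} [CommRing L] [CommRing L'] [IsLocalRing L]
    [IsLocalRing L'] (θ : L ≃+* L') {W W' : Type u} [AddCommGroup W] [Module L W]
    [AddCommGroup W'] [Module L' W'] (g : W ≃+ W') (hg : ∀ l w, g (l • w) = θ l • g w)
    (K : Ideal L) (K' : Ideal L') (hK : K.map (θ : L →+* L') = K') :
    Module.supportDim L (W ⧸ K • (⊤ : Submodule L W)) =
      Module.supportDim L' (W' ⧸ K' • (⊤ : Submodule L' W')) := by
  letI aLL' : Algebra L L' := (θ : L →+* L').toAlgebra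
  letI mLW' : Module L W' := Module.compHom W' (θ : L →+* L')
  haveI tLL'W' : IsScalarTower L L' W' := IsScalarTower.of_algebraMap_smul fun r m => rfl
  let ĝ : W ≃ₗ[L] W' := { g with map_smul' := fun l w => hg l w }
  have h1 : (K • (⊤ : Submodule L W)).map ĝ.toLinearMap =
      (K' • (⊤ : Submodule L' W')).restrictScalars L := by
    rw [Submodule.map_smul'', Submodule.map_top, LinearMap.range_eq_top.2 ĝ.surjective]
    have h2 := Ideal.smul_restrictScalars (S := L') K (⊤ : Submodule L' W')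
    rw [Submodule.restrictScalars_top] at h2
    rw [← h2]
    congr 2
  let e : (W ⧸ K • (⊤ : Submodule L W)) ≃ₗ[L] (W' ⧸ K' • (⊤ : Submodule L' W')) :=
    (Submodule.Quotient.equiv _ _ ĝ h1).trans
      (Submodule.Quotient.restrictScalarsEquiv L (K' • (⊤ : Submodule L' W')))
  have hsemi : ∀ (l : L) (m : W ⧸ K • (⊤ : Submodule L W)),
      e.toAddEquiv (l • m) = (θ : L →+* L') l • e.toAddEquiv m := fun l m => by
    change e (l • m) = _
    rw [e.map_smul]
    exact (algebraMap_smul L' l (e m)).symm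
  exact sd_eq_of_semilinear (θ : L →+* L') θ.surjective e.toAddEquiv hsemi

/-- the dimension of a base change along a surjection. -/
theorem sd_eq_of_isBaseChange {R R₀ : Type u} [CommRing R] [CommRing R₀]
    [IsLocalRing R] [IsLocalRing R₀] [Algebra R R₀]
    (hφ : Function.Surjective (algebraMap R R₀))
    {M M₁ : Type u} [AddCommGroup M] [Module R M] [AddCommGroup M₁] [Module R₀ M₁]
    [Module R M₁] [IsScalarTower R R₀ M₁] (γ : M →ₗ[R] M₁) (hγ : IsBaseChange R₀ γ)
    (K : Ideal R) (hK : RingHom.ker (algebraMap R R₀) = K) :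
    Module.supportDim R₀ M₁ = Module.supportDim R (M ⧸ K • (⊤ : Submodule R M)) := by
  have hK' : RingHom.ker (Algebra.ofId R R₀) = K := by
    rw [← hK]
    rfl
  subst hK'
  let e₁ : (M ⧸ (RingHom.ker (Algebra.ofId R R₀)) • (⊤ : Submodule R M)) ≃ₗ[R]
      (R ⧸ RingHom.ker (Algebra.ofId R R₀)) ⊗[R] M :=
    (TensorProduct.quotTensorEquivQuotSMul M _).symm
  let a : (R ⧸ RingHom.ker (Algebra.ofId R R₀)) ≃ₗ[R] R₀ :=
    (Ideal.quotientKerAlgEquivOfSurjective (f := Algebra.ofId R R₀) hφ).toLinearEquiv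
  let e₂ : (R ⧸ RingHom.ker (Algebra.ofId R R₀)) ⊗[R] M ≃ₗ[R] R₀ ⊗[R] M :=
    TensorProduct.congr a (LinearEquiv.refl R M)
  let e₃ : R₀ ⊗[R] M ≃ₗ[R] M₁ := hγ.equiv.restrictScalars R
  let e := e₁ ≪≫ₗ e₂ ≪≫ₗ e₃
  have hsemi : ∀ (r : R) (m : M ⧸ (RingHom.ker (Algebra.ofId R R₀)) • (⊤ : Submodule R M)),
      e.toAddEquiv (r • m) = (algebraMap R R₀) r • e.toAddEquiv m := fun r m => by
    change e (r • m) = _
    rw [e.map_smul]
    exact (algebraMap_smul R₀ r (e m)).symm
  exact (sd_eq_of_semilinear (algebraMap R R₀) hφ e.toAddEquiv hsemi).symm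

end Abstract

section Ring

variable (A B : Type u) [CommRing A] [CommRing B] [Algebra A B]
  (N : Type u) [AddCommGroup N] [Module B N] (Q : Ideal B) [Q.IsPrime]

/-- the dimension of the fibre module `N_Q / p N_Q` over `B_Q`. -/
noncomputable def fsdim : WithBot ℕ∞ :=
  Module.supportDim (Localization.AtPrime Q) (LocalizedModule Q.primeCompl N ⧸
    (Ideal.map (algebraMap A (Localization.AtPrime Q)) (Q.comap (algebraMap A B))) •
      (⊤ : Submodule (Localization.AtPrime Q) (LocalizedModule Q.primeCompl N)))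

theorem fsdim_eq_fibLoc :
    fsdim A B N Q = Module.supportDim (EGA4.FibLocRing A B Q) (EGA4.FibLocMod A B Q N) := by
  haveI := isLocalRing_fibLocRing A B Q
  unfold fsdim
  exact supportDim_eq_of_surjective (R := Localization.AtPrime Q) (R' := EGA4.FibLocRing A B Q)
    Ideal.Quotient.mk_surjective (EGA4.FibLocMod A B Q N)

theorem fsdim_congr_prime (q₁ q₂ : Ideal B) [q₁.IsPrime] [q₂.IsPrime]
    (h : q₁ = q₂) : fsdim A B N q₁ = fsdim A B N q₂ := by
  subst h
  rfl

end Ring

section Sch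

open Groth.Agent.Lib.Helper3 Groth.Agent.Lib.Helper1.FlatAffine Groth.Agent.Lib.Helper17
  Groth.Agent.Lib.Helper14.FlatOpen

variable {X Y : Scheme.{u}} (f : X ⟶ Y) (F : X.Modules)

/-- the dimension of `F_x / 𝔪_{f x} F_x` over `O_{X,x}`. -/
noncomputable def xsdim (x : X) : WithBot ℕ∞ :=
  Module.supportDim (X.presheaf.stalk x) (F.presheaf.stalk x ⧸
    (Ideal.map (f.stalkMap x).hom (IsLocalRing.maximalIdeal (Y.presheaf.stalk (f.base x)))) •
      (⊤ : Submodule (X.presheaf.stalk x) (F.presheaf.stalk x)))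

/-- the dimension on the fibre is the intrinsic dimension. -/
theorem fibre_sdim_eq [F.IsQuasicoherent] (s : Y) (z : f.fiber s) :
    Module.supportDim ((f.fiber s).presheaf.stalk z)
        (((Scheme.Modules.pullback (f.fiberι s)).obj F).presheaf.stalk z) =
      xsdim f F ((f.fiberι s).base z) := by
  letI := ((f.fiberι s).stalkMap z).hom.toAlgebra
  letI : Module (X.presheaf.stalk ((f.fiberι s) z))
      (((Scheme.Modules.pullback (f.fiberι s)).obj F).presheaf.stalk z) :=
    Module.compHom _ ((f.fiberι s).stalkMap z).hom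
  obtain ⟨hst, γ, hγ⟩ := PbStalk.exists_isBaseChange_stalk (f.fiberι s) F z
  obtain ⟨hsurj, hker⟩ := FibreStalkMap.stalkMap_fiberι f s z
  exact sd_eq_of_isBaseChange hsurj γ hγ _ hker

variable {U : X.Opens} {V : Y.Opens} (hU : IsAffineOpen U) (hV : IsAffineOpen V)
  (hUV : U ≤ f ⁻¹ᵁ V)

include hU hV in
set_option maxHeartbeats 1600000 in
/-- the intrinsic dimension on an affine chart. -/
theorem xsdim_eq_chart [F.IsQuasicoherent] (x : X) (hx : x ∈ U) :
    letI a0 : Algebra Γ(Y, V) Γ(X, U) := (f.appLE V U hUV).hom.toAlgebra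
    xsdim f F x = fsdim Γ(Y, V) Γ(X, U) Γ(F, U) (hU.primeIdealOf ⟨x, hx⟩).asIdeal := by
  letI a0 : Algebra Γ(Y, V) Γ(X, U) := (f.appLE V U hUV).hom.toAlgebra
  obtain ⟨i1, i2, i3, i4, gF, hg1, hg2, hg3⟩ := QS.exists_isLocalizedModule hU F x hx
  have hyV : f x ∈ V := hUV hx
  -- the ring isomorphism
  let θ : X.presheaf.stalk x ≃ₐ[Γ(X, U)] Localization.AtPrime (hU.primeIdealOf ⟨x, hx⟩).asIdeal :=
    IsLocalization.algEquiv (hU.primeIdealOf ⟨x, hx⟩).asIdeal.primeCompl _ _
  letI mLW : Module (X.presheaf.stalk x)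
      (LocalizedModule (hU.primeIdealOf ⟨x, hx⟩).asIdeal.primeCompl Γ(F, U)) :=
    Module.compHom _ (θ : X.presheaf.stalk x →+*
      Localization.AtPrime (hU.primeIdealOf ⟨x, hx⟩).asIdeal)
  haveI tBLW : IsScalarTower Γ(X, U) (X.presheaf.stalk x)
      (LocalizedModule (hU.primeIdealOf ⟨x, hx⟩).asIdeal.primeCompl Γ(F, U)) := by
    refine IsScalarTower.of_algebraMap_smul fun b w => ?_
    change θ (algebraMap _ _ b) • w = b • w
    rw [θ.commutes, algebraMap_smul]
  let g₀ : F.presheaf.stalk x ≃ₗ[Γ(X, U)]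
      LocalizedModule (hU.primeIdealOf ⟨x, hx⟩).asIdeal.primeCompl Γ(F, U) :=
    IsLocalizedModule.linearEquiv (hU.primeIdealOf ⟨x, hx⟩).asIdeal.primeCompl gF
      (LocalizedModule.mkLinearMap (hU.primeIdealOf ⟨x, hx⟩).asIdeal.primeCompl Γ(F, U))
  let g₁ : F.presheaf.stalk x ≃ₗ[X.presheaf.stalk x]
      LocalizedModule (hU.primeIdealOf ⟨x, hx⟩).asIdeal.primeCompl Γ(F, U) :=
    LinearEquiv.extendScalarsOfIsLocalization (hU.primeIdealOf ⟨x, hx⟩).asIdeal.primeCompl
      (X.presheaf.stalk x) g₀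
  unfold xsdim fsdim
  refine sdq_eq_of_equiv θ.toRingEquiv g₁.toAddEquiv (fun l w => g₁.map_smul l w) _ _ ?_
  -- the ideals
  letI aBB' : Algebra Γ(Y, V) (Y.presheaf.stalk (f x)) :=
    TopCat.Presheaf.algebra_section_stalk Y.presheaf (U := V) ⟨f x, hyV⟩
  haveI locB' : IsLocalization.AtPrime (Y.presheaf.stalk (f x))
      (hV.primeIdealOf ⟨f x, hyV⟩).asIdeal := hV.isLocalization_stalk ⟨f x, hyV⟩
  have hq : (hU.primeIdealOf ⟨x, hx⟩).asIdeal.comap (algebraMap Γ(Y, V) Γ(X, U)) =
      (hV.primeIdealOf ⟨f x, hyV⟩).asIdeal :=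
    congrArg PrimeSpectrum.asIdeal (IsAffineOpen.comap_primeIdealOf_appLE V hV U hU hUV hx)
  have hmax : IsLocalRing.maximalIdeal (Y.presheaf.stalk (f.base x)) =
      Ideal.map (algebraMap Γ(Y, V) (Y.presheaf.stalk (f x)))
        (hV.primeIdealOf ⟨f x, hyV⟩).asIdeal :=
    (IsLocalization.AtPrime.map_eq_maximalIdeal (hV.primeIdealOf ⟨f x, hyV⟩).asIdeal
      (Y.presheaf.stalk (f x))).symm
  rw [hmax, hq, Ideal.map_map, Ideal.map_map]
  congr 1
  ext a
  simp only [RingHom.comp_apply]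
  have e1 : algebraMap Γ(Y, V) (Y.presheaf.stalk (f x)) a = Y.presheaf.germ V (f x) hyV a := rfl
  rw [e1, ← germ_appLE f hUV x hx a, ← hg1]
  change θ (algebraMap Γ(X, U) (X.presheaf.stalk x) (algebraMap Γ(Y, V) Γ(X, U) a)) = _
  rw [θ.commutes, ← IsScalarTower.algebraMap_apply]

end Sch

end Groth.Agent.Lib.Helper20.EquiSk
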