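import Mathlib
import Groth.Agent.Lib.Helper20.EquiSk1
import Groth.Agent.Lib.Helper4.LocTrans
import Groth.Agent.Lib.Helper17.CohStalk

/-!
# Localizations of the stalk of a module are the stalks at the generizations (depth and
dimension) (helper20)
-/

set_option autoImplicit false
set_option linter.style.haveILetI false
set_option linter.unusedSectionVars false
set_option linter.dupNamespace false
universe u

open IsLocalRing TensorProduct CategoryTheory CategoryTheory.Limits AlgebraicGeometry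
  TopologicalSpace

namespace Groth.Agent.Lib.Helper20.EquiSk

open Groth.Agent.Lib.Helper3 Groth.Agent.Lib.Helper17 Groth.Agent.Lib.Helper4

theorem dsd_congr_prime {R : Type u} [CommRing R] (M : Type u) [AddCommGroup M] [Module R M]
    (q₁ q₂ : Ideal R) [q₁.IsPrime] [q₂.IsPrime] (h : q₁ = q₂) :
    LocCoh.depth (Localization.AtPrime q₁) (LocalizedModule q₁.primeCompl M) =
      LocCoh.depth (Localization.AtPrime q₂) (LocalizedModule q₂.primeCompl M) ∧
    Module.supportDim (Localization.AtPrime q₁) (LocalizedModule q₁.primeCompl M) =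
      Module.supportDim (Localization.AtPrime q₂) (LocalizedModule q₂.primeCompl M) := by
  subst h
  exact ⟨rfl, rfl⟩

variable {W : Scheme.{u}} (G : W.Modules) [G.IsQuasicoherent] [G.IsFiniteType]

theorem fromSpecStalk_specializes (x : W) (𝔭 : PrimeSpectrum (W.presheaf.stalk x)) :
    (W.fromSpecStalk x).base 𝔭 ⤳ x := by
  have : (W.fromSpecStalk x).base 𝔭 ∈ Set.range (W.fromSpecStalk x).base := ⟨_, rfl⟩
  rw [Scheme.range_fromSpecStalk] at this
  exact this

set_option maxHeartbeats 1600000 in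
/-- **the localization of the stalk of a module at a prime has the depth and dimension of the
stalk at the corresponding generization.** -/
theorem dsd_localization_stalk (x : W) (𝔭 : Ideal (W.presheaf.stalk x)) [h𝔭 : 𝔭.IsPrime] :
    LocCoh.depth (Localization.AtPrime 𝔭) (LocalizedModule 𝔭.primeCompl (G.presheaf.stalk x)) =
      LocCoh.depth (W.presheaf.stalk ((W.fromSpecStalk x).base ⟨𝔭, h𝔭⟩))
        (G.presheaf.stalk ((W.fromSpecStalk x).base ⟨𝔭, h𝔭⟩)) ∧
    Module.supportDim (Localization.AtPrime 𝔭)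
        (LocalizedModule 𝔭.primeCompl (G.presheaf.stalk x)) =
      Module.supportDim (W.presheaf.stalk ((W.fromSpecStalk x).base ⟨𝔭, h𝔭⟩))
        (G.presheaf.stalk ((W.fromSpecStalk x).base ⟨𝔭, h𝔭⟩)) := by
  obtain ⟨_, ⟨U, hU, rfl⟩, hxU, -⟩ := W.isBasis_affineOpens.exists_subset_of_mem_open
    (Set.mem_univ x) isOpen_univ
  obtain ⟨ζ, hζ⟩ : ∃ ζ : W, ζ = (W.fromSpecStalk x).base ⟨𝔭, h𝔭⟩ := ⟨_, rfl⟩
  rw [← hζ]
  have hζx : ζ ⤳ x := hζ ▸ fromSpecStalk_specializes x ⟨𝔭, h𝔭⟩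
  have hζU : ζ ∈ U := hζx.mem_open U.2 hxU
  haveI hfin : Module.Finite Γ(W, U) Γ(G, U) := QCProps.finite_sections G hU
  obtain ⟨i1, i2, i3, i4, g, hg1, hg2, hg3⟩ := QS.exists_isLocalizedModule hU G x hxU
  obtain ⟨j1, j2, j3, j4, gζ, hgζ1, hgζ2, hgζ3⟩ := QS.exists_isLocalizedModule hU G ζ hζU
  have h2 := LocTrans.depth_supportDim_of_isLocalizedModule (hU.primeIdealOf ⟨ζ, hζU⟩).asIdeal
    (W.presheaf.stalk ζ) (G.presheaf.stalk ζ) gζ
  -- the prime
  have hq : 𝔭.comap (algebraMap Γ(W, U) (W.presheaf.stalk x)) =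
      (hU.primeIdealOf ⟨ζ, hζU⟩).asIdeal := by
    have h3 := CohStalk.primeIdealOf_fromSpecStalk hU x hxU ⟨𝔭, h𝔭⟩ (hζ ▸ hζU)
    have h4 : hU.primeIdealOf ⟨ζ, hζU⟩ =
        hU.primeIdealOf ⟨(W.fromSpecStalk x).base ⟨𝔭, h𝔭⟩, hζ ▸ hζU⟩ := by
      congr 1
      exact Subtype.ext hζ
    rw [h4, h3]
    ext r
    rw [Ideal.mem_comap, hg1]
    rfl
  haveI : (𝔭.comap (algebraMap Γ(W, U) (W.presheaf.stalk x))).IsPrime := Ideal.IsPrime.comap _
  haveI l1 : IsLocalization.AtPrime (Localization.AtPrime 𝔭)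
      (𝔭.comap (algebraMap Γ(W, U) (W.presheaf.stalk x))) :=
    IsLocalization.isLocalization_isLocalization_atPrime_isLocalization
      (hU.primeIdealOf ⟨x, hxU⟩).asIdeal.primeCompl (Localization.AtPrime 𝔭) 𝔭
  haveI l2 := LocTrans.isLocalizedModule_comp_localization
    (hU.primeIdealOf ⟨x, hxU⟩).asIdeal.primeCompl 𝔭 g
    (LocalizedModule.mkLinearMap 𝔭.primeCompl (G.presheaf.stalk x))
  have h1 := LocTrans.depth_supportDim_of_isLocalizedModule
    (𝔭.comap (algebraMap Γ(W, U) (W.presheaf.stalk x)))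
    (Localization.AtPrime 𝔭) (LocalizedModule 𝔭.primeCompl (G.presheaf.stalk x))
    (((LocalizedModule.mkLinearMap 𝔭.primeCompl (G.presheaf.stalk x)).restrictScalars Γ(W, U)) ∘ₗ g)
  have h3 := dsd_congr_prime Γ(G, U) _ _ hq
  exact ⟨h1.1.trans (h3.1.trans h2.1.symm), h1.2.trans (h3.2.trans h2.2.symm)⟩

end Groth.Agent.Lib.Helper20.EquiSk
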