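import Mathlib
import Groth.Agent.Lib.Helper20.EquiSk2

/-!
# `(S_k)` for the stalk of the fibre module: pointwise form, chart form, openness (helper20)
-/

set_option autoImplicit false
set_option linter.style.haveILetI false
set_option linter.unusedSectionVars false
set_option linter.dupNamespace false
universe u

open IsLocalRing TensorProduct CategoryTheory CategoryTheory.Limits AlgebraicGeometry
  TopologicalSpace

namespace Groth.Agent.Lib.Helper20.EquiSk

open Groth.Agent.Lib.Helper14.CMMod Groth.Agent.Lib.Helper12 Groth.Agent.Lib.Helper20.RD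
  Groth.Agent.Lib.Helper20.SkFib Groth.Agent.Lib.Helper20.DepthAlong
  Groth.Agent.Lib.Helper3 Groth.Agent.Lib.Helper17 Groth.Agent.Lib.Helper4

section Gen

variable {W : Scheme.{u}} (G : W.Modules) [G.IsQuasicoherent] [G.IsFiniteType]

/-- `(S_k)` for the stalk of a module, in terms of the stalks at the generizations. -/
theorem hasSk_stalk_iff (k : ℕ) (x : W) :
    LocCoh.HasSk k (W.presheaf.stalk x) (G.presheaf.stalk x) ↔
      ∀ ζ : W, ζ ⤳ x →
        min (k : WithBot ℕ∞) (Module.supportDim (W.presheaf.stalk ζ) (G.presheaf.stalk ζ)) ≤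
          ((LocCoh.depth (W.presheaf.stalk ζ) (G.presheaf.stalk ζ) : ℕ∞) : WithBot ℕ∞) := by
  constructor
  · intro h ζ hζ
    obtain ⟨𝔭, rfl⟩ : ζ ∈ Set.range (W.fromSpecStalk x).base := by
      rw [Scheme.range_fromSpecStalk]
      exact hζ
    have h1 := h 𝔭.asIdeal
    obtain ⟨h2, h3⟩ := dsd_localization_stalk G x 𝔭.asIdeal
    rw [h2, h3] at h1
    exact h1
  · intro h 𝔭 h𝔭
    obtain ⟨h2, h3⟩ := dsd_localization_stalk G x 𝔭
    rw [h2, h3]
    exact h _ (fromSpecStalk_specializes x ⟨𝔭, h𝔭⟩)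

end Gen

section Sch

open Groth.Agent.Lib.Helper1.FlatAffine Groth.Agent.Lib.Helper14.FlatOpen

variable {X Y : Scheme.{u}} (f : X ⟶ Y) (F : X.Modules)

/-- the intrinsic form of `(S_k)` for the stalk of the fibre module. -/
def XSk (k : ℕ) (x : X) : Prop :=
  ∀ z : X, f z = f x → z ⤳ x →
    min (k : WithBot ℕ∞) (xsdim f F z) ≤ ((xdepth f F z : ℕ∞) : WithBot ℕ∞)

theorem fibre_mod_hasSk_iff' [F.IsQuasicoherent] [F.IsFiniteType] (k : ℕ) (s : Y)
    (z : f.fiber s) :
    LocCoh.HasSk k ((f.fiber s).presheaf.stalk z)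
      (((Scheme.Modules.pullback (f.fiberι s)).obj F).presheaf.stalk z) ↔
      XSk f F k ((f.fiberι s).base z) := by
  haveI : ((Scheme.Modules.pullback (f.fiberι s)).obj F).IsQuasicoherent :=
    PbStalk.isQuasicoherent_pullback (f.fiberι s) F
  haveI : ((Scheme.Modules.pullback (f.fiberι s)).obj F).IsFiniteType :=
    PbFinite.isFiniteType_pullback (f.fiberι s) F
  rw [hasSk_stalk_iff]
  have hemb := (f.fiberι s).isEmbedding
  constructor
  · intro h z' hfz' hz'x
    have hfz's : f z' = s := hfz'.trans (AssDim.apply_fiberι' f s z)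
    set ζ := (f.fiberHomeo s).symm ⟨z', hfz's⟩ with hζ
    have hιζ : (f.fiberι s).base ζ = z' := f.fiberι_fiberHomeo_symm s ⟨z', hfz's⟩
    have hsp : ζ ⤳ z := by
      apply hemb.isInducing.specializes_iff.mp
      rw [hιζ]
      exact hz'x
    have h1 := h ζ hsp
    rw [fibre_depth_eq f F s ζ, fibre_sdim_eq f F s ζ, hιζ] at h1
    exact h1
  · intro h ζ hζ
    have hsp : (f.fiberι s).base ζ ⤳ (f.fiberι s).base z := hζ.map (f.fiberι s).continuous
    have h1 := h _ ((AssDim.apply_fiberι' f s ζ).trans (AssDim.apply_fiberι' f s z).symm) hsp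
    rw [fibre_depth_eq f F s ζ, fibre_sdim_eq f F s ζ]
    exact h1

theorem fibre_mod_hasSk_iff [F.IsQuasicoherent] [F.IsFiniteType] (k : ℕ) (x : X) :
    LocCoh.HasSk k ((f.fiber (f.base x)).presheaf.stalk (f.asFiber x))
      (((Scheme.Modules.pullback (f.fiberι (f.base x))).obj F).presheaf.stalk (f.asFiber x)) ↔
      XSk f F k x := by
  rw [fibre_mod_hasSk_iff' f F k (f.base x) (f.asFiber x)]
  have hx₀ : (f.fiberι (f.base x)).base (f.asFiber x) = x := f.fiberι_asFiber x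
  rw [hx₀]

variable {U : X.Opens} {V : Y.Opens} (hU : IsAffineOpen U) (hV : IsAffineOpen V)
  (hUV : U ≤ f ⁻¹ᵁ V)

include hU hV in
set_option maxHeartbeats 1600000 in
/-- the chart form. -/
theorem xsk_iff_chart [F.IsQuasicoherent] [F.IsFiniteType] [LocallyOfFiniteType f] (k : ℕ)
    (x : X) (hx : x ∈ U) :
    letI a0 : Algebra Γ(Y, V) Γ(X, U) := (f.appLE V U hUV).hom.toAlgebra
    XSk f F k x ↔
      LocCoh.HasSk k (EGA4.FibLocRing Γ(Y, V) Γ(X, U) (hU.primeIdealOf ⟨x, hx⟩).asIdeal)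
        (EGA4.FibLocMod Γ(Y, V) Γ(X, U) (hU.primeIdealOf ⟨x, hx⟩).asIdeal Γ(F, U)) := by
  letI a0 : Algebra Γ(Y, V) Γ(X, U) := (f.appLE V U hUV).hom.toAlgebra
  letI a1 : Module Γ(Y, V) Γ(F, U) := Module.compHom _ (f.appLE V U hUV).hom
  haveI a2 : IsScalarTower Γ(Y, V) Γ(X, U) Γ(F, U) :=
    IsScalarTower.of_algebraMap_smul fun r n => rfl
  haveI : Module.Finite Γ(X, U) Γ(F, U) := QCProps.finite_sections F hU
  haveI : Algebra.FiniteType Γ(Y, V) Γ(X, U) := f.finiteType_appLE hV hU hUV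
  rw [FibLocGen.hasSk_fib_iff]
  constructor
  · intro h q' _ hq'Q hco
    obtain ⟨z, hzU, hzq, hzx⟩ := point_of_prime f hU hV hUV x hx q' hq'Q hco
    haveI := (hU.primeIdealOf ⟨(f.fiberι (f.base x)).base z, hzU⟩).isPrime
    have h1 := h _ (AssDim.apply_fiberι' f (f x) z) hzx
    rw [xsdim_eq_chart f F hU hV hUV _ hzU, xdepth_eq_chart f F hU hV hUV _ hzU,
      fsdim_congr_prime _ _ _ _ _ hzq, fdepth_congr_prime _ _ _ _ _ hzq,
      fsdim_eq_fibLoc, fdepth_eq_fibLoc] at h1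
    exact h1
  · intro h z' hfz' hz'x
    have hz'U : z' ∈ U := hz'x.mem_open U.2 hx
    haveI := (hU.primeIdealOf ⟨z', hz'U⟩).isPrime
    have hle : (hU.primeIdealOf ⟨z', hz'U⟩).asIdeal ≤ (hU.primeIdealOf ⟨x, hx⟩).asIdeal :=
      (SchemeDimFT.primeIdealOf_le_iff hU ⟨_, hz'U⟩ ⟨x, hx⟩).mpr hz'x
    have hco : (hU.primeIdealOf ⟨z', hz'U⟩).asIdeal.comap (algebraMap Γ(Y, V) Γ(X, U)) =
        (hU.primeIdealOf ⟨x, hx⟩).asIdeal.comap (algebraMap Γ(Y, V) Γ(X, U)) := by
      have h1 := IsAffineOpen.comap_primeIdealOf_appLE V hV U hU hUV hz'U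
      have h2 := IsAffineOpen.comap_primeIdealOf_appLE V hV U hU hUV hx
      have h3 : hV.primeIdealOf ⟨f z', hUV hz'U⟩ = hV.primeIdealOf ⟨f x, hUV hx⟩ := by
        congr 1
        exact Subtype.ext hfz'
      exact congrArg PrimeSpectrum.asIdeal (h1.trans (h3.trans h2.symm))
    have h1 := h _ hle hco
    rw [xsdim_eq_chart f F hU hV hUV _ hz'U, xdepth_eq_chart f F hU hV hUV _ hz'U,
      fsdim_eq_fibLoc, fdepth_eq_fibLoc]
    exact h1

omit hU hV hUV in
/-- **openness of the locus where the stalk of the fibre module of a flat finitely presented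
module satisfies `(S_k)`.** -/
theorem isOpen_xsk [LocallyOfFinitePresentation f] [F.IsQuasicoherent]
    [SheafOfModules.IsFinitePresentation (R := X.ringCatSheaf) F]
    (hflat : FlatMod.IsFlatOver f F) (k : ℕ) : IsOpen {x : X | XSk f F k x} := by
  refine isOpen_iff_forall_mem_open.mpr fun x hx ↦ ?_
  obtain ⟨_, ⟨V, hV, rfl⟩, hxV, -⟩ :=
    Y.isBasis_affineOpens.exists_subset_of_mem_open (Set.mem_univ (f x)) isOpen_univ
  obtain ⟨_, ⟨U, hU, rfl⟩, hxU, hUV⟩ :=
    X.isBasis_affineOpens.exists_subset_of_mem_open hxV (V.2.preimage f.continuous)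
  letI a0 : Algebra Γ(Y, V) Γ(X, U) := (f.appLE V U hUV).hom.toAlgebra
  letI a1 : Module Γ(Y, V) Γ(F, U) := Module.compHom _ (f.appLE V U hUV).hom
  haveI a2 : IsScalarTower Γ(Y, V) Γ(X, U) Γ(F, U) :=
    IsScalarTower.of_algebraMap_smul fun r n => rfl
  haveI : Algebra.FinitePresentation Γ(Y, V) Γ(X, U) := f.finitePresentation_appLE hV hU hUV
  haveI : Module.FinitePresentation Γ(X, U) Γ(F, U) := QCProps.finitePresentation_sections F hU
  have hfl := (isFlatOverAt_iff_localizedModule f F hU hV hUV x hxU).mp (hflat x)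
  have hsk := (xsk_iff_chart f F hU hV hUV k x hxU).mp hx
  obtain ⟨c, hc, hall⟩ := RM_Sk Γ(Y, V) Γ(X, U) Γ(F, U) (hU.primeIdealOf ⟨x, hxU⟩).asIdeal k
    hfl hsk
  refine ⟨X.basicOpen c, ?_, (X.basicOpen c).2, ?_⟩
  · intro y hy
    have hyU : y ∈ U := X.basicOpen_le c hy
    have h3 := hall _ ((mem_basicOpen_iff_notMem_primeIdealOf hU y hyU c).mp hy)
    exact (xsk_iff_chart f F hU hV hUV k y hyU).mpr h3.2
  · exact (mem_basicOpen_iff_notMem_primeIdealOf hU x hxU c).mpr hc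

end Sch

end Groth.Agent.Lib.Helper20.EquiSk
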