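import Mathlib
import Groth.Agent.Lib.Helper20.EquiSk3
import Groth.Agent.Lib.Helper12.Equidim
import Groth.Agent.Lib.Helper12.DimFun
import Groth.Agent.Lib.Helper9.SemiLocal
import Groth.Agent.Lib.Helper4.Sk

/-!
# Equidimensionality of the stalk of a module on a scheme of finite type over a field (helper20)
-/

set_option autoImplicit false
set_option linter.style.haveILetI false
set_option linter.unusedSectionVars false
set_option linter.dupNamespace false
universe u

open IsLocalRing TensorProduct CategoryTheory CategoryTheory.Limits AlgebraicGeometry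
  TopologicalSpace

namespace Groth.Agent.Lib.Helper20.EquiSk

open Groth.Agent.Lib.Helper12 Groth.Agent.Lib.Helper3 Groth.Agent.Lib.Helper17
  Groth.Agent.Lib.Helper4 Groth.Agent.Lib.Helper12.SchemeDimFT

section Alg

variable {R : Type u} [CommRing R] {M : Type u} [AddCommGroup M] [Module R M] [Module.Finite R M]

/-- the dimension of a finite module is bounded by the dimensions of the minimal primes of its
support. -/
theorem supportDim_le_of_minimalPrimes (c : WithBot ℕ∞)
    (h : ∀ P ∈ (Module.annihilator R M).minimalPrimes, ringKrullDim (R ⧸ P) ≤ c) :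
    Module.supportDim R M ≤ c := by
  unfold Module.supportDim Order.krullDim
  refine iSup_le fun l => ?_
  have hmem : ∀ p : PrimeSpectrum R, p ∈ Module.support R M →
      Module.annihilator R M ≤ p.asIdeal := by
    intro p hp
    rw [Module.support_eq_zeroLocus, PrimeSpectrum.mem_zeroLocus, SetLike.coe_subset_coe] at hp
    exact hp
  have hann : Module.annihilator R M ≤ l.head.1.asIdeal := hmem _ l.head.2
  obtain ⟨P, hP, hPle⟩ := Ideal.exists_minimalPrimes_le hann
  have hPp : P.IsPrime := hP.1.1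
  have hPsupp : (⟨P, hPp⟩ : PrimeSpectrum R) ∈ Module.support R M := by
    rw [Module.support_eq_zeroLocus, PrimeSpectrum.mem_zeroLocus, SetLike.coe_subset_coe]
    exact hP.1.2
  let P' : Module.support R M := ⟨⟨P, hPp⟩, hPsupp⟩
  have h1 : (l.length : ℕ∞) ≤ Order.coheight l.head := Order.length_le_coheight_head
  have h2 : Order.coheight l.head ≤ Order.coheight P' :=
    Order.coheight_anti (show P' ≤ l.head from hPle)
  have h3 := Groth.Agent.Lib.Helper9.coheight_le_ringKrullDim_quotient (Module.support R M) P'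
  calc (l.length : WithBot ℕ∞) ≤ (Order.coheight P' : WithBot ℕ∞) := by
        exact_mod_cast h1.trans h2
    _ ≤ ringKrullDim (R ⧸ P) := h3
    _ ≤ c := h P hP

omit [Module.Finite R M] in
theorem hasSk_mono' {j k : ℕ} (hjk : j ≤ k) (h : LocCoh.HasSk k R M) : LocCoh.HasSk j R M := by
  intro p _
  refine le_trans (min_le_min_right _ ?_) (h p)
  exact_mod_cast hjk

/-- under `(S_1)`, equidimensionality is the constancy of `dim R/𝔭` on the associated primes. -/
theorem isEquidimModule_iff_of_hasS1 [IsNoetherianRing R] (hS1 : LocCoh.HasSk 1 R M) :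
    EGA4.IsEquidimModule R M ↔
      ∃ c : WithBot ℕ∞, ∀ 𝔭 ∈ associatedPrimes R M, ringKrullDim (R ⧸ 𝔭) = c := by
  have hne := noEmbedded_iff_hasS1.mpr hS1
  constructor
  · intro h
    refine ⟨Module.supportDim R M, fun 𝔭 h𝔭 => ?_⟩
    have h1 := hne 𝔭 h𝔭
    exact h 𝔭 h1
  · rintro ⟨c, hc⟩
    intro 𝔭 h𝔭
    have h𝔭ass : 𝔭 ∈ associatedPrimes R M :=
      Module.associatedPrimes.minimalPrimes_annihilator_subset_associatedPrimes R M h𝔭
    have h𝔭p : 𝔭.IsPrime := h𝔭.1.1
    have h𝔭supp : (⟨𝔭, h𝔭p⟩ : PrimeSpectrum R) ∈ Module.support R M := by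
      rw [Module.support_eq_zeroLocus, PrimeSpectrum.mem_zeroLocus, SetLike.coe_subset_coe]
      exact h𝔭.1.2
    have h1 := Groth.Agent.Lib.Helper9.ringKrullDim_quotient_le_supportDim h𝔭supp
    have h2 : Module.supportDim R M ≤ c := by
      refine supportDim_le_of_minimalPrimes _ fun P hP => ?_
      have hPass : P ∈ associatedPrimes R M :=
        Module.associatedPrimes.minimalPrimes_annihilator_subset_associatedPrimes R M hP
      rw [hc P hPass]
    have h3 := hc 𝔭 h𝔭ass
    change ringKrullDim (R ⧸ 𝔭) ≤ _ at h1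
    rw [h3] at h1 ⊢
    exact le_antisymm h1 h2

end Alg

section OverField

variable (k : Type u) [Field k] (W : Scheme.{u}) [W.Over (Spec (CommRingCat.of k))]
  [LocallyOfFiniteType (W ↘ Spec (CommRingCat.of k))]

/-- the dimension of the quotient of the local ring by a prime, in terms of transcendence
degrees. -/
theorem ringKrullDim_quotient_stalk_eq_tr (x : W) (𝔭 : PrimeSpectrum (W.presheaf.stalk x)) :
    tr k W x ≤ tr k W ((W.fromSpecStalk x).base 𝔭) ∧
    ringKrullDim (W.presheaf.stalk x ⧸ 𝔭.asIdeal) =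
      ((tr k W ((W.fromSpecStalk x).base 𝔭) - tr k W x : ℕ) : WithBot ℕ∞) := by
  have hsp : (W.fromSpecStalk x).base 𝔭 ⤳ x := fromSpecStalk_specializes x 𝔭
  have hle : tr k W x ≤ tr k W ((W.fromSpecStalk x).base 𝔭) := tr_le_of_specializes k W _ _ hsp
  refine ⟨hle, ?_⟩
  rw [Equidim.ringKrullDim_quotient_stalk_eq x 𝔭,
    DimFun.krullDim_Icc_eq (Equidim.isDimFun_tr k W) (a := x)
      (b := (W.fromSpecStalk x).base 𝔭) hsp]
  congr 2
  omega

variable (G : W.Modules) [G.IsQuasicoherent] [G.IsFiniteType]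

set_option maxHeartbeats 800000 in
/-- **equidimensionality of the stalk of a coherent module, under `(S_1)`, in terms of the
associated points specializing to the point.** -/
theorem isEquidimModule_stalk_iff (x : W)
    (hS1 : LocCoh.HasSk 1 (W.presheaf.stalk x) (G.presheaf.stalk x)) :
    EGA4.IsEquidimModule (W.presheaf.stalk x) (G.presheaf.stalk x) ↔
      ∃ n : ℕ, ∀ ζ : W, ζ ⤳ x →
        LocCoh.depth (W.presheaf.stalk ζ) (G.presheaf.stalk ζ) = 0 → tr k W ζ = n := by
  haveI : IsLocallyNoetherian W :=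
    LocallyOfFiniteType.isLocallyNoetherian (W ↘ Spec (CommRingCat.of k))
  haveI : IsNoetherianRing (W.presheaf.stalk x) := inferInstance
  haveI := CohStalk.finite_stalk G x
  have hass : ∀ 𝔭 : PrimeSpectrum (W.presheaf.stalk x),
      𝔭.asIdeal ∈ associatedPrimes (W.presheaf.stalk x) (G.presheaf.stalk x) ↔
        LocCoh.depth (W.presheaf.stalk ((W.fromSpecStalk x).base 𝔭))
          (G.presheaf.stalk ((W.fromSpecStalk x).base 𝔭)) = 0 := by
    intro 𝔭
    rw [← depth_localizedModule_eq_zero_iff 𝔭.asIdeal, (dsd_localization_stalk G x 𝔭.asIdeal).1]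
  rw [isEquidimModule_iff_of_hasS1 hS1]
  constructor
  · rintro ⟨c, hc⟩
    by_cases hne : ∃ 𝔭₀ : PrimeSpectrum (W.presheaf.stalk x),
        𝔭₀.asIdeal ∈ associatedPrimes (W.presheaf.stalk x) (G.presheaf.stalk x)
    · obtain ⟨𝔭₀, h𝔭₀⟩ := hne
      refine ⟨tr k W ((W.fromSpecStalk x).base 𝔭₀), ?_⟩
      intro ζ hζ hd
      obtain ⟨𝔭, rfl⟩ : ζ ∈ Set.range (W.fromSpecStalk x).base := by
        rw [Scheme.range_fromSpecStalk]
        exact hζ
      have h𝔭 := (hass 𝔭).mpr hd
      obtain ⟨h1, h2⟩ := ringKrullDim_quotient_stalk_eq_tr k W x 𝔭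
      obtain ⟨h3, h4⟩ := ringKrullDim_quotient_stalk_eq_tr k W x 𝔭₀
      rw [hc _ h𝔭] at h2
      rw [hc _ h𝔭₀] at h4
      have h5 := h2.symm.trans h4
      have h6 : tr k W ((W.fromSpecStalk x).base 𝔭) - tr k W x =
          tr k W ((W.fromSpecStalk x).base 𝔭₀) - tr k W x := by exact_mod_cast h5
      omega
    · refine ⟨0, ?_⟩
      intro ζ hζ hd
      obtain ⟨𝔭, rfl⟩ : ζ ∈ Set.range (W.fromSpecStalk x).base := by
        rw [Scheme.range_fromSpecStalk]
        exact hζ
      exact absurd ⟨𝔭, (hass 𝔭).mpr hd⟩ hne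
  · rintro ⟨n, hn⟩
    refine ⟨((n - tr k W x : ℕ) : WithBot ℕ∞), ?_⟩
    intro 𝔭 h𝔭
    haveI h𝔭p : 𝔭.IsPrime := h𝔭.isPrime
    have hd := (hass ⟨𝔭, h𝔭p⟩).mp h𝔭
    have htr := hn _ (fromSpecStalk_specializes x ⟨𝔭, h𝔭p⟩) hd
    obtain ⟨h1, h2⟩ := ringKrullDim_quotient_stalk_eq_tr k W x ⟨𝔭, h𝔭p⟩
    rw [htr] at h2
    exact h2

end OverField

end Groth.Agent.Lib.Helper20.EquiSk
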