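import Mathlib
import Groth.Agent.Lib.Helper20.EquiSk4

/-!
# Openness of the locus where the fibre module is equidimensional and `(S_k)`, `k ≥ 1`
(EGA IV 12.1.1 (iii)/(iv) and 12.2.1) (helper20)
-/

set_option autoImplicit false
set_option linter.style.haveILetI false
set_option linter.unusedSectionVars false
set_option linter.dupNamespace false
universe u

open IsLocalRing TensorProduct CategoryTheory CategoryTheory.Limits AlgebraicGeometry
  TopologicalSpace

namespace Groth.Agent.Lib.Helper20.EquiSk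

open Groth.Agent.Lib.Helper14.CMMod Groth.Agent.Lib.Helper12 Groth.Agent.Lib.Helper20.RD
  Groth.Agent.Lib.Helper20.SkFib Groth.Agent.Lib.Helper20.DepthAlong
  Groth.Agent.Lib.Helper3 Groth.Agent.Lib.Helper17 Groth.Agent.Lib.Helper4
  Groth.Agent.Lib.Helper12.SchemeDimIneq Groth.Agent.Lib.Helper20.AssDim

section Sch

variable {X Y : Scheme.{u}} (f : X ⟶ Y) (F : X.Modules)

set_option maxHeartbeats 800000 in
/-- equidimensionality of the stalk of the fibre module, under `(S_1)`. -/
theorem fibre_equidim_iff' [F.IsQuasicoherent] [F.IsFiniteType] [LocallyOfFiniteType f]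
    (s : Y) (z : f.fiber s)
    (hS1 : LocCoh.HasSk 1 ((f.fiber s).presheaf.stalk z)
      (((Scheme.Modules.pullback (f.fiberι s)).obj F).presheaf.stalk z)) :
    EGA4.IsEquidimModule ((f.fiber s).presheaf.stalk z)
      (((Scheme.Modules.pullback (f.fiberι s)).obj F).presheaf.stalk z) ↔
      ∃ n : ℕ, (f.fiberι s).base z ∈ GSet f F {n} := by
  letI _ovF : (f.fiber s).Over (Spec (CommRingCat.of (Y.residueField s))) :=
    ⟨f.fiberToSpecResidueField s⟩
  haveI : LocallyOfFiniteType ((f.fiber s) ↘ Spec (CommRingCat.of (Y.residueField s))) :=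
    FibreRes.locallyOfFiniteType_fiberToSpecResidueField f s
  haveI : ((Scheme.Modules.pullback (f.fiberι s)).obj F).IsQuasicoherent :=
    PbStalk.isQuasicoherent_pullback (f.fiberι s) F
  haveI : ((Scheme.Modules.pullback (f.fiberι s)).obj F).IsFiniteType :=
    PbFinite.isFiniteType_pullback (f.fiberι s) F
  rw [isEquidimModule_stalk_iff (Y.residueField s) (f.fiber s)
    ((Scheme.Modules.pullback (f.fiberι s)).obj F) z hS1]
  have hemb := (f.fiberι s).isEmbedding
  refine exists_congr fun n => ?_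
  constructor
  · intro h z' hfz' hz'x hd
    have hfz's : f z' = s := hfz'.trans (apply_fiberι' f s z)
    set ζ := (f.fiberHomeo s).symm ⟨z', hfz's⟩ with hζ
    have hιζ : (f.fiberι s).base ζ = z' := f.fiberι_fiberHomeo_symm s ⟨z', hfz's⟩
    have hsp : ζ ⤳ z := by
      apply hemb.isInducing.specializes_iff.mp
      rw [hιζ]
      exact hz'x
    have hd' : LocCoh.depth ((f.fiber s).presheaf.stalk ζ)
        (((Scheme.Modules.pullback (f.fiberι s)).obj F).presheaf.stalk ζ) = 0 := by
      rw [fibre_depth_eq f F s ζ, hιζ]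
      exact hd
    have htr := h ζ hsp hd'
    refine ⟨n, Finset.mem_singleton_self n, ?_⟩
    rw [ClosedSub.trn_eq_tr_of_fiber f z' s hfz's ζ hιζ, htr]
  · intro h ζ hζ hd
    have hsp : (f.fiberι s).base ζ ⤳ (f.fiberι s).base z := hζ.map (f.fiberι s).continuous
    rw [fibre_depth_eq f F s ζ] at hd
    obtain ⟨m, hm, htr⟩ := h _ ((apply_fiberι' f s ζ).trans (apply_fiberι' f s z).symm) hsp hd
    rw [Finset.mem_singleton] at hm
    subst hm
    rw [ClosedSub.trn_eq_tr_of_fiber f _ s (apply_fiberι' f s ζ) ζ rfl] at htr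
    exact_mod_cast htr

/-- the intrinsic set. -/
def ESet (k : ℕ) : Set X := {x | XSk f F k x ∧ ∃ n : ℕ, x ∈ GSet f F {n}}

theorem isOpen_eSet [LocallyOfFinitePresentation f] [F.IsQuasicoherent]
    [SheafOfModules.IsFinitePresentation (R := X.ringCatSheaf) F]
    (hflat : FlatMod.IsFlatOver f F) (k : ℕ) : IsOpen (ESet f F k) := by
  have h1 := isOpen_xsk f F hflat k
  have h2 : IsOpen (⋃ n : ℕ, GSet f F {n}) := isOpen_iUnion fun n => isOpen_gSet f F hflat {n}
  convert h1.inter h2 using 1
  ext x
  simp only [ESet, Set.mem_setOf_eq, Set.mem_inter_iff, Set.mem_iUnion]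

/-- the set of the statement is the intrinsic set, `k ≥ 1`. -/
theorem mem_eSet_iff [F.IsQuasicoherent] [F.IsFiniteType] [LocallyOfFiniteType f]
    (k : ℕ) (hk : 1 ≤ k) (s : Y) (z : f.fiber s) :
    (EGA4.IsEquidimModule ((f.fiber s).presheaf.stalk z)
      (((Scheme.Modules.pullback (f.fiberι s)).obj F).presheaf.stalk z) ∧
    LocCoh.HasSk k ((f.fiber s).presheaf.stalk z)
      (((Scheme.Modules.pullback (f.fiberι s)).obj F).presheaf.stalk z)) ↔
      (f.fiberι s).base z ∈ ESet f F k := by
  constructor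
  · rintro ⟨he, hs⟩
    exact ⟨(fibre_mod_hasSk_iff' f F k s z).mp hs,
      (fibre_equidim_iff' f F s z (hasSk_mono' hk hs)).mp he⟩
  · rintro ⟨hs, hn⟩
    have hs' := (fibre_mod_hasSk_iff' f F k s z).mpr hs
    exact ⟨(fibre_equidim_iff' f F s z (hasSk_mono' hk hs')).mpr hn, hs'⟩

/-- **EGA IV 12.1.1 (iii)+(iv)**: the locus where the fibre module is equidimensional and
`(S_k)`, `k ≥ 1`, is open. -/
theorem isOpen_fibre_equidim_sk [LocallyOfFinitePresentation f] [F.IsQuasicoherent]
    [SheafOfModules.IsFinitePresentation (R := X.ringCatSheaf) F]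
    (hflat : FlatMod.IsFlatOver f F) (k : ℕ) (hk : 1 ≤ k) :
    IsOpen {x : X | EGA4.IsEquidimModule ((f.fiber (f.base x)).presheaf.stalk (f.asFiber x))
        (((Scheme.Modules.pullback (f.fiberι (f.base x))).obj F).presheaf.stalk (f.asFiber x)) ∧
      LocCoh.HasSk k ((f.fiber (f.base x)).presheaf.stalk (f.asFiber x))
        (((Scheme.Modules.pullback (f.fiberι (f.base x))).obj F).presheaf.stalk
          (f.asFiber x))} := by
  convert isOpen_eSet f F hflat k using 1
  ext x
  simp only [Set.mem_setOf_eq]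
  rw [mem_eSet_iff f F k hk (f.base x) (f.asFiber x)]
  have hx₀ : (f.fiberι (f.base x)).base (f.asFiber x) = x := f.fiberι_asFiber x
  rw [hx₀]

/-- the form on the base, for a closed map. -/
theorem isOpen_fibre_equidim_sk_base [LocallyOfFinitePresentation f] [F.IsQuasicoherent]
    [SheafOfModules.IsFinitePresentation (R := X.ringCatSheaf) F]
    (hflat : FlatMod.IsFlatOver f F) (hcl : IsClosedMap f.base) (k : ℕ) (hk : 1 ≤ k) :
    IsOpen {y : Y | ∀ x : ↥(f.fiber y),
      EGA4.IsEquidimModule ((f.fiber y).presheaf.stalk x)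
        (((Scheme.Modules.pullback (f.fiberι y)).obj F).presheaf.stalk x) ∧
      LocCoh.HasSk k ((f.fiber y).presheaf.stalk x)
        (((Scheme.Modules.pullback (f.fiberι y)).obj F).presheaf.stalk x)} := by
  have h2 : IsClosed (f.base '' (ESet f F k)ᶜ) := hcl _ (isOpen_eSet f F hflat k).isClosed_compl
  convert h2.isOpen_compl using 1
  ext y
  simp only [Set.mem_setOf_eq, Set.mem_compl_iff, Set.mem_image, not_exists, not_and, not_not]
  constructor
  · intro hall x hx hxy
    subst hxy
    apply hx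
    have h3 := (mem_eSet_iff f F k hk (f.base x) (f.asFiber x)).mp (hall (f.asFiber x))
    have hx₀ : (f.fiberι (f.base x)).base (f.asFiber x) = x := f.fiberι_asFiber x
    rwa [hx₀] at h3
  · intro hall z
    rw [mem_eSet_iff f F k hk y z]
    by_contra hne
    exact hall _ hne (apply_fiberι' f y z)

end Sch

end Groth.Agent.Lib.Helper20.EquiSk
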