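import Mathlib
import Groth.Prelude.Def_FDesc
import Groth.Prelude.Def_CAlg
import Groth.Agent.Lib.Helper14.GeomRedAt
import Groth.Agent.Lib.Helper22.QFFlat
import Groth.Agent.Lib.Helper8.SmoothLocusBC
import Groth.Agent.Lib.Helper14.GeomRegSmooth
import Groth.Agent.S1562
import Groth.Agent.S7606

/-!
# The geometric condition `(R_k)` at a point of a scheme of finite type over a field, in terms of
the smooth locus (helper20)
-/

set_option autoImplicit false
set_option linter.style.haveILetI false
set_option linter.unusedSectionVars false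
set_option linter.dupNamespace false
universe u

open IsLocalRing TensorProduct CategoryTheory CategoryTheory.Limits AlgebraicGeometry
  TopologicalSpace

namespace Groth.Agent.Lib.Helper20.GeomRk

section Gen

/-- the localization of the local ring at a prime is the local ring at the generization. -/
theorem nonempty_loc_equiv_stalk {Y : Scheme.{u}} (y' : Y)
    (t : PrimeSpectrum (Y.presheaf.stalk y')) :
    Nonempty (Localization.AtPrime t.asIdeal ≃+*
      Y.presheaf.stalk ((Y.fromSpecStalk y').base t)) := by
  have hb := Groth.Agent.Lib.Helper14.GeomRedAt.stalkMap_bijective_of_flat_of_surjectiveOnStalks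
    (Y.fromSpecStalk y') t
  let e1 := RingEquiv.ofBijective ((Y.fromSpecStalk y').stalkMap t).hom hb
  let e3 := (AlgebraicGeometry.StructureSheaf.stalkIso (Y.presheaf.stalk y') t).toRingEquiv
  exact ⟨e3.trans e1.symm⟩

/-- a flat quasi-finite morphism of locally Noetherian schemes preserves the dimensions of the
local rings. -/
theorem ringKrullDim_stalk_eq_of_flat_quasiFinite {P W : Scheme.{u}} (π : P ⟶ W) [Flat π]
    [LocallyQuasiFinite π] [IsLocallyNoetherian P] [IsLocallyNoetherian W] (x : P) :
    ringKrullDim (P.presheaf.stalk x) = ringKrullDim (W.presheaf.stalk (π.base x)) := by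
  have hflat : (π.stalkMap x).hom.Flat := Flat.stalkMap π x
  have hqf : (π.stalkMap x).hom.QuasiFinite := π.quasiFiniteAt x
  letI : Algebra (W.presheaf.stalk (π.base x)) (P.presheaf.stalk x) := (π.stalkMap x).hom.toAlgebra
  haveI : Module.Flat (W.presheaf.stalk (π.base x)) (P.presheaf.stalk x) := hflat
  haveI : Algebra.QuasiFinite (W.presheaf.stalk (π.base x)) (P.presheaf.stalk x) := hqf
  haveI : IsLocalHom (algebraMap (W.presheaf.stalk (π.base x)) (P.presheaf.stalk x)) :=
    inferInstanceAs (IsLocalHom (π.stalkMap x).hom)
  exact Groth.Agent.Lib.Helper22.QFFlat.ringKrullDim_eq_of_flat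
    (W.presheaf.stalk (π.base x)) (P.presheaf.stalk x)

end Gen

section Field

variable {κ : Type u} [Field κ] {W : Scheme.{u}} (g : W ⟶ Spec (CommRingCat.of κ))

/-- the geometric `(R_k)` condition at a point (finite extensions). -/
def GeomRkAt (k : ℕ) (w : W) : Prop :=
  ∀ (K : Type u) [Field K] [Algebra κ K], Module.Finite κ K →
    ∀ x' : ↥(FBase.bc g K), (FBase.bcπ g K).base x' = w →
      LocCoh.HasRk k ((FBase.bc g K).presheaf.stalk x')

variable [LocallyOfFinitePresentation g]

section K

variable (K : Type u) [Field K] [Algebra κ K]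

theorem isPullback_bc : IsPullback (FBase.bcπ g K) (FBase.bcStr g K) g
    (Spec.map (CommRingCat.ofHom (algebraMap κ K))) :=
  IsPullback.of_hasPullback _ _

instance lfp_bcStr : LocallyOfFinitePresentation (FBase.bcStr g K) :=
  MorphismProperty.pullback_snd (P := @LocallyOfFinitePresentation) g _ inferInstance

instance flat_bcπ : Flat (FBase.bcπ g K) := by
  haveI : Flat (Spec.map (CommRingCat.ofHom (algebraMap κ K))) := by
    rw [Flat.SpecMap_iff]
    exact RingHom.flat_algebraMap_iff.mpr inferInstance
  exact MorphismProperty.pullback_fst (P := @Flat) g _ inferInstance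

theorem isFinite_bcπ [Module.Finite κ K] : IsFinite (FBase.bcπ g K) := by
  haveI : IsFinite (Spec.map (CommRingCat.ofHom (algebraMap κ K))) := by
    rw [IsFinite.SpecMap_iff]
    exact RingHom.finite_algebraMap.mpr inferInstance
  exact MorphismProperty.pullback_fst (P := @IsFinite) g _ inferInstance

theorem isLocallyNoetherian_bc : IsLocallyNoetherian (FBase.bc g K) :=
  LocallyOfFiniteType.isLocallyNoetherian (FBase.bcStr g K)

include g in
theorem isLocallyNoetherian_src : IsLocallyNoetherian W :=
  LocallyOfFiniteType.isLocallyNoetherian g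

theorem mem_smoothLocus_bc_iff (x' : ↥(FBase.bc g K)) :
    x' ∈ (FBase.bcStr g K).smoothLocus ↔ (FBase.bcπ g K).base x' ∈ g.smoothLocus :=
  Groth.Agent.Lib.Helper8.SmoothLocusBC.mem_smoothLocus_iff_of_isPullback g
    (Spec.map (CommRingCat.ofHom (algebraMap κ K))) (FBase.bcStr g K) (FBase.bcπ g K)
    (isPullback_bc g K) (Or.inr (by
      rw [Flat.SpecMap_iff]
      exact RingHom.flat_algebraMap_iff.mpr inferInstance)) x'

end K

end Field

end Groth.Agent.Lib.Helper20.GeomRk
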