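import Mathlib
import Groth.Agent.Lib.Helper20.GeomRk1

/-!
# The geometric condition `(R_k)` at a point in terms of the smooth locus: the equivalence
(helper20)
-/

set_option autoImplicit false
set_option linter.style.haveILetI false
set_option linter.unusedSectionVars false
set_option linter.dupNamespace false
universe u

open IsLocalRing TensorProduct CategoryTheory CategoryTheory.Limits AlgebraicGeometry
  TopologicalSpace

namespace Groth.Agent.Lib.Helper20.GeomRk

section Field

variable {κ : Type u} [Field κ] {W : Scheme.{u}} (g : W ⟶ Spec (CommRingCat.of κ))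
  [LocallyOfFinitePresentation g]

theorem fromSpecStalk_specializes' {Y : Scheme.{u}} (x : Y)
    (𝔭 : PrimeSpectrum (Y.presheaf.stalk x)) : (Y.fromSpecStalk x).base 𝔭 ⤳ x := by
  have : (Y.fromSpecStalk x).base 𝔭 ∈ Set.range (Y.fromSpecStalk x).base := ⟨_, rfl⟩
  rw [Scheme.range_fromSpecStalk] at this
  exact this

set_option maxHeartbeats 800000 in
theorem geomRkAt_of_smooth (k : ℕ) (w : W)
    (h : ∀ z : W, z ⤳ w → ringKrullDim (W.presheaf.stalk z) ≤ k → z ∈ g.smoothLocus) :
    GeomRkAt g k w := by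
  intro K _ _ hfin x' hx' p hp hht
  haveI := hfin
  haveI := isFinite_bcπ g K
  haveI := isLocallyNoetherian_bc g K
  haveI := isLocallyNoetherian_src g
  obtain ⟨e⟩ := nonempty_loc_equiv_stalk x' ⟨p, hp⟩
  have hsp := fromSpecStalk_specializes' x' ⟨p, hp⟩
  have hdim : ringKrullDim ((FBase.bc g K).presheaf.stalk
      (((FBase.bc g K).fromSpecStalk x').base ⟨p, hp⟩)) ≤ k := by
    rw [← ringKrullDim_eq_of_ringEquiv e,
      IsLocalization.AtPrime.ringKrullDim_eq_height p (Localization.AtPrime p)]
    exact_mod_cast hht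
  have hz : (FBase.bcπ g K).base (((FBase.bc g K).fromSpecStalk x').base ⟨p, hp⟩) ⤳ w := by
    rw [← hx']
    exact hsp.map (FBase.bcπ g K).continuous
  have hdimz : ringKrullDim (W.presheaf.stalk
      ((FBase.bcπ g K).base (((FBase.bc g K).fromSpecStalk x').base ⟨p, hp⟩))) ≤ k := by
    rw [← ringKrullDim_stalk_eq_of_flat_quasiFinite (FBase.bcπ g K)]
    exact hdim
  have hsm := h _ hz hdimz
  have hsm' := (mem_smoothLocus_bc_iff g K _).mpr hsm
  haveI hreg := Groth.Agent.Lib.Helper14.GeomRegSmooth.isRegularLocalRing_stalk_of_mem_smoothLocus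
    K (FBase.bcStr g K) _ hsm'
  exact IsRegularLocalRing.of_ringEquiv e.symm

set_option maxHeartbeats 800000 in
theorem smooth_of_geomRkAt (k : ℕ) (w : W) (h : GeomRkAt g k w) (z : W) (hz : z ⤳ w)
    (hdim : ringKrullDim (W.presheaf.stalk z) ≤ k) : z ∈ g.smoothLocus := by
  letI : W.Over (Spec (CommRingCat.of κ)) := ⟨g⟩
  haveI : LocallyOfFinitePresentation (W ↘ Spec (CommRingCat.of κ)) :=
    ‹LocallyOfFinitePresentation g›
  haveI := isLocallyNoetherian_src g
  have h1 := (Groth.Agent.S1562.result κ W z).mp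
  refine h1 ?_
  rw [(Groth.Agent.S7606.result κ W z).1]
  intro k' _ _ _ _ x'' hx''
  haveI : Module.Finite κ k' := inferInstance
  haveI := isFinite_bcπ g k'
  haveI := isLocallyNoetherian_bc g k'
  have hcl : IsClosedMap (FBase.bcπ g k').base := (FBase.bcπ g k').isClosedMap
  have hx''z : (FBase.bcπ g k').base x'' = z := hx''
  obtain ⟨x', hx''x', hx'w⟩ := hcl.specializingMap (a := x'') (b := w) (by
    show (FBase.bcπ g k').base x'' ⤳ w
    rw [hx''z]; exact hz)
  have hx''x'' : x'' ⤳ x' := hx''x'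
  have hR := h k' inferInstance x' hx'w
  obtain ⟨t, ht⟩ : x'' ∈ Set.range ((FBase.bc g k').fromSpecStalk x').base := by
    rw [Scheme.range_fromSpecStalk]
    exact hx''x''
  obtain ⟨e⟩ := nonempty_loc_equiv_stalk x' t
  have hd2 : ringKrullDim ((FBase.bc g k').presheaf.stalk x'') ≤ k := by
    rw [ringKrullDim_stalk_eq_of_flat_quasiFinite (FBase.bcπ g k') x'', hx''z]
    exact hdim
  rw [← ht] at hd2
  have hht : t.asIdeal.height ≤ k := by
    rw [← ringKrullDim_eq_of_ringEquiv e,
      IsLocalization.AtPrime.ringKrullDim_eq_height t.asIdeal (Localization.AtPrime t.asIdeal)]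
      at hd2
    exact_mod_cast hd2
  haveI := hR t.asIdeal hht
  have hreg : IsRegularLocalRing ((FBase.bc g k').presheaf.stalk
      (((FBase.bc g k').fromSpecStalk x').base t)) := IsRegularLocalRing.of_ringEquiv e
  rw [ht] at hreg
  exact hreg

/-- **the geometric `(R_k)` condition at a point, via the smooth locus.** -/
theorem geomRkAt_iff (k : ℕ) (w : W) :
    GeomRkAt g k w ↔
      ∀ z : W, z ⤳ w → ringKrullDim (W.presheaf.stalk z) ≤ k → z ∈ g.smoothLocus :=
  ⟨fun h z hz hd => smooth_of_geomRkAt g k w h z hz hd, geomRkAt_of_smooth g k w⟩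

end Field

end Groth.Agent.Lib.Helper20.GeomRk
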