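import Mathlib
import Groth.Agent.Lib.Helper20.GeomRk2
import Groth.Agent.Lib.Helper20.EquiSk5
import Groth.Agent.Lib.Helper17.FlatStructure
import Groth.Agent.Lib.Helper17.GenFin1
import Groth.Agent.Lib.Helper9.StalkUnit
import Groth.Agent.Lib.Helper28.Reflexive
import Groth.Agent.Lib.Helper3.PbBasic

/-!
# Bridges for the geometric `(R_k)` + equidimensional + no embedded components locus: the smooth
locus of a fibre, the unit module, and the dimension of the local rings of the fibre (helper20)
-/

set_option autoImplicit false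
set_option linter.style.haveILetI false
set_option linter.unusedSectionVars false
set_option linter.dupNamespace false
universe u

open IsLocalRing TensorProduct CategoryTheory CategoryTheory.Limits AlgebraicGeometry
  TopologicalSpace

namespace Groth.Agent.Lib.Helper20.GeomRk

open Groth.Agent.Lib.Helper14.CMMod Groth.Agent.Lib.Helper12 Groth.Agent.Lib.Helper20.RD
  Groth.Agent.Lib.Helper20.SkFib Groth.Agent.Lib.Helper20.DepthAlong
  Groth.Agent.Lib.Helper3 Groth.Agent.Lib.Helper17 Groth.Agent.Lib.Helper4
  Groth.Agent.Lib.Helper12.SchemeDimIneq Groth.Agent.Lib.Helper20.AssDim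
  Groth.Agent.Lib.Helper20.EquiSk Groth.Agent.Lib.Helper12.SchemeDimFT

section Alg

variable {R : Type u} [CommRing R] [IsNoetherianRing R] {N : Type u} [AddCommGroup N] [Module R N]

/-- for a module isomorphic to the ring: equidimensionality and `(S_1)` are the ring-theoretic
equidimensionality and the absence of embedded primes. -/
theorem unit_transfer (e : N ≃ₗ[R] R) :
    (EGA4.IsEquidimModule R N ∧ LocCoh.HasSk 1 R N) ↔
      (EGA4.IsEquidim R ∧ ∀ p ∈ associatedPrimes R R, p ∈ minimalPrimes R) := by
  have hann : Module.annihilator R N = ⊥ := by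
    rw [e.annihilator_eq]
    exact Module.annihilator_eq_bot.mpr inferInstance
  have hsd : Module.supportDim R N = ringKrullDim R := by
    rw [Module.supportDim_eq_of_equiv e, Module.supportDim_self_eq_ringKrullDim]
  haveI : Module.Finite R N := Module.Finite.equiv e.symm
  have hS : LocCoh.HasSk 1 R N ↔ ∀ p ∈ associatedPrimes R R, p ∈ minimalPrimes R := by
    rw [← noEmbedded_iff_hasS1, hann, LinearEquiv.AssociatedPrimes.eq e]
  have hE : EGA4.IsEquidimModule R N ↔ EGA4.IsEquidim R := by
    unfold EGA4.IsEquidimModule EGA4.IsEquidim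
    rw [hann, hsd]
  rw [hS, hE]

end Alg

section OverField

variable (k : Type u) [Field k] (W : Scheme.{u}) [W.Over (Spec (CommRingCat.of k))]
  [LocallyOfFiniteType (W ↘ Spec (CommRingCat.of k))]
  (G : W.Modules) [G.IsQuasicoherent] [G.IsFiniteType]

set_option maxHeartbeats 800000 in
/-- if all the associated points of `G` specializing to `x` have transcendence degree `n`, the
dimension of `G_x` is `n - tr x`. -/
theorem supportDim_stalk_eq_of_ass (x : W) (n : ℕ)
    (hn : ∀ ζ : W, ζ ⤳ x →
      LocCoh.depth (W.presheaf.stalk ζ) (G.presheaf.stalk ζ) = 0 → tr k W ζ = n)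
    (hnt : Nontrivial (G.presheaf.stalk x)) :
    Module.supportDim (W.presheaf.stalk x) (G.presheaf.stalk x) =
      ((n - tr k W x : ℕ) : WithBot ℕ∞) := by
  haveI : IsLocallyNoetherian W :=
    LocallyOfFiniteType.isLocallyNoetherian (W ↘ Spec (CommRingCat.of k))
  haveI : IsNoetherianRing (W.presheaf.stalk x) := inferInstance
  haveI := CohStalk.finite_stalk G x
  have hass : ∀ 𝔭 : PrimeSpectrum (W.presheaf.stalk x),
      𝔭.asIdeal ∈ associatedPrimes (W.presheaf.stalk x) (G.presheaf.stalk x) ↔
        LocCoh.depth (W.presheaf.stalk ((W.fromSpecStalk x).base 𝔭))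
          (G.presheaf.stalk ((W.fromSpecStalk x).base 𝔭)) = 0 := by
    intro 𝔭
    rw [← depth_localizedModule_eq_zero_iff 𝔭.asIdeal, (dsd_localization_stalk G x 𝔭.asIdeal).1]
  have hmin : ∀ P ∈ (Module.annihilator (W.presheaf.stalk x) (G.presheaf.stalk x)).minimalPrimes,
      ringKrullDim (W.presheaf.stalk x ⧸ P) = ((n - tr k W x : ℕ) : WithBot ℕ∞) := by
    intro P hP
    haveI hPp : P.IsPrime := hP.1.1
    have hPass := Module.associatedPrimes.minimalPrimes_annihilator_subset_associatedPrimes
      (W.presheaf.stalk x) (G.presheaf.stalk x) hP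
    have hd := (hass ⟨P, hPp⟩).mp hPass
    have htr := hn _ (fromSpecStalk_specializes x ⟨P, hPp⟩) hd
    obtain ⟨h1, h2⟩ := ringKrullDim_quotient_stalk_eq_tr k W x ⟨P, hPp⟩
    rw [htr] at h2
    exact h2
  apply le_antisymm
  · exact supportDim_le_of_minimalPrimes _ (fun P hP => (hmin P hP).le)
  · have hne : Module.annihilator (W.presheaf.stalk x) (G.presheaf.stalk x) ≠ ⊤ := by
      intro h
      rw [Module.annihilator_eq_top_iff] at h
      exact not_subsingleton _ h
    obtain ⟨M, hM, hle⟩ := Ideal.exists_le_maximal _ hne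
    obtain ⟨P, hP, hPM⟩ := Ideal.exists_minimalPrimes_le (J := M) hle
    haveI hPp : P.IsPrime := hP.1.1
    rw [← hmin P hP]
    refine Groth.Agent.Lib.Helper9.ringKrullDim_quotient_le_supportDim
      (q := ⟨P, hPp⟩) ?_
    rw [Module.mem_support_iff_of_finite]
    exact hP.1.2

end OverField

section Unit

variable {X : Scheme.{u}}

/-- the stalk of the structure module is the local ring. -/
noncomputable def unitStalkLinearEquiv (x : X) :
    (Coh.structureModule X).presheaf.stalk x ≃ₗ[X.presheaf.stalk x] X.presheaf.stalk x :=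
  LinearEquiv.ofBijective
    { toFun := Groth.Agent.Lib.Helper9.StalkUnit.unitStalkHom x
      map_add' := map_add _
      map_smul' := fun r a => Groth.Agent.Lib.Helper9.StalkUnit.unitStalkHom_smul x r a }
    ⟨Groth.Agent.Lib.Helper9.StalkUnit.unitStalkHom_injective x,
      Groth.Agent.Lib.Helper9.StalkUnit.unitStalkHom_surjective x⟩

/-- the stalk of the pullback of the structure module is the local ring. -/
noncomputable def pbUnitStalkEquiv {W : Scheme.{u}} (q : W ⟶ X) (z : W) :
    ((Scheme.Modules.pullback q).obj (Coh.structureModule X)).presheaf.stalk z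
      ≃ₗ[W.presheaf.stalk z] W.presheaf.stalk z :=
  (Groth.Agent.Lib.Helper17.GenFin.stalkEquivOfIso (PbBasic.pbUnit q) z).trans
    (unitStalkLinearEquiv z)

end Unit

section Sch

variable {X Y : Scheme.{u}} (f : X ⟶ Y)

instance lfp_fiberToSpecResidueField [LocallyOfFinitePresentation f] (s : Y) :
    LocallyOfFinitePresentation (f.fiberToSpecResidueField s) :=
  MorphismProperty.pullback_snd (P := @LocallyOfFinitePresentation) f _ inferInstance

/-- the smooth locus of a fibre of a flat morphism. -/
theorem mem_smoothLocus_fibre_iff [Flat f] [LocallyOfFinitePresentation f] (s : Y)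
    (z : f.fiber s) :
    z ∈ (f.fiberToSpecResidueField s).smoothLocus ↔ (f.fiberι s).base z ∈ f.smoothLocus :=
  Groth.Agent.Lib.Helper8.SmoothLocusBC.mem_smoothLocus_iff_of_isPullback f
    (Y.fromSpecResidueField s) (f.fiberToSpecResidueField s) (f.fiberι s)
    (IsPullback.of_hasPullback _ _) (Or.inl inferInstance) z

set_option maxHeartbeats 800000 in
/-- the dimension of the local rings of the fibre at the generizations of a point all of whose
associated generizations have dimension `n`. -/
theorem ringKrullDim_fibre_stalk_eq [LocallyOfFiniteType f] (s : Y) (z : f.fiber s) (n : ℕ)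
    (h : (f.fiberι s).base z ∈ GSet f (Coh.structureModule X) {n}) (ζ : f.fiber s)
    (hζ : ζ ⤳ z) :
    ∃ m : ℕ, trn f ((f.fiberι s).base ζ) = (m : ℕ∞) ∧
      ringKrullDim ((f.fiber s).presheaf.stalk ζ) = ((n - m : ℕ) : WithBot ℕ∞) := by
  letI _ovF : (f.fiber s).Over (Spec (CommRingCat.of (Y.residueField s))) :=
    ⟨f.fiberToSpecResidueField s⟩
  haveI : LocallyOfFiniteType ((f.fiber s) ↘ Spec (CommRingCat.of (Y.residueField s))) :=
    FibreRes.locallyOfFiniteType_fiberToSpecResidueField f s
  haveI : ((Scheme.Modules.pullback (f.fiberι s)).obj (Coh.structureModule X)).IsQuasicoherent :=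
    PbStalk.isQuasicoherent_pullback (f.fiberι s) _
  haveI : ((Scheme.Modules.pullback (f.fiberι s)).obj (Coh.structureModule X)).IsFiniteType :=
    PbFinite.isFiniteType_pullback (f.fiberι s) _
  have e := pbUnitStalkEquiv (f.fiberι s) ζ
  refine ⟨tr (Y.residueField s) (f.fiber s) ζ,
    ClosedSub.trn_eq_tr_of_fiber f _ s (apply_fiberι' f s ζ) ζ rfl, ?_⟩
  rw [← Module.supportDim_self_eq_ringKrullDim, ← Module.supportDim_eq_of_equiv e]
  apply supportDim_stalk_eq_of_ass (Y.residueField s) (f.fiber s) _ ζ n
  · intro ζ' hζ' hd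
    rw [fibre_depth_eq f _ s ζ'] at hd
    have hsp : (f.fiberι s).base ζ' ⤳ (f.fiberι s).base z :=
      (hζ'.trans hζ).map (f.fiberι s).continuous
    obtain ⟨m, hm, htr⟩ := h _ ((apply_fiberι' f s ζ').trans (apply_fiberι' f s z).symm) hsp hd
    rw [Finset.mem_singleton] at hm
    subst hm
    rw [ClosedSub.trn_eq_tr_of_fiber f _ s (apply_fiberι' f s ζ') ζ' rfl] at htr
    exact_mod_cast htr
  · exact e.toEquiv.nontrivial

end Sch

end Groth.Agent.Lib.Helper20.GeomRk
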