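import Mathlib
import Groth.Agent.Lib.Helper20.GeomRk3

/-!
# Openness of the locus where the fibre is geometrically `(R_k)`, equidimensional and without
embedded components (EGA IV 12.1.1 / 12.2.1 type statements) (helper20)
-/

set_option autoImplicit false
set_option linter.style.haveILetI false
set_option linter.unusedSectionVars false
set_option linter.dupNamespace false
universe u

open IsLocalRing TensorProduct CategoryTheory CategoryTheory.Limits AlgebraicGeometry
  TopologicalSpace

namespace Groth.Agent.Lib.Helper20.GeomRk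

open Groth.Agent.Lib.Helper14.CMMod Groth.Agent.Lib.Helper12 Groth.Agent.Lib.Helper20.RD
  Groth.Agent.Lib.Helper20.SkFib Groth.Agent.Lib.Helper20.DepthAlong
  Groth.Agent.Lib.Helper3 Groth.Agent.Lib.Helper17 Groth.Agent.Lib.Helper4
  Groth.Agent.Lib.Helper12.SchemeDimIneq Groth.Agent.Lib.Helper20.AssDim
  Groth.Agent.Lib.Helper20.EquiSk Groth.Agent.Lib.Helper12.SchemeDimFT

section Sch

variable {X Y : Scheme.{u}} (f : X ⟶ Y) [LocallyOfFinitePresentation f]

/-- the singular locus. -/
def Sing : Set X := ((f.smoothLocus : X.Opens) : Set X)ᶜ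

theorem isClosed_sing : IsClosed (Sing f) := f.smoothLocus.isOpen.isClosed_compl

/-- points having a singular generization in the fibre of transcendence degree `≥ n - k`. -/
def DSet (k n : ℕ) : Set X :=
  {x : X | x ∈ Sing f ∧ ∃ z ∈ Sing f, f z = f x ∧ z ⤳ x ∧ ((n - k : ℕ) : ℕ∞) ≤ trn f z}

theorem isClosed_dSet (k n : ℕ) : IsClosed (DSet f k n) :=
  isClosed_setOf_exists_generization f (Sing f) (isClosed_sing f) (n - k)

/-- the intrinsic set. -/
def TSet (k : ℕ) : Set X :=
  {x | XSk f (Coh.structureModule X) 1 x ∧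
    ∃ n : ℕ, x ∈ GSet f (Coh.structureModule X) {n} ∧ x ∉ DSet f k n}

theorem isOpen_tSet [Flat f] (k : ℕ) : IsOpen (TSet f k) := by
  have hflat : FlatMod.IsFlatOver f (Coh.structureModule X) :=
    (FlatStructure.flat_iff_isFlatOver f).mp inferInstance
  have h1 := isOpen_xsk f (Coh.structureModule X) hflat 1
  have h2 : IsOpen (⋃ n : ℕ, GSet f (Coh.structureModule X) {n} ∩ (DSet f k n)ᶜ) :=
    isOpen_iUnion fun n => (isOpen_gSet f _ hflat {n}).inter (isClosed_dSet f k n).isOpen_compl
  convert h1.inter h2 using 1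
  ext x
  simp only [TSet, Set.mem_setOf_eq, Set.mem_inter_iff, Set.mem_iUnion, Set.mem_compl_iff]

set_option maxHeartbeats 1600000 in
/-- the set of the statement is the intrinsic set. -/
theorem mem_tSet_iff [Flat f] (k : ℕ) (s : Y) (z : f.fiber s) :
    (GeomRkAt (κ := IsLocalRing.ResidueField (Y.presheaf.stalk s))
        (f.fiberToSpecResidueField s) k z ∧
      EGA4.IsEquidim ((f.fiber s).presheaf.stalk z) ∧
      (∀ p ∈ associatedPrimes ((f.fiber s).presheaf.stalk z) ((f.fiber s).presheaf.stalk z),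
        p ∈ minimalPrimes ((f.fiber s).presheaf.stalk z))) ↔
    (f.fiberι s).base z ∈ TSet f k := by
  haveI : IsLocallyNoetherian (f.fiber s) :=
    LocallyOfFiniteType.isLocallyNoetherian (f.fiberToSpecResidueField s)
  have hU := unit_transfer (pbUnitStalkEquiv (f.fiberι s) z)
  have hE := mem_eSet_iff f (Coh.structureModule X) 1 le_rfl s z
  rw [← hU, hE]
  have hG := @geomRkAt_iff (IsLocalRing.ResidueField (Y.presheaf.stalk s)) _ (f.fiber s)
    (f.fiberToSpecResidueField s) (lfp_fiberToSpecResidueField f s) k z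
  rw [hG]
  constructor
  · rintro ⟨hR, hS, n, hn⟩
    refine ⟨hS, n, hn, ?_⟩
    rintro ⟨_, z', hz'S, hfz', hz'sp, hle⟩
    have hfz's : f z' = s := hfz'.trans (apply_fiberι' f s z)
    set ζ := (f.fiberHomeo s).symm ⟨z', hfz's⟩ with hζ
    have hιζ : (f.fiberι s).base ζ = z' := f.fiberι_fiberHomeo_symm s ⟨z', hfz's⟩
    have hsp : ζ ⤳ z := by
      apply (f.fiberι s).isEmbedding.isInducing.specializes_iff.mp
      rw [hιζ]
      exact hz'sp
    obtain ⟨m, hm, hdim⟩ := ringKrullDim_fibre_stalk_eq f s z n hn ζ hsp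
    rw [hιζ] at hm
    rw [hm] at hle
    have hle' : n - k ≤ m := by exact_mod_cast hle
    have hd : ringKrullDim ((f.fiber s).presheaf.stalk ζ) ≤ k := by
      rw [hdim]
      exact_mod_cast (by omega : n - m ≤ k)
    have hsm := hR ζ hsp hd
    have hsm' := (mem_smoothLocus_fibre_iff f s ζ).mp hsm
    rw [hιζ] at hsm'
    exact hz'S hsm'
  · rintro ⟨hS, n, hn, hD⟩
    refine ⟨?_, hS, n, hn⟩
    intro ζ hsp hd
    refine (mem_smoothLocus_fibre_iff f s ζ).mpr ?_
    by_contra hns
    apply hD
    obtain ⟨m, hm, hdim⟩ := ringKrullDim_fibre_stalk_eq f s z n hn ζ hsp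
    have hsp' : (f.fiberι s).base ζ ⤳ (f.fiberι s).base z := hsp.map (f.fiberι s).continuous
    have hns' : (f.fiberι s).base ζ ∈ Sing f := hns
    refine ⟨hsp'.mem_closed (isClosed_sing f) hns', _, hns',
      (apply_fiberι' f s ζ).trans (apply_fiberι' f s z).symm, hsp', ?_⟩
    rw [hm]
    rw [hdim] at hd
    have h1 : n - m ≤ k := by exact_mod_cast hd
    exact_mod_cast (by omega : n - k ≤ m)

/-- the locus where the fibre is geometrically `(R_k)`, equidimensional and without embedded
components is open. -/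
theorem isOpen_fibre_geomRk_equidim [Flat f] (k : ℕ) :
    IsOpen {x : X | GeomRkAt (κ := IsLocalRing.ResidueField (Y.presheaf.stalk (f.base x)))
        (f.fiberToSpecResidueField (f.base x)) k (f.asFiber x) ∧
      EGA4.IsEquidim ((f.fiber (f.base x)).presheaf.stalk (f.asFiber x)) ∧
      (∀ p ∈ associatedPrimes ((f.fiber (f.base x)).presheaf.stalk (f.asFiber x))
          ((f.fiber (f.base x)).presheaf.stalk (f.asFiber x)),
        p ∈ minimalPrimes ((f.fiber (f.base x)).presheaf.stalk (f.asFiber x)))} := by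
  convert isOpen_tSet f k using 1
  ext x
  have hx₀ : (f.fiberι (f.base x)).base (f.asFiber x) = x := f.fiberι_asFiber x
  have h := mem_tSet_iff f k (f.base x) (f.asFiber x)
  rw [hx₀] at h
  exact h

/-- the form on the base, for a closed map. -/
theorem isOpen_fibre_geomRk_equidim_base [Flat f] (hcl : IsClosedMap f.base) (k : ℕ) :
    IsOpen {y : Y | ∀ x : ↥(f.fiber y),
      GeomRkAt (κ := IsLocalRing.ResidueField (Y.presheaf.stalk y))
        (f.fiberToSpecResidueField y) k x ∧
      EGA4.IsEquidim ((f.fiber y).presheaf.stalk x) ∧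
      (∀ p ∈ associatedPrimes ((f.fiber y).presheaf.stalk x) ((f.fiber y).presheaf.stalk x),
        p ∈ minimalPrimes ((f.fiber y).presheaf.stalk x))} := by
  have h2 : IsClosed (f.base '' (TSet f k)ᶜ) := hcl _ (isOpen_tSet f k).isClosed_compl
  convert h2.isOpen_compl using 1
  ext y
  constructor
  · rintro hall ⟨x, hx, hxy⟩
    subst hxy
    apply hx
    have h3 := (mem_tSet_iff f k (f.base x) (f.asFiber x)).mp (hall (f.asFiber x))
    have hx₀ : (f.fiberι (f.base x)).base (f.asFiber x) = x := f.fiberι_asFiber x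
    rwa [hx₀] at h3
  · intro hall z
    refine (mem_tSet_iff f k y z).mpr ?_
    by_contra hne
    exact hall ⟨_, hne, apply_fiberι' f y z⟩

end Sch

end Groth.Agent.Lib.Helper20.GeomRk
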