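import Mathlib
import Groth.Agent.Lib.Helper20.EquiSk4
import Groth.Agent.Lib.Helper17.CohStalk
import Groth.Agent.Lib.Helper17.GenFin1
import Groth.Agent.Lib.Helper4.Sk
import Groth.Agent.Lib.Helper9.SemiLocal
import Groth.Prelude.Def_FDesc

set_option autoImplicit false
set_option linter.style.haveILetI false
set_option linter.unusedSectionVars false
set_option linter.dupNamespace false
universe u

open IsLocalRing TensorProduct CategoryTheory CategoryTheory.Limits AlgebraicGeometry
  TopologicalSpace

namespace Groth.Agent.Lib.Helper20.NoEmbFS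

open Groth.Agent.Lib.Helper17 Groth.Agent.Lib.Helper4 Groth.Agent.Lib.Helper20.EquiSk

variable {W : Scheme.{u}} [IsLocallyNoetherian W] (G : W.Modules) [G.IsQuasicoherent]
  [G.IsFiniteType]

/-- associated points are the points of depth zero. -/
theorem mem_ass_iff (x : W) :
    x ∈ AssSch.Ass G ↔ LocCoh.depth (W.presheaf.stalk x) (G.presheaf.stalk x) = 0 := by
  haveI := CohStalk.finite_stalk G x
  rw [depth_eq_zero_iff_maximalIdeal_mem_associatedPrimes]
  rfl

theorem eq_of_fromSpecStalk_eq (x : W) (𝔭 : PrimeSpectrum (W.presheaf.stalk x))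
    (h : (W.fromSpecStalk x).base 𝔭 = x) : 𝔭.asIdeal = maximalIdeal (W.presheaf.stalk x) := by
  have h1 : (W.fromSpecStalk x).base 𝔭 = (W.fromSpecStalk x).base (closedPoint _) := by
    rw [h]; exact (Scheme.fromSpecStalk_closedPoint).symm
  have h2 := (W.fromSpecStalk x).isEmbedding.injective h1
  rw [h2]
  rfl

/-- **the stalkwise criterion for the absence of embedded associated points.** -/
theorem noEmbedded_iff :
    AssSch.NoEmbedded G ↔
      ∀ x : W, LocCoh.depth (W.presheaf.stalk x) (G.presheaf.stalk x) = 0 →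
        Module.supportDim (W.presheaf.stalk x) (G.presheaf.stalk x) ≤ 0 := by
  constructor
  · intro h x hx
    haveI := CohStalk.finite_stalk G x
    have hxass : x ∈ AssSch.Ass G := (mem_ass_iff G x).mpr hx
    apply supportDim_le_of_minimalPrimes
    intro P hP
    haveI hPp : P.IsPrime := hP.1.1
    have hPass := Module.associatedPrimes.minimalPrimes_annihilator_subset_associatedPrimes
      (W.presheaf.stalk x) (G.presheaf.stalk x) hP
    have hd : LocCoh.depth (W.presheaf.stalk ((W.fromSpecStalk x).base ⟨P, hPp⟩))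
        (G.presheaf.stalk ((W.fromSpecStalk x).base ⟨P, hPp⟩)) = 0 := by
      rw [← (dsd_localization_stalk G x P).1, depth_localizedModule_eq_zero_iff]
      exact hPass
    have hζ : (W.fromSpecStalk x).base ⟨P, hPp⟩ ∈ AssSch.Ass G := (mem_ass_iff G _).mpr hd
    have heq := h x hxass _ hζ (fromSpecStalk_specializes x ⟨P, hPp⟩)
    have hPm : P = maximalIdeal (W.presheaf.stalk x) :=
      eq_of_fromSpecStalk_eq x ⟨P, hPp⟩ heq.symm
    rw [hPm]
    exact (ringKrullDim_eq_zero_of_isField
      ((Ideal.Quotient.maximal_ideal_iff_isField_quotient _).mp inferInstance)).le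
  · intro h x hx y hy hyx
    haveI := CohStalk.finite_stalk G x
    have hdx := (mem_ass_iff G x).mp hx
    have hdy := (mem_ass_iff G y).mp hy
    have hyr : y ∈ Set.range (W.fromSpecStalk x).base := by
      rw [Scheme.range_fromSpecStalk]; exact hyx
    obtain ⟨𝔭, rfl⟩ := hyr
    haveI := 𝔭.isPrime
    have hnt : Nontrivial (LocalizedModule 𝔭.asIdeal.primeCompl (G.presheaf.stalk x)) := by
      by_contra hc
      rw [not_nontrivial_iff_subsingleton] at hc
      have h1 := (dsd_localization_stalk G x 𝔭.asIdeal).1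
      rw [depth_eq_top_of_subsingleton] at h1
      have h2 : LocCoh.depth (W.presheaf.stalk ((W.fromSpecStalk x).base 𝔭))
          (G.presheaf.stalk ((W.fromSpecStalk x).base 𝔭)) = ⊤ := h1.symm
      rw [hdy] at h2
      exact ENat.zero_ne_top h2
    have hsupp : 𝔭 ∈ Module.support (W.presheaf.stalk x) (G.presheaf.stalk x) :=
      Module.mem_support_iff.mpr hnt
    have h1 := (Groth.Agent.Lib.Helper9.ringKrullDim_quotient_le_supportDim hsupp).trans (h x hdx)
    haveI : Ring.KrullDimLE 0 (W.presheaf.stalk x ⧸ 𝔭.asIdeal) := by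
      rw [Ring.krullDimLE_iff]; exact_mod_cast h1
    have hmax : 𝔭.asIdeal.IsMaximal := by
      rw [← Ideal.bot_quotient_isMaximal_iff]
      exact Ideal.isMaximal_of_isPrime _
    have h𝔭 : 𝔭 = closedPoint _ := by
      apply PrimeSpectrum.ext
      exact IsLocalRing.eq_maximalIdeal hmax
    rw [h𝔭]
    exact (Scheme.fromSpecStalk_closedPoint).symm

end Groth.Agent.Lib.Helper20.NoEmbFS
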