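import Mathlib
import Groth.Agent.Lib.Helper20.NoEmbFS1
import Groth.Agent.Lib.Helper4.FlatLocal2
import Groth.Agent.Lib.Helper4.CM
import Groth.Agent.Lib.Helper22.DimFlat3
import Groth.Agent.Lib.Helper17.PbStalk
import Groth.Agent.Lib.Helper17.PbFinite

/-!
# Absence of embedded associated points and flat base change (helper20)

Local algebra: for a flat local homomorphism `A → B` of Noetherian local rings whose closed fibre
is Cohen–Macaulay (expressed by the codepth equality `dim A + depth B = dim B + depth A`), depth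
zero and dimension zero of `B ⊗ M` are controlled by those of `M`.
-/

set_option autoImplicit false
set_option linter.style.haveILetI false
set_option linter.unusedSectionVars false
set_option linter.dupNamespace false
universe u

open IsLocalRing TensorProduct CategoryTheory CategoryTheory.Limits AlgebraicGeometry
  TopologicalSpace

namespace Groth.Agent.Lib.Helper20.NoEmbFS

open Groth.Agent.Lib.Helper17 Groth.Agent.Lib.Helper4 Groth.Agent.Lib.Helper20.EquiSk

/-- the codepth equality between two local rings. -/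
def CEr (A B : Type u) [CommRing A] [CommRing B] [IsLocalRing A] [IsLocalRing B] : Prop :=
  ringKrullDim A + ((LocCoh.depth B B : ℕ∞) : WithBot ℕ∞) =
    ringKrullDim B + ((LocCoh.depth A A : ℕ∞) : WithBot ℕ∞)

section Alg

variable (A B : Type u) [CommRing A] [CommRing B] [IsLocalRing A] [IsLocalRing B]
  [IsNoetherianRing A] [IsNoetherianRing B] [Algebra A B] [IsLocalHom (algebraMap A B)]
  [Module.Flat A B]
  (M : Type u) [AddCommGroup M] [Module A M] [Module.Finite A M]

/-- the closed fibre of `A → B`, as a `B`-module. -/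
abbrev CF : Type u := B ⧸ ((maximalIdeal A).map (algebraMap A B) • (⊤ : Submodule B B))

instance : Nontrivial (CF A B) :=
  Submodule.Quotient.nontrivial_iff.mpr (map_maximalIdeal_smul_top_ne_top (R := A) B)

theorem ring_formulas :
    LocCoh.depth B B = LocCoh.depth A A + LocCoh.depth B (CF A B) ∧
      ringKrullDim B = ringKrullDim A + Module.supportDim B (CF A B) := by
  let e : B ⊗[A] A ≃ₗ[B] B := AlgebraTensorModule.rid A B B
  refine ⟨?_, ?_⟩
  · have h := depth_tensor_eq (R := A) (S := B) A B
    unfold LocCoh.depth at h ⊢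
    rw [← idealDepth_congr _ e, h]
  · have h := Groth.Agent.Lib.Helper22.DimFlat.supportDim_tensor_eq A B A B
    rw [← Module.supportDim_self_eq_ringKrullDim, ← Module.supportDim_self_eq_ringKrullDim,
      ← Module.supportDim_eq_of_equiv e, h]

theorem module_formulas [Nontrivial M] :
    LocCoh.depth B (B ⊗[A] M) = LocCoh.depth A M + LocCoh.depth B (CF A B) ∧
      Module.supportDim B (B ⊗[A] M) = Module.supportDim A M + Module.supportDim B (CF A B) :=
  ⟨depth_tensor_eq (R := A) (S := B) M B,
    Groth.Agent.Lib.Helper22.DimFlat.supportDim_tensor_eq A B M B⟩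

/-- numerical data of the closed fibre. -/
theorem exists_nat_data :
    ∃ a_e a_d c d : ℕ, LocCoh.depth A A = (a_e : ℕ∞) ∧
      ringKrullDim A = ((a_d : ℕ∞) : WithBot ℕ∞) ∧
      LocCoh.depth B (CF A B) = (c : ℕ∞) ∧
      Module.supportDim B (CF A B) = ((d : ℕ∞) : WithBot ℕ∞) ∧ c ≤ d ∧
      LocCoh.depth B B = ((a_e + c : ℕ) : ℕ∞) ∧
      ringKrullDim B = (((a_d + d : ℕ) : ℕ∞) : WithBot ℕ∞) := by
  obtain ⟨a_e, hae⟩ := exists_nat_depth (R := A) (M := A)
  obtain ⟨a_d, had⟩ := exists_nat_supportDim (R := A) (M := A)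
  obtain ⟨c, hc⟩ := exists_nat_depth (R := B) (M := CF A B)
  obtain ⟨d, hd⟩ := exists_nat_supportDim (R := B) (M := CF A B)
  rw [Module.supportDim_self_eq_ringKrullDim] at had
  obtain ⟨h1, h2⟩ := ring_formulas A B
  have hcd : c ≤ d := by
    have := depth_le_supportDim (R := B) (M := CF A B)
    rw [hc, hd] at this
    exact_mod_cast this
  refine ⟨a_e, a_d, c, d, hae, had, hc, hd, hcd, ?_, ?_⟩
  · rw [h1, hae, hc]; push_cast; rfl
  · rw [h2, had, hd]; push_cast; rfl

/-- **ascent**: under the codepth equality, depth zero upstairs forces depth zero downstairs,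
and dimension zero ascends. -/
theorem ascent (hCE : CEr A B) (h0 : LocCoh.depth B (B ⊗[A] M) = 0) :
    LocCoh.depth A M = 0 ∧
      (Module.supportDim A M ≤ 0 → Module.supportDim B (B ⊗[A] M) ≤ 0) := by
  obtain ⟨a_e, a_d, c, d, hae, had, hc, hd, hcd, hBe, hBd⟩ := exists_nat_data A B
  have hMnt : Nontrivial M := by
    by_contra hM
    rw [not_nontrivial_iff_subsingleton] at hM
    haveI : Subsingleton (B ⊗[A] M) := subsingleton_tensor_of_right
    rw [depth_eq_top_of_subsingleton] at h0
    exact ENat.top_ne_zero h0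
  obtain ⟨h1, h2⟩ := module_formulas A B M
  rw [h1, hc] at h0
  have hM0 : LocCoh.depth A M = 0 := (add_eq_zero.mp h0).1
  have hc0 : c = 0 := by exact_mod_cast (add_eq_zero.mp h0).2
  have hd0 : d = 0 := by
    unfold CEr at hCE
    rw [had, hBe, hBd, hae] at hCE
    have h3 : a_d + (a_e + c) = a_d + d + a_e := by exact_mod_cast hCE
    omega
  refine ⟨hM0, fun hM => ?_⟩
  rw [h2, hd, hd0]
  simpa using hM

/-- **descent**: if the closed fibre has dimension zero, depth zero ascends and dimension zero
descends. -/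
theorem descent (hdim : ringKrullDim B = ringKrullDim A) (h0 : LocCoh.depth A M = 0) :
    LocCoh.depth B (B ⊗[A] M) = 0 ∧
      (Module.supportDim B (B ⊗[A] M) ≤ 0 → Module.supportDim A M ≤ 0) := by
  obtain ⟨a_e, a_d, c, d, hae, had, hc, hd, hcd, hBe, hBd⟩ := exists_nat_data A B
  have hMnt : Nontrivial M := by
    by_contra hM
    rw [not_nontrivial_iff_subsingleton] at hM
    rw [depth_eq_top_of_subsingleton] at h0
    exact ENat.top_ne_zero h0
  obtain ⟨h1, h2⟩ := module_formulas A B M
  have hd0 : d = 0 := by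
    rw [hBd, had] at hdim
    have h3 : a_d + d = a_d := by exact_mod_cast hdim
    omega
  have hc0 : c = 0 := by omega
  refine ⟨?_, fun hM => ?_⟩
  · rw [h1, h0, hc, hc0]; rfl
  · rw [h2, hd, hd0] at hM
    simpa using hM

end Alg

section Sch

/-- the associated points only depend on the isomorphism class of the module. -/
theorem ass_eq_of_iso {W : Scheme.{u}} {G G' : W.Modules} (φ : G ≅ G') :
    AssSch.Ass G = AssSch.Ass G' := by
  ext x
  exact (GenFin.stalkEquivOfIso φ x).isAssociatedPrime_iff

theorem noEmbedded_iff_of_iso {W : Scheme.{u}} {G G' : W.Modules} (φ : G ≅ G') :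
    AssSch.NoEmbedded G ↔ AssSch.NoEmbedded G' := by
  unfold AssSch.NoEmbedded
  rw [ass_eq_of_iso φ]

variable {Y Y' : Scheme.{u}} [IsLocallyNoetherian Y] [IsLocallyNoetherian Y'] (e : Y' ⟶ Y)
  [Flat e] (F : Y.Modules) [F.IsQuasicoherent] [F.IsFiniteType]

set_option maxHeartbeats 800000 in
/-- the stalkwise transfer of depth zero and dimension zero along a flat morphism. -/
theorem stalk_transfer (y' : Y') :
    (CEr (Y.presheaf.stalk (e y')) (Y'.presheaf.stalk y') →
      LocCoh.depth (Y'.presheaf.stalk y')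
        (((Scheme.Modules.pullback e).obj F).presheaf.stalk y') = 0 →
      LocCoh.depth (Y.presheaf.stalk (e y')) (F.presheaf.stalk (e y')) = 0 ∧
        (Module.supportDim (Y.presheaf.stalk (e y')) (F.presheaf.stalk (e y')) ≤ 0 →
          Module.supportDim (Y'.presheaf.stalk y')
            (((Scheme.Modules.pullback e).obj F).presheaf.stalk y') ≤ 0)) ∧
    (ringKrullDim (Y'.presheaf.stalk y') = ringKrullDim (Y.presheaf.stalk (e y')) →
      LocCoh.depth (Y.presheaf.stalk (e y')) (F.presheaf.stalk (e y')) = 0 →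
      LocCoh.depth (Y'.presheaf.stalk y')
        (((Scheme.Modules.pullback e).obj F).presheaf.stalk y') = 0 ∧
        (Module.supportDim (Y'.presheaf.stalk y')
            (((Scheme.Modules.pullback e).obj F).presheaf.stalk y') ≤ 0 →
          Module.supportDim (Y.presheaf.stalk (e y')) (F.presheaf.stalk (e y')) ≤ 0)) := by
  letI algAB : Algebra (Y.presheaf.stalk (e y')) (Y'.presheaf.stalk y') :=
    (e.stalkMap y').hom.toAlgebra
  letI modAN : Module (Y.presheaf.stalk (e y'))
      (((Scheme.Modules.pullback e).obj F).presheaf.stalk y') :=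
    Module.compHom _ (e.stalkMap y').hom
  obtain ⟨hst, γ, hγ⟩ := PbStalk.exists_isBaseChange_stalk e F y'
  haveI := hst
  haveI : Module.Flat (Y.presheaf.stalk (e y')) (Y'.presheaf.stalk y') := Flat.stalkMap e y'
  haveI : IsLocalHom (algebraMap (Y.presheaf.stalk (e y')) (Y'.presheaf.stalk y')) :=
    inferInstanceAs (IsLocalHom (e.stalkMap y').hom)
  haveI := CohStalk.finite_stalk F (e y')
  have hd : LocCoh.depth (Y'.presheaf.stalk y')
      (((Scheme.Modules.pullback e).obj F).presheaf.stalk y') =
      LocCoh.depth (Y'.presheaf.stalk y')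
        ((Y'.presheaf.stalk y') ⊗[Y.presheaf.stalk (e y')] (F.presheaf.stalk (e y'))) := by
    unfold LocCoh.depth
    exact (idealDepth_congr _ hγ.equiv).symm
  have hs : Module.supportDim (Y'.presheaf.stalk y')
      (((Scheme.Modules.pullback e).obj F).presheaf.stalk y') =
      Module.supportDim (Y'.presheaf.stalk y')
        ((Y'.presheaf.stalk y') ⊗[Y.presheaf.stalk (e y')] (F.presheaf.stalk (e y'))) :=
    (Module.supportDim_eq_of_equiv hγ.equiv).symm
  rw [hd, hs]
  exact ⟨fun hCE h0 => ascent _ _ _ hCE h0, fun hdim h0 => descent _ _ _ hdim h0⟩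

/-- **absence of embedded associated points along a flat morphism whose closed fibres are
Cohen–Macaulay and which has enough points with zero-dimensional closed fibre.** -/
theorem noEmbedded_pullback_iff
    (hCE : ∀ y' : Y', CEr (Y.presheaf.stalk (e y')) (Y'.presheaf.stalk y'))
    (hMIN : ∀ y : Y, ∃ y' : Y', e y' = y ∧
      ringKrullDim (Y'.presheaf.stalk y') = ringKrullDim (Y.presheaf.stalk (e y'))) :
    AssSch.NoEmbedded F ↔ AssSch.NoEmbedded ((Scheme.Modules.pullback e).obj F) := by
  haveI := PbStalk.isQuasicoherent_pullback e F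
  haveI := PbFinite.isFiniteType_pullback e F
  rw [noEmbedded_iff, noEmbedded_iff]
  constructor
  · intro h y' hy'
    obtain ⟨h1, h2⟩ := (stalk_transfer e F y').1 (hCE y') hy'
    exact h2 (h _ h1)
  · intro h y hy
    obtain ⟨y', rfl, hdim⟩ := hMIN y
    obtain ⟨h1, h2⟩ := (stalk_transfer e F y').2 hdim hy
    exact h2 (h _ h1)

end Sch

end Groth.Agent.Lib.Helper20.NoEmbFS
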