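import Mathlib
import Groth.Agent.Lib.Helper20.NoEmbFS2
import Groth.Agent.Lib.Helper20.GeomRk1
import Groth.Agent.Lib.Helper14.CMFieldBC

/-!
# Points with zero-dimensional closed fibre along a flat surjective morphism (helper20)
-/

set_option autoImplicit false
set_option linter.style.haveILetI false
set_option linter.unusedSectionVars false
set_option linter.dupNamespace false
universe u

open IsLocalRing TensorProduct CategoryTheory CategoryTheory.Limits AlgebraicGeometry
  TopologicalSpace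

namespace Groth.Agent.Lib.Helper20.NoEmbFS

open Groth.Agent.Lib.Helper17 Groth.Agent.Lib.Helper4 Groth.Agent.Lib.Helper20.EquiSk
  Groth.Agent.Lib.Helper14.CMFieldBC Groth.Agent.Lib.Helper20.GeomRk

variable {Y Y' : Scheme.{u}} [IsLocallyNoetherian Y] [IsLocallyNoetherian Y'] (e : Y' ⟶ Y)
  [Flat e]

set_option maxHeartbeats 800000 in
/-- over every point in the image of a flat morphism there is a point at which the local ring
has the same dimension. -/
theorem exists_dim_eq (y'₀ : Y') :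
    ∃ y' : Y', e y' = e y'₀ ∧
      ringKrullDim (Y'.presheaf.stalk y') = ringKrullDim (Y.presheaf.stalk (e y')) := by
  letI algAB : Algebra (Y.presheaf.stalk (e y'₀)) (Y'.presheaf.stalk y'₀) :=
    (e.stalkMap y'₀).hom.toAlgebra
  haveI : Module.Flat (Y.presheaf.stalk (e y'₀)) (Y'.presheaf.stalk y'₀) := Flat.stalkMap e y'₀
  haveI : IsLocalHom (algebraMap (Y.presheaf.stalk (e y'₀)) (Y'.presheaf.stalk y'₀)) :=
    inferInstanceAs (IsLocalHom (e.stalkMap y'₀).hom)
  have hr : maximalIdeal (Y.presheaf.stalk (e y'₀)) ≤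
      (maximalIdeal (Y'.presheaf.stalk y'₀)).comap
        (algebraMap (Y.presheaf.stalk (e y'₀)) (Y'.presheaf.stalk y'₀)) := by
    have h := ((IsLocalRing.local_hom_TFAE (algebraMap (Y.presheaf.stalk (e y'₀))
      (Y'.presheaf.stalk y'₀))).out 0 4).mp ‹_›
    exact h.ge
  obtain ⟨s, hs, hsle, hsr, h0, -⟩ := exists_prime_le_fibre_dim_zero
    (Y.presheaf.stalk (e y'₀)) (Y'.presheaf.stalk y'₀) (maximalIdeal _) (maximalIdeal _) hr
  haveI := hs
  obtain ⟨h1, -, -⟩ := Groth.Agent.Lib.Helper4.FlatRing.exists_local_data (Y.presheaf.stalk (e y'₀)) (Y'.presheaf.stalk y'₀) s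
  rw [h0, add_zero] at h1
  have h2 : s.height = (maximalIdeal (Y.presheaf.stalk (e y'₀))).height := by
    rw [h1]; exact congrArg Ideal.height hsr
  have hpt : e ((Y'.fromSpecStalk y'₀).base ⟨s, hs⟩) = e y'₀ := by
    have h3 : (Y'.fromSpecStalk y'₀ ≫ e) ⟨s, hs⟩ =
        (Spec.map (e.stalkMap y'₀) ≫ Y.fromSpecStalk (e y'₀)) ⟨s, hs⟩ := by
      rw [Scheme.SpecMap_stalkMap_fromSpecStalk]
    have h4 : (Spec.map (e.stalkMap y'₀)) ⟨s, hs⟩ = closedPoint (Y.presheaf.stalk (e y'₀)) := by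
      apply PrimeSpectrum.ext
      exact hsr
    rw [Scheme.Hom.comp_apply, Scheme.Hom.comp_apply, h4, Scheme.fromSpecStalk_closedPoint] at h3
    exact h3
  refine ⟨(Y'.fromSpecStalk y'₀).base ⟨s, hs⟩, hpt, ?_⟩
  rw [hpt]
  obtain ⟨eq⟩ := nonempty_loc_equiv_stalk y'₀ ⟨s, hs⟩
  rw [← ringKrullDim_eq_of_ringEquiv eq,
    IsLocalization.AtPrime.ringKrullDim_eq_height s (Localization.AtPrime s), h2,
    IsLocalRing.maximalIdeal_height_eq_ringKrullDim]

end Groth.Agent.Lib.Helper20.NoEmbFS
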