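import Mathlib
import Groth.Agent.Lib.Helper20.GRkC1
import Groth.Agent.Lib.Helper20.GeomRk4
import Groth.Agent.Lib.Helper20.NoEmbFS3

/-!
# The fibrewise condition "all generizations of codimension `≤ k` are smooth points" and flat
base change (helper20)
-/

set_option autoImplicit false
set_option linter.style.haveILetI false
set_option linter.unusedSectionVars false
set_option linter.dupNamespace false
universe u

open IsLocalRing TensorProduct CategoryTheory CategoryTheory.Limits AlgebraicGeometry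
  TopologicalSpace

namespace Groth.Agent.Lib.Helper20.GRkC

open Groth.Agent.Lib.Helper17 Groth.Agent.Lib.Helper4 Groth.Agent.Lib.Helper20.EquiSk
  Groth.Agent.Lib.Helper14.CMFieldBC Groth.Agent.Lib.Helper20.GeomRk

section Dim

variable {Y Y' : Scheme.{u}} [IsLocallyNoetherian Y] [IsLocallyNoetherian Y'] (e : Y' ⟶ Y)
  [Flat e]

/-- a flat morphism does not lower the dimension of the local rings. -/
theorem ringKrullDim_stalk_le_of_flat (x : Y') :
    ringKrullDim (Y.presheaf.stalk (e x)) ≤ ringKrullDim (Y'.presheaf.stalk x) := by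
  letI algAB : Algebra (Y.presheaf.stalk (e x)) (Y'.presheaf.stalk x) :=
    (e.stalkMap x).hom.toAlgebra
  haveI : Module.Flat (Y.presheaf.stalk (e x)) (Y'.presheaf.stalk x) := Flat.stalkMap e x
  haveI : IsLocalHom (algebraMap (Y.presheaf.stalk (e x)) (Y'.presheaf.stalk x)) :=
    inferInstanceAs (IsLocalHom (e.stalkMap x).hom)
  obtain ⟨a_e, a_d, c, d, -, hA, -, -, -, -, hB⟩ :=
    Groth.Agent.Lib.Helper20.NoEmbFS.exists_nat_data (Y.presheaf.stalk (e x))
      (Y'.presheaf.stalk x)
  rw [hA, hB]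
  exact_mod_cast (by omega : a_d ≤ a_d + d)

set_option maxHeartbeats 800000 in
/-- over every point in the image of a flat morphism there is a generization of the given point
at which the local ring has the same dimension. -/
theorem exists_dim_eq' (y'₀ : Y') :
    ∃ y' : Y', y' ⤳ y'₀ ∧ e y' = e y'₀ ∧
      ringKrullDim (Y'.presheaf.stalk y') = ringKrullDim (Y.presheaf.stalk (e y')) := by
  letI algAB : Algebra (Y.presheaf.stalk (e y'₀)) (Y'.presheaf.stalk y'₀) :=
    (e.stalkMap y'₀).hom.toAlgebra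
  haveI : Module.Flat (Y.presheaf.stalk (e y'₀)) (Y'.presheaf.stalk y'₀) := Flat.stalkMap e y'₀
  haveI : IsLocalHom (algebraMap (Y.presheaf.stalk (e y'₀)) (Y'.presheaf.stalk y'₀)) :=
    inferInstanceAs (IsLocalHom (e.stalkMap y'₀).hom)
  have hr : maximalIdeal (Y.presheaf.stalk (e y'₀)) ≤
      (maximalIdeal (Y'.presheaf.stalk y'₀)).comap
        (algebraMap (Y.presheaf.stalk (e y'₀)) (Y'.presheaf.stalk y'₀)) := by
    have h := ((IsLocalRing.local_hom_TFAE (algebraMap (Y.presheaf.stalk (e y'₀))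
      (Y'.presheaf.stalk y'₀))).out 0 4).mp ‹_›
    exact h.ge
  obtain ⟨s, hs, hsle, hsr, h0, -⟩ := exists_prime_le_fibre_dim_zero
    (Y.presheaf.stalk (e y'₀)) (Y'.presheaf.stalk y'₀) (maximalIdeal _) (maximalIdeal _) hr
  haveI := hs
  obtain ⟨h1, -, -⟩ := Groth.Agent.Lib.Helper4.FlatRing.exists_local_data
    (Y.presheaf.stalk (e y'₀)) (Y'.presheaf.stalk y'₀) s
  rw [h0, add_zero] at h1
  have h2 : s.height = (maximalIdeal (Y.presheaf.stalk (e y'₀))).height := by
    rw [h1]; exact congrArg Ideal.height hsr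
  have hpt : e ((Y'.fromSpecStalk y'₀).base ⟨s, hs⟩) = e y'₀ := by
    have h3 : (Y'.fromSpecStalk y'₀ ≫ e) ⟨s, hs⟩ =
        (Spec.map (e.stalkMap y'₀) ≫ Y.fromSpecStalk (e y'₀)) ⟨s, hs⟩ := by
      rw [Scheme.SpecMap_stalkMap_fromSpecStalk]
    have h4 : (Spec.map (e.stalkMap y'₀)) ⟨s, hs⟩ = closedPoint (Y.presheaf.stalk (e y'₀)) := by
      apply PrimeSpectrum.ext
      exact hsr
    rw [Scheme.Hom.comp_apply, Scheme.Hom.comp_apply, h4, Scheme.fromSpecStalk_closedPoint] at h3
    exact h3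
  refine ⟨(Y'.fromSpecStalk y'₀).base ⟨s, hs⟩, fromSpecStalk_specializes' y'₀ ⟨s, hs⟩, hpt, ?_⟩
  rw [hpt]
  obtain ⟨eq⟩ := nonempty_loc_equiv_stalk y'₀ ⟨s, hs⟩
  rw [← ringKrullDim_eq_of_ringEquiv eq,
    IsLocalization.AtPrime.ringKrullDim_eq_height s (Localization.AtPrime s), h2,
    IsLocalRing.maximalIdeal_height_eq_ringKrullDim]

end Dim

/-- all generizations of `w` of codimension `≤ k` are smooth points of `g`. -/
def FibRk {W T : Scheme.{u}} (g : W ⟶ T) [LocallyOfFinitePresentation g] (k : ℕ) (w : W) : Prop :=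
  ∀ ζ : W, ζ ⤳ w → ringKrullDim (W.presheaf.stalk ζ) ≤ k → ζ ∈ g.smoothLocus

section BC

variable {W T W' T' : Scheme.{u}} (g : W ⟶ T) (g' : W' ⟶ T') (e : W' ⟶ W) (h : T' ⟶ T)
  [LocallyOfFinitePresentation g] [LocallyOfFinitePresentation g']
  [IsLocallyNoetherian W] [IsLocallyNoetherian W']

/-- **flat base change for `FibRk`.** -/
theorem fibRk_bc_iff (hsq : IsPullback e g' g h) [Flat h] (k : ℕ) (w' : W') :
    FibRk g' k w' ↔ FibRk g k (e w') := by
  haveI : Flat e := MorphismProperty.of_isPullback (P := @Flat) hsq.flip inferInstance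
  have hsm : ∀ ζ' : W', ζ' ∈ g'.smoothLocus ↔ e ζ' ∈ g.smoothLocus := fun ζ' =>
    Groth.Agent.Lib.Helper8.SmoothLocusBC.mem_smoothLocus_iff_of_isPullback g h g' e hsq
      (Or.inr inferInstance) ζ'
  constructor
  · intro hR ζ hζ hd
    obtain ⟨ζ'₀, hζ'₀, hζ'₀e⟩ := Flat.generalizingMap e hζ
    obtain ⟨ζ', hsp, he, hdim⟩ := exists_dim_eq' e ζ'₀
    have heζ : e ζ' = ζ := he.trans hζ'₀e
    have hd' : ringKrullDim (W'.presheaf.stalk ζ') ≤ k := by
      rw [hdim, heζ]
      exact hd
    have := (hsm ζ').mp (hR ζ' (hsp.trans hζ'₀) hd')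
    rwa [heζ] at this
  · intro hR ζ' hζ' hd
    refine (hsm ζ').mpr (hR (e ζ') (hζ'.map e.continuous) ?_)
    exact le_trans (ringKrullDim_stalk_le_of_flat e ζ') hd

end BC

section Rk

variable {W T : Scheme.{u}} (g : W ⟶ T) [LocallyOfFinitePresentation g]

/-- over a field, `FibRk` implies `(R_k)` for the local ring. -/
theorem hasRk_of_fibRk {K : Type u} [Field K] {W : Scheme.{u}}
    (g : W ⟶ Spec (CommRingCat.of K)) [LocallyOfFinitePresentation g] (k : ℕ) (w : W)
    (h : FibRk g k w) : LocCoh.HasRk k (W.presheaf.stalk w) := by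
  intro p hp hht
  obtain ⟨e⟩ := nonempty_loc_equiv_stalk w ⟨p, hp⟩
  have hsp := fromSpecStalk_specializes' w ⟨p, hp⟩
  have hdim : ringKrullDim (W.presheaf.stalk ((W.fromSpecStalk w).base ⟨p, hp⟩)) ≤ k := by
    rw [← ringKrullDim_eq_of_ringEquiv e,
      IsLocalization.AtPrime.ringKrullDim_eq_height p (Localization.AtPrime p)]
    exact_mod_cast hht
  have hsm := h _ hsp hdim
  haveI hreg := Groth.Agent.Lib.Helper14.GeomRegSmooth.isRegularLocalRing_stalk_of_mem_smoothLocus
    K g _ hsm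
  exact IsRegularLocalRing.of_ringEquiv e.symm

end Rk

section Field

variable {κ : Type u} [Field κ] {W : Scheme.{u}} (g : W ⟶ Spec (CommRingCat.of κ))
  [LocallyOfFinitePresentation g]

/-- **the geometric `(R_k)` condition over all field extensions, via the smooth locus.** -/
theorem allK_hasRk_iff (k : ℕ) (w : W) :
    (∀ (K : Type u) [Field K] [Algebra κ K] (x' : ↥(FBase.bc g K)),
      (FBase.bcπ g K).base x' = w → LocCoh.HasRk k ((FBase.bc g K).presheaf.stalk x')) ↔
    FibRk g k w := by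
  constructor
  · intro hall ζ hζ hd
    refine smooth_of_geomRkAt g k w ?_ ζ hζ hd
    intro K _ _ _ x' hx'
    exact hall K x' hx'
  · intro hR K _ _ x' hx'
    haveI := isLocallyNoetherian_bc g K
    haveI := isLocallyNoetherian_src g
    haveI : Flat (Spec.map (CommRingCat.ofHom (algebraMap κ K))) := by
      rw [Flat.SpecMap_iff]
      exact RingHom.flat_algebraMap_iff.mpr inferInstance
    have h1 := (fibRk_bc_iff g (FBase.bcStr g K) (FBase.bcπ g K)
      (Spec.map (CommRingCat.ofHom (algebraMap κ K))) (isPullback_bc g K) k x').mpr (by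
        rw [hx']; exact hR)
    exact hasRk_of_fibRk (FBase.bcStr g K) k x' h1

end Field

end Groth.Agent.Lib.Helper20.GRkC
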