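import Mathlib
import Groth.Agent.Lib.Helper14.ConsFibre.CM
import Groth.Agent.Lib.Helper14.CMMod.CoprofRing
import Groth.Agent.Lib.Helper20.RD5

/-!
# Constructibility of the locus where the fibre local ring has codepth `≤ n` / `= n` (helper20)
-/

set_option autoImplicit false
set_option linter.style.haveILetI false
set_option linter.unusedSectionVars false
universe u

open CategoryTheory CategoryTheory.Limits AlgebraicGeometry IsLocalRing TensorProduct Topology

namespace Groth.Agent.Lib.Helper20.CodepthCons

open Groth.Agent.Lib.Helper14 Groth.Agent.Lib.Helper14.CMFieldBC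
  Groth.Agent.Lib.Helper14.StalkTensor Groth.Agent.Lib.Helper14.CMFieldBCSch

/-- the codepth of the local ring `R` is at most `n`. -/
def CPr (n : ℕ) (R : Type u) [CommRing R] [IsLocalRing R] : Prop :=
  ringKrullDim R ≤ ((LocCoh.depth R R : ℕ∞) : WithBot ℕ∞) + (n : WithBot ℕ∞)

theorem depth_self_eq_of_ringEquiv {R R' : Type u} [CommRing R] [CommRing R'] [IsLocalRing R]
    [IsLocalRing R'] (e : R ≃+* R') : LocCoh.depth R R = LocCoh.depth R' R' :=
  Groth.Agent.Lib.Helper20.RD.depth_eq_of_semilinear (e : R →+* R') e.surjective e.toAddEquiv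
    (fun r m => by
      change e (r * m) = e r * e m
      exact map_mul e r m)

theorem cpr_of_ringEquiv {n : ℕ} {R R' : Type u} [CommRing R] [CommRing R'] [IsLocalRing R]
    [IsLocalRing R'] (e : R ≃+* R') (h : CPr n R) : CPr n R' := by
  unfold CPr at h ⊢
  rw [← ringKrullDim_eq_of_ringEquiv e, ← depth_self_eq_of_ringEquiv e]
  exact h

theorem cpr_iff_of_ringEquiv {n : ℕ} {R R' : Type u} [CommRing R] [CommRing R'] [IsLocalRing R]
    [IsLocalRing R'] (e : R ≃+* R') : CPr n R ↔ CPr n R' :=
  ⟨cpr_of_ringEquiv e, cpr_of_ringEquiv e.symm⟩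

section ring
variable (k S k' : Type u) [Field k] [CommRing S] [Algebra k S] [Field k'] [Algebra k k']
  [IsNoetherianRing S] [IsNoetherianRing (S ⊗[k] k')]

theorem cpr_atPrime_iff (n : ℕ) (q' : Ideal (S ⊗[k] k')) [q'.IsPrime]
    (h : Algebra.EssFiniteType k (q'.comap (algebraMap S (S ⊗[k] k'))).ResidueField ∨
      Algebra.EssFiniteType k k') :
    CPr n (Localization.AtPrime (q'.comap (algebraMap S (S ⊗[k] k')))) ↔
      CPr n (Localization.AtPrime q') := by
  obtain ⟨c, hc, h1, h2⟩ := local_formulas_of_cm_fibre S (S ⊗[k] k') q'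
    (cm_fiber_tensor k S k' _ h)
  unfold CPr
  rw [IsLocalization.AtPrime.ringKrullDim_eq_height (q'.comap (algebraMap S (S ⊗[k] k')))
    (Localization.AtPrime (q'.comap (algebraMap S (S ⊗[k] k')))),
    IsLocalization.AtPrime.ringKrullDim_eq_height q' (Localization.AtPrime q'), h1, h2]
  have key : ∀ a d : ℕ∞, (a ≤ d + n ↔ a + c ≤ d + c + n) := by
    intro a d
    rw [add_right_comm d c n]
    exact (ENat.add_le_add_iff_right hc).symm
  constructor
  · intro hh
    have h3 : (q'.comap (algebraMap S (S ⊗[k] k'))).height ≤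
        LocCoh.depth (Localization.AtPrime (q'.comap (algebraMap S (S ⊗[k] k'))))
          (Localization.AtPrime (q'.comap (algebraMap S (S ⊗[k] k')))) + n := by
      exact_mod_cast hh
    exact_mod_cast (key _ _).1 h3
  · intro hh
    have h3 : (q'.comap (algebraMap S (S ⊗[k] k'))).height + c ≤
        LocCoh.depth (Localization.AtPrime (q'.comap (algebraMap S (S ⊗[k] k'))))
          (Localization.AtPrime (q'.comap (algebraMap S (S ⊗[k] k')))) + c + n := by
      exact_mod_cast hh
    exact_mod_cast (key _ _).2 h3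

omit [IsNoetherianRing S] in
theorem cpr_atPrime_maximalIdeal_iff (n : ℕ) [IsLocalRing S] (P : Ideal S) [P.IsPrime]
    (hP : P = maximalIdeal S) :
    CPr n (Localization.AtPrime P) ↔ CPr n S := by
  subst hP
  let e : S ≃ₐ[S] Localization.AtPrime (maximalIdeal S) :=
    IsLocalization.atUnits S (maximalIdeal S).primeCompl (by
      intro x hx
      exact IsLocalRing.notMem_maximalIdeal.mp hx)
  exact (cpr_iff_of_ringEquiv e.toRingEquiv).symm

end ring

section scheme
variable {k : Type u} [Field k] {X : Scheme.{u}} (f : X ⟶ Spec (CommRingCat.of k))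
variable (k' : Type u) [Field k'] [Algebra k k']

local notation "qk" => Spec.map (CommRingCat.ofHom (algebraMap k k'))

/-- codepth at `x'` and at its image under base field extension. -/
theorem cpr_stalk_iff (n : ℕ) [IsLocallyNoetherian X] (x' : ↥(pullback f qk))
    (hN : letI := stalkAlgA f ((pullback.fst f qk) x')
      IsNoetherianRing (X.presheaf.stalk ((pullback.fst f qk) x') ⊗[k] k'))
    (h : letI := stalkAlgA f ((pullback.fst f qk) x')
      Algebra.EssFiniteType k (X.presheaf.stalk ((pullback.fst f qk) x')) ∨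
      Algebra.EssFiniteType k k') :
    CPr n (X.presheaf.stalk ((pullback.fst f qk) x')) ↔
      CPr n ((pullback f qk).presheaf.stalk x') := by
  letI := stalkAlgA f ((pullback.fst f qk) x')
  have hc := stalkAlgA_compat f ((pullback.fst f qk) x')
  haveI := hN
  obtain ⟨Q, hQp, hQ1, ⟨e⟩⟩ := exists_prime_stalk_equiv f k' ((pullback.fst f qk) x') hc x' rfl
  have hQ1' : Q.comap (algebraMap (X.presheaf.stalk ((pullback.fst f qk) x'))
      (X.presheaf.stalk ((pullback.fst f qk) x') ⊗[k] k')) = maximalIdeal _ := hQ1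
  have h' : Algebra.EssFiniteType k (Q.comap (algebraMap (X.presheaf.stalk ((pullback.fst f qk) x'))
      (X.presheaf.stalk ((pullback.fst f qk) x') ⊗[k] k'))).ResidueField ∨
      Algebra.EssFiniteType k k' := by
    rcases h with h | h
    · left
      haveI := h
      exact Algebra.EssFiniteType.comp k (X.presheaf.stalk ((pullback.fst f qk) x')) _
    · right; exact h
  have key := cpr_atPrime_iff k (X.presheaf.stalk ((pullback.fst f qk) x')) k' n Q h'
  rw [cpr_atPrime_maximalIdeal_iff _ n _ hQ1'] at key
  rw [key]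
  exact (cpr_iff_of_ringEquiv e).symm

end scheme

end Groth.Agent.Lib.Helper20.CodepthCons
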