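import Mathlib
import Groth.Agent.Lib.Helper20.CodepthCons
import Groth.Agent.Lib.Helper14.CMBaseChange
import Groth.Agent.Lib.Helper12.ConstrNhds

/-!
# Constructibility of the locus where the fibre local ring has codepth `≤ n` / `= n`, II (helper20)
-/

set_option autoImplicit false
set_option linter.style.haveILetI false
set_option linter.unusedSectionVars false
universe u

open CategoryTheory CategoryTheory.Limits AlgebraicGeometry IsLocalRing TensorProduct Topology
  Opposite

namespace Groth.Agent.Lib.Helper20.CodepthCons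

open Groth.Agent.Lib.Helper14 Groth.Agent.Lib.Helper14.CMBaseChange
  Groth.Agent.Lib.Helper14.ConsFibre

variable {X Y X' Y' : Scheme.{u}}

set_option maxHeartbeats 1000000 in
theorem cpr_fibre_iff (n : ℕ) {f : X ⟶ Y} {f' : X' ⟶ Y'} {g' : X' ⟶ X} {g : Y' ⟶ Y}
    (hc : IsPullback g' f' f g) (x' : X') [IsLocallyNoetherian (f.fiber (g (f' x')))]
    (hf : LocallyOfFiniteType f) :
    CPr n ↑((f.fiber (f (g' x'))).presheaf.stalk (f.asFiber (g' x'))) ↔
      CPr n ↑((f'.fiber (f' x')).presheaf.stalk (f'.asFiber x')) := by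
  obtain ⟨e, hpb, he⟩ := LCF.exists_fibre_isPullback hc (f' x')
  letI aK : Algebra (Y.residueField (g (f' x'))) (Y'.residueField (f' x')) :=
    (g.residueFieldMap (f' x')).hom.toAlgebra
  set φ : f.fiber (g (f' x')) ⟶ Spec (CommRingCat.of (Y.residueField (g (f' x')))) :=
    f.fiberToSpecResidueField (g (f' x')) with hφ
  have hpb' : IsPullback e (f'.fiberToSpecResidueField (f' x')) φ
      (Spec.map (CommRingCat.ofHom (algebraMap (Y.residueField (g (f' x')))
        (Y'.residueField (f' x'))))) := hpb
  set iso := hpb'.isoPullback with hiso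
  set x₀' := f'.asFiber x' with hx₀'
  set x'' := iso.hom x₀' with hx''
  set z := pullback.fst φ (Spec.map (CommRingCat.ofHom (algebraMap (Y.residueField (g (f' x')))
        (Y'.residueField (f' x'))))) x'' with hz
  have hzι : f.fiberι (g (f' x')) z = g' x' := by
    have h1 : z = e x₀' :=
      (Scheme.Hom.comp_apply _ _ _).symm.trans
        (congrArg (fun m : f'.fiber (f' x') ⟶ f.fiber (g (f' x')) => m x₀')
          (IsPullback.isoPullback_hom_fst hpb'))
    have h2 : f.fiberι (g (f' x')) (e x₀') = g' (f'.fiberι (f' x') x₀') :=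
      (Scheme.Hom.comp_apply _ _ _).symm.trans
        ((congrArg (fun m : f'.fiber (f' x') ⟶ X => m x₀') he).trans
          (Scheme.Hom.comp_apply _ _ _))
    rw [h1, h2, f'.fiberι_asFiber]
  obtain ⟨e1⟩ := nonempty_stalk_equiv_of_fiberι_eq f (f (g' x')) (g (f' x'))
    ((Scheme.Hom.comp_apply _ _ _).symm.trans
      ((congrArg (fun m : X' ⟶ Y => m x') hc.w).trans (Scheme.Hom.comp_apply _ _ _)))
    (f.asFiber (g' x')) z (by
    rw [f.fiberι_asFiber, hzι])
  let e3 : ↑((pullback φ (Spec.map (CommRingCat.ofHom (algebraMap (Y.residueField (g (f' x')))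
        (Y'.residueField (f' x')))))).presheaf.stalk x'') ≃+*
      ↑((f'.fiber (f' x')).presheaf.stalk x₀') :=
    (asIso (iso.hom.stalkMap x₀')).commRingCatIsoToRingEquiv
  have key : CPr n ↑((f.fiber (g (f' x'))).presheaf.stalk z) ↔
      CPr n ↑((pullback φ (Spec.map (CommRingCat.ofHom
        (algebraMap (Y.residueField (g (f' x'))) (Y'.residueField (f' x')))))).presheaf.stalk
          x'') := by
    haveI := hf
    have hφft : LocallyOfFiniteType (f.fiberToSpecResidueField (g (f' x'))) := by
      change LocallyOfFiniteType (pullback.snd f (Y.fromSpecResidueField (g (f' x'))))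
      infer_instance
    haveI : LocallyOfFiniteType φ := hφft
    letI := Groth.Agent.Lib.Helper14.StalkTensor.stalkAlgA φ z
    haveI hE : Algebra.EssFiniteType (Y.residueField (g (f' x')))
        ((f.fiber (g (f' x'))).presheaf.stalk z) := by
      rw [← RingHom.essFiniteType_algebraMap,
        Groth.Agent.Lib.Helper14.CMFieldBCSch.algebraMap_stalkAlgA]
      exact Groth.Agent.Lib.Helper14.GeomRegSmooth.essFiniteType_stalkStr _ _
    refine cpr_stalk_iff φ (Y'.residueField (f' x')) n x'' ?_ (Or.inl hE)
    haveI : IsNoetherianRing (TensorProduct (Y.residueField (g (f' x')))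
        (Y'.residueField (f' x')) ((f.fiber (g (f' x'))).presheaf.stalk z)) :=
      Algebra.EssFiniteType.isNoetherianRing (Y'.residueField (f' x')) _
    exact isNoetherianRing_of_ringEquiv _
      (Algebra.TensorProduct.comm (Y.residueField (g (f' x'))) (Y'.residueField (f' x'))
        ((f.fiber (g (f' x'))).presheaf.stalk z)).toRingEquiv
  rw [cpr_iff_of_ringEquiv e1, key, cpr_iff_of_ringEquiv e3]

/-- the set of points at which the fibre local ring has codepth at most `n`. -/
def cpSet (n : ℕ) ⦃X S : Scheme.{u}⦄ (f : X ⟶ S) : Set X :=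
  {x : X | CPr n ((f.fiber (f x)).presheaf.stalk (f.asFiber x))}

theorem cpSet_isFibreCons (n : ℕ) : IsFibreCons.{u} (cpSet n) where
  baseChange := by
    intro X S X' S' f f' g' g hc hf
    ext x'
    haveI : LocallyOfFiniteType (f.fiberToSpecResidueField (g (f' x'))) := by
      change LocallyOfFiniteType (pullback.snd f (S.fromSpecResidueField (g (f' x'))))
      infer_instance
    haveI : IsLocallyNoetherian (f.fiber (g (f' x'))) :=
      LocallyOfFiniteType.isLocallyNoetherian (f.fiberToSpecResidueField (g (f' x')))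
    exact (cpr_fibre_iff n hc x' hf).symm
  restrict := by
    intro X S f U hf
    ext u
    obtain ⟨e⟩ := nonempty_stalk_equiv_restrict f U u
    exact cpr_iff_of_ringEquiv e
  isOpen_of_flat := by
    intro X S f hfl hfp
    have h := Groth.Agent.Lib.Helper14.CMMod.isOpen_flat_and_fibre_cp f n
    convert h using 1
    ext x
    simp only [cpSet, Set.mem_setOf_eq]
    unfold CPr Groth.Agent.Lib.Helper14.CMMod.CP
    rw [Module.supportDim_self_eq_ringKrullDim]
    exact ⟨fun h => ⟨Flat.stalkMap f x, h⟩, fun h => h.2⟩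

theorem isLocallyConstructible_cpSet (n : ℕ) {X S : Scheme.{u}} (f : X ⟶ S)
    [LocallyOfFinitePresentation f] : IsLocallyConstructible (cpSet n f) :=
  isLocallyConstructible (cpSet_isFibreCons n) f

end Groth.Agent.Lib.Helper20.CodepthCons
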