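import Mathlib
import Groth.Agent.Lib.Helper20.SkFib2

/-!
# Openness on the base of the locus of `(S_k)` fibres, for proper flat morphisms (helper20)
-/

set_option autoImplicit false
set_option linter.style.haveILetI false
set_option linter.unusedSectionVars false
set_option linter.dupNamespace false
universe u

open IsLocalRing TensorProduct CategoryTheory CategoryTheory.Limits AlgebraicGeometry

namespace Groth.Agent.Lib.Helper20.SkFib

open Groth.Agent.Lib.Helper14.CMMod Groth.Agent.Lib.Helper12

section Sch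

open Groth.Agent.Lib.Helper3 Groth.Agent.Lib.Helper1.FlatAffine Groth.Agent.Lib.Helper17
  Groth.Agent.Lib.Helper14.FlatOpen

variable {X Y : Scheme.{u}} (f : X ⟶ Y)

/-- the intrinsic condition at `x`: `O_{X,x} / 𝔪_{f x} O_{X,x}` satisfies `(S_k)`. -/
def QXsk (k : ℕ) (x : X) : Prop :=
  LocCoh.HasSk k
    (X.presheaf.stalk x ⧸
      Ideal.map (f.stalkMap x).hom (IsLocalRing.maximalIdeal (Y.presheaf.stalk (f.base x))))
    (X.presheaf.stalk x ⧸
      Ideal.map (f.stalkMap x).hom (IsLocalRing.maximalIdeal (Y.presheaf.stalk (f.base x))))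

/-- the condition on the fibre is the intrinsic condition. -/
theorem fibre_hasSk_iff [LocallyOfFiniteType f] (k : ℕ) (s : Y) (z : f.fiber s) :
    LocCoh.HasSk k ((f.fiber s).presheaf.stalk z) ((f.fiber s).presheaf.stalk z) ↔
      QXsk f k ((f.fiberι s).base z) := by
  obtain ⟨hsurj, hker⟩ := FibreStalkMap.stalkMap_fiberι f s z
  let e : (X.presheaf.stalk ((f.fiberι s).base z) ⧸
      Ideal.map (f.stalkMap ((f.fiberι s).base z)).hom
        (IsLocalRing.maximalIdeal (Y.presheaf.stalk (f.base ((f.fiberι s).base z))))) ≃+*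
      (f.fiber s).presheaf.stalk z :=
    (Ideal.quotEquivOfEq hker.symm).trans (RingHom.quotientKerEquivOfSurjective hsurj)
  haveI := isNoetherianRing_fibreStalk f s z
  haveI : IsNoetherianRing (X.presheaf.stalk ((f.fiberι s).base z) ⧸
      Ideal.map (f.stalkMap ((f.fiberι s).base z)).hom
        (IsLocalRing.maximalIdeal (Y.presheaf.stalk (f.base ((f.fiberι s).base z))))) :=
    isNoetherianRing_of_ringEquiv _ e.symm
  unfold QXsk
  exact ⟨Groth.Agent.Lib.Helper14.SkTensor.hasSk_self_of_ringEquiv e.symm k,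
    Groth.Agent.Lib.Helper14.SkTensor.hasSk_self_of_ringEquiv e k⟩

theorem isOpen_QXsk [Flat f] [LocallyOfFinitePresentation f] (k : ℕ) :
    IsOpen {x : X | QXsk f k x} := by
  convert isOpen_fibre_hasSk f k using 1
  ext x
  simp only [Set.mem_setOf_eq]
  rw [fibre_hasSk_iff f k (f.base x) (f.asFiber x)]
  have := f.fiberι_asFiber x
  rw [this]

/-- form on the base, for a closed map. -/
theorem isOpen_fibre_hasSk_base [Flat f] [LocallyOfFinitePresentation f]
    (hcl : IsClosedMap f.base) (k : ℕ) :
    IsOpen {y : Y | ∀ x : ↥(f.fiber y),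
      LocCoh.HasSk k ((f.fiber y).presheaf.stalk x) ((f.fiber y).presheaf.stalk x)} := by
  have h := isOpen_QXsk f k
  have h2 : IsClosed (f.base '' {x : X | QXsk f k x}ᶜ) := hcl _ h.isClosed_compl
  convert h2.isOpen_compl using 1
  ext y
  simp only [Set.mem_setOf_eq, Set.mem_compl_iff, Set.mem_image, not_exists, not_and, not_not]
  constructor
  · intro hall x hx hxy
    subst hxy
    have h3 := hall (f.asFiber x)
    rw [fibre_hasSk_iff f k (f.base x) (f.asFiber x)] at h3
    have := f.fiberι_asFiber x
    rw [this] at h3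
    exact hx h3
  · intro hall z
    rw [fibre_hasSk_iff f k y z]
    by_contra hne
    have h3 : (f.fiberι y).base z ∈ f.base ⁻¹' {y} := by
      rw [← f.range_fiberι y]
      exact ⟨z, rfl⟩
    exact hall _ hne h3

end Sch

end Groth.Agent.Lib.Helper20.SkFib
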