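import Mathlib
import Groth.Agent.Lib.Helper20.SkFib3
import Groth.Agent.Lib.Helper20.CodepthCons2

/-!
# Constructibility of the locus where the fibre local ring satisfies `(S_k)` (helper20)
-/

set_option autoImplicit false
set_option linter.style.haveILetI false
set_option linter.unusedSectionVars false
universe u

open CategoryTheory CategoryTheory.Limits AlgebraicGeometry IsLocalRing TensorProduct Topology
  Opposite

namespace Groth.Agent.Lib.Helper20.SkCons

open Groth.Agent.Lib.Helper14 Groth.Agent.Lib.Helper14.CMFieldBC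
  Groth.Agent.Lib.Helper14.StalkTensor Groth.Agent.Lib.Helper14.CMFieldBCSch
  Groth.Agent.Lib.Helper14.CMBaseChange Groth.Agent.Lib.Helper14.ConsFibre

/-- the ring `R` satisfies `(S_k)`. -/
def SKr (k : ℕ) (R : Type u) [CommRing R] : Prop := LocCoh.HasSk k R R

theorem skr_iff_of_ringEquiv {k : ℕ} {R R' : Type u} [CommRing R] [CommRing R']
    [IsNoetherianRing R] (e : R ≃+* R') : SKr k R ↔ SKr k R' := by
  haveI : IsNoetherianRing R' := isNoetherianRing_of_ringEquiv R e
  exact ⟨Groth.Agent.Lib.Helper14.SkTensor.hasSk_self_of_ringEquiv e k,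
    Groth.Agent.Lib.Helper14.SkTensor.hasSk_self_of_ringEquiv e.symm k⟩

section ring
variable (k S k' : Type u) [Field k] [CommRing S] [Algebra k S] [Field k'] [Algebra k k']
  [IsNoetherianRing S] [IsNoetherianRing (S ⊗[k] k')]

theorem skr_atPrime_iff (n : ℕ) (q' : Ideal (S ⊗[k] k')) [q'.IsPrime]
    (h : Algebra.EssFiniteType k S ∨ Algebra.EssFiniteType k k') :
    SKr n (Localization.AtPrime (q'.comap (algebraMap S (S ⊗[k] k')))) ↔
      SKr n (Localization.AtPrime q') := by
  have hfib : ∀ (P : Ideal S) [P.IsPrime], LocCoh.IsCohenMacaulayRing (P.Fiber (S ⊗[k] k')) := by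
    intro P _
    apply cm_fiber_tensor k S k' P
    rcases h with h | h
    · left
      haveI := h
      exact Algebra.EssFiniteType.comp k S P.ResidueField
    · right; exact h
  have := hasSkAt_iff S (S ⊗[k] k') hfib n q'
  rw [hasSkAt_self_iff_hasSk, hasSkAt_self_iff_hasSk] at this
  exact this

omit [IsNoetherianRing (S ⊗[k] k')] in
theorem skr_atPrime_maximalIdeal_iff (n : ℕ) [IsLocalRing S] (P : Ideal S) [P.IsPrime]
    (hP : P = maximalIdeal S) :
    SKr n (Localization.AtPrime P) ↔ SKr n S := by
  subst hP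
  let e : S ≃ₐ[S] Localization.AtPrime (maximalIdeal S) :=
    IsLocalization.atUnits S (maximalIdeal S).primeCompl (by
      intro x hx
      exact IsLocalRing.notMem_maximalIdeal.mp hx)
  exact (skr_iff_of_ringEquiv e.toRingEquiv).symm

end ring

section scheme
variable {k : Type u} [Field k] {X : Scheme.{u}} (f : X ⟶ Spec (CommRingCat.of k))
variable (k' : Type u) [Field k'] [Algebra k k']

local notation "qk" => Spec.map (CommRingCat.ofHom (algebraMap k k'))

/-- `(S_n)` at `x'` and at its image under base field extension. -/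
theorem skr_stalk_iff (n : ℕ) [IsLocallyNoetherian X] (x' : ↥(pullback f qk))
    (hN : letI := stalkAlgA f ((pullback.fst f qk) x')
      IsNoetherianRing (X.presheaf.stalk ((pullback.fst f qk) x') ⊗[k] k'))
    (h : letI := stalkAlgA f ((pullback.fst f qk) x')
      Algebra.EssFiniteType k (X.presheaf.stalk ((pullback.fst f qk) x')) ∨
      Algebra.EssFiniteType k k') :
    IsNoetherianRing ((pullback f qk).presheaf.stalk x') ∧
    (SKr n (X.presheaf.stalk ((pullback.fst f qk) x')) ↔
      SKr n ((pullback f qk).presheaf.stalk x')) := by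
  letI := stalkAlgA f ((pullback.fst f qk) x')
  have hc := stalkAlgA_compat f ((pullback.fst f qk) x')
  haveI := hN
  obtain ⟨Q, hQp, hQ1, ⟨e⟩⟩ := exists_prime_stalk_equiv f k' ((pullback.fst f qk) x') hc x' rfl
  have hQ1' : Q.comap (algebraMap (X.presheaf.stalk ((pullback.fst f qk) x'))
      (X.presheaf.stalk ((pullback.fst f qk) x') ⊗[k] k')) = maximalIdeal _ := hQ1
  haveI : IsNoetherianRing (Localization.AtPrime Q) :=
    IsLocalization.isNoetherianRing Q.primeCompl _ inferInstance
  haveI hNst : IsNoetherianRing ((pullback f qk).presheaf.stalk x') :=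
    isNoetherianRing_of_ringEquiv _ e.symm
  refine ⟨hNst, ?_⟩
  have key := skr_atPrime_iff k (X.presheaf.stalk ((pullback.fst f qk) x')) k' n Q h
  rw [skr_atPrime_maximalIdeal_iff _ n _ hQ1'] at key
  rw [key]
  exact (skr_iff_of_ringEquiv e).symm

end scheme

variable {X Y X' Y' : Scheme.{u}}

set_option maxHeartbeats 1000000 in
theorem skr_fibre_iff (n : ℕ) {f : X ⟶ Y} {f' : X' ⟶ Y'} {g' : X' ⟶ X} {g : Y' ⟶ Y}
    (hc : IsPullback g' f' f g) (x' : X') [IsLocallyNoetherian (f.fiber (g (f' x')))]
    (hf : LocallyOfFiniteType f) :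
    SKr n ↑((f.fiber (f (g' x'))).presheaf.stalk (f.asFiber (g' x'))) ↔
      SKr n ↑((f'.fiber (f' x')).presheaf.stalk (f'.asFiber x')) := by
  obtain ⟨e, hpb, he⟩ := LCF.exists_fibre_isPullback hc (f' x')
  letI aK : Algebra (Y.residueField (g (f' x'))) (Y'.residueField (f' x')) :=
    (g.residueFieldMap (f' x')).hom.toAlgebra
  set φ : f.fiber (g (f' x')) ⟶ Spec (CommRingCat.of (Y.residueField (g (f' x')))) :=
    f.fiberToSpecResidueField (g (f' x')) with hφ
  have hpb' : IsPullback e (f'.fiberToSpecResidueField (f' x')) φ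
      (Spec.map (CommRingCat.ofHom (algebraMap (Y.residueField (g (f' x')))
        (Y'.residueField (f' x'))))) := hpb
  set iso := hpb'.isoPullback with hiso
  set x₀' := f'.asFiber x' with hx₀'
  set x'' := iso.hom x₀' with hx''
  set z := pullback.fst φ (Spec.map (CommRingCat.ofHom (algebraMap (Y.residueField (g (f' x')))
        (Y'.residueField (f' x'))))) x'' with hz
  have hzι : f.fiberι (g (f' x')) z = g' x' := by
    have h1 : z = e x₀' :=
      (Scheme.Hom.comp_apply _ _ _).symm.trans
        (congrArg (fun m : f'.fiber (f' x') ⟶ f.fiber (g (f' x')) => m x₀')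
          (IsPullback.isoPullback_hom_fst hpb'))
    have h2 : f.fiberι (g (f' x')) (e x₀') = g' (f'.fiberι (f' x') x₀') :=
      (Scheme.Hom.comp_apply _ _ _).symm.trans
        ((congrArg (fun m : f'.fiber (f' x') ⟶ X => m x₀') he).trans
          (Scheme.Hom.comp_apply _ _ _))
    rw [h1, h2, f'.fiberι_asFiber]
  obtain ⟨e1⟩ := nonempty_stalk_equiv_of_fiberι_eq f (f (g' x')) (g (f' x'))
    ((Scheme.Hom.comp_apply _ _ _).symm.trans
      ((congrArg (fun m : X' ⟶ Y => m x') hc.w).trans (Scheme.Hom.comp_apply _ _ _)))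
    (f.asFiber (g' x')) z (by
    rw [f.fiberι_asFiber, hzι])
  let e3 : ↑((pullback φ (Spec.map (CommRingCat.ofHom (algebraMap (Y.residueField (g (f' x')))
        (Y'.residueField (f' x')))))).presheaf.stalk x'') ≃+*
      ↑((f'.fiber (f' x')).presheaf.stalk x₀') :=
    (asIso (iso.hom.stalkMap x₀')).commRingCatIsoToRingEquiv
  have key : IsNoetherianRing ↑((pullback φ (Spec.map (CommRingCat.ofHom
        (algebraMap (Y.residueField (g (f' x'))) (Y'.residueField (f' x')))))).presheaf.stalk
          x'') ∧
      (SKr n ↑((f.fiber (g (f' x'))).presheaf.stalk z) ↔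
      SKr n ↑((pullback φ (Spec.map (CommRingCat.ofHom
        (algebraMap (Y.residueField (g (f' x'))) (Y'.residueField (f' x')))))).presheaf.stalk
          x'')) := by
    haveI := hf
    have hφft : LocallyOfFiniteType (f.fiberToSpecResidueField (g (f' x'))) := by
      change LocallyOfFiniteType (pullback.snd f (Y.fromSpecResidueField (g (f' x'))))
      infer_instance
    haveI : LocallyOfFiniteType φ := hφft
    letI := Groth.Agent.Lib.Helper14.StalkTensor.stalkAlgA φ z
    haveI hE : Algebra.EssFiniteType (Y.residueField (g (f' x')))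
        ((f.fiber (g (f' x'))).presheaf.stalk z) := by
      rw [← RingHom.essFiniteType_algebraMap,
        Groth.Agent.Lib.Helper14.CMFieldBCSch.algebraMap_stalkAlgA]
      exact Groth.Agent.Lib.Helper14.GeomRegSmooth.essFiniteType_stalkStr _ _
    refine skr_stalk_iff φ (Y'.residueField (f' x')) n x'' ?_ (Or.inl hE)
    haveI : IsNoetherianRing (TensorProduct (Y.residueField (g (f' x')))
        (Y'.residueField (f' x')) ((f.fiber (g (f' x'))).presheaf.stalk z)) :=
      Algebra.EssFiniteType.isNoetherianRing (Y'.residueField (f' x')) _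
    exact isNoetherianRing_of_ringEquiv _
      (Algebra.TensorProduct.comm (Y.residueField (g (f' x'))) (Y'.residueField (f' x'))
        ((f.fiber (g (f' x'))).presheaf.stalk z)).toRingEquiv
  haveI := key.1
  haveI : IsNoetherianRing ↑((f.fiber (g (f' x'))).presheaf.stalk z) := inferInstance
  rw [← skr_iff_of_ringEquiv e1.symm, key.2, skr_iff_of_ringEquiv e3]

/-- the set of points at which the fibre local ring satisfies `(S_k)`. -/
def skSet (n : ℕ) ⦃X S : Scheme.{u}⦄ (f : X ⟶ S) : Set X :=
  {x : X | SKr n ((f.fiber (f x)).presheaf.stalk (f.asFiber x))}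

theorem skSet_isFibreCons (n : ℕ) : IsFibreCons.{u} (skSet n) where
  baseChange := by
    intro X S X' S' f f' g' g hc hf
    ext x'
    haveI : LocallyOfFiniteType (f.fiberToSpecResidueField (g (f' x'))) := by
      change LocallyOfFiniteType (pullback.snd f (S.fromSpecResidueField (g (f' x'))))
      infer_instance
    haveI : IsLocallyNoetherian (f.fiber (g (f' x'))) :=
      LocallyOfFiniteType.isLocallyNoetherian (f.fiberToSpecResidueField (g (f' x')))
    exact (skr_fibre_iff n hc x' hf).symm
  restrict := by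
    intro X S f U hf
    ext u
    obtain ⟨e⟩ := nonempty_stalk_equiv_restrict f U u
    haveI := hf
    haveI := Groth.Agent.Lib.Helper20.SkFib.isNoetherianRing_fibreStalk f (f (U.ι u))
      (f.asFiber (U.ι u))
    exact (skr_iff_of_ringEquiv e.symm).symm
  isOpen_of_flat := by
    intro X S f hfl hfp
    exact Groth.Agent.Lib.Helper20.SkFib.isOpen_fibre_hasSk f n

/-- **the locus where the fibre local ring satisfies `(S_k)` is locally constructible.** -/
theorem isLocallyConstructible_skSet (n : ℕ) {X S : Scheme.{u}} (f : X ⟶ S)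
    [LocallyOfFinitePresentation f] : IsLocallyConstructible (skSet n f) :=
  isLocallyConstructible (skSet_isFibreCons n) f

end Groth.Agent.Lib.Helper20.SkCons
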