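import Mathlib
import Groth.Agent.Lib.Helper20.NoEmbFS3
import Groth.Agent.Lib.Helper20.SkCons

/-!
# The codepth equality for the extension of the base field (helper20)
-/

set_option autoImplicit false
set_option linter.style.haveILetI false
set_option linter.unusedSectionVars false
set_option linter.dupNamespace false
universe u

open IsLocalRing TensorProduct CategoryTheory CategoryTheory.Limits AlgebraicGeometry
  TopologicalSpace

namespace Groth.Agent.Lib.Helper20.NoEmbFS

open Groth.Agent.Lib.Helper14 Groth.Agent.Lib.Helper14.CMFieldBC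
  Groth.Agent.Lib.Helper14.StalkTensor Groth.Agent.Lib.Helper14.CMFieldBCSch
  Groth.Agent.Lib.Helper14.CMBaseChange Groth.Agent.Lib.Helper14.ConsFibre

theorem cer_of_ringEquiv {A A' B B' : Type u} [CommRing A] [CommRing A'] [CommRing B]
    [CommRing B'] [IsLocalRing A] [IsLocalRing A'] [IsLocalRing B] [IsLocalRing B']
    (eA : A ≃+* A') (eB : B ≃+* B') (h : CEr A B) : CEr A' B' := by
  unfold CEr at h ⊢
  rw [← ringKrullDim_eq_of_ringEquiv eA, ← ringKrullDim_eq_of_ringEquiv eB,
    ← Groth.Agent.Lib.Helper20.CodepthCons.depth_self_eq_of_ringEquiv eA,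
    ← Groth.Agent.Lib.Helper20.CodepthCons.depth_self_eq_of_ringEquiv eB]
  exact h

theorem nonempty_equiv_atPrime_of_eq_maximalIdeal {S : Type u} [CommRing S] [IsLocalRing S]
    (P : Ideal S) [P.IsPrime] (hP : P = maximalIdeal S) :
    Nonempty (S ≃+* Localization.AtPrime P) := by
  subst hP
  exact ⟨(IsLocalization.atUnits S (maximalIdeal S).primeCompl (by
    intro x hx
    exact IsLocalRing.notMem_maximalIdeal.mp hx)).toRingEquiv⟩

section scheme
variable {k : Type u} [Field k] {X : Scheme.{u}} (f : X ⟶ Spec (CommRingCat.of k))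
  [LocallyOfFiniteType f]
variable (k' : Type u) [Field k'] [Algebra k k']

local notation "qk" => Spec.map (CommRingCat.ofHom (algebraMap k k'))

set_option maxHeartbeats 800000 in
/-- the codepth equality for the local rings of a base field extension. -/
theorem cer_standard (x' : ↥(pullback f qk)) :
    IsNoetherianRing ((pullback f qk).presheaf.stalk x') ∧
      CEr (X.presheaf.stalk ((pullback.fst f qk) x')) ((pullback f qk).presheaf.stalk x') := by
  haveI : IsLocallyNoetherian X := LocallyOfFiniteType.isLocallyNoetherian f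
  letI := stalkAlgA f ((pullback.fst f qk) x')
  have hc := stalkAlgA_compat f ((pullback.fst f qk) x')
  haveI hE : Algebra.EssFiniteType k (X.presheaf.stalk ((pullback.fst f qk) x')) := by
    rw [← RingHom.essFiniteType_algebraMap, algebraMap_stalkAlgA]
    exact GeomRegSmooth.essFiniteType_stalkStr _ _
  haveI hN : IsNoetherianRing (X.presheaf.stalk ((pullback.fst f qk) x') ⊗[k] k') := by
    haveI : IsNoetherianRing (TensorProduct k k' (X.presheaf.stalk ((pullback.fst f qk) x'))) :=
      Algebra.EssFiniteType.isNoetherianRing k' _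
    exact isNoetherianRing_of_ringEquiv _
      (Algebra.TensorProduct.comm k k' (X.presheaf.stalk ((pullback.fst f qk) x'))).toRingEquiv
  obtain ⟨Q, hQp, hQ1, ⟨e⟩⟩ := exists_prime_stalk_equiv f k' ((pullback.fst f qk) x') hc x' rfl
  have hQ1' : Q.comap (algebraMap (X.presheaf.stalk ((pullback.fst f qk) x'))
      (X.presheaf.stalk ((pullback.fst f qk) x') ⊗[k] k')) = maximalIdeal _ := hQ1
  haveI : IsNoetherianRing (Localization.AtPrime Q) :=
    IsLocalization.isNoetherianRing Q.primeCompl _ inferInstance
  haveI hNst : IsNoetherianRing ((pullback f qk).presheaf.stalk x') :=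
    isNoetherianRing_of_ringEquiv _ e.symm
  refine ⟨hNst, ?_⟩
  have hfib : LocCoh.IsCohenMacaulayRing
      ((Q.comap (algebraMap (X.presheaf.stalk ((pullback.fst f qk) x'))
        (X.presheaf.stalk ((pullback.fst f qk) x') ⊗[k] k'))).Fiber
        (X.presheaf.stalk ((pullback.fst f qk) x') ⊗[k] k')) := by
    apply cm_fiber_tensor k _ k'
    left
    exact Algebra.EssFiniteType.comp k (X.presheaf.stalk ((pullback.fst f qk) x')) _
  have key := codepth_eq (X.presheaf.stalk ((pullback.fst f qk) x'))
    (X.presheaf.stalk ((pullback.fst f qk) x') ⊗[k] k') Q hfib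
  have key' : CEr (Localization.AtPrime (Q.comap (algebraMap
      (X.presheaf.stalk ((pullback.fst f qk) x'))
      (X.presheaf.stalk ((pullback.fst f qk) x') ⊗[k] k')))) (Localization.AtPrime Q) := key
  obtain ⟨eA⟩ := nonempty_equiv_atPrime_of_eq_maximalIdeal _ hQ1'
  exact cer_of_ringEquiv eA.symm e.symm key'

end scheme

end Groth.Agent.Lib.Helper20.NoEmbFS
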