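import Mathlib
import Groth.Agent.Lib.Helper20.SkFib5
import Groth.Agent.Lib.Helper20.AssDim2
import Groth.Agent.Lib.Helper28.GenFlatMod
import Groth.Agent.Lib.Helper12.ConstrNhds
import Groth.Agent.Lib.Helper14.FlatOpen.ModStalk
import Groth.Prelude.Def_EGA4Misc
import Groth.Agent.Lib.Helper1.ModDescNoeth
import Groth.Agent.Lib.Helper12.ConsPropBasic
import Groth.Agent.Lib.Helper12.SecCompBC

/-!
# Generic absence of embedded components in the fibres of a coherent module
(EGA IV 9.8.3) (helper20)
-/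

set_option autoImplicit false
set_option linter.style.haveILetI false
set_option linter.unusedSectionVars false
set_option linter.dupNamespace false
universe u

open IsLocalRing TensorProduct CategoryTheory CategoryTheory.Limits AlgebraicGeometry
  TopologicalSpace Topology

namespace Groth.Agent.Lib.Helper20.NoEmbGen

open Groth.Agent.Lib.Helper14.CMMod Groth.Agent.Lib.Helper12 Groth.Agent.Lib.Helper20.RD
  Groth.Agent.Lib.Helper20.DepthAlong Groth.Agent.Lib.Helper1.DepthOpen
  Groth.Agent.Lib.Helper20.SkFib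
  Groth.Agent.Lib.Helper3 Groth.Agent.Lib.Helper1.FlatAffine Groth.Agent.Lib.Helper17
  Groth.Agent.Lib.Helper14.FlatOpen Groth.Agent.Lib.Helper20.AssDim

section Sch

variable {X Y : Scheme.{u}} (f : X ⟶ Y) (F : X.Modules)

/-- the set of points at which `F` is flat over the base and which lie on no embedded associated
cycle of the fibre module is open. -/
theorem isOpen_flat_and_neSet [LocallyOfFinitePresentation f] [F.IsQuasicoherent]
    [SheafOfModules.IsFinitePresentation (R := X.ringCatSheaf) F] :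
    IsOpen {x : X | FlatMod.IsFlatOverAt f F x ∧ x ∈ NESet f F} := by
  refine isOpen_iff_forall_mem_open.mpr fun x hx ↦ ?_
  obtain ⟨_, ⟨V, hV, rfl⟩, hxV, -⟩ :=
    Y.isBasis_affineOpens.exists_subset_of_mem_open (Set.mem_univ (f x)) isOpen_univ
  obtain ⟨_, ⟨U, hU, rfl⟩, hxU, hUV⟩ :=
    X.isBasis_affineOpens.exists_subset_of_mem_open hxV (V.2.preimage f.continuous)
  letI a0 : Algebra Γ(Y, V) Γ(X, U) := (f.appLE V U hUV).hom.toAlgebra
  letI a1 : Module Γ(Y, V) Γ(F, U) := Module.compHom _ (f.appLE V U hUV).hom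
  haveI a2 : IsScalarTower Γ(Y, V) Γ(X, U) Γ(F, U) :=
    IsScalarTower.of_algebraMap_smul fun r n => rfl
  haveI : Algebra.FinitePresentation Γ(Y, V) Γ(X, U) := f.finitePresentation_appLE hV hU hUV
  haveI : Module.FinitePresentation Γ(X, U) Γ(F, U) := QCProps.finitePresentation_sections F hU
  have hfl := (isFlatOverAt_iff_localizedModule f F hU hV hUV x hxU).mp hx.1
  have hne := (mem_neSet_iff_chart f F hU hV hUV x hxU).mp hx.2
  obtain ⟨c, hc, hall⟩ := RM_nef Γ(Y, V) Γ(X, U) Γ(F, U) (hU.primeIdealOf ⟨x, hxU⟩).asIdeal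
    hfl hne
  have hopen : IsOpen {x : X | FlatMod.IsFlatOverAt f F x} := isOpen_isFlatOverAt f F
  refine ⟨(X.basicOpen c : Set X) ∩ {x : X | FlatMod.IsFlatOverAt f F x}, ?_,
    (X.basicOpen c).2.inter hopen, ?_⟩
  · rintro y ⟨hy, hyfl⟩
    have hyU : y ∈ U := X.basicOpen_le c hy
    have h3 := hall _ ((mem_basicOpen_iff_notMem_primeIdealOf hU y hyU c).mp hy)
    exact ⟨hyfl, (mem_neSet_iff_chart f F hU hV hUV y hyU).mpr h3⟩
  · exact ⟨(mem_basicOpen_iff_notMem_primeIdealOf hU x hxU c).mpr hc, hx.1⟩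

theorem mem_neSet_iff' (s : Y) (w : f.fiber s) :
    (f.fiberι s).base w ∈ NESet f F ↔
      ∀ z ∈ AssSch.Ass ((Scheme.Modules.pullback (f.fiberι s)).obj F), w ∈ closure {z} →
        ∀ z' ∈ AssSch.Ass ((Scheme.Modules.pullback (f.fiberι s)).obj F),
          z ∈ closure {z'} → z' = z := by
  obtain ⟨x, hx⟩ : ∃ x, x = (f.fiberι s).base w := ⟨_, rfl⟩
  have hy : f x = s := hx ▸ apply_fiberι' f s w
  rw [← hx]
  subst hy
  have hw' : w = f.asFiber x := by
    apply (f.fiberι (f x)).isEmbedding.injective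
    rw [← hx]
    exact (f.fiberι_asFiber x).symm
  rw [hw']
  exact Iff.rfl

/-- the fibre module has no embedded associated point iff all the points of the fibre lie on no
embedded associated cycle. -/
theorem noEmbedded_fibre_iff (s : Y) :
    AssSch.NoEmbedded ((Scheme.Modules.pullback (f.fiberι s)).obj F) ↔
      ∀ x : X, f.base x = s → x ∈ NESet f F := by
  constructor
  · intro h x hx
    subst hx
    intro z hz _ z' hz' hzz'
    exact (h z hz z' hz' (specializes_iff_mem_closure.mpr hzz')).symm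
  · intro h z hz z' hz' hsp
    have h1 := (mem_neSet_iff' f F s z).mp (h _ (apply_fiberι' f s z)) z hz
      (subset_closure rfl) z' hz' (specializes_iff_mem_closure.mp hsp)
    exact h1.symm

end Sch

section Gen

variable {X S : Scheme.{u}} [IsIntegral S] [IsNoetherian S] (u : X ⟶ S) [LocallyOfFiniteType u]
  [QuasiCompact u] (F : X.Modules)

set_option maxHeartbeats 800000 in
/-- the constructible description of the locus of fibres without embedded components. -/
theorem exists_constructible_noEmbedded (hF : Coh.IsCoh F) :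
    ∃ (U₁ : S.Opens) (T : Set S), (U₁ : Set S).Nonempty ∧ IsLocallyConstructible T ∧
      (∀ s : S, s ∉ T → AssSch.NoEmbedded ((Scheme.Modules.pullback (u.fiberι s)).obj F)) ∧
      (∀ s ∈ U₁, AssSch.NoEmbedded ((Scheme.Modules.pullback (u.fiberι s)).obj F) → s ∉ T) := by
  obtain ⟨hq, hft⟩ := hF
  haveI : F.IsQuasicoherent := hq
  haveI : F.IsFiniteType := hft
  haveI : IsLocallyNoetherian X := LocallyOfFiniteType.isLocallyNoetherian u
  haveI : CompactSpace X := QuasiCompact.compactSpace_of_compactSpace u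
  haveI : IsNoetherian X := ⟨⟩
  haveI : SheafOfModules.IsFinitePresentation (R := X.ringCatSheaf) F :=
    Groth.Agent.Lib.Helper1.ModDescNoeth.isFinitePresentation_of_noeth F
  haveI : LocallyOfFinitePresentation u :=
    SecCompBC.locallyOfFinitePresentation_of_isLocallyNoetherian u
  obtain ⟨U₁, hU₁ne, hU₁fl⟩ := Groth.Agent.Lib.Helper28.GenFlatMod.generic_flat_module u F
  have hWo : IsOpen {x : X | FlatMod.IsFlatOverAt u F x ∧ x ∈ NESet u F} :=
    isOpen_flat_and_neSet u F
  have hW : IsConstructible {x : X | FlatMod.IsFlatOverAt u F x ∧ x ∈ NESet u F} :=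
    (NoetherianSpace.isCompact _).isConstructible hWo
  have hCcons : IsLocallyConstructible
      (u.base '' {x : X | FlatMod.IsFlatOverAt u F x ∧ x ∈ NESet u F}ᶜ) :=
    u.isLocallyConstructible_image hW.compl.isLocallyConstructible
  refine ⟨U₁, _, hU₁ne, hCcons, ?_, ?_⟩
  · intro s hs
    rw [noEmbedded_fibre_iff]
    intro x hxs
    by_contra hx
    exact hs ⟨x, fun h => hx h.2, hxs⟩
  · rintro s hsU hne ⟨x, hx, rfl⟩
    exact hx ⟨hU₁fl x hsU, (noEmbedded_fibre_iff u F _).mp hne x rfl⟩

/-- **EGA IV 9.8.3 (generic form)**: if the generic fibre module has no embedded associated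
point, the same holds over a neighbourhood of the generic point. -/
theorem exists_nhd_noEmbedded (hF : Coh.IsCoh F)
    (hη : AssSch.NoEmbedded ((Scheme.Modules.pullback (u.fiberι (genericPoint S))).obj F)) :
    ∃ U : S.Opens, genericPoint S ∈ U ∧
      ∀ s ∈ U, AssSch.NoEmbedded ((Scheme.Modules.pullback (u.fiberι s)).obj F) := by
  obtain ⟨U₁, T, hU₁ne, hT, h1, h2⟩ := exists_constructible_noEmbedded u F hF
  have hηU : genericPoint S ∈ U₁ :=
    ((genericPoint_spec S).mem_open_set_iff U₁.2).mpr (by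
      rwa [Set.univ_inter])
  have hηT : genericPoint S ∉ T := h2 _ hηU hη
  have hgen : ∀ z : S, z ⤳ genericPoint S → z = genericPoint S := by
    intro z hz
    exact (hz.antisymm (genericPoint_specializes z)).eq
  have hnhds : Tᶜ ∈ nhds (genericPoint S) :=
    ConstrNhds.mem_nhds_of_isLocallyConstructible _
      (ConstrNhds.isLocallyConstructible_compl hT) (genericPoint S)
      (fun z hz => (hgen z hz) ▸ hηT)
  obtain ⟨U, hUT, hUo, hηU'⟩ := mem_nhds_iff.mp hnhds
  exact ⟨⟨U, hUo⟩, hηU', fun s hs => h1 s (hUT hs)⟩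

end Gen

end Groth.Agent.Lib.Helper20.NoEmbGen
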