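import Mathlib
import Groth.Agent.Lib.Helper20.NoEmbFS4
import Groth.Prelude.Def_EGA4Misc
import Groth.Agent.Lib.Helper1.ModDescNoeth
import Groth.Agent.Lib.Helper12.ConsPropBasic
import Groth.Agent.Lib.Helper12.SecCompBC
import Groth.Agent.Lib.Helper20.NoEmbGen

/-!
# Absence of embedded associated points is a constructible property of fibre modules (helper20)
-/

set_option autoImplicit false
set_option linter.style.haveILetI false
set_option linter.unusedSectionVars false
set_option linter.dupNamespace false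
universe u

open IsLocalRing TensorProduct CategoryTheory CategoryTheory.Limits AlgebraicGeometry
  TopologicalSpace

namespace Groth.Agent.Lib.Helper20.NoEmbFS

set_option maxHeartbeats 800000 in
theorem cer_general {Y Y' T T' : Scheme.{u}} (g : Y ⟶ T) (g' : Y' ⟶ T') (e : Y' ⟶ Y) (h : T' ⟶ T)
    [IsIntegral T] [Subsingleton T] [IsIntegral T'] [Subsingleton T']
    [LocallyOfFiniteType g] (hsq : IsPullback e g' g h) (y' : Y') :
    IsNoetherianRing (Y'.presheaf.stalk y') ∧
    CEr (Y.presheaf.stalk (e y')) (Y'.presheaf.stalk y') := by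
  letI fk : Field Γ(T, ⊤) := (isField_of_isIntegral_of_subsingleton T).toField
  letI fk' : Field Γ(T', ⊤) := (isField_of_isIntegral_of_subsingleton T').toField
  letI : Algebra Γ(T, ⊤) Γ(T', ⊤) := h.appTop.hom.toAlgebra
  let g₁ : Y ⟶ Spec (CommRingCat.of Γ(T, ⊤)) := g ≫ T.isoSpec.hom
  haveI : LocallyOfFiniteType g₁ := by
    show LocallyOfFiniteType (g ≫ T.isoSpec.hom)
    infer_instance
  have hsq' : IsPullback e (g' ≫ T'.isoSpec.hom) g₁
      (Spec.map (CommRingCat.ofHom (algebraMap Γ(T, ⊤) Γ(T', ⊤)))) := by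
    refine IsPullback.of_iso hsq (Iso.refl _) (Iso.refl _) T'.isoSpec T.isoSpec ?_ ?_ ?_ ?_
    · simp
    · simp
    · simp [g₁]
    · exact (Scheme.isoSpec_hom_naturality h).symm
  set iso := hsq'.isoPullback with hiso
  set p := iso.hom y' with hp
  have hfst : (pullback.fst g₁ (Spec.map (CommRingCat.ofHom
      (algebraMap Γ(T, ⊤) Γ(T', ⊤))))) p = e y' := by
    rw [hp, ← Scheme.Hom.comp_apply, hiso, IsPullback.isoPullback_hom_fst]
  obtain ⟨hN, hC⟩ := cer_standard g₁ Γ(T', ⊤) p
  let e3 : ↑((pullback g₁ (Spec.map (CommRingCat.ofHom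
      (algebraMap Γ(T, ⊤) Γ(T', ⊤))))).presheaf.stalk p) ≃+* ↑(Y'.presheaf.stalk y') :=
    (asIso (iso.hom.stalkMap y')).commRingCatIsoToRingEquiv
  refine ⟨isNoetherianRing_of_ringEquiv _ e3, ?_⟩
  rw [hfst] at hC
  exact cer_of_ringEquiv (RingEquiv.refl _) e3 hC

open Groth.Agent.Lib.Helper12 Topology in
/-- **absence of embedded associated points is invariant under extension of the base field.** -/
theorem isFieldStableMod_noEmbedded :
    ConsProp.IsFieldStableMod (fun ⦃Y T : Scheme.{u}⦄ (_ : Y ⟶ T) (F : Y.Modules) =>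
      AssSch.NoEmbedded F) := by
  intro Y Y' T T' g g' e h _ _ _ _ _ _ hsq F F' hF iso
  obtain ⟨hq, hft⟩ := hF
  haveI : F.IsQuasicoherent := hq
  haveI : F.IsFiniteType := hft
  haveI : IsLocallyNoetherian Y := LocallyOfFiniteType.isLocallyNoetherian g
  haveI : Flat e := MorphismProperty.of_isPullback (P := @Flat) hsq.flip inferInstance
  haveI : Surjective e :=
    MorphismProperty.of_isPullback (P := @Surjective) hsq.flip inferInstance
  haveI : LocallyOfFiniteType g' :=
    MorphismProperty.of_isPullback (P := @LocallyOfFiniteType) hsq inferInstance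
  haveI : IsLocallyNoetherian Y' := LocallyOfFiniteType.isLocallyNoetherian g'
  show AssSch.NoEmbedded F ↔ AssSch.NoEmbedded F'
  rw [noEmbedded_iff_of_iso iso]
  apply noEmbedded_pullback_iff e F
  · intro y'
    exact (cer_general g g' e h hsq y').2
  · intro y
    obtain ⟨y'₀, rfl⟩ := e.surjective y
    exact exists_dim_eq e y'₀

open Groth.Agent.Lib.Helper12 Topology in
/-- **EGA IV 9.8.3**: absence of embedded associated points is a constructible property. -/
theorem isConsMod_noEmbedded :
    ConsProp.IsConsMod (fun ⦃Y T : Scheme.{u}⦄ (_ : Y ⟶ T) (F : Y.Modules) =>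
      AssSch.NoEmbedded F) := by
  refine ⟨isFieldStableMod_noEmbedded, ?_⟩
  intro X S u _ _ _ _ F hF
  obtain ⟨U₁, T, hU₁ne, hT, h1, h2⟩ :=
    Groth.Agent.Lib.Helper20.NoEmbGen.exists_constructible_noEmbedded u F hF
  have h1' : Tᶜ ⊆ ConsProp.locusMod
      (fun ⦃Y T : Scheme.{u}⦄ (_ : Y ⟶ T) (F : Y.Modules) => AssSch.NoEmbedded F) u F :=
    fun s hs => h1 s hs
  rcases ConsPropBasic.interior_nonempty_or _
    (ConstrNhds.isLocallyConstructible_compl hT) with h | h
  · left
    exact h.mono (interior_mono h1')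
  · right
    rw [compl_compl] at h
    have h3 : ((interior T) ∩ (U₁ : Set S)).Nonempty :=
      nonempty_preirreducible_inter isOpen_interior U₁.2 h hU₁ne
    refine h3.mono ?_
    apply interior_maximal _ (isOpen_interior.inter U₁.2)
    rintro s ⟨hsC, hsU⟩ hlf
    exact h2 s hsU hlf (interior_subset hsC)

end Groth.Agent.Lib.Helper20.NoEmbFS
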