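import Mathlib
import Groth.Agent.Lib.Helper20.GRkC2
import Groth.Agent.Lib.Helper20.NoEmbFS5
import Groth.Agent.Lib.Helper12.EquidimBC

/-!
# Dimension of the closure of a point under extension of the base field (helper20)
-/

set_option autoImplicit false
set_option linter.style.haveILetI false
set_option linter.unusedSectionVars false
set_option linter.dupNamespace false
universe u

open IsLocalRing TensorProduct CategoryTheory CategoryTheory.Limits AlgebraicGeometry
  TopologicalSpace

namespace Groth.Agent.Lib.Helper20.FAD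

open Groth.Agent.Lib.Helper20.GeomRk Groth.Agent.Lib.Helper20.GRkC
  Groth.Agent.Lib.Helper12 Groth.Agent.Lib.Helper12.SchemeDimFT
  Groth.Agent.Lib.Helper12.BaseChange

section Strict

variable {Y : Scheme.{u}} [IsLocallyNoetherian Y]

/-- the dimension of the local ring drops strictly under proper generization. -/
theorem ringKrullDim_stalk_lt_of_specializes (y w : Y) (h : y ⤳ w) (hne : y ≠ w) :
    ringKrullDim (Y.presheaf.stalk y) < ringKrullDim (Y.presheaf.stalk w) := by
  obtain ⟨t, ht⟩ : y ∈ Set.range (Y.fromSpecStalk w).base := by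
    rw [Scheme.range_fromSpecStalk]
    exact h
  obtain ⟨e⟩ := nonempty_loc_equiv_stalk w t
  rw [← ht, ← ringKrullDim_eq_of_ringEquiv e,
    IsLocalization.AtPrime.ringKrullDim_eq_height t.asIdeal (Localization.AtPrime t.asIdeal),
    ← IsLocalRing.maximalIdeal_height_eq_ringKrullDim]
  have hlt : t.asIdeal < maximalIdeal (Y.presheaf.stalk w) := by
    refine lt_of_le_of_ne (IsLocalRing.le_maximalIdeal t.isPrime.ne_top) ?_
    intro heq
    apply hne
    have ht' : t = closedPoint (Y.presheaf.stalk w) := PrimeSpectrum.ext heq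
    rw [← ht, ht', Scheme.fromSpecStalk_closedPoint]
  have := Ideal.height_strict_mono_of_isPrime_of_isPrime hlt
  exact_mod_cast this

end Strict

section Max

variable {Y Y' : Scheme.{u}} [IsLocallyNoetherian Y] [IsLocallyNoetherian Y'] (e : Y' ⟶ Y)
  [Flat e]

/-- a point at which the local ring has the same dimension as at its image is maximal in the
preimage of the closure of its image. -/
theorem eq_of_specializes_of_dim_eq (w : Y')
    (hdim : ringKrullDim (Y'.presheaf.stalk w) = ringKrullDim (Y.presheaf.stalk (e w)))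
    (t : Y') (ht : t ⤳ w) (hsp : e w ⤳ e t) : t = w := by
  by_contra hne
  have h1 : e t = e w := ((ht.map e.continuous).antisymm hsp).eq
  have h2 := ringKrullDim_stalk_lt_of_specializes t w ht hne
  have h3 := ringKrullDim_stalk_le_of_flat e t
  rw [h1, ← hdim] at h3
  exact absurd h2 (not_lt.mpr h3)

end Max

section Field

/-- dimension of the closure of a point maximal in the preimage of the closure of its image,
for a pullback along a field extension. -/
theorem dimcl_eq_spec {Z Z' : Scheme.{u}} (k K : Type u)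
    [Field k] [Field K] (φ : k →+* K) (p : Z ⟶ Spec (CommRingCat.of k)) [LocallyOfFiniteType p]
    (a : Z' ⟶ Z) (b : Z' ⟶ Spec (CommRingCat.of K))
    (h : IsPullback a b p (Spec.map (CommRingCat.ofHom φ))) (w : Z')
    (hmax : ∀ t : Z', t ⤳ w → a w ⤳ a t → t = w) :
    topologicalKrullDim ↥(closure ({w} : Set Z')) =
      topologicalKrullDim ↥(closure ({a w} : Set Z)) := by
  letI : Algebra k K := φ.toAlgebra
  letI : Z.Over (Spec (CommRingCat.of k)) := ⟨p⟩
  haveI : LocallyOfFiniteType (Z ↘ Spec (CommRingCat.of k)) := ‹LocallyOfFiniteType p›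
  let e : Z' ≅ Curv2.bc k Z K := h.isoPullback
  let he : Z' ≃ₜ Curv2.bc k Z K := Scheme.homeoOfIso e
  have h2 : e.hom ≫ Curv2.bcFst k Z K = a := h.isoPullback_hom_fst
  have h3 : ∀ t : Z', Curv2.bcFst k Z K (he t) = a t := fun t =>
    congrArg (fun ψ : Z' ⟶ Z => ψ t) h2
  have key := tr_eq_of_maximal_in_preimage k Z K (a w) (he w) (by rw [h3]) (by
    intro y hy hsp
    have h4 : he.symm y ⤳ w := by
      have := hy.map he.symm.continuous
      rwa [he.symm_apply_apply] at this
    have h5 : a w ⤳ a (he.symm y) := by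
      rw [← h3 (he.symm y), he.apply_symm_apply]
      exact hsp
    have h6 := hmax _ h4 h5
    rw [← h6, he.apply_symm_apply])
  letI := bcOver k Z K
  rw [topologicalKrullDim_closure_singleton_homeomorph he w,
    topologicalKrullDim_closure_singleton K (Curv2.bc k Z K) (he w), key.2,
    topologicalKrullDim_closure_singleton k Z (a w)]

set_option maxHeartbeats 800000 in
/-- the same, over arbitrary one-point integral bases. -/
theorem dimcl_eq {Y Y' T T' : Scheme.{u}} (g : Y ⟶ T) (g' : Y' ⟶ T') (e : Y' ⟶ Y) (h : T' ⟶ T)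
    [IsIntegral T] [Subsingleton T] [IsIntegral T'] [Subsingleton T']
    [LocallyOfFiniteType g] (hsq : IsPullback e g' g h) (w : Y')
    (hmax : ∀ t : Y', t ⤳ w → e w ⤳ e t → t = w) :
    topologicalKrullDim ↥(closure ({w} : Set Y')) =
      topologicalKrullDim ↥(closure ({e w} : Set Y)) := by
  letI fk : Field Γ(T, ⊤) := (isField_of_isIntegral_of_subsingleton T).toField
  letI fk' : Field Γ(T', ⊤) := (isField_of_isIntegral_of_subsingleton T').toField
  let g₁ : Y ⟶ Spec (CommRingCat.of Γ(T, ⊤)) := g ≫ T.isoSpec.hom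
  haveI : LocallyOfFiniteType g₁ := by
    show LocallyOfFiniteType (g ≫ T.isoSpec.hom)
    infer_instance
  have hsq' : IsPullback e (g' ≫ T'.isoSpec.hom) g₁
      (Spec.map (CommRingCat.ofHom h.appTop.hom)) := by
    refine IsPullback.of_iso hsq (Iso.refl _) (Iso.refl _) T'.isoSpec T.isoSpec ?_ ?_ ?_ ?_
    · simp
    · simp
    · simp [g₁]
    · exact (Scheme.isoSpec_hom_naturality h).symm
  exact dimcl_eq_spec Γ(T, ⊤) Γ(T', ⊤) h.appTop.hom g₁ e (g' ≫ T'.isoSpec.hom) hsq' w hmax

end Field

end Groth.Agent.Lib.Helper20.FAD
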