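import Mathlib
import Groth.Agent.Lib.Helper20.FAD1
import Groth.Agent.Lib.Helper12.CompDims
import Groth.Agent.Lib.Helper17.SuppTensor
import Groth.Prelude.Def_EGA4Misc

/-!
# Dimensions of the irreducible components of the support of a coherent module under extension
of the base field (helper20)
-/

set_option autoImplicit false
set_option linter.style.haveILetI false
set_option linter.unusedSectionVars false
set_option linter.dupNamespace false
universe u

open IsLocalRing TensorProduct CategoryTheory CategoryTheory.Limits AlgebraicGeometry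
  TopologicalSpace

namespace Groth.Agent.Lib.Helper20.FAD

open Groth.Agent.Lib.Helper12 Groth.Agent.Lib.Helper12.CompDims Groth.Agent.Lib.Helper17
  Groth.Agent.Lib.Helper1

section Top

variable {T : Type*} [TopologicalSpace T] [QuasiSober T] [T0Space T]

/-- every point of a closed subset has a generization which is a minimal point of it. -/
theorem exists_minimal_specializes {S : Set T} (hS : IsClosed S) (z : T) (hz : z ∈ S) :
    ∃ ζ ∈ S, (∀ y ∈ S, y ⤳ ζ → y = ζ) ∧ ζ ⤳ z := by
  have hZ := irreducibleComponent_mem_irreducibleComponents (⟨z, hz⟩ : ↥S)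
  obtain ⟨ζ, hζ, hmin, hZeq, -⟩ := exists_generic_of_mem_irreducibleComponents hS hZ
  refine ⟨ζ, hζ, hmin, ?_⟩
  have h1 : (⟨z, hz⟩ : ↥S) ∈ closure {(⟨ζ, hζ⟩ : ↥S)} := hZeq ▸ mem_irreducibleComponent
  exact (specializes_iff_mem_closure.mpr h1).map continuous_subtype_val

/-- the dimensions of the irreducible components of a closed subset are the dimensions of the
closures of its minimal points. -/
theorem mem_compDims_iff {S : Set T} (hS : IsClosed S) (e : WithBot ℕ∞) :
    e ∈ (fun Z : Set ↥S => topologicalKrullDim ↥Z) '' irreducibleComponents ↥S ↔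
      ∃ ζ ∈ S, (∀ y ∈ S, y ⤳ ζ → y = ζ) ∧
        topologicalKrullDim ↥(closure ({ζ} : Set T)) = e := by
  constructor
  · rintro ⟨Z, hZ, rfl⟩
    obtain ⟨ζ, hζ, hmin, -, hdim⟩ := exists_generic_of_mem_irreducibleComponents hS hZ
    exact ⟨ζ, hζ, hmin, hdim.symm⟩
  · rintro ⟨ζ, hζ, hmin, rfl⟩
    have hZ := irreducibleComponent_mem_irreducibleComponents (⟨ζ, hζ⟩ : ↥S)
    obtain ⟨ζ₁, hζ₁, hmin₁, hZeq, hdim⟩ := exists_generic_of_mem_irreducibleComponents hS hZ
    have h1 : (⟨ζ, hζ⟩ : ↥S) ∈ closure {(⟨ζ₁, hζ₁⟩ : ↥S)} := hZeq ▸ mem_irreducibleComponent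
    have h2 : ζ₁ ⤳ ζ := (specializes_iff_mem_closure.mpr h1).map continuous_subtype_val
    have h3 : ζ₁ = ζ := hmin ζ₁ hζ₁ h2
    subst h3
    exact ⟨_, hZ, hdim⟩

end Top

section Field

open ConsProp

/-- the property of `S5875`. -/
def PSupp (Φ : Finset ℕ) : ∀ ⦃Y T : Scheme.{u}⦄, (Y ⟶ T) → Y.Modules → Prop :=
  fun Y _ _ G =>
    (fun Z : Set ↥(CohB1.support G) => topologicalKrullDim ↥Z) ''
        irreducibleComponents ↥(CohB1.support G) =
      (fun n : ℕ => (n : WithBot ℕ∞)) '' (Φ : Set ℕ)

theorem support_eq_of_iso {W : Scheme.{u}} {G G' : W.Modules} (φ : G ≅ G') :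
    CohB1.support G = CohB1.support G' := by
  ext x
  unfold CohB1.support
  simp only [Set.mem_setOf_eq]
  exact not_congr (GenFin.stalkEquivOfIso φ x).toEquiv.subsingleton_congr

set_option maxHeartbeats 800000 in
/-- **the dimensions of the components of the support are invariant under extension of the base
field.** -/
theorem isFieldStableMod_pSupp (Φ : Finset ℕ) : IsFieldStableMod (PSupp.{u} Φ) := by
  intro Y Y' T T' g g' e h _ _ _ _ _ _ hsq F F' hF iso
  obtain ⟨hq, hft⟩ := hF
  haveI : F.IsQuasicoherent := hq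
  haveI : F.IsFiniteType := hft
  haveI : IsLocallyNoetherian Y := LocallyOfFiniteType.isLocallyNoetherian g
  haveI : Flat e := MorphismProperty.of_isPullback (P := @Flat) hsq.flip inferInstance
  haveI : Surjective e :=
    MorphismProperty.of_isPullback (P := @Surjective) hsq.flip inferInstance
  haveI : LocallyOfFiniteType g' :=
    MorphismProperty.of_isPullback (P := @LocallyOfFiniteType) hsq inferInstance
  haveI : IsLocallyNoetherian Y' := LocallyOfFiniteType.isLocallyNoetherian g'
  haveI : ((Scheme.Modules.pullback e).obj F).IsQuasicoherent :=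
    PbStalk.isQuasicoherent_pullback e F
  haveI : ((Scheme.Modules.pullback e).obj F).IsFiniteType := PbFinite.isFiniteType_pullback e F
  have hS : IsClosed (CohB1.support F) := MaxAnnInt.isClosed_support F
  have hsupp : CohB1.support F' = e ⁻¹' CohB1.support F := by
    rw [support_eq_of_iso iso, SuppTensor.support_pullback e F]
  have hS' : IsClosed (CohB1.support F') := by
    rw [hsupp]
    exact hS.preimage e.continuous
  have key : (fun Z : Set ↥(CohB1.support F') => topologicalKrullDim ↥Z) ''
        irreducibleComponents ↥(CohB1.support F') =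
      (fun Z : Set ↥(CohB1.support F) => topologicalKrullDim ↥Z) ''
        irreducibleComponents ↥(CohB1.support F) := by
    ext d
    rw [mem_compDims_iff hS', mem_compDims_iff hS]
    constructor
    · rintro ⟨ζ', hζ', hmin', rfl⟩
      have hζ'S : e ζ' ∈ CohB1.support F := by
        rw [hsupp] at hζ'
        exact hζ'
      refine ⟨e ζ', hζ'S, ?_, ?_⟩
      · intro y hy hsp
        obtain ⟨t, ht, rfl⟩ := Flat.generalizingMap e hsp
        have htS : t ∈ CohB1.support F' := by
          rw [hsupp]
          exact hy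
        rw [hmin' t htS ht]
      · refine (dimcl_eq g g' e h hsq ζ' ?_).symm
        intro t ht hsp
        have htS : t ∈ CohB1.support F' := by
          rw [hsupp]
          exact hsp.mem_closed hS hζ'S
        exact hmin' t htS ht
    · rintro ⟨ζ, hζ, hmin, rfl⟩
      obtain ⟨z'₀, rfl⟩ := e.surjective ζ
      have hz'₀ : z'₀ ∈ CohB1.support F' := by
        rw [hsupp]
        exact hζ
      obtain ⟨ζ', hζ', hmin', hsp⟩ := exists_minimal_specializes hS' z'₀ hz'₀
      have hζ'S : e ζ' ∈ CohB1.support F := by
        rw [hsupp] at hζ'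
        exact hζ'
      have heq : e ζ' = e z'₀ := hmin _ hζ'S (hsp.map e.continuous)
      refine ⟨ζ', hζ', hmin', ?_⟩
      rw [← heq]
      refine dimcl_eq g g' e h hsq ζ' ?_
      intro t ht hsp'
      have htS : t ∈ CohB1.support F' := by
        rw [hsupp]
        exact hsp'.mem_closed hS hζ'S
      exact hmin' t htS ht
  show _ = _ ↔ _ = _
  rw [key]

end Field

end Groth.Agent.Lib.Helper20.FAD
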