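import Mathlib
import Groth.Agent.Lib.Helper12.CompDims
import Groth.Agent.Lib.Helper9.TopDim
import Groth.Agent.Lib.Helper20.AssDim1

/-!
# Local constancy of the dimension of the support of the fibres of a flat module along a proper
morphism (EGA IV 12.2.1 (iv)) (helper20)
-/

set_option autoImplicit false
set_option linter.style.haveILetI false
set_option linter.unusedSectionVars false
set_option linter.dupNamespace false
universe u

open CategoryTheory CategoryTheory.Limits AlgebraicGeometry TopologicalSpace Opposite Topology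

namespace Groth.Agent.Lib.Helper20.SuppDimLC

open Groth.Agent.Lib.Helper3 Groth.Agent.Lib.Helper17 Groth.Agent.Lib.Helper1
  Groth.Agent.Lib.Helper20.AssDim Groth.Agent.Lib.Helper20.RD Groth.Agent.Lib.Helper20.SkFib
  Groth.Agent.Lib.Helper12.SchemeDimIneq Groth.Agent.Lib.Helper12.CompDims
  Groth.Agent.Lib.Helper12 Groth.Agent.Lib.Helper12.SchemeDimFT

variable {X Y : Scheme.{u}} (f : X ⟶ Y) (F : X.Modules)

theorem noetherianSpace_fiber [LocallyOfFiniteType f] [QuasiCompact f] (η : Y) :
    TopologicalSpace.NoetherianSpace ↥(f.fiber η) := by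
  haveI : LocallyOfFiniteType (f.fiberToSpecResidueField η) :=
    FibreRes.locallyOfFiniteType_fiberToSpecResidueField f η
  haveI : QuasiCompact (f.fiberToSpecResidueField η) :=
    MorphismProperty.of_isPullback (P := @QuasiCompact)
      (IsPullback.of_hasPullback f (Y.fromSpecResidueField η)) inferInstance
  haveI : IsLocallyNoetherian (f.fiber η) :=
    LocallyOfFiniteType.isLocallyNoetherian (f.fiberToSpecResidueField η)
  haveI : CompactSpace ↥(f.fiber η) :=
    QuasiCompact.compactSpace_of_compactSpace (f.fiberToSpecResidueField η)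
  haveI : IsNoetherian (f.fiber η) := { }
  infer_instance

/-- the dimension of the support of the fibre module is attained on an irreducible component,
and is a natural number. -/
theorem exists_comp_dim_eq [F.IsQuasicoherent] [F.IsFiniteType] [LocallyOfFiniteType f]
    [QuasiCompact f] (y : Y) (hne : (Sy f F y).Nonempty) :
    ∃ n : ℕ, ∃ Z ∈ irreducibleComponents ↥(Sy f F y), ∃ ζ : f.fiber y, ζ ∈ Sy f F y ∧
      trn f ((f.fiberι y).base ζ) = (n : ℕ∞) ∧
      topologicalKrullDim ↥Z = (n : WithBot ℕ∞) ∧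
      topologicalKrullDim ↥(Sy f F y) = (n : WithBot ℕ∞) := by
  haveI : NoetherianSpace ↥(f.fiber y) := noetherianSpace_fiber f y
  haveI : NoetherianSpace ↥(Sy f F y) := inferInstance
  have hfin : (irreducibleComponents ↥(Sy f F y)).Finite :=
    NoetherianSpace.finite_irreducibleComponents
  obtain ⟨z0, hz0⟩ := hne
  have hne' : (irreducibleComponents ↥(Sy f F y)).Nonempty :=
    ⟨_, irreducibleComponent_mem_irreducibleComponents (⟨z0, hz0⟩ : ↥(Sy f F y))⟩
  obtain ⟨Z₀, hZ₀, hmax⟩ := Set.exists_max_image (irreducibleComponents ↥(Sy f F y))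
    (fun Z => topologicalKrullDim ↥Z) hfin hne'
  obtain ⟨ζ, hζ, -, -, hd, -⟩ := comp_data f F y hZ₀
  obtain ⟨n, hn⟩ := exists_trn_eq f ((f.fiberι y).base ζ)
  refine ⟨n, Z₀, hZ₀, ζ, hζ, hn, ?_, ?_⟩
  · rw [hd, hn]
    rfl
  · rw [Groth.Agent.Lib.Helper9.topologicalKrullDim_eq_iSup_irreducibleComponents]
    apply le_antisymm
    · refine iSup₂_le fun Z hZ => ?_
      refine (hmax Z hZ).trans ?_
      show topologicalKrullDim ↥Z₀ ≤ _
      rw [hd, hn]
      rfl
    · have h1 : topologicalKrullDim ↥Z₀ = (n : WithBot ℕ∞) := by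
        rw [hd, hn]
        rfl
      rw [← h1]
      exact le_iSup₂ (f := fun Z (_ : Z ∈ irreducibleComponents ↥(Sy f F y)) =>
        topologicalKrullDim ↥Z) Z₀ hZ₀

/-- the transcendence degree increases under generization in a fibre. -/
theorem trn_le_of_specializes [LocallyOfFiniteType f] (y : Y) (ζ z : f.fiber y) (h : ζ ⤳ z) :
    trn f ((f.fiberι y).base z) ≤ trn f ((f.fiberι y).base ζ) := by
  letI _ovF : (f.fiber y).Over (Spec (CommRingCat.of (Y.residueField y))) :=
    ⟨f.fiberToSpecResidueField y⟩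
  haveI : LocallyOfFiniteType ((f.fiber y) ↘ Spec (CommRingCat.of (Y.residueField y))) :=
    FibreRes.locallyOfFiniteType_fiberToSpecResidueField f y
  rw [ClosedSub.trn_eq_tr_of_fiber f _ y (apply_fiberι' f y z) z rfl,
    ClosedSub.trn_eq_tr_of_fiber f _ y (apply_fiberι' f y ζ) ζ rfl]
  exact_mod_cast tr_le_of_specializes (Y.residueField y) (f.fiber y) ζ z h

set_option maxHeartbeats 800000 in
/-- upper semicontinuity of the dimension of the support of the fibre module. -/
theorem isClosed_setOf_le_dim [F.IsQuasicoherent] [F.IsFiniteType] [LocallyOfFiniteType f]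
    [QuasiCompact f] (hcl : IsClosedMap f.base) (n : ℕ) :
    IsClosed {y : Y | (n : WithBot ℕ∞) ≤ topologicalKrullDim ↥(Sy f F y)} := by
  have hS : IsClosed (CohB1.support F) := MaxAnnInt.isClosed_support F
  have h1 := hcl _ (isClosed_setOf_exists_generization f (CohB1.support F) hS n)
  convert h1 using 1
  ext y
  simp only [Set.mem_setOf_eq, Set.mem_image]
  constructor
  · intro h
    have hne : (Sy f F y).Nonempty := by
      by_contra hemp
      rw [Set.not_nonempty_iff_eq_empty] at hemp
      haveI : IsEmpty ↥(Sy f F y) := by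
        rw [hemp]
        infer_instance
      have h0 : topologicalKrullDim ↥(Sy f F y) = ⊥ := by
        unfold topologicalKrullDim
        haveI : IsEmpty (IrreducibleCloseds ↥(Sy f F y)) := ⟨fun Z => by
          obtain ⟨z, -⟩ := Z.isIrreducible.nonempty
          exact isEmptyElim z⟩
        exact Order.krullDim_eq_bot
      rw [h0] at h
      exact absurd h (by simp)
    obtain ⟨m, Z, hZ, ζ, hζ, htr, -, hdim⟩ := exists_comp_dim_eq f F y hne
    rw [hdim] at h
    have hnm : n ≤ m := by exact_mod_cast h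
    have hx : (f.fiberι y).base ζ ∈ CohB1.support F := (mem_sy_iff f F y ζ).mp hζ
    refine ⟨(f.fiberι y).base ζ, ⟨hx, _, hx, rfl, specializes_rfl, ?_⟩, apply_fiberι' f y ζ⟩
    rw [htr]
    exact_mod_cast hnm
  · rintro ⟨x, ⟨hx, z, hz, hfz, -, hle⟩, rfl⟩
    set z' := (f.fiberHomeo (f.base x)).symm ⟨z, hfz⟩ with hz'
    have hιz : (f.fiberι (f.base x)).base z' = z := f.fiberι_fiberHomeo_symm (f.base x) ⟨z, hfz⟩
    have hz'S : z' ∈ Sy f F (f.base x) := by
      rw [mem_sy_iff, hιz]
      exact hz
    have hZ := irreducibleComponent_mem_irreducibleComponents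
      (⟨z', hz'S⟩ : ↥(Sy f F (f.base x)))
    obtain ⟨ζ, hζ, -, hZeq, hd, -⟩ := comp_data f F (f.base x) hZ
    have hζz : ζ ⤳ z' := by
      have h1 : (⟨z', hz'S⟩ : ↥(Sy f F (f.base x))) ∈
          closure {(⟨ζ, hζ⟩ : ↥(Sy f F (f.base x)))} := hZeq ▸ mem_irreducibleComponent
      exact (specializes_iff_mem_closure.mpr h1).map continuous_subtype_val
    have h2 := trn_le_of_specializes f (f.base x) ζ z' hζz
    rw [hιz] at h2
    rw [Groth.Agent.Lib.Helper9.topologicalKrullDim_eq_iSup_irreducibleComponents]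
    refine le_trans ?_ (le_iSup₂ (f := fun Z (_ : Z ∈ irreducibleComponents
      ↥(Sy f F (f.base x))) => topologicalKrullDim ↥Z) _ hZ)
    rw [hd]
    exact_mod_cast hle.trans h2

set_option maxHeartbeats 800000 in
/-- **EGA IV 12.2.1 (iv)**: the dimension of the support of the fibre module is locally
constant on the base. -/
theorem isLocallyConstant_dim_support [LocallyOfFinitePresentation f] [QuasiCompact f]
    [SheafOfModules.IsFinitePresentation (R := X.ringCatSheaf) F]
    (hflat : FlatMod.IsFlatOver f F) (hcl : IsClosedMap f.base) :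
    IsLocallyConstant (fun y : Y => topologicalKrullDim ↥(Sy f F y)) := by
  haveI : F.IsQuasicoherent := inferInstance
  haveI : F.IsFiniteType := inferInstance
  rw [IsLocallyConstant.iff_exists_open]
  intro y₀
  by_cases h0 : ((0 : ℕ) : WithBot ℕ∞) ≤ topologicalKrullDim ↥(Sy f F y₀)
  · have hne : (Sy f F y₀).Nonempty := by
      by_contra hemp
      rw [Set.not_nonempty_iff_eq_empty] at hemp
      haveI : IsEmpty ↥(Sy f F y₀) := by
        rw [hemp]
        infer_instance
      have h0' : topologicalKrullDim ↥(Sy f F y₀) = ⊥ := by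
        unfold topologicalKrullDim
        haveI : IsEmpty (IrreducibleCloseds ↥(Sy f F y₀)) := ⟨fun Z => by
          obtain ⟨z, -⟩ := Z.isIrreducible.nonempty
          exact isEmptyElim z⟩
        exact Order.krullDim_eq_bot
      rw [h0'] at h0
      exact absurd h0 (by simp)
    obtain ⟨n, Z₀, hZ₀, ζ, hζ, htr, hdZ, hdim⟩ := exists_comp_dim_eq f F y₀ hne
    refine ⟨{y : Y | ∃ Z ∈ irreducibleComponents ↥(Sy f F y),
        topologicalKrullDim ↥Z = (n : WithBot ℕ∞)} ∩
      {y : Y | ((n + 1 : ℕ) : WithBot ℕ∞) ≤ topologicalKrullDim ↥(Sy f F y)}ᶜ,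
      (isOpen_setOf_exists_comp_dim f F hflat n).inter
        (isClosed_setOf_le_dim f F hcl (n + 1)).isOpen_compl, ⟨⟨Z₀, hZ₀, hdZ⟩, ?_⟩, ?_⟩
    · show ¬ (((n + 1 : ℕ) : WithBot ℕ∞) ≤ topologicalKrullDim ↥(Sy f F y₀))
      rw [hdim]
      intro hc
      have : n + 1 ≤ n := by exact_mod_cast hc
      omega
    · rintro y ⟨⟨Z, hZ, hdZ'⟩, hlt⟩
      show topologicalKrullDim ↥(Sy f F y) = topologicalKrullDim ↥(Sy f F y₀)
      rw [hdim]
      have hge : (n : WithBot ℕ∞) ≤ topologicalKrullDim ↥(Sy f F y) := by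
        rw [Groth.Agent.Lib.Helper9.topologicalKrullDim_eq_iSup_irreducibleComponents, ← hdZ']
        exact le_iSup₂ (f := fun Z (_ : Z ∈ irreducibleComponents ↥(Sy f F y)) =>
          topologicalKrullDim ↥Z) Z hZ
      have hlt' : ¬ ((n + 1 : ℕ) : WithBot ℕ∞) ≤ topologicalKrullDim ↥(Sy f F y) := hlt
      generalize topologicalKrullDim ↥(Sy f F y) = a at hge hlt'
      induction a using WithBot.recBotCoe with
      | bot => exact absurd hge (by simp)
      | coe b =>
        have h1 : (n : ℕ∞) ≤ b := by exact_mod_cast hge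
        have h2 : ¬ ((n + 1 : ℕ) : ℕ∞) ≤ b := by
          intro hc
          apply hlt'
          exact_mod_cast hc
        have h3 : b < ((n + 1 : ℕ) : ℕ∞) := not_le.mp h2
        have h4 : b ≤ (n : ℕ∞) := by
          have h5 : b < (n : ℕ∞) + 1 := by exact_mod_cast h3
          exact (ENat.lt_add_one_iff (ENat.coe_ne_top n)).mp h5
        have : b = (n : ℕ∞) := le_antisymm h4 h1
        rw [this]
        rfl
  · refine ⟨{y : Y | ((0 : ℕ) : WithBot ℕ∞) ≤ topologicalKrullDim ↥(Sy f F y)}ᶜ,
      (isClosed_setOf_le_dim f F hcl 0).isOpen_compl, h0, ?_⟩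
    intro y hy
    have hy' : ¬ ((0 : ℕ) : WithBot ℕ∞) ≤ topologicalKrullDim ↥(Sy f F y) := hy
    show topologicalKrullDim ↥(Sy f F y) = topologicalKrullDim ↥(Sy f F y₀)
    have key : ∀ a : WithBot ℕ∞, ¬ ((0 : ℕ) : WithBot ℕ∞) ≤ a → a = ⊥ := by
      intro a ha
      induction a using WithBot.recBotCoe with
      | bot => rfl
      | coe b =>
        exfalso
        apply ha
        exact_mod_cast (zero_le (a := b))
    rw [key _ hy', key _ h0]

end Groth.Agent.Lib.Helper20.SuppDimLC
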