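import Mathlib
import Groth.Agent.Lib.Helper20.FAD2
import Groth.Agent.Lib.Helper20.NoEmbFS5
import Groth.Agent.Lib.Helper20.SuppDimLC
import Groth.Agent.Lib.Helper12.SecComp
import Groth.Agent.Lib.Helper12.FibreMax

/-!
# The dimensions of the irreducible components of the supports of the fibres of a coherent module
form a constructible function (EGA IV 9.8.5) (helper20)
-/

set_option autoImplicit false
set_option linter.style.haveILetI false
set_option linter.unusedSectionVars false
set_option linter.dupNamespace false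
universe u

open IsLocalRing TensorProduct CategoryTheory CategoryTheory.Limits AlgebraicGeometry
  TopologicalSpace Topology

namespace Groth.Agent.Lib.Helper20.FAD

open Groth.Agent.Lib.Helper12 Groth.Agent.Lib.Helper12.CompDims Groth.Agent.Lib.Helper17
  Groth.Agent.Lib.Helper1 Groth.Agent.Lib.Helper12.SchemeDimIneq Groth.Agent.Lib.Helper20.AssDim

section Gen

variable {X S : Scheme.{u}} (u : X ⟶ S) (F : X.Modules)

/-- points of the support which have a generization in the support and in the same fibre of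
transcendence degree at least `d`. -/
def KSet (d : ℕ) : Set X :=
  {x : X | x ∈ CohB1.support F ∧
    ∃ z ∈ CohB1.support F, u z = u x ∧ z ⤳ x ∧ (d : ℕ∞) ≤ trn u z}

/-- points of the support for which the maximal transcendence degree of a generization in the
support and in the same fibre is `d`. -/
def LSet (d : ℕ) : Set X := KSet u F d \ KSet u F (d + 1)

theorem kSet_antitone {d d' : ℕ} (h : d ≤ d') : KSet u F d' ⊆ KSet u F d := by
  rintro x ⟨hx, z, hz, hzx, hsp, hd⟩
  exact ⟨hx, z, hz, hzx, hsp, le_trans (by exact_mod_cast h) hd⟩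

theorem lSet_subset_support (d : ℕ) : LSet u F d ⊆ CohB1.support F := fun _ hx => hx.1.1

theorem lSet_disjoint {d d' : ℕ} {x : X} (h : x ∈ LSet u F d) (h' : x ∈ LSet u F d') :
    d = d' := by
  by_contra hne
  rcases Nat.lt_or_gt_of_ne hne with hlt | hlt
  · exact h.2 (kSet_antitone u F hlt h'.1)
  · exact h'.2 (kSet_antitone u F hlt h.1)

theorem exists_mem_lSet [LocallyOfFiniteType u] (x : X) (hx : x ∈ CohB1.support F) :
    ∃ d, x ∈ LSet u F d := by
  obtain ⟨N, hN⟩ := SecComp.exists_nat_fibreDimAt u x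
  have hbound : ∀ d, x ∈ KSet u F d → d ≤ N := by
    rintro d ⟨-, z, -, hzx, hsp, hd⟩
    have h1 := FibreMax.trn_le_fibreDimAt_of_specializes u x z hzx hsp
    rw [hN] at h1
    have h2 : (trn u z : ℕ∞) ≤ N := by exact_mod_cast h1
    have h3 : (d : ℕ∞) ≤ N := hd.trans h2
    exact_mod_cast h3
  have h0 : x ∈ KSet u F 0 := ⟨hx, x, hx, rfl, specializes_rfl, by simp⟩
  classical
  refine ⟨Nat.findGreatest (fun d => x ∈ KSet u F d) N,
    Nat.findGreatest_spec (P := fun d => x ∈ KSet u F d) (Nat.zero_le N) h0, ?_⟩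
  intro h
  have h1 := hbound _ h
  have h2 := Nat.le_findGreatest (P := fun d => x ∈ KSet u F d) h1 h
  omega

theorem isClosed_kSet [LocallyOfFiniteType u] [F.IsQuasicoherent] [F.IsFiniteType] (d : ℕ) :
    IsClosed (KSet u F d) :=
  isClosed_setOf_exists_generization u _ (MaxAnnInt.isClosed_support F) d

variable [LocallyOfFiniteType u] [F.IsQuasicoherent] [F.IsFiniteType]

theorem isClosed_support_fibre (s : S) :
    IsClosed (CohB1.support ((Scheme.Modules.pullback (u.fiberι s)).obj F)) := by
  rw [← sy_eq_support]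
  exact isClosed_sy u F s

theorem mem_support_fibre_iff (s : S) (z : u.fiber s) :
    z ∈ CohB1.support ((Scheme.Modules.pullback (u.fiberι s)).obj F) ↔
      (u.fiberι s).base z ∈ CohB1.support F := by
  rw [← sy_eq_support]
  exact mem_sy_iff u F s z

set_option maxHeartbeats 800000 in
/-- the dimensions of the irreducible components of the support of the fibre module. -/
theorem natCast_mem_compDims_iff (s : S) (d : ℕ) :
    ((d : ℕ) : WithBot ℕ∞) ∈
      (fun Z : Set ↥(CohB1.support ((Scheme.Modules.pullback (u.fiberι s)).obj F)) =>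
        topologicalKrullDim ↥Z) ''
        irreducibleComponents ↥(CohB1.support ((Scheme.Modules.pullback (u.fiberι s)).obj F)) ↔
      s ∈ u '' LSet u F d := by
  rw [mem_compDims_iff (isClosed_support_fibre u F s)]
  constructor
  · rintro ⟨ζ, hζ, hmin, hdim⟩
    rw [dim_closure_eq_trn u s ζ] at hdim
    have htr : trn u ((u.fiberι s).base ζ) = d := by exact_mod_cast hdim
    have hζZ := (mem_support_fibre_iff u F s ζ).mp hζ
    refine ⟨(u.fiberι s).base ζ, ⟨⟨hζZ, _, hζZ, rfl, specializes_rfl, htr.ge⟩, ?_⟩,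
      apply_fiberι' u s ζ⟩
    rintro ⟨-, z, hzZ, hzx, hsp, hd⟩
    have hzs : u z = s := hzx.trans (apply_fiberι' u s ζ)
    set z' := (u.fiberHomeo s).symm ⟨z, hzs⟩ with hz'
    have hιz0 : u.fiberι s z' = z := u.fiberι_fiberHomeo_symm s ⟨z, hzs⟩
    have hιz : (u.fiberι s).base z' = z := hιz0
    have hz'S : z' ∈ CohB1.support ((Scheme.Modules.pullback (u.fiberι s)).obj F) := by
      rw [mem_support_fibre_iff u F s z', hιz]
      exact hzZ
    have hsp' : z' ⤳ ζ := by
      apply (u.fiberι s).isEmbedding.isInducing.specializes_iff.mp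
      rw [hιz0]
      exact hsp
    have h1 := hmin z' hz'S hsp'
    rw [h1] at hιz
    rw [← hιz, htr] at hd
    have : (d + 1 : ℕ) ≤ d := by exact_mod_cast hd
    omega
  · rintro ⟨x, ⟨⟨hxZ, z, hzZ, hzx, hsp, hd⟩, hnK⟩, rfl⟩
    set z' := (u.fiberHomeo (u x)).symm ⟨z, hzx⟩ with hz'
    have hιz0 : u.fiberι (u x) z' = z := u.fiberι_fiberHomeo_symm (u x) ⟨z, hzx⟩
    have hιz : (u.fiberι (u x)).base z' = z := hιz0
    have hz'S : z' ∈ CohB1.support ((Scheme.Modules.pullback (u.fiberι (u x))).obj F) := by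
      rw [mem_support_fibre_iff u F (u x) z', hιz]
      exact hzZ
    obtain ⟨ζ, hζ, hmin, hζz⟩ :=
      exists_minimal_specializes (isClosed_support_fibre u F (u x)) z' hz'S
    refine ⟨ζ, hζ, hmin, ?_⟩
    rw [dim_closure_eq_trn u (u x) ζ]
    have h1 : trn u z ≤ trn u ((u.fiberι (u x)).base ζ) := by
      have := SuppDimLC.trn_le_of_specializes u (u x) ζ z' hζz
      rwa [hιz] at this
    have hζZ := (mem_support_fibre_iff u F (u x) ζ).mp hζ
    have hsp2 : (u.fiberι (u x)).base ζ ⤳ x := by
      have h := hζz.map (u.fiberι (u x)).continuous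
      rw [hιz0] at h
      exact h.trans hsp
    have h2 : ¬ ((d + 1 : ℕ) : ℕ∞) ≤ trn u ((u.fiberι (u x)).base ζ) := fun h =>
      hnK ⟨hxZ, _, hζZ, apply_fiberι' u (u x) ζ, hsp2, h⟩
    have h3 : trn u ((u.fiberι (u x)).base ζ) = d := by
      have hne := trn_ne_top u ((u.fiberι (u x)).base ζ)
      obtain ⟨t, ht⟩ := ENat.ne_top_iff_exists.mp hne
      rw [← ht] at h1 h2 ⊢
      have h4 : d ≤ t := by exact_mod_cast hd.trans h1
      have h5 : ¬ (d + 1 ≤ t) := fun h => h2 (by exact_mod_cast h)
      have : t = d := by omega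
      rw [this]
    rw [h3]
    rfl

theorem exists_nat_of_mem_compDims (s : S) (e : WithBot ℕ∞)
    (he : e ∈ (fun Z : Set ↥(CohB1.support ((Scheme.Modules.pullback (u.fiberι s)).obj F)) =>
        topologicalKrullDim ↥Z) ''
        irreducibleComponents ↥(CohB1.support ((Scheme.Modules.pullback (u.fiberι s)).obj F))) :
    ∃ d : ℕ, e = ((d : ℕ) : WithBot ℕ∞) := by
  rw [mem_compDims_iff (isClosed_support_fibre u F s)] at he
  obtain ⟨ζ, hζ, hmin, rfl⟩ := he
  rw [dim_closure_eq_trn u s ζ]
  obtain ⟨t, ht⟩ := ENat.ne_top_iff_exists.mp (trn_ne_top u ((u.fiberι s).base ζ))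
  exact ⟨t, by rw [← ht]; rfl⟩

set_option maxHeartbeats 800000 in
/-- the description of the locus of `PSupp Φ`. -/
theorem pSupp_fibre_iff (Φ : Finset ℕ) (s : S) :
    PSupp Φ (u.fiberToSpecResidueField s) ((Scheme.Modules.pullback (u.fiberι s)).obj F) ↔
      (∀ d : Φ, s ∈ u '' LSet u F d) ∧
        s ∉ u '' (CohB1.support F \ ⋃ d : Φ, LSet u F d) := by
  unfold PSupp
  constructor
  · intro h
    refine ⟨fun d => ?_, ?_⟩
    · rw [← natCast_mem_compDims_iff, h]
      exact ⟨d.1, d.2, rfl⟩
    · rintro ⟨x, ⟨hxZ, hxn⟩, rfl⟩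
      obtain ⟨d₀, hd₀⟩ := exists_mem_lSet u F x hxZ
      have h1 : u x ∈ u '' LSet u F d₀ := ⟨x, hd₀, rfl⟩
      rw [← natCast_mem_compDims_iff, h] at h1
      obtain ⟨d, hd, hdd⟩ := h1
      have hdd' : ((d : ℕ) : WithBot ℕ∞) = ((d₀ : ℕ) : WithBot ℕ∞) := hdd
      have h2 : d = d₀ := by exact_mod_cast hdd'
      subst h2
      exact hxn (Set.mem_iUnion.mpr ⟨⟨d, hd⟩, hd₀⟩)
  · rintro ⟨h1, h2⟩
    ext e
    constructor
    · intro he
      obtain ⟨d, rfl⟩ := exists_nat_of_mem_compDims u F s e he
      rw [natCast_mem_compDims_iff] at he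
      obtain ⟨x, hx, rfl⟩ := he
      have hxU : x ∈ ⋃ d : Φ, LSet u F d := by
        by_contra hcon
        exact h2 ⟨x, ⟨lSet_subset_support u F d hx, hcon⟩, rfl⟩
      obtain ⟨d', hd'⟩ := Set.mem_iUnion.mp hxU
      have := lSet_disjoint u F hx hd'
      exact ⟨d'.1, d'.2, by rw [this]⟩
    · rintro ⟨d, hd, rfl⟩
      rw [natCast_mem_compDims_iff]
      exact h1 ⟨d, hd⟩

end Gen

section Main

open ConsProp

set_option maxHeartbeats 800000 in
/-- **EGA IV 9.8.5 (support part)**: the set of dimensions of the irreducible components of the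
support is a constructible property of fibre modules. -/
theorem isConsMod_pSupp (Φ : Finset ℕ) : IsConsMod (PSupp.{u} Φ) := by
  refine ⟨isFieldStableMod_pSupp Φ, ?_⟩
  intro X S u _ _ _ _ F hF
  obtain ⟨hq, hft⟩ := hF
  haveI : F.IsQuasicoherent := hq
  haveI : F.IsFiniteType := hft
  haveI : IsLocallyNoetherian X := LocallyOfFiniteType.isLocallyNoetherian u
  haveI : CompactSpace X := QuasiCompact.compactSpace_of_compactSpace u
  haveI : IsNoetherian X := ⟨⟩
  haveI : LocallyOfFinitePresentation u :=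
    SecCompBC.locallyOfFinitePresentation_of_isLocallyNoetherian u
  have hcl : ∀ A : Set X, IsClosed A → IsConstructible A := by
    intro A hA
    have h1 : IsConstructible Aᶜ :=
      (NoetherianSpace.isCompact Aᶜ).isConstructible hA.isOpen_compl
    simpa using h1.compl
  have hL : ∀ d, IsConstructible (LSet u F d) := fun d =>
    (hcl _ (isClosed_kSet u F d)).sdiff (hcl _ (isClosed_kSet u F (d + 1)))
  have hset : locusMod (PSupp Φ) u F =
      (⋂ d : Φ, u '' LSet u F d) ∩ (u '' (CohB1.support F \ ⋃ d : Φ, LSet u F d))ᶜ := by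
    ext s
    simp only [locusMod, Set.mem_ofPred_eq, Set.mem_inter_iff, Set.mem_iInter, Set.mem_compl_iff]
    exact pSupp_fibre_iff u F Φ s
  have hLC : IsLocallyConstructible (locusMod (PSupp Φ) u F) := by
    rw [hset]
    refine IsLocallyConstructible.inter (IsLocallyConstructible.iInter fun d => ?_) ?_
    · exact u.isLocallyConstructible_image (hL d).isLocallyConstructible
    · apply ConstrNhds.isLocallyConstructible_compl
      apply u.isLocallyConstructible_image
      apply IsConstructible.isLocallyConstructible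
      exact (hcl _ (MaxAnnInt.isClosed_support F)).sdiff (IsConstructible.iUnion fun d => hL d)
  exact ConsPropBasic.interior_nonempty_or _ hLC

end Main

end Groth.Agent.Lib.Helper20.FAD
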