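import Mathlib
import Groth.Agent.Lib.Helper20.FAD3
import Groth.Agent.Lib.Helper12.FibreTopGen
import Groth.Agent.Lib.Helper12.SchemeDimFT3
import Groth.Agent.Lib.Helper12.ClosedSub

/-!
# Dimensions of the irreducible components of a locally closed subset of a fibre (helper20)
-/

set_option autoImplicit false
set_option linter.style.haveILetI false
set_option linter.unusedSectionVars false
set_option linter.dupNamespace false
universe u

open IsLocalRing CategoryTheory CategoryTheory.Limits AlgebraicGeometry TopologicalSpace Topology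

namespace Groth.Agent.Lib.Helper20.CDim

open Groth.Agent.Lib.Helper12 Groth.Agent.Lib.Helper12.SchemeDimIneq
  Groth.Agent.Lib.Helper20.AssDim Groth.Agent.Lib.Helper12.FibreTop
  Groth.Agent.Lib.Helper12.SchemeDimFT

section Top

/-- the set of dimensions of the irreducible components of a space. -/
def compDims (P : Type*) [TopologicalSpace P] : Set (WithBot ℕ∞) :=
  (fun T : Set P => topologicalKrullDim ↥T) '' irreducibleComponents P

theorem compDims_homeo_subset {P Q : Type*} [TopologicalSpace P] [TopologicalSpace Q]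
    (φ : P ≃ₜ Q) : compDims P ⊆ compDims Q := by
  rintro _ ⟨T, hT, rfl⟩
  refine ⟨φ '' T, image_mem_irreducibleComponents_of_isPreirreducible_fiber φ φ.continuous
    φ.isOpenMap (fun x => (Set.subsingleton_singleton.preimage φ.injective).isPreirreducible)
    φ.surjective hT, ?_⟩
  exact (IsHomeomorph.topologicalKrullDim_eq _ (φ.image T).isHomeomorph).symm

theorem compDims_homeo {P Q : Type*} [TopologicalSpace P] [TopologicalSpace Q]
    (φ : P ≃ₜ Q) : compDims P = compDims Q :=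
  Set.Subset.antisymm (compDims_homeo_subset φ) (compDims_homeo_subset φ.symm)

variable {W : Type*} [TopologicalSpace W] [T0Space W]

/-- the generic point of an irreducible component of a quasi-sober subspace. -/
theorem exists_generic_of_mem_irreducibleComponents' {L : Set W} [QuasiSober ↥L]
    {T₀ : Set ↥L} (hT₀ : T₀ ∈ irreducibleComponents ↥L) :
    ∃ ζ : W, ∃ hζ : ζ ∈ L, (∀ y ∈ L, y ⤳ ζ → y = ζ) ∧ T₀ = closure {(⟨ζ, hζ⟩ : ↥L)} := by
  have hirr : IsIrreducible T₀ := hT₀.1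
  have hcl : IsClosed T₀ := isClosed_of_mem_irreducibleComponents T₀ hT₀
  obtain ⟨⟨ζ, hζ⟩, hgen⟩ := QuasiSober.sober hirr hcl
  have hgen' : closure {(⟨ζ, hζ⟩ : ↥L)} = T₀ := hgen
  refine ⟨ζ, hζ, ?_, hgen'.symm⟩
  intro z hz hzζ
  have h1 : (⟨z, hz⟩ : ↥L) ⤳ ⟨ζ, hζ⟩ :=
    Topology.IsInducing.subtypeVal.specializes_iff.mp hzζ
  have h2 : closure {(⟨ζ, hζ⟩ : ↥L)} ⊆ closure {(⟨z, hz⟩ : ↥L)} :=
    specializes_iff_closure_subset.mp h1
  have h3 : IsIrreducible (closure {(⟨z, hz⟩ : ↥L)}) := isIrreducible_singleton.closure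
  have h4 : closure {(⟨z, hz⟩ : ↥L)} ≤ T₀ := hT₀.2 h3 (hgen' ▸ h2)
  have h5 : (⟨z, hz⟩ : ↥L) ∈ closure {(⟨ζ, hζ⟩ : ↥L)} := hgen' ▸ h4 (subset_closure rfl)
  have h6 : (⟨ζ, hζ⟩ : ↥L) ⤳ ⟨z, hz⟩ := specializes_iff_mem_closure.mpr h5
  have h7 : ζ ⤳ z := h6.map continuous_subtype_val
  exact (hzζ.antisymm h7).eq

theorem image_closure_singleton_subtype {L : Set W} (ζ : W) (hζ : ζ ∈ L) :
    Subtype.val '' closure {(⟨ζ, hζ⟩ : ↥L)} = closure {ζ} ∩ L := by
  rw [Topology.IsInducing.subtypeVal.closure_eq_preimage_closure_image, Set.image_singleton,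
    Subtype.image_preimage_coe, Set.inter_comm]

/-- the dimensions of the irreducible components of a quasi-sober subspace. -/
theorem mem_compDims_iff_of_quasiSober {L : Set W} [QuasiSober ↥L] (e : WithBot ℕ∞) :
    e ∈ compDims ↥L ↔
      ∃ ζ ∈ L, (∀ y ∈ L, y ⤳ ζ → y = ζ) ∧
        topologicalKrullDim ↥(closure ({ζ} : Set W) ∩ L) = e := by
  have hdim : ∀ (ζ : W) (hζ : ζ ∈ L),
      topologicalKrullDim ↥(closure {(⟨ζ, hζ⟩ : ↥L)}) =
        topologicalKrullDim ↥(closure ({ζ} : Set W) ∩ L) := by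
    intro ζ hζ
    have h1 := IsHomeomorph.topologicalKrullDim_eq _
      (Topology.IsEmbedding.subtypeVal.homeomorphImage
        (closure {(⟨ζ, hζ⟩ : ↥L)})).isHomeomorph
    rw [h1, image_closure_singleton_subtype]
  constructor
  · rintro ⟨T₀, hT₀, rfl⟩
    obtain ⟨ζ, hζ, hmin, hT₀eq⟩ := exists_generic_of_mem_irreducibleComponents' hT₀
    refine ⟨ζ, hζ, hmin, ?_⟩
    show _ = topologicalKrullDim ↥T₀
    rw [hT₀eq, hdim]
  · rintro ⟨ζ, hζ, hmin, rfl⟩
    have hT₁ := irreducibleComponent_mem_irreducibleComponents (⟨ζ, hζ⟩ : ↥L)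
    obtain ⟨ζ₁, hζ₁, hmin₁, hT₁eq⟩ := exists_generic_of_mem_irreducibleComponents' hT₁
    have h1 : (⟨ζ, hζ⟩ : ↥L) ∈ closure {(⟨ζ₁, hζ₁⟩ : ↥L)} := hT₁eq ▸ mem_irreducibleComponent
    have h2 : ζ₁ ⤳ ζ := (specializes_iff_mem_closure.mpr h1).map continuous_subtype_val
    have h3 : ζ₁ = ζ := hmin ζ₁ hζ₁ h2
    subst h3
    refine ⟨_, hT₁, ?_⟩
    show topologicalKrullDim ↥(irreducibleComponent (⟨ζ₁, hζ₁⟩ : ↥L)) = _
    rw [hT₁eq, hdim]

end Top

section Sch

variable {X S : Scheme.{u}} (f : X ⟶ S) [LocallyOfFiniteType f]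

set_option maxHeartbeats 1600000 in
/-- **the dimensions of the irreducible components of a subset of a fibre which is locally closed
in the fibre.** -/
theorem mem_compDims_fibre_iff (Z : Set X) (s : S) (hLC : RLC f Z s) (e : WithBot ℕ∞) :
    e ∈ compDims ↥(Z ∩ f ⁻¹' {s}) ↔
      ∃ ζ ∈ Z, f ζ = s ∧ (∀ y ∈ Z, f y = s → y ⤳ ζ → y = ζ) ∧
        ((trn f ζ : ℕ∞) : WithBot ℕ∞) = e := by
  letI _ovF : (f.fiber s).Over (Spec (CommRingCat.of (S.residueField s))) :=
    ⟨f.fiberToSpecResidueField s⟩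
  haveI : LocallyOfFiniteType ((f.fiber s) ↘ Spec (CommRingCat.of (S.residueField s))) :=
    FibreRes.locallyOfFiniteType_fiberToSpecResidueField f s
  set L : Set ↥(f.fiber s) := (f.fiberι s) ⁻¹' Z with hLdef
  have hL : IsLocallyClosed L := by
    have h1 : L = (f.fiberHomeo s) ⁻¹' (Subtype.val ⁻¹' Z : Set ↥(f ⁻¹' {s})) := by
      ext w
      rfl
    rw [h1]
    exact hLC.preimage (f.fiberHomeo s).continuous
  have hEq : (f.fiberι s) '' L = Z ∩ f ⁻¹' {s} := by
    rw [hLdef, Set.image_preimage_eq_inter_range, f.range_fiberι s]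
  let φ : ↥L ≃ₜ ↥(Z ∩ f ⁻¹' {s}) :=
    ((f.fiberι s).isEmbedding.homeomorphImage L).trans (Homeomorph.setCongr hEq)
  rw [← compDims_homeo φ]
  haveI : QuasiSober ↥L := quasiSober_of_isLocallyClosed hL
  rw [mem_compDims_iff_of_quasiSober]
  have hdim : ∀ ζw ∈ L, topologicalKrullDim ↥(closure ({ζw} : Set ↥(f.fiber s)) ∩ L) =
      ((trn f ((f.fiberι s).base ζw) : ℕ∞) : WithBot ℕ∞) := by
    intro ζw hζw
    have hM : IsLocallyClosed (closure ({ζw} : Set ↥(f.fiber s)) ∩ L) :=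
      isClosed_closure.isLocallyClosed.inter hL
    have h1 := ClosedSub.trn_eq_tr_of_fiber f ((f.fiberι s).base ζw) s (apply_fiberι' f s ζw)
      ζw rfl
    rw [h1]
    apply le_antisymm
    · refine topologicalKrullDim_le_of_isLocallyClosed (S.residueField s) (f.fiber s) _ hM _ ?_
      intro z hz
      have : ζw ⤳ z := specializes_iff_mem_closure.mpr hz.1
      exact_mod_cast tr_le_of_specializes (S.residueField s) (f.fiber s) ζw z this
    · exact le_topologicalKrullDim_of_isLocallyClosed (S.residueField s) (f.fiber s) _ hM ζw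
        ⟨subset_closure rfl, hζw⟩
  constructor
  · rintro ⟨ζw, hζw, hmin, hd⟩
    refine ⟨(f.fiberι s).base ζw, hζw, apply_fiberι' f s ζw, ?_, ?_⟩
    · intro y hyZ hys hyζ
      set yw := (f.fiberHomeo s).symm ⟨y, hys⟩ with hyw
      have hιy0 : f.fiberι s yw = y := f.fiberι_fiberHomeo_symm s ⟨y, hys⟩
      have hιy : (f.fiberι s).base yw = y := hιy0
      have h1 : yw ⤳ ζw := by
        apply (f.fiberι s).isEmbedding.isInducing.specializes_iff.mp
        rw [hιy0]
        exact hyζ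
      have h2 : yw ∈ L := by
        show (f.fiberι s).base yw ∈ Z
        rw [hιy]
        exact hyZ
      rw [← hιy, hmin yw h2 h1]
    · rw [← hdim ζw hζw]
      exact hd
  · rintro ⟨ζ, hζZ, hζs, hmin, hd⟩
    set ζw := (f.fiberHomeo s).symm ⟨ζ, hζs⟩ with hζw
    have hιζ0 : f.fiberι s ζw = ζ := f.fiberι_fiberHomeo_symm s ⟨ζ, hζs⟩
    have hιζ : (f.fiberι s).base ζw = ζ := hιζ0
    have hζwL : ζw ∈ L := by
      show (f.fiberι s).base ζw ∈ Z
      rw [hιζ]
      exact hζZ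
    refine ⟨ζw, hζwL, ?_, ?_⟩
    · intro yw hyw hsp
      apply (f.fiberι s).isEmbedding.injective
      have h1 := hsp.map (f.fiberι s).continuous
      rw [hιζ0] at h1
      rw [hιζ0]
      exact hmin _ hyw (apply_fiberι' f s yw) h1
    · rw [hdim ζw hζwL, hιζ]
      exact hd

end Sch

end Groth.Agent.Lib.Helper20.CDim
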