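import Mathlib
import Groth.Agent.Lib.Helper20.CDim0
import Groth.Agent.Lib.Helper20.CDim1
import Groth.Agent.Lib.Helper20.FAD1
import Groth.Agent.Lib.Helper12.SecComp
import Groth.Agent.Lib.Helper12.FibreMax

/-!
# Compatibility with base change of the dimensions of the components of a locally closed subset
of a fibre (helper20)
-/

set_option autoImplicit false
set_option linter.style.haveILetI false
set_option linter.unusedSectionVars false
set_option linter.dupNamespace false
universe u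

open IsLocalRing CategoryTheory CategoryTheory.Limits AlgebraicGeometry TopologicalSpace Topology

namespace Groth.Agent.Lib.Helper20.CDim

open Groth.Agent.Lib.Helper12 Groth.Agent.Lib.Helper12.SchemeDimIneq
  Groth.Agent.Lib.Helper20.AssDim Groth.Agent.Lib.Helper12.FibreTop
  Groth.Agent.Lib.Helper12.SchemeDimFT Groth.Agent.Lib.Helper20.FAD

section Min

variable {X S : Scheme.{u}} (f : X ⟶ S) [LocallyOfFiniteType f]

/-- every point of a subset has a generization in the subset and in the same fibre which is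
minimal there. -/
theorem exists_minimal_generization (Q : Set X) (z : X) (hz : z ∈ Q) :
    ∃ ζ ∈ Q, f ζ = f z ∧ ζ ⤳ z ∧ ∀ y ∈ Q, f y = f z → y ⤳ ζ → y = ζ := by
  classical
  obtain ⟨N, hN⟩ := SecComp.exists_nat_fibreDimAt f z
  let P : ℕ → Prop := fun n => ∃ y ∈ Q, f y = f z ∧ y ⤳ z ∧ trn f y = (n : ℕ∞)
  have hbound : ∀ n, P n → n ≤ N := by
    rintro n ⟨y, -, hy, hsp, htr⟩
    have h1 := FibreMax.trn_le_fibreDimAt_of_specializes f z y hy hsp
    rw [hN, htr] at h1
    exact_mod_cast h1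
  obtain ⟨t, ht⟩ := exists_trn_eq f z
  have hPt : P t := ⟨z, hz, rfl, specializes_rfl, ht⟩
  have hP₀ : P (Nat.findGreatest P N) := Nat.findGreatest_spec (hbound t hPt) hPt
  obtain ⟨ζ, hζQ, hζf, hζz, hζtr⟩ := hP₀
  refine ⟨ζ, hζQ, hζf, hζz, ?_⟩
  intro y hyQ hyf hyζ
  by_contra hne
  have hlt := FibreMax.trn_lt_of_specializes f ζ y (hyf.trans hζf.symm) hyζ hne
  obtain ⟨m, hm⟩ := exists_trn_eq f y
  have hPm : P m := ⟨y, hyQ, hyf, hyζ.trans hζz, hm⟩
  have h1 := Nat.le_findGreatest (hbound m hPm) hPm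
  rw [hζtr, hm] at hlt
  have : Nat.findGreatest P N < m := by exact_mod_cast hlt
  omega

end Min

section BC

variable {X X' S S' : Scheme.{u}} {f : X ⟶ S} {f' : X' ⟶ S'} {eX : X' ⟶ X} {h : S' ⟶ S}

set_option maxHeartbeats 800000 in
/-- generizations in a fibre lift along a base change. -/
theorem exists_generization_lift (hX : IsPullback eX f' f h) (s' : S') (ζ' : X')
    (hζ' : f' ζ' = s') (y : X) (hy : f y = h s') (hyζ : y ⤳ eX ζ') :
    ∃ y' : X', f' y' = s' ∧ y' ⤳ ζ' ∧ eX y' = y := by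
  obtain ⟨e, he, hcomm⟩ := ConsPropNoeth.exists_fibre_isPullback hX s'
  haveI : Flat (Spec.map (h.residueFieldMap s')) := by
    rw [Flat.SpecMap_iff]
    algebraize [(h.residueFieldMap s').hom]
    change Module.Flat _ _
    infer_instance
  haveI : Flat e := MorphismProperty.of_isPullback (P := @Flat) he.flip inferInstance
  set w' := (f'.fiberHomeo s').symm ⟨ζ', hζ'⟩ with hw'
  have hιw' : f'.fiberι s' w' = ζ' := f'.fiberι_fiberHomeo_symm s' ⟨ζ', hζ'⟩
  set wy := (f.fiberHomeo (h s')).symm ⟨y, hy⟩ with hwy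
  have hιwy : f.fiberι (h s') wy = y := f.fiberι_fiberHomeo_symm (h s') ⟨y, hy⟩
  have hcomp : ∀ t : f'.fiber s', f.fiberι (h s') (e t) = eX (f'.fiberι s' t) := by
    intro t
    rw [← Scheme.Hom.comp_apply, ← Scheme.Hom.comp_apply, hcomm]
  have hsp : wy ⤳ e w' := by
    apply (f.fiberι (h s')).isEmbedding.isInducing.specializes_iff.mp
    rw [hιwy, hcomp, hιw']
    exact hyζ
  obtain ⟨wy', hwy', hewy'⟩ := Flat.generalizingMap e hsp
  refine ⟨f'.fiberι s' wy', apply_fiberι' f' s' wy', ?_, ?_⟩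
  · have := hwy'.map (f'.fiberι s').continuous
    rwa [hιw'] at this
  · rw [← hcomp, hewy', hιwy]

set_option maxHeartbeats 1600000 in
/-- the transcendence degree is preserved at points which are maximal in their fibre over the
image point. -/
theorem trn_eq_of_max [LocallyOfFiniteType f] (hX : IsPullback eX f' f h) (s' : S') (ζ' : X')
    (hζ' : f' ζ' = s')
    (hmax : ∀ t' : X', f' t' = s' → t' ⤳ ζ' → eX t' = eX ζ' → t' = ζ') :
    trn f' ζ' = trn f (eX ζ') := by
  haveI : LocallyOfFiniteType f' :=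
    MorphismProperty.of_isPullback (P := @LocallyOfFiniteType) hX inferInstance
  obtain ⟨e, he, hcomm⟩ := ConsPropNoeth.exists_fibre_isPullback hX s'
  haveI : LocallyOfFiniteType (f.fiberToSpecResidueField (h s')) := by
    change LocallyOfFiniteType (pullback.snd f (S.fromSpecResidueField (h s')))
    infer_instance
  set w' := (f'.fiberHomeo s').symm ⟨ζ', hζ'⟩ with hw'
  have hιw'0 : f'.fiberι s' w' = ζ' := f'.fiberι_fiberHomeo_symm s' ⟨ζ', hζ'⟩
  have hιw' : (f'.fiberι s').base w' = ζ' := hιw'0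
  have hcomp : ∀ t : f'.fiber s', f.fiberι (h s') (e t) = eX (f'.fiberι s' t) := by
    intro t
    rw [← Scheme.Hom.comp_apply, ← Scheme.Hom.comp_apply, hcomm]
  have hmaxw : ∀ t : f'.fiber s', t ⤳ w' → e w' ⤳ e t → t = w' := by
    intro t ht hsp
    have h1 : e t = e w' := ((ht.map e.continuous).antisymm hsp).eq
    apply (f'.fiberι s').isEmbedding.injective
    rw [hιw'0]
    refine hmax _ (apply_fiberι' f' s' t) ?_ ?_
    · have := ht.map (f'.fiberι s').continuous
      rwa [hιw'0] at this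
    · rw [← hcomp, h1, hcomp, hιw'0]
  have h1 := dimcl_eq (f.fiberToSpecResidueField (h s')) (f'.fiberToSpecResidueField s') e
    (Spec.map (h.residueFieldMap s')) he w' hmaxw
  rw [dim_closure_eq_trn f' s' w', dim_closure_eq_trn f (h s') (e w')] at h1
  have h2 : (f.fiberι (h s')).base (e w') = eX ζ' := by
    have := hcomp w'
    rw [hιw'0] at this
    exact this
  rw [hιw', h2] at h1
  exact_mod_cast h1

end BC

/-- the relation of the statement. -/
def RD (Φ : Set (WithBot ℕ∞)) : ∀ ⦃X S : Scheme.{u}⦄ (_ : X ⟶ S), Set X → Set X → S → Prop :=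
  fun _ _ f Z _ s => RLC f Z s ∧ compDims ↥(Z ∩ f ⁻¹' {s}) = Φ

set_option maxHeartbeats 1600000 in
theorem bcStable_rD (Φ : Set (WithBot ℕ∞)) : CDim0.BCStable (RD.{u} Φ) := by
  intro X X' S S' f f' eX h hX hf Z Z' s'
  haveI : LocallyOfFiniteType f := hf
  haveI : LocallyOfFiniteType f' :=
    MorphismProperty.of_isPullback (P := @LocallyOfFiniteType) hX inferInstance
  have hlc := rLC_preimage hX Z s'
  unfold RD
  rw [hlc]
  refine and_congr_right fun hLC => ?_
  have hLC' : RLC f' (eX ⁻¹' Z) s' := hlc.mpr hLC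
  have key : compDims ↥(eX ⁻¹' Z ∩ f' ⁻¹' {s'}) = compDims ↥(Z ∩ f ⁻¹' {h s'}) := by
    ext e
    rw [mem_compDims_fibre_iff f' _ s' hLC', mem_compDims_fibre_iff f Z (h s') hLC]
    have hpt : ∀ x' : X', f' x' = s' → f (eX x') = h s' := by
      intro x' hx'
      rw [← Scheme.Hom.comp_apply, hX.w, Scheme.Hom.comp_apply, hx']
    constructor
    · rintro ⟨ζ', hζ'Z, hζ's, hmin', rfl⟩
      have htr := trn_eq_of_max hX s' ζ' hζ's (fun t' ht's ht'ζ hteq => by
        refine hmin' t' ?_ ht's ht'ζ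
        show eX t' ∈ Z
        rw [hteq]
        exact hζ'Z)
      refine ⟨eX ζ', hζ'Z, hpt ζ' hζ's, ?_, by rw [htr]⟩
      intro y hyZ hys hyζ
      obtain ⟨y', hy's, hy'ζ, rfl⟩ := exists_generization_lift hX s' ζ' hζ's y hys hyζ
      rw [hmin' y' hyZ hy's hy'ζ]
    · rintro ⟨ζ, hζZ, hζs, hmin, rfl⟩
      have hζF : ζ ∈ f ⁻¹' {h s'} := hζs
      rw [← image_fibre hX s'] at hζF
      obtain ⟨z'₀, hz'₀s, rfl⟩ := hζF
      have hz'₀s' : f' z'₀ = s' := hz'₀s
      obtain ⟨ζ', hζ'Q, hζ'f, hζ'z, hmin'⟩ :=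
        exists_minimal_generization f' (eX ⁻¹' Z) z'₀ hζZ
      have hζ's : f' ζ' = s' := hζ'f.trans hz'₀s'
      have heq : eX ζ' = eX z'₀ :=
        hmin (eX ζ') hζ'Q (hpt ζ' hζ's) (hζ'z.map eX.continuous)
      have hmin'' : ∀ y ∈ eX ⁻¹' Z, f' y = s' → y ⤳ ζ' → y = ζ' := by
        intro y hy hys hyζ
        exact hmin' y hy (hys.trans hz'₀s'.symm) hyζ
      have htr := trn_eq_of_max hX s' ζ' hζ's (fun t' ht's ht'ζ hteq => by
        refine hmin'' t' ?_ ht's ht'ζ
        show eX t' ∈ Z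
        rw [hteq]
        exact hζ'Q)
      exact ⟨ζ', hζ'Q, hζ's, hmin'', by rw [htr, heq]⟩
  rw [key]

end Groth.Agent.Lib.Helper20.CDim
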