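import Mathlib
import Groth.Agent.Lib.Helper20.CDim2
import Groth.Agent.Lib.Helper20.AssDim1
import Groth.Agent.Lib.Helper12.Chevalley
import Groth.Agent.Lib.Helper12.SecCompBC

/-!
# Generic constructibility of the dimensions of the components of a locally closed subset of a
fibre (helper20)
-/

set_option autoImplicit false
set_option linter.style.haveILetI false
set_option linter.unusedSectionVars false
set_option linter.dupNamespace false
universe u

open IsLocalRing CategoryTheory CategoryTheory.Limits AlgebraicGeometry TopologicalSpace Topology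

namespace Groth.Agent.Lib.Helper20.CDim

open Groth.Agent.Lib.Helper12 Groth.Agent.Lib.Helper12.SchemeDimIneq
  Groth.Agent.Lib.Helper20.AssDim Groth.Agent.Lib.Helper12.FibreTop
  Groth.Agent.Lib.Helper12.SchemeDimFT

section Pt

variable {X S : Scheme.{u}} (f : X ⟶ S)

/-- points of `Q` having a generization in `Q`, in the same fibre, of transcendence degree at
least `d`. -/
def KD (Q : Set X) (d : ℕ) : Set X :=
  {x : X | x ∈ Q ∧ ∃ z ∈ Q, f z = f x ∧ z ⤳ x ∧ (d : ℕ∞) ≤ trn f z}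

/-- points of `Q` for which the maximal transcendence degree of a generization in `Q` in the same
fibre is `d`. -/
def LD (Q : Set X) (d : ℕ) : Set X := KD f Q d \ KD f Q (d + 1)

variable [LocallyOfFiniteType f]

theorem isClosed_kD (Q : Set X) (hQ : IsClosed Q) (d : ℕ) : IsClosed (KD f Q d) :=
  isClosed_setOf_exists_generization f Q hQ d

/-- a generization in the closure, of a point of `Z`, in a fibre where `Z` is locally closed and
the closure is the closure in the fibre, lies in `Z`. -/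
theorem mem_of_specializes_of_rLC (Z : Set X) (s : S) (hLC : RLC f Z s)
    (hfcl : fcl f s Z = closure Z ∩ f ⁻¹' {s}) (y : X) (hy : y ∈ closure Z) (hys : f y = s)
    (x : X) (hx : x ∈ Z) (hxs : f x = s) (hyx : y ⤳ x) : y ∈ Z := by
  by_contra hyZ
  have h1 := (rClosed_iff f _ s).mp ((rLC_iff f Z s).mp hLC)
  have hyB : y ∈ fcl f s Z \ Z := by
    refine ⟨?_, hyZ⟩
    rw [hfcl]
    exact ⟨hy, hys⟩
  have hx' : x ∈ fcl f s (fcl f s Z \ Z) := by
    refine ⟨?_, hxs⟩
    have h2 : closure ({y} : Set X) ⊆ closure ((fcl f s Z \ Z) ∩ f ⁻¹' {s}) :=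
      closure_mono (Set.singleton_subset_iff.mpr ⟨hyB, hys⟩)
    exact h2 (specializes_iff_mem_closure.mp hyx)
  exact (h1 hx').2 hx

set_option maxHeartbeats 800000 in
/-- the dimensions of the components of `Z ∩ f⁻¹(s)` in terms of the sets `LD`. -/
theorem natCast_mem_compDims_fibre_iff (Z : Set X) (s : S) (hLC : RLC f Z s)
    (hfcl : fcl f s Z = closure Z ∩ f ⁻¹' {s}) (d : ℕ) :
    (((d : ℕ∞) : WithBot ℕ∞) ∈ compDims ↥(Z ∩ f ⁻¹' {s})) ↔
      s ∈ f '' (LD f (closure Z) d ∩ Z) := by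
  rw [mem_compDims_fibre_iff f Z s hLC]
  constructor
  · rintro ⟨ζ, hζZ, hζs, hmin, hd⟩
    have hd' : trn f ζ = (d : ℕ∞) := by exact_mod_cast hd
    refine ⟨ζ, ⟨⟨⟨subset_closure hζZ, ζ, subset_closure hζZ, rfl, specializes_rfl, hd'.ge⟩, ?_⟩,
      hζZ⟩, hζs⟩
    rintro ⟨-, z, hz, hzf, hzζ, hdz⟩
    have hzZ : z ∈ Z := mem_of_specializes_of_rLC f Z s hLC hfcl z hz (hzf.trans hζs) ζ hζZ hζs hzζ
    have hzeq : z = ζ := hmin z hzZ (hzf.trans hζs) hzζ
    rw [hzeq, hd'] at hdz
    have : d + 1 ≤ d := by exact_mod_cast hdz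
    omega
  · rintro ⟨x, ⟨⟨⟨hxQ, z, hz, hzf, hzx, hdz⟩, hnot⟩, hxZ⟩, hxs⟩
    obtain ⟨ζ, hζQ, hζf, hζz, hmin⟩ := exists_minimal_generization f (closure Z) z hz
    have hζx : ζ ⤳ x := hζz.trans hzx
    have hζs : f ζ = s := (hζf.trans hzf).trans hxs
    have h1 : trn f z ≤ trn f ζ := SecComp.trn_le_of_specializes f z ζ hζf hζz
    have h2 : ¬ (((d + 1 : ℕ) : ℕ∞) ≤ trn f ζ) := by
      intro h
      exact hnot ⟨hxQ, ζ, hζQ, hζf.trans hzf, hζx, h⟩
    obtain ⟨t, ht⟩ := exists_trn_eq f ζ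
    have h3 : trn f ζ = (d : ℕ∞) := by
      rw [ht] at h1 h2 ⊢
      have h4 : (d : ℕ∞) ≤ (t : ℕ∞) := hdz.trans h1
      have h5 : d ≤ t := by exact_mod_cast h4
      have h6 : ¬ (d + 1 ≤ t) := by
        intro h
        exact h2 (by exact_mod_cast h)
      have : t = d := by omega
      rw [this]
    have hζZ : ζ ∈ Z := mem_of_specializes_of_rLC f Z s hLC hfcl ζ hζQ hζs x hxZ hxs hζx
    refine ⟨ζ, hζZ, hζs, ?_, by rw [h3]⟩
    intro y hyZ hys hyζ
    exact hmin y (subset_closure hyZ) (hys.trans (hζs.symm.trans hζf)) hyζ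

/-- the elements of `compDims` of a fibre are bounded natural numbers. -/
theorem exists_nat_of_mem_compDims_fibre (Z : Set X) (s : S) (hLC : RLC f Z s) (N : ℕ)
    (hN : ∀ x : X, FlatMor.fibreDimAt f x ≤ (N : WithBot ℕ∞)) (e : WithBot ℕ∞)
    (he : e ∈ compDims ↥(Z ∩ f ⁻¹' {s})) :
    ∃ d : ℕ, d ≤ N ∧ e = ((d : ℕ∞) : WithBot ℕ∞) := by
  rw [mem_compDims_fibre_iff f Z s hLC] at he
  obtain ⟨ζ, -, -, -, rfl⟩ := he
  obtain ⟨t, ht⟩ := exists_trn_eq f ζ
  have h1 := (FibreMax.trn_le_fibreDimAt_of_specializes f ζ ζ rfl specializes_rfl).trans (hN ζ)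
  rw [ht] at h1 ⊢
  refine ⟨t, ?_, rfl⟩
  exact_mod_cast h1

/-- a global bound for the fibre dimensions on a quasi-compact scheme. -/
theorem exists_fibreDimAt_bound [CompactSpace X] :
    ∃ N : ℕ, ∀ x : X, FlatMor.fibreDimAt f x ≤ (N : WithBot ℕ∞) := by
  have hcov : (Set.univ : Set X) ⊆ ⋃ n : ℕ, {x : X | FlatMor.fibreDimAt f x ≤ (n : WithBot ℕ∞)} := by
    intro x _
    obtain ⟨m, hm⟩ := SecComp.exists_nat_fibreDimAt f x
    exact Set.mem_iUnion.mpr ⟨m, hm.le⟩
  have hdir : Directed (· ⊆ ·)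
      (fun n : ℕ => {x : X | FlatMor.fibreDimAt f x ≤ (n : WithBot ℕ∞)}) := by
    refine Monotone.directed_le ?_
    intro a b hab x hx
    have hx' : FlatMor.fibreDimAt f x ≤ (a : WithBot ℕ∞) := hx
    show FlatMor.fibreDimAt f x ≤ (b : WithBot ℕ∞)
    exact le_trans hx' (by exact_mod_cast hab)
  obtain ⟨N, hN⟩ := isCompact_univ.elim_directed_cover _
    (fun n => Chevalley.isOpen_setOf_fibreDimAt_le f n) hcov hdir
  exact ⟨N, fun x => hN (Set.mem_univ x)⟩

end Pt

set_option maxHeartbeats 1600000 in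
/-- **generic constructibility of the relation `RD`.** -/
theorem genCons_rD (Φ : Set (WithBot ℕ∞)) : CDim0.GenCons (RD.{u} Φ) := by
  classical
  intro X S f _ _ _ _ Z Z' hZ hZ'
  haveI := FibreTopGen.noetherianSpace_of_finiteType f
  haveI : LocallyOfFinitePresentation f :=
    SecCompBC.locallyOfFinitePresentation_of_isLocallyNoetherian f
  obtain ⟨U₁, C₁, hU₁, hη₁, hC₁, H₁⟩ := FibreTopGen.genCons_lc_aux f Z hZ
  obtain ⟨U₂, hU₂, hη₂, H₂⟩ := FibreTopGen.exists_open_fcl_eq f Z hZ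
  obtain ⟨N, hN⟩ := exists_fibreDimAt_bound f
  -- the images of the strata are constructible
  have hL : ∀ d : ℕ, IsConstructible (f '' (LD f (closure Z) d ∩ Z)) := by
    intro d
    refine f.isConstructible_image ?_
    refine (((FibreTopGen.isConstructible_of_isClosed'
      (isClosed_kD f _ isClosed_closure d)).sdiff
      (FibreTopGen.isConstructible_of_isClosed' (isClosed_kD f _ isClosed_closure (d + 1))))).inter
      hZ
  by_cases hΦ : ∀ e ∈ Φ, ∃ d : ℕ, d ≤ N ∧ e = ((d : ℕ∞) : WithBot ℕ∞)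
  · refine ⟨U₁ ∩ U₂, C₁ ∩ ⋂ d ∈ Finset.range (N + 1),
      {s : S | (((d : ℕ∞) : WithBot ℕ∞) ∈ Φ) ↔ s ∈ f '' (LD f (closure Z) d ∩ Z)},
      hU₁.inter hU₂, ⟨hη₁, hη₂⟩, ?_, ?_⟩
    · refine hC₁.inter ?_
      refine IsConstructible.biInter (Finset.range (N + 1)).finite_toSet ?_
      intro d _
      by_cases hd : (((d : ℕ∞) : WithBot ℕ∞) ∈ Φ)
      · convert hL d using 1
        ext s
        simp only [Set.mem_ofPred_eq, hd, true_iff]
      · convert (hL d).compl using 1
        ext s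
        simp only [Set.mem_ofPred_eq, hd, false_iff, Set.mem_compl_iff]
    · intro s hs
      unfold RD
      rw [H₁ s hs.1]
      show _ ↔ s ∈ C₁ ∧ _
      refine and_congr_right fun hsC => ?_
      have hLC : RLC f Z s := (H₁ s hs.1).mpr hsC
      have hfcl := H₂ s hs.2
      constructor
      · intro heq
        simp only [Set.mem_iInter, Set.mem_ofPred_eq]
        intro d _
        rw [← heq]
        exact natCast_mem_compDims_fibre_iff f Z s hLC hfcl d
      · intro hall
        simp only [Set.mem_iInter, Set.mem_ofPred_eq] at hall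
        ext e
        constructor
        · intro he
          obtain ⟨d, hdN, rfl⟩ := exists_nat_of_mem_compDims_fibre f Z s hLC N hN e he
          rw [hall d (Finset.mem_coe.mpr (Finset.mem_range.mpr (by omega)))]
          exact (natCast_mem_compDims_fibre_iff f Z s hLC hfcl d).mp he
        · intro he
          obtain ⟨d, hdN, rfl⟩ := hΦ e he
          rw [hall d (Finset.mem_coe.mpr (Finset.mem_range.mpr (by omega)))] at he
          exact (natCast_mem_compDims_fibre_iff f Z s hLC hfcl d).mpr he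
  · refine ⟨U₁, ∅, hU₁, hη₁, IsConstructible.empty, ?_⟩
    intro s hs
    simp only [Set.mem_empty_iff_false, iff_false]
    rintro ⟨hLC, heq⟩
    apply hΦ
    intro e he
    rw [← heq] at he
    exact exists_nat_of_mem_compDims_fibre f Z s hLC N hN e he

end Groth.Agent.Lib.Helper20.CDim
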