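import Mathlib
import Groth.Agent.Lib.Helper20.NoEmbFS5
import Groth.Agent.Lib.Helper20.GRkC2

/-!
# Depth and dimension of the stalks of a pulled back coherent module along a flat morphism
(helper20)
-/

set_option autoImplicit false
set_option linter.style.haveILetI false
set_option linter.unusedSectionVars false
set_option linter.dupNamespace false
universe u

open IsLocalRing TensorProduct CategoryTheory CategoryTheory.Limits AlgebraicGeometry
  TopologicalSpace

namespace Groth.Agent.Lib.Helper20.GRkM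

open Groth.Agent.Lib.Helper17 Groth.Agent.Lib.Helper4 Groth.Agent.Lib.Helper20.EquiSk
  Groth.Agent.Lib.Helper20.NoEmbFS

section Alg

variable (A B : Type u) [CommRing A] [CommRing B] [IsLocalRing A] [IsLocalRing B]
  [IsNoetherianRing A] [IsNoetherianRing B] [Algebra A B] [IsLocalHom (algebraMap A B)]
  [Module.Flat A B]
  (M : Type u) [AddCommGroup M] [Module A M] [Module.Finite A M]

/-- numerical data of a flat local homomorphism and a finite module. -/
theorem exists_data_alg :
    ∃ a c d : ℕ, c ≤ d ∧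
      LocCoh.depth B (B ⊗[A] M) = LocCoh.depth A M + (c : ℕ∞) ∧
      ringKrullDim A = ((a : ℕ∞) : WithBot ℕ∞) ∧
      ringKrullDim B = (((a + d : ℕ) : ℕ∞) : WithBot ℕ∞) ∧
      (CEr A B → c = d) := by
  obtain ⟨a_e, a_d, c, d, hae, had, hc, hd, hcd, hBe, hBd⟩ := exists_nat_data A B
  refine ⟨a_d, c, d, hcd, ?_, had, hBd, ?_⟩
  · rw [depth_tensor_eq (R := A) (S := B) M B, hc]
  · intro hCE
    unfold CEr at hCE
    rw [had, hBe, hBd, hae] at hCE
    have h3 : a_d + (a_e + c) = a_d + d + a_e := by exact_mod_cast hCE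
    omega

end Alg

section Sch

variable {Y Y' : Scheme.{u}} [IsLocallyNoetherian Y] [IsLocallyNoetherian Y'] (e : Y' ⟶ Y)
  [Flat e] (F : Y.Modules) [F.IsQuasicoherent] [F.IsFiniteType]

set_option maxHeartbeats 800000 in
/-- numerical data of a flat morphism and a coherent module at a point. -/
theorem exists_data (y' : Y') :
    ∃ a c d : ℕ, c ≤ d ∧
      LocCoh.depth (Y'.presheaf.stalk y')
        (((Scheme.Modules.pullback e).obj F).presheaf.stalk y') =
        LocCoh.depth (Y.presheaf.stalk (e y')) (F.presheaf.stalk (e y')) + (c : ℕ∞) ∧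
      ringKrullDim (Y.presheaf.stalk (e y')) = ((a : ℕ∞) : WithBot ℕ∞) ∧
      ringKrullDim (Y'.presheaf.stalk y') = (((a + d : ℕ) : ℕ∞) : WithBot ℕ∞) ∧
      (CEr (Y.presheaf.stalk (e y')) (Y'.presheaf.stalk y') → c = d) := by
  letI algAB : Algebra (Y.presheaf.stalk (e y')) (Y'.presheaf.stalk y') :=
    (e.stalkMap y').hom.toAlgebra
  letI modAN : Module (Y.presheaf.stalk (e y'))
      (((Scheme.Modules.pullback e).obj F).presheaf.stalk y') :=
    Module.compHom _ (e.stalkMap y').hom
  obtain ⟨hst, γ, hγ⟩ := PbStalk.exists_isBaseChange_stalk e F y'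
  haveI := hst
  haveI : Module.Flat (Y.presheaf.stalk (e y')) (Y'.presheaf.stalk y') := Flat.stalkMap e y'
  haveI : IsLocalHom (algebraMap (Y.presheaf.stalk (e y')) (Y'.presheaf.stalk y')) :=
    inferInstanceAs (IsLocalHom (e.stalkMap y').hom)
  haveI := CohStalk.finite_stalk F (e y')
  have hd : LocCoh.depth (Y'.presheaf.stalk y')
      (((Scheme.Modules.pullback e).obj F).presheaf.stalk y') =
      LocCoh.depth (Y'.presheaf.stalk y')
        ((Y'.presheaf.stalk y') ⊗[Y.presheaf.stalk (e y')] (F.presheaf.stalk (e y'))) := by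
    unfold LocCoh.depth
    exact (idealDepth_congr _ hγ.equiv).symm
  rw [hd]
  exact exists_data_alg _ _ _

end Sch

end Groth.Agent.Lib.Helper20.GRkM
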