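import Mathlib
import Groth.Agent.Lib.Helper20.FAD3
import Groth.Agent.Lib.Helper20.GRkM3
import Groth.Agent.Lib.Helper17.FibreFlat
import Groth.Agent.Lib.Helper1.ConsModLocus

/-!
# The dimensions of the associated cycles of the fibres of a coherent module form a constructible
function (EGA IV 9.8.5) (helper20)
-/

set_option autoImplicit false
set_option linter.style.haveILetI false
set_option linter.unusedSectionVars false
set_option linter.dupNamespace false
universe u

open IsLocalRing TensorProduct CategoryTheory CategoryTheory.Limits AlgebraicGeometry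
  TopologicalSpace Topology

namespace Groth.Agent.Lib.Helper20.FAD

open Groth.Agent.Lib.Helper12 Groth.Agent.Lib.Helper12.CompDims Groth.Agent.Lib.Helper17
  Groth.Agent.Lib.Helper1 Groth.Agent.Lib.Helper12.SchemeDimIneq Groth.Agent.Lib.Helper20.AssDim
  Groth.Agent.Lib.Helper20.SkFib Groth.Agent.Lib.Helper20.RD

section Field

open ConsProp Groth.Agent.Lib.Helper20.NoEmbFS

/-- the property of `S5874`. -/
def PAss (Φ : Finset ℕ) : ∀ ⦃Y T : Scheme.{u}⦄, (Y ⟶ T) → Y.Modules → Prop :=
  fun Y _ _ G =>
    (fun z : Y => topologicalKrullDim ↥(closure ({z} : Set Y))) '' AssSch.Ass G =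
      (fun n : ℕ => (n : WithBot ℕ∞)) '' (Φ : Set ℕ)

set_option maxHeartbeats 1600000 in
/-- **the dimensions of the associated cycles are invariant under extension of the base
field.** -/
theorem isFieldStableMod_pAss (Φ : Finset ℕ) : IsFieldStableMod (PAss.{u} Φ) := by
  intro Y Y' T T' g g' e h _ _ _ _ _ _ hsq F F' hF iso
  obtain ⟨hq, hft⟩ := hF
  haveI : F.IsQuasicoherent := hq
  haveI : F.IsFiniteType := hft
  haveI : IsLocallyNoetherian Y := LocallyOfFiniteType.isLocallyNoetherian g
  haveI : Flat e := MorphismProperty.of_isPullback (P := @Flat) hsq.flip inferInstance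
  haveI : Surjective e :=
    MorphismProperty.of_isPullback (P := @Surjective) hsq.flip inferInstance
  haveI : LocallyOfFiniteType g' :=
    MorphismProperty.of_isPullback (P := @LocallyOfFiniteType) hsq inferInstance
  haveI : IsLocallyNoetherian Y' := LocallyOfFiniteType.isLocallyNoetherian g'
  haveI : ((Scheme.Modules.pullback e).obj F).IsQuasicoherent :=
    PbStalk.isQuasicoherent_pullback e F
  haveI : ((Scheme.Modules.pullback e).obj F).IsFiniteType := PbFinite.isFiniteType_pullback e F
  have key : (fun z : Y' => topologicalKrullDim ↥(closure ({z} : Set Y'))) '' AssSch.Ass F' =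
      (fun z : Y => topologicalKrullDim ↥(closure ({z} : Set Y))) '' AssSch.Ass F := by
    rw [ass_eq_of_iso iso]
    ext d
    constructor
    · rintro ⟨z', hz', rfl⟩
      rw [mem_ass_iff] at hz'
      obtain ⟨a, c, d, hcd, hdep, hdimA, hdimB, hCE⟩ := GRkM.exists_data e F z'
      rw [hz'] at hdep
      have hdep' := hdep.symm
      rw [add_eq_zero] at hdep'
      obtain ⟨hdep0, hc0⟩ := hdep'
      have hc : c = 0 := by exact_mod_cast hc0
      have hd : d = 0 := by
        rw [← hCE (cer_general g g' e h hsq z').2]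
        exact hc
      subst hd
      have hdimeq : ringKrullDim (Y'.presheaf.stalk z') =
          ringKrullDim (Y.presheaf.stalk (e z')) := by
        rw [hdimA, hdimB]
        rfl
      refine ⟨e z', (mem_ass_iff F (e z')).mpr hdep0, ?_⟩
      exact (dimcl_eq g g' e h hsq z' (eq_of_specializes_of_dim_eq e z' hdimeq)).symm
    · rintro ⟨z, hz, rfl⟩
      rw [mem_ass_iff] at hz
      obtain ⟨z'₀, rfl⟩ := e.surjective z
      obtain ⟨z', hz'e, hdimeq⟩ := exists_dim_eq e z'₀
      obtain ⟨a, c, d, hcd, hdep, hdimA, hdimB, hCE⟩ := GRkM.exists_data e F z'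
      have hd : d = 0 := by
        rw [hdimA, hdimB] at hdimeq
        have : a + d = a := by exact_mod_cast hdimeq
        omega
      have hc : c = 0 := by omega
      subst hc
      rw [hz'e, hz] at hdep
      refine ⟨z', (mem_ass_iff _ z').mpr (by rw [hdep]; simp), ?_⟩
      rw [← hz'e]
      exact dimcl_eq g g' e h hsq z' (eq_of_specializes_of_dim_eq e z' hdimeq)
  show _ = _ ↔ _ = _
  rw [key]

end Field

section Gen

variable {X S : Scheme.{u}} (u : X ⟶ S) (F : X.Modules) [LocallyOfFiniteType u]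
  [F.IsQuasicoherent] [F.IsFiniteType]

set_option maxHeartbeats 800000 in
/-- the description of the locus of `PAss Φ`. -/
theorem pAss_fibre_iff (Φ : Finset ℕ) (s : S) :
    PAss Φ (u.fiberToSpecResidueField s) ((Scheme.Modules.pullback (u.fiberι s)).obj F) ↔
      (∀ n : Φ, s ∈ u '' CSet u F n) ∧ s ∉ u '' (GSet u F Φ)ᶜ := by
  unfold PAss
  constructor
  · intro h
    refine ⟨fun n => ?_, ?_⟩
    · have h1 : ((n.1 : ℕ) : WithBot ℕ∞) ∈ (fun n : ℕ => (n : WithBot ℕ∞)) '' (Φ : Set ℕ) :=
        ⟨n.1, n.2, rfl⟩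
      rw [← h] at h1
      obtain ⟨z, hz, hdim0⟩ := h1
      have hdim : topologicalKrullDim ↥(closure ({z} : Set ↥(u.fiber s))) =
          ((n.1 : ℕ) : WithBot ℕ∞) := hdim0
      rw [dim_closure_eq_trn u s z] at hdim
      have htr : trn u ((u.fiberι s).base z) = (n.1 : ℕ∞) := by exact_mod_cast hdim
      exact ⟨(u.fiberι s).base z, ⟨_, rfl, specializes_rfl,
        (mem_ass_fibre_iff u F s z).mp hz, htr⟩, apply_fiberι' u s z⟩
    · rintro ⟨x, hx, rfl⟩
      apply hx
      intro z hzx hsp hdep
      set z' := (u.fiberHomeo (u x)).symm ⟨z, hzx⟩ with hz'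
      have hιz0 : u.fiberι (u x) z' = z := u.fiberι_fiberHomeo_symm (u x) ⟨z, hzx⟩
      have hιz : (u.fiberι (u x)).base z' = z := hιz0
      have hass : z' ∈ AssSch.Ass ((Scheme.Modules.pullback (u.fiberι (u x))).obj F) := by
        rw [mem_ass_fibre_iff u F (u x) z', hιz]
        exact hdep
      have h1 : topologicalKrullDim ↥(closure ({z'} : Set ↥(u.fiber (u x)))) ∈
          (fun n : ℕ => (n : WithBot ℕ∞)) '' (Φ : Set ℕ) := by
        rw [← h]
        exact ⟨z', hass, rfl⟩
      obtain ⟨n, hn, hdim⟩ := h1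
      rw [dim_closure_eq_trn u (u x) z', hιz] at hdim
      have hdim' : ((n : ℕ) : WithBot ℕ∞) = ((trn u z : ℕ∞) : WithBot ℕ∞) := hdim
      exact ⟨n, hn, by exact_mod_cast hdim'.symm⟩
  · rintro ⟨h1, h2⟩
    ext e
    constructor
    · rintro ⟨z, hz, rfl⟩
      have hG : (u.fiberι s).base z ∈ GSet u F Φ := by
        by_contra hcon
        exact h2 ⟨_, hcon, apply_fiberι' u s z⟩
      obtain ⟨n, hn, htr⟩ := hG _ rfl specializes_rfl ((mem_ass_fibre_iff u F s z).mp hz)
      refine ⟨n, hn, ?_⟩
      show ((n : ℕ) : WithBot ℕ∞) = topologicalKrullDim ↥(closure ({z} : Set ↥(u.fiber s)))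
      rw [dim_closure_eq_trn u s z, htr]
      rfl
    · rintro ⟨n, hn, rfl⟩
      obtain ⟨x, ⟨z, hzx, hsp, hdep, htr⟩, rfl⟩ := h1 ⟨n, hn⟩
      set z' := (u.fiberHomeo (u x)).symm ⟨z, hzx⟩ with hz'
      have hιz0 : u.fiberι (u x) z' = z := u.fiberι_fiberHomeo_symm (u x) ⟨z, hzx⟩
      have hιz : (u.fiberι (u x)).base z' = z := hιz0
      have hass : z' ∈ AssSch.Ass ((Scheme.Modules.pullback (u.fiberι (u x))).obj F) := by
        rw [mem_ass_fibre_iff u F (u x) z', hιz]
        exact hdep
      refine ⟨z', hass, ?_⟩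
      show topologicalKrullDim ↥(closure ({z'} : Set ↥(u.fiber (u x)))) = _
      rw [dim_closure_eq_trn u (u x) z', hιz, htr]
      rfl

end Gen

section Main

open ConsProp

set_option maxHeartbeats 800000 in
/-- the flat case. -/
theorem isLocallyConstructible_locusMod_pAss_of_flat {X S : Scheme.{u}} [IsNoetherian S]
    (u : X ⟶ S) [LocallyOfFiniteType u] [QuasiCompact u] (F : X.Modules) (hF : Coh.IsCoh F)
    (hflat : FlatMod.IsFlatOver u F) (Φ : Finset ℕ) :
    IsLocallyConstructible (locusMod (PAss Φ) u F) := by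
  obtain ⟨hq, hft⟩ := hF
  haveI : F.IsQuasicoherent := hq
  haveI : F.IsFiniteType := hft
  haveI : IsLocallyNoetherian X := LocallyOfFiniteType.isLocallyNoetherian u
  haveI : CompactSpace X := QuasiCompact.compactSpace_of_compactSpace u
  haveI : IsNoetherian X := ⟨⟩
  haveI : SheafOfModules.IsFinitePresentation (R := X.ringCatSheaf) F :=
    Groth.Agent.Lib.Helper1.ModDescNoeth.isFinitePresentation_of_noeth F
  haveI : LocallyOfFinitePresentation u :=
    SecCompBC.locallyOfFinitePresentation_of_isLocallyNoetherian u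
  have hcl : ∀ A : Set X, IsClosed A → IsConstructible A := by
    intro A hA
    have h1 : IsConstructible Aᶜ :=
      (NoetherianSpace.isCompact Aᶜ).isConstructible hA.isOpen_compl
    simpa using h1.compl
  have hset : locusMod (PAss Φ) u F =
      (⋂ n : Φ, u '' CSet u F n) ∩ (u '' (GSet u F Φ)ᶜ)ᶜ := by
    ext s
    simp only [locusMod, Set.mem_ofPred_eq, Set.mem_inter_iff, Set.mem_iInter,
      Set.mem_compl_iff]
    exact pAss_fibre_iff u F Φ s
  rw [hset]
  refine IsLocallyConstructible.inter (IsLocallyConstructible.iInter fun n => ?_) ?_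
  · exact u.isLocallyConstructible_image
      (hcl _ (isClosed_cSet u F hflat n)).isLocallyConstructible
  · apply ConstrNhds.isLocallyConstructible_compl
    apply u.isLocallyConstructible_image
    exact (hcl _ (isOpen_gSet u F hflat Φ).isClosed_compl).isLocallyConstructible

set_option maxHeartbeats 800000 in
/-- **EGA IV 9.8.5 (associated cycles)**: the set of dimensions of the associated cycles is a
constructible property of fibre modules. -/
theorem isConsMod_pAss (Φ : Finset ℕ) : IsConsMod (PAss.{u} Φ) := by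
  refine ⟨isFieldStableMod_pAss Φ, ?_⟩
  intro X S u _ _ _ _ F hF
  haveI : F.IsQuasicoherent := hF.1
  haveI : F.IsFiniteType := hF.2
  obtain ⟨U, hUne, hUfl⟩ := Groth.Agent.Lib.Helper28.GenFlatMod.generic_flat_module u F
  obtain ⟨s₀, hs₀⟩ := hUne
  haveI : Nonempty (U : Scheme.{u}) := ⟨⟨s₀, hs₀⟩⟩
  haveI : IsIntegral (U : Scheme.{u}) := isIntegral_of_isOpenImmersion U.ι
  haveI : IsLocallyNoetherian (U : Scheme.{u}) := LocallyOfFiniteType.isLocallyNoetherian U.ι
  haveI : CompactSpace (U : Scheme.{u}) :=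
    isCompact_iff_compactSpace.mp (NoetherianSpace.isCompact (U : Set S))
  haveI : IsNoetherian (U : Scheme.{u}) := ⟨⟩
  have hsq := IsPullback.of_hasPullback u U.ι
  have hF' : Coh.IsCoh ((Scheme.Modules.pullback (pullback.fst u U.ι)).obj F) :=
    ConsModLocus.isCoh_pullback _ F hF
  have hloc := ConsModLocus.locusMod_preimage (isFieldStableMod_pAss Φ) hsq F hF _ (Iso.refl _)
  have hflat : FlatMod.IsFlatOver (pullback.snd u U.ι)
      ((Scheme.Modules.pullback (pullback.fst u U.ι)).obj F) := by
    intro x'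
    apply FibreFlat.isFlatOverAt_baseChange hsq F x'
    apply hUfl
    have h1 : u ((pullback.fst u U.ι) x') = U.ι ((pullback.snd u U.ι) x') := by
      rw [← Scheme.Hom.comp_apply, ← Scheme.Hom.comp_apply, pullback.condition]
    show u ((pullback.fst u U.ι) x') ∈ U
    rw [h1]
    exact ((pullback.snd u U.ι) x').2
  have hLC := isLocallyConstructible_locusMod_pAss_of_flat (pullback.snd u U.ι) _ hF' hflat Φ
  have htrans : ∀ A : Set S, (interior (U.ι ⁻¹' A)).Nonempty → (interior A).Nonempty := by
    rintro A ⟨t, ht⟩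
    refine ⟨U.ι t, ?_⟩
    have ho : IsOpen (U.ι '' interior (U.ι ⁻¹' A)) :=
      U.ι.isOpenEmbedding.isOpenMap _ isOpen_interior
    refine interior_maximal ?_ ho ⟨t, ht, rfl⟩
    rintro _ ⟨t', ht', rfl⟩
    have h3 : t' ∈ U.ι ⁻¹' A := interior_subset ht'
    exact h3
  rcases ConsPropBasic.interior_nonempty_or _ hLC with h | h
  · left
    rw [hloc] at h
    exact htrans _ h
  · right
    rw [hloc] at h
    exact htrans _ h

end Main

end Groth.Agent.Lib.Helper20.FAD
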