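import Mathlib
import Groth.Prelude.Def_EGA4Misc
import Groth.Agent.Lib.Helper12.ConsPropGen
import Groth.Agent.Lib.Helper12.ConsPropNoeth
import Groth.Agent.Lib.Helper12.FpDesc
import Groth.Agent.Lib.Helper12.PbDiag
import Groth.Agent.Lib.Helper27.LimConstr
import Groth.Agent.Lib.Helper1.ModDescNoeth
import Groth.Agent.Lib.Helper1.ConsModLocus

/-!
# Local constructibility of loci defined by a finitely presented module together with the
complement of a retrocompact open subset (EGA IV 9.3.3, module + subset form) (helper20)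
-/

set_option autoImplicit false
universe u
open CategoryTheory CategoryTheory.Limits AlgebraicGeometry Topology TopologicalSpace

namespace Groth.Agent.Lib.Helper20.MSet

open Groth.Agent.Lib.Helper12.ClosedSub Groth.Agent.Lib.Helper12.ConsPropNoeth
  Groth.Agent.Lib.Helper12.ConsPropGen Groth.Agent.Lib.Helper12.FpDesc
  Groth.Agent.Lib.Helper12.PbDiag ConsProp Groth.Agent.Lib.Helper17
  Groth.Agent.Lib.Helper1.ConsModLocus Groth.Agent.Lib.Helper1

set_option backward.isDefEq.respectTransparency false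
set_option linter.style.haveILetI false

/-- Compatibility with base change of a relation between a family, a module on it, a subset and a
point of the base. -/
def BCStable (R : ∀ ⦃X S : Scheme.{u}⦄ (_ : X ⟶ S), X.Modules → Set X → S → Prop) : Prop :=
  ∀ ⦃X X' S S' : Scheme.{u}⦄ ⦃f : X ⟶ S⦄ ⦃f' : X' ⟶ S'⦄ ⦃eX : X' ⟶ X⦄ ⦃h : S' ⟶ S⦄,
    IsPullback eX f' f h → LocallyOfFiniteType f → ∀ (F : X.Modules) (F' : X'.Modules),
      Coh.IsCoh F → (F' ≅ (Scheme.Modules.pullback eX).obj F) → ∀ (Z : Set X), IsClosed Z →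
      ∀ s' : S', (R f' F' (eX ⁻¹' Z) s' ↔ R f F Z (h s'))

/-- Generic constructibility over integral Noetherian bases, for closed subsets. -/
def GenCons (R : ∀ ⦃X S : Scheme.{u}⦄ (_ : X ⟶ S), X.Modules → Set X → S → Prop) : Prop :=
  ∀ ⦃X S : Scheme.{u}⦄ (f : X ⟶ S) [IsIntegral S] [IsNoetherian S]
    [LocallyOfFiniteType f] [QuasiCompact f] (F : X.Modules), Coh.IsCoh F →
    ∀ Z : Set X, IsClosed Z →
      (interior {s : S | R f F Z s}).Nonempty ∨ (interior {s : S | R f F Z s}ᶜ).Nonempty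

variable {R : ∀ ⦃X S : Scheme.{u}⦄ (_ : X ⟶ S), X.Modules → Set X → S → Prop}

/-- Noetherian case. -/
theorem isConstructible_of_noetherian (hbc : BCStable R) (hgen : GenCons R)
    {X S : Scheme.{u}} (f : X ⟶ S) [IsNoetherian S] [LocallyOfFiniteType f] [QuasiCompact f]
    (F : X.Modules) (hF : Coh.IsCoh F) (Z : Set X) (hZ : IsClosed Z) :
    IsConstructible {s : S | R f F Z s} := by
  refine isConstructible_of_forall_clSub _ fun ξ => ?_
  have sq : IsPullback (pullback.fst f (clSubι S ξ)) (pullback.snd f (clSubι S ξ)) f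
      (clSubι S ξ) := IsPullback.of_hasPullback _ _
  have hpre : (clSubι S ξ) ⁻¹' {s : S | R f F Z s} =
      {t | R (pullback.snd f (clSubι S ξ))
        ((Scheme.Modules.pullback (pullback.fst f (clSubι S ξ))).obj F)
        ((pullback.fst f (clSubι S ξ)) ⁻¹' Z) t} := by
    ext t
    exact (hbc sq inferInstance F _ hF (Iso.refl _) Z hZ t).symm
  rw [hpre]
  exact hgen _ _ (isCoh_pullback _ F hF) _ (hZ.preimage (pullback.fst f (clSubι S ξ)).continuous)

set_option maxHeartbeats 800000 in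
/-- General case. -/
theorem isLocallyConstructible_of_rel (hbc : BCStable R) (hgen : GenCons R)
    {X S : Scheme.{u}} (f : X ⟶ S) [LocallyOfFinitePresentation f] [QuasiCompact f]
    [QuasiSeparated f] (F : X.Modules) [F.IsQuasicoherent] (hF : CohB1.IsFP F)
    (W : X.Opens) (hW : ∀ V : S.Opens, IsAffineOpen V → IsCompact ((W : Set X) ∩ f ⁻¹' V)) :
    IsLocallyConstructible {s : S | R f F (W : Set X)ᶜ s} := by
  refine isLocallyConstructible_of_affine_charts _ fun V hV => ?_
  obtain ⟨J, _, _, 𝔇, π, hπ, haff, hnoeth⟩ := exists_noetherian_limit V hV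
  haveI : ∀ {i j : J} (a : i ⟶ j), IsAffineHom (𝔇.map a) := fun a => inferInstance
  haveI : ∀ (i j : J) (a : i ⟶ j), IsAffineHom (𝔇.map a) := fun _ _ a => inferInstance
  haveI : SheafOfModules.IsFinitePresentation (R := X.ringCatSheaf) F := hF
  have hFcoh : Coh.IsCoh F := ⟨inferInstance, inferInstance⟩
  have sqV : IsPullback (pullback.fst f V.ι) (pullback.snd f V.ι) f V.ι :=
    IsPullback.of_hasPullback _ _
  haveI : IsAffine (V : Scheme.{u}) := hV
  let FV : (pullback f V.ι).Modules := (Scheme.Modules.pullback (pullback.fst f V.ι)).obj F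
  haveI : SheafOfModules.IsFinitePresentation (R := (pullback f V.ι).ringCatSheaf) FV :=
    PbFinite.isFinitePresentation_pullback _ F
  -- the open subset over `V`
  have hWVo : IsOpen ((pullback.fst f V.ι) ⁻¹' (W : Set X)) :=
    W.2.preimage (pullback.fst f V.ι).continuous
  have hWVc : IsCompact ((pullback.fst f V.ι) ⁻¹' (W : Set X)) := by
    have hemb := (pullback.fst f V.ι).isOpenEmbedding
    have hrange : Set.range (pullback.fst f V.ι) = f ⁻¹' (V : Set S) := by
      rw [IsOpenImmersion.range_pullbackFst]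
      simp
    have h1 : (pullback.fst f V.ι) '' ((pullback.fst f V.ι) ⁻¹' (W : Set X)) =
        (W : Set X) ∩ f ⁻¹' V := by
      rw [Set.image_preimage_eq_inter_range, hrange]
    rw [hemb.isEmbedding.isCompact_iff, h1]
    exact hW V hV
  obtain ⟨i₁, X₁, x₁, q₁, _, _, _, sq₁⟩ := descends_of_fp (D := 𝔇) (c := Cone.mk _ π) hπ
    (pullback.snd f V.ι)
  let DX := pbDiagram 𝔇 i₁ x₁
  let cX := pbCone (Cone.mk _ π) q₁ (pullback.snd f V.ι) sq₁
  have hcX : IsLimit cX := isLimitPbCone (Cone.mk _ π) hπ q₁ (pullback.snd f V.ι) sq₁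
  haveI hDX : ∀ (i j : Over i₁) (a : i ⟶ j), IsAffineHom (DX.map a) := fun _ _ a => inferInstance
  haveI := haff i₁
  haveI := hnoeth i₁
  haveI hcp : ∀ l : Over i₁, CompactSpace (DX.obj l) := fun l =>
    compactSpace_pbDiagram_obj 𝔇 i₁ x₁ l
  haveI hqs : ∀ l : Over i₁, QuasiSeparatedSpace (DX.obj l) := fun l =>
    quasiSeparatedSpace_pbDiagram_obj 𝔇 i₁ x₁ l
  haveI hln : ∀ l : Over i₁, IsLocallyNoetherian (DX.obj l) := fun l => by
    haveI := hnoeth l.left
    exact LocallyOfFiniteType.isLocallyNoetherian (pullback.snd x₁ (𝔇.map l.hom))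
  obtain ⟨k, b, Vk, hVko, hVkc, hVk⟩ :=
    Groth.Agent.Lib.Helper27.LimConstr.exists_compact_open_preimage_eq DX cX hcX
      (Over.mk (𝟙 i₁)) _ hWVo hWVc
  obtain ⟨j, φ, Fj, hFjq, hFjfp, ⟨e⟩⟩ := ModDescNoeth.exists_descent DX cX hcX k FV
  haveI := hFjq
  haveI := hFjfp
  have hFjcoh : Coh.IsCoh Fj := ⟨inferInstance, inferInstance⟩
  have sqj : IsPullback (cX.π.app j) (pullback.snd f V.ι) (pullback.snd x₁ (𝔇.map j.hom))
      (π.app j.left) := isPullback_pbCone_π (Cone.mk _ π) q₁ (pullback.snd f V.ι) sq₁ j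
  have e1 : (cX.π.app j) ⁻¹' ((DX.map φ) ⁻¹' Vk)ᶜ = (pullback.fst f V.ι) ⁻¹' (W : Set X)ᶜ := by
    rw [Set.preimage_compl, Set.preimage_compl, ← hVk, ← cX.w φ]
    rfl
  haveI := hnoeth j.left
  refine ⟨𝔇.obj j.left, π.app j.left,
    {n | R (pullback.snd x₁ (𝔇.map j.hom)) Fj ((DX.map φ) ⁻¹' Vk)ᶜ n},
    isConstructible_of_noetherian hbc hgen _ Fj hFjcoh _
      (hVko.preimage (DX.map φ).continuous).isClosed_compl, ?_⟩
  ext v
  show R f F (W : Set X)ᶜ (V.ι v) ↔ R (pullback.snd x₁ (𝔇.map j.hom)) Fj _ (π.app j.left v)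
  have h1 := hbc sqV inferInstance F FV hFcoh (Iso.refl _) (W : Set X)ᶜ W.2.isClosed_compl v
  have h2 := hbc sqj inferInstance Fj FV hFjcoh e.symm ((DX.map φ) ⁻¹' Vk)ᶜ
    (hVko.preimage (DX.map φ).continuous).isClosed_compl v
  rw [e1] at h2
  exact h1.symm.trans h2

end Groth.Agent.Lib.Helper20.MSet
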