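import Mathlib
import Groth.Agent.Lib.Helper20.MSet1
import Groth.Agent.Lib.Helper20.FAD4
import Groth.Agent.Lib.Helper20.CDim3
import Groth.Agent.Lib.Helper1.AssBC7

/-!
# The locus of the points of the base over which the relative associated points avoid a closed
subset (helper20)
-/

set_option autoImplicit false
set_option linter.style.haveILetI false
set_option linter.unusedSectionVars false
set_option linter.dupNamespace false
universe u

open IsLocalRing TensorProduct CategoryTheory CategoryTheory.Limits AlgebraicGeometry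
  TopologicalSpace Topology

namespace Groth.Agent.Lib.Helper20.MSet

open Groth.Agent.Lib.Helper12 Groth.Agent.Lib.Helper17
  Groth.Agent.Lib.Helper1 Groth.Agent.Lib.Helper12.SchemeDimIneq Groth.Agent.Lib.Helper20.AssDim
  Groth.Agent.Lib.Helper20.SkFib Groth.Agent.Lib.Helper20.RD

/-- the relation: the relative associated points over `s` avoid `Z`. -/
def RAss : ∀ ⦃X S : Scheme.{u}⦄ (_ : X ⟶ S), X.Modules → Set X → S → Prop :=
  fun _ _ f F Z s => ∀ x ∈ MoreMor.relAss f F, f x = s → x ∉ Z

theorem relAss_eq_of_iso {X S : Scheme.{u}} (f : X ⟶ S) {F F' : X.Modules} (e : F ≅ F') :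
    MoreMor.relAss f F = MoreMor.relAss f F' := by
  ext x
  let ex := GenFin.stalkEquivOfIso e x
  have hmap : (Ideal.map (f.stalkMap x).hom (maximalIdeal (S.presheaf.stalk (f x))) •
      (⊤ : Submodule (X.presheaf.stalk x) (F.presheaf.stalk x))).map
        (ex : F.presheaf.stalk x →ₗ[X.presheaf.stalk x] F'.presheaf.stalk x) =
      Ideal.map (f.stalkMap x).hom (maximalIdeal (S.presheaf.stalk (f x))) •
        (⊤ : Submodule (X.presheaf.stalk x) (F'.presheaf.stalk x)) := by
    rw [Submodule.map_smul'', Submodule.map_top, LinearEquiv.range]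
  exact (Submodule.Quotient.equiv _ _ ex hmap).isAssociatedPrime_iff

theorem bcStable_rAss : BCStable RAss.{u} := by
  intro X X' S S' f f' eX h hX hf F F' hF iso Z hZ s'
  haveI : LocallyOfFiniteType f := hf
  haveI : F.IsQuasicoherent := hF.1
  have hmain := AssBC.main9780 f F ⟨Zᶜ, hZ.isOpen_compl⟩ h f' eX hX s'
  unfold RAss
  rw [relAss_eq_of_iso f' iso]
  constructor
  · intro h1 x hx hxs hxZ
    have h2 : {x' : ↑X' | x' ∈ MoreMor.relAss f' ((Scheme.Modules.pullback eX).obj F) ∧
        f' x' = s'} ⊆ ((eX ⁻¹ᵁ ⟨Zᶜ, hZ.isOpen_compl⟩ : X'.Opens) : Set ↑X') := by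
      rintro x' ⟨hx', hx's⟩
      exact h1 x' hx' hx's
    exact (hmain.mpr h2 ⟨hx, hxs⟩) hxZ
  · intro h1 x' hx' hx's hx'Z
    have h2 : {x : ↑X | x ∈ MoreMor.relAss f F ∧ f x = h s'} ⊆
        ((⟨Zᶜ, hZ.isOpen_compl⟩ : X.Opens) : Set ↑X) := by
      rintro x ⟨hx, hxs⟩
      exact h1 x hx hxs
    exact (hmain.mp h2 ⟨hx', hx's⟩) hx'Z

section Gen

variable {X S : Scheme.{u}} (u : X ⟶ S) (F : X.Modules) [LocallyOfFiniteType u]
  [F.IsQuasicoherent] [F.IsFiniteType]

theorem mem_relAss_iff_xdepth (x : X) : x ∈ MoreMor.relAss u F ↔ xdepth u F x = 0 := by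
  rw [AssBC.mem_relAss_iff]
  have h := mem_ass_fibre_iff u F (u x) (u.asFiber x)
  have h2 : (u.fiberι (u x)).base (u.asFiber x) = x := u.fiberι_asFiber x
  rw [h2] at h
  exact h

/-- the points having a generization in `Z`, in the same fibre, which is a relative associated
point of transcendence degree `n`. -/
def DSet (Z : Set X) (n : ℕ) : Set X :=
  {x | ∃ z ∈ Z, u z = u x ∧ z ⤳ x ∧ xdepth u F z = 0 ∧ trn u z = (n : ℕ∞)}

theorem isClosed_dSet [LocallyOfFinitePresentation u]
    [SheafOfModules.IsFinitePresentation (R := X.ringCatSheaf) F]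
    (hflat : FlatMod.IsFlatOver u F) (Z : Set X) (hZ : IsClosed Z) (n : ℕ) :
    IsClosed (DSet u F Z n) := by
  have hO := isOpen_QXrd u F hflat (n + 1)
  convert isClosed_setOf_exists_generization u _ (hO.isClosed_compl.inter hZ) n using 1
  ext x
  simp only [DSet, Set.mem_ofPred_eq, Set.mem_compl_iff, Set.mem_inter_iff]
  constructor
  · rintro ⟨z, hzZ, hfz, hzx, hd, ht⟩
    have hzY : ¬ QXrd u F (n + 1) z := by
      unfold QXrd
      rw [hd, ht, zero_add]
      intro h
      have : n + 1 ≤ n := by exact_mod_cast h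
      omega
    exact ⟨⟨fun hx => hzY (hzx.mem_open hO hx), hzx.mem_closed hZ hzZ⟩, z, ⟨hzY, hzZ⟩, hfz, hzx,
      ht.ge⟩
  · rintro ⟨-, z, ⟨hzY, hzZ⟩, hfz, hzx, hn⟩
    refine ⟨z, hzZ, hfz, hzx, ?_⟩
    unfold QXrd at hzY
    obtain ⟨t, ht⟩ := exists_trn_eq u z
    rw [ht] at hzY hn ⊢
    rw [not_le] at hzY
    have hnt : n ≤ t := by exact_mod_cast hn
    by_cases htop : xdepth u F z = ⊤
    · rw [htop] at hzY
      exact absurd hzY (by simp)
    · obtain ⟨d, h⟩ := ENat.ne_top_iff_exists.mp htop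
      rw [← h] at hzY ⊢
      have h2 : d + t < n + 1 := by exact_mod_cast hzY
      have hd : d = 0 := by omega
      have htn : t = n := by omega
      subst hd htn
      exact ⟨rfl, rfl⟩

end Gen

section Main

open ConsProp

set_option maxHeartbeats 800000 in
/-- the flat case. -/
theorem isLocallyConstructible_rAss_of_flat {X S : Scheme.{u}} [IsNoetherian S]
    (u : X ⟶ S) [LocallyOfFiniteType u] [QuasiCompact u] (F : X.Modules) (hF : Coh.IsCoh F)
    (hflat : FlatMod.IsFlatOver u F) (Z : Set X) (hZ : IsClosed Z) :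
    IsLocallyConstructible {s : S | RAss u F Z s} := by
  obtain ⟨hq, hft⟩ := hF
  haveI : F.IsQuasicoherent := hq
  haveI : F.IsFiniteType := hft
  haveI : IsLocallyNoetherian X := LocallyOfFiniteType.isLocallyNoetherian u
  haveI : CompactSpace X := QuasiCompact.compactSpace_of_compactSpace u
  haveI : IsNoetherian X := ⟨⟩
  haveI : SheafOfModules.IsFinitePresentation (R := X.ringCatSheaf) F :=
    Groth.Agent.Lib.Helper1.ModDescNoeth.isFinitePresentation_of_noeth F
  haveI : LocallyOfFinitePresentation u :=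
    SecCompBC.locallyOfFinitePresentation_of_isLocallyNoetherian u
  have hcl : ∀ A : Set X, IsClosed A → IsConstructible A := by
    intro A hA
    have h1 : IsConstructible Aᶜ :=
      (NoetherianSpace.isCompact Aᶜ).isConstructible hA.isOpen_compl
    simpa using h1.compl
  obtain ⟨N, hN⟩ := CDim.exists_fibreDimAt_bound u
  have hset : {s : S | RAss u F Z s} =
      (⋃ n ∈ Finset.range (N + 1), u '' DSet u F Z n)ᶜ := by
    ext s
    simp only [Set.mem_ofPred_eq, Set.mem_compl_iff, Set.mem_iUnion, not_exists]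
    constructor
    · rintro h n _ ⟨x, ⟨z, hzZ, hzx, -, hd, -⟩, rfl⟩
      exact h z ((mem_relAss_iff_xdepth u F z).mpr hd) hzx hzZ
    · intro h x hx hxs hxZ
      obtain ⟨t, ht⟩ := exists_trn_eq u x
      have h1 := (FibreMax.trn_le_fibreDimAt_of_specializes u x x rfl specializes_rfl).trans (hN x)
      rw [ht] at h1
      have htN : t ≤ N := by exact_mod_cast h1
      refine h t (Finset.mem_coe.mpr (Finset.mem_range.mpr (by omega))) ⟨x, ?_, hxs⟩
      exact ⟨x, hxZ, rfl, specializes_rfl, (mem_relAss_iff_xdepth u F x).mp hx, ht⟩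
  rw [hset]
  apply ConstrNhds.isLocallyConstructible_compl
  refine IsConstructible.isLocallyConstructible ?_
  refine IsConstructible.biUnion (Finset.range (N + 1)).finite_toSet ?_
  intro n _
  exact u.isConstructible_image (hcl _ (isClosed_dSet u F hflat Z hZ n))

set_option maxHeartbeats 800000 in
/-- generic constructibility. -/
theorem genCons_rAss : GenCons RAss.{u} := by
  intro X S u _ _ _ _ F hF Z hZ
  haveI : F.IsQuasicoherent := hF.1
  haveI : F.IsFiniteType := hF.2
  obtain ⟨U, hUne, hUfl⟩ := Groth.Agent.Lib.Helper28.GenFlatMod.generic_flat_module u F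
  obtain ⟨s₀, hs₀⟩ := hUne
  haveI : Nonempty (U : Scheme.{u}) := ⟨⟨s₀, hs₀⟩⟩
  haveI : IsIntegral (U : Scheme.{u}) := isIntegral_of_isOpenImmersion U.ι
  haveI : IsLocallyNoetherian (U : Scheme.{u}) := LocallyOfFiniteType.isLocallyNoetherian U.ι
  haveI : CompactSpace (U : Scheme.{u}) :=
    isCompact_iff_compactSpace.mp (NoetherianSpace.isCompact (U : Set S))
  haveI : IsNoetherian (U : Scheme.{u}) := ⟨⟩
  have hsq := IsPullback.of_hasPullback u U.ι
  have hF' : Coh.IsCoh ((Scheme.Modules.pullback (pullback.fst u U.ι)).obj F) :=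
    ConsModLocus.isCoh_pullback _ F hF
  have hloc : {t : (U : Scheme.{u}) | RAss (pullback.snd u U.ι)
      ((Scheme.Modules.pullback (pullback.fst u U.ι)).obj F)
      ((pullback.fst u U.ι) ⁻¹' Z) t} = U.ι ⁻¹' {s : S | RAss u F Z s} := by
    ext t
    exact bcStable_rAss hsq inferInstance F _ hF (Iso.refl _) Z hZ t
  have hflat : FlatMod.IsFlatOver (pullback.snd u U.ι)
      ((Scheme.Modules.pullback (pullback.fst u U.ι)).obj F) := by
    intro x'
    apply FibreFlat.isFlatOverAt_baseChange hsq F x'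
    apply hUfl
    have h1 : u ((pullback.fst u U.ι) x') = U.ι ((pullback.snd u U.ι) x') := by
      rw [← Scheme.Hom.comp_apply, ← Scheme.Hom.comp_apply, pullback.condition]
    show u ((pullback.fst u U.ι) x') ∈ U
    rw [h1]
    exact ((pullback.snd u U.ι) x').2
  have hLC := isLocallyConstructible_rAss_of_flat (pullback.snd u U.ι) _ hF' hflat
    ((pullback.fst u U.ι) ⁻¹' Z) (hZ.preimage (pullback.fst u U.ι).continuous)
  have htrans : ∀ A : Set S, (interior (U.ι ⁻¹' A)).Nonempty → (interior A).Nonempty := by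
    rintro A ⟨t, ht⟩
    refine ⟨U.ι t, ?_⟩
    have ho : IsOpen (U.ι '' interior (U.ι ⁻¹' A)) :=
      U.ι.isOpenEmbedding.isOpenMap _ isOpen_interior
    refine interior_maximal ?_ ho ⟨t, ht, rfl⟩
    rintro _ ⟨t', ht', rfl⟩
    have h3 : t' ∈ U.ι ⁻¹' A := interior_subset ht'
    exact h3
  rcases ConsPropBasic.interior_nonempty_or _ hLC with h | h
  · left
    rw [hloc] at h
    exact htrans _ h
  · right
    rw [hloc] at h
    exact htrans _ h

end Main

end Groth.Agent.Lib.Helper20.MSet
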