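import Mathlib
import Groth.Prelude.Def_GmAct

/-!
# Helper20: `G_m × T` is scheme-theoretically dense in `A^1 × T` (for helper14, S19039)
-/

set_option autoImplicit false
set_option linter.style.haveILetI false
universe u
open CategoryTheory CategoryTheory.Limits MonoidalCategory CartesianMonoidalCategory MonObj GrpObj
  AlgebraicGeometry
open scoped TensorProduct Polynomial

noncomputable section

namespace Groth.Agent.Lib.Helper20.GmDense

/-! ### a covering criterion -/

lemma isSchemeTheoreticallyDominant_of_cover {X Y : Scheme.{u}} (g : X ⟶ Y) [QuasiCompact g]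
    {I : Type*} (U : I → Y.affineOpens) (hU : ⨆ i, (U i).1 = ⊤)
    (H : ∀ i, Function.Injective (g.app (U i).1)) : IsSchemeTheoreticallyDominant g := by
  rw [isSchemeTheoreticallyDominant_iff]
  refine Scheme.IdealSheafData.ext_of_iSup_eq_top U hU (fun i => ?_)
  rw [Scheme.Hom.ker_apply]
  simp only [Scheme.IdealSheafData.ideal_bot, Pi.bot_apply]
  exact (RingHom.injective_iff_ker_eq_bot _).1 (H i)

/-! ### the linear retraction of `R[x] → R[z, z⁻¹]` -/

section Retraction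

variable (R : Type u) [CommRing R]

/-- the value of the retraction on the monomial `z^n` -/
def retrVal (m : Multiplicative ℤ) : R[X] :=
  if 0 ≤ m.toAdd then Polynomial.monomial m.toAdd.toNat 1 else 0

/-- the `R`-linear retraction `R[z, z⁻¹] → R[x]`: `z^n ↦ x^n` for `n ≥ 0`, `z^n ↦ 0` for `n < 0` -/
def retr : ThetaS.Lau R →ₗ[R] R[X] :=
  (Finsupp.linearCombination R (retrVal R)) ∘ₗ (MonoidAlgebra.coeffLinearEquiv R).toLinearMap

lemma retr_zPow (n : ℕ) : retr R (ThetaS.zPow R (n : ℤ)) = Polynomial.monomial n 1 := by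
  have h1 : (MonoidAlgebra.coeffLinearEquiv R) (ThetaS.zPow R (n : ℤ)) =
      Finsupp.single (Multiplicative.ofAdd (n : ℤ)) (1 : R) := rfl
  rw [retr, LinearMap.comp_apply, LinearEquiv.coe_coe, h1, Finsupp.linearCombination_single,
    one_smul, retrVal]
  simp

lemma zPow_one_pow (n : ℕ) : (ThetaS.zPow R 1) ^ n = ThetaS.zPow R (n : ℤ) := by
  induction n with
  | zero => simp
  | succ n ih =>
    rw [pow_succ, ih, ThetaS.zPow_mul]
    push_cast
    rfl

lemma retr_linePt (p : R[X]) : retr R (ThetaS.linePt (ThetaS.zPow R 1) p) = p := by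
  induction p using Polynomial.induction_on' with
  | add p q hp hq => rw [map_add, map_add, hp, hq]
  | monomial n a =>
    rw [ThetaS.linePt, Polynomial.aeval_monomial, zPow_one_pow, ← Algebra.smul_def, map_smul,
      retr_zPow, Polynomial.smul_monomial, smul_eq_mul, _root_.mul_one]

end Retraction

/-! ### injectivity of a map of pushouts of commutative rings -/

lemma injective_of_isPushout_of_retraction {A B B' C P P' : CommRingCat.{u}}
    {a : A ⟶ B} {c : A ⟶ C} {inl : B ⟶ P} {inr : C ⟶ P} (H : IsPushout a c inl inr)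
    {a' : A ⟶ B'} {inl' : B' ⟶ P'} {inr' : C ⟶ P'} (H' : IsPushout a' c inl' inr')
    (h : B ⟶ B') (ha : a ≫ h = a') (k : P ⟶ P') (hk1 : inl ≫ k = h ≫ inl')
    (hk2 : inr ≫ k = inr')
    (ρ : B' →+ B) (hρs : ∀ (r : A) (x : B'), ρ (a' r * x) = a r * ρ x)
    (hρ : ∀ b : B, ρ (h b) = b) : Function.Injective k := by
  algebraize [a.hom, c.hom, a'.hom]
  have T : IsPushout a c
      (CommRingCat.ofHom (S := B ⊗[A] C) <| Algebra.TensorProduct.includeLeftRingHom)
      (CommRingCat.ofHom (S := B ⊗[A] C) <| Algebra.TensorProduct.includeRight.toRingHom) :=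
    CommRingCat.isPushout_tensorProduct A B C
  have T' : IsPushout a' c
      (CommRingCat.ofHom (S := B' ⊗[A] C) <| Algebra.TensorProduct.includeLeftRingHom)
      (CommRingCat.ofHom (S := B' ⊗[A] C) <| Algebra.TensorProduct.includeRight.toRingHom) :=
    CommRingCat.isPushout_tensorProduct A B' C
  let e := H.isoIsPushout _ _ T
  let e' := H'.isoIsPushout _ _ T'
  let hAlg : B →ₐ[A] B' :=
    { h.hom with
      commutes' := fun r => by
        change h.hom (a.hom r) = a'.hom r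
        rw [← ha]
        rfl }
  let ρLin : B' →ₗ[A] B :=
    { toFun := ρ
      map_add' := ρ.map_add
      map_smul' := fun r x => by
        rw [Algebra.smul_def, Algebra.smul_def]
        exact hρs r x }
  let m : CommRingCat.of (B ⊗[A] C) ⟶ CommRingCat.of (B' ⊗[A] C) :=
    CommRingCat.ofHom (Algebra.TensorProduct.map hAlg (AlgHom.id A C)).toRingHom
  have hm : k ≫ e'.hom = e.hom ≫ m := by
    apply H.hom_ext
    · rw [← Category.assoc, hk1, Category.assoc, H'.inl_isoIsPushout_hom, ← Category.assoc,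
        H.inl_isoIsPushout_hom]
      ext b
      simp [m, hAlg]
    · rw [← Category.assoc, hk2, H'.inr_isoIsPushout_hom, ← Category.assoc,
        H.inr_isoIsPushout_hom]
      ext b
      simp [m]
  have hminj : Function.Injective m := by
    have hli : Function.LeftInverse (LinearMap.rTensor C ρLin)
        (LinearMap.rTensor C hAlg.toLinearMap) := by
      intro x
      rw [← LinearMap.comp_apply, ← LinearMap.rTensor_comp]
      have : ρLin ∘ₗ hAlg.toLinearMap = LinearMap.id := by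
        ext b
        exact hρ b
      rw [this, LinearMap.rTensor_id, LinearMap.id_apply]
    exact hli.injective
  have hinj2 : Function.Injective (k ≫ e'.hom) := by
    rw [hm]
    exact hminj.comp (ConcreteCategory.bijective_of_isIso e.hom).1
  intro x y hxy
  apply hinj2
  change e'.hom (k x) = e'.hom (k y)
  rw [hxy]

/-! ### global sections of maps between spectra -/

lemma appLE_top_top {X Y : Scheme.{u}} (f : X ⟶ Y) (e : (⊤ : X.Opens) ≤ f ⁻¹ᵁ ⊤) :
    f.appLE ⊤ ⊤ e = f.appTop := by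
  simp [Scheme.Hom.appLE, Scheme.Hom.appTop]

lemma specMap_appLE_top {A B : CommRingCat.{u}} (φ : A ⟶ B)
    (e : (⊤ : (Spec B).Opens) ≤ (Spec.map φ) ⁻¹ᵁ ⊤) :
    (Spec.map φ).appLE ⊤ ⊤ e ≫ (Scheme.ΓSpecIso B).hom = (Scheme.ΓSpecIso A).hom ≫ φ := by
  rw [appLE_top_top, Scheme.ΓSpecIso_naturality]

lemma specMap_appLE_top_apply {A B : CommRingCat.{u}} (φ : A ⟶ B)
    (e : (⊤ : (Spec B).Opens) ≤ (Spec.map φ) ⁻¹ᵁ ⊤) (x : Γ(Spec A, ⊤)) :
    (Scheme.ΓSpecIso B).hom ((Spec.map φ).appLE ⊤ ⊤ e x) = φ ((Scheme.ΓSpecIso A).hom x) :=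
  ConcreteCategory.congr_hom (specMap_appLE_top φ e) x

lemma appLE_congr_hom {X Y : Scheme.{u}} {f f' : X ⟶ Y} (hff : f = f') (U : Y.Opens)
    (V : X.Opens) (e : V ≤ f ⁻¹ᵁ U) (e' : V ≤ f' ⁻¹ᵁ U) : f.appLE U V e = f'.appLE U V e' := by
  subst hff
  rfl

/-! ### the main statement -/

section Main

variable (R : Type u) [CommRing R]

/-- the inclusion `G_m → A^1`, `t ↦ t` -/
noncomputable abbrev j : ThetaS.Gm R ⟶ ThetaS.Line R :=
  CoactBr.pt (ThetaS.linePt (ThetaS.zPow R 1))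

/-- the ring map of `j` -/
abbrev φ0 : CommRingCat.of R[X] ⟶ CommRingCat.of (ThetaS.Lau R) :=
  CommRingCat.ofHom (ThetaS.linePt (ThetaS.zPow R 1)).toRingHom

abbrev a0 : CommRingCat.of R ⟶ CommRingCat.of R[X] := CommRingCat.ofHom (algebraMap R R[X])

abbrev a0' : CommRingCat.of R ⟶ CommRingCat.of (ThetaS.Lau R) :=
  CommRingCat.ofHom (algebraMap R (ThetaS.Lau R))

lemma line_hom : (ThetaS.Line R).hom = Spec.map (a0 R) := rfl

lemma gm_hom : (ThetaS.Gm R).hom = Spec.map (a0' R) := rfl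

lemma j_left : (j R).left = Spec.map (φ0 R) := rfl

/-- the additive retraction on global sections -/
def retrΓ : Γ(Spec (CommRingCat.of (ThetaS.Lau R)), ⊤) →+ Γ(Spec (CommRingCat.of R[X]), ⊤) :=
  ((Scheme.ΓSpecIso (CommRingCat.of R[X])).inv.hom.toAddMonoidHom.comp
    (retr R).toAddMonoidHom).comp
    (Scheme.ΓSpecIso (CommRingCat.of (ThetaS.Lau R))).hom.hom.toAddMonoidHom

lemma retrΓ_apply (x : Γ(Spec (CommRingCat.of (ThetaS.Lau R)), ⊤)) :
    retrΓ R x = (Scheme.ΓSpecIso (CommRingCat.of R[X])).inv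
      (retr R ((Scheme.ΓSpecIso (CommRingCat.of (ThetaS.Lau R))).hom x)) := rfl

lemma retrΓ_h (e) (b : Γ(Spec (CommRingCat.of R[X]), ⊤)) :
    retrΓ R ((Spec.map (φ0 R)).appLE ⊤ ⊤ e b) = b := by
  rw [retrΓ_apply, specMap_appLE_top_apply]
  change (Scheme.ΓSpecIso (CommRingCat.of R[X])).inv
    (retr R (ThetaS.linePt (ThetaS.zPow R 1)
      ((Scheme.ΓSpecIso (CommRingCat.of R[X])).hom b))) = b
  rw [retr_linePt]
  exact ConcreteCategory.congr_hom (Scheme.ΓSpecIso (CommRingCat.of R[X])).hom_inv_id b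

lemma retrΓ_smul (e e') (r : Γ(Spec (CommRingCat.of R), ⊤))
    (x : Γ(Spec (CommRingCat.of (ThetaS.Lau R)), ⊤)) :
    retrΓ R ((Spec.map (a0' R)).appLE ⊤ ⊤ e r * x) =
      (Spec.map (a0 R)).appLE ⊤ ⊤ e' r * retrΓ R x := by
  rw [retrΓ_apply, retrΓ_apply, map_mul, specMap_appLE_top_apply]
  change (Scheme.ΓSpecIso (CommRingCat.of R[X])).inv
    (retr R (algebraMap R (ThetaS.Lau R) ((Scheme.ΓSpecIso (CommRingCat.of R)).hom r) *
      (Scheme.ΓSpecIso (CommRingCat.of (ThetaS.Lau R))).hom x)) = _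
  rw [← Algebra.smul_def, map_smul, Algebra.smul_def, map_mul]
  congr 1
  have h1 := specMap_appLE_top_apply (a0 R) e' r
  change (Scheme.ΓSpecIso (CommRingCat.of R[X])).hom ((Spec.map (a0 R)).appLE ⊤ ⊤ e' r) =
    algebraMap R R[X] ((Scheme.ΓSpecIso (CommRingCat.of R)).hom r) at h1
  rw [← h1]
  exact ConcreteCategory.congr_hom (Scheme.ΓSpecIso (CommRingCat.of R[X])).hom_inv_id _

/-- **D**: `G_m × T → A^1 × T` is scheme-theoretically dominant, for every `T` over `Spec R`. -/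
theorem dominant_j_whisker (T : Over (Spec (CommRingCat.of R))) :
    IsSchemeTheoreticallyDominant ((j R ▷ T).left) := by
  let L := ThetaS.Line R
  let G := ThetaS.Gm R
  let g : (G ⊗ T).left ⟶ (L ⊗ T).left := (j R ▷ T).left
  let p₁ : (L ⊗ T).left ⟶ L.left := pullback.fst L.hom T.hom
  let p₂ : (L ⊗ T).left ⟶ T.left := pullback.snd L.hom T.hom
  let q₁ : (G ⊗ T).left ⟶ G.left := pullback.fst G.hom T.hom
  let q₂ : (G ⊗ T).left ⟶ T.left := pullback.snd G.hom T.hom
  have hg1 : g ≫ p₁ = q₁ ≫ (j R).left := Over.whiskerRight_left_fst _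
  have hg2 : g ≫ p₂ = q₂ := Over.whiskerRight_left_snd _
  haveI hLaff : IsAffineHom L.hom := by
    change IsAffineHom (Spec.map (a0 R))
    infer_instance
  haveI hGaff : IsAffineHom G.hom := by
    change IsAffineHom (Spec.map (a0' R))
    infer_instance
  haveI : IsAffineHom p₂ := by
    exact MorphismProperty.pullback_snd (P := @IsAffineHom) L.hom T.hom hLaff
  haveI : IsAffineHom q₂ := by
    exact MorphismProperty.pullback_snd (P := @IsAffineHom) G.hom T.hom hGaff
  haveI : QuasiCompact g := by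
    refine MorphismProperty.of_postcomp (W := @QuasiCompact) (W' := @QuasiSeparated) g p₂
      inferInstance ?_
    rw [hg2]
    infer_instance
  change IsSchemeTheoreticallyDominant g
  refine isSchemeTheoreticallyDominant_of_cover g
    (fun V : T.left.affineOpens => ⟨p₂ ⁻¹ᵁ V.1, V.2.preimage p₂⟩) ?_ ?_
  · change ⨆ V : T.left.affineOpens, p₂ ⁻¹ᵁ V.1 = ⊤
    rw [← Scheme.Hom.preimage_iSup, iSup_affineOpens_eq_top]
    rfl
  · intro V
    change Function.Injective (g.app (p₂ ⁻¹ᵁ V.1))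
    have HL : IsPullback p₁ p₂ L.hom T.hom := IsPullback.of_hasPullback _ _
    have HG : IsPullback q₁ q₂ G.hom T.hom := IsPullback.of_hasPullback _ _
    have hUST : V.1 ≤ T.hom ⁻¹ᵁ (⊤ : (Spec (CommRingCat.of R)).Opens) := by simp
    have hUSXL : (⊤ : L.left.Opens) ≤ L.hom ⁻¹ᵁ (⊤ : (Spec (CommRingCat.of R)).Opens) := by simp
    have hUSXG : (⊤ : G.left.Opens) ≤ G.hom ⁻¹ᵁ (⊤ : (Spec (CommRingCat.of R)).Opens) := by simp
    have hUYL : p₂ ⁻¹ᵁ V.1 = p₁ ⁻¹ᵁ ⊤ ⊓ p₂ ⁻¹ᵁ V.1 := by simp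
    have hUYG : g ⁻¹ᵁ (p₂ ⁻¹ᵁ V.1) = q₁ ⁻¹ᵁ ⊤ ⊓ q₂ ⁻¹ᵁ V.1 := by
      rw [← Scheme.Hom.comp_preimage, hg2]
      simp
    have hSaff : IsAffineOpen (⊤ : (Spec (CommRingCat.of R)).Opens) := isAffineOpen_top _
    have hLaffo : IsAffineOpen (⊤ : L.left.Opens) :=
      isAffineOpen_top (Spec (CommRingCat.of R[X]))
    have hGaffo : IsAffineOpen (⊤ : G.left.Opens) :=
      isAffineOpen_top (Spec (CommRingCat.of (ThetaS.Lau R)))
    have PL := (isIso_pushoutSection_iff HL hUST hUSXL hUYL).1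
      (isIso_pushoutSection_of_isAffineOpen HL hUST hUSXL hUYL hSaff V.2 hLaffo)
    have PG := (isIso_pushoutSection_iff HG hUST hUSXG hUYG).1
      (isIso_pushoutSection_of_isAffineOpen HG hUST hUSXG hUYG hSaff V.2 hGaffo)
    have hjtop : (⊤ : G.left.Opens) ≤ (j R).left ⁻¹ᵁ (⊤ : L.left.Opens) := by simp
    refine injective_of_isPushout_of_retraction PL PG ((j R).left.appLE ⊤ ⊤ hjtop) ?_
      (g.app (p₂ ⁻¹ᵁ V.1)) ?_ ?_ (retrΓ R) ?_ ?_
    · rw [Scheme.Hom.appLE_comp_appLE]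
      exact appLE_congr_hom (Over.w (j R)) _ _ _ _
    · rw [Scheme.Hom.app_eq_appLE, Scheme.Hom.appLE_comp_appLE, Scheme.Hom.appLE_comp_appLE]
      exact appLE_congr_hom hg1 _ _ _ _
    · rw [Scheme.Hom.app_eq_appLE, Scheme.Hom.appLE_comp_appLE]
      exact appLE_congr_hom hg2 _ _ _ _
    · intro r x
      exact retrΓ_smul R _ _ r x
    · intro b
      exact retrΓ_h R _ b

end Main

end Groth.Agent.Lib.Helper20.GmDense
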