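import Mathlib
import Groth.Prelude.Def_W4bk5brsh16IT
import Groth.Agent.Lib.Helper4.LC1
import Groth.Agent.Lib.Helper17.IdealTransform

/-!
# `coker (M → D_I(M)) ≃ H^1_I(M)`
-/

set_option autoImplicit false
set_option linter.unusedSectionVars false
set_option linter.unusedVariables false

universe u

open CategoryTheory Abelian Groth.Agent.Lib.Helper4.LC Groth.Agent.Lib.Helper17.IdealTransform LocCoh

namespace Groth.Agent.Lib.Helper20.LCTransform

variable {R : Type u} [CommRing R] (I : Ideal R)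

/-- the short complex `0 → I^n → R → R/I^n → 0`. -/
abbrev scPow (n : ℕ) : ShortComplex (ModuleCat.{u} R) :=
  ModuleCat.shortComplexOfCompEqZero (I ^ n).subtype (I ^ n).mkQ (by
    ext x
    exact (Submodule.Quotient.mk_eq_zero _).2 x.2)

lemma scPow_shortExact (n : ℕ) : (scPow I n).ShortExact :=
  ModuleCat.shortComplex_shortExact (scPow I n)
    (by
      intro y
      change (I ^ n).mkQ y = 0 ↔ y ∈ Set.range (I ^ n).subtype
      rw [Submodule.mkQ_apply, Submodule.Quotient.mk_eq_zero]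
      constructor
      · intro hy; exact ⟨⟨y, hy⟩, rfl⟩
      · rintro ⟨z, rfl⟩; exact z.2)
    (Submodule.injective_subtype _) (Submodule.mkQ_surjective _)

variable (M : ModuleCat.{u} R)

/-- the connecting map `Hom(I^n, M) → Ext^1(R/I^n, M)`. -/
noncomputable def δlin (n : ℕ) : (↥(I ^ n) →ₗ[R] M) →ₗ[R] Ext.{u} (Q I n) M 1 :=
  (Ext.precompOfLinear (scPow_shortExact I n).extClass R M (add_zero 1)) ∘ₗ
    (Ext.linearEquiv₀ (R := R) (X := ModuleCat.of R ↥(I ^ n)) (Y := M)).symm.toLinearMap ∘ₗ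
      (ModuleCat.homLinearEquiv (S := R) (M := ModuleCat.of R ↥(I ^ n)) (N := M)).symm.toLinearMap

lemma δlin_apply (n : ℕ) (f : ↥(I ^ n) →ₗ[R] M) :
    δlin I M n f = (scPow_shortExact I n).extClass.comp (Ext.mk₀ (ModuleCat.ofHom f))
      (add_zero 1) := rfl

/-- the morphism of short complexes `scPow k ⟶ scPow n` for `n ≤ k`. -/
noncomputable def scPowMap {n k : ℕ} (h : n ≤ k) : scPow I k ⟶ scPow I n where
  τ₁ := ModuleCat.ofHom (Submodule.inclusion (Ideal.pow_le_pow_right h))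
  τ₂ := 𝟙 _
  τ₃ := qmap I h
  comm₁₂ := by
    ext x
    rfl
  comm₂₃ := by
    ext
    rfl

lemma tr_δlin {n k : ℕ} (h : n ≤ k) (f : ↥(I ^ n) →ₗ[R] M) :
    tr I M 1 h (δlin I M n f) = δlin I M k (res I h f) := by
  rw [tr_apply, δlin_apply, δlin_apply]
  have hnat := ShortComplex.ShortExact.extClass_naturality (scPow_shortExact I k)
    (scPow_shortExact I n) (scPowMap I h)
  have h1 : (Ext.mk₀ (qmap I h)).comp
      ((scPow_shortExact I n).extClass.comp (Ext.mk₀ (ModuleCat.ofHom f)) (add_zero 1))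
      (zero_add 1) =
      ((Ext.mk₀ (qmap I h)).comp (scPow_shortExact I n).extClass (zero_add 1)).comp
        (Ext.mk₀ (ModuleCat.ofHom f)) (add_zero 1) := by
    rw [Ext.comp_assoc_of_third_deg_zero]
  rw [h1]
  have h2 : (Ext.mk₀ (qmap I h)).comp (scPow_shortExact I n).extClass (zero_add 1) =
      (scPow_shortExact I k).extClass.comp (Ext.mk₀ (scPowMap I h).τ₁) (add_zero 1) := hnat.symm
  rw [h2, Ext.comp_assoc_of_third_deg_zero, Ext.mk₀_comp_mk₀]
  rfl

/-- the leg `Hom(I^n, M) → H^1_I(M)`. -/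
noncomputable def leg (n : ℕ) : (↥(I ^ n) →ₗ[R] M) →ₗ[R] HH I M 1 :=
  HH.of I M 1 n ∘ₗ δlin I M n

lemma leg_res {n k : ℕ} (h : n ≤ k) (f : ↥(I ^ n) →ₗ[R] M) :
    leg I M k (res I h f) = leg I M n f := by
  change HH.of I M 1 k (δlin I M k (res I h f)) = HH.of I M 1 n (δlin I M n f)
  rw [← tr_δlin, HH.of_tr]

/-- the map `D_I(M) → H^1_I(M)` on elements. -/
noncomputable def Phi (x : (idealTransform I).obj M) : HH I M 1 :=
  leg I M (exists_rep I M x).choose (exists_rep I M x).choose_spec.choose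

lemma Phi_cls (n : ℕ) (f : ↥(I ^ n) →ₗ[R] M) : Phi I M (cls I M n f) = leg I M n f := by
  have hspec := (exists_rep I M (cls I M n f)).choose_spec.choose_spec
  obtain ⟨k, hn', hn, hk⟩ := (cls_eq_cls_iff I M _ _).1 hspec
  change leg I M _ _ = _
  rw [← leg_res I M hn', hk, leg_res I M hn]

lemma Phi_add (x y : (idealTransform I).obj M) : Phi I M (x + y) = Phi I M x + Phi I M y := by
  obtain ⟨n, f, rfl⟩ := exists_rep I M x
  obtain ⟨m, g, rfl⟩ := exists_rep I M y
  have hn : n ≤ max n m := le_max_left _ _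
  have hm : m ≤ max n m := le_max_right _ _
  rw [← cls_restrict I M hn f, ← cls_restrict I M hm g, ← cls_add, Phi_cls, Phi_cls, Phi_cls,
    map_add]

lemma Phi_smul (a : R) (x : (idealTransform I).obj M) : Phi I M (a • x) = a • Phi I M x := by
  obtain ⟨n, f, rfl⟩ := exists_rep I M x
  rw [← cls_smul, Phi_cls, Phi_cls, map_smul]

/-- the linear map `D_I(M) → H^1_I(M)`. -/
noncomputable def PhiLin : (idealTransform I).obj M →ₗ[R] HH I M 1 where
  toFun := Phi I M
  map_add' := Phi_add I M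
  map_smul' := Phi_smul I M

lemma PhiLin_cls (n : ℕ) (f : ↥(I ^ n) →ₗ[R] M) : PhiLin I M (cls I M n f) = leg I M n f :=
  Phi_cls I M n f

lemma PhiLin_surjective : Function.Surjective (PhiLin I M) := by
  intro y
  obtain ⟨n, e, rfl⟩ := HH.exists_of I M 1 y
  have hproj : Projective (scPow I n).X₂ := by
    change Projective (ModuleCat.of R R)
    exact ModuleCat.projective_of_categoryTheory_projective _
  have h0 : (Ext.mk₀ (scPow I n).g).comp e (zero_add 1) = 0 :=
    Ext.eq_zero_of_projective (P := (scPow I n).X₂) (Y := M) (n := 0) _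
  obtain ⟨x₁, hx₁⟩ := Ext.contravariant_sequence_exact₃ (scPow_shortExact I n) M e h0
    (add_zero 1)
  obtain ⟨φ, rfl⟩ := (Ext.mk₀_bijective _ _).2 x₁
  refine ⟨cls I M n φ.hom, ?_⟩
  rw [PhiLin_cls]
  change HH.of I M 1 n (δlin I M n φ.hom) = _
  rw [δlin_apply]
  exact congrArg _ hx₁

section ker

variable (N : Type u) [AddCommGroup N] [Module R N]

lemma leg_smulMap (k : ℕ) (m : N) : leg I (ModuleCat.of R N) k (smulMap I N k m) = 0 := by
  have h1 : ModuleCat.ofHom (smulMap I N k m) =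
      (scPow I k).f ≫ ModuleCat.ofHom (LinearMap.toSpanSingleton R N m) := by
    apply ModuleCat.hom_ext
    apply LinearMap.ext
    intro x
    rfl
  have h2 : δlin I (ModuleCat.of R N) k (smulMap I N k m) = 0 := by
    rw [δlin_apply, h1, ← Ext.mk₀_comp_mk₀]
    exact ShortComplex.ShortExact.extClass_comp_assoc (scPow_shortExact I k) _
  rw [leg, LinearMap.comp_apply, h2, map_zero]

lemma res_smulMap {k : ℕ} (m : N) : res I (Nat.zero_le k) (smulMap I N 0 m) = smulMap I N k m := by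
  ext x
  rfl

lemma ker_PhiLin :
    LinearMap.ker (PhiLin I (ModuleCat.of R N)) = LinearMap.range (toDT I N) := by
  apply le_antisymm
  · intro x hx
    rw [LinearMap.mem_ker] at hx
    obtain ⟨n, f, rfl⟩ := exists_rep I (ModuleCat.of R N) x
    rw [PhiLin_cls] at hx
    change HH.of I _ 1 n (δlin I _ n f) = 0 at hx
    rw [HH.of_eq_zero_iff] at hx
    obtain ⟨k, hnk, hk⟩ := hx
    rw [tr_δlin, δlin_apply] at hk
    obtain ⟨x₂, hx₂⟩ := Ext.contravariant_sequence_exact₁ (scPow_shortExact I k)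
      (ModuleCat.of R N) (Ext.mk₀ (ModuleCat.ofHom (res I hnk f))) (add_zero 1) hk
    obtain ⟨ψ, rfl⟩ := (Ext.mk₀_bijective _ _).2 x₂
    rw [Ext.mk₀_comp_mk₀] at hx₂
    have hψ : (scPow I k).f ≫ ψ = ModuleCat.ofHom (res I hnk f) :=
      (Ext.mk₀_bijective _ _).1 hx₂
    have hres : res I hnk f = smulMap I N k (ψ.hom (1 : R)) := by
      ext x
      have h1 : ψ.hom (x : R) = res I hnk f x := congrArg (fun t => t.hom x) hψ
      rw [← h1, smulMap_apply]
      conv_lhs => rw [← mul_one (x : R), ← smul_eq_mul, map_smul]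
    refine ⟨ψ.hom (1 : R), ?_⟩
    rw [toDT_eq_cls, ← cls_restrict I _ hnk f, hres, ← cls_restrict I _ (Nat.zero_le k),
      res_smulMap]
  · rintro x ⟨m, rfl⟩
    rw [LinearMap.mem_ker, toDT_eq_cls, PhiLin_cls, leg_smulMap]

/-- `coker (M → D_I(M)) ≃ H^1_I(M)` in the model `HH`. -/
noncomputable def cokerEquiv :
    (DT I N ⧸ LinearMap.range (toDT I N)) ≃ₗ[R] HH I (ModuleCat.of R N) 1 :=
  (Submodule.quotEquivOfEq _ _ (ker_PhiLin I N).symm).trans
    (LinearMap.quotKerEquivOfSurjective (PhiLin I (ModuleCat.of R N))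
      (PhiLin_surjective I (ModuleCat.of R N)))

end ker

end Groth.Agent.Lib.Helper20.LCTransform
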