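import Mathlib
import Groth.Agent.Lib.Helper20.LCFinite

/-!
# Finiteness of `H^1_I(M)` in terms of the associated primes of `M`
-/

set_option autoImplicit false
set_option linter.unusedSectionVars false
set_option linter.unusedVariables false
set_option linter.style.haveILetI false
set_option maxHeartbeats 400000

universe u

open CategoryTheory Groth.Agent.Lib.Helper4.LC Groth.Agent.Lib.Helper20.LCFinite

namespace Groth.Agent.Lib.Helper20.LCH1

variable {R : Type u} [CommRing R] [IsNoetherianRing R] (I : Ideal R)

/-- `H^1_I(N)` is finitely generated. -/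
def Fg1 (N : Type u) [AddCommGroup N] [Module R N] : Prop :=
  Module.Finite R (HH I (ModuleCat.of R N) 1)

section basic

variable {N' N N'' : Type u} [AddCommGroup N'] [Module R N'] [AddCommGroup N] [Module R N]
  [AddCommGroup N''] [Module R N'']

/-- general two-out-of-three for finiteness over a Noetherian ring. -/
lemma finite_of_exact {A B C : Type u} [AddCommGroup A] [Module R A] [AddCommGroup B] [Module R B]
    [AddCommGroup C] [Module R C] (φ : A →ₗ[R] B) (ψ : B →ₗ[R] C)
    (hex : ∀ b, ψ b = 0 → ∃ a, φ a = b) [Module.Finite R A] [Module.Finite R C] :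
    Module.Finite R B := by
  refine ⟨Submodule.fg_of_fg_map_of_fg_inf_ker ψ ?_ ?_⟩
  · exact IsNoetherian.noetherian _
  · rw [top_inf_eq]
    have h1 : LinearMap.ker ψ ≤ LinearMap.range φ := by
      intro b hb
      exact hex b hb
    have h2 : (LinearMap.range φ).FG := by
      rw [LinearMap.range_eq_map]
      exact Submodule.FG.map φ Module.Finite.fg_top
    haveI : IsNoetherian R (LinearMap.range φ) :=
      isNoetherian_of_fg_of_noetherian _ h2
    have h3 : (Submodule.comap (LinearMap.range φ).subtype (LinearMap.ker ψ)).FG :=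
      IsNoetherian.noetherian _
    have h4 := Submodule.FG.map (LinearMap.range φ).subtype h3
    rwa [Submodule.map_comap_subtype, inf_eq_right.2 h1] at h4

lemma fg1_of_exact (f : N' →ₗ[R] N) (g : N →ₗ[R] N'') (hex : Function.Exact f g)
    (hf : Function.Injective f) (hg : Function.Surjective g) (h1 : Fg1 I N') (h2 : Fg1 I N'') :
    Fg1 I N := by
  have hS := sesOf_shortExact f g hex hf hg
  haveI : Module.Finite R (HH I (ModuleCat.of R N') 1) := h1
  haveI : Module.Finite R (HH I (ModuleCat.of R N'') 1) := h2
  exact finite_of_exact (HH.map I (sesOf f g hex).f 1) (HH.map I (sesOf f g hex).g 1)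
    (fun b hb => HH.exact₂ I hS 1 b hb)

lemma fg1_of_injective [Module.Finite R N] (f : N' →ₗ[R] N) (hf : Function.Injective f)
    (h : Fg1 I N) : Fg1 I N' := by
  have hS := sesOf_shortExact f (LinearMap.range f).mkQ (LinearMap.exact_map_mkQ_range f) hf
    (Submodule.mkQ_surjective _)
  haveI : Module.Finite R (HH I (ModuleCat.of R N) 1) := h
  haveI : Module.Finite R (HH I (ModuleCat.of R (N ⧸ LinearMap.range f)) 0) :=
    finite_HH_zero I (N ⧸ LinearMap.range f)
  exact finite_of_exact (HH.δ I hS 0)
    (HH.map I (sesOf f (LinearMap.range f).mkQ (LinearMap.exact_map_mkQ_range f)).f 1)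
    (fun b hb => HH.exact₁ I hS 0 b hb)

lemma fg1_of_equiv (e : N' ≃ₗ[R] N) (h : Fg1 I N) : Fg1 I N' := by
  haveI : Module.Finite R (HH I (ModuleCat.of R N) 1) := h
  exact Module.Finite.equiv (HH.mapIso I e.toModuleIso 1).symm

lemma fg1_of_torsion (h : ∀ m : N, ∃ k : ℕ, ∀ x ∈ I ^ k, x • m = 0) : Fg1 I N := by
  haveI : Subsingleton (HH I (ModuleCat.of R N) 1) :=
    HH.subsingleton_of_isPowerTorsion I 0 (ModuleCat.of R N) h
  exact Module.Finite.of_surjective (0 : R →ₗ[R] HH I (ModuleCat.of R N) 1)
    (fun x => ⟨0, Subsingleton.elim _ _⟩)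

end basic

/-- `p`-coprimary condition: zero-divisors on `U` lie in `p`. -/
def TF (p : Ideal R) (U : Type u) [AddCommGroup U] [Module R U] : Prop :=
  ∀ (r : R) (x : U), r • x = 0 → x = 0 ∨ r ∈ p

section rankOne

variable (p : Ideal R) [p.IsPrime]

/-- submodules of rank one of a torsion-free `R/p`-module. -/
theorem fg1_rankOne (hp : Fg1 I (R ⧸ p)) {U : Type u} [AddCommGroup U] [Module R U]
    [Module.Finite R U] (hTF : TF p U) (hpU : ∀ a ∈ p, ∀ x : U, a • x = 0) (t : U)
    (K : Submodule R U)
    (hK : ∀ x ∈ K, ∃ a, a ∉ p ∧ a • x ∈ Submodule.span R {t}) : Fg1 I K := by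
  classical
  -- `span {t}` has finite `H^1`
  have hspan : Fg1 I (Submodule.span R ({t} : Set U)) := by
    by_cases ht : t = 0
    · apply fg1_of_torsion
      intro m
      refine ⟨0, fun x _ => ?_⟩
      have hm : (m : U) ∈ Submodule.span R ({t} : Set U) := m.2
      obtain ⟨c, hc⟩ := Submodule.mem_span_singleton.1 hm
      have hm0 : (m : U) = 0 := by rw [← hc, ht, smul_zero]
      have : m = 0 := Subtype.ext hm0
      rw [this, smul_zero]
    · have hle : p ≤ LinearMap.ker (LinearMap.toSpanSingleton R U t) := by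
        intro a ha
        rw [LinearMap.mem_ker, LinearMap.toSpanSingleton_apply]
        exact hpU a ha t
      have hker : LinearMap.ker (LinearMap.toSpanSingleton R U t) = p := by
        apply le_antisymm _ hle
        intro a ha
        rw [LinearMap.mem_ker, LinearMap.toSpanSingleton_apply] at ha
        exact (hTF a t ha).resolve_left ht
      have hinj : Function.Injective (Submodule.liftQ p (LinearMap.toSpanSingleton R U t) hle) := by
        rw [← LinearMap.ker_eq_bot]
        exact Submodule.ker_liftQ_eq_bot' _ _ hker.symm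
      have hrange : LinearMap.range (Submodule.liftQ p (LinearMap.toSpanSingleton R U t) hle) =
          Submodule.span R ({t} : Set U) := by
        rw [Submodule.range_liftQ, LinearMap.span_singleton_eq_range]
      have e1 : (R ⧸ p) ≃ₗ[R]
          LinearMap.range (Submodule.liftQ p (LinearMap.toSpanSingleton R U t) hle) :=
        LinearEquiv.ofInjective _ hinj
      have e2 : Submodule.span R ({t} : Set U) ≃ₗ[R] (R ⧸ p) :=
        (LinearEquiv.ofEq _ _ hrange.symm).trans e1.symm
      exact fg1_of_equiv I e2 hp
  -- a common multiplier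
  obtain ⟨s, hs⟩ : K.FG := IsNoetherian.noetherian K
  choose! a ha1 ha2 using hK
  have hsK : ∀ x ∈ s, x ∈ K := fun x hx => hs ▸ Submodule.subset_span hx
  have hb : (∏ x ∈ s, a x) ∉ p := by
    rw [Ideal.IsPrime.prod_mem_iff]
    rintro ⟨x, hx, hax⟩
    exact ha1 x (hsK x hx) hax
  have hbK : ∀ x ∈ K, (∏ x ∈ s, a x) • x ∈ Submodule.span R ({t} : Set U) := by
    intro x hx
    rw [← hs] at hx
    induction hx using Submodule.span_induction with
    | mem x hx =>
      obtain ⟨c, hc⟩ := Finset.dvd_prod_of_mem a hx
      rw [hc, mul_comm, mul_smul]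
      exact Submodule.smul_mem _ _ (ha2 x (hsK x hx))
    | zero => rw [smul_zero]; exact Submodule.zero_mem _
    | add x y _ _ hx hy => rw [smul_add]; exact Submodule.add_mem _ hx hy
    | smul c x _ hx => rw [smul_comm]; exact Submodule.smul_mem _ _ hx
  let μ : K →ₗ[R] Submodule.span R ({t} : Set U) :=
    (LinearMap.lsmul R U (∏ x ∈ s, a x)).restrict hbK
  have hμ : Function.Injective μ := by
    rw [injective_iff_map_eq_zero]
    intro x hx
    have h1 : (∏ x ∈ s, a x) • (x : U) = 0 := congrArg Subtype.val hx
    exact Subtype.ext ((hTF _ _ h1).resolve_right hb)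
  exact fg1_of_injective I μ hμ hspan

/-- torsion-free `R/p`-modules. -/
theorem fg1_of_torsionFree (hp : Fg1 I (R ⧸ p)) (T : Type u) [AddCommGroup T] [Module R T]
    [Module.Finite R T] (hTF : TF p T) (hpT : ∀ a ∈ p, ∀ x : T, a • x = 0) : Fg1 I T := by
  have key : ∀ L : Submodule R T, (∀ a, a ∉ p → ∀ x : T, a • x ∈ L → x ∈ L) → Fg1 I (T ⧸ L) := by
    intro L
    induction L using IsNoetherian.induction with
    | hgt L ih =>
    intro hsat
    by_cases hL : L = ⊤
    · apply fg1_of_torsion
      intro m
      refine ⟨0, fun x _ => ?_⟩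
      obtain ⟨m, rfl⟩ := Submodule.Quotient.mk_surjective _ m
      have : (Submodule.Quotient.mk m : T ⧸ L) = 0 := by
        rw [Submodule.Quotient.mk_eq_zero, hL]; trivial
      rw [this, smul_zero]
    · obtain ⟨t, -, ht⟩ := SetLike.exists_of_lt (lt_top_iff_ne_top.2 hL)
      -- the saturation of `L + R t`
      let L' : Submodule R T :=
        { carrier := {x | ∃ a, a ∉ p ∧ a • x ∈ L ⊔ Submodule.span R {t}}
          zero_mem' := ⟨1, fun h => (Ideal.IsPrime.ne_top inferInstance)
            ((Ideal.eq_top_iff_one p).2 h), by rw [smul_zero]; exact Submodule.zero_mem _⟩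
          add_mem' := by
            rintro x y ⟨a, ha, hax⟩ ⟨b, hb, hby⟩
            refine ⟨a * b, fun h => ?_, ?_⟩
            · rcases Ideal.IsPrime.mem_or_mem inferInstance h with h | h
              · exact ha h
              · exact hb h
            · rw [smul_add]
              refine Submodule.add_mem _ ?_ ?_
              · rw [mul_comm, mul_smul]; exact Submodule.smul_mem _ _ hax
              · rw [mul_smul]; exact Submodule.smul_mem _ _ hby
          smul_mem' := by
            rintro c x ⟨a, ha, hax⟩
            exact ⟨a, ha, by rw [smul_comm]; exact Submodule.smul_mem _ _ hax⟩ }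
      have h1p : (1 : R) ∉ p := fun h => (Ideal.IsPrime.ne_top inferInstance)
        ((Ideal.eq_top_iff_one p).2 h)
      have hLL' : L ≤ L' := fun x hx => ⟨1, h1p, by rw [one_smul]; exact Submodule.mem_sup_left hx⟩
      have htL' : t ∈ L' := ⟨1, h1p, by
        rw [one_smul]; exact Submodule.mem_sup_right (Submodule.mem_span_singleton_self t)⟩
      have hlt : L < L' := lt_of_le_of_ne hLL' (fun h => ht (h ▸ htL'))
      have hsat' : ∀ a, a ∉ p → ∀ x : T, a • x ∈ L' → x ∈ L' := by
        rintro a ha x ⟨b, hb, hbx⟩
        refine ⟨b * a, fun h => ?_, by rwa [mul_smul]⟩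
        rcases Ideal.IsPrime.mem_or_mem inferInstance h with h | h
        · exact hb h
        · exact ha h
      have hFL' : Fg1 I (T ⧸ L') := ih L' hlt hsat'
      -- the quotient `U = T/L`
      have hTFU : TF p (T ⧸ L) := by
        intro r x hx
        obtain ⟨x, rfl⟩ := Submodule.Quotient.mk_surjective _ x
        by_cases hr : r ∈ p
        · exact Or.inr hr
        · left
          rw [← Submodule.Quotient.mk_smul, Submodule.Quotient.mk_eq_zero] at hx
          exact (Submodule.Quotient.mk_eq_zero _).2 (hsat r hr x hx)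
      have hpU : ∀ a ∈ p, ∀ x : T ⧸ L, a • x = 0 := by
        intro a ha x
        obtain ⟨x, rfl⟩ := Submodule.Quotient.mk_surjective _ x
        rw [← Submodule.Quotient.mk_smul, hpT a ha x, Submodule.Quotient.mk_zero]
      let π : (T ⧸ L) →ₗ[R] (T ⧸ L') := Submodule.mapQ L L' LinearMap.id (by
        intro x hx; exact hLL' hx)
      have hπ : Function.Surjective π := by
        intro y
        obtain ⟨y, rfl⟩ := Submodule.Quotient.mk_surjective _ y
        exact ⟨Submodule.Quotient.mk y, rfl⟩
      have hK : ∀ x ∈ LinearMap.ker π, ∃ a, a ∉ p ∧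
          a • x ∈ Submodule.span R ({(Submodule.Quotient.mk t : T ⧸ L)} : Set (T ⧸ L)) := by
        intro x hx
        obtain ⟨x, rfl⟩ := Submodule.Quotient.mk_surjective _ x
        rw [LinearMap.mem_ker] at hx
        have hx' : (Submodule.Quotient.mk x : T ⧸ L') = 0 := hx
        rw [Submodule.Quotient.mk_eq_zero] at hx'
        obtain ⟨a, ha, hax⟩ := hx'
        refine ⟨a, ha, ?_⟩
        obtain ⟨l, hl, w, hw, hlw⟩ := Submodule.mem_sup.1 hax
        obtain ⟨c, rfl⟩ := Submodule.mem_span_singleton.1 hw
        rw [← Submodule.Quotient.mk_smul, ← hlw, Submodule.Quotient.mk_add,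
          (Submodule.Quotient.mk_eq_zero _).2 hl, zero_add, Submodule.Quotient.mk_smul]
        exact Submodule.smul_mem _ _ (Submodule.mem_span_singleton_self _)
      have hFK : Fg1 I (LinearMap.ker π) :=
        fg1_rankOne I p hp hTFU hpU (Submodule.Quotient.mk t) (LinearMap.ker π) hK
      exact fg1_of_exact I (LinearMap.ker π).subtype π (LinearMap.exact_subtype_ker_map π)
        (Submodule.injective_subtype _) hπ hFK hFL'
  have h0 := key ⊥ (fun a ha x hx => by
    rw [Submodule.mem_bot] at hx ⊢
    exact (hTF a x hx).resolve_right ha)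
  exact fg1_of_equiv I (Submodule.quotEquivOfEqBot ⊥ rfl).symm h0

/-- `p`-coprimary modules. -/
theorem fg1_of_coprimary (hp : Fg1 I (R ⧸ p)) : ∀ (k : ℕ) (N : Type u) [AddCommGroup N]
    [Module R N] [Module.Finite R N], TF p N → (∀ a ∈ p ^ k, ∀ x : N, a • x = 0) → Fg1 I N := by
  intro k
  induction k with
  | zero =>
    intro N _ _ _ _ h0
    apply fg1_of_torsion
    intro m
    refine ⟨0, fun x _ => ?_⟩
    have : m = 0 := by
      have := h0 1 (by rw [pow_zero, Ideal.one_eq_top]; trivial) m
      rwa [one_smul] at this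
    rw [this, smul_zero]
  | succ k ih =>
    intro N _ _ _ hTF hk
    -- the socle-like part
    have h1 : Fg1 I (Submodule.torsionBySet R N (p : Set R)) := by
      apply fg1_of_torsionFree I p hp
      · intro r x hx
        rcases hTF r (x : N) (congrArg Subtype.val hx) with h | h
        · exact Or.inl (Subtype.ext h)
        · exact Or.inr h
      · intro a ha x
        apply Subtype.ext
        exact (Submodule.mem_torsionBySet_iff _ _).1 x.2 ⟨a, ha⟩
    have h2 : Fg1 I (N ⧸ Submodule.torsionBySet R N (p : Set R)) := by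
      apply ih
      · intro r x hx
        obtain ⟨x, rfl⟩ := Submodule.Quotient.mk_surjective _ x
        by_cases hr : r ∈ p
        · exact Or.inr hr
        · left
          rw [← Submodule.Quotient.mk_smul, Submodule.Quotient.mk_eq_zero,
            Submodule.mem_torsionBySet_iff] at hx
          rw [Submodule.Quotient.mk_eq_zero, Submodule.mem_torsionBySet_iff]
          rintro ⟨a, ha⟩
          have h3 : r • (a • x) = 0 := by
            rw [smul_comm]; exact hx ⟨a, ha⟩
          exact (hTF r _ h3).resolve_right hr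
      · intro a ha x
        obtain ⟨x, rfl⟩ := Submodule.Quotient.mk_surjective _ x
        rw [← Submodule.Quotient.mk_smul, Submodule.Quotient.mk_eq_zero,
          Submodule.mem_torsionBySet_iff]
        rintro ⟨b, hb⟩
        rw [← mul_smul]
        exact hk (b * a) (by rw [pow_succ']; exact Ideal.mul_mem_mul hb ha) x
    exact fg1_of_exact I (Submodule.torsionBySet R N (p : Set R)).subtype
      (Submodule.torsionBySet R N (p : Set R)).mkQ (LinearMap.exact_subtype_mkQ _)
      (Submodule.injective_subtype _) (Submodule.mkQ_surjective _) h1 h2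

end rankOne

section main

variable (M : Type u) [AddCommGroup M] [Module R M] [Module.Finite R M]

/-- finite intersections. -/
theorem fg1_quot_finsetInf : ∀ t : Finset (Submodule R M), (∀ Q ∈ t, Fg1 I (M ⧸ Q)) →
    Fg1 I (M ⧸ t.inf id) := by
  classical
  intro t
  induction t using Finset.induction_on with
  | empty =>
    intro _
    apply fg1_of_torsion
    intro m
    refine ⟨0, fun x _ => ?_⟩
    obtain ⟨m, rfl⟩ := Submodule.Quotient.mk_surjective _ m
    have : (Submodule.Quotient.mk m : M ⧸ (∅ : Finset (Submodule R M)).inf id) = 0 := by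
      rw [Submodule.Quotient.mk_eq_zero, Finset.inf_empty]; trivial
    rw [this, smul_zero]
  | insert Q t hQt ih =>
    intro h
    have h1 : Fg1 I (M ⧸ Q) := h Q (Finset.mem_insert_self Q t)
    have h2 : Fg1 I (M ⧸ t.inf id) := ih (fun Q' hQ' => h Q' (Finset.mem_insert_of_mem hQ'))
    have h3 : Fg1 I ((M ⧸ Q) × (M ⧸ t.inf id)) :=
      fg1_of_exact I (LinearMap.inl R (M ⧸ Q) (M ⧸ t.inf id)) (LinearMap.snd R (M ⧸ Q) (M ⧸ t.inf id))
        (by
          intro x
          constructor
          · intro hx
            exact ⟨x.1, Prod.ext rfl hx.symm⟩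
          · rintro ⟨y, rfl⟩
            rfl)
        LinearMap.inl_injective LinearMap.snd_surjective h1 h2
    rw [Finset.inf_insert, id]
    let φ : (M ⧸ Q ⊓ t.inf id) →ₗ[R] (M ⧸ Q) × (M ⧸ t.inf id) :=
      LinearMap.prod (Submodule.mapQ _ _ LinearMap.id (fun x hx => hx.1))
        (Submodule.mapQ _ _ LinearMap.id (fun x hx => hx.2))
    have hφ : Function.Injective φ := by
      rw [injective_iff_map_eq_zero]
      intro x hx
      obtain ⟨x, rfl⟩ := Submodule.Quotient.mk_surjective _ x
      have hx1 : (Submodule.Quotient.mk x : M ⧸ Q) = 0 := congrArg Prod.fst hx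
      have hx2 : (Submodule.Quotient.mk x : M ⧸ t.inf id) = 0 := congrArg Prod.snd hx
      rw [Submodule.Quotient.mk_eq_zero] at hx1 hx2 ⊢
      exact ⟨hx1, hx2⟩
    exact fg1_of_injective I φ hφ h3

/-- **Main theorem**: finiteness of `H^1_I(M)` from finiteness of `H^1_I(R/p)` for the associated
primes `p` of `M` not containing `I`. -/
theorem fg1_of_associatedPrimes
    (h : ∀ p : Ideal R, p ∈ associatedPrimes R M → ¬ I ≤ p → Fg1 I (R ⧸ p)) : Fg1 I M := by
  obtain ⟨t, ht⟩ := Submodule.IsLasker.exists_isMinimalPrimaryDecomposition (Submodule.isLasker R M) ⊥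
  have h1 : Fg1 I (M ⧸ t.inf id) := by
    apply fg1_quot_finsetInf
    intro Q hQ
    haveI hprime : ((Q.colon Set.univ).radical).IsPrime := (ht.primary hQ).isPrime_radical_colon
    have hass : (Q.colon Set.univ).radical ∈ associatedPrimes R M := ht.mem_associatedPrimes hQ
    obtain ⟨k, hk⟩ := Ideal.exists_pow_le_of_le_radical_of_fg (le_refl (Q.colon Set.univ).radical)
      (IsNoetherian.noetherian _)
    have hkill : ∀ a ∈ (Q.colon Set.univ).radical ^ k, ∀ x : M ⧸ Q, a • x = 0 := by
      intro a ha x
      obtain ⟨x, rfl⟩ := Submodule.Quotient.mk_surjective _ x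
      rw [← Submodule.Quotient.mk_smul, Submodule.Quotient.mk_eq_zero]
      exact Submodule.mem_colon.1 (hk ha) x (Set.mem_univ x)
    by_cases hIp : I ≤ (Q.colon Set.univ).radical
    · apply fg1_of_torsion
      intro m
      exact ⟨k, fun x hx => hkill x (Ideal.pow_right_mono hIp k hx) m⟩
    · refine fg1_of_coprimary I _ (h _ hass hIp) k (M ⧸ Q) ?_ hkill
      intro r x hx
      obtain ⟨x, rfl⟩ := Submodule.Quotient.mk_surjective _ x
      rw [← Submodule.Quotient.mk_smul, Submodule.Quotient.mk_eq_zero] at hx
      rcases (ht.primary hQ).mem_or_mem hx with h' | h'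
      · exact Or.inl ((Submodule.Quotient.mk_eq_zero _).2 h')
      · exact Or.inr h'
  rw [ht.inf_eq] at h1
  exact fg1_of_equiv I (Submodule.quotEquivOfEqBot ⊥ rfl).symm h1

/-- the converse direction. -/
theorem fg1_quotient_of_mem_associatedPrimes (hM : Fg1 I M) (p : Ideal R)
    (hp : p ∈ associatedPrimes R M) : Fg1 I (R ⧸ p) := by
  obtain ⟨-, f, hf⟩ := (isAssociatedPrime_iff_exists_injective_linearMap p M).1 hp
  exact fg1_of_injective I f hf hM

end main

end Groth.Agent.Lib.Helper20.LCH1
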