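import Groth.Agent.Lib.Helper20.HTMain

/-!
# Finiteness of `H^i_T(M)` for `i ≤ n` iff annihilated: the induction
-/

set_option autoImplicit false
set_option linter.style.haveILetI false
set_option linter.unusedSectionVars false
set_option linter.unusedVariables false
set_option maxHeartbeats 400000

open CategoryTheory Limits Opposite Abelian

universe u

namespace Groth.Agent.Lib.Helper20.HTModel

variable {R : Type u} [CommRing R] (T : Set (PrimeSpectrum R))

section ses

variable (M : Type u) [AddCommGroup M] [Module R M]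

/-- `M / Γ_T(M)`. -/
abbrev Mq : Type u := M ⧸ gammaT T M

/-- the short exact sequence `Γ_T(M) → M → M/Γ_T(M)`. -/
noncomputable abbrev sesGamma : ShortComplex (ModuleCat.{u} R) :=
  ModuleCat.shortComplexOfCompEqZero (gammaT T M).subtype (gammaT T M).mkQ (by
    ext x
    rw [LinearMap.comp_apply, Submodule.subtype_apply, Submodule.mkQ_apply, LinearMap.zero_apply,
      Submodule.Quotient.mk_eq_zero]
    exact x.2)

lemma sesGamma_shortExact : (sesGamma T M).ShortExact :=
  ModuleCat.shortComplex_shortExact _ (LinearMap.exact_subtype_mkQ (gammaT T M))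
    (Submodule.injective_subtype _) (Submodule.mkQ_surjective _)

variable (x : R)

/-- `M / xM`. -/
abbrev Nq : Type u := M ⧸ LinearMap.range (LinearMap.lsmul R M x)

/-- the short exact sequence `M →x M → M/xM`. -/
noncomputable abbrev sesMul : ShortComplex (ModuleCat.{u} R) :=
  ModuleCat.shortComplexOfCompEqZero (LinearMap.lsmul R M x)
    (LinearMap.range (LinearMap.lsmul R M x)).mkQ (by
      ext m
      rw [LinearMap.comp_apply, Submodule.mkQ_apply, LinearMap.zero_apply,
        Submodule.Quotient.mk_eq_zero]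
      exact LinearMap.mem_range_self _ m)

lemma sesMul_shortExact (hx : IsSMulRegular M x) : (sesMul M x).ShortExact :=
  ModuleCat.shortComplex_shortExact _ (LinearMap.exact_map_mkQ_range (LinearMap.lsmul R M x))
    (fun a b h => hx h) (Submodule.mkQ_surjective _)

lemma sesMul_f : (sesMul M x).f = x • 𝟙 (ModuleCat.of R M) := by
  apply ModuleCat.hom_ext
  apply LinearMap.ext
  intro m
  rfl

end ses

section main

variable [IsNoetherianRing R]

/-- a finite elementwise `T`-torsion module is killed by a single ideal. -/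
lemma exists_idx_of_finite (H : Type u) [AddCommGroup H] [Module R H] [Module.Finite R H]
    (h : ∀ x : H, ∃ a : Idx T, ∀ r ∈ a.J, r • x = 0) :
    ∃ a : Idx T, ∀ r ∈ a.J, ∀ x : H, r • x = 0 := by
  obtain ⟨a, ha⟩ := exists_idx_of_fg T H ⊤ Module.Finite.fg_top (fun x _ => h x)
  exact ⟨a, fun r hr x => ha r hr x trivial⟩

/-- **annihilated ⇒ finite**. -/
theorem finite_of_annihilated (n : ℕ) : ∀ (M : Type u) [AddCommGroup M] [Module R M]
    [Module.Finite R M] (a : Idx T),
    (∀ i ≤ n, ∀ r ∈ a.J, ∀ x : HHT T (ModuleCat.of R M) i, r • x = 0) →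
    ∀ i ≤ n, Module.Finite R (HHT T (ModuleCat.of R M) i) := by
  induction n with
  | zero =>
    intro M _ _ _ a _ i hi
    obtain rfl : i = 0 := by omega
    have : IsNoetherian R M := isNoetherian_of_isNoetherianRing_of_finite R M
    exact finite_HHT0 T M
  | succ n ih =>
    intro M _ _ _ a ha i hi
    have : IsNoetherian R M := isNoetherian_of_isNoetherianRing_of_finite R M
    rcases Nat.eq_zero_or_pos i with rfl | hipos
    · exact finite_HHT0 T M
    obtain ⟨j, rfl⟩ : ∃ j, i = j + 1 := ⟨i - 1, by omega⟩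
    have hj : j ≤ n := by omega
    have hS := sesGamma_shortExact T M
    obtain ⟨a₀, ha₀⟩ := exists_idx_gammaT T M
    have hvan : ∀ k, Subsingleton (HHT T (ModuleCat.of R (gammaT T M)) (k + 1)) := fun k =>
      HHT.subsingleton_of_torsion T (gammaT T M) a₀
        (fun r hr x => Subtype.ext (ha₀ r hr x.1 x.2)) k
    have hΓ'' : gammaT T (Mq T M) = ⊥ := gammaT_quotient_eq_bot T M
    have h0'' : Subsingleton (HHT T (ModuleCat.of R (Mq T M)) 0) :=
      subsingleton_HHT0 T (Mq T M) hΓ''
    -- annihilation for `M''`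
    have ha'' : ∀ k ≤ n + 1, ∀ r ∈ a.J, ∀ x : HHT T (ModuleCat.of R (Mq T M)) k, r • x = 0 := by
      intro k hk r hr x
      rcases Nat.eq_zero_or_pos k with rfl | hkpos
      · exact Subsingleton.elim _ _
      obtain ⟨l, rfl⟩ : ∃ l, k = l + 1 := ⟨k - 1, by omega⟩
      obtain ⟨y, rfl⟩ := HHT.map_g_surjective T hS (l + 1) (hvan (l + 1)) x
      rw [← map_smul, ha (l + 1) hk r hr y, map_zero]
    -- regular element
    obtain ⟨x, hxa, hxreg⟩ := exists_regular T (Mq T M) hΓ'' a
    have hS' := sesMul_shortExact (Mq T M) x hxreg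
    have haN : ∀ k ≤ n, ∀ t ∈ (a.mul a).J,
        ∀ z : HHT T (ModuleCat.of R (Nq (Mq T M) x)) k, t • z = 0 := by
      intro k hk t ht z
      rw [Idx.mul_J] at ht
      refine Submodule.mul_induction_on ht ?_ ?_
      · intro r hr s hs
        have h1 : HHT.δ T hS' k (s • z) = 0 := by
          rw [map_smul]
          exact ha'' (k + 1) (by omega) s hs _
        obtain ⟨w, hw⟩ := HHT.exact₃ T hS' k (s • z) h1
        rw [mul_smul, ← hw, ← map_smul, ha'' k (by omega) r hr w, map_zero]
      · intro u v hu hv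
        rw [add_smul, hu, hv, add_zero]
    have hNfin := ih (Nq (Mq T M) x) (a.mul a) haN
    -- `H^{j+1}(M'')` is finite
    have hfin'' : Module.Finite R (HHT T (ModuleCat.of R (Mq T M)) (j + 1)) := by
      have := hNfin j hj
      refine Module.Finite.of_surjective (HHT.δ T hS' j) ?_
      intro y
      apply HHT.exact₁ T hS' j y
      rw [sesMul_f, ← HHT.smul_eq_map]
      exact ha'' (j + 1) hi x hxa y
    -- transfer to `M`
    have hinj : Function.Injective (HHT.map T (sesGamma T M).g (j + 1)) :=
      HHT.map_g_injective T hS (j + 1) (hvan j)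
    have : IsNoetherian R (HHT T (ModuleCat.of R (Mq T M)) (j + 1)) :=
      isNoetherian_of_isNoetherianRing_of_finite R _
    exact Module.Finite.of_injective _ hinj

/-- **finite ⇒ annihilated**. -/
theorem annihilated_of_finite (M : Type u) [AddCommGroup M] [Module R M] (n : ℕ)
    (h : ∀ i ≤ n, Module.Finite R (HHT T (ModuleCat.of R M) i)) :
    ∃ a : Idx T, ∀ i ≤ n, ∀ r ∈ a.J, ∀ x : HHT T (ModuleCat.of R M) i, r • x = 0 := by
  induction n with
  | zero =>
    have := h 0 le_rfl
    obtain ⟨a, ha⟩ := exists_idx_of_finite T (HHT T (ModuleCat.of R M) 0)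
      (HHT.exists_smul_eq_zero T 0)
    refine ⟨a, fun i hi => ?_⟩
    obtain rfl : i = 0 := by omega
    exact ha
  | succ n ih =>
    obtain ⟨a, ha⟩ := ih (fun i hi => h i (by omega))
    have := h (n + 1) le_rfl
    obtain ⟨b, hb⟩ := exists_idx_of_finite T (HHT T (ModuleCat.of R M) (n + 1))
      (HHT.exists_smul_eq_zero T (n + 1))
    refine ⟨a.inf b, fun i hi r hr x => ?_⟩
    rcases Nat.lt_or_ge i (n + 1) with hlt | hge
    · exact ha i (by omega) r (Idx.mem_inf_left T hr) x
    · obtain rfl : i = n + 1 := by omega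
      exact hb r (Idx.mem_inf_right T hr) x

/-- the statement for `Dual2.HT`. -/
theorem finite_HT_iff_annihilated (M : Type u) [AddCommGroup M] [Module R M] [Module.Finite R M]
    (n : ℕ) :
    (∀ i : ℕ, i ≤ n → Module.Finite R (Dual2.HT T i M)) ↔
      ∃ J : Ideal R, PrimeSpectrum.zeroLocus (J : Set R) ⊆ T ∧
        ∀ i : ℕ, i ≤ n → ∀ a ∈ J, ∀ x : Dual2.HT T i M, a • x = 0 := by
  constructor
  · intro h
    have h' : ∀ i ≤ n, Module.Finite R (HHT T (ModuleCat.of R M) i) := fun i hi =>
      have := h i hi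
      Module.Finite.equiv (htEquiv T (ModuleCat.of R M) i)
    obtain ⟨a, ha⟩ := annihilated_of_finite T M n h'
    refine ⟨a.J, a.hJ, fun i hi r hr x => ?_⟩
    apply (htEquiv T (ModuleCat.of R M) i).injective
    rw [map_smul, ha i hi r hr, map_zero]
  · rintro ⟨J, hJ, h⟩ i hi
    have h' : ∀ i ≤ n, ∀ r ∈ (⟨J, hJ⟩ : Idx T).J, ∀ x : HHT T (ModuleCat.of R M) i, r • x = 0 := by
      intro i hi r hr x
      obtain ⟨y, rfl⟩ := (htEquiv T (ModuleCat.of R M) i).surjective x
      rw [← map_smul, h i hi r hr y, map_zero]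
    have := finite_of_annihilated T n M ⟨J, hJ⟩ h' i hi
    exact Module.Finite.equiv (htEquiv T (ModuleCat.of R M) i).symm

end main

end Groth.Agent.Lib.Helper20.HTModel
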