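import Mathlib
import Groth.Agent.Lib.Helper20.LCDeltaHH
import Groth.Agent.Lib.Helper20.LCIndep

/-!
# `M ↦ HH I (S⁻¹M)` as a δ-functor, and the localization transformation
-/

set_option autoImplicit false
set_option linter.unusedSectionVars false
set_option linter.unusedVariables false

universe u

open CategoryTheory Abelian Groth.Agent.Lib.Helper4.LC Groth.Agent.Lib.Helper20.LCDelta

namespace Groth.Agent.Lib.Helper20.LCDeltaHH

variable {R : Type u} [CommRing R] (S : Submonoid R)

/-- the localization of a module, as an `R`-module object. -/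
abbrev Loc (M : ModuleCat.{u} R) : ModuleCat.{u} R := ModuleCat.of R (LocalizedModule S M)

/-- functoriality of `Loc`. -/
noncomputable def Loc.map {M N : ModuleCat.{u} R} (g : M ⟶ N) : Loc S M ⟶ Loc S N :=
  ModuleCat.ofHom (LocalizedModule.map S g.hom)

/-- the localization map. -/
noncomputable def Loc.ι (M : ModuleCat.{u} R) : M ⟶ Loc S M :=
  ModuleCat.ofHom (LocalizedModule.mkLinearMap S M)

lemma Loc.ι_naturality {M N : ModuleCat.{u} R} (g : M ⟶ N) :
    g ≫ Loc.ι S N = Loc.ι S M ≫ Loc.map S g := by
  apply ModuleCat.hom_ext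
  apply LinearMap.ext
  intro x
  change LocalizedModule.mkLinearMap S N (g.hom x) =
    LocalizedModule.map S g.hom (LocalizedModule.mkLinearMap S M x)
  rw [LocalizedModule.mkLinearMap_apply, LocalizedModule.mkLinearMap_apply,
    LocalizedModule.map_mk]

lemma Loc.map_comp {M N P : ModuleCat.{u} R} (g : M ⟶ N) (g' : N ⟶ P) :
    Loc.map S (g ≫ g') = Loc.map S g ≫ Loc.map S g' := by
  apply ModuleCat.hom_ext
  apply LinearMap.ext
  intro x
  induction x using LocalizedModule.induction_on with
  | h m s =>
    change LocalizedModule.map S (g ≫ g').hom (LocalizedModule.mk m s) =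
      LocalizedModule.map S g'.hom (LocalizedModule.map S g.hom (LocalizedModule.mk m s))
    rw [LocalizedModule.map_mk, LocalizedModule.map_mk, LocalizedModule.map_mk]
    rfl

lemma Loc.map_zero {M N : ModuleCat.{u} R} : Loc.map S (0 : M ⟶ N) = 0 := by
  apply ModuleCat.hom_ext
  apply LinearMap.ext
  intro x
  induction x using LocalizedModule.induction_on with
  | h m s =>
    change LocalizedModule.map S (0 : M ⟶ N).hom (LocalizedModule.mk m s) = 0
    rw [LocalizedModule.map_mk]
    exact LocalizedModule.zero_mk s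

/-- the localized short complex. -/
noncomputable abbrev locSC (T : ShortComplex (ModuleCat.{u} R)) : ShortComplex (ModuleCat.{u} R) :=
  ShortComplex.mk (Loc.map S T.f) (Loc.map S T.g) (by
    rw [← Loc.map_comp, T.zero, Loc.map_zero])

lemma locSC_shortExact {T : ShortComplex (ModuleCat.{u} R)} (hT : T.ShortExact) :
    (locSC S T).ShortExact := by
  apply ModuleCat.shortComplex_shortExact
  · exact LocalizedModule.map_exact S T.f.hom T.g.hom
      ((ShortComplex.ShortExact.moduleCat_exact_iff_function_exact T).1 hT.exact)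
  · exact LocalizedModule.map_injective S T.f.hom hT.moduleCat_injective_f
  · exact LocalizedModule.map_surjective S T.g.hom hT.moduleCat_surjective_g

/-- the localization map of short complexes. -/
noncomputable def locSCι (T : ShortComplex (ModuleCat.{u} R)) : T ⟶ locSC S T where
  τ₁ := Loc.ι S T.X₁
  τ₂ := Loc.ι S T.X₂
  τ₃ := Loc.ι S T.X₃
  comm₁₂ := (Loc.ι_naturality S T.f).symm
  comm₂₃ := (Loc.ι_naturality S T.g).symm

variable [IsNoetherianRing R] (I : Ideal R)

lemma subsingleton_HH_loc_of_injective (E : ModuleCat.{u} R) (hE : Injective E) (i : ℕ) :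
    Subsingleton (HH I (Loc S E) (i + 1)) := by
  have : IsNoetherianRing (Localization S) :=
    IsLocalization.isNoetherianRing S (Localization S) inferInstance
  have h1 : Module.Injective R E := Module.injective_module_of_injective_object R E
  have h2 : Module.Injective (Localization S) (LocalizedModule S E) :=
    Module.injective_of_isLocalizedModule S (LocalizedModule.mkLinearMap S E)
  exact Groth.Agent.Lib.Helper20.LCIndep.subsingleton_HH_of_injective_algebra
    (Localization S) I (LocalizedModule S E) i

section aux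

variable {T : ShortComplex (ModuleCat.{u} R)} (hT : T.ShortExact) (i : ℕ)

/-- the connecting map of the localized sequence. -/
noncomputable def δloc : HH I (Loc S T.X₃) i →ₗ[R] HH I (Loc S T.X₁) (i + 1) :=
  HH.δ I (locSC_shortExact S hT) i

include hT in
lemma loc_map_f_injective : Function.Injective (HH.map I (Loc.map S T.f) 0) := by
  intro x y hxy
  exact HH.map_f_injective_zero I (locSC_shortExact S hT) hxy

lemma loc_map_g_map_f (x : HH I (Loc S T.X₁) i) :
    HH.map I (Loc.map S T.g) i (HH.map I (Loc.map S T.f) i x) = 0 :=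
  HH.map_g_map_f (S := locSC S T) I i x

include hT in
lemma loc_exact₂ (x : HH I (Loc S T.X₂) i) (hx : HH.map I (Loc.map S T.g) i x = 0) :
    ∃ y, HH.map I (Loc.map S T.f) i y = x :=
  HH.exact₂ I (locSC_shortExact S hT) i x hx

lemma loc_δ_map_g (x : HH I (Loc S T.X₂) i) :
    δloc S I hT i (HH.map I (Loc.map S T.g) i x) = 0 :=
  HH.δ_map_g I (locSC_shortExact S hT) i x

lemma loc_exact₃ (x : HH I (Loc S T.X₃) i) (hx : δloc S I hT i x = 0) :
    ∃ y, HH.map I (Loc.map S T.g) i y = x :=
  HH.exact₃ I (locSC_shortExact S hT) i x hx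

lemma loc_map_f_δ (x : HH I (Loc S T.X₃) i) :
    HH.map I (Loc.map S T.f) (i + 1) (δloc S I hT i x) = 0 :=
  HH.map_f_δ I (locSC_shortExact S hT) i x

lemma loc_exact₁ (x : HH I (Loc S T.X₁) (i + 1))
    (hx : HH.map I (Loc.map S T.f) (i + 1) x = 0) : ∃ y, δloc S I hT i y = x :=
  HH.exact₁ I (locSC_shortExact S hT) i x hx

lemma loc_comm_δ (x : HH I T.X₃ i) :
    HH.map I (Loc.ι S T.X₁) (i + 1) (HH.δ I hT i x) =
      δloc S I hT i (HH.map I (Loc.ι S T.X₃) i x) :=
  (δ_naturality I hT (locSC_shortExact S hT) (locSCι S T) i x).symm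

end aux

/-- `M ↦ HH I (S⁻¹ M)` as a `DF`. -/
noncomputable def dfLoc : DF R where
  T M i := ModuleCat.of R (HH I (Loc S M) i)
  map g i := HH.map I (Loc.map S g) i
  δ hT i := δloc S I hT i
  map_f_injective hT := loc_map_f_injective S I hT
  map_g_map_f hT i x := loc_map_g_map_f S I i x
  exact₂ hT i x hx := loc_exact₂ S I hT i x hx
  δ_map_g hT i x := loc_δ_map_g S I hT i x
  exact₃ hT i x hx := loc_exact₃ S I hT i x hx
  map_f_δ hT i x := loc_map_f_δ S I hT i x
  exact₁ hT i x hx := loc_exact₁ S I hT i x hx
  vanish E hE i := subsingleton_HH_loc_of_injective S I E hE i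

/-- the localization map as a morphism of δ-functors. -/
noncomputable def locHom : DFHom (dfHH I) (dfLoc S I) where
  app M i := HH.map I (Loc.ι S M) i
  naturality g i x := by
    change HH.map I (Loc.ι S _) i (HH.map I g i x) = HH.map I (Loc.map S g) i (HH.map I (Loc.ι S _) i x)
    rw [← HH.map_comp, ← HH.map_comp, Loc.ι_naturality]
  comm_δ {T} hT i x := loc_comm_δ S I hT i x

end Groth.Agent.Lib.Helper20.LCDeltaHH
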