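import Mathlib
import Groth.Agent.Lib.Helper20.HTMain2
import Groth.Agent.Lib.Helper20.LCDeltaLoc

/-!
# `H^i_T` as a δ-functor; extension of supports; the localized variant
-/

set_option autoImplicit false
set_option linter.style.haveILetI false
set_option linter.unusedSectionVars false
set_option linter.unusedVariables false
set_option maxHeartbeats 400000

open CategoryTheory Limits Opposite Abelian

universe u

namespace Groth.Agent.Lib.Helper20.Falt

open Groth.Agent.Lib.Helper20.HTModel Groth.Agent.Lib.Helper20.LCDelta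
  Groth.Agent.Lib.Helper20.LCDeltaHH Groth.Agent.Lib.Helper4

variable {R : Type u} [CommRing R]

/-! ### vanishing on injectives, naturality of `δ` -/

lemma subsingleton_HHT_of_injective (T : Set (PrimeSpectrum R)) (E : ModuleCat.{u} R)
    [Injective E] (i : ℕ) : Subsingleton (HHT T E (i + 1)) := by
  refine ⟨fun a b => ?_⟩
  have key : ∀ x : HHT T E (i + 1), x = 0 := by
    intro x
    obtain ⟨n, y, rfl⟩ := HHT.exists_of T E (i + 1) x
    rw [Ext.eq_zero_of_injective y, map_zero]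
  rw [key a, key b]

lemma HHT_δ_naturality (T : Set (PrimeSpectrum R)) {S₁ S₂ : ShortComplex (ModuleCat.{u} R)}
    (h₁ : S₁.ShortExact) (h₂ : S₂.ShortExact) (φ : S₁ ⟶ S₂) (i : ℕ) (x : HHT T S₁.X₃ i) :
    HHT.δ T h₂ i (HHT.map T φ.τ₃ i x) = HHT.map T φ.τ₁ (i + 1) (HHT.δ T h₁ i x) := by
  obtain ⟨n, y, rfl⟩ := HHT.exists_of T S₁.X₃ i x
  rw [HHT.map_of, HHT.δ_of, HHT.δ_of, HHT.map_of]
  congr 1
  rw [Ext.comp_assoc y (Ext.mk₀ φ.τ₃) h₂.extClass (add_zero i) (zero_add 1) (by omega),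
    ← ShortComplex.ShortExact.extClass_naturality h₁ h₂ φ,
    ← Ext.comp_assoc y h₁.extClass (Ext.mk₀ φ.τ₁) rfl (add_zero 1) (by omega)]

/-- `H^i_T` as a `DF`. -/
noncomputable def dfHT (T : Set (PrimeSpectrum R)) : DF R where
  T M i := ModuleCat.of R (HHT T M i)
  map g i := HHT.map T g i
  δ hS i := HHT.δ T hS i
  map_f_injective hS := HHT.map_f_injective_zero T hS
  map_g_map_f hS i x := HHT.map_g_map_f T i x
  exact₂ hS i x hx := HHT.exact₂ T hS i x hx
  δ_map_g hS i x := HHT.δ_map_g T hS i x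
  exact₃ hS i x hx := HHT.exact₃ T hS i x hx
  map_f_δ hS i x := HHT.map_f_δ T hS i x
  exact₁ hS i x hx := HHT.exact₁ T hS i x hx
  vanish E hE i := by
    have := hE
    exact subsingleton_HHT_of_injective T E i

/-! ### extension of supports -/

section ext

variable {T₁ T₂ T₃ : Set (PrimeSpectrum R)} (h : T₁ ⊆ T₂)

/-- an index for `T₁` is an index for `T₂ ⊇ T₁`. -/
def incl (a : Idx T₁) : Idx T₂ := ⟨a.J, a.hJ.trans h⟩

lemma incl_mono {a b : Idx T₁} (hab : a ≤ b) : incl h a ≤ incl h b := hab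

variable (M : ModuleCat.{u} R) (i : ℕ)

/-- extension of supports `H^i_{T₁}(M) → H^i_{T₂}(M)`. -/
noncomputable def extSupp : HHT T₁ M i →ₗ[R] HHT T₂ M i :=
  Module.DirectLimit.lift R (Idx T₁) (fun a : Idx T₁ => Ext.{u} (Q a) M i) (trF T₁ M i)
    (fun a => HHT.of T₂ M i (incl h a))
    (fun a b hab y => HHT.of_tr T₂ M i (incl_mono h hab) y)

lemma extSupp_of (a : Idx T₁) (y : Ext.{u} (Q a) M i) :
    extSupp h M i (HHT.of T₁ M i a y) = HHT.of T₂ M i (incl h a) y :=
  Module.DirectLimit.lift_of (f := trF T₁ M i) _ _ y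

variable {M}

lemma extSupp_map {M' : ModuleCat.{u} R} (g : M ⟶ M') (x : HHT T₁ M i) :
    extSupp h M' i (HHT.map T₁ g i x) = HHT.map T₂ g i (extSupp h M i x) := by
  obtain ⟨a, y, rfl⟩ := HHT.exists_of T₁ M i x
  rw [HHT.map_of, extSupp_of, extSupp_of, HHT.map_of]
  rfl

lemma extSupp_δ {S : ShortComplex (ModuleCat.{u} R)} (hS : S.ShortExact) (x : HHT T₁ S.X₃ i) :
    extSupp h S.X₁ (i + 1) (HHT.δ T₁ hS i x) = HHT.δ T₂ hS i (extSupp h S.X₃ i x) := by
  obtain ⟨a, y, rfl⟩ := HHT.exists_of T₁ S.X₃ i x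
  rw [HHT.δ_of, extSupp_of, extSupp_of, HHT.δ_of]
  rfl

variable (M)

lemma HHT0_extSupp (x : HHT T₁ M 0) : HHT0 T₂ M (extSupp h M 0 x) = HHT0 T₁ M x := by
  obtain ⟨a, y, rfl⟩ := HHT.exists_of T₁ M 0 x
  rw [extSupp_of, HHT0_of, HHT0_of]
  rfl

lemma extSupp_injective_zero : Function.Injective (extSupp h M 0) := by
  intro x y hxy
  apply HHT0_injective T₁ M
  rw [← HHT0_extSupp h, ← HHT0_extSupp h, hxy]

lemma extSupp_comp (h' : T₂ ⊆ T₃) (x : HHT T₁ M i) :
    extSupp h' M i (extSupp h M i x) = extSupp (h.trans h') M i x := by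
  obtain ⟨a, y, rfl⟩ := HHT.exists_of T₁ M i x
  rw [extSupp_of, extSupp_of, extSupp_of]
  rfl

/-- extension of supports as a morphism of δ-functors. -/
noncomputable def extHom : DFHom (dfHT T₁) (dfHT T₂) where
  app M i := extSupp h M i
  naturality g i x := extSupp_map h i g x
  comm_δ hS i x := extSupp_δ h i hS x

end ext

/-! ### reduction of vanishing to the ideal-adic case -/

lemma subsingleton_HHT_of_HH (T : Set (PrimeSpectrum R)) (N : ModuleCat.{u} R) (i : ℕ)
    (hN : ∀ a : Idx T, Subsingleton (LC.HH a.J N i)) : Subsingleton (HHT T N i) := by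
  refine ⟨fun p q => ?_⟩
  have key : ∀ x : HHT T N i, x = 0 := by
    intro x
    obtain ⟨a, y, rfl⟩ := HHT.exists_of T N i x
    have hsub := hN a
    have hle1 : a ≤ a.pow 1 one_pos := by
      change a.J ^ 1 ≤ a.J
      rw [pow_one]
    have h0 : LC.HH.of a.J N i 1 (tr T N i hle1 y) = 0 := Subsingleton.elim _ _
    rw [LC.HH.of_eq_zero_iff] at h0
    obtain ⟨m, hm, h1⟩ := h0
    have hlem : a.pow 1 one_pos ≤ a.pow m (by omega) := by
      change a.J ^ m ≤ a.J ^ 1
      exact Ideal.pow_le_pow_right hm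
    have h2 : tr T N i hlem (tr T N i hle1 y) = 0 := h1
    rw [← HHT.of_tr T N i hle1, ← HHT.of_tr T N i hlem, h2, map_zero]
  rw [key p, key q]

/-- if every index contains an element acting bijectively on `N`, then `H^i_T(N) = 0`. -/
lemma subsingleton_HHT_of_bijective (T : Set (PrimeSpectrum R)) (N : Type u) [AddCommGroup N]
    [Module R N] (hN : ∀ a : Idx T, ∃ f ∈ a.J, Function.Bijective (fun x : N => f • x)) (i : ℕ) :
    Subsingleton (HHT T (ModuleCat.of R N) i) := by
  refine ⟨fun p q => ?_⟩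
  have key : ∀ x : HHT T (ModuleCat.of R N) i, x = 0 := by
    intro x
    obtain ⟨a, ha⟩ := HHT.exists_smul_eq_zero T i x
    obtain ⟨f, hf, hbij⟩ := hN a
    let e : N ≃ₗ[R] N := LinearEquiv.ofBijective (LinearMap.lsmul R N f) hbij
    have he : e.toModuleIso.hom = f • 𝟙 (ModuleCat.of R N) := rfl
    have h0 : f • x = 0 := ha f hf
    rw [HHT.smul_eq_map, ← he] at h0
    have := (HHT.mapIso T e.toModuleIso i).injective (a₁ := x) (a₂ := 0)
      (by
        change HHT.map T e.toModuleIso.hom i x = HHT.map T e.toModuleIso.hom i 0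
        rw [h0, map_zero])
    exact this
  rw [key p, key q]

/-! ### the localized δ-functor `M ↦ H^i_T(S⁻¹M)` -/

section loc

variable (S : Submonoid R) (T : Set (PrimeSpectrum R)) [IsNoetherianRing R]

lemma subsingleton_HHT_loc_of_injective (E : ModuleCat.{u} R) (hE : Injective E) (i : ℕ) :
    Subsingleton (HHT T (Loc S E) (i + 1)) :=
  subsingleton_HHT_of_HH T (Loc S E) (i + 1)
    (fun a => subsingleton_HH_loc_of_injective S a.J E hE i)

section aux

variable {S' : ShortComplex (ModuleCat.{u} R)} (hS : S'.ShortExact) (i : ℕ)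

/-- the connecting map of the localized sequence. -/
noncomputable def δlocT : HHT T (Loc S S'.X₃) i →ₗ[R] HHT T (Loc S S'.X₁) (i + 1) :=
  HHT.δ T (locSC_shortExact S hS) i

include hS in
lemma locT_map_f_injective : Function.Injective (HHT.map T (Loc.map S S'.f) 0) := by
  intro x y hxy
  exact HHT.map_f_injective_zero T (locSC_shortExact S hS) hxy

lemma locT_map_g_map_f (x : HHT T (Loc S S'.X₁) i) :
    HHT.map T (Loc.map S S'.g) i (HHT.map T (Loc.map S S'.f) i x) = 0 :=
  HHT.map_g_map_f (S := locSC S S') T i x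

include hS in
lemma locT_exact₂ (x : HHT T (Loc S S'.X₂) i) (hx : HHT.map T (Loc.map S S'.g) i x = 0) :
    ∃ y, HHT.map T (Loc.map S S'.f) i y = x :=
  HHT.exact₂ T (locSC_shortExact S hS) i x hx

lemma locT_δ_map_g (x : HHT T (Loc S S'.X₂) i) :
    δlocT S T hS i (HHT.map T (Loc.map S S'.g) i x) = 0 :=
  HHT.δ_map_g T (locSC_shortExact S hS) i x

lemma locT_exact₃ (x : HHT T (Loc S S'.X₃) i) (hx : δlocT S T hS i x = 0) :
    ∃ y, HHT.map T (Loc.map S S'.g) i y = x :=
  HHT.exact₃ T (locSC_shortExact S hS) i x hx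

lemma locT_map_f_δ (x : HHT T (Loc S S'.X₃) i) :
    HHT.map T (Loc.map S S'.f) (i + 1) (δlocT S T hS i x) = 0 :=
  HHT.map_f_δ T (locSC_shortExact S hS) i x

lemma locT_exact₁ (x : HHT T (Loc S S'.X₁) (i + 1))
    (hx : HHT.map T (Loc.map S S'.f) (i + 1) x = 0) : ∃ y, δlocT S T hS i y = x :=
  HHT.exact₁ T (locSC_shortExact S hS) i x hx

lemma locT_comm_δ (x : HHT T S'.X₃ i) :
    HHT.map T (Loc.ι S S'.X₁) (i + 1) (HHT.δ T hS i x) =
      δlocT S T hS i (HHT.map T (Loc.ι S S'.X₃) i x) :=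
  (HHT_δ_naturality T hS (locSC_shortExact S hS) (locSCι S S') i x).symm

end aux

/-- `M ↦ H^i_T(S⁻¹ M)` as a `DF`. -/
noncomputable def dfHTLoc : DF R where
  T M i := ModuleCat.of R (HHT T (Loc S M) i)
  map g i := HHT.map T (Loc.map S g) i
  δ hS i := δlocT S T hS i
  map_f_injective hS := locT_map_f_injective S T hS
  map_g_map_f hS i x := locT_map_g_map_f S T i x
  exact₂ hS i x hx := locT_exact₂ S T hS i x hx
  δ_map_g hS i x := locT_δ_map_g S T hS i x
  exact₃ hS i x hx := locT_exact₃ S T hS i x hx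
  map_f_δ hS i x := locT_map_f_δ S T hS i x
  exact₁ hS i x hx := locT_exact₁ S T hS i x hx
  vanish E hE i := subsingleton_HHT_loc_of_injective S T E hE i

/-- the localization map as a morphism of δ-functors. -/
noncomputable def locHomT : DFHom (dfHT T) (dfHTLoc S T) where
  app M i := HHT.map T (Loc.ι S M) i
  naturality g i x := by
    change HHT.map T (Loc.ι S _) i (HHT.map T g i x) =
      HHT.map T (Loc.map S g) i (HHT.map T (Loc.ι S _) i x)
    rw [← HHT.map_comp, ← HHT.map_comp, Loc.ι_naturality]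
  comm_δ hS i x := locT_comm_δ S T hS i x

end loc

end Groth.Agent.Lib.Helper20.Falt
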