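import Mathlib
import Groth.Agent.Lib.Helper20.FaltDF
import Groth.Agent.Lib.Helper20.LCIndep

/-!
# Comparison of `H^i_{pR_p}(N)` (over `R_p`) with `H^i_T(N)` (over `R`) for `p` minimal in `T`
-/

set_option autoImplicit false
set_option linter.style.haveILetI false
set_option linter.unusedSectionVars false
set_option linter.unusedVariables false
set_option maxHeartbeats 400000

open CategoryTheory Limits Opposite Abelian

universe u

namespace Groth.Agent.Lib.Helper20.Falt

open Groth.Agent.Lib.Helper20.HTModel Groth.Agent.Lib.Helper20.LCDelta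
  Groth.Agent.Lib.Helper20.LCDeltaHH Groth.Agent.Lib.Helper4

/-- a morphism of modules from an additive map commuting with scalars. -/
def homOfAddHom {R : Type u} [CommRing R] {A B : ModuleCat.{u} R} (f : A →+ B)
    (h : ∀ (r : R) (a : A), f (r • a) = r • f a) : A ⟶ B :=
  ModuleCat.ofHom { toFun := f, map_add' := f.map_add, map_smul' := h }

lemma homOfAddHom_apply {R : Type u} [CommRing R] {A B : ModuleCat.{u} R} (f : A →+ B)
    (h : ∀ (r : R) (a : A), f (r • a) = r • f a) (a : A) : (homOfAddHom f h).hom a = f a := rfl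

/-- an isomorphism of modules from an additive equivalence commuting with scalars. -/
def isoOfAddEquiv {R : Type u} [CommRing R] {A B : ModuleCat.{u} R} (e : A ≃+ B)
    (h : ∀ (r : R) (a : A), e (r • a) = r • e a) : A ≅ B :=
  LinearEquiv.toModuleIso (e.toLinearEquiv h)

lemma isoOfAddEquiv_hom_apply {R : Type u} [CommRing R] {A B : ModuleCat.{u} R} (e : A ≃+ B)
    (h : ∀ (r : R) (a : A), e (r • a) = r • e a) (a : A) :
    (isoOfAddEquiv e h).hom.hom a = e a := rfl

variable {R : Type u} [CommRing R] (p : PrimeSpectrum R)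

/-- the local ring at `p`. -/
abbrev Rp : Type u := Localization.AtPrime p.asIdeal

/-- its maximal ideal. -/
abbrev mP : Ideal (Rp p) := IsLocalRing.maximalIdeal (Rp p)

/-- restriction of scalars to `R`. -/
noncomputable abbrev rs : ModuleCat.{u} (Rp p) ⥤ ModuleCat.{u} R :=
  ModuleCat.restrictScalars (algebraMap R (Rp p))

/-- the contraction of `𝔪^n`. -/
def Jn (n : ℕ) : Ideal R := Ideal.comap (algebraMap R (Rp p)) (mP p ^ n)

lemma pow_le_Jn (n : ℕ) : p.asIdeal ^ n ≤ Jn p n := by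
  apply Ideal.le_comap_of_map_le
  rw [Ideal.map_pow, Localization.AtPrime.map_eq_maximalIdeal]

lemma Jn_anti {n m : ℕ} (h : n ≤ m) : Jn p m ≤ Jn p n :=
  Ideal.comap_mono (Ideal.pow_le_pow_right h)

variable (T : Set (PrimeSpectrum R)) (hT : StableUnderSpecialization T) (hp : p ∈ T)

/-- the index `J_n`. -/
def idxN (n : ℕ) : Idx T := ⟨Jn p n, by
  intro q hq
  rw [PrimeSpectrum.mem_zeroLocus, SetLike.coe_subset_coe] at hq
  have h1 : p.asIdeal ≤ q.asIdeal := Ideal.IsPrime.le_of_pow_le ((pow_le_Jn p n).trans hq)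
  exact hT ((PrimeSpectrum.le_iff_specializes p q).1 h1) hp⟩

lemma idxN_mono {n m : ℕ} (h : n ≤ m) : idxN p T hT hp n ≤ idxN p T hT hp m := Jn_anti p h

/-- `R/J_n → R_p/𝔪^n`. -/
noncomputable def θ (n : ℕ) : Q (idxN p T hT hp n) ⟶ (rs p).obj (LC.Q (mP p) n) :=
  homOfAddHom (A := Q (idxN p T hT hp n)) (B := (rs p).obj (LC.Q (mP p) n))
    ((Ideal.quotientMap (mP p ^ n) (algebraMap R (Rp p))
      (le_refl (Jn p n))).toAddMonoidHom)
    (by
      intro r a
      obtain ⟨x, rfl⟩ := Submodule.Quotient.mk_surjective _ a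
      change Ideal.quotientMap (mP p ^ n) (algebraMap R (Rp p)) (le_refl (Jn p n))
          (Ideal.Quotient.mk (Jn p n) (r * x)) =
        algebraMap R (Rp p) r • Ideal.quotientMap (mP p ^ n) (algebraMap R (Rp p))
          (le_refl (Jn p n)) (Ideal.Quotient.mk (Jn p n) x)
      rw [Ideal.quotientMap_mk, Ideal.quotientMap_mk, map_mul, map_mul]
      rfl)

lemma θ_apply (n : ℕ) (r : R) :
    (θ p T hT hp n).hom (Submodule.Quotient.mk r) =
      (Submodule.Quotient.mk (algebraMap R (Rp p) r) : Rp p ⧸ mP p ^ n) := rfl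

lemma θ_comm {n m : ℕ} (h : n ≤ m) :
    θ p T hT hp m ≫ (rs p).map (LC.qmap (mP p) h) =
      qmap (idxN_mono p T hT hp h) ≫ θ p T hT hp n := by
  apply ModuleCat.hom_ext
  apply LinearMap.ext
  intro x
  obtain ⟨r, rfl⟩ := Submodule.Quotient.mk_surjective _ x
  rfl

/-- the comparison map on the stage `n`. -/
noncomputable def σ (n : ℕ) (N : ModuleCat.{u} (Rp p)) (i : ℕ)
    (y : Ext.{u} (LC.Q (mP p) n) N i) : Ext.{u} (Q (idxN p T hT hp n)) ((rs p).obj N) i :=
  (Ext.mk₀ (θ p T hT hp n)).comp (y.mapExactFunctor (rs p)) (zero_add i)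

lemma σ_zero (n : ℕ) (N : ModuleCat.{u} (Rp p)) (i : ℕ) :
    σ p T hT hp n N i 0 = 0 := by
  unfold σ
  rw [Ext.mapExactFunctor_zero, Ext.comp_zero]

lemma σ_comp (n : ℕ) {N N' : ModuleCat.{u} (Rp p)} {i k j : ℕ}
    (y : Ext.{u} (LC.Q (mP p) n) N i) (β : Ext.{u} N N' k) (h : i + k = j) :
    σ p T hT hp n N' j (y.comp β h) =
      (σ p T hT hp n N i y).comp (β.mapExactFunctor (rs p)) h := by
  unfold σ
  rw [Ext.mapExactFunctor_comp]
  exact (Ext.comp_assoc (Ext.mk₀ (θ p T hT hp n)) (y.mapExactFunctor (rs p))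
    (β.mapExactFunctor (rs p)) (zero_add i) h (by omega)).symm

lemma σ_post (n : ℕ) {N N' : ModuleCat.{u} (Rp p)} (i : ℕ)
    (y : Ext.{u} (LC.Q (mP p) n) N i) (g : N ⟶ N') :
    σ p T hT hp n N' i (y.comp (Ext.mk₀ g) (add_zero i)) =
      (σ p T hT hp n N i y).comp (Ext.mk₀ ((rs p).map g)) (add_zero i) := by
  rw [σ_comp, Ext.mapExactFunctor_mk₀]

lemma σ_tr {n m : ℕ} (h : n ≤ m) (N : ModuleCat.{u} (Rp p)) (i : ℕ)
    (y : Ext.{u} (LC.Q (mP p) n) N i) :
    σ p T hT hp m N i (LC.tr (mP p) N i h y) =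
      tr T ((rs p).obj N) i (idxN_mono p T hT hp h) (σ p T hT hp n N i y) := by
  unfold σ
  rw [LC.tr_apply, tr_apply, Ext.mapExactFunctor_comp, Ext.mapExactFunctor_mk₀,
    Ext.mk₀_comp_mk₀_assoc, Ext.mk₀_comp_mk₀_assoc, θ_comm]

lemma σ_of_eq_zero (n : ℕ) (N : ModuleCat.{u} (Rp p)) (i : ℕ)
    (y : Ext.{u} (LC.Q (mP p) n) N i) (h0 : LC.HH.of (mP p) N i n y = 0) :
    HHT.of T ((rs p).obj N) i (idxN p T hT hp n) (σ p T hT hp n N i y) = 0 := by
  rw [LC.HH.of_eq_zero_iff] at h0
  obtain ⟨m, hm, h1⟩ := h0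
  rw [← HHT.of_tr T ((rs p).obj N) i (idxN_mono p T hT hp hm), ← σ_tr p T hT hp hm, h1, σ_zero,
    map_zero]

section surj

variable [IsNoetherianRing R] (hmin : ∀ q ∈ T, q ≤ p → q = p)

include hmin in
lemma exists_pow_le_map (a : Idx T) : ∃ n : ℕ, mP p ^ n ≤ a.J.map (algebraMap R (Rp p)) := by
  haveI : IsNoetherianRing (Rp p) :=
    IsLocalization.isNoetherianRing p.asIdeal.primeCompl (Rp p) inferInstance
  by_cases h : a.J ≤ p.asIdeal
  · have hmem : p.asIdeal ∈ a.J.minimalPrimes := by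
      refine ⟨⟨p.isPrime, h⟩, fun q' hq' hq'p => ?_⟩
      have hq'T : (⟨q', hq'.1⟩ : PrimeSpectrum R) ∈ T := by
        apply a.hJ
        rw [PrimeSpectrum.mem_zeroLocus, SetLike.coe_subset_coe]
        exact hq'.2
      have heq : (⟨q', hq'.1⟩ : PrimeSpectrum R) = p := hmin _ hq'T hq'p
      rw [← heq]
    have hrad := IsLocalization.AtPrime.radical_map_of_mem_minimalPrimes (A := Rp p)
      p.asIdeal a.J hmem
    rw [Localization.AtPrime.map_eq_maximalIdeal] at hrad
    exact Ideal.exists_pow_le_of_le_radical_of_fg (le_of_eq hrad.symm)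
      (IsNoetherian.noetherian _)
  · obtain ⟨f, hfJ, hfp⟩ := SetLike.not_le_iff_exists.1 h
    refine ⟨0, ?_⟩
    have htop : a.J.map (algebraMap R (Rp p)) = ⊤ :=
      Ideal.eq_top_of_isUnit_mem _ (Ideal.mem_map_of_mem _ hfJ)
        (IsLocalization.map_units (Rp p) (⟨f, hfp⟩ : p.asIdeal.primeCompl))
    rw [htop]
    exact le_top

include hmin in
/-- every class of `H^i_T(N|_R)` comes from `H^i_{𝔪}(N)`. -/
theorem σ_surj : ∀ (i : ℕ) (N : ModuleCat.{u} (Rp p)) (x : HHT T ((rs p).obj N) i),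
    ∃ (n : ℕ) (y : Ext.{u} (LC.Q (mP p) n) N i),
      HHT.of T ((rs p).obj N) i (idxN p T hT hp n) (σ p T hT hp n N i y) = x := by
  haveI : IsNoetherianRing (Rp p) :=
    IsLocalization.isNoetherianRing p.asIdeal.primeCompl (Rp p) inferInstance
  intro i
  induction i with
  | zero =>
    intro N x
    obtain ⟨a, y, rfl⟩ := HHT.exists_of T ((rs p).obj N) 0 x
    obtain ⟨φ, rfl⟩ := (Ext.mk₀_bijective (Q a) ((rs p).obj N)).2 y
    set m : N := φ.hom (Submodule.Quotient.mk (1 : R)) with hm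
    have hkill : ∀ r ∈ a.J, algebraMap R (Rp p) r • m = 0 := by
      intro r hr
      have h1 : (r • φ.hom (Submodule.Quotient.mk (1 : R)) : ((rs p).obj N)) = 0 := by
        rw [← map_smul, ← Submodule.Quotient.mk_smul, smul_eq_mul, mul_one,
          (Submodule.Quotient.mk_eq_zero _).2 hr, map_zero]
      exact h1
    obtain ⟨n, hn⟩ := exists_pow_le_map p T hmin a
    have hmap : ∀ b ∈ a.J.map (algebraMap R (Rp p)), b • m = 0 := by
      intro b hb
      rw [Ideal.map] at hb
      induction hb using Submodule.span_induction with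
      | mem x hx =>
        obtain ⟨r, hr, rfl⟩ := hx
        exact hkill r hr
      | zero => rw [zero_smul]
      | add x y _ _ hx hy => rw [add_smul, hx, hy, add_zero]
      | smul c x _ hx => rw [smul_eq_mul, mul_smul, hx, smul_zero]
    have hkill' : ∀ b ∈ mP p ^ n, b • m = 0 := fun b hb => hmap b (hn hb)
    let φ' : LC.Q (mP p) n ⟶ N := ModuleCat.ofHom
      (Submodule.liftQ (mP p ^ n) (LinearMap.toSpanSingleton (Rp p) N m) (by
        intro b hb
        rw [LinearMap.mem_ker, LinearMap.toSpanSingleton_apply]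
        exact hkill' b hb))
    refine ⟨n, Ext.mk₀ φ', ?_⟩
    apply HHT0_injective T ((rs p).obj N)
    unfold σ
    rw [Ext.mapExactFunctor_mk₀, Ext.mk₀_comp_mk₀, HHT0_of, HHT0_of, ev0_mk₀, ev0_mk₀]
    change φ'.hom ((θ p T hT hp n).hom (Submodule.Quotient.mk (1 : R))) = m
    rw [θ_apply, map_one]
    change Submodule.liftQ (mP p ^ n) (LinearMap.toSpanSingleton (Rp p) N m) _
      (Submodule.Quotient.mk 1) = m
    rw [Submodule.liftQ_apply, LinearMap.toSpanSingleton_apply, one_smul]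
  | succ i ih =>
    intro N x
    have hS := ses_shortExact N
    have hE := ses_injective N
    have hS' : ((ses N).map (rs p)).ShortExact := hS.map_of_exact (rs p)
    have hvan : Subsingleton (HHT T ((ses N).map (rs p)).X₂ (i + 1)) := by
      apply subsingleton_HHT_of_HH
      intro a
      letI : Module R (ses N).X₂ := Module.compHom (ses N).X₂ (algebraMap R (Rp p))
      haveI : IsScalarTower R (Rp p) (ses N).X₂ :=
        IsScalarTower.of_algebraMap_smul (fun r x => rfl)
      haveI : Module.Injective (Rp p) (ses N).X₂ :=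
        Module.injective_module_of_injective_object (Rp p) (ses N).X₂
      exact Groth.Agent.Lib.Helper20.LCIndep.subsingleton_HH_of_injective_algebra
        (Rp p) a.J (ses N).X₂ i
    obtain ⟨x₃, hx₃⟩ := HHT.exact₁ T hS' i x (Subsingleton.elim _ _)
    obtain ⟨n, y₃, hy₃⟩ := ih (ses N).X₃ x₃
    refine ⟨n, y₃.comp hS.extClass rfl, ?_⟩
    have h1 : σ p T hT hp n (ses N).X₁ (i + 1) (y₃.comp hS.extClass rfl) =
        (σ p T hT hp n (ses N).X₃ i y₃).comp (hS.extClass.mapExactFunctor (rs p)) rfl :=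
      σ_comp p T hT hp n y₃ hS.extClass rfl
    rw [Ext.mapExactFunctor_extClass] at h1
    change HHT.of T ((ses N).map (rs p)).X₁ (i + 1) (idxN p T hT hp n)
      (σ p T hT hp n (ses N).X₁ (i + 1) (y₃.comp hS.extClass rfl)) = x
    rw [h1, ← hx₃, ← hy₃]
    exact (HHT.δ_of T hS' i _ _).symm

include hT hp hmin in
/-- **Transfer of vanishing** from `R_p` to `R`. -/
theorem transfer {N N' : ModuleCat.{u} (Rp p)} (g : N ⟶ N') (i : ℕ)
    (hg : ∀ z : LC.HH (mP p) N i, LC.HH.map (mP p) g i z = 0)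
    (x : HHT T ((rs p).obj N) i) : HHT.map T ((rs p).map g) i x = 0 := by
  obtain ⟨n, y, rfl⟩ := σ_surj p T hT hp hmin i N x
  rw [HHT.map_of, ← σ_post]
  apply σ_of_eq_zero
  rw [← LC.HH.map_of]
  exact hg _

/-- the two `R`-module structures on the localized module agree. -/
noncomputable def locIso (M : ModuleCat.{u} R) :
    Loc p.asIdeal.primeCompl M ≅
      (rs p).obj (ModuleCat.of (Rp p) (LocalizedModule p.asIdeal.primeCompl M)) :=
  isoOfAddEquiv (A := Loc p.asIdeal.primeCompl M)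
    (B := (rs p).obj (ModuleCat.of (Rp p) (LocalizedModule p.asIdeal.primeCompl M)))
    (AddEquiv.refl (LocalizedModule p.asIdeal.primeCompl M))
    (fun r a => (algebraMap_smul (Rp p) r a).symm)

lemma locIso_naturality {M M' : ModuleCat.{u} R} (g : M ⟶ M') :
    Loc.map p.asIdeal.primeCompl g ≫ (locIso p M').hom =
      (locIso p M).hom ≫
        (rs p).map (ModuleCat.ofHom (LocalizedModule.map p.asIdeal.primeCompl g.hom)) := by
  apply ModuleCat.hom_ext
  apply LinearMap.ext
  intro x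
  rfl

include hT hp hmin in
/-- **Transfer of vanishing**, for localized modules. -/
theorem transfer_loc {M M' : ModuleCat.{u} R} (g : M ⟶ M') (i : ℕ)
    (hg : ∀ z : LC.HH (mP p)
        (ModuleCat.of (Rp p) (LocalizedModule p.asIdeal.primeCompl M)) i,
      LC.HH.map (mP p)
        (ModuleCat.ofHom (LocalizedModule.map p.asIdeal.primeCompl g.hom)) i z = 0)
    (x : HHT T (Loc p.asIdeal.primeCompl M) i) :
    HHT.map T (Loc.map p.asIdeal.primeCompl g) i x = 0 := by
  have h1 : Loc.map p.asIdeal.primeCompl g =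
      (locIso p M).hom ≫
        (rs p).map (ModuleCat.ofHom (LocalizedModule.map p.asIdeal.primeCompl g.hom)) ≫
          (locIso p M').inv := by
    rw [← Category.assoc, ← locIso_naturality, Category.assoc, Iso.hom_inv_id, Category.comp_id]
  rw [h1, HHT.map_comp, HHT.map_comp, transfer p T hT hp hmin _ i hg, map_zero]

end surj

end Groth.Agent.Lib.Helper20.Falt
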