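import Mathlib
import Groth.Agent.Lib.Helper20.FaltSigma
import Groth.Agent.Lib.Helper20.LCFlat

/-!
# `H^i_{V(I)}` versus `H^i_I`, and annihilators under localization
-/

set_option autoImplicit false
set_option linter.style.haveILetI false
set_option linter.unusedSectionVars false
set_option linter.unusedVariables false
set_option maxHeartbeats 400000

open CategoryTheory Limits Opposite Abelian TensorProduct

universe u

namespace Groth.Agent.Lib.Helper20.Falt

open Groth.Agent.Lib.Helper20.HTModel Groth.Agent.Lib.Helper20.LCDelta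
  Groth.Agent.Lib.Helper20.LCDeltaHH Groth.Agent.Lib.Helper4

variable {R : Type u} [CommRing R]

section cmp

variable (I : Ideal R) (T : Set (PrimeSpectrum R))
  (hIT : PrimeSpectrum.zeroLocus (I : Set R) ⊆ T)

/-- the index `I ^ n`. -/
def idxPow (n : ℕ) : Idx T := ⟨I ^ n, by
  intro q hq
  apply hIT
  rw [PrimeSpectrum.mem_zeroLocus, SetLike.coe_subset_coe] at hq ⊢
  by_cases hn : n = 0
  · subst hn
    rw [pow_zero, Ideal.one_eq_top] at hq
    exact absurd (top_le_iff.1 hq) q.isPrime.ne_top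
  · exact (Ideal.IsPrime.pow_le_iff hn).1 hq⟩

lemma idxPow_mono {n m : ℕ} (h : n ≤ m) : idxPow I T hIT n ≤ idxPow I T hIT m :=
  Ideal.pow_le_pow_right h

variable (M : ModuleCat.{u} R) (i : ℕ)

/-- the comparison `H^i_I(M) → H^i_T(M)` for `V(I) ⊆ T`. -/
noncomputable def cmp : LC.HH I M i →ₗ[R] HHT T M i :=
  Module.DirectLimit.lift R ℕ (fun n : ℕ => Ext.{u} (LC.Q I n) M i) (LC.trF I M i)
    (fun n => HHT.of T M i (idxPow I T hIT n))
    (fun n m h y => HHT.of_tr T M i (idxPow_mono I T hIT h) y)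

lemma cmp_of (n : ℕ) (y : Ext.{u} (LC.Q I n) M i) :
    cmp I T hIT M i (LC.HH.of I M i n y) = HHT.of T M i (idxPow I T hIT n) y :=
  Module.DirectLimit.lift_of (f := LC.trF I M i) _ _ y

variable [IsNoetherianRing R] (hTI : T ⊆ PrimeSpectrum.zeroLocus (I : Set R))

include hTI in
lemma exists_pow_le_idx (a : Idx T) : ∃ m : ℕ, I ^ m ≤ a.J := by
  have h1 : I ≤ a.J.radical := by
    rw [← PrimeSpectrum.zeroLocus_subset_zeroLocus_iff]
    exact a.hJ.trans hTI
  exact Ideal.exists_pow_le_of_le_radical_of_fg h1 (IsNoetherian.noetherian _)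

include hTI in
lemma cmp_injective : Function.Injective (cmp I T hIT M i) := by
  rw [injective_iff_map_eq_zero]
  intro x hx
  obtain ⟨n, y, rfl⟩ := LC.HH.exists_of I M i x
  rw [cmp_of, HHT.of_eq_zero_iff] at hx
  obtain ⟨b, hb, h0⟩ := hx
  obtain ⟨m, hm⟩ := exists_pow_le_idx I T hTI b
  have hbm : b ≤ idxPow I T hIT (max m n) :=
    (Ideal.pow_le_pow_right (le_max_left m n)).trans hm
  have hnm : n ≤ max m n := le_max_right m n
  rw [LC.HH.of_eq_zero_iff]
  refine ⟨max m n, hnm, ?_⟩
  have h1 : tr T M i hbm (tr T M i hb y) = 0 := by rw [h0, map_zero]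
  rw [tr_apply, tr_apply, Ext.mk₀_comp_mk₀_assoc, qmap_comp] at h1
  exact h1

include hTI in
lemma cmp_surjective : Function.Surjective (cmp I T hIT M i) := by
  intro x
  obtain ⟨a, y, rfl⟩ := HHT.exists_of T M i x
  obtain ⟨m, hm⟩ := exists_pow_le_idx I T hTI a
  have ham : a ≤ idxPow I T hIT m := hm
  refine ⟨LC.HH.of I M i m (tr T M i ham y), ?_⟩
  rw [cmp_of, HHT.of_tr]

include hIT hTI in
lemma kills_HH_iff (a : R) :
    (∀ z : LC.HH I M i, a • z = 0) ↔ ∀ x : HHT T M i, a • x = 0 := by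
  constructor
  · intro h x
    obtain ⟨z, rfl⟩ := cmp_surjective I T hIT M i hTI x
    rw [← map_smul, h z, map_zero]
  · intro h z
    apply cmp_injective I T hIT M i hTI
    rw [map_smul, h, map_zero]

end cmp

section loc

variable [IsNoetherianRing R] (q : PrimeSpectrum R)

/-- annihilators pass to the localization at `q` of `H^i_q`. -/
theorem kills_loc (M : Type u) [AddCommGroup M] [Module R M] (i : ℕ) (a : R)
    (h : ∀ z : LC.HH q.asIdeal (ModuleCat.of R M) i, a • z = 0)
    (z : LC.HH (mP q) (ModuleCat.of (Rp q) (LocalizedModule q.asIdeal.primeCompl M)) i) :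
    (algebraMap R (Rp q) a) • z = 0 := by
  haveI : IsNoetherianRing (Rp q) :=
    IsLocalization.isNoetherianRing q.asIdeal.primeCompl (Rp q) inferInstance
  haveI : Module.Flat R (Rp q) := IsLocalization.flat (Rp q) q.asIdeal.primeCompl
  obtain ⟨e⟩ := Groth.Agent.Lib.Helper20.LCFlat.nonempty_baseChange_equiv (Rp q) q.asIdeal i M
  have h1 : ∀ w : (Rp q) ⊗[R] LC.HH q.asIdeal (ModuleCat.of R M) i,
      (algebraMap R (Rp q) a) • w = 0 := by
    intro w
    induction w using TensorProduct.induction_on with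
    | zero => rw [smul_zero]
    | tmul b x =>
      rw [TensorProduct.smul_tmul', smul_eq_mul, ← Algebra.smul_def, TensorProduct.smul_tmul,
        h x, TensorProduct.tmul_zero]
    | add x y hx hy => rw [smul_add, hx, hy, add_zero]
  have h2 : ∀ v : LC.HH (q.asIdeal.map (algebraMap R (Rp q)))
      (ModuleCat.of (Rp q) ((Rp q) ⊗[R] M)) i, (algebraMap R (Rp q) a) • v = 0 := by
    intro v
    have : v = e (e.symm v) := (e.apply_symm_apply v).symm
    rw [this, ← map_smul, h1, map_zero]
  have hI : q.asIdeal.map (algebraMap R (Rp q)) = mP q :=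
    Localization.AtPrime.map_eq_maximalIdeal
  rw [hI] at h2
  let eM : ((Rp q) ⊗[R] M) ≃ₗ[Rp q] LocalizedModule q.asIdeal.primeCompl M :=
    (IsLocalizedModule.isBaseChange q.asIdeal.primeCompl (Rp q)
      (LocalizedModule.mkLinearMap q.asIdeal.primeCompl M)).equiv
  have h3 : z = LC.HH.map (mP q) eM.toModuleIso.hom i
      (LC.HH.map (mP q) eM.toModuleIso.inv i z) := by
    rw [← LC.HH.map_comp, Iso.inv_hom_id, LC.HH.map_id]
  rw [h3, ← map_smul, h2, map_zero]

end loc

end Groth.Agent.Lib.Helper20.Falt
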