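import Mathlib
import Groth.Agent.Lib.Helper20.FaltDF

/-!
# Removing one minimal prime from the support: `H^i_{T₀ ∖ {p}}(M) → H^i_{T₀}(M) → H^i_T(M_p)` is exact
-/

set_option autoImplicit false
set_option linter.style.haveILetI false
set_option linter.unusedSectionVars false
set_option linter.unusedVariables false
set_option maxHeartbeats 400000

open CategoryTheory Limits Opposite Abelian

universe u

namespace Groth.Agent.Lib.Helper20.Falt

open Groth.Agent.Lib.Helper20.HTModel Groth.Agent.Lib.Helper20.LCDelta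
  Groth.Agent.Lib.Helper20.LCDeltaHH Groth.Agent.Lib.Helper4

variable {R : Type u} [CommRing R]

/-- composition of morphisms of δ-functors. -/
noncomputable def DFHom.comp' {T₁ T₂ T₃ : DF R} (α : DFHom T₁ T₂) (β : DFHom T₂ T₃) :
    DFHom T₁ T₃ where
  app M i := (β.app M i).comp (α.app M i)
  naturality g i x := by
    change β.app _ i (α.app _ i (T₁.map g i x)) = T₃.map g i (β.app _ i (α.app _ i x))
    rw [α.naturality, β.naturality]
  comm_δ hS i x := by
    change β.app _ (i + 1) (α.app _ (i + 1) (T₁.δ hS i x)) =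
      T₃.δ hS i (β.app _ i (α.app _ i x))
    rw [α.comm_δ, β.comm_δ]

section lift

variable [IsNoetherianRing R]

/-- An element of the localization of an injective module lifts to an element with the same
annihilator. -/
lemma exists_lift_of_injective (S : Submonoid R) (E : Type u) [AddCommGroup E] [Module R E]
    [Module.Injective R E] (y : LocalizedModule S E) :
    ∃ x : E, LocalizedModule.mkLinearMap S E x = y ∧ ∀ r : R, r • y = 0 → r • x = 0 := by
  classical
  obtain ⟨⟨z, s⟩, hzs⟩ := IsLocalizedModule.surj S (LocalizedModule.mkLinearMap S E) y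
  have hzs' : (s : R) • y = LocalizedModule.mkLinearMap S E z := hzs
  let K : Ideal R := LinearMap.ker (LinearMap.toSpanSingleton R (LocalizedModule S E) y)
  have hK : ∀ r, r ∈ K ↔ r • y = 0 := fun r => by
    change LinearMap.toSpanSingleton R _ y r = 0 ↔ _
    rw [LinearMap.toSpanSingleton_apply]
  obtain ⟨gens, hgens⟩ := (IsNoetherian.noetherian K : K.FG)
  have hkill : ∀ r ∈ K, ∃ t : S, (t : R) • r • z = 0 := by
    intro r hr
    have h1 : LocalizedModule.mkLinearMap S E (r • z) = 0 := by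
      rw [map_smul, ← hzs', smul_comm, (hK r).1 hr, smul_zero]
    exact (IsLocalizedModule.eq_zero_iff S (LocalizedModule.mkLinearMap S E)).1 h1
  choose! t ht using hkill
  let tt : S := ∏ g ∈ gens, t g
  have htt_coe : (tt : R) = ∏ g ∈ gens, (t g : R) := by
    simp [tt]
  have htt : ∀ r ∈ K, r • ((tt : R) • z) = 0 := by
    intro r hr
    rw [← hgens] at hr
    induction hr using Submodule.span_induction with
    | mem x hx =>
      have hxK : x ∈ K := by rw [← hgens]; exact Submodule.subset_span hx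
      obtain ⟨c, hc⟩ : (t x : R) ∣ (tt : R) := by
        rw [htt_coe]
        exact Finset.dvd_prod_of_mem (fun g => (t g : R)) hx
      rw [hc, smul_comm x, mul_comm, mul_smul, ht x hxK, smul_zero]
    | zero => rw [zero_smul]
    | add x y _ _ hx hy => rw [add_smul, hx, hy, add_zero]
    | smul c x _ hx => rw [smul_eq_mul, mul_smul, hx, smul_zero]
  set z' : E := (tt : R) • z with hz'
  let u : S := tt * s
  have hu : (u : R) = (tt : R) * (s : R) := rfl
  have hinjS : ∀ (q : S) (w w' : LocalizedModule S E), (q : R) • w = (q : R) • w' → w = w' :=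
    fun q w w' hw =>
      IsLocalizedModule.smul_injective (LocalizedModule.mkLinearMap S E) q hw
  have e1 : ∀ r : R, LocalizedModule.mkLinearMap S E (r • z') =
      (r * ((tt : R) * (s : R))) • y := by
    intro r
    rw [map_smul, hz', map_smul, ← hzs', smul_smul, smul_smul, mul_assoc]
  have hA : ∀ r : R, r • z' = 0 → r ∈ K := by
    intro r hr
    rw [hK]
    apply hinjS u
    rw [smul_zero, smul_smul, hu, mul_comm, ← e1, hr, map_zero]
  -- multiplication by `u` on `R ⧸ K`
  let f : (R ⧸ K) →ₗ[R] (R ⧸ K) := LinearMap.lsmul R (R ⧸ K) (u : R)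
  have hf : Function.Injective f := by
    rw [injective_iff_map_eq_zero]
    intro w hw
    obtain ⟨r, rfl⟩ := Submodule.Quotient.mk_surjective _ w
    have hw' : (u : R) • (Submodule.Quotient.mk r : R ⧸ K) = 0 := hw
    rw [← Submodule.Quotient.mk_smul, Submodule.Quotient.mk_eq_zero, hK, smul_eq_mul,
      mul_smul] at hw'
    rw [Submodule.Quotient.mk_eq_zero, hK]
    apply hinjS u
    rw [hw', smul_zero]
  let g : (R ⧸ K) →ₗ[R] E := Submodule.liftQ K (LinearMap.toSpanSingleton R E z') (by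
    intro r hr
    rw [LinearMap.mem_ker, LinearMap.toSpanSingleton_apply]
    exact htt r hr)
  obtain ⟨h, hh⟩ := Module.Injective.out f hf g
  have hux : (u : R) • h (Submodule.Quotient.mk 1) = z' := by
    rw [← map_smul]
    have : (u : R) • (Submodule.Quotient.mk 1 : R ⧸ K) = f (Submodule.Quotient.mk 1) := rfl
    rw [this, hh]
    change Submodule.liftQ K (LinearMap.toSpanSingleton R E z') _ (Submodule.Quotient.mk 1) = z'
    rw [Submodule.liftQ_apply, LinearMap.toSpanSingleton_apply, one_smul]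
  refine ⟨h (Submodule.Quotient.mk 1), ?_, ?_⟩
  · apply hinjS u
    rw [← map_smul, hux]
    have := e1 1
    rw [one_smul, one_mul] at this
    rw [this, hu]
  · intro r hr
    have hrK : r ∈ K := (hK r).2 hr
    rw [← map_smul, ← Submodule.Quotient.mk_smul, smul_eq_mul, mul_one,
      (Submodule.Quotient.mk_eq_zero K).2 hrK, map_zero]

end lift

section remove

variable [IsNoetherianRing R] (T₀ T : Set (PrimeSpectrum R)) (hT₀T : T₀ ⊆ T)
  (hT₀ : StableUnderSpecialization T₀) (p : PrimeSpectrum R) (hp : p ∈ T₀)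
  (hmin : ∀ q ∈ T, q ≤ p → q = p)

lemma smul_bijective_localizedModule (S : Submonoid R) (M : Type u) [AddCommGroup M] [Module R M]
    (f : R) (hf : f ∈ S) : Function.Bijective (fun x : LocalizedModule S M => f • x) := by
  have h := IsLocalizedModule.map_units (LocalizedModule.mkLinearMap S M) (⟨f, hf⟩ : S)
  exact (Module.End.isUnit_iff _).1 h

include hp in
lemma subsingleton_HHT_diff_loc (M : ModuleCat.{u} R) (i : ℕ) :
    Subsingleton (HHT (T₀ \ {p}) (Loc p.asIdeal.primeCompl M) i) := by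
  apply subsingleton_HHT_of_bijective
  intro a
  have hnot : ¬ a.J ≤ p.asIdeal := by
    intro hle
    have hpV : p ∈ PrimeSpectrum.zeroLocus (a.J : Set R) := by
      rw [PrimeSpectrum.mem_zeroLocus]
      exact hle
    exact (a.hJ hpV).2 rfl
  obtain ⟨f, hfJ, hfp⟩ := SetLike.not_le_iff_exists.1 hnot
  exact ⟨f, hfJ, smul_bijective_localizedModule _ _ f hfp⟩

/-- the map `H^i_{T₀}(M) → H^i_T(M_p)` as a morphism of δ-functors. -/
noncomputable def remβ : DFHom (dfHT T₀) (dfHTLoc p.asIdeal.primeCompl T) :=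
  DFHom.comp' (extHom hT₀T) (locHomT p.asIdeal.primeCompl T)

lemma remβ_app (M : ModuleCat.{u} R) (i : ℕ) (x : HHT T₀ M i) :
    (remβ T₀ T hT₀T p).app M i x =
      HHT.map T (Loc.ι p.asIdeal.primeCompl M) i (extSupp hT₀T M i x) := rfl

include hp in
lemma rem_zero (M : ModuleCat.{u} R) (i : ℕ) (x : HHT (T₀ \ {p}) M i) :
    HHT.map T (Loc.ι p.asIdeal.primeCompl M) i
      (extSupp hT₀T M i (extSupp (Set.sdiff_subset : T₀ \ {p} ⊆ T₀) M i x)) = 0 := by
  rw [extSupp_comp, ← extSupp_map]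
  have := subsingleton_HHT_diff_loc T₀ p hp M i
  rw [Subsingleton.elim (HHT.map (T₀ \ {p}) (Loc.ι p.asIdeal.primeCompl M) i x) 0, map_zero]

lemma rem_ex0 (M : ModuleCat.{u} R) (x : HHT T₀ M 0)
    (hx : HHT.map T (Loc.ι p.asIdeal.primeCompl M) 0 (extSupp hT₀T M 0 x) = 0) :
    ∃ y : HHT (T₀ \ {p}) M 0, extSupp (Set.sdiff_subset : T₀ \ {p} ⊆ T₀) M 0 y = x := by
  obtain ⟨a, ha⟩ := HHT0_mem T₀ M x
  have h1 : HHT0 T (Loc p.asIdeal.primeCompl M)
      (HHT.map T (Loc.ι p.asIdeal.primeCompl M) 0 (extSupp hT₀T M 0 x)) = 0 := by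
    rw [hx, map_zero]
  rw [HHT0_map, HHT0_extSupp] at h1
  have h2 : LocalizedModule.mkLinearMap p.asIdeal.primeCompl M (HHT0 T₀ M x) = 0 := h1
  obtain ⟨c, hc⟩ := (IsLocalizedModule.eq_zero_iff p.asIdeal.primeCompl
    (LocalizedModule.mkLinearMap p.asIdeal.primeCompl M)).1 h2
  have hc' : (c : R) • HHT0 T₀ M x = 0 := hc
  let b : Idx (T₀ \ {p}) := ⟨a.J ⊔ Ideal.span {(c : R)}, by
    intro q hq
    rw [PrimeSpectrum.mem_zeroLocus, SetLike.coe_subset_coe] at hq
    refine ⟨a.hJ ?_, ?_⟩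
    · rw [PrimeSpectrum.mem_zeroLocus, SetLike.coe_subset_coe]
      exact le_sup_left.trans hq
    · intro hqp
      have hqp' : q = p := hqp
      have hcq : (c : R) ∈ q.asIdeal :=
        hq (Ideal.mem_sup_right (Ideal.mem_span_singleton_self _))
      rw [hqp'] at hcq
      exact c.2 hcq⟩
  have hb : ∀ r ∈ b.J, r • HHT0 T₀ M x = 0 := by
    intro r hr
    obtain ⟨r₁, hr₁, r₂, hr₂, rfl⟩ := Submodule.mem_sup.1 hr
    obtain ⟨k, rfl⟩ := Ideal.mem_span_singleton'.1 hr₂
    rw [add_smul, ha r₁ hr₁, mul_smul, hc', smul_zero, add_zero]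
  obtain ⟨y, hy⟩ := exists_HHT0_eq (T₀ \ {p}) M (HHT0 T₀ M x) b hb
  refine ⟨y, ?_⟩
  apply HHT0_injective T₀ M
  rw [HHT0_extSupp, hy]

include hT₀ hp hmin in
lemma rem_surj (E : ModuleCat.{u} R) (hE : Injective E)
    (w : HHT T (Loc p.asIdeal.primeCompl E) 0) :
    ∃ x : HHT T₀ E 0,
      HHT.map T (Loc.ι p.asIdeal.primeCompl E) 0 (extSupp hT₀T E 0 x) = w := by
  have hEinj : Module.Injective R E := Module.injective_module_of_injective_object R E
  set y₀ := HHT0 T (Loc p.asIdeal.primeCompl E) w with hy₀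
  obtain ⟨a, ha⟩ := HHT0_mem T (Loc p.asIdeal.primeCompl E) w
  obtain ⟨x₀, hx₀, hann⟩ := exists_lift_of_injective p.asIdeal.primeCompl E y₀
  let K : Ideal R := LinearMap.ker (LinearMap.toSpanSingleton R
    (LocalizedModule p.asIdeal.primeCompl E) y₀)
  have hK : ∀ r, r ∈ K ↔ r • y₀ = 0 := fun r => by
    change LinearMap.toSpanSingleton R _ y₀ r = 0 ↔ _
    rw [LinearMap.toSpanSingleton_apply]
  have haK : a.J ≤ K := fun r hr => (hK r).2 (ha r hr)
  have hKT₀ : PrimeSpectrum.zeroLocus (K : Set R) ⊆ T₀ := by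
    intro q hq
    rw [PrimeSpectrum.mem_zeroLocus, SetLike.coe_subset_coe] at hq
    obtain ⟨q'', hq''min, hq''le⟩ := Ideal.exists_minimalPrimes_le hq
    have hq''prime : q''.IsPrime := hq''min.1.1
    have hq''p : q'' ≤ p.asIdeal := by
      intro s hs
      by_contra hsp
      obtain ⟨y, hyK, hsy⟩ := Ideal.exists_mul_mem_of_mem_minimalPrimes hq''min hs
      apply hyK
      rw [hK] at hsy ⊢
      rw [mul_smul] at hsy
      have := IsLocalizedModule.smul_injective
        (LocalizedModule.mkLinearMap p.asIdeal.primeCompl E)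
        (⟨s, hsp⟩ : p.asIdeal.primeCompl) (a₁ := y • y₀) (a₂ := 0)
        (by
          change s • y • y₀ = s • (0 : LocalizedModule p.asIdeal.primeCompl E)
          rw [hsy, smul_zero])
      exact this
    have hq''T : (⟨q'', hq''prime⟩ : PrimeSpectrum R) ∈ T := by
      apply a.hJ
      rw [PrimeSpectrum.mem_zeroLocus, SetLike.coe_subset_coe]
      exact haK.trans hq''min.1.2
    have heq : (⟨q'', hq''prime⟩ : PrimeSpectrum R) = p := hmin _ hq''T hq''p
    have hpq : p ≤ q := by
      rw [← heq]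
      exact hq''le
    exact hT₀ ((PrimeSpectrum.le_iff_specializes p q).1 hpq) hp
  let b : Idx T₀ := ⟨K, hKT₀⟩
  have hb : ∀ r ∈ b.J, r • x₀ = 0 := fun r hr => hann r ((hK r).1 hr)
  obtain ⟨x, hx⟩ := exists_HHT0_eq T₀ E x₀ b hb
  refine ⟨x, ?_⟩
  apply HHT0_injective T (Loc p.asIdeal.primeCompl E)
  rw [HHT0_map, HHT0_extSupp, hx, ← hy₀]
  exact hx₀

include hT₀ hp hmin in
/-- **Removing one minimal prime.** -/
theorem exact_remove (i : ℕ) (M : ModuleCat.{u} R) (x : HHT T₀ M i)
    (hx : HHT.map T (Loc.ι p.asIdeal.primeCompl M) i (extSupp hT₀T M i x) = 0) :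
    ∃ y : HHT (T₀ \ {p}) M i, extSupp (Set.sdiff_subset : T₀ \ {p} ⊆ T₀) M i y = x :=
  (LCDelta.main (dfHT (T₀ \ {p})) (dfHT T₀) (dfHTLoc p.asIdeal.primeCompl T)
    (extHom (Set.sdiff_subset : T₀ \ {p} ⊆ T₀)) (remβ T₀ T hT₀T p)
    (fun M i x => rem_zero T₀ T hT₀T p hp M i x)
    (fun M => extSupp_injective_zero _ M)
    (fun M x hx => rem_ex0 T₀ T hT₀T p M x hx)
    (fun E hE => rem_surj T₀ T hT₀T hT₀ p hp hmin E hE) i M).1 x hx

end remove

end Groth.Agent.Lib.Helper20.Falt
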