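import Mathlib
import Groth.Agent.Lib.Helper20.FaltMulti

/-!
# Removing a set of minimal points: `H^i_{T₁}(M) → H^i_T(M) → ∏_{p ∈ T ∖ T₁} H^i_T(M_p)`
-/

set_option autoImplicit false
set_option linter.style.haveILetI false
set_option linter.unusedSectionVars false
set_option linter.unusedVariables false
set_option maxHeartbeats 400000

open CategoryTheory Limits Opposite Abelian

universe u

namespace Groth.Agent.Lib.Helper20.Falt

open Groth.Agent.Lib.Helper20.HTModel Groth.Agent.Lib.Helper20.LCDelta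
  Groth.Agent.Lib.Helper20.LCDeltaHH Groth.Agent.Lib.Helper4

variable {R : Type u} [CommRing R] [IsNoetherianRing R] (T₁ T : Set (PrimeSpectrum R))
  (hT₁T : T₁ ⊆ T) (hT : StableUnderSpecialization T)
  (hmin : ∀ p ∈ T, p ∉ T₁ → ∀ q ∈ T, q ≤ p → q = p)

include hT hmin in
/-- **Removing a set of minimal points.** -/
theorem exact_multi' (i : ℕ) (M : ModuleCat.{u} R) (x : HHT T M i)
    (hx : ∀ p : PrimeSpectrum R, p ∈ T → p ∉ T₁ →
      HHT.map T (Loc.ι p.asIdeal.primeCompl M) i x = 0) :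
    ∃ y : HHT T₁ M i, extSupp hT₁T M i y = x := by
  classical
  obtain ⟨a, y₀, rfl⟩ := HHT.exists_of T M i x
  set V : Set (PrimeSpectrum R) := PrimeSpectrum.zeroLocus (a.J : Set R) with hV
  have hVT : V ⊆ T := a.hJ
  have hVstable : StableUnderSpecialization V :=
    (PrimeSpectrum.isClosed_zeroLocus _).stableUnderSpecialization
  let P : Set (PrimeSpectrum R) := {p | p ∈ V ∧ p ∉ T₁}
  have hPmin : ∀ p ∈ P, ∀ q ∈ T, q ≤ p → q = p := fun p hp => hmin p (hVT hp.1) hp.2
  have hPfin : P.Finite := by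
    have hfin := Ideal.finite_minimalPrimes_of_isNoetherianRing R a.J
    have hinj : Set.InjOn (PrimeSpectrum.asIdeal (R := R))
        (PrimeSpectrum.asIdeal ⁻¹' a.J.minimalPrimes) := by
      intro p _ q _ hpq
      exact PrimeSpectrum.ext hpq
    refine (hfin.preimage hinj).subset ?_
    intro p hpP
    have hpV := hpP.1
    rw [Set.mem_preimage]
    rw [hV, PrimeSpectrum.mem_zeroLocus, SetLike.coe_subset_coe] at hpV
    refine ⟨⟨p.isPrime, hpV⟩, fun q' hq' hq'p => ?_⟩
    have hq'T : (⟨q', hq'.1⟩ : PrimeSpectrum R) ∈ T := by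
      apply a.hJ
      rw [PrimeSpectrum.mem_zeroLocus, SetLike.coe_subset_coe]
      exact hq'.2
    have heq : (⟨q', hq'.1⟩ : PrimeSpectrum R) = p := hPmin p hpP _ hq'T hq'p
    rw [← heq]
  -- the induction over finite subsets of `P`
  have key : ∀ F : Finset (PrimeSpectrum R), (↑F : Set (PrimeSpectrum R)) ⊆ P →
      ∃ y : HHT (V \ ↑F) M i,
        extSupp ((Set.sdiff_subset : V \ ↑F ⊆ V).trans hVT) M i y = HHT.of T M i a y₀ := by
    intro F
    induction F using Finset.induction_on with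
    | empty =>
      intro _
      refine ⟨HHT.of (V \ ↑(∅ : Finset (PrimeSpectrum R))) M i
        ⟨a.J, fun q hq => ⟨hq, by simp⟩⟩ y₀, ?_⟩
      rw [extSupp_of]
      rfl
    | insert p F hpF ih =>
      intro hsub
      have hFsub : (↑F : Set (PrimeSpectrum R)) ⊆ P := fun q hq =>
        hsub (by rw [Finset.coe_insert]; exact Set.mem_insert_of_mem _ hq)
      have hpP : p ∈ P := hsub (by rw [Finset.coe_insert]; exact Set.mem_insert _ _)
      obtain ⟨yF, hyF⟩ := ih hFsub
      have hstable : StableUnderSpecialization (V \ (↑F : Set (PrimeSpectrum R))) := by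
        intro q q' hqq' hq
        refine ⟨hVstable hqq' hq.1, fun hq'F => ?_⟩
        have hq'P := hFsub hq'F
        have hle : q ≤ q' := (PrimeSpectrum.le_iff_specializes q q').2 hqq'
        have heq : q = q' := hPmin q' hq'P q (hVT hq.1) hle
        exact hq.2 (heq ▸ hq'F)
      have hp0 : p ∈ V \ (↑F : Set (PrimeSpectrum R)) :=
        ⟨hpP.1, fun h => hpF (Finset.mem_coe.1 h)⟩
      obtain ⟨y', hy'⟩ := exact_remove (V \ (↑F : Set (PrimeSpectrum R))) T
        ((Set.sdiff_subset : V \ ↑F ⊆ V).trans hVT) hstable p hp0 (hPmin p hpP) i M yF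
        (by rw [hyF]; exact hx p (hVT hpP.1) hpP.2)
      have hsub' : (V \ (↑F : Set (PrimeSpectrum R))) \ {p} ⊆
          V \ (↑(insert p F) : Set (PrimeSpectrum R)) := by
        rintro q ⟨⟨hqV, hqF⟩, hqp⟩
        refine ⟨hqV, fun h => ?_⟩
        rw [Finset.coe_insert] at h
        rcases h with h | h
        · exact hqp h
        · exact hqF h
      refine ⟨extSupp hsub' M i y', ?_⟩
      rw [extSupp_comp, ← hyF, ← hy', extSupp_comp]
  obtain ⟨yP, hyP⟩ := key hPfin.toFinset (by rw [Set.Finite.coe_toFinset])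
  have hsubN : V \ (↑hPfin.toFinset : Set (PrimeSpectrum R)) ⊆ T₁ := by
    rintro q ⟨hqV, hqP⟩
    rw [Set.Finite.coe_toFinset] at hqP
    by_contra hcon
    exact hqP ⟨hqV, hcon⟩
  refine ⟨extSupp hsubN M i yP, ?_⟩
  rw [extSupp_comp, ← hyP]

end Groth.Agent.Lib.Helper20.Falt
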