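import Mathlib
import Groth.Agent.Lib.Helper20.FaltMulti
import Groth.Agent.Lib.Helper20.FaltSigma

/-!
# Local-to-global vanishing of maps of local cohomology with supports in `T` (inverse systems)
-/

set_option autoImplicit false
set_option linter.style.haveILetI false
set_option linter.unusedSectionVars false
set_option linter.unusedVariables false
set_option maxHeartbeats 400000

open CategoryTheory Limits Opposite Abelian

universe u

namespace Groth.Agent.Lib.Helper20.Falt

open Groth.Agent.Lib.Helper20.HTModel Groth.Agent.Lib.Helper20.LCDelta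
  Groth.Agent.Lib.Helper20.LCDeltaHH Groth.Agent.Lib.Helper4

variable {R : Type u} [CommRing R]

lemma subsingleton_HHT_empty (T : Set (PrimeSpectrum R)) (hT : T = ∅) (N : ModuleCat.{u} R)
    (i : ℕ) : Subsingleton (HHT T N i) := by
  subst hT
  apply subsingleton_HHT_of_bijective ∅ N
  intro a
  have htop : a.J = ⊤ := by
    rw [← PrimeSpectrum.zeroLocus_empty_iff_eq_top]
    exact Set.subset_empty_iff.1 a.hJ
  refine ⟨1, by rw [htop]; exact Submodule.mem_top, ?_⟩
  have : (fun x : N => (1 : R) • x) = id := by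
    funext x
    exact one_smul R x
  rw [this]
  exact Function.bijective_id

lemma le_iterate_of_le (m' : ℕ → ℕ) (hm' : ∀ m, m ≤ m' m) (n m : ℕ) : m ≤ (m'^[n]) m := by
  induction n with
  | zero => exact le_rfl
  | succ n ih =>
    rw [Function.iterate_succ_apply']
    exact ih.trans (hm' _)

lemma iterate_mono_count (m' : ℕ → ℕ) (hm' : ∀ m, m ≤ m' m) {a b : ℕ} (hab : a ≤ b) (m : ℕ) :
    (m'^[a]) m ≤ (m'^[b]) m := by
  obtain ⟨c, rfl⟩ := Nat.exists_eq_add_of_le hab
  rw [add_comm, Function.iterate_add_apply]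
  exact le_iterate_of_le m' hm' c _

lemma krullDim_nonMin_lt [IsNoetherianRing R] (T : Set (PrimeSpectrum R)) (n : ℕ)
    (h : Order.krullDim ↥T < ((n + 1 : ℕ) : WithBot ℕ∞)) :
    Order.krullDim ↥(nonMin T) < ((n : ℕ) : WithBot ℕ∞) := by
  by_contra hcon
  rw [not_lt, Order.le_krullDim_iff] at hcon
  obtain ⟨s, hs⟩ := hcon
  obtain ⟨hhT, q', hq'T, hq'lt⟩ := (s.head).2
  let f : ↥(nonMin T) → ↥T := fun q => ⟨q.1, nonMin_subset T q.2⟩
  have hf : StrictMono f := fun a b hab => hab
  let s' : LTSeries ↥T := (s.map f hf).cons ⟨q', hq'T⟩ (by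
    change (⟨q', hq'T⟩ : ↥T) < f s.head
    exact hq'lt)
  have hlen : s'.length = n + 1 := by
    simp only [s', RelSeries.cons_length, LTSeries.map_length, hs]
  have h1 := Order.LTSeries.length_le_krullDim s'
  rw [hlen] at h1
  exact absurd h (not_lt.2 h1)

section main

variable [IsNoetherianRing R] (M : ℕ → Type u) [∀ n, AddCommGroup (M n)] [∀ n, Module R (M n)]
  (φ : ∀ k m : ℕ, m ≤ k → (M k →ₗ[R] M m))
  (hφ : ∀ (k l m : ℕ) (h₁ : m ≤ l) (h₂ : l ≤ k), φ k m (h₁.trans h₂) = φ l m h₁ ∘ₗ φ k l h₂)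
  (i : ℕ) (m' : ℕ → ℕ) (hm' : ∀ m, m ≤ m' m)

include hφ hm' in
theorem vanish_of_pointwise : ∀ (n : ℕ) (T : Set (PrimeSpectrum R))
    (hT : StableUnderSpecialization T)
    (hloc : ∀ (p : PrimeSpectrum R), p ∈ T → ∀ (m k : ℕ) (h : m ≤ k), m' m ≤ k →
      ∀ z : LC.HH (mP p) (ModuleCat.of (Rp p) (LocalizedModule p.asIdeal.primeCompl (M k))) i,
        LC.HH.map (mP p)
          (ModuleCat.ofHom (LocalizedModule.map p.asIdeal.primeCompl (φ k m h))) i z = 0)
    (hdim : Order.krullDim ↥T < ((n : ℕ) : WithBot ℕ∞)) (m k : ℕ) (h : m ≤ k)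
    (hk : (m'^[n]) m ≤ k) (x : HHT T (ModuleCat.of R (M k)) i),
    HHT.map T (ModuleCat.ofHom (φ k m h)) i x = 0 := by
  intro n
  induction n with
  | zero =>
    intro T hT hloc hdim m k h hk x
    have hempty : T = ∅ := by
      by_contra hne
      have hne' : T.Nonempty := Set.nonempty_iff_ne_empty.2 hne
      haveI : Nonempty ↥T := hne'.to_subtype
      have h0 : (0 : WithBot ℕ∞) ≤ Order.krullDim ↥T := Order.krullDim_nonneg
      have h1 : Order.krullDim ↥T < (0 : WithBot ℕ∞) := by exact_mod_cast hdim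
      exact absurd h0 (not_le.2 h1)
    have := subsingleton_HHT_empty T hempty (ModuleCat.of R (M m)) i
    exact Subsingleton.elim _ _
  | succ n ih =>
    intro T hT hloc hdim m k h hk x
    set l := (m'^[n]) m with hl
    have hml : m ≤ l := le_iterate_of_le m' hm' n m
    have hk' : m' l ≤ k := by
      rw [Function.iterate_succ_apply'] at hk
      exact hk
    have hlk : l ≤ k := (hm' l).trans hk'
    -- the image in `M_l`
    set xl := HHT.map T (ModuleCat.ofHom (φ k l hlk)) i x with hxl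
    have hmulti : ∀ p : PrimeSpectrum R, p ∈ T → (∀ q ∈ T, q ≤ p → q = p) →
        HHT.map T (Loc.ι p.asIdeal.primeCompl (ModuleCat.of R (M l))) i xl = 0 := by
      intro p hp hmin
      rw [hxl, ← HHT.map_comp, Loc.ι_naturality, HHT.map_comp]
      exact transfer_loc p T hT hp hmin (ModuleCat.ofHom (φ k l hlk)) i
        (hloc p hp l k hlk hk') _
    obtain ⟨y, hy⟩ := exact_multi T hT i (ModuleCat.of R (M l)) xl hmulti
    have hy0 : HHT.map (nonMin T) (ModuleCat.ofHom (φ l m hml)) i y = 0 :=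
      ih (nonMin T) (nonMin_stable T hT)
        (fun p hp => hloc p (nonMin_subset T hp)) (krullDim_nonMin_lt T n hdim) m l hml
        (le_of_eq hl.symm) y
    have hcomp : (ModuleCat.ofHom (φ k m h) : ModuleCat.of R (M k) ⟶ ModuleCat.of R (M m)) =
        ModuleCat.ofHom (φ k l hlk) ≫ ModuleCat.ofHom (φ l m hml) := by
      rw [← ModuleCat.ofHom_comp, ← hφ k l m hml hlk]
    rw [hcomp, HHT.map_comp, ← hxl, ← hy, ← extSupp_map, hy0, map_zero]

end main

end Groth.Agent.Lib.Helper20.Falt
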