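import Mathlib
import Groth.Agent.Lib.Helper20.FaltSigma
import Groth.Agent.Lib.Helper20.FaltMulti2
import Groth.Agent.Lib.Helper20.FaltVanish

/-!
# Annihilators: from the local cohomology of `M_q` to `H^i_T(M_q)`; one step of the filtration
-/

set_option autoImplicit false
set_option linter.style.haveILetI false
set_option linter.unusedSectionVars false
set_option linter.unusedVariables false
set_option maxHeartbeats 400000

open CategoryTheory Limits Opposite Abelian

universe u

namespace Groth.Agent.Lib.Helper20.Falt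

open Groth.Agent.Lib.Helper20.HTModel Groth.Agent.Lib.Helper20.LCDelta
  Groth.Agent.Lib.Helper20.LCDeltaHH Groth.Agent.Lib.Helper4

variable {R : Type u} [CommRing R] [IsNoetherianRing R]

/-- if `c` kills `H^i_{qR_q}(M_q)` then it kills `H^i_T(M_q)`, for `q` minimal in `T`. -/
theorem kills_of_local (q : PrimeSpectrum R) (T : Set (PrimeSpectrum R))
    (hT : StableUnderSpecialization T) (hq : q ∈ T) (hmin : ∀ q' ∈ T, q' ≤ q → q' = q)
    (M : ModuleCat.{u} R) (i : ℕ) (c : R)
    (hc : ∀ z : LC.HH (mP q)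
        (ModuleCat.of (Rp q) (LocalizedModule q.asIdeal.primeCompl M)) i,
      (algebraMap R (Rp q) c) • z = 0)
    (x : HHT T (Loc q.asIdeal.primeCompl M) i) : c • x = 0 := by
  rw [HHT.smul_eq_map]
  have h1 : c • 𝟙 (Loc q.asIdeal.primeCompl M) = Loc.map q.asIdeal.primeCompl (c • 𝟙 M) := by
    apply ModuleCat.hom_ext
    apply LinearMap.ext
    intro y
    induction y using LocalizedModule.induction_on with
    | h m t =>
      change c • LocalizedModule.mk m t =
        LocalizedModule.map q.asIdeal.primeCompl (c • 𝟙 M).hom (LocalizedModule.mk m t)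
      rw [LocalizedModule.map_mk, LocalizedModule.smul'_mk]
      rfl
  rw [h1]
  apply transfer_loc q T hT hq hmin (c • 𝟙 M) i
  intro z
  have h2 : (ModuleCat.ofHom (LocalizedModule.map q.asIdeal.primeCompl (c • 𝟙 M).hom) :
      ModuleCat.of (Rp q) (LocalizedModule q.asIdeal.primeCompl M) ⟶
        ModuleCat.of (Rp q) (LocalizedModule q.asIdeal.primeCompl M)) =
      (algebraMap R (Rp q) c) • 𝟙 _ := by
    apply ModuleCat.hom_ext
    apply LinearMap.ext
    intro y
    induction y using LocalizedModule.induction_on with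
    | h m t =>
      change LocalizedModule.map q.asIdeal.primeCompl (c • 𝟙 M).hom (LocalizedModule.mk m t) =
        (algebraMap R (Rp q) c) • LocalizedModule.mk m t
      rw [LocalizedModule.map_mk, algebraMap_smul, LocalizedModule.smul'_mk]
      rfl
  rw [h2, ← LC.HH.smul_eq_map]
  exact hc z

/-- one step of the filtration. -/
theorem kills_step (T₁ T : Set (PrimeSpectrum R)) (hT₁T : T₁ ⊆ T)
    (hT : StableUnderSpecialization T)
    (hmin : ∀ p ∈ T, p ∉ T₁ → ∀ q ∈ T, q ≤ p → q = p)
    (M : ModuleCat.{u} R) (i : ℕ) (K₁ K : Ideal R)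
    (h₁ : ∀ b ∈ K₁, ∀ y : HHT T₁ M i, b • y = 0)
    (h : ∀ q ∈ T, q ∉ T₁ → ∀ c ∈ K, ∀ z : LC.HH (mP q)
        (ModuleCat.of (Rp q) (LocalizedModule q.asIdeal.primeCompl M)) i,
      (algebraMap R (Rp q) c) • z = 0) :
    ∀ a ∈ K₁ * K, ∀ x : HHT T M i, a • x = 0 := by
  intro a ha x
  refine Submodule.mul_induction_on ha ?_ ?_
  · intro b hb c hc
    have h2 : ∀ p : PrimeSpectrum R, p ∈ T → p ∉ T₁ →
        HHT.map T (Loc.ι p.asIdeal.primeCompl M) i (c • x) = 0 := by
      intro p hp hp₁
      rw [map_smul]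
      exact kills_of_local p T hT hp (hmin p hp hp₁) M i c (h p hp hp₁ c hc) _
    obtain ⟨y, hy⟩ := exact_multi' T₁ T hT₁T hT hmin i M (c • x) h2
    rw [mul_smul, ← hy, ← map_smul, h₁ b hb, map_zero]
  · intro u v hu hv
    rw [add_smul, hu, hv, add_zero]

end Groth.Agent.Lib.Helper20.Falt
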