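import Mathlib
import Groth.Agent.Lib.Helper20.FaltDF
import Groth.Agent.Lib.Helper1.InjHullLib

/-!
# If `J` kills `H^b_T(M)` for `b ≤ s`, a power of `J` kills `H^i_{T₀}(M)` for `i ≤ s`, `T₀ ⊆ T`
-/

set_option autoImplicit false
set_option linter.style.haveILetI false
set_option linter.unusedSectionVars false
set_option linter.unusedVariables false
set_option maxHeartbeats 400000

open CategoryTheory Limits Opposite Abelian

universe u

namespace Groth.Agent.Lib.Helper20.Falt

open Groth.Agent.Lib.Helper20.HTModel Groth.Agent.Lib.Helper20.LCDelta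
  Groth.Agent.Lib.Helper20.LCDeltaHH Groth.Agent.Lib.Helper4

variable {R : Type u} [CommRing R]

/-- the exponent. -/
def expo : ℕ → ℕ
  | 0 => 1
  | s + 1 => 2 * expo s + 1

lemma kills_of_exact {X Y Z : Type u} [AddCommGroup X] [Module R X] [AddCommGroup Y] [Module R Y]
    [AddCommGroup Z] [Module R Z] (f : X →ₗ[R] Y) (g : Y →ₗ[R] Z)
    (hex : ∀ y, g y = 0 → ∃ x, f x = y) (I₁ I₂ : Ideal R)
    (h₁ : ∀ a ∈ I₁, ∀ x : X, a • x = 0) (h₂ : ∀ b ∈ I₂, ∀ z : Z, b • z = 0) :
    ∀ c ∈ I₁ * I₂, ∀ y : Y, c • y = 0 := by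
  intro c hc y
  refine Submodule.mul_induction_on hc ?_ ?_
  · intro a ha b hb
    have h1 : g (b • y) = 0 := by rw [map_smul, h₂ b hb]
    obtain ⟨x, hx⟩ := hex _ h1
    rw [mul_smul, ← hx, ← map_smul, h₁ a ha, map_zero]
  · intro u v hu hv
    rw [add_smul, hu, hv, add_zero]

lemma kills_HHT_of_kills (T : Set (PrimeSpectrum R)) (J : Ideal R) (N : ModuleCat.{u} R)
    (h : ∀ a ∈ J, ∀ n : N, a • n = 0) (i : ℕ) : ∀ a ∈ J, ∀ x : HHT T N i, a • x = 0 := by
  intro a ha x
  rw [HHT.smul_eq_map]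
  have h0 : a • 𝟙 N = 0 := by
    apply ModuleCat.hom_ext
    apply LinearMap.ext
    intro n
    exact h a ha n
  rw [h0, HHT.map_zero']

section gam

variable [IsNoetherianRing R] (T : Set (PrimeSpectrum R)) (M : Type u) [AddCommGroup M]
  [Module R M]

lemma gammaT_quotient_eq_bot' : gammaT T (M ⧸ gammaT T M) = ⊥ := by
  rw [eq_bot_iff]
  rintro x ⟨a, ha⟩
  obtain ⟨m, rfl⟩ := Submodule.mkQ_surjective _ x
  rw [Submodule.mem_bot, Submodule.mkQ_apply, Submodule.Quotient.mk_eq_zero]
  -- the submodule `a.J • m`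
  let N : Submodule R M := Submodule.map (LinearMap.toSpanSingleton R M m) a.J
  have hNfg : N.FG := Submodule.FG.map _ (IsNoetherian.noetherian a.J)
  have hN : N ≤ gammaT T M := by
    rintro _ ⟨r, hr, rfl⟩
    have := ha r hr
    rw [Submodule.mkQ_apply, ← Submodule.Quotient.mk_smul, Submodule.Quotient.mk_eq_zero] at this
    rw [LinearMap.toSpanSingleton_apply]
    exact this
  obtain ⟨b, hb⟩ := exists_idx_of_fg T M N hNfg hN
  refine ⟨a.mul b, fun t ht => ?_⟩
  rw [Idx.mul_J] at ht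
  refine Submodule.mul_induction_on ht ?_ ?_
  · intro r hr s hs
    rw [mul_comm, mul_smul]
    exact hb s hs _ ⟨r, hr, rfl⟩
  · intro u v hu hv
    rw [add_smul, hu, hv, add_zero]

variable {T M}

lemma gammaT_mono {T₀ : Set (PrimeSpectrum R)} (h : T₀ ⊆ T) : gammaT T₀ M ≤ gammaT T M := by
  rintro m ⟨a, ha⟩
  exact ⟨incl h a, ha⟩

/-- an essential extension of a `T`-torsion-free module is `T`-torsion-free. -/
lemma gammaT_eq_bot_of_essential {E : Type u} [AddCommGroup E] [Module R E] (f : M →ₗ[R] E)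
    (hf : InjHull.IsEssentialInj f) (hM : gammaT T M = ⊥) : gammaT T E = ⊥ := by
  rw [eq_bot_iff]
  intro x hx
  rw [Submodule.mem_bot]
  by_contra hx0
  obtain ⟨hinj, hess⟩ := (Groth.Agent.Lib.Helper1.InjHullLib.isEssentialInj_iff f).1 hf
  obtain ⟨r, hr0, m, hm⟩ := hess x hx0
  have hrx : r • x ∈ gammaT T E := (gammaT T E).smul_mem r hx
  obtain ⟨a, ha⟩ := hrx
  have hm' : m ∈ gammaT T M := ⟨a, fun t ht => by
    apply hinj
    rw [map_smul, hm, ha t ht, map_zero]⟩
  rw [hM, Submodule.mem_bot] at hm'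
  rw [hm', map_zero] at hm
  exact hr0 hm.symm

end gam

section main

variable [IsNoetherianRing R] {T₀ T : Set (PrimeSpectrum R)} (hT₀T : T₀ ⊆ T)

/-- the short exact sequence `M → E → E/M`. -/
noncomputable abbrev sesHull {M E : Type u} [AddCommGroup M] [Module R M] [AddCommGroup E]
    [Module R E] (f : M →ₗ[R] E) : ShortComplex (ModuleCat.{u} R) :=
  ModuleCat.shortComplexOfCompEqZero f (LinearMap.range f).mkQ (by
    ext m
    rw [LinearMap.comp_apply, Submodule.mkQ_apply, LinearMap.zero_apply,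
      Submodule.Quotient.mk_eq_zero]
    exact LinearMap.mem_range_self _ m)

lemma sesHull_shortExact {M E : Type u} [AddCommGroup M] [Module R M] [AddCommGroup E]
    [Module R E] (f : M →ₗ[R] E) (hf : Function.Injective f) : (sesHull f).ShortExact :=
  ModuleCat.shortComplex_shortExact _ (LinearMap.exact_map_mkQ_range f) hf
    (Submodule.mkQ_surjective _)

include hT₀T in
theorem kills_sub : ∀ (s : ℕ) (J : Ideal R) (M : Type u) [AddCommGroup M] [Module R M],
    (∀ b : ℕ, b ≤ s → ∀ a ∈ J, ∀ x : HHT T (ModuleCat.of R M) b, a • x = 0) →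
    ∀ i : ℕ, i ≤ s → ∀ a ∈ J ^ expo s, ∀ x : HHT T₀ (ModuleCat.of R M) i, a • x = 0 := by
  intro s
  induction s with
  | zero =>
    intro J M _ _ h i hi a ha x
    have hi0 : i = 0 := Nat.le_zero.1 hi
    subst hi0
    have ha' : a ∈ J := by
      have : expo 0 = 1 := rfl
      rw [this, pow_one] at ha
      exact ha
    apply extSupp_injective_zero hT₀T
    rw [map_smul, h 0 le_rfl a ha', map_zero]
  | succ s ih =>
    intro J M _ _ h i hi c hc x
    -- `Γ_T(M)` is killed by `J`
    have hΓ : ∀ a ∈ J, ∀ n : gammaT T M, a • n = 0 := by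
      intro a ha n
      obtain ⟨b, hb⟩ := n.2
      obtain ⟨y, hy⟩ := exists_HHT0_eq T (ModuleCat.of R M) n.1 b hb
      apply Subtype.ext
      change a • n.1 = 0
      rw [← hy, ← map_smul, h 0 (Nat.zero_le _) a ha, map_zero]
    have hS := sesGamma_shortExact T M
    -- `J * J` kills `H^b_T(M')`
    have hM' : ∀ b : ℕ, b ≤ s + 1 → ∀ a ∈ J * J, ∀ y : HHT T (ModuleCat.of R (Mq T M)) b,
        a • y = 0 := by
      intro b hb
      exact kills_of_exact (HHT.map T (sesGamma T M).g b) (HHT.δ T hS b)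
        (fun y hy => HHT.exact₃ T hS b y hy) J J (h b hb)
        (kills_HHT_of_kills T J (ModuleCat.of R (gammaT T M)) hΓ (b + 1))
    -- the injective hull of `M'`
    obtain ⟨E, _, _, f, hf⟩ := Groth.Agent.Lib.Helper1.InjHullLib.exists_injective_hull R (Mq T M)
    have hfinj : Function.Injective f := hf.injective
    haveI : Module.Injective R E := hf.isInjective
    have hEobj : Injective (ModuleCat.of R E) := Module.injective_object_of_injective_module R E
    have hS' := sesHull_shortExact f hfinj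
    have hM'bot : gammaT T (Mq T M) = ⊥ := gammaT_quotient_eq_bot' T M
    have hEbot : gammaT T E = ⊥ := gammaT_eq_bot_of_essential f hf.toIsEssentialInj hM'bot
    have hE₀bot : gammaT T₀ E = ⊥ := eq_bot_iff.2 ((gammaT_mono hT₀T).trans (le_of_eq hEbot))
    have hM'₀bot : gammaT T₀ (Mq T M) = ⊥ :=
      eq_bot_iff.2 ((gammaT_mono hT₀T).trans (le_of_eq hM'bot))
    have hEvan : ∀ (T₁ : Set (PrimeSpectrum R)), gammaT T₁ E = ⊥ → ∀ b : ℕ,
        Subsingleton (HHT T₁ (ModuleCat.of R E) b) := by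
      intro T₁ h₁ b
      cases b with
      | zero => exact subsingleton_HHT0 T₁ E h₁
      | succ b =>
        haveI := hEobj
        exact subsingleton_HHT_of_injective T₁ (ModuleCat.of R E) b
    -- `J * J` kills `H^b_T(C)` for `b ≤ s`
    have hC : ∀ b : ℕ, b ≤ s → ∀ a ∈ J * J,
        ∀ y : HHT T (ModuleCat.of R (E ⧸ LinearMap.range f)) b, a • y = 0 := by
      intro b hb a ha y
      have h1 : HHT.δ T hS' b (a • y) = 0 := by
        rw [map_smul]
        exact hM' (b + 1) (Nat.succ_le_succ hb) a ha _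
      obtain ⟨z, hz⟩ := HHT.exact₃ T hS' b _ h1
      have := hEvan T hEbot b
      rw [← hz, Subsingleton.elim z 0, map_zero]
    have hC₀ := ih (J * J) (E ⧸ LinearMap.range f) hC
    -- `(J * J) ^ expo s` kills `H^i_{T₀}(M')` for `i ≤ s + 1`
    have hM'₀ : ∀ k : ℕ, k ≤ s + 1 → ∀ a ∈ (J * J) ^ expo s,
        ∀ y : HHT T₀ (ModuleCat.of R (Mq T M)) k, a • y = 0 := by
      intro k hk a ha y
      cases k with
      | zero =>
        have := subsingleton_HHT0 T₀ (Mq T M) hM'₀bot
        exact Subsingleton.elim _ _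
      | succ k =>
        have := hEvan T₀ hE₀bot (k + 1)
        obtain ⟨w, hw⟩ := HHT.exact₁ T₀ hS' k y (Subsingleton.elim _ _)
        rw [← hw, ← map_smul, hC₀ k (Nat.le_of_succ_le_succ hk) a ha, map_zero]
    -- conclude
    have hfin := kills_of_exact (HHT.map T₀ (sesGamma T M).f i) (HHT.map T₀ (sesGamma T M).g i)
      (fun y hy => HHT.exact₂ T₀ hS i y hy) J ((J * J) ^ expo s)
      (kills_HHT_of_kills T₀ J (ModuleCat.of R (gammaT T M)) hΓ i) (hM'₀ i hi)
    apply hfin c _ x
    have hexp : J ^ expo (s + 1) = J * (J * J) ^ expo s := by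
      change J ^ (2 * expo s + 1) = _
      rw [← pow_two, ← pow_mul, pow_succ']
    rw [← hexp]
    exact hc

end main

end Groth.Agent.Lib.Helper20.Falt
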