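import Mathlib
import Groth.Agent.Lib.Helper4.LocNorm

/-!
# Dimension functions: intervals of primes; depth via the normalized dualizing complex
-/

set_option autoImplicit false
set_option linter.style.haveILetI false
set_option linter.unusedSectionVars false
set_option linter.unusedVariables false
set_option maxHeartbeats 800000

universe u

open CategoryTheory CategoryTheory.Limits CategoryTheory.Pretriangulated DerivedCategory

attribute [local instance] HasDerivedCategory.standard

namespace Groth.Agent.Lib.Helper20.FaltLoc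

open Groth.Agent.Lib.Helper18.DR Groth.Agent.Lib.Helper18.DR.Dim

section order

variable {A : Type u} [CommRing A] [IsNoetherianRing A]
  (δ : PrimeSpectrum A → ℤ) (hδ : ∀ p q : PrimeSpectrum A, p ⋖ q → δ p = δ q + 1)

include hδ

lemma dimFun_anti (x y : PrimeSpectrum A) (hxy : x ≤ y) : δ y ≤ δ x := by
  rcases eq_or_lt_of_le hxy with rfl | h
  · exact le_rfl
  · have := dimFun_lt δ hδ x y h
    omega

/-- the dimension of the interval `[p, q]` of primes. -/
theorem krullDim_Icc_eq (p q : PrimeSpectrum A) (hpq : p ≤ q) :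
    0 ≤ δ p - δ q ∧
      Order.krullDim (Set.Icc p q) = (((δ p - δ q).toNat : ℕ) : WithBot ℕ∞) := by
  have h0 : 0 ≤ δ p - δ q := by
    have := dimFun_anti δ hδ p q hpq
    omega
  refine ⟨h0, ?_⟩
  rw [Order.krullDim]
  apply le_antisymm
  · refine iSup_le (fun t => ?_)
    have h1 := length_le_of_strictAnti
      (fun r : Set.Icc p q => δ r.1)
      (fun x y hxy => dimFun_lt δ hδ x.1 y.1 hxy) (δ q) (δ p)
      (fun r => ⟨dimFun_anti δ hδ r.1 q r.2.2, dimFun_anti δ hδ p r.1 r.2.1⟩) t
    exact_mod_cast h1
  · obtain ⟨s, hh, hl, hlen⟩ := exists_ltSeries_of_dimFun δ hδ p q hpq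
    let t : LTSeries (Set.Icc p q) :=
      { length := s.length
        toFun := fun i => ⟨s i, by
          have h1 := s.head_le i
          rw [hh] at h1
          have h2 : s i ≤ s.last := s.monotone (Fin.le_last i)
          rw [hl] at h2
          exact ⟨h1, h2⟩⟩
        step := fun i => s.step i }
    have h2 : ((t.length : ℕ) : WithBot ℕ∞) = (((δ p - δ q).toNat : ℕ) : WithBot ℕ∞) := by
      have : t.length = (δ p - δ q).toNat := by
        change s.length = _
        omega
      rw [this]
    rw [← h2]
    exact le_iSup (fun t : LTSeries (Set.Icc p q) => ((t.length : ℕ) : WithBot ℕ∞)) t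

end order

section depth

variable {B : Type u} [CommRing B] [IsLocalRing B] [IsNoetherianRing B] (ω' : Dual.D B)
  (hB : Dual.IsDualizing B ω') (hnorm : Dual.IsNormalized B ω')
  (N : Type u) [AddCommGroup N] [Module B N] [Module.Finite B N]

include hB hnorm in
lemma lt_depth_iff (t : ℕ) : (t : ℕ∞) < LocCoh.depth B N ↔
    ∀ k : ℕ, k ≤ t → Subsingleton (Dual.inD B N ⟶ ω'⟦(-(k : ℤ))⟧) := by
  by_cases hN : Subsingleton N
  · rw [Groth.Agent.Lib.Helper4.depth_eq_top_of_subsingleton]
    constructor
    · intro _ k _
      exact Groth.Agent.Lib.Helper4.DT.subsingleton_hom_of_subsingleton ω' (ModuleCat.of B N) hN _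
    · intro _
      exact ENat.natCast_lt_top t
  · haveI : Nontrivial N := not_subsingleton_iff_nontrivial.1 hN
    obtain ⟨m, hm⟩ := Groth.Agent.Lib.Helper4.exists_nat_depth (R := B) (M := N)
    have hT := (Groth.Agent.Lib.Helper4.DT.depth_eq_iff_T hB hnorm N m).1 hm
    rw [hm]
    constructor
    · intro h k hk
      have htm : t < m := by exact_mod_cast h
      exact hT.1 k (lt_of_le_of_lt hk htm)
    · intro h
      by_contra hcon
      have hmt : m ≤ t := by
        by_contra h'
        apply hcon
        have : t < m := not_le.1 h'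
        exact_mod_cast this
      exact absurd (h m hmt) (not_subsingleton_iff_nontrivial.2 hT.2)

include hB hnorm in
theorem lt_depth_add_iff (s d : ℕ) :
    (s : WithBot ℕ∞) < ((LocCoh.depth B N : ℕ∞) : WithBot ℕ∞) + ((d : ℕ) : WithBot ℕ∞) ↔
      ∀ k : ℕ, k + d ≤ s → Subsingleton (Dual.inD B N ⟶ ω'⟦(-(k : ℤ))⟧) := by
  rw [show ((d : ℕ) : WithBot ℕ∞) = (((d : ℕ) : ℕ∞) : WithBot ℕ∞) from rfl,
    show ((s : ℕ) : WithBot ℕ∞) = (((s : ℕ) : ℕ∞) : WithBot ℕ∞) from rfl,
    ← WithBot.coe_add, WithBot.coe_lt_coe]
  by_cases hds : s < d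
  · constructor
    · intro _ k hk
      omega
    · intro _
      have h1 : ((s : ℕ) : ℕ∞) < (d : ℕ∞) := by exact_mod_cast hds
      exact lt_of_lt_of_le h1 le_add_self
  · have hds' : d ≤ s := not_lt.1 hds
    have key : ((s : ℕ) : ℕ∞) < LocCoh.depth B N + (d : ℕ∞) ↔
        (((s - d : ℕ)) : ℕ∞) < LocCoh.depth B N := by
      cases hdep : LocCoh.depth B N with
      | top =>
        rw [top_add]
        exact ⟨fun _ => ENat.natCast_lt_top _, fun _ => ENat.natCast_lt_top _⟩
      | coe m =>
        constructor
        · intro h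
          have h' : s < m + d := by exact_mod_cast h
          have : s - d < m := by omega
          exact_mod_cast this
        · intro h
          have h' : s - d < m := by exact_mod_cast h
          have : s < m + d := by omega
          exact_mod_cast this
    rw [key, lt_depth_iff ω' hB hnorm N (s - d)]
    constructor
    · intro h k hk
      exact h k (by omega)
    · intro h k hk
      exact h k (by omega)

end depth

end Groth.Agent.Lib.Helper20.FaltLoc
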