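import Mathlib
import Groth.Agent.Lib.Helper4.LocNorm

/-!
# Annihilators of `Ext(M, ω)` under localization (on top of helper18's `HomLoc`/`Dim`, helper4's
`LocNorm`)
-/

set_option autoImplicit false
set_option linter.style.haveILetI false
set_option linter.unusedSectionVars false
set_option linter.unusedVariables false
set_option maxHeartbeats 800000

universe u

open CategoryTheory CategoryTheory.Limits CategoryTheory.Pretriangulated DerivedCategory

attribute [local instance] HasDerivedCategory.standard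

namespace Groth.Agent.Lib.Helper20.FaltLoc

open Groth.Agent.Lib.Helper18.DR Groth.Agent.Lib.Helper18.DR.Dim Groth.Agent.Lib.Helper18.DR.HomLoc
  Groth.Agent.Lib.Helper18.DR.HomBC Groth.Agent.Lib.Helper18.DR.MaxCrit
  Groth.Agent.Lib.Helper18.DR.Uniq Groth.Agent.Lib.Helper18.DR.Norm
  Groth.Agent.Lib.Helper4.LocNorm

open DTen

section semilinear

variable {A B : Type u} [CommRing A] [CommRing B] [Algebra A B] [Module.Flat A B]

/-- `Hom_B(B ⊗ M[-i], T) ≃ Hom_A(M[-i], T|_A)`, semilinearly. -/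
lemma exists_homSg_equiv_smul (M : ModuleCat.{u} A) (i : ℤ) (T : Dual.D B) :
    ∃ eq : (Sg i ((extM (A := A) (B := B)).obj M) ⟶ T) ≃
      (Sg i M ⟶ (DRing.restrictD (algebraMap A B)).obj T),
      ∀ (a : A) (g : Sg i ((extM (A := A) (B := B)).obj M) ⟶ T),
        eq ((algebraMap A B a) • g) = a • eq g := by
  obtain ⟨P, hP, -, ⟨e⟩⟩ := exists_kprojective_resolution (Sg i M)
  haveI := hP
  let e1 : DerivedCategory.Q.obj ((extCx (algebraMap A B)).obj P) ≅
      Sg i ((extM (A := A) (B := B)).obj M) :=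
    (mapDToDIso (extM (A := A) (B := B)) P).symm ≪≫ (extD A B).mapIso e ≪≫
      mapDSgIso (extM (A := A) (B := B)) i M
  refine ⟨(e1.homFromEquiv).symm.trans
    ((Equiv.ofBijective _ (γ_bijective (algebraMap A B) P T)).trans e.homFromEquiv), ?_⟩
  intro a g
  change e.inv ≫ (γ (algebraMap A B) P ≫
      (DRing.restrictD (algebraMap A B)).map (e1.hom ≫ ((algebraMap A B a) • g))) =
    a • (e.inv ≫ (γ (algebraMap A B) P ≫
      (DRing.restrictD (algebraMap A B)).map (e1.hom ≫ g)))
  rw [Linear.comp_smul, γ_comp_map_smul, Linear.comp_smul]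

end semilinear

section ann

variable {A : Type u} [CommRing A] [IsNoetherianRing A] (S : Submonoid A) {B : Type u} [CommRing B]
  [Algebra A B] [IsLocalization S B] {ω : Dual.D A} {ωB : Dual.D B}

/-- if `a` kills `Hom(M[-i], ω)` then it kills `Hom(B ⊗ M[-i], ω_B)`. -/
theorem smul_homSg_eq_zero_of_forall (hloc : IsLocOf S B ω ωB) (n₀ : ℤ) [ω.IsGE n₀]
    (M : ModuleCat.{u} A) [Module.Finite A M] (i : ℤ) (a : A)
    (ha : ∀ ψ : Sg i M ⟶ ω, a • ψ = 0)
    (g : Sg i ((extM (A := A) (B := B)).obj M) ⟶ ωB) : (algebraMap A B a) • g = 0 := by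
  obtain ⟨η, hη, hb⟩ := hloc
  haveI := isGE_restrict_of_sloc S hη n₀
  haveI : Module.Flat A B := IsLocalization.flat B S
  have hLP : LocProp S η (Sg i M) :=
    locProp_of_isPseudoCoherent' hη n₀ _ (isPseudoCoherent'_Sg_of_finite M i)
  obtain ⟨eq, heq⟩ := exists_homSg_equiv_smul (B := B) M i ωB
  obtain ⟨s, hs, ψ, hψ⟩ := hLP.surj (eq g)
  have h1 : (s : A) • (a • eq g) = 0 := by
    rw [smul_comm, hψ, ← Linear.smul_comp, ha ψ, zero_comp]
  have h2 : a • eq g = 0 := eq_zero_of_smul_eq_zero S ωB ⟨s, hs⟩ _ h1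
  have h0 : eq 0 = 0 := by
    have := heq 0 0
    rw [map_zero, zero_smul, zero_smul] at this
    exact this
  apply eq.injective
  rw [heq, h2, h0]

/-- if `a` kills `Hom(B ⊗ M[-i], ω_B)` then it kills `Hom(M[-i], ω)` locally. -/
theorem exists_smul_homSg_eq_zero_of_forall (hloc : IsLocOf S B ω ωB) (n₀ : ℤ) [ω.IsGE n₀]
    (M : ModuleCat.{u} A) [Module.Finite A M] (i : ℤ) (a : A)
    (ha : ∀ g : Sg i ((extM (A := A) (B := B)).obj M) ⟶ ωB, (algebraMap A B a) • g = 0)
    (ψ : Sg i M ⟶ ω) : ∃ s ∈ S, s • (a • ψ) = 0 := by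
  obtain ⟨η, hη, hb⟩ := hloc
  haveI := isGE_restrict_of_sloc S hη n₀
  haveI : Module.Flat A B := IsLocalization.flat B S
  have hLP : LocProp S η (Sg i M) :=
    locProp_of_isPseudoCoherent' hη n₀ _ (isPseudoCoherent'_Sg_of_finite M i)
  obtain ⟨eq, heq⟩ := exists_homSg_equiv_smul (B := B) M i ωB
  have h0 : eq 0 = 0 := by
    have := heq 0 0
    rw [map_zero, zero_smul, zero_smul] at this
    exact this
  refine hLP.inj (a • ψ) ?_
  rw [Linear.smul_comp]
  have h1 : ψ ≫ η = eq (eq.symm (ψ ≫ η)) := (eq.apply_symm_apply _).symm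
  rw [h1, ← heq, ha, h0]

end ann

section main

variable {A : Type u} [CommRing A] [IsNoetherianRing A]

/-- `exists_localize_normalize`, with control of annihilators. -/
theorem exists_localize_normalize_ann (ω : Dual.D A) (hω : Dual.IsDualizing A ω)
    (p : PrimeSpectrum A) :
    ∃ (ω' : Dual.D (Localization.AtPrime p.asIdeal)) (n : ℤ),
      Dual.IsDualizing (Localization.AtPrime p.asIdeal) ω' ∧
      Dual.IsNormalized (Localization.AtPrime p.asIdeal) ω' ∧
      IsDeg ω p n ∧
      (∀ (M : Type u) [AddCommGroup M] [Module A M] [Module.Finite A M] (i : ℤ),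
        Subsingleton (LocalizedModule p.asIdeal.primeCompl (Dual.inD A M ⟶ ω⟦i⟧)) ↔
          Subsingleton (Dual.inD (Localization.AtPrime p.asIdeal)
            (LocalizedModule p.asIdeal.primeCompl M) ⟶ ω'⟦i - n⟧)) ∧
      (∀ (M : Type u) [AddCommGroup M] [Module A M] [Module.Finite A M] (i : ℤ) (a : A),
        (∀ ψ : Dual.inD A M ⟶ ω⟦i⟧, a • ψ = 0) →
          ∀ g : Dual.inD (Localization.AtPrime p.asIdeal)
              (LocalizedModule p.asIdeal.primeCompl M) ⟶ ω'⟦i - n⟧,
            (algebraMap A (Localization.AtPrime p.asIdeal) a) • g = 0) ∧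
      (∀ (M : Type u) [AddCommGroup M] [Module A M] [Module.Finite A M] (i : ℤ) (a : A),
        (∀ g : Dual.inD (Localization.AtPrime p.asIdeal)
              (LocalizedModule p.asIdeal.primeCompl M) ⟶ ω'⟦i - n⟧,
            (algebraMap A (Localization.AtPrime p.asIdeal) a) • g = 0) →
          ∀ ψ : Dual.inD A M ⟶ ω⟦i⟧, ∃ s : A, s ∉ p.asIdeal ∧ s • (a • ψ) = 0) := by
  obtain ⟨a₀, b₀, hab⟩ := hω.finite_injective_dimension
  have hfid : FidIn ω a₀ b₀ := hab
  haveI := hfid.isGE
  have hB := isDualizing_locAt ω hω p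
  obtain ⟨n, hdeg⟩ := exists_isDeg ω a₀ p hB
  -- the comparison isomorphisms
  have eM : ∀ (M : Type u) [AddCommGroup M] [Module A M],
      ((extM (A := A) (B := Localization.AtPrime p.asIdeal)).obj (ModuleCat.of A M))
        ≃ₗ[Localization.AtPrime p.asIdeal] LocalizedModule p.asIdeal.primeCompl M :=
    fun M _ _ => (extMEquiv (B := Localization.AtPrime p.asIdeal) (ModuleCat.of A M)).trans
      (IsLocalizedModule.isBaseChange p.asIdeal.primeCompl (Localization.AtPrime p.asIdeal)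
        (LocalizedModule.mkLinearMap p.asIdeal.primeCompl M)).equiv
  have e1 : ∀ (M : Type u) [AddCommGroup M] [Module A M],
      Sg 0 ((extM (A := A) (B := Localization.AtPrime p.asIdeal)).obj (ModuleCat.of A M)) ≅
        Dual.inD (Localization.AtPrime p.asIdeal) (LocalizedModule p.asIdeal.primeCompl M) :=
    fun M _ _ =>
      (DerivedCategory.singleFunctor (ModuleCat.{u} (Localization.AtPrime p.asIdeal)) 0).mapIso
        (eM M).toModuleIso
  have e2 : ∀ i : ℤ, (locAt ω p)⟦i⟧ ≅ ((locAt ω p)⟦n⟧)⟦i - n⟧ := fun i =>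
    (shiftFunctorAdd' (Dual.D (Localization.AtPrime p.asIdeal)) n (i - n) i (by omega)).app
      (locAt ω p)
  refine ⟨(locAt ω p)⟦n⟧, n, InvTwist.isDualizing_shift _ hB n,
    isNormalized_shift_of _ n (fun i hi => hdeg.subsingleton_hom a₀ i hi), hdeg, ?_, ?_, ?_⟩
  · intro M _ _ _ i
    rw [subsingleton_localizedModule_hom_iff p.asIdeal.primeCompl (isLocOf_locAt ω p) a₀
      (ModuleCat.of A M) i]
    exact (Iso.homCongr (e1 M) (e2 i)).subsingleton_congr
  · intro M _ _ _ i a ha g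
    have ha' : ∀ ψ : Sg i (ModuleCat.of A M) ⟶ ω, a • ψ = 0 := by
      intro ψ
      apply (shHom_bijective (ModuleCat.of A M) ω i).1
      rw [shHom_smul, shHom_zero]
      exact ha _
    have h1 := smul_homSg_eq_zero_of_forall p.asIdeal.primeCompl (isLocOf_locAt ω p) a₀
      (ModuleCat.of A M) i a ha'
    obtain ⟨g₀, hg₀⟩ := (shHom_bijective
      ((extM (A := A) (B := Localization.AtPrime p.asIdeal)).obj (ModuleCat.of A M))
      (locAt ω p) i).2 ((e1 M).hom ≫ g ≫ (e2 i).inv)
    have h2 : g = (e1 M).inv ≫ shHom _ (locAt ω p) i g₀ ≫ (e2 i).hom := by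
      rw [hg₀, Category.assoc, Category.assoc, Iso.inv_hom_id, Category.comp_id,
        Iso.inv_hom_id_assoc]
    rw [h2, ← Linear.comp_smul, ← Linear.smul_comp, ← shHom_smul, h1 g₀, shHom_zero, zero_comp,
      comp_zero]
  · intro M _ _ _ i a ha ψ
    have ha' : ∀ g : Sg i ((extM (A := A) (B := Localization.AtPrime p.asIdeal)).obj
        (ModuleCat.of A M)) ⟶ locAt ω p,
        (algebraMap A (Localization.AtPrime p.asIdeal) a) • g = 0 := by
      intro g
      apply (shHom_bijective _ (locAt ω p) i).1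
      rw [shHom_zero]
      have h3 := ha ((e1 M).inv ≫ shHom _ (locAt ω p) i g ≫ (e2 i).hom)
      rw [← Linear.comp_smul, ← Linear.smul_comp, ← shHom_smul] at h3
      have h4 : shHom _ (locAt ω p) i
          ((algebraMap A (Localization.AtPrime p.asIdeal) a) • g) ≫ (e2 i).hom = 0 := by
        rw [← cancel_epi (e1 M).inv, h3, comp_zero]
      rw [← cancel_mono (e2 i).hom, h4, zero_comp]
    obtain ⟨ψ₀, hψ₀⟩ := (shHom_bijective (ModuleCat.of A M) ω i).2 ψ
    obtain ⟨s, hs, h5⟩ := exists_smul_homSg_eq_zero_of_forall p.asIdeal.primeCompl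
      (isLocOf_locAt ω p) a₀ (ModuleCat.of A M) i a ha' ψ₀
    refine ⟨s, hs, ?_⟩
    rw [← hψ₀, ← shHom_smul, ← shHom_smul, h5, shHom_zero]

end main

end Groth.Agent.Lib.Helper20.FaltLoc
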