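import Mathlib
import Groth.Agent.Lib.Helper20.FaltLocAnn
import Groth.Agent.Lib.Helper20.FaltDim
import Groth.Agent.Lib.Helper20.FaltAnn1
import Groth.Agent.Lib.Helper20.FaltAnn2
import Groth.Agent.S1713

/-!
# Faltings' annihilator theorem for `H_T`, (1) ⇒ (2); the local data of a dualizing complex
-/

set_option autoImplicit false
set_option linter.style.haveILetI false
set_option linter.unusedSectionVars false
set_option linter.unusedVariables false
set_option maxHeartbeats 800000

universe u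

open CategoryTheory CategoryTheory.Limits CategoryTheory.Pretriangulated DerivedCategory

attribute [local instance] HasDerivedCategory.standard

namespace Groth.Agent.Lib.Helper20.FaltLoc

open Groth.Agent.Lib.Helper18.DR Groth.Agent.Lib.Helper18.DR.Dim Groth.Agent.Lib.Helper18.DR.HomLoc
  Groth.Agent.Lib.Helper20.HTModel Groth.Agent.Lib.Helper20.Falt Groth.Agent.Lib.Helper4

variable {A : Type u} [CommRing A] [IsNoetherianRing A]

/-- the local data attached to a dualizing complex and a dimension function. -/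
def IsLocalData (ω : Dual.D A) (δ : PrimeSpectrum A → ℤ) : Prop :=
  ∀ p : PrimeSpectrum A, ∃ ω' : Dual.D (Localization.AtPrime p.asIdeal),
    Dual.IsDualizing (Localization.AtPrime p.asIdeal) ω' ∧
    Dual.IsNormalized (Localization.AtPrime p.asIdeal) ω' ∧
    (∀ (M : Type u) [AddCommGroup M] [Module A M] [Module.Finite A M] (i : ℤ),
      Subsingleton (LocalizedModule p.asIdeal.primeCompl (Dual.inD A M ⟶ ω⟦i⟧)) ↔
        Subsingleton (Dual.inD (Localization.AtPrime p.asIdeal)
          (LocalizedModule p.asIdeal.primeCompl M) ⟶ ω'⟦i - -δ p⟧)) ∧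
    (∀ (M : Type u) [AddCommGroup M] [Module A M] [Module.Finite A M] (i : ℤ) (a : A),
      (∀ ψ : Dual.inD A M ⟶ ω⟦i⟧, a • ψ = 0) →
        ∀ g : Dual.inD (Localization.AtPrime p.asIdeal)
            (LocalizedModule p.asIdeal.primeCompl M) ⟶ ω'⟦i - -δ p⟧,
          (algebraMap A (Localization.AtPrime p.asIdeal) a) • g = 0) ∧
    (∀ (M : Type u) [AddCommGroup M] [Module A M] [Module.Finite A M] (i : ℤ) (a : A),
      (∀ g : Dual.inD (Localization.AtPrime p.asIdeal)
            (LocalizedModule p.asIdeal.primeCompl M) ⟶ ω'⟦i - -δ p⟧,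
          (algebraMap A (Localization.AtPrime p.asIdeal) a) • g = 0) →
        ∀ ψ : Dual.inD A M ⟶ ω⟦i⟧, ∃ s : A, s ∉ p.asIdeal ∧ s • (a • ψ) = 0)

theorem exists_local_data (ω : Dual.D A) (hω : Dual.IsDualizing A ω) :
    ∃ (δ : PrimeSpectrum A → ℤ) (lo hi : ℤ),
      (∀ p q : PrimeSpectrum A, p ⋖ q → δ p = δ q + 1) ∧ (∀ p, lo ≤ δ p ∧ δ p ≤ hi) ∧
      IsLocalData ω δ := by
  obtain ⟨δ, h1, h2⟩ := exists_dimension_function ω hω
  obtain ⟨a, b, hab⟩ := hω.finite_injective_dimension
  refine ⟨δ, -b, -a, h2, fun p => ?_, fun p => ?_⟩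
  · have h3 := (h1 p (-δ p)).2 rfl
    have h4 : ¬ ((-δ p) < a ∨ b < (-δ p)) := by
      intro h
      haveI := hab (A ⧸ p.asIdeal) (-δ p) h
      have h5 : Subsingleton (LocalizedModule p.asIdeal.primeCompl
        (Dual.inD A (A ⧸ p.asIdeal) ⟶ ω⟦-δ p⟧)) := inferInstance
      exact not_subsingleton _ h5
    omega
  · obtain ⟨ω', n, hB, hnorm, hdeg, hE, hD, hU⟩ := exists_localize_normalize_ann ω hω p
    have hnp : n = -δ p := hdeg.unique (h1 p)
    subst hnp
    exact ⟨ω', hB, hnorm, hE, hD, hU⟩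

section partA

variable (ω : Dual.D A) (hω : Dual.IsDualizing A ω) (T T' : Set (PrimeSpectrum A))
  (hT : StableUnderSpecialization T) (s : ℕ) (M : Type u) [AddCommGroup M] [Module A M]
  [Module.Finite A M]

include hω hT in
/-- **(1) ⇒ (2)**. -/
theorem depth_of_kills (J : Ideal A) (hJ : PrimeSpectrum.zeroLocus (J : Set A) ⊆ T')
    (hkill : ∀ i : ℕ, i ≤ s → ∀ a ∈ J, ∀ x : HHT T (ModuleCat.of A M) i, a • x = 0)
    (p q : PrimeSpectrum A) (hp : p ∉ T') (hq : q ∈ T) (hpq : p ≤ q) :
    (s : WithBot ℕ∞) < ((LocCoh.depth (Localization.AtPrime p.asIdeal)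
      (LocalizedModule p.asIdeal.primeCompl M) : ℕ∞) : WithBot ℕ∞) +
        Order.krullDim (Set.Icc p q) := by
  obtain ⟨δ, lo, hi, hδ, hbd, hloc⟩ := exists_local_data ω hω
  obtain ⟨ωp, hBp, hnp, hEp, -, -⟩ := hloc p
  obtain ⟨ωq, hBq, hnq, -, -, hUq⟩ := hloc q
  obtain ⟨hd0, hdim⟩ := krullDim_Icc_eq δ hδ p q hpq
  rw [hdim]
  haveI : IsNoetherianRing (Localization.AtPrime p.asIdeal) :=
    IsLocalization.isNoetherianRing p.asIdeal.primeCompl _ inferInstance
  haveI : IsNoetherianRing (Localization.AtPrime q.asIdeal) :=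
    IsLocalization.isNoetherianRing q.asIdeal.primeCompl _ inferInstance
  rw [lt_depth_add_iff ωp hBp hnp (LocalizedModule p.asIdeal.primeCompl M) s (δ p - δ q).toNat]
  intro k hk
  -- an element of `J` outside `p`
  have hJp : ¬ J ≤ p.asIdeal := by
    intro hle
    apply hp
    apply hJ
    rw [PrimeSpectrum.mem_zeroLocus, SetLike.coe_subset_coe]
    exact hle
  obtain ⟨a₀, ha₀J, ha₀p⟩ := SetLike.not_le_iff_exists.1 hJp
  set a : A := a₀ ^ expo s with ha
  have haJ : a ∈ J ^ expo s := Ideal.pow_mem_pow ha₀J _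
  have hap : a ∉ p.asIdeal := fun h => ha₀p (p.isPrime.mem_of_pow_mem _ h)
  -- the degree
  set i : ℕ := k + (δ p - δ q).toNat with hi
  have his : i ≤ s := hk
  -- `a` kills `H^i_{V(q)}(M)`
  have hVq : PrimeSpectrum.zeroLocus (q.asIdeal : Set A) ⊆ T := by
    intro r hr
    rw [PrimeSpectrum.mem_zeroLocus, SetLike.coe_subset_coe] at hr
    exact hT ((PrimeSpectrum.le_iff_specializes q r).1 hr) hq
  have h1 : ∀ x : HHT (PrimeSpectrum.zeroLocus (q.asIdeal : Set A)) (ModuleCat.of A M) i,
      a • x = 0 :=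
    kills_sub hVq s J M hkill i his a haJ
  have h2 : ∀ z : LC.HH q.asIdeal (ModuleCat.of A M) i, a • z = 0 :=
    (kills_HH_iff q.asIdeal _ subset_rfl (ModuleCat.of A M) i subset_rfl a).2 h1
  have h3 := kills_loc q M i a h2
  -- pass to `LocCoh.H` and apply the duality of annihilators
  have h4 : algebraMap A (Localization.AtPrime q.asIdeal) a ∈
      Module.annihilator (Localization.AtPrime q.asIdeal)
        (LocCoh.H (IsLocalRing.maximalIdeal (Localization.AtPrime q.asIdeal)) i
          (LocalizedModule q.asIdeal.primeCompl M)) := by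
    rw [Module.mem_annihilator]
    intro m
    apply (LC.lcEquiv (IsLocalRing.maximalIdeal (Localization.AtPrime q.asIdeal))
      (ModuleCat.of (Localization.AtPrime q.asIdeal)
        (LocalizedModule q.asIdeal.primeCompl M)) i).injective
    rw [map_smul, map_zero]
    exact h3 _
  rw [← Groth.Agent.S1713.result (Localization.AtPrime q.asIdeal) ωq hBq hnq
    (LocalizedModule q.asIdeal.primeCompl M) i, Module.mem_annihilator] at h4
  -- lift to `A`
  have e1 : (-(i : ℤ) - δ q) - -δ q = -(i : ℤ) := by ring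
  have h5 := hUq M (-(i : ℤ) - δ q) a
  rw [e1] at h5
  have h6 := h5 h4
  -- the localization at `p` vanishes
  have h7 : Subsingleton (LocalizedModule p.asIdeal.primeCompl
      (Dual.inD A M ⟶ ω⟦-(i : ℤ) - δ q⟧)) := by
    rw [LocalizedModule.subsingleton_iff]
    intro ψ
    obtain ⟨t, htq, ht⟩ := h6 ψ
    refine ⟨t * a, ?_, ?_⟩
    · intro hmem
      rcases p.isPrime.mem_or_mem hmem with h | h
      · exact htq (hpq h)
      · exact hap h
    · rw [mul_smul]
      exact ht
  have h8 := (hEp M (-(i : ℤ) - δ q)).1 h7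
  have e2 : (-(i : ℤ) - δ q) - -δ p = -(k : ℤ) := by
    rw [hi]
    push_cast
    rw [Int.toNat_of_nonneg hd0]
    ring
  rw [e2] at h8
  exact h8

end partA

end Groth.Agent.Lib.Helper20.FaltLoc
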