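import Mathlib
import Groth.Agent.Lib.Helper20.FaltMainA
import Groth.Agent.Lib.Helper20.FaltAnn3
import Groth.Agent.Lib.Helper4.ExtSupp

/-!
# Faltings' annihilator theorem for `H_T`, (2) ⇒ (1)
-/

set_option autoImplicit false
set_option linter.style.haveILetI false
set_option linter.unusedSectionVars false
set_option linter.unusedVariables false
set_option maxHeartbeats 800000

universe u

open CategoryTheory CategoryTheory.Limits CategoryTheory.Pretriangulated DerivedCategory

attribute [local instance] HasDerivedCategory.standard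

namespace Groth.Agent.Lib.Helper20.FaltLoc

open Groth.Agent.Lib.Helper18.DR Groth.Agent.Lib.Helper18.DR.Dim Groth.Agent.Lib.Helper18.DR.HomLoc
  Groth.Agent.Lib.Helper20.HTModel Groth.Agent.Lib.Helper20.Falt Groth.Agent.Lib.Helper4

variable {A : Type u} [CommRing A] [IsNoetherianRing A]

/-- the filtration of `T` by a dimension function. -/
def Tn (T : Set (PrimeSpectrum A)) (δ : PrimeSpectrum A → ℤ) (n : ℤ) : Set (PrimeSpectrum A) :=
  {p | p ∈ T ∧ δ p ≤ n}

section partB

variable (ω : Dual.D A) (hω : Dual.IsDualizing A ω) (δ : PrimeSpectrum A → ℤ)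
  (hδ : ∀ p q : PrimeSpectrum A, p ⋖ q → δ p = δ q + 1) (hdata : IsLocalData ω δ)
  (T T' : Set (PrimeSpectrum A)) (hT : StableUnderSpecialization T)
  (hT' : StableUnderSpecialization T') (s : ℕ) (M : Type u) [AddCommGroup M] [Module A M]
  [Module.Finite A M]
  (h2 : ∀ p q : PrimeSpectrum A, p ∉ T' → q ∈ T → p ≤ q →
    (s : WithBot ℕ∞) < ((LocCoh.depth (Localization.AtPrime p.asIdeal)
      (LocalizedModule p.asIdeal.primeCompl M) : ℕ∞) : WithBot ℕ∞) +
        Order.krullDim (Set.Icc p q))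

include hδ hT in
lemma Tn_stable (n : ℤ) : StableUnderSpecialization (Tn T δ n) := by
  intro x y hxy hx
  have hle : x ≤ y := (PrimeSpectrum.le_iff_specializes x y).2 hxy
  exact ⟨hT hxy hx.1, (dimFun_anti δ hδ x y hle).trans hx.2⟩

include hδ hdata h2 in
lemma subsingleton_localized_E (p q : PrimeSpectrum A) (hp : p ∉ T') (hq : q ∈ T) (hpq : p ≤ q)
    (j : ℤ) (hj : -(s : ℤ) - δ q ≤ j) :
    Subsingleton (LocalizedModule p.asIdeal.primeCompl (Dual.inD A M ⟶ ω⟦j⟧)) := by
  obtain ⟨ωp, hBp, hnp, hEp, -, -⟩ := hdata p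
  haveI : IsNoetherianRing (Localization.AtPrime p.asIdeal) :=
    IsLocalization.isNoetherianRing p.asIdeal.primeCompl _ inferInstance
  rw [hEp M j]
  obtain ⟨hd0, hdim⟩ := krullDim_Icc_eq δ hδ p q hpq
  have h3 := h2 p q hp hq hpq
  rw [hdim, lt_depth_add_iff ωp hBp hnp (LocalizedModule p.asIdeal.primeCompl M) s
    (δ p - δ q).toNat] at h3
  by_cases hpos : 0 < j - -δ p
  · exact DT.T_pos hBp hnp (LocalizedModule p.asIdeal.primeCompl M) (j - -δ p) hpos
  · obtain ⟨k, hk⟩ : ∃ k : ℕ, j - -δ p = -(k : ℤ) := ⟨(-(j - -δ p)).toNat, by omega⟩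
    rw [hk]
    apply h3 k
    omega

include hω hδ hdata hT' h2 in
theorem exists_ideal_kills_local (n : ℤ) (i : ℕ) (hi : i ≤ s) :
    ∃ K : Ideal A, PrimeSpectrum.zeroLocus (K : Set A) ⊆ T' ∧
      ∀ q ∈ T, δ q = n → ∀ c ∈ K, ∀ z : LC.HH (mP q)
          (ModuleCat.of (Rp q) (LocalizedModule q.asIdeal.primeCompl M)) i,
        (algebraMap A (Rp q) c) • z = 0 := by
  classical
  set j : ℤ := -n - i with hj
  haveI hEfin : Module.Finite A (Dual.inD A M ⟶ ω⟦j⟧) := Groth.Agent.Lib.Helper4.ExtSupp.T_finite' ω hω M j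
  set 𝔞 : Ideal A := Module.annihilator A (Dual.inD A M ⟶ ω⟦j⟧) with h𝔞
  have hfin := Ideal.finite_minimalPrimes_of_isNoetherianRing A 𝔞
  let inT' : Ideal A → Prop := fun P => ∃ hP : P.IsPrime, (⟨P, hP⟩ : PrimeSpectrum A) ∈ T'
  let F₁ : Finset (Ideal A) := hfin.toFinset.filter inT'
  let F₂ : Finset (Ideal A) := hfin.toFinset.filter (fun P => ¬ inT' P)
  let K : Ideal A := ∏ P ∈ F₁, P
  let K' : Ideal A := ∏ P ∈ F₂, P
  have hKK' : K * K' ≤ 𝔞.radical := by
    rw [← Ideal.sInf_minimalPrimes]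
    apply le_sInf
    intro P hP
    by_cases hPT : inT' P
    · have hmem : P ∈ F₁ := Finset.mem_filter.2 ⟨hfin.mem_toFinset.2 hP, hPT⟩
      exact Ideal.mul_le_left.trans
        (Ideal.le_of_dvd (Finset.dvd_prod_of_mem (fun P : Ideal A => P) hmem))
    · have hmem : P ∈ F₂ := Finset.mem_filter.2 ⟨hfin.mem_toFinset.2 hP, hPT⟩
      exact Ideal.mul_le_right.trans
        (Ideal.le_of_dvd (Finset.dvd_prod_of_mem (fun P : Ideal A => P) hmem))
  obtain ⟨N, hN⟩ := Ideal.exists_pow_le_of_le_radical_of_fg hKK' (IsNoetherian.noetherian _)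
  refine ⟨K ^ N, ?_, ?_⟩
  · intro r hr
    rw [PrimeSpectrum.mem_zeroLocus, SetLike.coe_subset_coe] at hr
    have hKr : K ≤ r.asIdeal := by
      by_cases hN0 : N = 0
      · subst hN0
        rw [pow_zero, Ideal.one_eq_top] at hr
        exact absurd (top_le_iff.1 hr) r.isPrime.ne_top
      · exact (Ideal.IsPrime.pow_le_iff hN0).1 hr
    obtain ⟨P, hPF, hPr⟩ := (Ideal.IsPrime.prod_le r.isPrime).1 hKr
    obtain ⟨hP, hPT'⟩ := (Finset.mem_filter.1 hPF).2
    exact hT' ((PrimeSpectrum.le_iff_specializes ⟨P, hP⟩ r).1 hPr) hPT'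
  · intro q hqT hqn c hc z
    obtain ⟨ωq, hBq, hnq, -, hDq, -⟩ := hdata q
    haveI : IsNoetherianRing (Localization.AtPrime q.asIdeal) :=
      IsLocalization.isNoetherianRing q.asIdeal.primeCompl _ inferInstance
    have hK'q : ¬ K' ≤ q.asIdeal := by
      intro hle
      obtain ⟨P, hPF, hPq⟩ := (Ideal.IsPrime.prod_le q.isPrime).1 hle
      obtain ⟨hPmem, hPT'⟩ := Finset.mem_filter.1 hPF
      have hPmin : P ∈ 𝔞.minimalPrimes := hfin.mem_toFinset.1 hPmem
      have hPprime : P.IsPrime := hPmin.1.1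
      have hPnot : (⟨P, hPprime⟩ : PrimeSpectrum A) ∉ T' := fun h => hPT' ⟨hPprime, h⟩
      have hsub := subsingleton_localized_E ω δ hδ hdata T T' s M h2 ⟨P, hPprime⟩ q hPnot hqT
        hPq j (by omega)
      have hsupp : (⟨P, hPprime⟩ : PrimeSpectrum A) ∈
          Module.support A (Dual.inD A M ⟶ ω⟦j⟧) := by
        rw [Module.mem_support_iff_of_finite]
        exact hPmin.1.2
      rw [Module.mem_support_iff] at hsupp
      exact not_subsingleton _ hsub
    obtain ⟨u, huK', huq⟩ := SetLike.not_le_iff_exists.1 hK'q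
    have hmem : c * u ^ N ∈ 𝔞 := by
      apply hN
      rw [mul_pow]
      exact Ideal.mul_mem_mul hc (Ideal.pow_mem_pow huK' N)
    have hkillE : ∀ ψ : Dual.inD A M ⟶ ω⟦j⟧, (c * u ^ N) • ψ = 0 :=
      fun ψ => Module.mem_annihilator.1 hmem ψ
    have h3 := hDq M j (c * u ^ N) hkillE
    have e1 : j - -δ q = -(i : ℤ) := by
      rw [hqn]
      omega
    rw [e1] at h3
    have h4 : algebraMap A (Localization.AtPrime q.asIdeal) (c * u ^ N) ∈
        Module.annihilator (Localization.AtPrime q.asIdeal)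
          (Dual.inD (Localization.AtPrime q.asIdeal)
            (LocalizedModule q.asIdeal.primeCompl M) ⟶ ωq⟦-(i : ℤ)⟧) :=
      Module.mem_annihilator.2 h3
    rw [Groth.Agent.S1713.result (Localization.AtPrime q.asIdeal) ωq hBq hnq
      (LocalizedModule q.asIdeal.primeCompl M) i, Module.mem_annihilator] at h4
    have h5 : algebraMap A (Localization.AtPrime q.asIdeal) (c * u ^ N) • z = 0 := by
      have h6 := h4 ((LC.lcEquiv (IsLocalRing.maximalIdeal (Localization.AtPrime q.asIdeal))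
        (ModuleCat.of (Localization.AtPrime q.asIdeal)
          (LocalizedModule q.asIdeal.primeCompl M)) i).symm z)
      have h7 := congrArg (LC.lcEquiv (IsLocalRing.maximalIdeal (Localization.AtPrime q.asIdeal))
        (ModuleCat.of (Localization.AtPrime q.asIdeal)
          (LocalizedModule q.asIdeal.primeCompl M)) i) h6
      rw [map_smul, LinearEquiv.apply_symm_apply, map_zero] at h7
      exact h7
    rw [map_mul, map_pow, mul_comm, mul_smul] at h5
    have hunit : IsUnit ((algebraMap A (Localization.AtPrime q.asIdeal) u) ^ N) :=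
      (IsLocalization.map_units (Localization.AtPrime q.asIdeal)
        (⟨u, huq⟩ : q.asIdeal.primeCompl)).pow N
    exact (hunit.smul_eq_zero).1 h5

include hω hδ hdata hT hT' h2 in
theorem exists_ideal_kills_Tn (i : ℕ) (hi : i ≤ s) (lo : ℤ) (hlo : ∀ p, lo ≤ δ p) :
    ∀ m : ℕ, ∃ K : Ideal A, PrimeSpectrum.zeroLocus (K : Set A) ⊆ T' ∧
      ∀ a ∈ K, ∀ x : HHT (Tn T δ (lo - 1 + (m : ℤ))) (ModuleCat.of A M) i, a • x = 0 := by
  intro m
  induction m with
  | zero =>
    refine ⟨⊤, ?_, ?_⟩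
    · intro r hr
      rw [PrimeSpectrum.mem_zeroLocus, SetLike.coe_subset_coe] at hr
      exact absurd (top_le_iff.1 hr) r.isPrime.ne_top
    · intro a _ x
      have hempty : Tn T δ (lo - 1 + ((0 : ℕ) : ℤ)) = ∅ := by
        ext p
        constructor
        · rintro ⟨_, hp⟩
          have := hlo p
          omega
        · intro hp
          exact absurd hp (Set.notMem_empty p)
      have := subsingleton_HHT_empty _ hempty (ModuleCat.of A M) i
      exact Subsingleton.elim _ _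
  | succ m ih =>
    obtain ⟨K₁, hK₁, hk₁⟩ := ih
    obtain ⟨K, hK, hk⟩ := exists_ideal_kills_local ω hω δ hδ hdata T T' hT' s M h2
      (lo - 1 + ((m + 1 : ℕ) : ℤ)) i hi
    refine ⟨K₁ * K, ?_, ?_⟩
    · intro r hr
      rw [PrimeSpectrum.mem_zeroLocus, SetLike.coe_subset_coe] at hr
      rcases (Ideal.IsPrime.mul_le r.isPrime).1 hr with h | h
      · apply hK₁
        rw [PrimeSpectrum.mem_zeroLocus, SetLike.coe_subset_coe]
        exact h
      · apply hK
        rw [PrimeSpectrum.mem_zeroLocus, SetLike.coe_subset_coe]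
        exact h
    · have hsub : Tn T δ (lo - 1 + (m : ℤ)) ⊆ Tn T δ (lo - 1 + ((m + 1 : ℕ) : ℤ)) := by
        intro p hp
        refine ⟨hp.1, ?_⟩
        have := hp.2
        omega
      apply kills_step (Tn T δ (lo - 1 + (m : ℤ))) (Tn T δ (lo - 1 + ((m + 1 : ℕ) : ℤ))) hsub
        (Tn_stable δ hδ T hT _) ?_ (ModuleCat.of A M) i K₁ K hk₁ ?_
      · intro p hp hp₁ q hq hqp
        by_contra hne
        have hlt : q < p := lt_of_le_of_ne hqp hne
        have h3 := dimFun_lt δ hδ q p hlt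
        have h4 : ¬ δ p ≤ lo - 1 + (m : ℤ) := fun h => hp₁ ⟨hp.1, h⟩
        have h5 := hq.2
        have h6 := hp.2
        omega
      · intro q hq hq₁ c hc z
        have h4 : ¬ δ q ≤ lo - 1 + (m : ℤ) := fun h => hq₁ ⟨hq.1, h⟩
        have h6 := hq.2
        exact hk q hq.1 (by omega) c hc z

end partB

section final

variable (ω : Dual.D A) (hω : Dual.IsDualizing A ω)
  (T T' : Set (PrimeSpectrum A)) (hT : StableUnderSpecialization T)
  (hT' : StableUnderSpecialization T') (s : ℕ) (M : Type u) [AddCommGroup M] [Module A M]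
  [Module.Finite A M]

include hω hT hT' in
/-- **(2) ⇒ (1)**. -/
theorem kills_of_depth
    (h2 : ∀ p q : PrimeSpectrum A, p ∉ T' → q ∈ T → p ≤ q →
      (s : WithBot ℕ∞) < ((LocCoh.depth (Localization.AtPrime p.asIdeal)
        (LocalizedModule p.asIdeal.primeCompl M) : ℕ∞) : WithBot ℕ∞) +
          Order.krullDim (Set.Icc p q)) :
    ∃ J : Ideal A, PrimeSpectrum.zeroLocus (J : Set A) ⊆ T' ∧
      ∀ i : ℕ, i ≤ s → ∀ a ∈ J, ∀ x : HHT T (ModuleCat.of A M) i, a • x = 0 := by
  classical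
  obtain ⟨δ, lo, hi, hδ, hbd, hdata⟩ := exists_local_data ω hω
  have key : ∀ i : ℕ, i ≤ s → ∃ K : Ideal A, PrimeSpectrum.zeroLocus (K : Set A) ⊆ T' ∧
      ∀ a ∈ K, ∀ x : HHT T (ModuleCat.of A M) i, a • x = 0 := by
    intro i hi'
    obtain ⟨K, hK, hk⟩ := exists_ideal_kills_Tn ω hω δ hδ hdata T T' hT hT' s M h2 i hi' lo
      (fun p => (hbd p).1) (hi - lo + 1).toNat
    have hTn : Tn T δ (lo - 1 + (((hi - lo + 1).toNat : ℕ) : ℤ)) = T := by
      ext p
      constructor
      · exact fun h => h.1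
      · intro h
        refine ⟨h, ?_⟩
        have := hbd p
        omega
    rw [hTn] at hk
    exact ⟨K, hK, hk⟩
  choose! K hK hk using key
  refine ⟨∏ i ∈ Finset.range (s + 1), K i, ?_, ?_⟩
  · intro r hr
    rw [PrimeSpectrum.mem_zeroLocus, SetLike.coe_subset_coe] at hr
    obtain ⟨i, hi', hle⟩ := (Ideal.IsPrime.prod_le r.isPrime).1 hr
    apply hK i (Nat.lt_succ_iff.1 (Finset.mem_range.1 hi'))
    rw [PrimeSpectrum.mem_zeroLocus, SetLike.coe_subset_coe]
    exact hle
  · intro i hi' a ha x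
    have hle : ∏ i ∈ Finset.range (s + 1), K i ≤ K i :=
      Ideal.prod_le_inf.trans (Finset.inf_le (Finset.mem_range.2 (Nat.lt_succ_of_le hi')))
    exact hk i hi' a (hle ha) x

end final

end Groth.Agent.Lib.Helper20.FaltLoc
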