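import Mathlib
import Groth.Prelude.Def_DualLC
import Groth.Agent.Lib.Helper4.LC6
import Groth.Agent.Lib.Helper20.LCFlat
import Groth.Agent.Lib.Helper20.LCTorsion

/-!
# Vanishing of local cohomology from vanishing at the stalks

Given the exact sequence `H^i_{a+(b)}(N) → H^i_a(N) → H^i_a(N_b)` (statement S11682, taken here as
a hypothesis `Hex`), we show by Noetherian induction: if `H^i_{pR_p}(N_p) = 0` for every prime
`p ⊇ I`, then `H^i_I(N) = 0`.
-/

set_option autoImplicit false
set_option linter.unusedSectionVars false
set_option linter.unusedVariables false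

universe u

open CategoryTheory TensorProduct Groth.Agent.Lib.Helper4.LC

namespace Groth.Agent.Lib.Helper20.LCStalk

variable {R : Type u} [CommRing R]

/-- The exactness part of S11682, as a hypothesis. -/
def Hex (R : Type u) [CommRing R] : Prop :=
  ∀ (a : Ideal R) (b : R) (N : Type u) [AddCommGroup N] [Module R N] (i : ℕ),
    Function.Exact
      ((Dual2.HmapOfLE (le_sup_left : a ≤ a ⊔ Ideal.span {b}) i).app (ModuleCat.of R N)).hom
      ((localCohomology a i).map
        (ModuleCat.ofHom (LocalizedModule.mkLinearMap (Submonoid.powers b) N))).hom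

/-- if `x` acts bijectively on `N`, it acts injectively on `HH I N i`. -/
lemma HH_smul_injective_of_bijective (I : Ideal R) (x : R) (N : Type u)
    [AddCommGroup N] [Module R N] (hbij : Function.Bijective (fun n : N => x • n)) (i : ℕ) :
    Function.Injective (fun z : HH I (ModuleCat.of R N) i => x • z) := by
  let e : N ≃ₗ[R] N := LinearEquiv.ofBijective (x • LinearMap.id)
    ⟨fun a b h => hbij.1 (by simpa using h), fun b => by
      obtain ⟨a, ha⟩ := hbij.2 b
      exact ⟨a, by simpa using ha⟩⟩
  have hiso : x • 𝟙 (ModuleCat.of R N) = e.toModuleIso.hom := by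
    apply ModuleCat.hom_ext
    apply LinearMap.ext
    intro n
    rfl
  intro a b hab
  have h1 : HH.map I (x • 𝟙 (ModuleCat.of R N)) i a =
      HH.map I (x • 𝟙 (ModuleCat.of R N)) i b := by
    rw [← HH.smul_eq_map, ← HH.smul_eq_map]
    exact hab
  rw [hiso] at h1
  exact (HH.mapIso I e.toModuleIso i).injective h1

/-- the same for `LocCoh.H`. -/
lemma H_smul_injective_of_bijective (I : Ideal R) (x : R) (N : Type u)
    [AddCommGroup N] [Module R N] (hbij : Function.Bijective (fun n : N => x • n)) (i : ℕ) :
    Function.Injective (fun z : LocCoh.H I i N => x • z) := by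
  intro a b hab
  apply (lcEquiv I (ModuleCat.of R N) i).injective
  apply HH_smul_injective_of_bijective I x N hbij i
  change x • lcEquiv I (ModuleCat.of R N) i a = x • lcEquiv I (ModuleCat.of R N) i b
  rw [← map_smul, ← map_smul]
  exact congrArg _ hab

lemma H_exists_pow_smul_eq_zero (I : Ideal R) (N : Type u) [AddCommGroup N] [Module R N] (i : ℕ)
    (x : LocCoh.H I i N) : ∃ n : ℕ, ∀ r ∈ I ^ n, r • x = 0 := by
  obtain ⟨n, hn⟩ := Groth.Agent.Lib.Helper20.LCTorsion.exists_pow_smul_eq_zero I
    (ModuleCat.of R N) i (lcEquiv I (ModuleCat.of R N) i x)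
  refine ⟨n, fun r hr => ?_⟩
  apply (lcEquiv I (ModuleCat.of R N) i).injective
  rw [map_smul, hn r hr, map_zero]

lemma smul_pow_injective {H : Type*} [AddCommGroup H] [Module R H] (f : R)
    (hf : Function.Injective (fun x : H => f • x)) (k : ℕ) :
    Function.Injective (fun x : H => f ^ k • x) := by
  induction k with
  | zero => intro a b h; simpa using h
  | succ k ih =>
    intro a b h
    apply ih
    apply hf
    change f • (f ^ k • a) = f • (f ^ k • b)
    rw [smul_smul, smul_smul, ← pow_succ']
    exact h

variable [IsNoetherianRing R]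

/-- base change to the localization at a prime, in terms of `LocalizedModule`. -/
lemma subsingleton_tensor_HH_of_stalk (p : Ideal R) [p.IsPrime] (N : Type u) [AddCommGroup N]
    [Module R N] (i : ℕ)
    (h : Subsingleton (LocCoh.H (IsLocalRing.maximalIdeal (Localization.AtPrime p)) i
      (LocalizedModule p.primeCompl N))) :
    Subsingleton (Localization.AtPrime p ⊗[R] HH p (ModuleCat.of R N) i) := by
  have : IsNoetherianRing (Localization.AtPrime p) :=
    IsLocalization.isNoetherianRing p.primeCompl (Localization.AtPrime p) inferInstance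
  obtain ⟨e⟩ := Groth.Agent.Lib.Helper20.LCFlat.nonempty_baseChange_equiv
    (Localization.AtPrime p) p i N
  rw [Localization.AtPrime.map_eq_maximalIdeal] at e
  have h1 : Subsingleton (HH (IsLocalRing.maximalIdeal (Localization.AtPrime p))
      (ModuleCat.of (Localization.AtPrime p) (LocalizedModule p.primeCompl N)) i) :=
    (subsingleton_H_iff _ _ i).1 h
  let e2 : LocalizedModule p.primeCompl N ≃ₗ[Localization.AtPrime p]
      Localization.AtPrime p ⊗[R] N := LocalizedModule.equivTensorProduct p.primeCompl N
  have h2 : Subsingleton (HH (IsLocalRing.maximalIdeal (Localization.AtPrime p))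
      (ModuleCat.of (Localization.AtPrime p) (Localization.AtPrime p ⊗[R] N)) i) :=
    (HH.mapIso _ e2.toModuleIso i).symm.toEquiv.subsingleton
  exact e.toEquiv.subsingleton

/-- **Key lemma**: vanishing at all stalks over `V(I)` implies vanishing. -/
theorem subsingleton_of_stalks (hex : Hex R) (i : ℕ) (N : Type u) [AddCommGroup N] [Module R N]
    (I : Ideal R)
    (hI : ∀ p : PrimeSpectrum R, I ≤ p.asIdeal →
      Subsingleton (LocCoh.H (IsLocalRing.maximalIdeal (Localization.AtPrime p.asIdeal)) i
        (LocalizedModule p.asIdeal.primeCompl N))) :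
    Subsingleton (LocCoh.H I i N) := by
  revert hI
  refine IsNoetherian.induction (P := fun I : Ideal R =>
    (∀ p : PrimeSpectrum R, I ≤ p.asIdeal →
      Subsingleton (LocCoh.H (IsLocalRing.maximalIdeal (Localization.AtPrime p.asIdeal)) i
        (LocalizedModule p.asIdeal.primeCompl N))) → Subsingleton (LocCoh.H I i N)) ?_ I
  intro (I : Ideal R) ih hI
  by_contra hne
  rw [not_subsingleton_iff_nontrivial] at hne
  -- step 1
  have hinj : ∀ f : R, f ∉ I → Function.Injective (fun x : LocCoh.H I i N => f • x) := by
    intro f hf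
    have hlt : I < I ⊔ Ideal.span {f} := by
      refine lt_of_le_of_ne le_sup_left (fun h => hf ?_)
      rw [h]
      exact Ideal.mem_sup_right (Ideal.subset_span rfl)
    have hJ : Subsingleton (LocCoh.H (I ⊔ Ideal.span {f}) i N) :=
      ih _ hlt (fun p hp => hI p (le_trans le_sup_left hp))
    have hE := hex I f N i
    set φ := ((localCohomology I i).map
        (ModuleCat.ofHom (LocalizedModule.mkLinearMap (Submonoid.powers f) N))).hom with hφ
    have hφinj : ∀ x, φ x = 0 → x = 0 := by
      intro x hx
      obtain ⟨y, rfl⟩ := (hE x).1 hx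
      rw [Subsingleton.elim y 0, map_zero]
    have hbij := smul_bijective_localizedModule f N
    have hinj2 := H_smul_injective_of_bijective I f
      (LocalizedModule (Submonoid.powers f) N) hbij i
    intro a b hab
    have h0 : f • (a - b) = 0 := by
      rw [smul_sub]; exact sub_eq_zero.2 hab
    have h1 : φ (a - b) = 0 := by
      apply hinj2
      change f • φ (a - b) = f • 0
      rw [← map_smul, h0, map_zero, smul_zero]
    exact sub_eq_zero.1 (hφinj _ h1)
  obtain ⟨x0, hx0⟩ := exists_ne (0 : LocCoh.H I i N)
  obtain ⟨k, hk⟩ := H_exists_pow_smul_eq_zero I N i x0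
  -- step 2
  have hprime : Ideal.IsPrime I := by
    refine ⟨fun htop => hx0 ?_, ?_⟩
    · have := hk 1 (by rw [htop, Ideal.top_pow]; trivial)
      simpa using this
    · intro f g hfg
      by_contra hcon
      push_neg at hcon
      obtain ⟨hf, hg⟩ := hcon
      have h1 : (f * g) ^ k • x0 = 0 := hk _ (Ideal.pow_mem_pow hfg k)
      rw [mul_pow, ← smul_smul] at h1
      have h2 : g ^ k • x0 = 0 := by
        apply smul_pow_injective f (hinj f hf) k
        change f ^ k • (g ^ k • x0) = f ^ k • 0
        rw [h1, smul_zero]
      apply hx0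
      apply smul_pow_injective g (hinj g hg) k
      change g ^ k • x0 = g ^ k • 0
      rw [h2, smul_zero]
  -- step 3
  haveI := hprime
  have hst := hI ⟨I, hprime⟩ le_rfl
  have hT := subsingleton_tensor_HH_of_stalk I N i hst
  set y0 := lcEquiv I (ModuleCat.of R N) i x0 with hy0
  have hloc : IsLocalizedModule I.primeCompl
      (TensorProduct.mk R (Localization.AtPrime I) (HH I (ModuleCat.of R N) i) 1) :=
    (isLocalizedModule_iff_isBaseChange I.primeCompl (Localization.AtPrime I) _).2
      (TensorProduct.isBaseChange R _ _)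
  have hz : TensorProduct.mk R (Localization.AtPrime I) (HH I (ModuleCat.of R N) i) 1 y0 = 0 :=
    Subsingleton.elim _ _
  obtain ⟨c, hc⟩ := (IsLocalizedModule.eq_zero_iff I.primeCompl _).1 hz
  apply hx0
  apply hinj c.1 c.2
  change c.1 • x0 = c.1 • 0
  rw [smul_zero]
  apply (lcEquiv I (ModuleCat.of R N) i).injective
  rw [map_smul, map_zero]
  exact hc

end Groth.Agent.Lib.Helper20.LCStalk
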