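import Mathlib
import Groth.Agent.Lib.Helper20.LCFinite
import Groth.Agent.Lib.Helper20.LCH1

/-!
# Faltings' local-global principle for finiteness of local cohomology
-/

set_option autoImplicit false
set_option linter.unusedSectionVars false
set_option linter.unusedVariables false
set_option linter.style.haveILetI false
set_option maxHeartbeats 400000

universe u

open CategoryTheory Groth.Agent.Lib.Helper4.LC Groth.Agent.Lib.Helper20.LCFinite

namespace Groth.Agent.Lib.Helper20.LCLocGlob

variable {R : Type u} [CommRing R] [IsNoetherianRing R] (I : Ideal R)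

/-- the `I`-socle of a quotient by a finitely generated submodule. -/
lemma fg_torsionBySet_quotient {B : Type u} [AddCommGroup B] [Module R B] (G : Submodule R B)
    (hG : G.FG) (h : (Submodule.torsionBySet R B (I : Set R)).FG) :
    (Submodule.torsionBySet R (B ⧸ G) (I : Set R)).FG := by
  classical
  obtain ⟨s, hs⟩ : I.FG := IsNoetherian.noetherian I
  let f : B →ₗ[R] (s → B) := LinearMap.pi (fun k => LinearMap.lsmul R B (k : R))
  have hB' : (Submodule.comap G.mkQ (Submodule.torsionBySet R (B ⧸ G) (I : Set R))).FG := by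
    apply Submodule.fg_of_fg_map_of_fg_inf_ker f
    · apply Submodule.FG.of_le (Submodule.fg_pi (p := fun _ : s => G) (fun _ => hG))
      rintro _ ⟨b, hb, rfl⟩
      rw [Submodule.mem_pi]
      intro k _
      have hk : (k : R) ∈ I := hs ▸ Ideal.subset_span k.2
      have h1 := (Submodule.mem_torsionBySet_iff _ _).1 (Submodule.mem_comap.1 hb) ⟨k, hk⟩
      rw [Submodule.mkQ_apply, ← Submodule.Quotient.mk_smul, Submodule.Quotient.mk_eq_zero] at h1
      exact h1
    · apply Submodule.FG.of_le h
      rintro b ⟨-, hb⟩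
      have hb' : ∀ k : s, (k : R) • b = 0 := fun k => congrFun hb k
      have h2 : b ∈ Submodule.torsionBySet R B (s : Set R) := by
        rw [Submodule.mem_torsionBySet_iff]
        rintro ⟨k, hk⟩
        exact hb' ⟨k, hk⟩
      rw [Submodule.torsionBySet_eq_torsionBySet_span] at h2
      have hs' : ((Ideal.span (s : Set R) : Ideal R) : Set R) = (I : Set R) := by rw [← hs]
      rwa [hs'] at h2
  have h3 : Submodule.torsionBySet R (B ⧸ G) (I : Set R) =
      (Submodule.comap G.mkQ (Submodule.torsionBySet R (B ⧸ G) (I : Set R))).map G.mkQ :=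
    (Submodule.map_comap_eq_of_surjective (Submodule.mkQ_surjective G) _).symm
  rw [h3]
  exact hB'.map _

/-- transfer along equivalences. -/
lemma fg_torsionBySet_of_equiv {A B : Type u} [AddCommGroup A] [Module R A] [AddCommGroup B]
    [Module R B] (e : A ≃ₗ[R] B) (S : Set R) (h : (Submodule.torsionBySet R B S).FG) :
    (Submodule.torsionBySet R A S).FG := by
  apply Submodule.fg_of_fg_map_injective e.toLinearMap e.injective
  apply Submodule.FG.of_le h
  rintro _ ⟨x, hx, rfl⟩
  have hx' : x ∈ Submodule.torsionBySet R A S := hx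
  rw [Submodule.mem_torsionBySet_iff] at hx' ⊢
  intro a
  show (a : R) • e x = 0
  rw [← map_smul, hx' a, map_zero]

lemma finite_of_subsingleton' (A : Type u) [AddCommGroup A] [Module R A] [Subsingleton A] :
    Module.Finite R A :=
  Module.Finite.of_surjective (0 : R →ₗ[R] A) (fun x => ⟨0, Subsingleton.elim _ _⟩)

/-- if `H^j_I(M)` is finite for `j < n`, the `I`-socle of `H^n_I(M)` is finitely generated. -/
theorem fg_socle : ∀ (n : ℕ) (M : Type u) [AddCommGroup M] [Module R M] [Module.Finite R M],
    (∀ j : ℕ, j < n → Module.Finite R (HH I (ModuleCat.of R M) j)) →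
    (Submodule.torsionBySet R (HH I (ModuleCat.of R M) n) (I : Set R)).FG := by
  intro n
  induction n with
  | zero =>
    intro M _ _ _ _
    haveI := finite_HH_zero I M
    exact IsNoetherian.noetherian _
  | succ n ih =>
    intro M _ _ _ hfin
    apply fg_torsionBySet_of_equiv (quotEquiv I M n)
    -- finiteness for Q
    have hfinQ : ∀ j : ℕ, j < n + 1 →
        Module.Finite R (HH I (ModuleCat.of R (M ⧸ DRing.torsionSub I M)) j) := by
      intro j hj
      cases j with
      | zero =>
        haveI := subsingleton_HH_zero_quot I M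
        exact finite_of_subsingleton' _
      | succ j =>
        haveI := hfin (j + 1) hj
        exact Module.Finite.equiv (quotEquiv I M j)
    by_cases hnt : Nontrivial (M ⧸ DRing.torsionSub I M)
    swap
    · rw [not_nontrivial_iff_subsingleton] at hnt
      haveI : Subsingleton (HH I (ModuleCat.of R (M ⧸ DRing.torsionSub I M)) (n + 1)) :=
        HH.subsingleton_of_isPowerTorsion I n (ModuleCat.of R (M ⧸ DRing.torsionSub I M))
          (fun m => ⟨0, fun a _ => Subsingleton.elim _ _⟩)
      have hbot : Submodule.torsionBySet R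
          (HH I (ModuleCat.of R (M ⧸ DRing.torsionSub I M)) (n + 1)) (I : Set R) = ⊥ :=
        Subsingleton.elim _ _
      rw [hbot]
      exact Submodule.fg_bot
    obtain ⟨r, hrI, hreg⟩ := exists_regular_of_torsionSub_eq_bot I (M ⧸ DRing.torsionSub I M)
      (torsionSub_quotient_eq_bot I M)
    -- common exponent
    have hN : ∀ m : ℕ, m ≤ n + 1 → ∃ N : ℕ, ∀ j : ℕ, j < m → ∀ a ∈ I ^ N,
        ∀ x : HH I (ModuleCat.of R (M ⧸ DRing.torsionSub I M)) j, a • x = 0 := by
      intro m
      induction m with
      | zero => intro _; exact ⟨0, fun j hj => absurd hj (Nat.not_lt_zero j)⟩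
      | succ m ihm =>
        intro hm
        obtain ⟨N1, hN1⟩ := ihm (by omega)
        haveI := hfinQ m (by omega)
        obtain ⟨N2, hN2⟩ := exists_pow_annihilates_of_finite I
          (ModuleCat.of R (M ⧸ DRing.torsionSub I M)) m
        refine ⟨N1 + N2, fun j hj a ha x => ?_⟩
        rcases Nat.lt_succ_iff_lt_or_eq.1 hj with h | rfl
        · exact hN1 j h a (Ideal.pow_le_pow_right (Nat.le_add_right _ _) ha) x
        · exact hN2 a (Ideal.pow_le_pow_right (Nat.le_add_left _ _) ha) x
    obtain ⟨N, hN⟩ := hN (n + 1) le_rfl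
    have hsI : r ^ (N + 1) ∈ I ^ N :=
      Ideal.pow_le_pow_right (Nat.le_succ N) (Ideal.pow_mem_pow hrI (N + 1))
    have hsI1 : r ^ (N + 1) ∈ I := Ideal.pow_mem_of_mem I hrI (N + 1) (Nat.succ_pos N)
    have hsreg : IsSMulRegular (M ⧸ DRing.torsionSub I M) (r ^ (N + 1)) := hreg.pow (N + 1)
    have hS : (ModuleCat.smulShortComplex (ModuleCat.of R (M ⧸ DRing.torsionSub I M))
        (r ^ (N + 1))).ShortExact :=
      IsSMulRegular.smulShortComplex_shortExact
        (M := ModuleCat.of R (M ⧸ DRing.torsionSub I M)) hsreg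
    set S := ModuleCat.smulShortComplex (ModuleCat.of R (M ⧸ DRing.torsionSub I M))
      (r ^ (N + 1)) with hSdef
    -- finiteness for `X₃` in degrees `< n`
    have hfin3 : ∀ j : ℕ, j < n → Module.Finite R (HH I S.X₃ j) := by
      intro j hj
      haveI : Module.Finite R (HH I S.X₂ j) := hfinQ j (by omega)
      haveI : Module.Finite R (HH I S.X₁ (j + 1)) := hfinQ (j + 1) (by omega)
      exact LCH1.finite_of_exact (HH.map I S.g j) (HH.δ I hS j)
        (fun b hb => HH.exact₃ I hS j b hb)
    have hsoc3 : (Submodule.torsionBySet R (HH I S.X₃ n) (I : Set R)).FG :=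
      ih (QuotSMulTop (r ^ (N + 1)) (M ⧸ DRing.torsionSub I M)) hfin3
    haveI : Module.Finite R (HH I S.X₂ n) := hfinQ n (by omega)
    have hG : (LinearMap.range (HH.map I S.g n)).FG := by
      rw [LinearMap.range_eq_map]
      exact Submodule.FG.map _ Module.Finite.fg_top
    have hsocq := fg_torsionBySet_quotient I (LinearMap.range (HH.map I S.g n)) hG hsoc3
    let δbar : (HH I S.X₃ n ⧸ LinearMap.range (HH.map I S.g n)) →ₗ[R] HH I S.X₁ (n + 1) :=
      Submodule.liftQ _ (HH.δ I hS n) (by
        rintro _ ⟨y, rfl⟩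
        exact HH.δ_map_g I hS n y)
    have hδinj : Function.Injective δbar := by
      rw [injective_iff_map_eq_zero]
      intro z hz
      obtain ⟨b, rfl⟩ := Submodule.Quotient.mk_surjective _ z
      have hb : HH.δ I hS n b = 0 := hz
      obtain ⟨y, hy⟩ := HH.exact₃ I hS n b hb
      exact (Submodule.Quotient.mk_eq_zero _).2 ⟨y, hy⟩
    apply Submodule.FG.of_le (hsocq.map δbar)
    intro c hc
    have hc' : ∀ a : (I : Set R), (a : R) • c = 0 := (Submodule.mem_torsionBySet_iff _ c).1 hc
    have hsc : HH.map I S.f (n + 1) c = 0 := by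
      have h1 : HH.map I S.f (n + 1) c = r ^ (N + 1) • c := (HH.smul_eq_map I (n + 1) _ c).symm
      rw [h1]
      exact hc' ⟨r ^ (N + 1), hsI1⟩
    obtain ⟨b, hb⟩ := HH.exact₁ I hS n c hsc
    refine ⟨Submodule.Quotient.mk b, ?_, hb⟩
    rw [SetLike.mem_coe, Submodule.mem_torsionBySet_iff]
    intro a
    apply hδinj
    rw [map_smul, map_zero]
    have : δbar (Submodule.Quotient.mk b) = c := hb
    rw [this]
    exact hc' a

/-- if `H^j_I(M)` is finite for `j < n`, then `H^n_I(M)` has finitely many associated primes. -/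
theorem finite_associatedPrimes (n : ℕ) (M : Type u) [AddCommGroup M] [Module R M]
    [Module.Finite R M]
    (hfin : ∀ j : ℕ, j < n → Module.Finite R (HH I (ModuleCat.of R M) j)) :
    (associatedPrimes R (HH I (ModuleCat.of R M) n)).Finite := by
  have hS := fg_socle I n M hfin
  haveI : Module.Finite R (Submodule.torsionBySet R (HH I (ModuleCat.of R M) n) (I : Set R)) :=
    Module.Finite.iff_fg.2 hS
  refine (associatedPrimes.finite R
    (Submodule.torsionBySet R (HH I (ModuleCat.of R M) n) (I : Set R))).subset ?_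
  intro p hp
  obtain ⟨hpp, y, hy⟩ := isAssociatedPrime_iff.1 (AssociatedPrimes.mem_iff.1 hp)
  have hIp : I ≤ p := by
    intro a ha
    obtain ⟨k, hk⟩ := Groth.Agent.Lib.Helper20.LCTorsion.exists_pow_smul_eq_zero I
      (ModuleCat.of R M) n y
    have h1 : a ^ k ∈ p := by
      rw [hy, Submodule.mem_colon_singleton, Submodule.mem_bot]
      exact hk _ (Ideal.pow_mem_pow ha k)
    exact hpp.mem_of_pow_mem k h1
  have hyS : y ∈ Submodule.torsionBySet R (HH I (ModuleCat.of R M) n) (I : Set R) := by
    rw [Submodule.mem_torsionBySet_iff]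
    rintro ⟨a, ha⟩
    have h1 := hIp ha
    rw [hy, Submodule.mem_colon_singleton, Submodule.mem_bot] at h1
    exact h1
  rw [AssociatedPrimes.mem_iff, isAssociatedPrime_iff]
  refine ⟨hpp, ⟨y, hyS⟩, ?_⟩
  rw [hy]
  ext r
  rw [Submodule.mem_colon_singleton, Submodule.mem_colon_singleton, Submodule.mem_bot,
    Submodule.mem_bot, Subtype.ext_iff]
  rfl

/-- a module of finite type after localization at `p`, all of whose elements are `I`-power
torsion, is killed by a power of `I` after localization at `p`. -/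
lemma exists_pow_local {H : Type u} [AddCommGroup H] [Module R H]
    (htors : ∀ y : H, ∃ k : ℕ, ∀ a ∈ I ^ k, a • y = 0) (p : Ideal R) [p.IsPrime]
    [Module.Finite (Localization.AtPrime p) (LocalizedModule p.primeCompl H)] :
    ∃ t : ℕ, ∀ a ∈ I ^ t, ∀ y : H, ∃ u : R, u ∉ p ∧ u • a • y = 0 := by
  classical
  obtain ⟨s, hs⟩ := (Module.Finite.fg_top :
    (⊤ : Submodule (Localization.AtPrime p) (LocalizedModule p.primeCompl H)).FG)
  have hrep : ∀ z : LocalizedModule p.primeCompl H, ∃ k : ℕ, ∀ a ∈ I ^ k, a • z = 0 := by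
    intro z
    induction z using LocalizedModule.induction_on with
    | h y d =>
      obtain ⟨k, hk⟩ := htors y
      refine ⟨k, fun a ha => ?_⟩
      rw [LocalizedModule.smul'_mk, hk a ha, LocalizedModule.zero_mk]
  choose k hk using hrep
  refine ⟨∑ z ∈ s, k z, fun a ha y => ?_⟩
  have hkill : ∀ w : LocalizedModule p.primeCompl H, a • w = 0 := by
    have hle : (⊤ : Submodule (Localization.AtPrime p) (LocalizedModule p.primeCompl H)) ≤
        LinearMap.ker (LinearMap.lsmul (Localization.AtPrime p)
          (LocalizedModule p.primeCompl H) (algebraMap R (Localization.AtPrime p) a)) := by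
      rw [← hs, Submodule.span_le]
      intro z hz
      rw [SetLike.mem_coe, LinearMap.mem_ker, LinearMap.lsmul_apply, algebraMap_smul]
      exact hk z a (Ideal.pow_le_pow_right
        (Finset.single_le_sum (f := k) (fun _ _ => Nat.zero_le _) hz) ha)
    intro w
    have h1 := hle (Submodule.mem_top : w ∈ ⊤)
    rwa [LinearMap.mem_ker, LinearMap.lsmul_apply, algebraMap_smul] at h1
  have h0 := hkill (LocalizedModule.mkLinearMap p.primeCompl H y)
  rw [← map_smul, IsLocalizedModule.eq_zero_iff p.primeCompl] at h0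
  obtain ⟨c, hc⟩ := h0
  exact ⟨c, c.2, hc⟩

/-- **Faltings' local-global principle.** -/
theorem finite_of_locally : ∀ (n : ℕ) (M : Type u) [AddCommGroup M] [Module R M]
    [Module.Finite R M],
    (∀ (p : Ideal R) [p.IsPrime], ∀ i : ℕ, i ≤ n → ∃ t : ℕ, ∀ a ∈ I ^ t,
      ∀ y : HH I (ModuleCat.of R M) i, ∃ u : R, u ∉ p ∧ u • a • y = 0) →
    ∀ i : ℕ, i ≤ n → Module.Finite R (HH I (ModuleCat.of R M) i) := by
  intro n
  induction n with
  | zero =>
    intro M _ _ _ _ i hi
    obtain rfl : i = 0 := by omega
    exact finite_HH_zero I M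
  | succ n ih =>
    intro M _ _ _ hloc
    have hfin : ∀ j : ℕ, j < n + 1 → Module.Finite R (HH I (ModuleCat.of R M) j) :=
      fun j hj => ih M (fun p _ i hi => hloc p i (by omega)) j (by omega)
    have hAss := finite_associatedPrimes I (n + 1) M hfin
    have hex : ∀ P : associatedPrimes R (HH I (ModuleCat.of R M) (n + 1)), ∃ t : ℕ,
        ∀ a ∈ I ^ t, ∀ y : HH I (ModuleCat.of R M) (n + 1), ∃ u : R, u ∉ P.1 ∧ u • a • y = 0 :=
      fun P => hloc P.1 (n + 1) le_rfl
    choose t ht using hex
    haveI : Fintype (associatedPrimes R (HH I (ModuleCat.of R M) (n + 1))) := hAss.fintype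
    have hkill : ∀ a ∈ I ^ (∑ P, t P), ∀ y : HH I (ModuleCat.of R M) (n + 1), a • y = 0 := by
      intro a ha y
      by_contra hne
      obtain ⟨P, hP, hle⟩ := exists_le_isAssociatedPrime_of_isNoetherianRing R (a • y) hne
      obtain ⟨u, hu, hu0⟩ := ht ⟨P, hP⟩ a (Ideal.pow_le_pow_right
        (Finset.single_le_sum (f := t) (fun _ _ => Nat.zero_le _) (Finset.mem_univ _)) ha) y
      apply hu
      apply hle
      rw [Submodule.mem_colon_singleton, Submodule.mem_bot]
      exact hu0
    -- common exponent
    have hN : ∀ m : ℕ, m ≤ n + 1 → ∃ N : ℕ, ∀ j : ℕ, j < m → ∀ a ∈ I ^ N,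
        ∀ x : HH I (ModuleCat.of R M) j, a • x = 0 := by
      intro m
      induction m with
      | zero => intro _; exact ⟨0, fun j hj => absurd hj (Nat.not_lt_zero j)⟩
      | succ m ihm =>
        intro hm
        obtain ⟨N1, hN1⟩ := ihm (by omega)
        haveI := hfin m (by omega)
        obtain ⟨N2, hN2⟩ := exists_pow_annihilates_of_finite I (ModuleCat.of R M) m
        refine ⟨N1 + N2, fun j hj a ha x => ?_⟩
        rcases Nat.lt_succ_iff_lt_or_eq.1 hj with h | rfl
        · exact hN1 j h a (Ideal.pow_le_pow_right (Nat.le_add_right _ _) ha) x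
        · exact hN2 a (Ideal.pow_le_pow_right (Nat.le_add_left _ _) ha) x
    obtain ⟨N, hN⟩ := hN (n + 1) le_rfl
    refine finite_of_annihilated I (n + 1) M (N + ∑ P, t P) ?_
    intro i hi a ha x
    rcases Nat.lt_or_ge i (n + 1) with hlt | hge
    · exact hN i hlt a (Ideal.pow_le_pow_right (Nat.le_add_right _ _) ha) x
    · obtain rfl : i = n + 1 := by omega
      exact hkill a (Ideal.pow_le_pow_right (Nat.le_add_left _ _) ha) x

end Groth.Agent.Lib.Helper20.LCLocGlob
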