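import Mathlib
import Groth.Prelude.Def_ArtFun6
import Groth.Agent.Lib.Helper18.EmbA

/-!
# Helper20: sections of `X ×_k Spec k[ε]` over `π⁻¹U` are `π^♯ f + ε π^♯ g` (G2a, for helper18 / helper12)
-/

set_option autoImplicit false
set_option linter.style.haveILetI false
universe u
open CategoryTheory CategoryTheory.Limits AlgebraicGeometry
open ArtFun ArtFun.Art

namespace Groth.Agent.Lib.Helper20.DualSect

/-- in a pushout `B ⊗_k k[ε]` of commutative rings every element is `inl f + ε * inl g` -/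
lemma exists_decomp_of_isPushout {k : Type u} [Field k] {B P : CommRingCat.{u}}
    {a : CommRingCat.of k ⟶ B} {f₀ : CommRingCat.of k ⟶ CommRingCat.of (DualNumber k)}
    (hf₀ : ∀ c : k, f₀.hom c = (TrivSqZeroExt.inl c : DualNumber k))
    {inl : B ⟶ P} {inr : CommRingCat.of (DualNumber k) ⟶ P} (H : IsPushout a f₀ inl inr)
    (w : P) :
    ∃ f g : B, w = inl.hom f + inr.hom (DualNumber.eps : DualNumber k) * inl.hom g := by
  set e : P := inr.hom (DualNumber.eps : DualNumber k) with he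
  have hee : e * e = 0 := by
    rw [he, ← map_mul, DualNumber.eps_mul_eps, map_zero]
  let S : Subring P :=
    { carrier := {w | ∃ f g : B, w = inl.hom f + e * inl.hom g}
      mul_mem' := by
        rintro _ _ ⟨f, g, rfl⟩ ⟨f', g', rfl⟩
        refine ⟨f * f', f * g' + g * f', ?_⟩
        rw [map_mul, map_add, map_mul, map_mul]
        linear_combination (inl.hom g * inl.hom g') * hee
      one_mem' := ⟨1, 0, by rw [map_one, map_zero, mul_zero, add_zero]⟩
      add_mem' := by
        rintro _ _ ⟨f, g, rfl⟩ ⟨f', g', rfl⟩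
        refine ⟨f + f', g + g', ?_⟩
        rw [map_add, map_add]
        ring
      zero_mem' := ⟨0, 0, by rw [map_zero, mul_zero, add_zero]⟩
      neg_mem' := by
        rintro _ ⟨f, g, rfl⟩
        refine ⟨-f, -g, ?_⟩
        rw [map_neg, map_neg]
        ring }
  have hinl : ∀ b : B, inl.hom b ∈ S := fun b => ⟨b, 0, by rw [map_zero, mul_zero, add_zero]⟩
  have hw : ∀ c : k, inr.hom (TrivSqZeroExt.inl c : DualNumber k) = inl.hom (a.hom c) := by
    intro c
    have := ConcreteCategory.congr_hom H.w c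
    rw [← hf₀ c]
    exact this.symm
  have hinr : ∀ d : DualNumber k, inr.hom d ∈ S := by
    intro d
    refine ⟨a.hom (TrivSqZeroExt.fst d), a.hom (TrivSqZeroExt.snd d), ?_⟩
    have hd : d = TrivSqZeroExt.inl (TrivSqZeroExt.fst d) +
        (DualNumber.eps : DualNumber k) * TrivSqZeroExt.inl (TrivSqZeroExt.snd d) := by
      apply TrivSqZeroExt.ext
      · simp only [TrivSqZeroExt.fst_add, TrivSqZeroExt.fst_inl, TrivSqZeroExt.fst_mul,
          DualNumber.fst_eps, zero_mul, add_zero]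
      · simp only [TrivSqZeroExt.snd_add, TrivSqZeroExt.snd_inl, TrivSqZeroExt.snd_mul,
          DualNumber.fst_eps, DualNumber.snd_eps, TrivSqZeroExt.fst_inl, zero_smul, zero_add,
          MulOpposite.smul_eq_mul_unop, MulOpposite.unop_op, one_mul]
    conv_lhs => rw [hd]
    rw [map_add, map_mul, hw, hw]
  let iB : B ⟶ CommRingCat.of S := CommRingCat.ofHom (inl.hom.codRestrict S hinl)
  let iC : CommRingCat.of (DualNumber k) ⟶ CommRingCat.of S :=
    CommRingCat.ofHom (inr.hom.codRestrict S hinr)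
  have hcomp : a ≫ iB = f₀ ≫ iC := by
    ext c
    exact ConcreteCategory.congr_hom H.w c
  let dsc : P ⟶ CommRingCat.of S := H.desc iB iC hcomp
  have hid : dsc ≫ CommRingCat.ofHom S.subtype = 𝟙 P := by
    apply H.hom_ext
    · rw [← Category.assoc, H.inl_desc, Category.comp_id]
      rfl
    · rw [← Category.assoc, H.inr_desc, Category.comp_id]
      rfl
  have hmem : w ∈ S := by
    have h1 : (S.subtype (dsc.hom w) : P) = w := ConcreteCategory.congr_hom hid w
    rw [← h1]
    exact (dsc.hom w).2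
  exact hmem

variable {k : Type u} [Field k] {X : Scheme.{u}} (x : X ⟶ specPt k)

/-- `π : X ×_k Spec k[ε] ⟶ X` -/
noncomputable abbrev pr : XA x (dual k k) ⟶ X := pullback.fst x (specOver (dual k k))

/-- the structure map `k[ε] → Γ(X ×_k Spec k[ε], π⁻¹U)` -/
noncomputable def aXA (U : X.Opens) :
    CommRingCat.of (dual k k) ⟶ Γ(XA x (dual k k), pr x ⁻¹ᵁ U) :=
  (Scheme.ΓSpecIso (CommRingCat.of (dual k k))).inv ≫
    (XApr x (dual k k)).appLE ⊤ (pr x ⁻¹ᵁ U) le_top

/-- `ε` as a section of `X ×_k Spec k[ε]` over `π⁻¹U` -/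
noncomputable def epsXA (U : X.Opens) : Γ(XA x (dual k k), pr x ⁻¹ᵁ U) :=
  (aXA x U).hom (Groth.Agent.Lib.Helper18.EmbA.epsD (k := k))

lemma epsXA_mul_self (U : X.Opens) : epsXA x U * epsXA x U = 0 := by
  unfold epsXA
  rw [← map_mul, Groth.Agent.Lib.Helper18.EmbA.epsD_mul_self, map_zero]

lemma isPushout_sect {U : X.Opens} (hU : IsAffineOpen U) :
    IsPushout ((Scheme.ΓSpecIso (CommRingCat.of k)).inv ≫ x.appLE ⊤ U le_top)
      (CommRingCat.ofHom (ofBase (dual k k)).toAlgHom.toRingHom)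
      ((pr x).appLE U (pr x ⁻¹ᵁ U) le_rfl) (aXA x U) :=
  Groth.Agent.Lib.Helper18.HullR.sect' (CommRingCat.ofHom (ofBase (dual k k)).toAlgHom.toRingHom)
    (IsPullback.of_hasPullback x (specOver (dual k k))) hU (pr x ⁻¹ᵁ U) rfl

/-- **G2a**: every section of `X ×_k Spec k[ε]` over `π⁻¹U`, `U` affine, is `π^♯ f + ε π^♯ g`. -/
theorem exists_decomp {U : X.Opens} (hU : IsAffineOpen U)
    (w : Γ(XA x (dual k k), pr x ⁻¹ᵁ U)) :
    ∃ f g : Γ(X, U), w = ((pr x).app U).hom f + epsXA x U * ((pr x).app U).hom g := by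
  have h := exists_decomp_of_isPushout (k := k)
    (f₀ := CommRingCat.ofHom (ofBase (dual k k)).toAlgHom.toRingHom) (fun c => rfl)
    (isPushout_sect x hU) w
  obtain ⟨f, g, hfg⟩ := h
  refine ⟨f, g, ?_⟩
  rw [Scheme.Hom.app_eq_appLE]
  exact hfg

instance isAffineHom_pr : IsAffineHom (pr x) := by
  haveI : IsAffineHom (specOver (dual k k)) := by
    change IsAffineHom (Spec.map _)
    infer_instance
  exact MorphismProperty.pullback_fst (P := @IsAffineHom) _ _ inferInstance

section Compat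

open Groth.Agent.Lib.Helper18

variable {x} {I₀ : X.IdealSheafData} (I : (localHilb X x I₀).obj (dual k k))

/-- restriction to the closed subscheme `Z = V(I)` on sections over `π⁻¹U` -/
noncomputable abbrev resZ (U : X.Opens) :
    Γ(XA x (dual k k), pr x ⁻¹ᵁ U) ⟶ Γ(I.1.subscheme, EmbA.WW I U) :=
  I.1.subschemeι.appLE (pr x ⁻¹ᵁ U) (EmbA.WW I U) le_rfl

lemma resZ_eq_app (U : X.Opens) : resZ I U = I.1.subschemeι.app (pr x ⁻¹ᵁ U) :=
  (Scheme.Hom.app_eq_appLE _).symm

lemma aXA_resZ (U : X.Opens) : aXA x U ≫ resZ I U = EmbA.aC I U := by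
  unfold aXA EmbA.aC
  rw [Category.assoc, Scheme.Hom.appLE_comp_appLE]

lemma resZ_epsXA (U : X.Opens) : (resZ I U).hom (epsXA x U) = EmbA.epsC I U :=
  ConcreteCategory.congr_hom (aXA_resZ I U) (EmbA.epsD (k := k))

lemma pr_resZ (U : X.Opens) : (pr x).app U ≫ resZ I U = (EmbA.qq I).app U := by
  rw [Scheme.Hom.app_eq_appLE, Scheme.Hom.appLE_comp_appLE, ← Scheme.Hom.app_eq_appLE]

lemma resZ_pr (U : X.Opens) (f : Γ(X, U)) :
    (resZ I U).hom (((pr x).app U).hom f) = ((EmbA.qq I).app U).hom f :=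
  ConcreteCategory.congr_hom (pr_resZ I U) f

/-- membership in the ideal of `Z` over `π⁻¹U` is vanishing on `Z` -/
lemma mem_ideal_iff {U : X.Opens} (hU : IsAffineOpen U)
    (w : Γ(XA x (dual k k), pr x ⁻¹ᵁ U)) :
    w ∈ I.1.ideal ⟨pr x ⁻¹ᵁ U, hU.preimage (pr x)⟩ ↔ (resZ I U).hom w = 0 := by
  rw [resZ_eq_app, ← RingHom.mem_ker, ← Scheme.IdealSheafData.ker_subschemeι_app]
  rfl

end Compat

end Groth.Agent.Lib.Helper20.DualSect
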