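import Mathlib
import Groth.Prelude.Def_ArtFun6
import Groth.Prelude.Def_ArtFun2
import Groth.Prelude.Def_FGA
import Groth.Agent.S17081

/-!
# Helper20: the classifying morphism of an element of the local Hilbert functor
(D12-Y3 for helper18, S12265)
-/

set_option autoImplicit false
set_option linter.style.haveILetI false
universe u
open CategoryTheory CategoryTheory.Limits AlgebraicGeometry

namespace Groth.Agent.Lib.Helper20.HilbTanY3

open ArtFun ArtFun.Art

variable {k : Type u} [Field k]

lemma XTmap_comp {X S : Scheme.{u}} (f : X ⟶ S) {T T' T'' : Over S} (a : T'' ⟶ T') (b : T' ⟶ T) :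
    PicF.XTmap f (a ≫ b) = PicF.XTmap f a ≫ PicF.XTmap f b := by
  apply pullback.hom_ext <;>
    simp only [PicF.XTmap, pullback.map, pullback.lift_fst, pullback.lift_snd, Category.assoc,
      Category.comp_id, Over.comp_left, pullback.lift_fst_assoc, pullback.lift_snd_assoc]

/-- the `k`-point of `Spec A` as a morphism over `Spec k` -/
noncomputable def resPt (A : Art k k) :
    Over.mk (𝟙 (Spec (CommRingCat.of k))) ⟶ Over.mk (specOver A) :=
  Over.homMk (specRes A) (by
    change specRes A ≫ specMap (ofBase A) = 𝟙 _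
    have h1 := specRes_comp (ofBase A)
    rw [h1]
    change Spec.map (CommRingCat.ofHom (RingHom.id k)) = _
    rw [CommRingCat.ofHom_id]
    exact Spec.map_id _)

lemma XTmap_resPt {Y : Scheme.{u}} (y : Y ⟶ Spec (CommRingCat.of k)) (A : Art k k) :
    PicF.XTmap y (resPt A) =
      pullback.fst y (Over.mk (𝟙 (Spec (CommRingCat.of k)))).hom ≫ XAincl y A := by
  apply pullback.hom_ext
  · simp only [PicF.XTmap, pullback.map, pullback.lift_fst, Category.assoc, Category.comp_id]
    exact (XAincl_fst y A).symm ▸ (Category.comp_id _).symm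
  · have hc := pullback.condition (f := y) (g := (Over.mk (𝟙 (Spec (CommRingCat.of k)))).hom)
    simp only [PicF.XTmap, pullback.map, pullback.lift_snd, Category.assoc]
    have h2 : XAincl y A ≫ pullback.snd y (Over.mk (specOver A)).hom = y ≫ specRes A :=
      XAincl_snd y A
    rw [h2, ← Category.assoc, hc]
    rfl

theorem existsUnique_classifying (Y : Scheme.{u}) (y : Y ⟶ Spec (CommRingCat.of k)) [IsProper y]
    (H : Over (Spec (CommRingCat.of k))) (Z : FGA.HilbSet y H) (hH : FGA.HilbRepresentedBy y H Z)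
    (I₀ : Y.IdealSheafData)
    (h : Over.mk (𝟙 (Spec (CommRingCat.of k))) ⟶ H)
    (hh : FGA.hilbPull y h Z.1 =
      I₀.comap (pullback.fst y (Over.mk (𝟙 (Spec (CommRingCat.of k)))).hom))
    (A : Art k k) (I : (localHilb Y y I₀).obj A) :
    ∃! g : Over.mk (specOver A) ⟶ H,
      specRes A ≫ g.left = h.left ∧ Z.1.comap (PicF.XTmap y g) = I.1 := by
  haveI : IsNoetherianRing A := inferInstance
  haveI : IsLocallyNoetherian (Over.mk (specOver A)).left :=
    inferInstanceAs (IsLocallyNoetherian (Spec (CommRingCat.of A)))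
  haveI : IsLocallyNoetherian (Over.mk (𝟙 (Spec (CommRingCat.of k)))).left :=
    inferInstanceAs (IsLocallyNoetherian (Spec (CommRingCat.of k)))
  -- the element of the global Hilbert functor over `Spec A`
  have hprop : IsProper (I.1.subschemeι ≫ PicF.XTproj y (Over.mk (specOver A))) := by
    change IsProper (I.1.subschemeι ≫ pullback.snd y (specOver A))
    infer_instance
  let YA : FGA.HilbSet y (Over.mk (specOver A)) := ⟨I.1, hprop, I.2.1⟩
  obtain ⟨g, hg, hguniq⟩ := hH.2 (Over.mk (specOver A)) YA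
  have hg' : Z.1.comap (PicF.XTmap y g) = I.1 := by
    rw [← Groth.Agent.S17081.hilbPull_eq_comap]
    exact hg
  -- the element over `Spec k`
  haveI : Subsingleton ↥(Spec (CommRingCat.of k)) :=
    inferInstanceAs (Subsingleton (PrimeSpectrum k))
  let J₀ : (PicF.XT y (Over.mk (𝟙 (Spec (CommRingCat.of k))))).IdealSheafData :=
    I₀.comap (pullback.fst y (Over.mk (𝟙 (Spec (CommRingCat.of k)))).hom)
  have hprop0 : IsProper (J₀.subschemeι ≫
      PicF.XTproj y (Over.mk (𝟙 (Spec (CommRingCat.of k))))) := by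
    change IsProper (J₀.subschemeι ≫ pullback.snd y (𝟙 (Spec (CommRingCat.of k))))
    infer_instance
  have hflat0 : Flat (J₀.subschemeι ≫
      PicF.XTproj y (Over.mk (𝟙 (Spec (CommRingCat.of k))))) := by
    change Flat (J₀.subschemeι ≫ pullback.snd y (𝟙 (Spec (CommRingCat.of k))))
    infer_instance
  let Y0 : FGA.HilbSet y (Over.mk (𝟙 (Spec (CommRingCat.of k)))) := ⟨J₀, hprop0, hflat0⟩
  obtain ⟨g₀, _, hg₀uniq⟩ := hH.2 (Over.mk (𝟙 (Spec (CommRingCat.of k)))) Y0
  have hpt : ∀ g' : Over.mk (specOver A) ⟶ H, Z.1.comap (PicF.XTmap y g') = I.1 →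
      specRes A ≫ g'.left = h.left := by
    intro g' hg1
    have h1 : FGA.hilbPull y (resPt A ≫ g') Z.1 = J₀ := by
      rw [Groth.Agent.S17081.hilbPull_eq_comap, XTmap_comp,
        Scheme.IdealSheafData.comap_comp, hg1, XTmap_resPt,
        Scheme.IdealSheafData.comap_comp, I.2.2]
    have h2 : resPt A ≫ g' = h := (hg₀uniq _ h1).trans (hg₀uniq _ hh).symm
    have h3 := congrArg (fun m => m.left) h2
    exact h3
  refine ⟨g, ⟨hpt g hg', hg'⟩, ?_⟩
  rintro g' ⟨_, hg1⟩
  apply hguniq
  rw [Groth.Agent.S17081.hilbPull_eq_comap]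
  exact hg1

end Groth.Agent.Lib.Helper20.HilbTanY3
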