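import Mathlib
import Groth.Prelude.Def_DerCA
import Groth.Agent.Lib.Helper4.LCBridge

/-!
# Homology of the termwise localisation of a complex of modules
-/

set_option autoImplicit false

universe u

open CategoryTheory Groth.Agent.Lib.Helper4.LCBridge

namespace Groth.Agent.Lib.Helper20.CechLoc

variable {R : Type u} [CommRing R]

section unit

variable (L : CochainComplex (ModuleCat.{u} R) ℤ) (s : R)

/-- the class of a scalar multiple. -/
lemma smul_cls (n : ℤ) (z : ModCx.Z L n) : s • ModCx.cls L n z = ModCx.cls L n (s • z) :=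
  (map_smul _ _ _).symm

/-- if `s` acts bijectively on all terms, it acts injectively on homology. -/
lemma smul_homology_injective (hs : ∀ n, Function.Bijective (fun x : L.X n => s • x)) (n : ℤ)
    (y : L.homology n) (hy : s • y = 0) : y = 0 := by
  obtain ⟨w, rfl⟩ := ModCx.cls_surjective L n y
  rw [smul_cls, ModCx.cls_eq_zero_iff' L n (n - 1) (by simp)] at hy
  obtain ⟨u, hu⟩ := hy
  obtain ⟨u', hu'⟩ := (hs (n - 1)).2 u
  rw [ModCx.cls_eq_zero_iff' L n (n - 1) (by simp)]
  refine ⟨u', (hs n).1 ?_⟩
  change s • (L.d (n - 1) n).hom u' = s • w.1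
  rw [← map_smul]
  change (L.d (n - 1) n).hom (s • u') = s • w.1
  have hu'' : s • u' = u := hu'
  rw [hu'', hu]
  rfl

/-- if `s` acts bijectively on all terms, it acts surjectively on homology. -/
lemma smul_homology_surjective (hs : ∀ n, Function.Bijective (fun x : L.X n => s • x)) (n : ℤ)
    (y : L.homology n) : ∃ y' : L.homology n, s • y' = y := by
  obtain ⟨w, rfl⟩ := ModCx.cls_surjective L n y
  obtain ⟨w', hw'⟩ := (hs n).2 w.1
  have hw'' : s • w' = w.1 := hw'
  have hcyc : w' ∈ ModCx.Z L n := by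
    rw [ModCx.mem_Z_iff L n (n + 1) (by simp)]
    apply (hs (n + 1)).1
    change s • (L.d n (n + 1)).hom w' = s • (0 : L.X (n + 1))
    rw [← map_smul, hw'', smul_zero]
    exact (ModCx.mem_Z_iff L n (n + 1) (by simp) w.1).1 w.2
  refine ⟨ModCx.cls L n ⟨w', hcyc⟩, ?_⟩
  rw [smul_cls]
  congr 1
  exact Subtype.ext hw''

end unit

section loc

variable (S : Submonoid R) (K : CochainComplex (ModuleCat.{u} R) ℤ)

lemma locCx_d_mk (i j : ℤ) (x : K.X i) (t : S) :
    (((DerCA.locCx S).obj K).d i j).hom (LocalizedModule.mk x t) =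
      LocalizedModule.mk ((K.d i j).hom x) t :=
  IsLocalizedModule.map_LocalizedModules S (K.d i j).hom x t

lemma locCxUnit_f_apply (i : ℤ) (x : K.X i) :
    ((DerCA.locCxUnit S K).f i).hom x = LocalizedModule.mk x 1 := rfl

/-- elements of `S` act bijectively on the terms of the localised complex. -/
lemma smul_bijective_locCx (s : S) (n : ℤ) :
    Function.Bijective (fun x : ((DerCA.locCx S).obj K).X n => (s : R) • x) := by
  have h := IsLocalizedModule.map_units (LocalizedModule.mkLinearMap S (K.X n)) s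
  exact (Module.End.isUnit_iff _).1 h

/-- the kernel of `H^n(K) → H^n(K_S)` is `S`-torsion. -/
lemma exists_smul_eq_zero_of_homologyMap_eq_zero (n : ℤ) (c : K.homology n)
    (hc : (HomologicalComplex.homologyMap (DerCA.locCxUnit S K) n).hom c = 0) :
    ∃ s : S, (s : R) • c = 0 := by
  obtain ⟨z, rfl⟩ := ModCx.cls_surjective K n c
  rw [ModCx.homologyMap_cls, ModCx.cls_eq_zero_iff' _ n (n - 1) (by simp)] at hc
  obtain ⟨u, hu⟩ := hc
  induction u using LocalizedModule.induction_on with
  | h x t =>
    rw [locCx_d_mk] at hu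
    change _ = LocalizedModule.mk z.1 1 at hu
    rw [LocalizedModule.mk_eq] at hu
    obtain ⟨v, hv⟩ := hu
    refine ⟨v * t, ?_⟩
    rw [smul_cls, ModCx.cls_eq_zero_iff' K n (n - 1) (by simp)]
    refine ⟨(v : R) • x, ?_⟩
    rw [map_smul]
    rw [one_smul] at hv
    change (v : R) • (K.d (n - 1) n).hom x = ((v * t : S) : R) • z.1
    rw [Submonoid.coe_mul, mul_smul]
    exact hv

/-- every class of `H^n(K_S)` becomes, after multiplication by some `s ∈ S`, the image of a class
of `H^n(K)`. -/
lemma exists_smul_eq_homologyMap (n : ℤ) (y : ((DerCA.locCx S).obj K).homology n) :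
    ∃ (s : S) (c : K.homology n),
      (s : R) • y = (HomologicalComplex.homologyMap (DerCA.locCxUnit S K) n).hom c := by
  obtain ⟨w, rfl⟩ := ModCx.cls_surjective _ n y
  obtain ⟨w0, hw0⟩ : ∃ w0, w0 = w.1 := ⟨_, rfl⟩
  have hwc : (((DerCA.locCx S).obj K).d n (n + 1)).hom w0 = 0 := by
    rw [hw0]
    exact (ModCx.mem_Z_iff _ n (n + 1) (by simp) w.1).1 w.2
  induction w0 using LocalizedModule.induction_on with
  | h x t =>
    rw [locCx_d_mk] at hwc
    have hwc' : (LocalizedModule.mk ((K.d n (n + 1)).hom x) t : LocalizedModule S (K.X (n + 1))) =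
        LocalizedModule.mk 0 1 := hwc.trans (LocalizedModule.zero_mk 1).symm
    rw [LocalizedModule.mk_eq] at hwc'
    obtain ⟨v, hv⟩ := hwc'
    rw [one_smul, smul_zero, smul_zero] at hv
    have hz : (v : R) • x ∈ ModCx.Z K n := by
      rw [ModCx.mem_Z_iff K n (n + 1) (by simp), map_smul]
      exact hv
    refine ⟨v * t, ModCx.cls K n ⟨(v : R) • x, hz⟩, ?_⟩
    rw [ModCx.homologyMap_cls, smul_cls]
    congr 1
    apply Subtype.ext
    change ((v * t : S) : R) • w.1 = LocalizedModule.mk ((v : R) • x) 1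
    rw [← hw0]
    have key : (((v * t : S) : R) • (LocalizedModule.mk x t : LocalizedModule S (K.X n))) =
        LocalizedModule.mk ((v : R) • x) 1 := by
      rw [LocalizedModule.smul'_mk, LocalizedModule.mk_eq]
      refine ⟨1, ?_⟩
      simp only [one_smul, Submonoid.coe_mul, mul_smul]
      rw [smul_comm]
      rfl
    exact key

end loc

end Groth.Agent.Lib.Helper20.CechLoc
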