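import Mathlib
import Groth.Prelude.Def_DerCA

/-!
# The long exact homology sequence of a mapping cocone (elementwise, for complexes of modules)
-/

set_option autoImplicit false

universe u

open CategoryTheory CochainComplex HomologicalComplex

namespace Groth.Agent.Lib.Helper20.CechLES

attribute [local instance] HasDerivedCategory.standard

variable {R : Type u} [CommRing R] {K L : CochainComplex (ModuleCat.{u} R) ℤ} (φ : K ⟶ L)

lemma triangle_dist :
    DerivedCategory.Q.mapTriangle.obj (mappingCocone.triangle φ) ∈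
      Pretriangulated.distinguishedTriangles :=
  DerivedCategory.mappingCocone_triangle_distinguished φ

/-- the connecting map `H^{n₀}(L) → H^{n₁}(cocone φ)`. -/
noncomputable def δ (n₀ n₁ : ℤ) (h : n₀ + 1 = n₁) :
    L.homology n₀ ⟶ (mappingCocone φ).homology n₁ :=
  CochainComplex.homologyδOfTriangle (mappingCocone.triangle φ) n₀ n₁ h

lemma fst_δ (n₀ n₁ : ℤ) (h : n₀ + 1 = n₁) (x : L.homology n₀) :
    (homologyMap (mappingCocone.fst φ) n₁).hom ((δ φ n₀ n₁ h).hom x) = 0 := by
  have := CochainComplex.homologyδOfTriangle_homologyMap (mappingCocone.triangle φ)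
    (triangle_dist φ) n₀ n₁ h
  have h2 := congrArg (fun g => g.hom x) this
  exact h2

lemma exact_fst (n₀ n₁ : ℤ) (h : n₀ + 1 = n₁) (c : (mappingCocone φ).homology n₁)
    (hc : (homologyMap (mappingCocone.fst φ) n₁).hom c = 0) :
    ∃ x : L.homology n₀, (δ φ n₀ n₁ h).hom x = c := by
  have := CochainComplex.homologyMap_exact₁_of_distTriang (mappingCocone.triangle φ)
    (triangle_dist φ) n₀ n₁ h
  rw [ShortComplex.moduleCat_exact_iff] at this
  exact this c hc

lemma φ_fst (n : ℤ) (c : (mappingCocone φ).homology n) :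
    (homologyMap φ n).hom ((homologyMap (mappingCocone.fst φ) n).hom c) = 0 := by
  have := CochainComplex.homologyMap_comp_eq_zero_of_distTriang (mappingCocone.triangle φ)
    (triangle_dist φ) n
  have h2 := congrArg (fun g => g.hom c) this
  exact h2

lemma exact_φ (n : ℤ) (x : K.homology n) (hx : (homologyMap φ n).hom x = 0) :
    ∃ c : (mappingCocone φ).homology n, (homologyMap (mappingCocone.fst φ) n).hom c = x := by
  have := CochainComplex.homologyMap_exact₂_of_distTriang (mappingCocone.triangle φ)
    (triangle_dist φ) n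
  rw [ShortComplex.moduleCat_exact_iff] at this
  exact this x hx

lemma δ_φ (n₀ n₁ : ℤ) (h : n₀ + 1 = n₁) (x : K.homology n₀) :
    (δ φ n₀ n₁ h).hom ((homologyMap φ n₀).hom x) = 0 := by
  have := CochainComplex.homologyMap_homologyδOfTriangle (mappingCocone.triangle φ)
    (triangle_dist φ) n₀ n₁ h
  have h2 := congrArg (fun g => g.hom x) this
  exact h2

lemma exact_δ (n₀ n₁ : ℤ) (h : n₀ + 1 = n₁) (y : L.homology n₀)
    (hy : (δ φ n₀ n₁ h).hom y = 0) : ∃ x : K.homology n₀, (homologyMap φ n₀).hom x = y := by
  have := CochainComplex.homologyMap_exact₃_of_distTriang (mappingCocone.triangle φ)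
    (triangle_dist φ) n₀ n₁ h
  rw [ShortComplex.moduleCat_exact_iff] at this
  exact this y hy

end Groth.Agent.Lib.Helper20.CechLES
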