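import Mathlib
import Groth.Prelude.Def_DerCA
import Groth.Agent.Lib.Helper20.CechLoc
import Groth.Agent.Lib.Helper20.CechLES

/-!
# The cohomology of the extended Čech complex is killed by powers of the elements
-/

set_option autoImplicit false

universe u

open CategoryTheory CochainComplex HomologicalComplex

namespace Groth.Agent.Lib.Helper20.CechKill

open Groth.Agent.Lib.Helper20

variable {R : Type u} [CommRing R]

/-- every class of the Čech cohomology is killed by a power of each element of the list. -/
theorem exists_pow_smul_eq_zero (M : ModuleCat.{u} R) (fs : List R) :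
    ∀ (q : ℤ) (x : DerCA.extCechH fs M q) (g : R), g ∈ fs → ∃ n : ℕ, (g ^ n) • x = 0 := by
  induction fs with
  | nil =>
    intro q x g hg
    simp at hg
  | cons f fs ih =>
    intro q x g hg
    let K := DerCA.extCech M fs
    let S := Submonoid.powers f
    let φ := DerCA.locCxUnit S K
    change ((mappingCocone φ).homology q : Type u) at x
    change ∃ n : ℕ, (g ^ n) • x = 0
    set y := (homologyMap (mappingCocone.fst φ) q).hom x with hy
    -- a general step: if `r • y = 0` then `r • x` is in the image of `δ`
    have step3 : ∀ r : R, r • y = 0 → ∃ d : ((DerCA.locCx S).obj K).homology (q - 1),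
        (CechLES.δ φ (q - 1) q (by omega)).hom d = r • x := by
      intro r hr
      apply CechLES.exact_fst
      rw [map_smul]
      exact hr
    by_cases hgf : g = f
    · subst hgf
      have h1 : (homologyMap φ q).hom y = 0 := CechLES.φ_fst φ q x
      obtain ⟨s, hs⟩ := CechLoc.exists_smul_eq_zero_of_homologyMap_eq_zero S K q y h1
      obtain ⟨k, hk⟩ := s.2
      obtain ⟨d, hd⟩ := step3 (s : R) hs
      obtain ⟨t, c, hc⟩ := CechLoc.exists_smul_eq_homologyMap S K (q - 1) d
      obtain ⟨m, hm⟩ := t.2
      refine ⟨m + k, ?_⟩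
      have hk' : g ^ k = (s : R) := hk
      have hm' : g ^ m = (t : R) := hm
      rw [pow_add, mul_smul, hk', hm', ← hd, ← map_smul, hc]
      exact CechLES.δ_φ φ (q - 1) q (by omega) c
    · have hg' : g ∈ fs := by
        rcases List.mem_cons.mp hg with h | h
        · exact absurd h hgf
        · exact h
      obtain ⟨a, ha⟩ := ih q y g hg'
      obtain ⟨d, hd⟩ := step3 (g ^ a) ha
      obtain ⟨t, c, hc⟩ := CechLoc.exists_smul_eq_homologyMap S K (q - 1) d
      obtain ⟨b, hb⟩ := ih (q - 1) c g hg'
      refine ⟨b + a, ?_⟩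
      have hd0 : (g ^ b) • d = 0 := by
        apply CechLoc.smul_homology_injective _ (t : R)
          (fun n => CechLoc.smul_bijective_locCx S K t n) (q - 1)
        rw [smul_comm, hc, ← map_smul, hb, map_zero]
      rw [pow_add, mul_smul, ← hd, ← map_smul, hd0, map_zero]

/-- a uniform exponent. -/
theorem exists_pow_forall (M : ModuleCat.{u} R) (fs : List R) (q : ℤ) (x : DerCA.extCechH fs M q) :
    ∃ n : ℕ, 1 ≤ n ∧ ∀ f ∈ fs, (f ^ n) • x = 0 := by
  have key : ∀ l : List R, (∀ g ∈ l, g ∈ fs) → ∃ n : ℕ, 1 ≤ n ∧ ∀ f ∈ l, (f ^ n) • x = 0 := by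
    intro l
    induction l with
    | nil =>
      intro _
      exact ⟨1, le_refl _, fun f hf => absurd hf List.not_mem_nil⟩
    | cons g l ih =>
      intro hl
      obtain ⟨n, hn1, hn⟩ := ih (fun g' hg' => hl g' (List.mem_cons_of_mem _ hg'))
      obtain ⟨m, hm⟩ := exists_pow_smul_eq_zero M fs q x g (hl g (List.mem_cons_self))
      refine ⟨n + m, by omega, ?_⟩
      intro f hf
      rcases List.mem_cons.mp hf with rfl | hf
      · rw [pow_add, mul_smul, hm, smul_zero]
      · rw [add_comm, pow_add, mul_smul, hn f hf, smul_zero]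
  exact key fs (fun g hg => hg)

end Groth.Agent.Lib.Helper20.CechKill
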