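import Mathlib
import Groth.Prelude.Def_Formal2
import Groth.Agent.Lib.Helper4.FaltCat
import Groth.Agent.Lib.Helper12.OrdTools

/-!
# `dim (A/p)_q` is the Krull dimension of the interval `[p, q]` of primes
-/

set_option autoImplicit false
set_option linter.style.haveILetI false
set_option linter.unusedSectionVars false
set_option linter.unusedVariables false
set_option maxHeartbeats 400000

universe u

namespace Groth.Agent.Lib.Helper20.FaltLoc

variable {A : Type u} [CommRing A]

theorem dimBetween_eq_krullDim_Icc (p q : PrimeSpectrum A) (hpq : p ≤ q) :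
    Formal2.dimBetween A p.asIdeal q.asIdeal = Order.krullDim (Set.Icc p q) := by
  have hpq' : p.asIdeal ≤ q.asIdeal := hpq
  have hsurj : Function.Surjective (Ideal.Quotient.mk p.asIdeal) := Ideal.Quotient.mk_surjective
  change ringKrullDim (Localization.AtPrime q.asIdeal ⧸
    p.asIdeal.map (algebraMap A (Localization.AtPrime q.asIdeal))) = _
  rw [Groth.Agent.Lib.Helper4.Falt.ringKrullDim_quotient_map_eq_height p.asIdeal q.asIdeal hpq']
  haveI hqbar : (q.asIdeal.map (Ideal.Quotient.mk p.asIdeal)).IsPrime :=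
    Ideal.map_isPrime_of_surjective hsurj (by rw [Ideal.mk_ker]; exact hpq')
  -- the embedding `Spec (A/p) → Spec A`
  let e : PrimeSpectrum (A ⧸ p.asIdeal) ↪o PrimeSpectrum A :=
    OrderEmbedding.ofMapLEIff (fun P => PrimeSpectrum.comap (Ideal.Quotient.mk p.asIdeal) P)
      (fun P Q => by
        change P.asIdeal.comap _ ≤ Q.asIdeal.comap _ ↔ P.asIdeal ≤ Q.asIdeal
        exact Ideal.comap_le_comap_iff_of_surjective _ hsurj _ _)
  have hrange : Set.range e = PrimeSpectrum.zeroLocus (p.asIdeal : Set A) := by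
    have := _root_.range_comap_of_surjective (A ⧸ p.asIdeal) (Ideal.Quotient.mk p.asIdeal) hsurj
    rw [Ideal.mk_ker] at this
    exact this
  have he : (Set.range e).OrdConnected := by
    rw [hrange]
    refine ⟨fun x hx y _ z hz => ?_⟩
    rw [PrimeSpectrum.mem_zeroLocus, SetLike.coe_subset_coe] at hx ⊢
    exact hx.trans hz.1
  let b : PrimeSpectrum (A ⧸ p.asIdeal) := ⟨⊥, Ideal.isPrime_bot⟩
  let qb : PrimeSpectrum (A ⧸ p.asIdeal) := ⟨q.asIdeal.map (Ideal.Quotient.mk p.asIdeal), hqbar⟩
  have heb : e b = p := by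
    apply PrimeSpectrum.ext
    change (⊥ : Ideal (A ⧸ p.asIdeal)).comap (Ideal.Quotient.mk p.asIdeal) = p.asIdeal
    rw [← RingHom.ker_eq_comap_bot, Ideal.mk_ker]
  have heq : e qb = q := by
    apply PrimeSpectrum.ext
    change (q.asIdeal.map (Ideal.Quotient.mk p.asIdeal)).comap (Ideal.Quotient.mk p.asIdeal) =
      q.asIdeal
    rw [Ideal.comap_map_of_surjective _ hsurj, ← RingHom.ker_eq_comap_bot, Ideal.mk_ker]
    exact sup_eq_left.2 hpq'
  have h1 := Groth.Agent.Lib.Helper12.OrdTools.krullDim_Icc_eq e he b qb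
  rw [heb, heq] at h1
  rw [h1, Groth.Agent.Lib.Helper12.OrdTools.krullDim_Icc_eq_height_of_least b qb
    (fun z => by
      change (⊥ : Ideal (A ⧸ p.asIdeal)) ≤ z.asIdeal
      exact bot_le)]
  exact congrArg _ (PrimeSpectrum.height_eq_orderHeight qb)

end Groth.Agent.Lib.Helper20.FaltLoc
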