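import Mathlib
import Groth.Prelude.Def_ArtFun6
import Groth.Agent.Lib.Helper18.EmbB
import Groth.Agent.Lib.Helper20.DualSect
import Groth.Agent.Lib.Helper20.FlatSubEq

/-!
# Helper20: a first-order embedded deformation is determined by its local classifying maps
(G2 for helper18, S12261)
-/

set_option autoImplicit false
set_option linter.style.haveILetI false
universe u
open CategoryTheory CategoryTheory.Limits AlgebraicGeometry
open ArtFun ArtFun.Art

namespace Groth.Agent.Lib.Helper20.EmbDeltaEq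

open Groth.Agent.Lib.Helper18 Groth.Agent.Lib.Helper20.DualSect

variable {k : Type u} [Field k] {X : Scheme.{u}} {x : X ⟶ specPt k} {I₀ : X.IdealSheafData}

/-- the local comparison: over `π⁻¹U` the ideal of `I` is contained in that of `I'` -/
lemma resZ_eq_zero_of_delta_eq (I I' : (localHilb X x I₀).obj (dual k k)) {U : X.Opens}
    (hU : IsAffineOpen U)
    (h : ∀ (g : Γ(X, U)) (hg : (I₀.subschemeι.app U).hom g = 0),
      EmbB.delta I hU g hg = EmbB.delta I' hU g hg)
    (w : Γ(XA x (dual k k), pr x ⁻¹ᵁ U)) (hw : (resZ I U).hom w = 0) :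
    (resZ I' U).hom w = 0 := by
  obtain ⟨f, g, rfl⟩ := exists_decomp x hU w
  -- the shape of the restrictions
  have hI : (resZ I U).hom (((pr x).app U).hom f + epsXA x U * ((pr x).app U).hom g) =
      ((EmbA.qq I).app U).hom f + EmbA.epsC I U * ((EmbA.qq I).app U).hom g := by
    rw [map_add, map_mul, resZ_pr, resZ_pr, resZ_epsXA]
  have hI' : (resZ I' U).hom (((pr x).app U).hom f + epsXA x U * ((pr x).app U).hom g) =
      ((EmbA.qq I').app U).hom f + EmbA.epsC I' U * ((EmbA.qq I').app U).hom g := by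
    rw [map_add, map_mul, resZ_pr, resZ_pr, resZ_epsXA]
  rw [hI] at hw
  rw [hI']
  -- `τ ε = 0`
  have htauE : ∀ J : (localHilb X x I₀).obj (dual k k), (EmbA.tau J U).hom (EmbA.epsC J U) = 0 := by
    intro J
    have : EmbA.epsC J U ∈ RingHom.ker (EmbA.tau J U).hom := by
      rw [EmbA.ker_tau J hU]
      exact Ideal.subset_span rfl
    exact this
  have htauq : ∀ (J : (localHilb X x I₀).obj (dual k k)) (a : Γ(X, U)),
      (EmbA.tau J U).hom (((EmbA.qq J).app U).hom a) = (I₀.subschemeι.app U).hom a :=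
    fun J a => ConcreteCategory.congr_hom (EmbA.qq_app_tau J U) a
  -- step A
  have hf : (I₀.subschemeι.app U).hom f = 0 := by
    have h1 := congrArg (EmbA.tau I U).hom hw
    rw [map_add, map_mul, htauE, zero_mul, add_zero, map_zero, htauq] at h1
    exact h1
  obtain ⟨c, hc⟩ := EmbB.exists_eq_epsC_mul I hU f hf
  have hdI : EmbB.delta I hU f hf = (EmbA.tau I U).hom c := EmbB.delta_eq I hU f hf c hc
  have h2 : EmbA.epsC I U * (c + ((EmbA.qq I).app U).hom g) = 0 := by
    rw [mul_add, ← hc]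
    exact hw
  have h3 := EmbB.tau_eq_zero_of_epsC_mul I hU _ h2
  rw [map_add, htauq] at h3
  -- step B
  obtain ⟨c', hc'⟩ := EmbB.exists_eq_epsC_mul I' hU f hf
  have hdI' : EmbB.delta I' hU f hf = (EmbA.tau I' U).hom c' := EmbB.delta_eq I' hU f hf c' hc'
  have h4 : (EmbA.tau I' U).hom (c' + ((EmbA.qq I').app U).hom g) = 0 := by
    rw [map_add, htauq, ← hdI', ← h f hf, hdI]
    exact h3
  have h5 : c' + ((EmbA.qq I').app U).hom g ∈ Ideal.span {EmbA.epsC I' U} := by
    rw [← EmbA.ker_tau I' hU]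
    exact h4
  obtain ⟨d, hd⟩ := Ideal.mem_span_singleton'.1 h5
  rw [hc', ← mul_add, ← hd, mul_comm d, ← mul_assoc, EmbA.epsC_mul_self, zero_mul]

theorem eq_of_delta_eq (I I' : (localHilb X x I₀).obj (dual k k))
    (h : ∀ (U : X.Opens) (hU : IsAffineOpen U) (g : Γ(X, U))
      (hg : (I₀.subschemeι.app U).hom g = 0),
      Groth.Agent.Lib.Helper18.EmbB.delta I hU g hg =
        Groth.Agent.Lib.Helper18.EmbB.delta I' hU g hg) : I = I' := by
  have hle : I.1 ≤ I'.1 := by
    refine Scheme.IdealSheafData.le_of_iSup_eq_top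
      (fun U : X.affineOpens => ⟨pr x ⁻¹ᵁ U.1, U.2.preimage (pr x)⟩) ?_ ?_
    · change ⨆ U : X.affineOpens, pr x ⁻¹ᵁ U.1 = ⊤
      rw [← Scheme.Hom.preimage_iSup, iSup_affineOpens_eq_top]
      rfl
    · intro U w hw
      rw [mem_ideal_iff I U.2] at hw
      rw [mem_ideal_iff I' U.2]
      exact resZ_eq_zero_of_delta_eq I I' U.2 (h U.1 U.2) w hw
  apply Subtype.ext
  exact FlatSubEq.eq_of_le_of_flatOver x I.1 I'.1 hle I'.2.1 (I.2.2.trans I'.2.2.symm)

end Groth.Agent.Lib.Helper20.EmbDeltaEq
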