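import Mathlib
import Groth.Agent.Lib.Helper18.EmbK
import Groth.Agent.Lib.Helper18.EmbI

/-!
# Helper20: the classifying morphism of the first-order deformation attached to `φ` is `φ`
(R5 for helper18, S12274 + S12272)
-/

set_option autoImplicit false
set_option linter.style.haveILetI false
universe u
open CategoryTheory CategoryTheory.Limits AlgebraicGeometry
open ArtFun ArtFun.Art Groth.Agent.Lib.Helper18 Groth.Agent.Lib.Helper18.EmbK
open Groth.Agent.Lib.Helper20.DualSect Groth.Agent.Lib.Helper3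

namespace Groth.Agent.Lib.Helper20.EmbPhiEq

variable {k : Type u} [Field k] {X : Scheme.{u}} {x : X ⟶ specPt k} (I₀ : X.IdealSheafData)
  (φ : ClSub.idealMod I₀ ⟶ ClSub.quotMod I₀)

/-- `Jset` with the trace `trU W` replaced by an equal open. -/
lemma Jset_eq (W : (XA x (dual k k)).Opens) (U' : X.Opens) (e : trU W = U')
    (hle : W ≤ pr x ⁻¹ᵁ U') :
    Jset I₀ φ W = {w | ∃ (s : Γ(ClSub.idealMod I₀, U')) (g : Γ(X, U')),
      w = ((pr x).appLE U' W hle).hom (IdealMod.val I₀ s) +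
        epsW W * ((pr x).appLE U' W hle).hom g ∧
      (I₀.subschemeι.app U').hom g + fromQ U' (φ.app U' s) = 0} := by
  subst e
  rfl

lemma trU_preimage (U : X.Opens) : trU (x := x) (pr x ⁻¹ᵁ U) = U := by
  change XAincl x (dual k k) ⁻¹ᵁ (pullback.fst x (specOver (dual k k)) ⁻¹ᵁ U) = U
  rw [← Scheme.Hom.comp_preimage, XAincl_fst]
  rfl

/-- the local form of R5 -/
lemma delta_eq_fromQ (I : (localHilb X x I₀).obj (dual k k))
    (hI : ∀ W : (XA x (dual k k)).affineOpens, I.1.ideal W = J I₀ φ W.2)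
    {U : X.Opens} (hU : IsAffineOpen U) (s : Γ(ClSub.idealMod I₀, U)) :
    EmbB.delta I hU (IdealMod.val I₀ s) (IdealMod.app_val I₀ s) = fromQ U (φ.app U s) := by
  obtain ⟨g₀, hg₀⟩ := I₀.subschemeι_app_surjective ⟨U, hU⟩ (-(fromQ U (φ.app U s)))
  have hg₀' : (I₀.subschemeι.app U).hom g₀ + fromQ U (φ.app U s) = 0 := by
    have : (I₀.subschemeι.app U).hom g₀ = -(fromQ U (φ.app U s)) := hg₀
    rw [this, neg_add_cancel]
  have hW : IsAffineOpen (pr x ⁻¹ᵁ U) := hU.preimage (pr x)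
  have hmem : ((pr x).app U).hom (IdealMod.val I₀ s) + epsXA x U * ((pr x).app U).hom g₀ ∈
      I.1.ideal ⟨pr x ⁻¹ᵁ U, hW⟩ := by
    rw [hI ⟨pr x ⁻¹ᵁ U, hW⟩]
    change _ ∈ Jset I₀ φ (pr x ⁻¹ᵁ U)
    rw [Jset_eq I₀ φ (pr x ⁻¹ᵁ U) U (trU_preimage U) le_rfl]
    refine ⟨s, g₀, ?_, hg₀'⟩
    rw [← Scheme.Hom.app_eq_appLE]
    rfl
  rw [mem_ideal_iff I hU, map_add, map_mul, resZ_pr, resZ_pr, resZ_epsXA] at hmem
  have hc : ((EmbA.qq I).app U).hom (IdealMod.val I₀ s) =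
      EmbA.epsC I U * (-((EmbA.qq I).app U).hom g₀) := by
    rw [mul_neg]
    exact eq_neg_of_add_eq_zero_left hmem
  rw [EmbB.delta_eq I hU _ _ _ hc, map_neg]
  have htq : (EmbA.tau I U).hom (((EmbA.qq I).app U).hom g₀) = (I₀.subschemeι.app U).hom g₀ :=
    ConcreteCategory.congr_hom (EmbA.qq_app_tau I U) g₀
  rw [htq]
  exact neg_eq_of_add_eq_zero_right hg₀'

/-- **R5**: the classifying morphism of a first-order deformation whose ideal is `J I₀ φ` is `φ`. -/
theorem Phi_of_ideal_eq (I : (localHilb X x I₀).obj (dual k k))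
    (hI : ∀ W : (XA x (dual k k)).affineOpens, I.1.ideal W = J I₀ φ W.2) :
    EmbI.Phi I = φ := by
  apply AffExt.hom_ext_of_affine
  intro U s
  rw [EmbI.Phi_app, EmbC.DU_apply, delta_eq_fromQ I₀ φ I hI U.2 s]
  rfl

end Groth.Agent.Lib.Helper20.EmbPhiEq
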