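import Mathlib
import Groth.Prelude.Def_ArtFun2
import Groth.Agent.Lib.Helper19.ArtFunTangent
import Groth.Agent.Lib.Helper19.ArtFunDouble

/-!
# Helper20: the double of a semismall extension is `B ×_k k[kʳ]`
(X1 for helper18, S12276)
-/

set_option autoImplicit false
set_option linter.style.haveILetI false
universe u
open CategoryTheory
open ArtFun ArtFun.Art Groth.Agent.Lib.Helper19.ArtFunTangent
  Groth.Agent.Lib.Helper19.ArtFunBasic Groth.Agent.Lib.Helper19.ArtFunLength

namespace Groth.Agent.Lib.Helper20.SemismallDouble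

/-- X1: for a semismall extension `μ : B → A` (kernel `J` killed by the maximal ideal) the double
`G = B ×_A B` is also `B ×_k k[kʳ]`, `r = dim_k J`. -/
theorem exists_delta_semismall {k : Type u} [Field k] {B A G : Art k k} (μ : B ⟶ A)
    (hμ : IsSemismallExt μ) (π₁ π₂ : G ⟶ B) (hG : IsFibreProd π₁ π₂ μ μ) :
    ∃ (r : ℕ) (δ : G ⟶ tsz k k (Fin r → k)),
      IsFibreProd π₁ δ (toBase B) (toBase (tsz k k (Fin r → k))) ∧
      Nonempty (↥(RingHom.ker μ.toAlgHom) ≃ₗ[k] (Fin r → k)) := by
  classical
  obtain ⟨hsurj, hkill⟩ := hμ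
  set J : Ideal B := RingHom.ker μ.toAlgHom with hJ
  haveI : Module.Finite k B := finite_art B
  haveI : IsNoetherian k B := inferInstance
  haveI : Module.Finite k ↥(J.restrictScalars k) := inferInstance
  haveI : Module.Finite k ↥J :=
    Module.Finite.equiv ((Submodule.restrictScalarsEquiv k B B J).restrictScalars k)
  let r : ℕ := Module.finrank k ↥J
  let e : ↥J ≃ₗ[k] (Fin r → k) := (Module.finBasis k ↥J).equivFun
  have hJm : ∀ j ∈ J, j ∈ IsLocalRing.maximalIdeal B := fun j hj => ker_le_maximalIdeal μ hj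
  have hmJ : ∀ b ∈ IsLocalRing.maximalIdeal B, ∀ j ∈ J, b * j = 0 := by
    intro b hb j hj
    have : b * j ∈ IsLocalRing.maximalIdeal B * J := Ideal.mul_mem_mul hb hj
    rw [hkill] at this
    exact this
  -- multiplication by `b` on `J` is scalar multiplication by `res b`
  have hsmul : ∀ (b : B) (j : B), j ∈ J → b * j = (B.res b) • j := by
    intro b j hj
    have h1 : b - algebraMap k B (B.res b) ∈ IsLocalRing.maximalIdeal B := by
      rw [mem_maximalIdeal_iff, map_sub, AlgHom.commutes, sub_eq_zero]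
      rfl
    have h2 := hmJ _ h1 j hj
    rw [sub_mul, sub_eq_zero] at h2
    rw [h2, Algebra.smul_def]
  have hdiff : ∀ g : G, π₂ g - π₁ g ∈ J := by
    intro g
    rw [hJ, RingHom.mem_ker]
    change μ (π₂ g - π₁ g) = 0
    rw [map_sub, sub_eq_zero]
    exact (hG.w_apply g).symm
  let c : G → (Fin r → k) := fun g => e ⟨π₂ g - π₁ g, hdiff g⟩
  have hc0 : ∀ g : G, π₂ g - π₁ g = 0 → c g = 0 := by
    intro g h
    have : (⟨π₂ g - π₁ g, hdiff g⟩ : ↥J) = 0 := Subtype.ext h
    change e _ = 0
    rw [this, map_zero]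
  have hcadd : ∀ g g' : G, c (g + g') = c g + c g' := by
    intro g g'
    change e _ = e _ + e _
    rw [← map_add]
    congr 1
    apply Subtype.ext
    change π₂ (g + g') - π₁ (g + g') = (π₂ g - π₁ g) + (π₂ g' - π₁ g')
    rw [map_add, map_add]
    ring
  have hcmul : ∀ g g' : G, c (g * g') = G.res g • c g' + G.res g' • c g := by
    intro g g'
    change e _ = G.res g • e _ + G.res g' • e _
    rw [← map_smul, ← map_smul, ← map_add]
    congr 1
    apply Subtype.ext
    change π₂ (g * g') - π₁ (g * g') =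
      G.res g • (π₂ g' - π₁ g') + G.res g' • (π₂ g - π₁ g)
    rw [← res_app π₁ g, ← res_app π₁ g', ← hsmul _ _ (hdiff g'), ← hsmul _ _ (hdiff g),
      map_mul, map_mul]
    have hjj : (π₂ g - π₁ g) * (π₂ g' - π₁ g') = 0 :=
      hmJ _ (hJm _ (hdiff g)) _ (hdiff g')
    linear_combination hjj
  let δ₀ : G →ₐ[k] TrivSqZeroExt k (Fin r → k) :=
    { toFun := fun g => (G.res g, c g)
      map_one' := by
        refine TrivSqZeroExt.ext (map_one G.res) ?_
        change c 1 = 0
        exact hc0 1 (by rw [map_one, map_one, sub_self])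
      map_mul' := by
        intro g g'
        refine TrivSqZeroExt.ext (map_mul G.res g g') ?_
        change c (g * g') = G.res g • c g' + MulOpposite.op (G.res g') • c g
        rw [op_smul_eq_smul]
        exact hcmul g g'
      map_zero' := by
        refine TrivSqZeroExt.ext (map_zero G.res) ?_
        change c 0 = 0
        exact hc0 0 (by rw [map_zero, map_zero, sub_self])
      map_add' := by
        intro g g'
        refine TrivSqZeroExt.ext (map_add G.res g g') ?_
        change c (g + g') = c g + c g'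
        exact hcadd g g'
      commutes' := by
        intro l
        refine TrivSqZeroExt.ext (G.res.commutes l) ?_
        change c (algebraMap k G l) = 0
        apply hc0
        have e1 : π₂ (algebraMap k G l) = algebraMap k B l := π₂.toAlgHom.commutes l
        have e2 : π₁ (algebraMap k G l) = algebraMap k B l := π₁.toAlgHom.commutes l
        rw [e1, e2, sub_self] }
  let δ : G ⟶ tsz k k (Fin r → k) := ⟨δ₀, AlgHom.ext fun g => rfl⟩
  have hδ : ∀ g, δ g = (G.res g, c g) := fun g => rfl
  refine ⟨r, δ, ⟨?_, ?_, ?_⟩, ⟨e⟩⟩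
  · rw [eq_toBase (π₁ ≫ toBase B), eq_toBase (δ ≫ toBase _)]
  · intro g₁ g₂ h1 h2
    apply hG.inj g₁ g₂ h1
    have hcc : c g₁ = c g₂ := congrArg TrivSqZeroExt.snd h2
    have h3 := e.injective hcc
    have h4 : π₂ g₁ - π₁ g₁ = π₂ g₂ - π₁ g₂ := congrArg Subtype.val h3
    rw [h1] at h4
    exact sub_left_injective h4
  · intro b d hbd
    have hbd' : B.res b = d.fst := hbd
    let j : ↥J := e.symm d.snd
    have hμeq : μ b = μ (b + (j : B)) := by
      rw [map_add]
      have : μ (j : B) = 0 := j.2
      rw [this, add_zero]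
    obtain ⟨g, hg1, hg2⟩ := hG.surj b (b + (j : B)) hμeq
    refine ⟨g, hg1, ?_⟩
    rw [hδ]
    refine TrivSqZeroExt.ext ?_ ?_
    · change G.res g = d.fst
      rw [← res_app π₁ g, hg1, hbd']
    · change c g = d.snd
      have : (⟨π₂ g - π₁ g, hdiff g⟩ : ↥J) = j := by
        apply Subtype.ext
        change π₂ g - π₁ g = (j : B)
        rw [hg1, hg2]
        ring
      change e _ = d.snd
      rw [this]
      exact e.apply_symm_apply d.snd

end Groth.Agent.Lib.Helper20.SemismallDouble
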