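import Groth.Agent.Lib.Helper20.W2

/-!
# Helper library (helper20): flat liftings over `W₂(k)` (`FrobAlg.IsLift`): the kernel of the
reduction map is `(p)`, multiplication by `p` identifies `A` with `pB`.
-/

set_option autoImplicit false
universe u v

namespace Groth.Agent.Lib.Helper20

open FrobAlg

/-- The polynomial `((x+y)^p - x^p - y^p)/p` evaluated at `x, y`. -/
def Wp (p : ℕ) {R : Type*} [CommRing R] (x y : R) : R :=
  ∑ i ∈ Finset.Ioo 0 p, x ^ i * y ^ (p - i) * ((p.choose i / p : ℕ) : R)

theorem add_pow_eq_Wp {p : ℕ} (hp : p.Prime) {R : Type*} [CommRing R] (x y : R) :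
    (x + y) ^ p = x ^ p + y ^ p + (p : R) * Wp p x y :=
  add_pow_prime_eq' hp x y

theorem map_Wp (p : ℕ) {R S : Type*} [CommRing R] [CommRing S] (f : R →+* S) (x y : R) :
    f (Wp p x y) = Wp p (f x) (f y) := by
  simp [Wp, map_sum]

section sigma

variable (p : ℕ) [Fact p.Prime] (k : Type u) [Field k] [CharP k p] [PerfectRing k p]

theorem exists_sigma_eq (w : W2 p k) : ∃ v, sigma p k w = w ^ p + (p : W2 p k) * v := by
  have : sigma p k w - w ^ p ∈ RingHom.ker (res p k) := by
    rw [RingHom.mem_ker, map_sub, map_pow, res_apply, res_apply, WittGrp.coeff_frob, sub_self]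
  rw [ker_res, Ideal.mem_span_singleton] at this
  obtain ⟨v, hv⟩ := this
  exact ⟨v, by rw [← hv]; ring⟩

end sigma

section IsLift

variable {p : ℕ} [Fact p.Prime] {k : Type u} [Field k] [CharP k p] [PerfectRing k p]
  {A : Type v} [CommRing A] [Algebra k A] {B : Type v} [CommRing B]
  {ι : W2 p k →+* B} {π : B →+* A}

theorem lift_ker_eq_span (h : IsLift p k A B ι π) : RingHom.ker π = Ideal.span {(p : B)} := by
  rw [h.ker_eq, ker_res, Ideal.map_span, Set.image_singleton, map_natCast]

omit [PerfectRing k p] in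
theorem lift_p_mul_p_eq_zero (ι : W2 p k →+* B) : (p : B) * (p : B) = 0 := by
  have := congrArg ι (p_mul_p p k)
  simpa using this

theorem lift_p_mul_eq_zero_iff (h : IsLift p k A B ι π) (x : B) : (p : B) * x = 0 ↔ π x = 0 := by
  rw [← RingHom.mem_ker, lift_ker_eq_span h, Ideal.mem_span_singleton]
  constructor
  · intro hx
    letI : Algebra (W2 p k) B := ι.toAlgebra
    have hflat : Module.Flat (W2 p k) B := h.flat
    have hx' : (p : W2 p k) • x = 0 := by
      rw [Algebra.smul_def]
      change ι (p : W2 p k) * x = 0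
      rw [map_natCast]; exact hx
    obtain ⟨x', hx''⟩ := (flat_iff p k B).mp hflat x hx'
    refine ⟨x', ?_⟩
    rw [hx'', Algebra.smul_def]
    change ι (p : W2 p k) * x' = _
    rw [map_natCast]
  · rintro ⟨y, rfl⟩
    rw [← mul_assoc, lift_p_mul_p_eq_zero ι, zero_mul]

/-- Flatness of a ring homomorphism out of `W₂(k)`, in terms of multiplication by `p`. -/
theorem flat_ringHom_iff (f : W2 p k →+* B) :
    f.Flat ↔ ∀ b : B, (p : B) * b = 0 → ∃ b' : B, b = (p : B) * b' := by
  letI : Algebra (W2 p k) B := f.toAlgebra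
  have hsmul : ∀ b : B, (p : W2 p k) • b = (p : B) * b := by
    intro b
    rw [Algebra.smul_def]
    change f (p : W2 p k) * b = _
    rw [map_natCast]
  have h1 : f.Flat ↔ Module.Flat (W2 p k) B := Iff.rfl
  rw [h1, flat_iff p k B]
  simp only [hsmul]

/-- "Multiplication by `p`" `A → B`, `π x ↦ p x`. -/
noncomputable def lift_theta (h : IsLift p k A B ι π) (c : A) : B :=
  (p : B) * Function.surjInv h.surj c

theorem lift_theta_apply (h : IsLift p k A B ι π) (x : B) : lift_theta h (π x) = (p : B) * x := by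
  unfold lift_theta
  have h1 : π (Function.surjInv h.surj (π x) - x) = 0 := by
    rw [map_sub, Function.surjInv_eq h.surj, sub_self]
  have h2 := (lift_p_mul_eq_zero_iff h _).mpr h1
  rw [mul_sub, sub_eq_zero] at h2
  exact h2

theorem lift_theta_injective (h : IsLift p k A B ι π) : Function.Injective (lift_theta h) := by
  intro c d hcd
  obtain ⟨x, rfl⟩ := h.surj c
  obtain ⟨y, rfl⟩ := h.surj d
  rw [lift_theta_apply h, lift_theta_apply h] at hcd
  have h1 : (p : B) * (x - y) = 0 := by rw [mul_sub, hcd, sub_self]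
  have h2 := (lift_p_mul_eq_zero_iff h _).mp h1
  rw [map_sub, sub_eq_zero] at h2
  exact h2

theorem lift_theta_add (h : IsLift p k A B ι π) (c d : A) :
    lift_theta h (c + d) = lift_theta h c + lift_theta h d := by
  obtain ⟨x, rfl⟩ := h.surj c
  obtain ⟨y, rfl⟩ := h.surj d
  rw [← map_add, lift_theta_apply h, lift_theta_apply h, lift_theta_apply h, mul_add]

theorem lift_theta_zero (h : IsLift p k A B ι π) : lift_theta h 0 = 0 := by
  have := lift_theta_apply h 0
  rwa [map_zero, mul_zero] at this

theorem lift_theta_neg (h : IsLift p k A B ι π) (c : A) : lift_theta h (-c) = - lift_theta h c := by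
  obtain ⟨x, rfl⟩ := h.surj c
  rw [← map_neg, lift_theta_apply h, lift_theta_apply h, mul_neg]

theorem lift_theta_sub (h : IsLift p k A B ι π) (c d : A) :
    lift_theta h (c - d) = lift_theta h c - lift_theta h d := by
  rw [sub_eq_add_neg, lift_theta_add h, lift_theta_neg h, sub_eq_add_neg]

theorem lift_mul_theta (h : IsLift p k A B ι π) (x : B) (c : A) :
    x * lift_theta h c = lift_theta h (π x * c) := by
  obtain ⟨y, rfl⟩ := h.surj c
  rw [← map_mul, lift_theta_apply h, lift_theta_apply h]
  ring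

theorem lift_theta_mul_theta (h : IsLift p k A B ι π) (c d : A) : lift_theta h c * lift_theta h d = 0 := by
  obtain ⟨x, rfl⟩ := h.surj c
  obtain ⟨y, rfl⟩ := h.surj d
  rw [lift_theta_apply h, lift_theta_apply h]
  calc (p : B) * x * ((p : B) * y) = ((p : B) * (p : B)) * (x * y) := by ring
    _ = 0 := by rw [lift_p_mul_p_eq_zero ι, zero_mul]

theorem lift_pi_theta (h : IsLift p k A B ι π) (c : A) : π (lift_theta h c) = 0 := by
  rw [← RingHom.mem_ker, lift_ker_eq_span h]
  exact Ideal.mem_span_singleton.mpr ⟨_, rfl⟩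

theorem lift_exists_theta_of_pi_eq_zero (h : IsLift p k A B ι π) (z : B) (hz : π z = 0) :
    ∃ c, z = lift_theta h c := by
  rw [← RingHom.mem_ker, lift_ker_eq_span h, Ideal.mem_span_singleton] at hz
  obtain ⟨y, rfl⟩ := hz
  exact ⟨π y, (lift_theta_apply h y).symm⟩

theorem lift_pi_natCast_p (h : IsLift p k A B ι π) : π (p : B) = 0 := by
  rw [← RingHom.mem_ker, lift_ker_eq_span h]
  exact Ideal.subset_span rfl

end IsLift

end Groth.Agent.Lib.Helper20
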