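import Mathlib
import Groth.Prelude.Def_KLin

/-!
# Helper20: `tilde` of a scalar multiplication is multiplication by the global function (for helper2, S7276)
-/

set_option autoImplicit false
set_option linter.style.haveILetI false
universe u
open CategoryTheory AlgebraicGeometry

namespace Groth.Agent.Lib.Helper20.KillB

theorem tilde_map_smul (R : CommRingCat.{u}) (M : ModuleCat.{u} R) (b : R) :
    (tilde.functor R).map (b • 𝟙 M) =
      Formal.smulModΓ ((tilde.functor R).obj M)
        ((Scheme.ΓSpecIso (CommRingCat.of R)).inv.hom b) := by
  apply (tilde.adjunction.homEquiv M _).injective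
  rw [Adjunction.homEquiv_unit, Adjunction.homEquiv_unit]
  have hnat := tilde.adjunction.unit.naturality (b • 𝟙 M)
  rw [Functor.id_map, Functor.comp_map] at hnat
  rw [← hnat]
  ext m
  change (tilde.adjunction.unit.app M).hom (b • m) =
    (Formal.smulModΓ ((tilde.functor R).obj M)
      ((Scheme.ΓSpecIso (CommRingCat.of R)).inv.hom b)).app ⊤
        ((tilde.adjunction.unit.app M).hom m)
  rw [map_smul, KLin.smulModΓ_app_apply]
  rfl

end Groth.Agent.Lib.Helper20.KillB
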