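import Mathlib

/-! Retracts of adically complete modules; inverse limits of `I^{n+1}`-torsion systems. helper20 -/

namespace Groth.Agent.Lib.Helper20.AdicRetract

universe u v w

variable {A : Type u} [CommRing A]

lemma smodEq_map {M : Type v} {N : Type w} [AddCommGroup M] [Module A M] [AddCommGroup N]
    [Module A N] (φ : M →ₗ[A] N) (J : Ideal A) {x y : M}
    (h : x ≡ y [SMOD (J • ⊤ : Submodule A M)]) : φ x ≡ φ y [SMOD (J • ⊤ : Submodule A N)] := by
  rw [SModEq.sub_mem] at h ⊢
  rw [← map_sub]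
  have h2 : (J • ⊤ : Submodule A M).map φ ≤ J • ⊤ := by
    rw [Submodule.map_smul'']
    exact Submodule.smul_mono (le_refl _) le_top
  exact h2 (Submodule.mem_map_of_mem h)

theorem isAdicComplete_of_retract (I : Ideal A) {M : Type v} {N : Type w} [AddCommGroup M]
    [Module A M] [AddCommGroup N] [Module A N] [IsAdicComplete I N] (i : M →ₗ[A] N)
    (r : N →ₗ[A] M) (hri : ∀ x, r (i x) = x) : IsAdicComplete I M := by
  have h1 : IsHausdorff I M := ⟨fun x hx => by
    have h0 : i x = 0 := IsHausdorff.haus inferInstance (i x) (fun n => by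
      simpa using smodEq_map i (I ^ n) (hx n))
    rw [← hri x, h0, map_zero]⟩
  have h2 : IsPrecomplete I M := ⟨fun f hf => by
    obtain ⟨L, hL⟩ := IsPrecomplete.prec (I := I) (M := N) inferInstance (f := fun n => i (f n))
      (fun {m n} hmn => smodEq_map i (I ^ m) (hf hmn))
    refine ⟨r L, fun n => ?_⟩
    have := smodEq_map r (I ^ n) (hL n)
    simpa [hri] using this⟩
  exact { h1, h2 with }

theorem isAdicComplete_of_limit (I : Ideal A) (hI : I.FG)
    (M : ℕ → Type v) [∀ n, AddCommGroup (M n)] [∀ n, Module A (M n)]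
    (f : ∀ n, M (n + 1) →ₗ[A] M n)
    (hkill : ∀ n, I ^ (n + 1) • (⊤ : Submodule A (M n)) = ⊥)
    (L : Type v) [AddCommGroup L] [Module A L] (π : ∀ n, L →ₗ[A] M n)
    (hπ : ∀ n, f n ∘ₗ π (n + 1) = π n)
    (hinj : ∀ x : L, (∀ n, π n x = 0) → x = 0)
    (hlift : ∀ y : (∀ n, M n), (∀ n, f n (y (n + 1)) = y n) → ∃ x : L, ∀ n, π n x = y n) :
    IsAdicComplete I L := by
  have := AdicCompletion.isAdicComplete (M := L) hI
  have hle : ∀ n, (I ^ (n + 1) • ⊤ : Submodule A L) ≤ LinearMap.ker (π n) := by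
    intro n x hx
    rw [LinearMap.mem_ker]
    have h3 : π n x ∈ (I ^ (n + 1) • ⊤ : Submodule A (M n)) := by
      have h2 : (I ^ (n + 1) • ⊤ : Submodule A L).map (π n) ≤ I ^ (n + 1) • ⊤ := by
        rw [Submodule.map_smul'']
        exact Submodule.smul_mono (le_refl _) le_top
      exact h2 (Submodule.mem_map_of_mem hx)
    rw [hkill n] at h3
    exact (Submodule.mem_bot A).mp h3
  let y : ∀ n, AdicCompletion I L →ₗ[A] M n := fun n =>
    (Submodule.liftQ _ (π n) (hle n)) ∘ₗ AdicCompletion.eval I L (n + 1)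
  have hy : ∀ (ξ : AdicCompletion I L) n, f n (y (n + 1) ξ) = y n ξ := by
    intro ξ n
    obtain ⟨ℓ, hℓ⟩ := Submodule.Quotient.mk_surjective _ (ξ.val (n + 1 + 1))
    have h1 : ξ.val (n + 1) = Submodule.Quotient.mk ℓ := by
      rw [← ξ.property (Nat.le_succ (n + 1)), ← hℓ]
      rfl
    show f n (Submodule.liftQ _ (π (n + 1)) (hle (n + 1)) (ξ.val (n + 1 + 1))) =
      Submodule.liftQ _ (π n) (hle n) (ξ.val (n + 1))
    rw [h1, ← hℓ, Submodule.liftQ_apply, Submodule.liftQ_apply]
    exact LinearMap.congr_fun (hπ n) ℓ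
  choose ρ hρ using fun ξ => hlift (fun n => y n ξ) (hy ξ)
  have hext : ∀ x x' : L, (∀ n, π n x = π n x') → x = x' := by
    intro x x' h
    have := hinj (x - x') (fun n => by rw [map_sub, h n, sub_self])
    exact sub_eq_zero.mp this
  let r : AdicCompletion I L →ₗ[A] L :=
    { toFun := ρ
      map_add' := fun ξ η => hext _ _ (fun n => by rw [map_add, hρ, hρ, hρ, map_add])
      map_smul' := fun a ξ => hext _ _ (fun n => by
        rw [map_smul, hρ, hρ, map_smul]
        rfl) }
  exact isAdicComplete_of_retract I (AdicCompletion.of I L) r (fun x => hext _ _ (fun n => by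
    show π n (ρ (AdicCompletion.of I L x)) = π n x
    rw [hρ]
    rfl))

end Groth.Agent.Lib.Helper20.AdicRetract
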