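import Mathlib

/-! Abstract lemma: from a product formula for `resI ∘ coext` to a coproduct formula for
`resJ ∘ ext`. helper20 -/

namespace Groth.Agent.Lib.Helper20.AdjCoprod

open CategoryTheory CategoryTheory.Limits

universe v₁ v₂ v₃ u₁ u₂ u₃ w

variable {𝒜 : Type u₁} [Category.{v₁} 𝒜] {ℬ : Type u₂} [Category.{v₂} ℬ]
  {𝒯 : Type u₃} [Category.{v₃} 𝒯]
  {ext : 𝒜 ⥤ 𝒯} {resI : 𝒯 ⥤ 𝒜} (adj₁ : ext ⊣ resI)
  {resJ : 𝒯 ⥤ ℬ} {coext : ℬ ⥤ 𝒯} (adj₂ : resJ ⊣ coext)
  {I : Type w} {L : I → (𝒜 ⥤ ℬ)} {R : I → (ℬ ⥤ 𝒜)} (adj : ∀ f, L f ⊣ R f)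
  (θ : ∀ f, resI ⟶ resJ ⋙ R f)

/-- the projections -/
def p (f : I) (b : ℬ) : resI.obj (coext.obj b) ⟶ (R f).obj b :=
  (θ f).app (coext.obj b) ≫ (R f).map (adj₂.counit.app b)

/-- the injections -/
def inj (f : I) (a : 𝒜) : (L f).obj a ⟶ resJ.obj (ext.obj a) :=
  ((adj f).homEquiv _ _).symm (adj₁.unit.app a ≫ (θ f).app (ext.obj a))

lemma key (f : I) (a : 𝒜) (b : ℬ) (g : resJ.obj (ext.obj a) ⟶ b) :
    adj₁.homEquiv _ _ (adj₂.homEquiv _ _ g) ≫ p adj₂ θ f b =
      (adj f).homEquiv _ _ (inj adj₁ adj θ f a ≫ g) := by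
  rw [Adjunction.homEquiv_naturality_right]
  unfold inj p
  rw [Equiv.apply_symm_apply, Adjunction.homEquiv_unit]
  simp only [Category.assoc]
  congr 1
  have h1 := (θ f).naturality (adj₂.homEquiv _ _ g)
  rw [← Category.assoc, h1, Category.assoc]
  congr 1
  rw [Functor.comp_map, ← Functor.map_comp]
  congr 1
  rw [← Adjunction.homEquiv_counit, Equiv.symm_apply_apply]

/-- the coproduct formula -/
noncomputable def isColimitCofan (hH : ∀ b, IsLimit (Fan.mk _ (fun f => p adj₂ θ f b))) (a : 𝒜) :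
    IsColimit (Cofan.mk _ (fun f => inj adj₁ adj θ f a)) := by
  refine Cofan.IsColimit.mk _
    (fun s => (adj₂.homEquiv _ _).symm ((adj₁.homEquiv _ _).symm
      (Fan.IsLimit.lift (hH s.pt) (fun f => (adj f).homEquiv _ _ (s.inj f))))) ?_ ?_
  · intro s f
    apply ((adj f).homEquiv _ _).injective
    show (adj f).homEquiv _ _ (inj adj₁ adj θ f a ≫ _) = _
    rw [← key, Equiv.apply_symm_apply, Equiv.apply_symm_apply]
    exact Fan.IsLimit.fac (hH s.pt) _ f
  · intro s m hm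
    apply (adj₂.homEquiv _ _).injective
    apply (adj₁.homEquiv _ _).injective
    rw [Equiv.apply_symm_apply, Equiv.apply_symm_apply]
    apply Fan.IsLimit.hom_ext (hH s.pt)
    intro f
    show _ ≫ p adj₂ θ f s.pt = _ ≫ p adj₂ θ f s.pt
    rw [key adj₁ adj₂ adj θ f a s.pt m]
    have h2 := Fan.IsLimit.fac (hH s.pt) (fun f => (adj f).homEquiv _ _ (s.inj f)) f
    rw [show (Fan.mk _ (fun f => p adj₂ θ f s.pt)).proj f = p adj₂ θ f s.pt from rfl] at h2
    rw [h2]
    congr 1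
    exact hm f

/-- the projection as a natural transformation -/
def pNat (f : I) : coext ⋙ resI ⟶ R f where
  app b := p adj₂ θ f b
  naturality b b' β := by
    unfold p
    have h1 := (θ f).naturality (coext.map β)
    have h2 := adj₂.counit.naturality β
    rw [Functor.comp_map, ← Category.assoc, h1, Category.assoc, Category.assoc]
    congr 1
    rw [Functor.comp_map, ← Functor.map_comp, ← Functor.map_comp]
    congr 1

/-- if the projection is an isomorphism, `ext ⋙ resJ` is the left adjoint `L f` -/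
noncomputable def extResIso (f : I) [IsIso (pNat adj₂ θ f)] : ext ⋙ resJ ≅ L f :=
  ((adj₁.comp adj₂).ofNatIsoRight (asIso (pNat adj₂ θ f))).leftAdjointUniq (adj f)

end Groth.Agent.Lib.Helper20.AdjCoprod
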