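import Mathlib
import Groth.Agent.Lib.Helper20.FAD4
import Groth.Agent.Lib.Helper20.CDim3
import Groth.Agent.Lib.Helper1.AssFilt1

/-!
# The associated points of the fibres of a coherent module near the generic point of an integral
Noetherian base (EGA IV 9.8.3), statements on the total space (helper20)
-/

set_option autoImplicit false
set_option linter.style.haveILetI false
set_option linter.unusedSectionVars false
set_option linter.dupNamespace false
universe u

open IsLocalRing TensorProduct CategoryTheory CategoryTheory.Limits AlgebraicGeometry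
  TopologicalSpace Topology

namespace Groth.Agent.Lib.Helper20.AssGen

open Groth.Agent.Lib.Helper12 Groth.Agent.Lib.Helper17
  Groth.Agent.Lib.Helper1 Groth.Agent.Lib.Helper12.SchemeDimIneq Groth.Agent.Lib.Helper20.AssDim
  Groth.Agent.Lib.Helper20.SkFib Groth.Agent.Lib.Helper20.RD

variable {X S : Scheme.{u}} (f : X ⟶ S) (F : X.Modules)

/-- a specialization, of the same transcendence degree and at which the module is flat over the
base, of a point of fibre depth zero has fibre depth zero. -/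
theorem xdepth_eq_zero_of_specializes [LocallyOfFinitePresentation f]
    [SheafOfModules.IsFinitePresentation (R := X.ringCatSheaf) F] (x z : X) (h : x ⤳ z)
    (hx : xdepth f F x = 0) (htr : trn f z = trn f x) (hfl : FlatMod.IsFlatOverAt f F z) :
    xdepth f F z = 0 := by
  by_contra hne
  obtain ⟨n, hn⟩ := exists_trn_eq f x
  have hO := isOpen_flat_and_QXrd f F (n + 1)
  have hz : z ∈ {y : X | FlatMod.IsFlatOverAt f F y ∧ QXrd f F (n + 1) y} := by
    refine ⟨hfl, ?_⟩
    unfold QXrd
    rw [htr, hn]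
    have h1 : (1 : ℕ∞) ≤ xdepth f F z := ENat.one_le_iff_ne_zero.mpr hne
    calc ((n + 1 : ℕ) : ℕ∞) = 1 + (n : ℕ∞) := by push_cast; ring
      _ ≤ xdepth f F z + (n : ℕ∞) := by gcongr
  have hxO := h.mem_open hO hz
  have h2 := hxO.2
  unfold QXrd at h2
  rw [hx, hn, zero_add] at h2
  have : n + 1 ≤ n := by exact_mod_cast h2
  omega

section Gen

variable [IsIntegral S] [IsNoetherian S] [LocallyOfFiniteType f] [QuasiCompact f]

/-- a bound for the transcendence degrees on the generic fibre of a closed subset spreads out. -/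
theorem exists_open_trn_lt (Q : Set X) (hQ : IsClosed Q) (m : ℕ)
    (hgen : ∀ z ∈ Q, f z = genericPoint S → trn f z < (m : ℕ∞)) :
    ∃ U : Set S, IsOpen U ∧ genericPoint S ∈ U ∧ ∀ y ∈ Q, f y ∈ U → trn f y < (m : ℕ∞) := by
  haveI := FibreTopGen.noetherianSpace_of_finiteType f
  haveI : LocallyOfFinitePresentation f :=
    SecCompBC.locallyOfFinitePresentation_of_isLocallyNoetherian f
  have hK := isClosed_setOf_exists_generization f Q hQ m
  have hC : IsConstructible
      (f '' {x : X | x ∈ Q ∧ ∃ z ∈ Q, f z = f x ∧ z ⤳ x ∧ (m : ℕ∞) ≤ trn f z}) :=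
    f.isConstructible_image (FibreTopGen.isConstructible_of_isClosed' hK)
  have hη : genericPoint S ∉
      f '' {x : X | x ∈ Q ∧ ∃ z ∈ Q, f z = f x ∧ z ⤳ x ∧ (m : ℕ∞) ≤ trn f z} := by
    rintro ⟨x, ⟨hxQ, z, hzQ, hzx, -, hm⟩, hxη⟩
    exact absurd (hgen z hzQ (hzx.trans hxη)) (not_lt.mpr hm)
  have hgenz : ∀ z : S, z ⤳ genericPoint S → z = genericPoint S :=
    fun z hz => (hz.antisymm (genericPoint_specializes z)).eq
  have hnhds := ConstrNhds.mem_nhds_of_isLocallyConstructible _ hC.compl.isLocallyConstructible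
    (genericPoint S) (fun z hz => (hgenz z hz) ▸ hη)
  refine ⟨interior _, isOpen_interior, mem_interior_iff_mem_nhds.mpr hnhds, ?_⟩
  intro y hyQ hyU
  by_contra hlt
  rw [not_lt] at hlt
  exact (interior_subset hyU) ⟨y, ⟨hyQ, y, hyQ, rfl, specializes_rfl, hlt⟩, rfl⟩

/-- the generic upper bound for the transcendence degrees of the points of the closure of a point
of the generic fibre. -/
theorem exists_open_trn_le (x₀ : X) (hx₀ : f x₀ = genericPoint S) :
    ∃ U : Set S, IsOpen U ∧ genericPoint S ∈ U ∧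
      ∀ y : X, x₀ ⤳ y → f y ∈ U → trn f y ≤ trn f x₀ := by
  obtain ⟨n, hn⟩ := exists_trn_eq f x₀
  obtain ⟨U, hU, hηU, H⟩ := exists_open_trn_lt f (closure {x₀}) isClosed_closure (n + 1) (by
    intro z hz hzη
    have hsp : x₀ ⤳ z := specializes_iff_mem_closure.mpr hz
    have h1 := SecComp.trn_le_of_specializes f z x₀ (hx₀.trans hzη.symm) hsp
    rw [hn] at h1
    exact lt_of_le_of_lt h1 (by exact_mod_cast Nat.lt_succ_self n))
  refine ⟨U, hU, hηU, fun y hy hyU => ?_⟩
  have h1 := H y (specializes_iff_mem_closure.mp hy) hyU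
  rw [hn]
  obtain ⟨t, ht⟩ := exists_trn_eq f y
  rw [ht] at h1 ⊢
  have : t < n + 1 := by exact_mod_cast h1
  exact_mod_cast Nat.lt_succ_iff.mp this

/-- the generic strict upper bound on a closed subset not containing the point. -/
theorem exists_open_trn_lt_of_notMem (x₀ : X) (hx₀ : f x₀ = genericPoint S) (T : Set X)
    (hT : IsClosed T) (hx₀T : x₀ ∉ T) :
    ∃ U : Set S, IsOpen U ∧ genericPoint S ∈ U ∧
      ∀ y : X, x₀ ⤳ y → y ∈ T → f y ∈ U → trn f y < trn f x₀ := by
  obtain ⟨n, hn⟩ := exists_trn_eq f x₀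
  obtain ⟨U, hU, hηU, H⟩ := exists_open_trn_lt f (closure {x₀} ∩ T) (isClosed_closure.inter hT) n
    (by
      rintro z ⟨hz, hzT⟩ hzη
      have hsp : x₀ ⤳ z := specializes_iff_mem_closure.mpr hz
      have hne : x₀ ≠ z := fun h => hx₀T (h ▸ hzT)
      have h1 := FibreMax.trn_lt_of_specializes f z x₀ (hx₀.trans hzη.symm) hsp hne
      rw [hn] at h1
      exact h1)
  refine ⟨U, hU, hηU, fun y hy hyT hyU => ?_⟩
  rw [hn]
  exact H y ⟨specializes_iff_mem_closure.mp hy, hyT⟩ hyU

variable [F.IsQuasicoherent] [F.IsFiniteType]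

/-- the points of fibre depth zero of the generic fibre are finite in number. -/
theorem finite_generic_ass :
    {x : X | f x = genericPoint S ∧ xdepth f F x = 0}.Finite := by
  set η := genericPoint S with hη
  haveI : LocallyOfFiniteType (f.fiberToSpecResidueField η) :=
    FibreRes.locallyOfFiniteType_fiberToSpecResidueField f η
  haveI : QuasiCompact (f.fiberToSpecResidueField η) :=
    MorphismProperty.of_isPullback (P := @QuasiCompact)
      (IsPullback.of_hasPullback f (S.fromSpecResidueField η)) inferInstance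
  haveI : IsLocallyNoetherian (f.fiber η) :=
    LocallyOfFiniteType.isLocallyNoetherian (f.fiberToSpecResidueField η)
  haveI : CompactSpace ↥(f.fiber η) :=
    QuasiCompact.compactSpace_of_compactSpace (f.fiberToSpecResidueField η)
  haveI : IsNoetherian (f.fiber η) := { }
  have hcoh : Coh.IsCoh ((Scheme.Modules.pullback (f.fiberι η)).obj F) :=
    ConsModLocus.isCoh_pullback _ F ⟨inferInstance, inferInstance⟩
  have hfin := AssFilt.finite_ass _ hcoh
  refine (hfin.image (f.fiberι η).base).subset ?_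
  rintro x ⟨hxη, hxd⟩
  set w := (f.fiberHomeo η).symm ⟨x, hxη⟩ with hw
  have hιw0 : f.fiberι η w = x := f.fiberι_fiberHomeo_symm η ⟨x, hxη⟩
  have hιw : (f.fiberι η).base w = x := hιw0
  refine ⟨w, ?_, hιw⟩
  rw [mem_ass_fibre_iff f F η w, hιw]
  exact hxd

set_option maxHeartbeats 800000 in
/-- over a neighbourhood of the generic point, the points of fibre depth zero and of transcendence
degree `n` are specializations of such points of the generic fibre. -/
theorem exists_open_generic_ass_aux (U₀ : Set S)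
    (hU₀ : ∀ x : X, f x ∈ U₀ → FlatMod.IsFlatOverAt f F x) (hηU₀ : genericPoint S ∈ U₀) (n : ℕ) :
    ∃ U : Set S, IsOpen U ∧ genericPoint S ∈ U ∧ ∀ z : X, f z ∈ U → xdepth f F z = 0 →
      trn f z = (n : ℕ∞) →
      ∃ x₀ : X, f x₀ = genericPoint S ∧ xdepth f F x₀ = 0 ∧ x₀ ⤳ z ∧ trn f x₀ = trn f z := by
  haveI := FibreTopGen.noetherianSpace_of_finiteType f
  haveI : IsLocallyNoetherian X := LocallyOfFiniteType.isLocallyNoetherian f
  haveI : LocallyOfFinitePresentation f :=
    SecCompBC.locallyOfFinitePresentation_of_isLocallyNoetherian f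
  haveI : SheafOfModules.IsFinitePresentation (R := X.ringCatSheaf) F :=
    Groth.Agent.Lib.Helper1.ModDescNoeth.isFinitePresentation_of_noeth F
  have hO := isOpen_flat_and_QXrd f F (n + 1)
  have hK := isClosed_setOf_exists_generization f _ hO.isClosed_compl n
  have hAfin := finite_generic_ass f F
  have hPcl : IsClosed (⋃ x₀ ∈ {x : X | (f x = genericPoint S ∧ xdepth f F x = 0) ∧
      trn f x = (n : ℕ∞)}, closure ({x₀} : Set X)) := by
    refine Set.Finite.isClosed_biUnion (hAfin.subset ?_) (fun _ _ => isClosed_closure)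
    rintro x ⟨hx, -⟩
    exact hx
  have hC : IsConstructible (f '' ({x : X |
      x ∈ {y : X | FlatMod.IsFlatOverAt f F y ∧ QXrd f F (n + 1) y}ᶜ ∧
        ∃ z ∈ {y : X | FlatMod.IsFlatOverAt f F y ∧ QXrd f F (n + 1) y}ᶜ,
          f z = f x ∧ z ⤳ x ∧ (n : ℕ∞) ≤ trn f z} \
      ⋃ x₀ ∈ {x : X | (f x = genericPoint S ∧ xdepth f F x = 0) ∧ trn f x = (n : ℕ∞)},
        closure ({x₀} : Set X))) :=
    f.isConstructible_image ((FibreTopGen.isConstructible_of_isClosed' hK).sdiff
      (FibreTopGen.isConstructible_of_isClosed' hPcl))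
  have hη : genericPoint S ∉ f '' ({x : X |
      x ∈ {y : X | FlatMod.IsFlatOverAt f F y ∧ QXrd f F (n + 1) y}ᶜ ∧
        ∃ z ∈ {y : X | FlatMod.IsFlatOverAt f F y ∧ QXrd f F (n + 1) y}ᶜ,
          f z = f x ∧ z ⤳ x ∧ (n : ℕ∞) ≤ trn f z} \
      ⋃ x₀ ∈ {x : X | (f x = genericPoint S ∧ xdepth f F x = 0) ∧ trn f x = (n : ℕ∞)},
        closure ({x₀} : Set X)) := by
    rintro ⟨y, ⟨⟨-, z', hz'Y, hz'y, hz'sp, hnz'⟩, hyP⟩, hyη⟩
    apply hyP
    have hz'η : f z' = genericPoint S := hz'y.trans hyη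
    have hfl : FlatMod.IsFlatOverAt f F z' := hU₀ z' (hz'η ▸ hηU₀)
    have hnq : ¬ QXrd f F (n + 1) z' := fun hq => hz'Y ⟨hfl, hq⟩
    unfold QXrd at hnq
    obtain ⟨t, ht⟩ := exists_trn_eq f z'
    rw [ht] at hnq hnz'
    rw [not_le] at hnq
    have hnt : n ≤ t := by exact_mod_cast hnz'
    have hd : xdepth f F z' = 0 ∧ t = n := by
      by_cases htop : xdepth f F z' = ⊤
      · rw [htop] at hnq
        exact absurd hnq (by simp)
      · obtain ⟨d, h⟩ := ENat.ne_top_iff_exists.mp htop
        rw [← h] at hnq ⊢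
        have h2 : d + t < n + 1 := by exact_mod_cast hnq
        have hd : d = 0 := by omega
        have htn : t = n := by omega
        subst hd
        exact ⟨rfl, htn⟩
    refine Set.mem_biUnion (x := z') ⟨⟨hz'η, hd.1⟩, by rw [ht, hd.2]⟩ ?_
    exact specializes_iff_mem_closure.mp hz'sp
  have hgenz : ∀ z : S, z ⤳ genericPoint S → z = genericPoint S :=
    fun z hz => (hz.antisymm (genericPoint_specializes z)).eq
  have hnhds := ConstrNhds.mem_nhds_of_isLocallyConstructible _ hC.compl.isLocallyConstructible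
    (genericPoint S) (fun z hz => (hgenz z hz) ▸ hη)
  refine ⟨interior _, isOpen_interior, mem_interior_iff_mem_nhds.mpr hnhds, ?_⟩
  intro z hzU hzd hzn
  have hzY : z ∈ {y : X | FlatMod.IsFlatOverAt f F y ∧ QXrd f F (n + 1) y}ᶜ := by
    rintro ⟨-, hq⟩
    unfold QXrd at hq
    rw [hzd, hzn, zero_add] at hq
    have : n + 1 ≤ n := by exact_mod_cast hq
    omega
  by_contra hcon
  apply interior_subset hzU
  refine ⟨z, ⟨⟨hzY, z, hzY, rfl, specializes_rfl, hzn.ge⟩, ?_⟩, rfl⟩
  intro hzP
  simp only [Set.mem_iUnion] at hzP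
  obtain ⟨x₀, ⟨⟨hx₀η, hx₀d⟩, hx₀n⟩, hzx₀⟩ := hzP
  exact hcon ⟨x₀, hx₀η, hx₀d, specializes_iff_mem_closure.mpr hzx₀, hx₀n.trans hzn.symm⟩

/-- over a neighbourhood of the generic point, the points of fibre depth zero are specializations
of points of fibre depth zero of the generic fibre of the same transcendence degree. -/
theorem exists_open_generic_ass (U₀ : Set S)
    (hU₀ : ∀ x : X, f x ∈ U₀ → FlatMod.IsFlatOverAt f F x) (hηU₀ : genericPoint S ∈ U₀) :
    ∃ U : Set S, IsOpen U ∧ genericPoint S ∈ U ∧ ∀ z : X, f z ∈ U → xdepth f F z = 0 →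
      ∃ x₀ : X, f x₀ = genericPoint S ∧ xdepth f F x₀ = 0 ∧ x₀ ⤳ z ∧ trn f x₀ = trn f z := by
  haveI := FibreTopGen.noetherianSpace_of_finiteType f
  obtain ⟨N, hN⟩ := CDim.exists_fibreDimAt_bound f
  choose U hUo hUη hU using exists_open_generic_ass_aux f F U₀ hU₀ hηU₀
  refine ⟨⋂ n ∈ Finset.range (N + 1), U n, ?_, ?_, ?_⟩
  · exact isOpen_biInter_finset (fun n _ => hUo n)
  · simp only [Set.mem_iInter]
    exact fun n _ => hUη n
  · intro z hzU hzd
    obtain ⟨t, ht⟩ := exists_trn_eq f z
    have h1 := (FibreMax.trn_le_fibreDimAt_of_specializes f z z rfl specializes_rfl).trans (hN z)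
    rw [ht] at h1
    have htN : t ≤ N := by exact_mod_cast h1
    simp only [Set.mem_iInter] at hzU
    exact hU t z (hzU t (Finset.mem_range.mpr (by omega))) hzd ht

end Gen

end Groth.Agent.Lib.Helper20.AssGen
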