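import Mathlib
import Groth.Agent.Lib.Helper20.AssGen1
import Groth.Agent.Lib.Helper12.FibreAvoid

/-!
# The associated points of the fibres of a coherent module near the generic point of an integral
Noetherian base (EGA IV 9.8.3) (helper20)
-/

set_option autoImplicit false
set_option linter.style.haveILetI false
set_option linter.unusedSectionVars false
set_option linter.dupNamespace false
universe u

open IsLocalRing TensorProduct CategoryTheory CategoryTheory.Limits AlgebraicGeometry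
  TopologicalSpace Topology

namespace Groth.Agent.Lib.Helper20.AssGen

open Groth.Agent.Lib.Helper12 Groth.Agent.Lib.Helper17
  Groth.Agent.Lib.Helper1 Groth.Agent.Lib.Helper12.SchemeDimIneq Groth.Agent.Lib.Helper20.AssDim
  Groth.Agent.Lib.Helper20.SkFib Groth.Agent.Lib.Helper20.RD

variable {X S : Scheme.{u}} (f : X ⟶ S) (F : X.Modules)

section Gen

variable [IsIntegral S] [IsNoetherian S] [LocallyOfFiniteType f] [QuasiCompact f]
  [F.IsQuasicoherent] [F.IsFiniteType]

set_option maxHeartbeats 800000 in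
/-- the statement on the total space. -/
theorem exists_open_main :
    ∃ U : S.Opens, genericPoint S ∈ U ∧
      (∀ x₀ : X, f x₀ = genericPoint S → xdepth f F x₀ = 0 → ∀ z : X, f z ∈ U → x₀ ⤳ z →
        trn f z ≤ trn f x₀) ∧
      (∀ x₀ x₀' : X, f x₀ = genericPoint S → xdepth f F x₀ = 0 → f x₀' = genericPoint S →
        xdepth f F x₀' = 0 → ¬ (x₀' ⤳ x₀) → ∀ z : X, f z ∈ U → x₀ ⤳ z → x₀' ⤳ z →
        trn f z < trn f x₀) ∧
      (∀ z : X, f z ∈ U → xdepth f F z = 0 →
        ∃ x₀ : X, f x₀ = genericPoint S ∧ xdepth f F x₀ = 0 ∧ x₀ ⤳ z ∧ trn f x₀ = trn f z) ∧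
      (∀ x₀ : X, f x₀ = genericPoint S → xdepth f F x₀ = 0 → ∀ z : X, f z ∈ U → x₀ ⤳ z →
        trn f z = trn f x₀ → xdepth f F z = 0) := by
  haveI := FibreTopGen.noetherianSpace_of_finiteType f
  haveI : IsLocallyNoetherian X := LocallyOfFiniteType.isLocallyNoetherian f
  haveI : LocallyOfFinitePresentation f :=
    SecCompBC.locallyOfFinitePresentation_of_isLocallyNoetherian f
  haveI : SheafOfModules.IsFinitePresentation (R := X.ringCatSheaf) F :=
    Groth.Agent.Lib.Helper1.ModDescNoeth.isFinitePresentation_of_noeth F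
  obtain ⟨U₀, ⟨s₀, hs₀⟩, hfl⟩ := Groth.Agent.Lib.Helper28.GenFlatMod.generic_flat_module f F
  have hηU₀ : genericPoint S ∈ (U₀ : Set S) := (genericPoint_specializes s₀).mem_open U₀.2 hs₀
  have hAfin := finite_generic_ass f F
  have h1 : ∀ x₀ : X, ∃ U : Set S, IsOpen U ∧ genericPoint S ∈ U ∧
      (f x₀ = genericPoint S → ∀ y : X, x₀ ⤳ y → f y ∈ U → trn f y ≤ trn f x₀) := by
    intro x₀
    by_cases hx₀ : f x₀ = genericPoint S
    · obtain ⟨U, hU, hη, H⟩ := exists_open_trn_le f x₀ hx₀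
      exact ⟨U, hU, hη, fun _ => H⟩
    · exact ⟨Set.univ, isOpen_univ, trivial, fun h => absurd h hx₀⟩
  choose U1 hU1o hU1η hU1 using h1
  have h2 : ∀ x₀ x₀' : X, ∃ U : Set S, IsOpen U ∧ genericPoint S ∈ U ∧
      (f x₀ = genericPoint S → ¬ (x₀' ⤳ x₀) → ∀ y : X, x₀ ⤳ y → x₀' ⤳ y → f y ∈ U →
        trn f y < trn f x₀) := by
    intro x₀ x₀'
    by_cases hx₀ : f x₀ = genericPoint S
    · by_cases hsp : x₀' ⤳ x₀
      · exact ⟨Set.univ, isOpen_univ, trivial, fun _ h => absurd hsp h⟩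
      · obtain ⟨U, hU, hη, H⟩ := exists_open_trn_lt_of_notMem f x₀ hx₀ (closure {x₀'})
          isClosed_closure (fun h => hsp (specializes_iff_mem_closure.mpr h))
        exact ⟨U, hU, hη, fun _ _ y hy hy' hyU =>
          H y hy (specializes_iff_mem_closure.mp hy') hyU⟩
    · exact ⟨Set.univ, isOpen_univ, trivial, fun h => absurd h hx₀⟩
  choose U2 hU2o hU2η hU2 using h2
  obtain ⟨U3, hU3o, hU3η, hU3⟩ := exists_open_generic_ass f F (U₀ : Set S)
    (fun x hx => hfl x hx) hηU₀
  refine ⟨⟨(((U₀ : Set S) ∩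
      (⋂ x₀ ∈ {x : X | f x = genericPoint S ∧ xdepth f F x = 0}, U1 x₀)) ∩
      (⋂ x₀ ∈ {x : X | f x = genericPoint S ∧ xdepth f F x = 0},
        ⋂ x₀' ∈ {x : X | f x = genericPoint S ∧ xdepth f F x = 0}, U2 x₀ x₀')) ∩ U3, ?_⟩,
    ?_, ?_, ?_, ?_, ?_⟩
  · exact ((U₀.2.inter (hAfin.isOpen_biInter fun x _ => hU1o x)).inter
      (hAfin.isOpen_biInter fun x _ => hAfin.isOpen_biInter fun x' _ => hU2o x x')).inter hU3o
  · refine ⟨⟨⟨hηU₀, ?_⟩, ?_⟩, hU3η⟩
    · simp only [Set.mem_iInter]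
      exact fun x _ => hU1η x
    · simp only [Set.mem_iInter]
      exact fun x _ x' _ => hU2η x x'
  · intro x₀ hx₀η hx₀d z hz hsp
    have hz1 : f z ∈ ⋂ x₀ ∈ {x : X | f x = genericPoint S ∧ xdepth f F x = 0}, U1 x₀ := hz.1.1.2
    simp only [Set.mem_iInter] at hz1
    exact hU1 x₀ hx₀η z hsp (hz1 x₀ ⟨hx₀η, hx₀d⟩)
  · intro x₀ x₀' hx₀η hx₀d hx₀'η hx₀'d hnsp z hz hsp hsp'
    have hz1 : f z ∈ ⋂ x₀ ∈ {x : X | f x = genericPoint S ∧ xdepth f F x = 0},
        ⋂ x₀' ∈ {x : X | f x = genericPoint S ∧ xdepth f F x = 0}, U2 x₀ x₀' := hz.1.2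
    simp only [Set.mem_iInter] at hz1
    exact hU2 x₀ x₀' hx₀η hnsp z hsp hsp' (hz1 x₀ ⟨hx₀η, hx₀d⟩ x₀' ⟨hx₀'η, hx₀'d⟩)
  · intro z hz hzd
    exact hU3 z hz.2 hzd
  · intro x₀ hx₀η hx₀d z hz hsp htr
    exact xdepth_eq_zero_of_specializes f F x₀ z hsp hx₀d htr (hfl z hz.1.1.1)

/-- the maximal points of the trace on the fibre over `s` of the closure of a point. -/
def MaxPts (s : S) (x₀ : X) : Set ↥(f.fiber s) :=
  {z : ↥(f.fiber s) | z ∈ ((f.fiberι s).base ⁻¹' closure {x₀}) ∧
    ∀ z' ∈ ((f.fiberι s).base ⁻¹' closure {x₀}), z' ⤳ z → z' = z}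

set_option maxHeartbeats 1600000 in
/-- **EGA IV 9.8.3**. -/
theorem main' :
    ∃ U : S.Opens, genericPoint S ∈ U ∧ ∀ s ∈ U,
      (AssSch.Ass ((Scheme.Modules.pullback (f.fiberι s)).obj F) =
          ⋃ x ∈ AssSch.Ass ((Scheme.Modules.pullback (f.fiberι (genericPoint S))).obj F),
            MaxPts f s ((f.fiberι (genericPoint S)).base x)) ∧
      (∀ x ∈ AssSch.Ass ((Scheme.Modules.pullback (f.fiberι (genericPoint S))).obj F),
        ∀ x' ∈ AssSch.Ass ((Scheme.Modules.pullback (f.fiberι (genericPoint S))).obj F), x ≠ x' →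
          Disjoint (MaxPts f s ((f.fiberι (genericPoint S)).base x))
            (MaxPts f s ((f.fiberι (genericPoint S)).base x'))) ∧
      (∀ x ∈ AssSch.Ass ((Scheme.Modules.pullback (f.fiberι (genericPoint S))).obj F),
        ∀ z ∈ MaxPts f s ((f.fiberι (genericPoint S)).base x),
          ((∀ y ∈ AssSch.Ass ((Scheme.Modules.pullback (f.fiberι s)).obj F), y ⤳ z → y = z) ↔
            (∀ y ∈ AssSch.Ass ((Scheme.Modules.pullback (f.fiberι (genericPoint S))).obj F),
              y ⤳ x → y = x))) := by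
  obtain ⟨U, hηU, P1, P2, P3, P4⟩ := exists_open_main f F
  refine ⟨U, hηU, fun s hs => ?_⟩
  -- plumbing between the fibres and the total space
  have hfib : ∀ (t : S) (w : ↥(f.fiber t)), f ((f.fiberι t).base w) = t :=
    fun t w => apply_fiberι' f t w
  have hlift : ∀ (t : S) (y : X), f y = t → ∃ w : ↥(f.fiber t), (f.fiberι t).base w = y := by
    intro t y hy
    exact ⟨(f.fiberHomeo t).symm ⟨y, hy⟩, f.fiberι_fiberHomeo_symm t ⟨y, hy⟩⟩
  have hspec : ∀ (t : S) (w w' : ↥(f.fiber t)),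
      (f.fiberι t).base w ⤳ (f.fiberι t).base w' ↔ w ⤳ w' :=
    fun t w w' => (f.fiberι t).isEmbedding.isInducing.specializes_iff
  have hinj : ∀ t : S, Function.Injective (f.fiberι t).base :=
    fun t => (f.fiberι t).isEmbedding.injective
  have hAss : ∀ (t : S) (w : ↥(f.fiber t)),
      w ∈ AssSch.Ass ((Scheme.Modules.pullback (f.fiberι t)).obj F) ↔
        xdepth f F ((f.fiberι t).base w) = 0 := fun t w => mem_ass_fibre_iff f F t w
  have hsU : ∀ w : ↥(f.fiber s), f ((f.fiberι s).base w) ∈ U := by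
    intro w
    rw [hfib]
    exact hs
  set η := genericPoint S with hη
  -- characterization of the maximal points
  have K1 : ∀ x ∈ AssSch.Ass ((Scheme.Modules.pullback (f.fiberι η)).obj F),
      ∀ w : ↥(f.fiber s), w ∈ MaxPts f s ((f.fiberι η).base x) ↔
        ((f.fiberι η).base x ⤳ (f.fiberι s).base w ∧
          trn f ((f.fiberι s).base w) = trn f ((f.fiberι η).base x)) := by
    intro x hx w
    have hx₀η := hfib η x
    have hx₀d := (hAss η x).mp hx
    constructor
    · rintro ⟨hw1, hw2⟩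
      have hsp : (f.fiberι η).base x ⤳ (f.fiberι s).base w := specializes_iff_mem_closure.mpr hw1
      refine ⟨hsp, le_antisymm (P1 _ hx₀η hx₀d _ (hsU w) hsp) ?_⟩
      obtain ⟨z', hz'f, hx₀z', hz'w, hle⟩ :=
        ClosedSub.exists_between_trn_le f ((f.fiberι s).base w) ((f.fiberι η).base x) hsp
      obtain ⟨w', hw'⟩ := hlift s z' (hz'f.trans (hfib s w))
      have hw'w : w' = w := by
        refine hw2 w' ?_ ((hspec s w' w).mp (by rw [hw']; exact hz'w))
        show (f.fiberι s).base w' ∈ closure {(f.fiberι η).base x}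
        rw [hw']
        exact specializes_iff_mem_closure.mp hx₀z'
      rw [← hw'w, hw']
      exact hle
    · rintro ⟨hsp, htr⟩
      refine ⟨specializes_iff_mem_closure.mp hsp, ?_⟩
      intro w' hw'1 hw'w
      by_contra hne
      have hne' : (f.fiberι s).base w' ≠ (f.fiberι s).base w := fun h => hne (hinj s h)
      have hlt := FibreMax.trn_lt_of_specializes f ((f.fiberι s).base w) ((f.fiberι s).base w')
        ((hfib s w').trans (hfib s w).symm) ((hspec s w' w).mpr hw'w) hne'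
      have hle := P1 _ hx₀η hx₀d ((f.fiberι s).base w') (hsU w')
        (specializes_iff_mem_closure.mpr hw'1)
      rw [htr] at hlt
      exact absurd (lt_of_lt_of_le hlt hle) (lt_irrefl _)
  -- (a)
  have hA : AssSch.Ass ((Scheme.Modules.pullback (f.fiberι s)).obj F) =
      ⋃ x ∈ AssSch.Ass ((Scheme.Modules.pullback (f.fiberι η)).obj F),
        MaxPts f s ((f.fiberι η).base x) := by
    ext w
    simp only [Set.mem_iUnion, exists_prop]
    constructor
    · intro hw
      obtain ⟨x₀, hx₀η, hx₀d, hx₀w, htr⟩ := P3 ((f.fiberι s).base w) (hsU w) ((hAss s w).mp hw)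
      obtain ⟨x, hx⟩ := hlift η x₀ hx₀η
      have hxA : x ∈ AssSch.Ass ((Scheme.Modules.pullback (f.fiberι η)).obj F) := by
        rw [hAss η x, hx]
        exact hx₀d
      refine ⟨x, hxA, (K1 x hxA w).mpr ⟨?_, ?_⟩⟩
      · rw [hx]
        exact hx₀w
      · rw [hx]
        exact htr.symm
    · rintro ⟨x, hx, hw⟩
      obtain ⟨hsp, htr⟩ := (K1 x hx w).mp hw
      exact (hAss s w).mpr (P4 _ (hfib η x) ((hAss η x).mp hx) _ (hsU w) hsp htr)
  refine ⟨hA, ?_, ?_⟩
  -- (b)
  · intro x hx x' hx' hne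
    rw [Set.disjoint_left]
    intro w hw hw'
    obtain ⟨hsp, htr⟩ := (K1 x hx w).mp hw
    obtain ⟨hsp', htr'⟩ := (K1 x' hx' w).mp hw'
    have hnsp : ¬ ((f.fiberι η).base x' ⤳ (f.fiberι η).base x) := by
      intro h
      have hne0 : (f.fiberι η).base x' ≠ (f.fiberι η).base x := fun h' => hne (hinj η h').symm
      have hlt := FibreMax.trn_lt_of_specializes f ((f.fiberι η).base x) ((f.fiberι η).base x')
        ((hfib η x').trans (hfib η x).symm) h hne0
      rw [← htr, ← htr'] at hlt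
      exact lt_irrefl _ hlt
    have hlt := P2 _ _ (hfib η x) ((hAss η x).mp hx) (hfib η x') ((hAss η x').mp hx') hnsp
      ((f.fiberι s).base w) (hsU w) hsp hsp'
    rw [htr] at hlt
    exact lt_irrefl _ hlt
  -- (c)
  · intro x hx w hw
    obtain ⟨hsp, htr⟩ := (K1 x hx w).mp hw
    constructor
    · intro hL y hy hyx
      by_contra hne
      have hne0 : (f.fiberι η).base y ≠ (f.fiberι η).base x := fun h' => hne (hinj η h')
      have hy0x0 : (f.fiberι η).base y ⤳ (f.fiberι η).base x := (hspec η y x).mpr hyx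
      have hlt := FibreMax.trn_lt_of_specializes f ((f.fiberι η).base x) ((f.fiberι η).base y)
        ((hfib η y).trans (hfib η x).symm) hy0x0 hne0
      have hzcl : (f.fiberι s).base w ∈ closure {(f.fiberι η).base y} :=
        specializes_iff_mem_closure.mp (hy0x0.trans hsp)
      obtain ⟨ζ, hζQ, hζf, hζz, hmin⟩ := CDim.exists_minimal_generization f
        (closure {(f.fiberι η).base y}) ((f.fiberι s).base w) hzcl
      obtain ⟨wζ, hwζ⟩ := hlift s ζ (hζf.trans (hfib s w))
      have hwζM : wζ ∈ MaxPts f s ((f.fiberι η).base y) := by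
        refine ⟨?_, ?_⟩
        · show (f.fiberι s).base wζ ∈ closure {(f.fiberι η).base y}
          rw [hwζ]
          exact hζQ
        · intro w' hw'1 hw'ζ
          apply hinj s
          rw [hwζ]
          refine hmin _ hw'1 ((hfib s w').trans (hfib s w).symm) ?_
          rw [← hwζ]
          exact (hspec s w' wζ).mpr hw'ζ
      have hwζA : wζ ∈ AssSch.Ass ((Scheme.Modules.pullback (f.fiberι s)).obj F) := by
        rw [hA]
        simp only [Set.mem_iUnion, exists_prop]
        exact ⟨y, hy, hwζM⟩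
      have hwζw : wζ ⤳ w := (hspec s wζ w).mp (by rw [hwζ]; exact hζz)
      have heq := hL wζ hwζA hwζw
      obtain ⟨-, htrζ⟩ := (K1 y hy wζ).mp hwζM
      rw [heq, htr] at htrζ
      rw [htrζ] at hlt
      exact lt_irrefl _ hlt
    · intro hR y hy hyw
      by_contra hne
      have hne0 : (f.fiberι s).base y ≠ (f.fiberι s).base w := fun h' => hne (hinj s h')
      have hyw0 : (f.fiberι s).base y ⤳ (f.fiberι s).base w := (hspec s y w).mpr hyw
      have hlt := FibreMax.trn_lt_of_specializes f ((f.fiberι s).base w) ((f.fiberι s).base y)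
        ((hfib s y).trans (hfib s w).symm) hyw0 hne0
      rw [hA] at hy
      simp only [Set.mem_iUnion, exists_prop] at hy
      obtain ⟨x', hx', hyM⟩ := hy
      obtain ⟨hsp', htr'⟩ := (K1 x' hx' y).mp hyM
      have hnsp : ¬ ((f.fiberι η).base x' ⤳ (f.fiberι η).base x) := by
        intro h
        have hx'x : x' = x := hR x' hx' ((hspec η x' x).mp h)
        rw [hx'x] at htr'
        rw [htr', ← htr] at hlt
        exact lt_irrefl _ hlt
      have hlt2 := P2 _ _ (hfib η x) ((hAss η x).mp hx) (hfib η x') ((hAss η x').mp hx') hnsp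
        ((f.fiberι s).base w) (hsU w) hsp (hsp'.trans hyw0)
      rw [htr] at hlt2
      exact lt_irrefl _ hlt2

end Gen

end Groth.Agent.Lib.Helper20.AssGen
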