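import Mathlib
import Groth.Prelude.Def_Found
import Groth.Agent.Lib.Helper12.JacDim
import Groth.Agent.Lib.Helper12.FibreMax
import Groth.Agent.Lib.Helper9.RegLocal
import Groth.Agent.Lib.Helper4.RegCM
import Groth.Agent.Lib.Helper11.QFlat
import Groth.Agent.S0563
import Groth.Agent.S0604

set_option autoImplicit false
set_option maxHeartbeats 400000
universe u
open AlgebraicGeometry CategoryTheory

namespace Groth.Agent.Lib.Helper20.Biequi

variable {X : Scheme.{u}}

/-- The point of `X` corresponding to the zero ideal of a domain stalk. -/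
noncomputable def genPt (x : X) [IsDomain (X.presheaf.stalk x)] : X :=
  (X.fromSpecStalk x) (⟨⊥, Ideal.isPrime_bot⟩ : PrimeSpectrum (X.presheaf.stalk x))

lemma genPt_specializes (x : X) [IsDomain (X.presheaf.stalk x)] : genPt x ⤳ x := by
  have : genPt x ∈ Set.range (X.fromSpecStalk x) := ⟨_, rfl⟩
  rw [Scheme.range_fromSpecStalk] at this
  exact this

lemma genPt_specializes_of_specializes (x : X) [IsDomain (X.presheaf.stalk x)] (t : X)
    (ht : t ⤳ x) : genPt x ⤳ t := by
  have : t ∈ Set.range (X.fromSpecStalk x) := by
    rw [Scheme.range_fromSpecStalk]; exact ht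
  obtain ⟨q, rfl⟩ := this
  have hle : (⟨⊥, Ideal.isPrime_bot⟩ : PrimeSpectrum (X.presheaf.stalk x)) ≤ q := by
    intro a ha
    have : a = 0 := ha
    rw [this]
    exact zero_mem _
  exact Specializes.map ((PrimeSpectrum.le_iff_specializes _ _).mp hle)
    (X.fromSpecStalk x).continuous

lemma closure_genPt_mem_irreducibleComponents (x : X) [IsDomain (X.presheaf.stalk x)] :
    closure ({genPt x} : Set X) ∈ irreducibleComponents X := by
  refine ⟨isIrreducible_singleton.closure, ?_⟩
  intro T' hT' hle
  have hcl : IsIrreducible (closure T') := hT'.closure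
  obtain ⟨ξ, hξ⟩ := QuasiSober.sober hcl isClosed_closure
  have hx : x ∈ closure T' :=
    subset_closure (hle ((genPt_specializes x).mem_closure))
  have hξx : ξ ⤳ x := by
    rw [specializes_iff_mem_closure, hξ.def]; exact hx
  have h2 : genPt x ⤳ ξ := genPt_specializes_of_specializes x ξ hξx
  have h3 : closure ({ξ} : Set X) ⊆ closure {genPt x} :=
    closure_minimal (by
      intro z hz
      rw [Set.mem_singleton_iff] at hz
      rw [hz]
      exact h2.mem_closure) isClosed_closure
  intro z hz
  apply h3
  rw [hξ.def]
  exact subset_closure hz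

lemma dim_generizations (x : X) [IsDomain (X.presheaf.stalk x)] :
    topologicalKrullDim ↥{t : X | t ∈ closure ({genPt x} : Set X) ∧ t ⤳ x} =
      ringKrullDim (X.presheaf.stalk x) := by
  rw [Groth.Agent.Lib.Helper12.JacDim.topologicalKrullDim_generizations x (genPt x)
    (genPt_specializes x)]
  have h := Groth.Agent.Lib.Helper12.Equidim.ringKrullDim_quotient_stalk_eq x
    (⟨⊥, Ideal.isPrime_bot⟩ : PrimeSpectrum (X.presheaf.stalk x))
  rw [genPt, ← h]
  exact ringKrullDim_eq_of_ringEquiv (RingEquiv.quotientBot _)

theorem dim_eq_add (x : X) [IsDomain (X.presheaf.stalk x)]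
    (hcomp : ∀ C ∈ irreducibleComponents (X : Type u), topologicalKrullDim ↥C = topologicalKrullDim X)
    (hchain : ∀ (y : X) (T : Set X), IsClosed T → IsIrreducible T → y ∈ T →
      topologicalKrullDim ↥T = topologicalKrullDim ↥(closure ({y} : Set X)) +
        topologicalKrullDim ↥{t : X | t ∈ T ∧ t ⤳ y}) :
    topologicalKrullDim X = topologicalKrullDim ↥(closure ({x} : Set X)) +
      ringKrullDim (X.presheaf.stalk x) := by
  rw [← hcomp _ (closure_genPt_mem_irreducibleComponents x),
    hchain x _ isClosed_closure isIrreducible_singleton.closure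
      ((genPt_specializes x).mem_closure), dim_generizations x]

end Groth.Agent.Lib.Helper20.Biequi
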