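import Mathlib

/-!
# Transport of projective dimension along semilinear equivalences
-/

set_option autoImplicit false
set_option maxHeartbeats 400000
universe u
open CategoryTheory

namespace Groth.Agent.Lib.Helper20.Biequi

section transport

variable {R R' : Type u} [CommRing R] [CommRing R']
  {σ : R →+* R'} {σ' : R' →+* R} [RingHomInvPair σ σ'] [RingHomInvPair σ' σ]

/-- the semilinear equivalence of free modules on the same basis. -/
noncomputable def freeEquiv (N : Type u) : (N →₀ R) ≃ₛₗ[σ] (N →₀ R') where
  toFun := Finsupp.mapRange σ (map_zero σ)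
  invFun := Finsupp.mapRange σ' (map_zero σ')
  map_add' := fun f g => by ext n; simp
  map_smul' := fun r f => by ext n; simp
  left_inv := fun f => by ext n; simp
  right_inv := fun f => by ext n; simp

variable {N N' : Type u} [AddCommGroup N] [Module R N] [AddCommGroup N'] [Module R' N']

lemma linearCombination_freeEquiv (e : N ≃ₛₗ[σ] N') (f : N →₀ R) :
    Finsupp.linearCombination R' (fun n : N => e n) (freeEquiv (σ := σ) (σ' := σ') N f) =
      e (Finsupp.linearCombination R (id : N → N) f) := by
  induction f using Finsupp.induction_linear with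
  | zero => simp
  | add f g hf hg => rw [map_add, map_add, map_add, map_add, hf, hg]
  | single n r =>
    simp [freeEquiv, Finsupp.mapRange_single, e.map_smulₛₗ]

end transport

section step

variable {R R' : Type u} [CommRing R] [CommRing R']
  {σ : R →+* R'} {σ' : R' →+* R} [RingHomInvPair σ σ'] [RingHomInvPair σ' σ]
  {N N' : Type u} [AddCommGroup N] [Module R N] [AddCommGroup N'] [Module R' N']

lemma hasPdLT_zero (e : N ≃ₛₗ[σ] N') (h : HasProjectiveDimensionLT (ModuleCat.of R N) 0) :
    HasProjectiveDimensionLT (ModuleCat.of R' N') 0 := by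
  have hz : Limits.IsZero (ModuleCat.of R N) := (hasProjectiveDimensionLT_zero_iff_isZero _).1 h
  haveI : Subsingleton N := ModuleCat.subsingleton_of_isZero hz
  haveI : Subsingleton N' := e.symm.toEquiv.subsingleton
  exact (hasProjectiveDimensionLT_zero_iff_isZero _).2 (ModuleCat.isZero_of_subsingleton _)

lemma hasPdLT_one (e : N ≃ₛₗ[σ] N') (h : HasProjectiveDimensionLT (ModuleCat.of R N) 1) :
    HasProjectiveDimensionLT (ModuleCat.of R' N') 1 := by
  have hp : Projective (ModuleCat.of R N) := projective_iff_hasProjectiveDimensionLT_one.2 h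
  haveI : Module.Projective R N := (IsProjective.iff_projective (R := R) N).2 hp
  haveI : Module.Projective R' N' := Module.Projective.of_equiv e
  exact projective_iff_hasProjectiveDimensionLT_one.1
    ((IsProjective.iff_projective (R := R') N').1 inferInstance)

lemma exact_ker {F P : Type u} [AddCommGroup F] [Module R F] [AddCommGroup P] [Module R P]
    (π : F →ₗ[R] P) : Function.Exact (LinearMap.ker π).subtype π := by
  intro f
  constructor
  · intro hf; exact ⟨⟨f, hf⟩, rfl⟩
  · rintro ⟨g, rfl⟩; exact g.2

/-- the kernel short complex of a linear map -/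
noncomputable def kerSC {F P : Type u} [AddCommGroup F] [Module R F] [AddCommGroup P] [Module R P]
    (π : F →ₗ[R] P) : ShortComplex (ModuleCat.{u} R) :=
  ShortComplex.mk (ModuleCat.ofHom (LinearMap.ker π).subtype) (ModuleCat.ofHom π)
    (by ext x; exact (exact_ker π).apply_apply_eq_zero x)

lemma kerSC_shortExact {F P : Type u} [AddCommGroup F] [Module R F] [AddCommGroup P] [Module R P]
    (π : F →ₗ[R] P) (hπ : Function.Surjective π) : (kerSC π).ShortExact :=
  ModuleCat.shortComplex_shortExact (kerSC π) (exact_ker π) (Submodule.subtype_injective _) hπ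

lemma hasPdLT_step (m : ℕ) (e : N ≃ₛₗ[σ] N')
    (ih : ∀ {K K' : Type u} [AddCommGroup K] [Module R K] [AddCommGroup K'] [Module R' K']
      (_ : K ≃ₛₗ[σ] K'), HasProjectiveDimensionLT (ModuleCat.of R K) (m + 1) →
        HasProjectiveDimensionLT (ModuleCat.of R' K') (m + 1))
    (h : HasProjectiveDimensionLT (ModuleCat.of R N) (m + 2)) :
    HasProjectiveDimensionLT (ModuleCat.of R' N') (m + 2) := by
  let π : (N →₀ R) →ₗ[R] N := Finsupp.linearCombination R (id : N → N)
  let π' : (N →₀ R') →ₗ[R'] N' := Finsupp.linearCombination R' (fun n : N => e n)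
  let φ : (N →₀ R) ≃ₛₗ[σ] (N →₀ R') := freeEquiv (σ := σ) (σ' := σ') N
  have hπφ : ∀ f, π' (φ f) = e (π f) := linearCombination_freeEquiv e
  have hπ : Function.Surjective π := Finsupp.linearCombination_id_surjective R N
  have hπ' : Function.Surjective π' := by
    intro y
    obtain ⟨f, hf⟩ := hπ (e.symm y)
    exact ⟨φ f, by rw [hπφ, hf, e.apply_symm_apply]⟩
  let ψ : LinearMap.ker π ≃ₛₗ[σ] LinearMap.ker π' :=
    LinearEquiv.ofSubmodules φ (LinearMap.ker π) (LinearMap.ker π') (by
      ext y
      simp only [Submodule.mem_map, LinearMap.mem_ker]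
      constructor
      · rintro ⟨f, hf, rfl⟩
        show π' (φ f) = 0
        rw [hπφ, hf, map_zero]
      · intro hy
        refine ⟨φ.symm y, ?_, φ.apply_symm_apply y⟩
        have := hπφ (φ.symm y)
        rw [φ.apply_symm_apply, hy] at this
        exact e.injective (by rw [← this, map_zero]))
  have hS := kerSC_shortExact π hπ
  have hS' := kerSC_shortExact π' hπ'
  have hP : Projective (kerSC π).X₂ :=
    (IsProjective.iff_projective (R := R) (N →₀ R)).1 inferInstance
  have hP' : Projective (kerSC π').X₂ :=
    (IsProjective.iff_projective (R := R') (N →₀ R')).1 inferInstance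
  have hK : HasProjectiveDimensionLT (kerSC π).X₁ (m + 1) :=
    (hS.hasProjectiveDimensionLT_X₃_iff m hP).1 h
  have hK' : HasProjectiveDimensionLT (kerSC π').X₁ (m + 1) := ih ψ hK
  exact (hS'.hasProjectiveDimensionLT_X₃_iff m hP').2 hK'

end step

theorem hasPdLT_of_semilinearEquiv (m : ℕ) : ∀ {R R' : Type u} [CommRing R] [CommRing R']
    {σ : R →+* R'} {σ' : R' →+* R} [RingHomInvPair σ σ'] [RingHomInvPair σ' σ]
    {N N' : Type u} [AddCommGroup N] [Module R N] [AddCommGroup N'] [Module R' N']
    (_ : N ≃ₛₗ[σ] N'),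
    HasProjectiveDimensionLT (ModuleCat.of R N) m →
      HasProjectiveDimensionLT (ModuleCat.of R' N') m := by
  induction m with
  | zero => intro R R' _ _ σ σ' _ _ N N' _ _ _ _ e h; exact hasPdLT_zero e h
  | succ m ih =>
    intro R R' _ _ σ σ' _ _ N N' _ _ _ _ e h
    cases m with
    | zero => exact hasPdLT_one e h
    | succ m => exact hasPdLT_step m e (fun e' h' => ih e' h') h

theorem hasPdLT_iff_of_semilinearEquiv (m : ℕ) {R R' : Type u} [CommRing R] [CommRing R']
    {σ : R →+* R'} {σ' : R' →+* R} [RingHomInvPair σ σ'] [RingHomInvPair σ' σ]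
    {N N' : Type u} [AddCommGroup N] [Module R N] [AddCommGroup N'] [Module R' N']
    (e : N ≃ₛₗ[σ] N') :
    HasProjectiveDimensionLT (ModuleCat.of R N) m ↔
      HasProjectiveDimensionLT (ModuleCat.of R' N') m :=
  ⟨hasPdLT_of_semilinearEquiv m e, hasPdLT_of_semilinearEquiv m e.symm⟩

end Groth.Agent.Lib.Helper20.Biequi
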