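import Mathlib
import Groth.Agent.Lib.Helper20.Biequi2
import Groth.Agent.Lib.Helper26.PdOpen
import Groth.Agent.Lib.Helper3.AssPoints
import Groth.Agent.Lib.Helper3.QCProps
import Groth.Agent.Lib.Helper1.MaxAnnInt

/-!
# Openness of the locus where a coherent module has stalks of projective dimension `< m`
-/

set_option autoImplicit false
set_option maxHeartbeats 400000
universe u
open CategoryTheory AlgebraicGeometry

namespace Groth.Agent.Lib.Helper20.Biequi

section model

variable {A : Type u} [CommRing A] (S : Submonoid A)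
  {R₁ R₂ : Type u} [CommRing R₁] [CommRing R₂] [Algebra A R₁] [Algebra A R₂]
  [IsLocalization S R₁] [IsLocalization S R₂]
  {N₁ N₂ : Type u} [AddCommGroup N₁] [Module A N₁] [Module R₁ N₁] [IsScalarTower A R₁ N₁]
  [AddCommGroup N₂] [Module A N₂] [Module R₂ N₂] [IsScalarTower A R₂ N₂]

lemma map_smul_loc (ε : N₁ →ₗ[A] N₂) (r : R₁) (n : N₁) :
    ε (r • n) = (IsLocalization.algEquiv S R₁ R₂ r) • ε n := by
  obtain ⟨a, s, rfl⟩ := IsLocalization.exists_mk'_eq S r
  have hs : IsUnit (algebraMap A R₂ s) := IsLocalization.map_units R₂ s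
  have hinj : ∀ x y : N₂, (s : A) • x = (s : A) • y → x = y := by
    intro x y h
    rw [← algebraMap_smul R₂ (s : A) x, ← algebraMap_smul R₂ (s : A) y] at h
    exact hs.smul_left_cancel.1 h
  apply hinj
  rw [← map_smul, ← algebraMap_smul R₁ (s : A) (IsLocalization.mk' R₁ a s • n), smul_smul,
    IsLocalization.mk'_spec', algebraMap_smul, map_smul, IsLocalization.algEquiv_mk',
    ← algebraMap_smul R₂ (s : A) (IsLocalization.mk' R₂ a s • ε n), smul_smul,
    IsLocalization.mk'_spec', algebraMap_smul]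

variable {M : Type u} [AddCommGroup M] [Module A M]

theorem hasPdLT_model_iff (m : ℕ) (g₁ : M →ₗ[A] N₁) (g₂ : M →ₗ[A] N₂) [IsLocalizedModule S g₁]
    [IsLocalizedModule S g₂] :
    HasProjectiveDimensionLT (ModuleCat.of R₁ N₁) m ↔
      HasProjectiveDimensionLT (ModuleCat.of R₂ N₂) m := by
  letI i1 : RingHomInvPair ((IsLocalization.algEquiv S R₁ R₂).toRingEquiv : R₁ →+* R₂)
      ((IsLocalization.algEquiv S R₁ R₂).toRingEquiv.symm : R₂ →+* R₁) :=
    RingHomInvPair.of_ringEquiv _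
  letI i2 : RingHomInvPair ((IsLocalization.algEquiv S R₁ R₂).toRingEquiv.symm : R₂ →+* R₁)
      ((IsLocalization.algEquiv S R₁ R₂).toRingEquiv : R₁ →+* R₂) :=
    RingHomInvPair.of_ringEquiv_symm _
  let e : N₁ ≃ₛₗ[((IsLocalization.algEquiv S R₁ R₂).toRingEquiv : R₁ →+* R₂)] N₂ :=
    { toFun := IsLocalizedModule.linearEquiv S g₁ g₂
      invFun := (IsLocalizedModule.linearEquiv S g₁ g₂).symm
      map_add' := map_add _
      map_smul' := fun r n =>
        map_smul_loc S (IsLocalizedModule.linearEquiv S g₁ g₂).toLinearMap r n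
      left_inv := (IsLocalizedModule.linearEquiv S g₁ g₂).left_inv
      right_inv := (IsLocalizedModule.linearEquiv S g₁ g₂).right_inv }
  exact hasPdLT_iff_of_semilinearEquiv m e

end model

section scheme

variable {X : Scheme.{u}}

/-- the stalk at `x` has projective dimension `< m`. -/
def PdLT (F : X.Modules) (x : X) (m : ℕ) : Prop :=
  HasProjectiveDimensionLT (ModuleCat.of ↑(X.presheaf.stalk x) ↑(F.presheaf.stalk x)) m

theorem pdLT_iff_mem_pdLocus {U : X.Opens} (hU : IsAffineOpen U) (F : X.Modules)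
    [F.IsQuasicoherent] (x : X) (hx : x ∈ U) (m : ℕ) :
    PdLT F x (m + 1) ↔ hU.primeIdealOf ⟨x, hx⟩ ∈
      Groth.Agent.Lib.Helper26.PdOpen.pdLocus (ModuleCat.of Γ(X, U) Γ(F, U)) m := by
  obtain ⟨i1, i2, i3, i4, g, h1, h2, h3⟩ :=
    Groth.Agent.Lib.Helper3.QS.exists_isLocalizedModule hU F x hx
  set p := hU.primeIdealOf ⟨x, hx⟩ with hp
  haveI hloc := ModuleCat.localizedModule_isLocalizedModule (ModuleCat.of Γ(X, U) Γ(F, U))
    p.asIdeal.primeCompl
  show _ ↔ HasProjectiveDimensionLT (ModuleCat.of (Localization p.asIdeal.primeCompl)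
    ↑((ModuleCat.of Γ(X, U) Γ(F, U)).localizedModule p.asIdeal.primeCompl)) (m + 1)
  exact hasPdLT_model_iff p.asIdeal.primeCompl (m + 1) g
    ((ModuleCat.of Γ(X, U) Γ(F, U)).localizedModuleMkLinearMap p.asIdeal.primeCompl)

theorem isOpen_pdLT [IsLocallyNoetherian X] (F : X.Modules) (hF : Coh.IsCoh F) (m : ℕ) :
    IsOpen {x : X | PdLT F x m} := by
  haveI : F.IsQuasicoherent := hF.1
  haveI : F.IsFiniteType := hF.2
  cases m with
  | zero =>
    have : {x : X | PdLT F x 0} = (CohB1.support F)ᶜ := by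
      ext x
      simp only [Set.mem_setOf_eq, Set.mem_compl_iff, CohB1.support, not_not, PdLT]
      rw [hasProjectiveDimensionLT_zero_iff_isZero]
      constructor
      · intro h; exact ModuleCat.subsingleton_of_isZero h
      · intro h; exact ModuleCat.isZero_of_subsingleton _
    rw [this]
    exact (Groth.Agent.Lib.Helper1.MaxAnnInt.isClosed_support F).isOpen_compl
  | succ m =>
    rw [isOpen_iff_forall_mem_open]
    intro x hx
    obtain ⟨U, hU, hxU⟩ := Groth.Agent.Lib.Helper3.QCProps.exists_affine_nbhd x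
    haveI : IsNoetherianRing Γ(X, U) := IsLocallyNoetherian.component_noetherian ⟨U, hU⟩
    haveI : Module.Finite Γ(X, U) Γ(F, U) := Groth.Agent.Lib.Helper3.QCProps.finite_sections F hU
    have hopen : IsOpen (Groth.Agent.Lib.Helper26.PdOpen.pdLocus
        (ModuleCat.of Γ(X, U) Γ(F, U)) m) :=
      Groth.Agent.Lib.Helper26.PdOpen.isOpen_pdLocus m _
    have hcont : Continuous (fun y : U => hU.primeIdealOf y) := hU.isoSpec.hom.continuous
    have hV : IsOpen ((fun y : U => hU.primeIdealOf y) ⁻¹'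
        (Groth.Agent.Lib.Helper26.PdOpen.pdLocus (ModuleCat.of Γ(X, U) Γ(F, U)) m)) :=
      hopen.preimage hcont
    refine ⟨Subtype.val '' ((fun y : U => hU.primeIdealOf y) ⁻¹'
        (Groth.Agent.Lib.Helper26.PdOpen.pdLocus (ModuleCat.of Γ(X, U) Γ(F, U)) m)), ?_,
      U.isOpen.isOpenMap_subtype_val _ hV, ?_⟩
    · rintro _ ⟨⟨y, hy⟩, hyV, rfl⟩
      exact (pdLT_iff_mem_pdLocus hU F y hy m).2 hyV
    · exact ⟨⟨x, hxU⟩, (pdLT_iff_mem_pdLocus hU F x hxU m).1 hx, rfl⟩

end scheme

end Groth.Agent.Lib.Helper20.Biequi
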