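import Mathlib
import Groth.Agent.Lib.Helper12.ProductDim

set_option autoImplicit false
universe u

namespace Groth.Agent.Lib.Helper20.Biequi

open Groth.Agent.Lib.Helper12.ProductDim

lemma exists_nat_of_add_eq (a b : WithBot ℕ∞) (D : ℕ) (h : a + b = (D : WithBot ℕ∞)) :
    ∃ a₀ b₀ : ℕ, a = (a₀ : WithBot ℕ∞) ∧ b = (b₀ : WithBot ℕ∞) ∧ a₀ + b₀ = D := by
  rcases withBot_enat_cases a with rfl | rfl | ⟨a₀, rfl⟩
  · rw [WithBot.bot_add] at h
    exact absurd h (by simp)
  · rcases withBot_enat_cases b with rfl | rfl | ⟨b₀, rfl⟩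
    · rw [WithBot.add_bot] at h
      exact absurd h (by simp)
    · exfalso
      have h' : (((⊤ : ℕ∞) + (⊤ : ℕ∞) : ℕ∞) : WithBot ℕ∞) = ((D : ℕ∞) : WithBot ℕ∞) := by
        rw [WithBot.coe_add]; exact h
      have h'' := WithBot.coe_injective h'
      simp at h''
    · exfalso
      have h' : (((⊤ : ℕ∞) + (b₀ : ℕ∞) : ℕ∞) : WithBot ℕ∞) = ((D : ℕ∞) : WithBot ℕ∞) := by
        rw [WithBot.coe_add]; exact h
      have h'' := WithBot.coe_injective h'
      simp at h''
  · rcases withBot_enat_cases b with rfl | rfl | ⟨b₀, rfl⟩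
    · rw [WithBot.add_bot] at h
      exact absurd h (by simp)
    · exfalso
      have h' : (((a₀ : ℕ∞) + (⊤ : ℕ∞) : ℕ∞) : WithBot ℕ∞) = ((D : ℕ∞) : WithBot ℕ∞) := by
        rw [WithBot.coe_add]; exact h
      have h'' := WithBot.coe_injective h'
      simp at h''
    · refine ⟨a₀, b₀, rfl, rfl, ?_⟩
      exact_mod_cast h

end Groth.Agent.Lib.Helper20.Biequi
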