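import Mathlib

/-!
# Helper20: the generic point of an irreducible component of a closed subscheme gives a minimal prime
(E for helper1, S14335)
-/

set_option autoImplicit false
set_option linter.style.haveILetI false
universe u
open CategoryTheory CategoryTheory.Limits AlgebraicGeometry Opposite

namespace Groth.Agent.Lib.Helper20.CIDimE

lemma fromSpec_mem_support_iff {P : Scheme.{u}} (I : P.IdealSheafData) (V : P.affineOpens)
    (q : PrimeSpectrum Γ(P, V.1)) :
    V.2.fromSpec q ∈ I.support ↔ I.ideal V ≤ q.asIdeal := by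
  have hq : V.2.fromSpec q ∈ V.1 := by
    have : V.2.fromSpec q ∈ Set.range V.2.fromSpec := ⟨q, rfl⟩
    rw [V.2.range_fromSpec] at this
    exact this
  rw [Scheme.IdealSheafData.mem_support_iff_of_mem (U := V) hq]
  have h := V.2.fromSpec_preimage_zeroLocus (I.ideal V : Set Γ(P, V.1))
  have h2 : q ∈ V.2.fromSpec ⁻¹' P.zeroLocus (U := V.1) (I.ideal V : Set Γ(P, V.1)) ↔
      q ∈ PrimeSpectrum.zeroLocus (I.ideal V : Set Γ(P, V.1)) := Iff.of_eq (congrArg (q ∈ ·) h)
  exact h2.trans ((PrimeSpectrum.mem_zeroLocus q _).trans SetLike.coe_subset_coe)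

/-- (E) [Mathlib only] the generic point of an irreducible component of a closed subscheme gives, in
any affine chart of the ambient scheme, a minimal prime over the ideal. -/
theorem primeIdealOf_mem_minimalPrimes {P : Scheme.{u}} (I : P.IdealSheafData)
    (Z : Set ↥I.subscheme) (hZ : Z ∈ irreducibleComponents ↥I.subscheme) (η : ↥I.subscheme)
    (hη : IsGenericPoint η Z) (V : P.affineOpens) (hηV : I.subschemeι η ∈ V.1) :
    (V.2.primeIdealOf ⟨I.subschemeι η, hηV⟩).asIdeal ∈ (I.ideal V).minimalPrimes := by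
  set p := V.2.primeIdealOf ⟨I.subschemeι η, hηV⟩ with hp
  have hpη : V.2.fromSpec p = I.subschemeι η := V.2.fromSpec_primeIdealOf ⟨I.subschemeι η, hηV⟩
  have hple : I.ideal V ≤ p.asIdeal := by
    rw [← fromSpec_mem_support_iff, hpη]
    change I.subschemeι η ∈ (I.support : Set P)
    rw [← I.range_subschemeι]
    exact ⟨η, rfl⟩
  refine ⟨⟨p.isPrime, hple⟩, ?_⟩
  rintro q ⟨hq, hIq⟩ hqp
  let q' : PrimeSpectrum Γ(P, V.1) := ⟨q, hq⟩
  -- the point of `q` lies on the subscheme
  have hy : V.2.fromSpec q' ∈ (I.support : Set P) := (fromSpec_mem_support_iff I V q').2 hIq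
  rw [← I.range_subschemeι] at hy
  obtain ⟨y', hy'⟩ := hy
  -- specialisation
  have hspec : q' ⤳ p := (PrimeSpectrum.le_iff_specializes q' p).1 hqp
  have hspec2 : V.2.fromSpec q' ⤳ V.2.fromSpec p := hspec.map V.2.fromSpec.continuous
  rw [hpη, ← hy'] at hspec2
  have hspec3 : y' ⤳ η :=
    (I.subschemeι.isEmbedding.isInducing.specializes_iff).1 hspec2
  -- `η` is maximal for generisation
  have hirr : IsIrreducible (closure ({y'} : Set ↥I.subscheme)) := isIrreducible_singleton.closure
  have hZle : Z ≤ closure ({y'} : Set ↥I.subscheme) := by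
    rw [← hη.def]
    exact closure_minimal (Set.singleton_subset_iff.2 hspec3.mem_closure) isClosed_closure
  have hle : closure ({y'} : Set ↥I.subscheme) ≤ Z := hZ.2 hirr hZle
  have hy'Z : y' ∈ closure ({η} : Set ↥I.subscheme) := by
    rw [hη.def]
    exact hle (subset_closure rfl)
  have hspec4 : η ⤳ y' := specializes_iff_mem_closure.2 hy'Z
  have heq : y' = η := (hspec3.antisymm hspec4).eq
  have hqp' : q' = p := by
    apply V.2.fromSpec.isOpenEmbedding.injective
    rw [hpη, ← hy', heq]
  change p.asIdeal ≤ q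
  rw [← hqp']

end Groth.Agent.Lib.Helper20.CIDimE
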