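import Mathlib
import Groth.Agent.Lib.Helper4.LD7
import Groth.Agent.Lib.Helper4.CanonMod1
import Groth.Agent.Lib.Helper1.Matlis
import Groth.Agent.Lib.Helper4.ExtTop
import Groth.Agent.S7702

/-!
# Type of a canonical module and of a Cohen–Macaulay local ring (helper20)
-/

set_option autoImplicit false
set_option linter.unusedSectionVars false
set_option linter.unusedVariables false
set_option linter.style.haveILetI false
universe u

namespace Groth.Agent.Lib.Helper20.CanonType

open CategoryTheory Abelian IsLocalRing Groth.Agent.Lib.Helper4.LC Groth.Agent.Lib.Helper4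

section typeOne

variable {A : Type u} [CommRing A] [IsLocalRing A] [IsNoetherianRing A]
  {E : Type u} [AddCommGroup E] [Module A E] (f : ResidueField A →ₗ[A] E)
  (hf : InjHull.IsInjectiveHull f)

include hf in
/-- A module killed by the maximal ideal whose Matlis dual is simple is simple. -/
theorem isSimpleModule_of_dual (X : Type u) [AddCommGroup X] [Module A X]
    (hkill : ∀ a ∈ maximalIdeal A, ∀ x : X, a • x = 0)
    (hs : IsSimpleModule A (X →ₗ[A] E)) : IsSimpleModule A X := by
  haveI hinjE := hf.isInjective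
  haveI : Nontrivial X := by
    by_contra hnt
    rw [not_nontrivial_iff_subsingleton] at hnt
    haveI : Subsingleton (X →ₗ[A] E) := (CanonMod.subsingleton_dual_iff f hf X).2 hnt
    haveI := IsSimpleModule.nontrivial A (X →ₗ[A] E)
    exact not_subsingleton (X →ₗ[A] E) inferInstance
  obtain ⟨x, hx⟩ := exists_ne (0 : X)
  let P : Submodule A X := Submodule.span A {x}
  let res : (X →ₗ[A] E) →ₗ[A] (P →ₗ[A] E) := LinearMap.lcomp A E P.subtype
  have hres_surj : Function.Surjective res := by
    intro φ
    obtain ⟨ψ, hψ⟩ := hinjE.out P.subtype P.injective_subtype φ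
    exact ⟨ψ, LinearMap.ext hψ⟩
  have hPnt : Nontrivial P := ⟨⟨⟨x, Submodule.mem_span_singleton_self x⟩, 0, fun h => hx (congrArg Subtype.val h)⟩⟩
  have hPdual : Nontrivial (P →ₗ[A] E) := by
    by_contra hnt
    rw [not_nontrivial_iff_subsingleton] at hnt
    have := (CanonMod.subsingleton_dual_iff f hf P).1 hnt
    exact not_subsingleton P this
  have hker : LinearMap.ker res = ⊥ := by
    rcases eq_bot_or_eq_top (LinearMap.ker res) with h | h
    · exact h
    · exfalso
      obtain ⟨φ, hφ⟩ := exists_ne (0 : P →ₗ[A] E)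
      obtain ⟨ψ, rfl⟩ := hres_surj φ
      apply hφ
      have : ψ ∈ LinearMap.ker res := by rw [h]; trivial
      exact this
  have hq : Subsingleton ((X ⧸ P) →ₗ[A] E) := by
    refine ⟨fun φ ψ => ?_⟩
    have key : ∀ χ : (X ⧸ P) →ₗ[A] E, χ = 0 := by
      intro χ
      have h1 : χ ∘ₗ P.mkQ ∈ LinearMap.ker res := by
        rw [LinearMap.mem_ker]
        apply LinearMap.ext
        intro p
        show χ (P.mkQ (P.subtype p)) = 0
        have h0 : P.mkQ (P.subtype p) = 0 := by
          rw [Submodule.mkQ_apply, Submodule.subtype_apply]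
          exact (Submodule.Quotient.mk_eq_zero P).2 p.2
        rw [h0, map_zero]
      rw [hker, Submodule.mem_bot] at h1
      apply LinearMap.ext
      intro y
      obtain ⟨y', rfl⟩ := P.mkQ_surjective y
      exact LinearMap.congr_fun h1 y'
    rw [key φ, key ψ]
  have hXP : Subsingleton (X ⧸ P) := (CanonMod.subsingleton_dual_iff f hf _).1 hq
  have hP : P = ⊤ := Submodule.Quotient.subsingleton_iff.mp hXP
  -- `X = A x` with `𝔪 x = 0`
  have hsurj : Function.Surjective (LinearMap.toSpanSingleton A X x) := by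
    rw [← LinearMap.range_eq_top, ← LinearMap.span_singleton_eq_range]
    exact hP
  have hkerx : LinearMap.ker (LinearMap.toSpanSingleton A X x) = maximalIdeal A := by
    symm
    apply (maximalIdeal.isMaximal A).eq_of_le
    · intro htop
      have h1 : (1 : A) ∈ LinearMap.ker (LinearMap.toSpanSingleton A X x) := by rw [htop]; trivial
      rw [LinearMap.mem_ker, LinearMap.toSpanSingleton_apply, one_smul] at h1
      exact hx h1
    · intro a ha
      rw [LinearMap.mem_ker, LinearMap.toSpanSingleton_apply]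
      exact hkill a ha x
  rw [isSimpleModule_iff_quot_maximal]
  refine ⟨maximalIdeal A, maximalIdeal.isMaximal A, ⟨?_⟩⟩
  exact ((LinearMap.quotKerEquivOfSurjective _ hsurj).symm).trans
    (Submodule.quotEquivOfEq _ _ hkerx)

end typeOne

section canon

variable {A : Type u} [CommRing A] [hA : LocCoh.IsCohenMacaulayLocalRing A] (n : ℕ)
  (hn : ringKrullDim A = n)
  {E : Type u} [AddCommGroup E] [Module A E] (f : ResidueField A →ₗ[A] E)
  (hf : InjHull.IsInjectiveHull f)
  (K : Type u) [AddCommGroup K] [Module A K] [Module.Finite A K]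
  (eK : (K →ₗ[A] E) ≃ₗ[A] LocCoh.H (maximalIdeal A) n A)

theorem smul_residue_eq_zero {a : A} (ha : a ∈ maximalIdeal A) (c : ResidueField A) :
    a • c = 0 := by
  obtain ⟨b, rfl⟩ := residue_surjective c
  rw [Algebra.smul_def, ResidueField.algebraMap_eq, ← map_mul, residue_eq_zero_iff]
  exact Ideal.mul_mem_right _ _ ha

include hn hf eK in
/-- The type of a canonical module is one. -/
theorem length_ext_residue_canon :
    Module.length A (Ext.{u} (ModuleCat.of A (ResidueField A)) (ModuleCat.of A K) n) = 1 := by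
  haveI := hf.isInjective
  have hcm := LocCoh.IsCohenMacaulayLocalRing.supportDim_eq_depth (R := A)
  have hdepth : ∀ j, j < n → Subsingleton (HH (maximalIdeal A) (ModuleCat.of A A) j) :=
    fun j hj => HH_self_subsingleton_of_cm hcm n hn j hj
  obtain ⟨e⟩ := nonempty_duality n hn hdepth E K
    (eK.trans (lcEquiv (maximalIdeal A) (ModuleCat.of A A) n)) n 0 (zero_add n) (ResidueField A)
  -- `HH 𝔪 k 0` is simple
  have htop : DRing.torsionSub (maximalIdeal A) (ResidueField A) = ⊤ := by
    rw [eq_top_iff]
    intro c _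
    refine ⟨1, fun a ha => ?_⟩
    rw [pow_one] at ha
    exact smul_residue_eq_zero ha c
  haveI := Groth.Agent.Lib.Helper1.Matlis.isSimpleModule_residueField (R := A)
  have hs0 : IsSimpleModule A (HH (maximalIdeal A) (ModuleCat.of A (ResidueField A)) 0) :=
    IsSimpleModule.congr ((HH0Equiv (maximalIdeal A) (ModuleCat.of A (ResidueField A))).trans
      ((LinearEquiv.ofEq _ _ htop).trans Submodule.topEquiv))
  have hs1 : IsSimpleModule A
      (Ext.{u} (ModuleCat.of A (ResidueField A)) (ModuleCat.of A K) n →ₗ[A] E) :=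
    IsSimpleModule.congr e.symm
  have hkill : ∀ a ∈ maximalIdeal A,
      ∀ x : Ext.{u} (ModuleCat.of A (ResidueField A)) (ModuleCat.of A K) n, a • x = 0 := by
    intro a ha x
    apply ext_smul_eq_zero_of_mem_annihilator_left
    rw [Module.mem_annihilator]
    intro c
    exact smul_residue_eq_zero ha c
  haveI := isSimpleModule_of_dual f hf _ hkill hs1
  exact Module.length_eq_one A _

/-- A finitely generated module killed by the maximal ideal has finite length. -/
theorem isFiniteLength_of_killed (W : Type u) [AddCommGroup W] [Module A W] [Module.Finite A W]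
    (hW : ∀ a ∈ maximalIdeal A, ∀ x : W, a • x = 0) : IsFiniteLength A W := by
  obtain ⟨b, β, hβ⟩ := ExtTop.exists_surj (maximalIdeal A) hW
  refine IsFiniteLength.of_surjective ?_ hβ
  rw [← Module.length_ne_top_iff, Module.length_pi_of_fintype]
  haveI : IsSimpleModule A (A ⧸ maximalIdeal A) :=
    isSimpleModule_iff_isCoatom.2 (Ideal.isMaximal_def.1 inferInstance)
  simp only [Module.length_eq_one, Finset.sum_const, Finset.card_univ, Fintype.card_fin,
    nsmul_eq_mul, mul_one]
  exact ENat.coe_ne_top b

/-- `Hom(A ⧸ 𝔪, Y) ≃ Hom(A ⧸ 𝔪, Γ_𝔪 Y)`. -/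
noncomputable def homTorsionEquiv (Y : Type u) [AddCommGroup Y] [Module A Y] :
    ((A ⧸ maximalIdeal A) →ₗ[A] DRing.torsionSub (maximalIdeal A) Y) ≃ₗ[A]
      ((A ⧸ maximalIdeal A) →ₗ[A] Y) :=
  LinearEquiv.ofBijective
    (LinearMap.compRight A (DRing.torsionSub (maximalIdeal A) Y).subtype) (by
      constructor
      · intro φ ψ h
        apply LinearMap.ext
        intro c
        apply Subtype.ext
        exact LinearMap.congr_fun h c
      · intro φ
        refine ⟨LinearMap.codRestrict _ φ (fun c => ⟨1, fun a ha => ?_⟩), ?_⟩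
        · rw [pow_one] at ha
          rw [← map_smul]
          have : a • c = 0 := by
            obtain ⟨c', rfl⟩ := Ideal.Quotient.mk_surjective c
            have h1 : a • Ideal.Quotient.mk (maximalIdeal A) c' =
                Ideal.Quotient.mk (maximalIdeal A) (a * c') := rfl
            rw [h1, Ideal.Quotient.eq_zero_iff_mem]
            exact Ideal.mul_mem_right _ _ ha
          rw [this, map_zero]
        · apply LinearMap.ext
          intro c
          rfl)

include hn hf eK in
/-- The type of a Cohen–Macaulay local ring is the minimal number of generators of its canonical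
module. -/
theorem length_ext_residue_self :
    Module.length A (Ext.{u} (ModuleCat.of A (ResidueField A)) (ModuleCat.of A A) n) =
      Module.length A (K ⧸ (maximalIdeal A • (⊤ : Submodule A K))) := by
  haveI := hf.isInjective
  have hcm := LocCoh.IsCohenMacaulayLocalRing.supportDim_eq_depth (R := A)
  have hdepth : LocCoh.depth A A = n := by
    rw [Module.supportDim_self_eq_ringKrullDim, hn] at hcm
    exact_mod_cast hcm.symm
  have hIM : maximalIdeal A • (⊤ : Submodule A A) ≠ ⊤ := by
    intro h
    have h1 : (1 : A) ∈ maximalIdeal A • (⊤ : Submodule A A) := by rw [h]; trivial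
    have h2 : maximalIdeal A • (⊤ : Submodule A A) ≤ maximalIdeal A := by
      rw [Submodule.smul_le]
      intro r hr x _
      exact Ideal.mul_mem_right _ _ hr
    exact (Ideal.ne_top_iff_one _).1 (maximalIdeal.isMaximal A).ne_top (h2 h1)
  obtain ⟨rs, hlen, hmem, hreg⟩ := (le_idealDepth_iff_exists_isRegular (maximalIdeal A) hIM n).1
    (by change (n : ℕ∞) ≤ LocCoh.depth A A; rw [hdepth])
  obtain ⟨-, h7702⟩ := Groth.Agent.S7702.result A n hn E f hf K eK rs hmem
  obtain ⟨eS⟩ := h7702 hreg
  rw [hlen, Nat.sub_self] at eS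
  obtain ⟨eC⟩ := nonempty_ext_residue_chain rs A hmem hreg
  rw [hlen] at eC
  set I : Ideal A := Ideal.ofList rs with hI
  have hIle : I ≤ maximalIdeal A := by
    rw [hI, Ideal.ofList, Ideal.span_le]
    intro r hr
    exact hmem r hr
  have hItop : I • (⊤ : Submodule A A) = I := by
    apply le_antisymm
    · rw [Submodule.smul_le]
      intro r hr x _
      exact Ideal.mul_mem_right _ _ hr
    · intro r hr
      have := Submodule.smul_mem_smul hr (Submodule.mem_top (x := (1 : A)))
      have h1x : r • (1 : A) = r := by rw [smul_eq_mul, mul_one]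
      rw [h1x] at this
      exact this
  -- step 1: `Ext^n(k, A) ≃ Hom(A ⧸ 𝔪, A ⧸ I)`
  have e1 : Ext.{u} (ModuleCat.of A (ResidueField A)) (ModuleCat.of A A) n ≃ₗ[A]
      ((A ⧸ maximalIdeal A) →ₗ[A] (A ⧸ I)) :=
    ((extCongrLeft (Groth.Agent.Lib.Helper1.Matlis.quotEquivResidueField (R := A)).toModuleIso
      (ModuleCat.of A A) n).trans eC.symm).trans
      ((extCongrRight _ (Submodule.quotEquivOfEq _ _ hItop).toModuleIso 0).trans
        (extZeroEquiv (A ⧸ maximalIdeal A) (A ⧸ I)))
  -- step 2: `Hom(A ⧸ 𝔪, A ⧸ I) ≃ Hom(A ⧸ 𝔪, Hom(K ⧸ I K, E))`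
  have e2 : ((A ⧸ maximalIdeal A) →ₗ[A] (A ⧸ I)) ≃ₗ[A]
      ((A ⧸ maximalIdeal A) →ₗ[A] ((K ⧸ I • (⊤ : Submodule A K)) →ₗ[A] E)) :=
    (homTorsionEquiv (A ⧸ I)).symm.trans (LinearEquiv.congrRight
      (((HH0Equiv (maximalIdeal A) (ModuleCat.of A (A ⧸ I))).symm.trans
        (lcEquiv (maximalIdeal A) (ModuleCat.of A (A ⧸ I)) 0).symm).trans eS.symm))
  -- step 3: tensor–hom and quotients
  have hmap : (maximalIdeal A • (⊤ : Submodule A K)).map (I • (⊤ : Submodule A K)).mkQ =
      maximalIdeal A • (⊤ : Submodule A (K ⧸ I • (⊤ : Submodule A K))) := by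
    rw [Submodule.map_smul'', Submodule.map_top, Submodule.range_mkQ]
  have hle : I • (⊤ : Submodule A K) ≤ maximalIdeal A • (⊤ : Submodule A K) :=
    Submodule.smul_mono hIle le_rfl
  have e3 : ((A ⧸ maximalIdeal A) →ₗ[A] ((K ⧸ I • (⊤ : Submodule A K)) →ₗ[A] E)) ≃ₗ[A]
      ((K ⧸ maximalIdeal A • (⊤ : Submodule A K)) →ₗ[A] E) :=
    (TensorProduct.lift.equiv (.id A) (A ⧸ maximalIdeal A) (K ⧸ I • (⊤ : Submodule A K)) E).trans
      (LinearEquiv.congrLeft E A
        (((TensorProduct.quotTensorEquivQuotSMul (K ⧸ I • (⊤ : Submodule A K))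
          (maximalIdeal A)).trans (Submodule.quotEquivOfEq _ _ hmap.symm)).trans
          (Submodule.quotientQuotientEquivQuotient _ _ hle)))
  rw [((e1.trans e2).trans e3).length_eq]
  apply Groth.Agent.Lib.Helper1.Matlis.length_hom_eq_of_isFiniteLength f hf
  apply isFiniteLength_of_killed
  intro a ha x
  obtain ⟨x', rfl⟩ := Submodule.Quotient.mk_surjective _ x
  rw [← Submodule.Quotient.mk_smul, Submodule.Quotient.mk_eq_zero]
  exact Submodule.smul_mem_smul ha Submodule.mem_top

end canon

end Groth.Agent.Lib.Helper20.CanonType
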