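import Mathlib

/-!
# Units of a finite ring along a surjection with nil kernel (helper20, for helper11 / S18788)
-/

set_option autoImplicit false
set_option linter.style.haveILetI false

namespace Groth.Agent.Lib.Helper20.CardUnitsNil

/-- A ring surjection with nil kernel reflects units (noncommutative rings). -/
theorem isUnit_of_isUnit_map {R S : Type*} [Ring R] [Ring S] (π : R →+* S)
    (hπ : Function.Surjective π) (hker : ∀ x, π x = 0 → IsNilpotent x) (r : R)
    (hr : IsUnit (π r)) : IsUnit r := by
  obtain ⟨v, hv⟩ := hr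
  obtain ⟨r', hr'⟩ := hπ (↑v⁻¹ : S)
  have h1 : IsUnit (r * r') := by
    have : π (r * r' - 1) = 0 := by
      rw [map_sub, map_mul, hr', ← hv, map_one]; simp
    have hn := (hker _ this).isUnit_add_one
    simpa using hn
  have h2 : IsUnit (r' * r) := by
    have : π (r' * r - 1) = 0 := by
      rw [map_sub, map_mul, hr', ← hv, map_one]; simp
    have hn := (hker _ this).isUnit_add_one
    simpa using hn
  rw [isUnit_iff_exists_and_exists]
  obtain ⟨u1, hu1⟩ := h1
  obtain ⟨u2, hu2⟩ := h2
  refine ⟨⟨r' * ↑u1⁻¹, ?_⟩, ⟨↑u2⁻¹ * r', ?_⟩⟩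
  · rw [← mul_assoc, ← hu1]; simp
  · rw [mul_assoc, ← hu2]; simp

/-- (L1) -/
theorem card_units_of_nilpotent_ker {R S : Type*} [Ring R] [Ring S] [Finite R] (π : R →+* S)
    (hπ : Function.Surjective π) (hker : ∀ x, π x = 0 → IsNilpotent x) :
    Nat.card Rˣ = Nat.card (RingHom.ker π) * Nat.card Sˣ := by
  classical
  let f : Rˣ →* Sˣ := Units.map (π : R →* S)
  have hsurj : Function.Surjective f := by
    intro v
    obtain ⟨r, hr⟩ := hπ (v : S)
    have hru : IsUnit r := isUnit_of_isUnit_map π hπ hker r (by rw [hr]; exact v.isUnit)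
    refine ⟨hru.unit, ?_⟩
    ext
    simp [f, hr]
  let e : f.ker ≃ RingHom.ker π :=
    { toFun := fun u => ⟨(u.1 : R) - 1, by
        have hu : f u.1 = 1 := u.2
        have : π (u.1 : R) = 1 := by
          have := congrArg Units.val hu
          simpa [f] using this
        rw [RingHom.mem_ker, map_sub, this, map_one, sub_self]⟩
      invFun := fun n => ⟨((hker n.1 (RingHom.mem_ker.mp n.2)).isUnit_one_add).unit, by
        rw [MonoidHom.mem_ker]
        ext
        simp [f, RingHom.mem_ker.mp n.2]⟩
      left_inv := fun u => by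
        ext
        simp
      right_inv := fun n => by
        ext
        simp }
  rw [← Nat.card_congr e, ← f.ker.card_mul_index, Subgroup.index_ker,
    MonoidHom.range_eq_top.mpr hsurj, Subgroup.card_top]

end Groth.Agent.Lib.Helper20.CardUnitsNil
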