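import Mathlib

/-!
# Artin–Rees: high powers of an ideal meet the power-torsion trivially (helper20)
-/

set_option autoImplicit false
set_option maxHeartbeats 400000

namespace Groth.Agent.Lib.Helper20.CdOne1

universe u v

variable {R : Type u} [CommRing R] {P : Type v} [AddCommGroup P] [Module R P]

/-- the `J`-power torsion submodule. -/
def powTorsion (J : Ideal R) : Submodule R P where
  carrier := {z | ∃ t : ℕ, ∀ q ∈ J ^ t, q • z = 0}
  add_mem' := by
    rintro a b ⟨t, ht⟩ ⟨s, hs⟩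
    refine ⟨t + s, fun q hq => ?_⟩
    rw [smul_add, ht q (Ideal.pow_le_pow_right (Nat.le_add_right t s) hq),
      hs q (Ideal.pow_le_pow_right (Nat.le_add_left s t) hq), add_zero]
  zero_mem' := ⟨0, fun q _ => smul_zero q⟩
  smul_mem' := by
    rintro c a ⟨t, ht⟩
    exact ⟨t, fun q hq => by rw [smul_comm, ht q hq, smul_zero]⟩

lemma mem_powTorsion (J : Ideal R) (z : P) :
    z ∈ powTorsion (P := P) J ↔ ∃ t : ℕ, ∀ q ∈ J ^ t, q • z = 0 := Iff.rfl

lemma exists_pow_smul_powTorsion_eq_bot [IsNoetherianRing R] [Module.Finite R P] (J : Ideal R) :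
    ∃ t : ℕ, J ^ t • (powTorsion (P := P) J) = ⊥ := by
  have hfg : (powTorsion (P := P) J).FG := IsNoetherian.noetherian _
  obtain ⟨s, hs⟩ := hfg
  choose! τ hτ using fun z (hz : z ∈ powTorsion (P := P) J) => hz
  refine ⟨s.sup τ, ?_⟩
  rw [eq_bot_iff, Submodule.smul_le]
  intro q hq z hz
  rw [Submodule.mem_bot]
  rw [← hs] at hz
  induction hz using Submodule.span_induction with
  | mem z hz =>
    have hz' : z ∈ powTorsion (P := P) J := hs ▸ Submodule.subset_span hz
    exact hτ z hz' q (Ideal.pow_le_pow_right (Finset.le_sup hz) hq)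
  | zero => exact smul_zero q
  | add a b _ _ ha hb => rw [smul_add, ha, hb, add_zero]
  | smul c a _ ha => rw [smul_comm, ha, smul_zero]

/-- **Artin–Rees consequence.** -/
theorem exists_pow_inf_powTorsion_eq_bot [IsNoetherianRing R] [Module.Finite R P] (J : Ideal R) :
    ∃ c₀ : ℕ, ∀ z : P, z ∈ J ^ c₀ • (⊤ : Submodule R P) → (∃ t : ℕ, ∀ q ∈ J ^ t, q • z = 0) →
      z = 0 := by
  obtain ⟨t, ht⟩ := exists_pow_smul_powTorsion_eq_bot (P := P) J
  obtain ⟨k, hk⟩ := Ideal.exists_pow_inf_eq_pow_smul J (powTorsion (P := P) J)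
  refine ⟨k + t, fun z hz htors => ?_⟩
  have h1 : z ∈ J ^ (k + t) • (⊤ : Submodule R P) ⊓ powTorsion (P := P) J := ⟨hz, htors⟩
  rw [hk (k + t) (Nat.le_add_right k t), Nat.add_sub_cancel_left] at h1
  have h2 : J ^ t • (J ^ k • (⊤ : Submodule R P) ⊓ powTorsion (P := P) J) ≤
      J ^ t • powTorsion (P := P) J := Submodule.smul_mono le_rfl inf_le_right
  have h3 := h2 h1
  rw [ht] at h3
  exact (Submodule.mem_bot R).1 h3

end Groth.Agent.Lib.Helper20.CdOne1
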