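import Groth.Agent.Lib.Helper20.CdOne1

/-!
# The graded module map `⊕ I^{nc'} N → N[T]` attached to a "partition of the identity"
`x = Σ f_j φ_j(x)` on `I^c` (helper20)
-/

set_option autoImplicit false
set_option maxHeartbeats 400000

namespace Groth.Agent.Lib.Helper20.CdOne2

universe u
open scoped BigOperators TensorProduct
open Groth.Agent.Lib.Helper20.CdOne1

variable {A : Type u} [CommRing A] {r : ℕ} (f : Fin r → A) (I : Ideal A) (c : ℕ)
  (φ : Fin r → (↥(I ^ c) →ₗ[A] A))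

/-- the conditions on the graded algebra map used in the argument. -/
structure GrMap (c' : ℕ) (Φ : ℕ → A → MvPolynomial (Fin r) A) : Prop where
  add : ∀ n : ℕ, ∀ g ∈ I ^ (n * c'), ∀ h ∈ I ^ (n * c'), Φ n (g + h) = Φ n g + Φ n h
  smul : ∀ (n : ℕ) (a : A), ∀ g ∈ I ^ (n * c'), Φ n (a * g) = a • Φ n g
  mul : ∀ n m : ℕ, ∀ g ∈ I ^ (n * c'), ∀ h ∈ I ^ (m * c'), Φ (n + m) (g * h) = Φ n g * Φ m h
  zero : ∀ a : A, Φ 0 a = MvPolynomial.C a

section phi

variable {I c}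

lemma phi_mem (c' : ℕ) (hcc' : c ≤ c') (j : Fin r) (g : A) (hg : g ∈ I ^ c') :
    φ j ⟨g, Ideal.pow_le_pow_right hcc' hg⟩ ∈ I ^ (c' - c) := by
  have hpow : I ^ c' = I ^ (c' - c) * I ^ c := by
    rw [← pow_add, Nat.sub_add_cancel hcc']
  have key : ∀ (g : A) (hg : g ∈ I ^ (c' - c) * I ^ c) (h' : g ∈ I ^ c),
      φ j ⟨g, h'⟩ ∈ I ^ (c' - c) := by
    intro g hg
    induction hg using Submodule.mul_induction_on' with
    | mem_mul_mem a ha b hb =>
      intro h'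
      have e : (⟨a * b, h'⟩ : ↥(I ^ c)) = a • (⟨b, hb⟩ : ↥(I ^ c)) := by
        apply Subtype.ext
        rw [Submodule.coe_smul, smul_eq_mul]
      rw [e, map_smul]
      exact Ideal.mul_mem_right _ _ ha
    | add x hx y hy ihx ihy =>
      intro h'
      have hx' : x ∈ I ^ c := Ideal.mul_le_right hx
      have hy' : y ∈ I ^ c := Ideal.mul_le_right hy
      have e : (⟨x + y, h'⟩ : ↥(I ^ c)) = (⟨x, hx'⟩ : ↥(I ^ c)) + ⟨y, hy'⟩ := by
        apply Subtype.ext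
        rw [Submodule.coe_add]
      rw [e, map_add]
      exact Ideal.add_mem _ (ihx hx') (ihy hy')
  exact key g (hpow.le hg) _

variable {f φ}
variable {c' : ℕ} (hcc' : c ≤ c') {Φ : ℕ → A → MvPolynomial (Fin r) A} (hΦ : GrMap I c' Φ)
  (hΦ1 : ∀ (g : A) (hg : g ∈ I ^ c'), Φ 1 g =
    ∑ j, MvPolynomial.C (φ j ⟨g, Ideal.pow_le_pow_right hcc' hg⟩) * MvPolynomial.X j)

include hΦ1 in
lemma Phi1_mem (g : A) (hg : g ∈ I ^ c') :
    Φ 1 g ∈ Ideal.map (MvPolynomial.C : A →+* MvPolynomial (Fin r) A) (I ^ (c' - c)) := by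
  rw [hΦ1 g hg]
  refine Ideal.sum_mem _ fun j _ => Ideal.mul_mem_right _ _ ?_
  exact Ideal.mem_map_of_mem _ (phi_mem φ c' hcc' j g hg)

include hΦ hΦ1 in
lemma Phi_mem (n : ℕ) (g : A) (hg : g ∈ I ^ ((n + 1) * c')) :
    Φ (n + 1) g ∈ Ideal.map (MvPolynomial.C : A →+* MvPolynomial (Fin r) A) (I ^ (c' - c)) := by
  have hpow : I ^ ((n + 1) * c') = I ^ (n * c') * I ^ c' := by
    rw [← pow_add, Nat.succ_mul]
  rw [hpow] at hg
  induction hg using Submodule.mul_induction_on' with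
  | mem_mul_mem a ha b hb =>
    rw [hΦ.mul n 1 a ha b (by rwa [one_mul])]
    exact Ideal.mul_mem_left _ _ (Phi1_mem hcc' hΦ1 b hb)
  | add x hx y hy ihx ihy =>
    rw [hΦ.add (n + 1) x (hpow.ge hx) y (hpow.ge hy)]
    exact Ideal.add_mem _ ihx ihy

include hΦ hΦ1 in
lemma eval_Phi (hφ : ∀ x : ↥(I ^ c), (x : A) = ∑ j, f j * φ j x) (n : ℕ) :
    ∀ g ∈ I ^ (n * c'), MvPolynomial.eval f (Φ n g) = g := by
  induction n with
  | zero =>
    intro g _
    rw [hΦ.zero, MvPolynomial.eval_C]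
  | succ n ih =>
    intro g hg
    have hpow : I ^ ((n + 1) * c') = I ^ (n * c') * I ^ c' := by
      rw [← pow_add, Nat.succ_mul]
    rw [hpow] at hg
    induction hg using Submodule.mul_induction_on' with
    | mem_mul_mem a ha b hb =>
      rw [hΦ.mul n 1 a ha b (by rwa [one_mul]), map_mul, ih a ha, hΦ1 b hb, map_sum]
      congr 1
      refine Eq.trans ?_ (hφ ⟨b, Ideal.pow_le_pow_right hcc' hb⟩).symm
      refine Finset.sum_congr rfl fun j _ => ?_
      rw [map_mul, MvPolynomial.eval_C, MvPolynomial.eval_X, mul_comm]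
    | add x hx y hy ihx ihy =>
      rw [hΦ.add (n + 1) x (hpow.ge hx) y (hpow.ge hy), map_add, ihx, ihy]

end phi

end Groth.Agent.Lib.Helper20.CdOne2
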