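import Groth.Agent.Lib.Helper20.CdOne2

/-!
# Construction of the maps `Ψ_n : I^{nc'} N → N[T]` (helper20)
-/

set_option autoImplicit false
set_option maxHeartbeats 400000

namespace Groth.Agent.Lib.Helper20.CdOne3

universe u
open scoped BigOperators TensorProduct
open Groth.Agent.Lib.Helper20.CdOne1 Groth.Agent.Lib.Helper20.CdOne2

variable {A : Type u} [CommRing A] {r : ℕ} (I : Ideal A)
  {B : Type u} [CommRing B] [Algebra A B] (N : Type u) [AddCommGroup N] [Module B N]

/-- the ideal `I B[T]`. -/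
noncomputable def JJ (r : ℕ) (B : Type u) [CommRing B] [Algebra A B] :
    Ideal (MvPolynomial (Fin r) B) :=
  Ideal.map (algebraMap A (MvPolynomial (Fin r) B)) I

lemma map_mem_JJ_pow (t : ℕ) (p : MvPolynomial (Fin r) A)
    (hp : p ∈ Ideal.map (MvPolynomial.C : A →+* MvPolynomial (Fin r) A) (I ^ t)) :
    MvPolynomial.map (algebraMap A B) p ∈ JJ I r B ^ t := by
  have h1 := Ideal.mem_map_of_mem (MvPolynomial.map (algebraMap A B) :
    MvPolynomial (Fin r) A →+* MvPolynomial (Fin r) B) hp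
  rw [Ideal.map_map] at h1
  have h2 : (MvPolynomial.map (algebraMap A B) : MvPolynomial (Fin r) A →+* MvPolynomial (Fin r) B).comp
      MvPolynomial.C = algebraMap A (MvPolynomial (Fin r) B) := by
    ext a
    rw [RingHom.comp_apply, MvPolynomial.map_C, MvPolynomial.algebraMap_apply]
  rw [h2, Ideal.map_pow] at h1
  exact h1

variable (c' : ℕ) (Φ : ℕ → A → MvPolynomial (Fin r) A) (n : ℕ)

/-- the presentation map onto `I^{nc'} N`. -/
noncomputable def mu : ((↥(I ^ (n * c')) × N) →₀ B) →ₗ[B] N :=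
  Finsupp.linearCombination B (fun p : ↥(I ^ (n * c')) × N => algebraMap A B p.1.1 • p.2)

/-- the map to `N[T]` on the presentation. -/
noncomputable def theta : ((↥(I ^ (n * c')) × N) →₀ B) →ₗ[B] (MvPolynomial (Fin r) B ⊗[B] N) :=
  Finsupp.linearCombination B (fun p : ↥(I ^ (n * c')) × N =>
    MvPolynomial.map (algebraMap A B) (Φ n p.1.1) ⊗ₜ[B] p.2)

lemma mu_single (p : ↥(I ^ (n * c')) × N) (b : B) :
    mu I N c' n (Finsupp.single p b) = b • (algebraMap A B p.1.1 • p.2) := by
  unfold mu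
  rw [Finsupp.linearCombination_single]

lemma theta_single (p : ↥(I ^ (n * c')) × N) (b : B) :
    theta I N c' Φ n (Finsupp.single p b) =
      b • (MvPolynomial.map (algebraMap A B) (Φ n p.1.1) ⊗ₜ[B] p.2) := by
  unfold theta
  rw [Finsupp.linearCombination_single]

variable {c' Φ}

/-- the key symmetry. -/
lemma smul_theta (hΦ : GrMap I c' Φ) (h : A) (hh : h ∈ I ^ (n * c'))
    (z : (↥(I ^ (n * c')) × N) →₀ B) :
    algebraMap A B h • theta I N c' Φ n z =
      MvPolynomial.map (algebraMap A B) (Φ n h) ⊗ₜ[B] mu I N c' n z := by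
  induction z using Finsupp.induction_linear with
  | zero => simp
  | add x y hx hy => rw [map_add, map_add, smul_add, hx, hy, TensorProduct.tmul_add]
  | single p b =>
    rw [theta_single, mu_single, smul_comm, TensorProduct.tmul_smul]
    congr 1
    rw [TensorProduct.smul_tmul', ← TensorProduct.smul_tmul]
    congr 1
    have e1 : algebraMap A B h • MvPolynomial.map (algebraMap A B) (Φ n p.1.1) =
        MvPolynomial.map (algebraMap A B) (h • Φ n p.1.1) := by
      rw [MvPolynomial.smul_eq_C_mul, MvPolynomial.smul_eq_C_mul, map_mul, MvPolynomial.map_C]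
    have e2 : algebraMap A B p.1.1 • MvPolynomial.map (algebraMap A B) (Φ n h) =
        MvPolynomial.map (algebraMap A B) ((p.1.1 : A) • Φ n h) := by
      rw [MvPolynomial.smul_eq_C_mul, MvPolynomial.smul_eq_C_mul, map_mul, MvPolynomial.map_C]
    rw [e1, e2, ← hΦ.smul n h p.1.1 p.1.2, ← hΦ.smul n p.1.1 h hh, mul_comm]


/-- `theta` takes values in `J^t N[T]` as soon as `Φ_n` has coefficients in `I^t`. -/
lemma theta_mem (t : ℕ)
    (hmem : ∀ g ∈ I ^ (n * c'), Φ n g ∈
      Ideal.map (MvPolynomial.C : A →+* MvPolynomial (Fin r) A) (I ^ t))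
    (z : (↥(I ^ (n * c')) × N) →₀ B) :
    theta I N c' Φ n z ∈ (JJ I r B ^ t) •
      (⊤ : Submodule (MvPolynomial (Fin r) B) (MvPolynomial (Fin r) B ⊗[B] N)) := by
  induction z using Finsupp.induction_linear with
  | zero => rw [map_zero]; exact zero_mem _
  | add x y hx hy => rw [map_add]; exact add_mem hx hy
  | single p b =>
    rw [theta_single]
    have h1 : MvPolynomial.map (algebraMap A B) (Φ n p.1.1) ⊗ₜ[B] p.2 =
        MvPolynomial.map (algebraMap A B) (Φ n p.1.1) •
          ((1 : MvPolynomial (Fin r) B) ⊗ₜ[B] p.2) := by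
      rw [TensorProduct.smul_tmul', smul_eq_mul, mul_one]
    have h2 : MvPolynomial.map (algebraMap A B) (Φ n p.1.1) ⊗ₜ[B] p.2 ∈ (JJ I r B ^ t) •
        (⊤ : Submodule (MvPolynomial (Fin r) B) (MvPolynomial (Fin r) B ⊗[B] N)) := by
      rw [h1]
      exact Submodule.smul_mem_smul (map_mem_JJ_pow I t _ (hmem _ p.1.2)) trivial
    rw [← algebraMap_smul (MvPolynomial (Fin r) B) b]
    exact Submodule.smul_mem _ _ h2

/-- `theta z` is `J`-power torsion when `mu z = 0`. -/
lemma torsion_theta (hΦ : GrMap I c' Φ) (z : (↥(I ^ (n * c')) × N) →₀ B)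
    (hz : mu I N c' n z = 0) :
    ∀ q ∈ JJ I r B ^ (n * c'), q • theta I N c' Φ n z = 0 := by
  intro q hq
  unfold JJ at hq
  rw [← Ideal.map_pow] at hq
  unfold Ideal.map at hq
  induction hq using Submodule.span_induction with
  | mem q hq =>
    obtain ⟨h, hh, rfl⟩ := hq
    rw [IsScalarTower.algebraMap_apply A B (MvPolynomial (Fin r) B), algebraMap_smul,
      smul_theta I N n hΦ h hh z, hz, TensorProduct.tmul_zero]
  | zero => rw [zero_smul]
  | add a b _ _ ha hb => rw [add_smul, ha, hb, add_zero]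
  | smul a b _ hb => rw [smul_eq_mul, mul_smul, hb, smul_zero]

/-- **the kernel inclusion.** -/
theorem theta_eq_zero_of_mu_eq_zero (c₀ : ℕ)
    (hAR : ∀ z : MvPolynomial (Fin r) B ⊗[B] N, z ∈ (JJ I r B ^ c₀) •
      (⊤ : Submodule (MvPolynomial (Fin r) B) (MvPolynomial (Fin r) B ⊗[B] N)) →
      (∃ t : ℕ, ∀ q ∈ JJ I r B ^ t, q • z = 0) → z = 0)
    (hΦ : GrMap I c' Φ)
    (hmem : n ≠ 0 → ∀ g ∈ I ^ (n * c'), Φ n g ∈
      Ideal.map (MvPolynomial.C : A →+* MvPolynomial (Fin r) A) (I ^ c₀))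
    (z : (↥(I ^ (n * c')) × N) →₀ B) (hz : mu I N c' n z = 0) :
    theta I N c' Φ n z = 0 := by
  by_cases hn : n = 0
  · subst hn
    have h1 : (1 : A) ∈ I ^ (0 * c') := by
      rw [zero_mul, pow_zero, Ideal.one_eq_top]
      trivial
    have h2 := smul_theta I N 0 hΦ 1 h1 z
    rw [map_one, one_smul, hz, TensorProduct.tmul_zero] at h2
    exact h2
  · exact hAR _ (theta_mem I N n c₀ (hmem hn) z) ⟨n * c', torsion_theta I N n hΦ z hz⟩

end Groth.Agent.Lib.Helper20.CdOne3
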