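import Groth.Agent.Lib.Helper20.CdOne3

/-!
# The graded module map for `cd = 1`: existence and uniqueness of `Ψ_n` (helper20)
-/

set_option autoImplicit false
set_option maxHeartbeats 400000

namespace Groth.Agent.Lib.Helper20.CdOne4

universe u
open scoped BigOperators TensorProduct
open Groth.Agent.Lib.Helper20.CdOne1 Groth.Agent.Lib.Helper20.CdOne2
  Groth.Agent.Lib.Helper20.CdOne3

variable {A : Type u} [CommRing A] {r : ℕ} (f : Fin r → A) (I : Ideal A)
  {B : Type u} [CommRing B] [Algebra A B] (N : Type u) [AddCommGroup N] [Module B N]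

lemma aeval_map_eq (p : MvPolynomial (Fin r) A) :
    MvPolynomial.aeval (fun j => algebraMap A B (f j)) (MvPolynomial.map (algebraMap A B) p) =
      algebraMap A B (MvPolynomial.eval f p) := by
  induction p using MvPolynomial.induction_on with
  | C a => simp
  | add p q hp hq => rw [map_add, map_add, hp, hq, map_add, map_add]
  | mul_X p j hp => rw [map_mul, map_mul, hp, map_mul, map_mul]; simp

variable (c' : ℕ) (Φ : ℕ → A → MvPolynomial (Fin r) A) (n : ℕ)

lemma range_mu :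
    LinearMap.range (mu I N c' n) =
      Submodule.span B {y : N | ∃ g ∈ I ^ (n * c'), ∃ x : N, y = algebraMap A B g • x} := by
  unfold mu
  rw [Finsupp.range_linearCombination]
  congr 1
  ext y
  constructor
  · rintro ⟨p, rfl⟩
    exact ⟨p.1.1, p.1.2, p.2, rfl⟩
  · rintro ⟨g, hg, x, rfl⟩
    exact ⟨(⟨g, hg⟩, x), rfl⟩

/-- `mu` with codomain restricted to the span. -/
noncomputable def mu' : ((↥(I ^ (n * c')) × N) →₀ B) →ₗ[B]
    ↥(Submodule.span B {y : N | ∃ g ∈ I ^ (n * c'), ∃ x : N, y = algebraMap A B g • x}) :=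
  (mu I N c' n).codRestrict _ (fun z => by
    rw [← range_mu]
    exact ⟨z, rfl⟩)

lemma mu'_surjective : Function.Surjective (mu' (B := B) I N c' n) := by
  rintro ⟨y, hy⟩
  rw [← range_mu] at hy
  obtain ⟨z, rfl⟩ := hy
  exact ⟨z, rfl⟩

lemma mu'_single_one (g : A) (hg : g ∈ I ^ (n * c')) (x : N) :
    mu' I N c' n (Finsupp.single (⟨g, hg⟩, x) 1) =
      ⟨algebraMap A B g • x, Submodule.subset_span ⟨g, hg, x, rfl⟩⟩ := by
  apply Subtype.ext
  show mu I N c' n (Finsupp.single (⟨g, hg⟩, x) 1) = _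
  rw [mu_single, one_smul]

variable {c' Φ n}

/-- the map `Ψ_n`. -/
noncomputable def Psi (hker : ∀ z, mu (B := B) I N c' n z = 0 → theta I N c' Φ n z = 0) :
    ↥(Submodule.span B {y : N | ∃ g ∈ I ^ (n * c'), ∃ x : N, y = algebraMap A B g • x}) →ₗ[B]
      (MvPolynomial (Fin r) B ⊗[B] N) :=
  (Submodule.liftQ (LinearMap.ker (mu' (B := B) I N c' n)) (theta I N c' Φ n) (by
    intro z hz
    rw [LinearMap.mem_ker] at hz ⊢
    exact hker z (congrArg Subtype.val hz))).comp
    ((mu' (B := B) I N c' n).quotKerEquivOfSurjective (mu'_surjective I N c' n)).symm.toLinearMap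

lemma Psi_mu' (hker : ∀ z, mu (B := B) I N c' n z = 0 → theta I N c' Φ n z = 0)
    (z : (↥(I ^ (n * c')) × N) →₀ B) :
    Psi I N hker (mu' I N c' n z) = theta I N c' Φ n z := by
  unfold Psi
  rw [LinearMap.comp_apply, LinearEquiv.coe_coe, LinearMap.quotKerEquivOfSurjective_symm_apply,
    Submodule.liftQ_apply]

lemma eq_of_comp_mu' (Ψ₁ Ψ₂ :
    ↥(Submodule.span B {y : N | ∃ g ∈ I ^ (n * c'), ∃ x : N, y = algebraMap A B g • x}) →ₗ[B]
      (MvPolynomial (Fin r) B ⊗[B] N))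
    (h : ∀ (g : A) (hg : g ∈ I ^ (n * c')) (x : N),
      Ψ₁ ⟨algebraMap A B g • x, Submodule.subset_span ⟨g, hg, x, rfl⟩⟩ =
        Ψ₂ ⟨algebraMap A B g • x, Submodule.subset_span ⟨g, hg, x, rfl⟩⟩) : Ψ₁ = Ψ₂ := by
  have h2 : Ψ₁.comp (mu' I N c' n) = Ψ₂.comp (mu' I N c' n) := by
    refine Finsupp.lhom_ext fun p b => ?_
    obtain ⟨⟨g, hg⟩, x⟩ := p
    have e : Finsupp.single ((⟨g, hg⟩ : ↥(I ^ (n * c'))), x) b =
        b • Finsupp.single ((⟨g, hg⟩ : ↥(I ^ (n * c'))), x) (1 : B) := by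
      rw [Finsupp.smul_single, smul_eq_mul, mul_one]
    rw [e, map_smul, map_smul, LinearMap.comp_apply, LinearMap.comp_apply, mu'_single_one,
      h g hg x]
  refine LinearMap.ext fun y => ?_
  obtain ⟨z, rfl⟩ := mu'_surjective I N c' n y
  exact LinearMap.congr_fun h2 z

end Groth.Agent.Lib.Helper20.CdOne4
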