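import Groth.Agent.Lib.Helper20.CdOne4

/-!
# The graded module map for `cd = 1`: main statement (helper20)
-/

set_option autoImplicit false
set_option maxHeartbeats 400000

namespace Groth.Agent.Lib.Helper20.CdOne5

universe u
open scoped BigOperators TensorProduct
open Groth.Agent.Lib.Helper20.CdOne1 Groth.Agent.Lib.Helper20.CdOne2
  Groth.Agent.Lib.Helper20.CdOne3 Groth.Agent.Lib.Helper20.CdOne4

theorem main (A : Type u) [CommRing A] (r : ℕ) (f : Fin r → A) (I : Ideal A) (c : ℕ)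
    (φ : Fin r → (↥(I ^ c) →ₗ[A] A)) (hφ : ∀ x : ↥(I ^ c), (x : A) = ∑ j, f j * φ j x)
    (B : Type u) [CommRing B] [Algebra A B] [IsNoetherianRing B] (N : Type u) [AddCommGroup N]
    [Module B N] [Module.Finite B N] :
    ∃ c' : ℕ, ∃ hcc' : c ≤ c', ∀ Φ : ℕ → A → MvPolynomial (Fin r) A,
      GrMap I c' Φ →
      (∀ (g : A) (hg : g ∈ I ^ c'), Φ 1 g =
        ∑ j, MvPolynomial.C (φ j ⟨g, Ideal.pow_le_pow_right hcc' hg⟩) * MvPolynomial.X j) →
      ∀ n : ℕ, ∃ Ψ : ↥(Submodule.span B {y : N | ∃ g ∈ I ^ (n * c'), ∃ x : N,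
          y = algebraMap A B g • x}) →ₗ[B] (MvPolynomial (Fin r) B ⊗[B] N),
        (∀ (g : A) (hg : g ∈ I ^ (n * c')) (x : N),
          Ψ ⟨algebraMap A B g • x, Submodule.subset_span ⟨g, hg, x, rfl⟩⟩ =
            MvPolynomial.map (algebraMap A B) (Φ n g) ⊗ₜ[B] x) ∧
        (∀ y : ↥(Submodule.span B {y : N | ∃ g ∈ I ^ (n * c'), ∃ x : N,
            y = algebraMap A B g • x}),
          TensorProduct.lift ((LinearMap.lsmul B N).comp
            (MvPolynomial.aeval (fun j ↦ algebraMap A B (f j))).toLinearMap) (Ψ y) = (y : N)) ∧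
        (∀ Ψ' : ↥(Submodule.span B {y : N | ∃ g ∈ I ^ (n * c'), ∃ x : N,
            y = algebraMap A B g • x}) →ₗ[B] (MvPolynomial (Fin r) B ⊗[B] N),
          (∀ (g : A) (hg : g ∈ I ^ (n * c')) (x : N),
            Ψ' ⟨algebraMap A B g • x, Submodule.subset_span ⟨g, hg, x, rfl⟩⟩ =
              MvPolynomial.map (algebraMap A B) (Φ n g) ⊗ₜ[B] x) → Ψ' = Ψ) := by
  obtain ⟨c₀, hAR⟩ := exists_pow_inf_powTorsion_eq_bot (R := MvPolynomial (Fin r) B)
    (P := MvPolynomial (Fin r) B ⊗[B] N) (JJ I r B)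
  have hcc' : c ≤ c + c₀ := Nat.le_add_right c c₀
  refine ⟨c + c₀, hcc', fun Φ hΦ hΦ1 n => ?_⟩
  have hsub : c + c₀ - c = c₀ := Nat.add_sub_cancel_left c c₀
  have hmem : n ≠ 0 → ∀ g ∈ I ^ (n * (c + c₀)), Φ n g ∈
      Ideal.map (MvPolynomial.C : A →+* MvPolynomial (Fin r) A) (I ^ c₀) := by
    intro hn g hg
    obtain ⟨m, rfl⟩ : ∃ m, n = m + 1 := ⟨n - 1, by omega⟩
    have := Phi_mem hcc' hΦ hΦ1 m g hg
    rwa [hsub] at this
  have hker : ∀ z, mu (B := B) I N (c + c₀) n z = 0 → theta I N (c + c₀) Φ n z = 0 :=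
    fun z hz => theta_eq_zero_of_mu_eq_zero I N n c₀ hAR hΦ hmem z hz
  have hP1 : ∀ (g : A) (hg : g ∈ I ^ (n * (c + c₀))) (x : N),
      Psi I N hker ⟨algebraMap A B g • x, Submodule.subset_span ⟨g, hg, x, rfl⟩⟩ =
        MvPolynomial.map (algebraMap A B) (Φ n g) ⊗ₜ[B] x := by
    intro g hg x
    rw [← mu'_single_one I N (c + c₀) n g hg x, Psi_mu', theta_single, one_smul]
  refine ⟨Psi I N hker, hP1, ?_, ?_⟩
  · intro y
    obtain ⟨z, rfl⟩ := mu'_surjective I N (c + c₀) n y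
    rw [Psi_mu']
    show _ = mu I N (c + c₀) n z
    induction z using Finsupp.induction_linear with
    | zero => simp
    | add x y hx hy => rw [map_add, map_add, hx, hy, map_add]
    | single p b =>
      rw [theta_single, mu_single, map_smul, TensorProduct.lift.tmul]
      congr 1
      show (MvPolynomial.aeval (fun j ↦ algebraMap A B (f j)))
        (MvPolynomial.map (algebraMap A B) (Φ n p.1.1)) • p.2 = _
      rw [aeval_map_eq, eval_Phi hcc' hΦ hΦ1 hφ n p.1.1 p.1.2]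
  · intro Ψ' h'
    exact eq_of_comp_mu' I N Ψ' (Psi I N hker) (fun g hg x => by rw [h' g hg x, hP1 g hg x])

end Groth.Agent.Lib.Helper20.CdOne5
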