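import Mathlib
import Groth.Prelude.Def_DerCA
import Groth.Agent.Lib.Helper20.CechKill

/-!
# Elements acting bijectively on `M` act bijectively on the extended Čech complex
-/

set_option autoImplicit false

universe u

open CategoryTheory CochainComplex HomologicalComplex

namespace Groth.Agent.Lib.Helper20.CechBij

open Groth.Agent.Lib.Helper20

variable {R : Type u} [CommRing R]

section general

variable {X Y : Type u} [AddCommGroup X] [Module R X] [AddCommGroup Y] [Module R Y]

lemma bij_of_linearEquiv (e : X ≃ₗ[R] Y) (r : R)
    (h : Function.Bijective (fun x : X => r • x)) : Function.Bijective (fun y : Y => r • y) := by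
  constructor
  · intro a b hab
    apply e.symm.injective
    apply h.1
    change r • e.symm a = r • e.symm b
    rw [← map_smul, ← map_smul]
    exact congrArg e.symm hab
  · intro y
    obtain ⟨x, hx⟩ := h.2 (e.symm y)
    refine ⟨e x, ?_⟩
    change r • e x = y
    rw [← map_smul]
    have hx' : r • x = e.symm y := hx
    rw [hx', LinearEquiv.apply_symm_apply]

lemma bij_prod (r : R) (hX : Function.Bijective (fun x : X => r • x))
    (hY : Function.Bijective (fun y : Y => r • y)) :
    Function.Bijective (fun p : X × Y => r • p) := by
  constructor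
  · rintro ⟨a, b⟩ ⟨a', b'⟩ hab
    have h1 : r • a = r • a' := congrArg Prod.fst hab
    have h2 : r • b = r • b' := congrArg Prod.snd hab
    rw [hX.1 h1, hY.1 h2]
  · rintro ⟨a, b⟩
    obtain ⟨a', ha'⟩ := hX.2 a
    obtain ⟨b', hb'⟩ := hY.2 b
    refine ⟨(a', b'), ?_⟩
    change (r • a', r • b') = (a, b)
    have ha'' : r • a' = a := ha'
    have hb'' : r • b' = b := hb'
    rw [ha'', hb'']

lemma bij_localized (S : Submonoid R) (r : R) (hX : Function.Bijective (fun x : X => r • x)) :
    Function.Bijective (fun y : LocalizedModule S X => r • y) := by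
  constructor
  · intro a b hab
    have hab' : r • a = r • b := hab
    have h0 : r • (a - b) = 0 := by rw [smul_sub, hab', sub_self]
    suffices h : a - b = 0 from sub_eq_zero.1 h
    generalize a - b = c at h0
    induction c using LocalizedModule.induction_on with
    | h x t =>
      rw [LocalizedModule.smul'_mk, ← LocalizedModule.zero_mk 1, LocalizedModule.mk_eq] at h0
      obtain ⟨v, hv⟩ := h0
      rw [smul_zero, one_smul, smul_zero] at hv
      rw [← LocalizedModule.zero_mk 1, LocalizedModule.mk_eq]
      refine ⟨v, ?_⟩
      rw [smul_zero, one_smul, smul_zero]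
      apply hX.1
      change r • (v • x) = r • 0
      rw [smul_zero]
      have : (v • (r • x) : X) = 0 := hv
      rw [← this]
      change r • ((v : R) • x) = (v : R) • (r • x)
      rw [smul_comm]
  · intro y
    induction y using LocalizedModule.induction_on with
    | h x t =>
      obtain ⟨x', hx'⟩ := hX.2 x
      refine ⟨LocalizedModule.mk x' t, ?_⟩
      change r • LocalizedModule.mk x' t = _
      rw [LocalizedModule.smul'_mk]
      have hx'' : r • x' = x := hx'
      rw [hx'']

lemma bij_of_subsingleton [Subsingleton X] (r : R) : Function.Bijective (fun x : X => r • x) :=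
  ⟨fun _ _ _ => Subsingleton.elim _ _, fun y => ⟨y, Subsingleton.elim _ _⟩⟩

end general

/-- an element acting bijectively on `M` acts bijectively on every term of `extCech M fs`. -/
theorem bij_extCech (M : ModuleCat.{u} R) (r : R) (hM : Function.Bijective (fun m : M => r • m))
    (fs : List R) : ∀ n : ℤ, Function.Bijective (fun x : (DerCA.extCech M fs).X n => r • x) := by
  induction fs with
  | nil =>
    intro n
    by_cases hn : n = 0
    · subst hn
      exact bij_of_linearEquiv
        (HomologicalComplex.singleObjXSelf (ComplexShape.up ℤ) 0 M).symm.toLinearEquiv r hM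
    · have hz : Limits.IsZero ((DerCA.extCech M []).X n) :=
        HomologicalComplex.isZero_single_obj_X _ _ _ _ hn
      have : Subsingleton ((DerCA.extCech M []).X n) := ModuleCat.subsingleton_of_isZero hz
      exact bij_of_subsingleton r
  | cons f fs ih =>
    intro n
    let K := DerCA.extCech M fs
    let S := Submonoid.powers f
    let φ := DerCA.locCxUnit S K
    change Function.Bijective (fun x : (mappingCocone φ).X n => r • x)
    have h1 : Function.Bijective (fun p : K.X n × ((DerCA.locCx S).obj K).X (n - 1) => r • p) :=
      bij_prod r (ih n) (bij_localized S r (ih (n - 1)))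
    have e1 := (DerCA.mappingCoconeXIso φ n).toLinearEquiv
    have e2 := (ModuleCat.biprodIsoProd (K.X n) (((DerCA.locCx S).obj K).X (n - 1))).toLinearEquiv
    exact bij_of_linearEquiv (e1.trans e2).symm r h1

/-- if `f ∈ (fs)` acts bijectively on `M`, all Čech cohomology of `M` vanishes. -/
theorem subsingleton_extCechH (M : ModuleCat.{u} R) (fs : List R) (f : R)
    (hf : f ∈ Ideal.span {a : R | a ∈ fs}) (hM : Function.Bijective (fun m : M => f • m)) (q : ℤ) :
    Subsingleton (DerCA.extCechH fs M q) := by
  refine ⟨fun x y => ?_⟩
  suffices h : ∀ z : DerCA.extCechH fs M q, z = 0 by rw [h x, h y]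
  intro z
  obtain ⟨n, -, hn⟩ := CechKill.exists_pow_forall M fs q z
  let J : Ideal R := LinearMap.ker (LinearMap.toSpanSingleton R _ z)
  have hJ : ∀ r : R, r ∈ J ↔ r • z = 0 := by
    intro r
    change (LinearMap.toSpanSingleton R _ z) r = 0 ↔ _
    rw [LinearMap.toSpanSingleton_apply]
  have hle : Ideal.span {a : R | a ∈ fs} ≤ J.radical := by
    rw [Ideal.span_le]
    intro a ha
    exact ⟨n, (hJ _).2 (hn a ha)⟩
  obtain ⟨N, hN⟩ := hle hf
  rw [hJ] at hN
  have hinj : ∀ w : DerCA.extCechH fs M q, f • w = 0 → w = 0 :=
    CechLoc.smul_homology_injective (DerCA.extCech M fs) f (bij_extCech M f hM fs) q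
  clear hn
  induction N with
  | zero => rwa [pow_zero, one_smul] at hN
  | succ N ih =>
    apply ih
    apply hinj
    rw [← mul_smul, ← pow_succ']
    exact hN

end Groth.Agent.Lib.Helper20.CechBij
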