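import Mathlib
import Groth.Prelude.Def_DualLC
import Groth.Agent.Lib.Helper20.LCDeltaHH

/-!
# The comparison isomorphism `lcEquiv` is compatible with `Dual2.HmapOfLE`
-/

set_option autoImplicit false
set_option linter.unusedSectionVars false
set_option linter.unusedVariables false

universe u

open CategoryTheory Limits Opposite Groth.Agent.Lib.Helper4.LC Groth.Agent.Lib.Helper4.LCBridge

namespace Groth.Agent.Lib.Helper20.LCDeltaHH

variable {R : Type u} [CommRing R] {I J : Ideal R} (h : I ≤ J) (M : ModuleCat.{u} R) (i : ℕ)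

lemma lcι_HmapOfLE (n : ℕ) (x : ((Ext R (ModuleCat.{u} R) i).obj (op (Q J n))).obj M) :
    ((Dual2.HmapOfLE h i).app M).hom (lcι J M i n x) =
      lcι I M i n ((((Ext R (ModuleCat.{u} R) i).map (pmap h n).op).app M).hom x) := by
  have h1 := Limits.ι_colimMap
    (Functor.whiskerRight (NatTrans.op (Dual2.quotMapOfLE h)) (Ext R (ModuleCat.{u} R) i))
    (op (op n))
  have h2 := congrArg (fun f => (f.app M).hom x) h1
  exact h2

lemma lcEquiv_HmapOfLE (x : (localCohomology J i).obj M) :
    lcEquiv I M i (((Dual2.HmapOfLE h i).app M).hom x) = res h M i (lcEquiv J M i x) := by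
  have key : (lcEquiv I M i).toLinearMap ∘ₗ ((Dual2.HmapOfLE h i).app M).hom =
      res h M i ∘ₗ (lcEquiv J M i).toLinearMap := by
    apply lc_hom_ext
    intro n x
    change lcEquiv I M i (((Dual2.HmapOfLE h i).app M).hom (lcι J M i n x)) =
      res h M i (lcEquiv J M i (lcι J M i n x))
    rw [lcι_HmapOfLE, lcEquiv_lcι, lcEquiv_lcι, res_of,
      extBridge_map_left.{u, u, u + 1, u} (R := R) (pmap h n) M i x]
  exact congrArg (fun f => f x) key

end Groth.Agent.Lib.Helper20.LCDeltaHH
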