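import Mathlib

/-!
# Base change of a surjection in a pushout square of commutative rings (helper20, for helper25 / S12254)
-/

set_option autoImplicit false
set_option linter.style.haveILetI false
universe u

open CategoryTheory

namespace Groth.Agent.Lib.Helper20.PushoutSurj

/-- (RC) base change along a surjection: in a pushout square of commutative rings with `ρ` surjective,
`β` is surjective with kernel generated by the image of `ker ρ`. -/
theorem RC {A K B B₀ : CommRingCat.{u}} (ρ : A ⟶ K) (σ : A ⟶ B) (τ : K ⟶ B₀) (β : B ⟶ B₀)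
    (h : CategoryTheory.IsPushout ρ σ τ β) (hρ : Function.Surjective ρ.hom) :
    Function.Surjective β.hom ∧ RingHom.ker β.hom = Ideal.map σ.hom (RingHom.ker ρ.hom) := by
  set J : Ideal B := Ideal.map σ.hom (RingHom.ker ρ.hom) with hJ
  have hw : ∀ a : A, τ.hom (ρ.hom a) = β.hom (σ.hom a) := fun a => by
    have := congrArg (fun f => f.hom a) h.w
    simpa using this
  have hJle : J ≤ RingHom.ker β.hom := by
    rw [hJ, Ideal.map_le_iff_le_comap]
    intro a ha
    rw [Ideal.mem_comap, RingHom.mem_ker, ← hw, (RingHom.mem_ker).mp ha, map_zero]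
  let Q : CommRingCat.{u} := CommRingCat.of (B ⧸ J)
  let q : B ⟶ Q := CommRingCat.ofHom (Ideal.Quotient.mk J)
  have hker : RingHom.ker ρ.hom ≤ RingHom.ker ((Ideal.Quotient.mk J).comp σ.hom) := by
    intro a ha
    rw [RingHom.mem_ker, RingHom.comp_apply, Ideal.Quotient.eq_zero_iff_mem]
    exact Ideal.mem_map_of_mem _ ha
  let k0 : K →+* (B ⧸ J) :=
    RingHom.liftOfSurjective ρ.hom hρ ⟨(Ideal.Quotient.mk J).comp σ.hom, hker⟩
  have hk0 : ∀ a, k0 (ρ.hom a) = Ideal.Quotient.mk J (σ.hom a) := fun a => by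
    have := RingHom.liftOfRightInverse_comp_apply ρ.hom (Function.surjInv hρ)
      (Function.rightInverse_surjInv hρ) ⟨(Ideal.Quotient.mk J).comp σ.hom, hker⟩ a
    exact this
  let k : K ⟶ Q := CommRingCat.ofHom k0
  have hwk : ρ ≫ k = σ ≫ q := by
    ext a; exact hk0 a
  let d : B₀ ⟶ Q := h.desc k q hwk
  have hd1 : τ ≫ d = k := h.inl_desc _ _ _
  have hd2 : β ≫ d = q := h.inr_desc _ _ _
  have hH : ∀ b : B, b ∈ J → β.hom b = 0 := fun b hb => (RingHom.mem_ker).mp (hJle hb)
  let φ0 : (B ⧸ J) →+* B₀ := Ideal.Quotient.lift J β.hom hH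
  have hφ0 : ∀ b : B, φ0 (Ideal.Quotient.mk J b) = β.hom b := fun b =>
    Ideal.Quotient.lift_mk J β.hom hH
  let φ : Q ⟶ B₀ := CommRingCat.ofHom φ0
  have hφq : q ≫ φ = β := by
    ext b
    exact hφ0 b
  have hkφ : k ≫ φ = τ := by
    ext x
    obtain ⟨a, rfl⟩ := hρ x
    show φ0 (k0 (ρ.hom a)) = τ.hom (ρ.hom a)
    rw [hk0, hw]
    exact hφ0 _
  have hdφ : d ≫ φ = 𝟙 B₀ := by
    apply h.hom_ext
    · rw [← Category.assoc, hd1, hkφ, Category.comp_id]
    · rw [← Category.assoc, hd2, hφq, Category.comp_id]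
  constructor
  · intro y
    obtain ⟨b, hb⟩ := Ideal.Quotient.mk_surjective (d.hom y)
    refine ⟨b, ?_⟩
    have h1 : φ.hom (d.hom y) = y := by
      have := congrArg (fun f => f.hom y) hdφ
      simpa using this
    rw [← h1, ← hb]
    exact (hφ0 b).symm
  · apply le_antisymm
    · intro b hb
      rw [RingHom.mem_ker] at hb
      have h2 : d.hom (β.hom b) = Ideal.Quotient.mk J b := by
        have := congrArg (fun f => f.hom b) hd2
        exact this
      rw [hb, map_zero] at h2
      exact Ideal.Quotient.eq_zero_iff_mem.mp h2.symm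
    · exact hJle

end Groth.Agent.Lib.Helper20.PushoutSurj
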