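import Mathlib
import Groth.Agent.Lib.Helper28.Thick.Pushout
import Groth.Agent.Lib.Helper4.SectPushoutSpec
import Groth.Agent.Lib.Helper20.PushoutSurj

/-!
# A closed immersion descends along a nilpotent thickening of an affine base
(helper20, for helper18 / S12260)
-/

set_option autoImplicit false
set_option linter.style.haveILetI false
universe u

open CategoryTheory CategoryTheory.Limits AlgebraicGeometry

namespace Groth.Agent.Lib.Helper20.ClImmNilBC

/-- nilpotent Nakayama for ring maps: if `R = φ(S) + N R` with `N` a nilpotent ideal of `B → S`,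
then `φ` is surjective. -/
theorem surjective_of_nilpotent {B S R : Type*} [CommRing B] [CommRing S] [CommRing R]
    (a : B →+* S) (φ : S →+* R) (N : Ideal B) (hN : IsNilpotent N)
    (h : ∀ r : R, ∃ s : S, r - φ s ∈ N.map (φ.comp a)) : Function.Surjective φ := by
  set I : Ideal R := N.map (φ.comp a) with hI
  have hpow : ∀ k : ℕ, I ^ k = (N ^ k).map (φ.comp a) := fun k => (Ideal.map_pow _ _ k).symm
  -- elements of `I ^ k` are in the image of `φ` modulo `I ^ (k+1)`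
  have hstep : ∀ k : ℕ, ∀ x ∈ I ^ k, ∃ s : S, x - φ s ∈ I ^ (k + 1) := by
    intro k x hx
    rw [hpow k] at hx
    refine Submodule.span_induction (p := fun x _ => ∃ s : S, x - φ s ∈ I ^ (k + 1))
      ?_ ?_ ?_ ?_ hx
    · rintro _ ⟨n, hn, rfl⟩
      exact ⟨a n, by simp⟩
    · exact ⟨0, by simp⟩
    · rintro x y _ _ ⟨s, hs⟩ ⟨t, ht⟩
      refine ⟨s + t, ?_⟩
      have : x + y - φ (s + t) = (x - φ s) + (y - φ t) := by rw [map_add]; ring
      rw [this]
      exact Ideal.add_mem _ hs ht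
    · rintro r x hxmem ⟨s, hs⟩
      obtain ⟨s₁, hs₁⟩ := h r
      refine ⟨s₁ * s, ?_⟩
      have hxk : x ∈ I ^ k := by rw [hpow k]; exact hxmem
      have e : r • x - φ (s₁ * s) = φ s₁ * (x - φ s) + (r - φ s₁) * x := by
        rw [map_mul, smul_eq_mul]; ring
      rw [e]
      refine Ideal.add_mem _ (Ideal.mul_mem_left _ _ hs) ?_
      rw [pow_succ']
      exact Ideal.mul_mem_mul hs₁ hxk
  have hall : ∀ k : ℕ, ∀ r : R, ∃ s : S, r - φ s ∈ I ^ k := by
    intro k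
    induction k with
    | zero => intro r; exact ⟨0, by simp⟩
    | succ k ih =>
      intro r
      obtain ⟨s, hs⟩ := ih r
      obtain ⟨s', hs'⟩ := hstep k _ hs
      refine ⟨s + s', ?_⟩
      have : r - φ (s + s') = (r - φ s) - φ s' := by rw [map_add]; ring
      rw [this]
      exact hs'
  obtain ⟨n, hn⟩ := hN
  intro r
  obtain ⟨s, hs⟩ := hall n r
  rw [hpow n, hn] at hs
  have hs' : r - φ s ∈ (⊥ : Ideal R) := by
    have hb : Ideal.map (φ.comp a) (0 : Ideal B) = ⊥ := Ideal.map_bot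
    rw [← hb]; exact hs
  rw [Ideal.mem_bot, sub_eq_zero] at hs'
  exact ⟨s, hs'.symm⟩

/-- `Spec` of a surjection with nilpotent kernel is surjective. -/
theorem surjective_specMap_of_nilpotent {B A' : CommRingCat.{u}} (p : B ⟶ A')
    (hp : Function.Surjective p.hom) (hnil : IsNilpotent (RingHom.ker p.hom)) :
    Surjective (Spec.map p) := by
  refine ⟨fun x => ?_⟩
  have hx : x ∈ Set.range (PrimeSpectrum.comap p.hom) := by
    rw [range_comap_of_surjective _ _ hp]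
    intro y hy
    obtain ⟨n, hn⟩ := hnil
    have : y ^ n ∈ (RingHom.ker p.hom) ^ n := Ideal.pow_mem_pow hy n
    rw [hn] at this
    have h0 : y ^ n = 0 := this
    exact x.isPrime.mem_of_pow_mem n (by rw [h0]; exact Ideal.zero_mem _)
  obtain ⟨z, hz⟩ := hx
  exact ⟨z, hz⟩

/-- (P2) -/
theorem isClosedImmersion_of_nilpotent_baseChange {T T' Y Y' : Scheme.{u}} {B A' : CommRingCat.{u}}
    (p : B ⟶ A') (hp : Function.Surjective p.hom) (hnil : IsNilpotent (RingHom.ker p.hom))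
    (c : T ⟶ Y) (s : Y ⟶ Spec B) (g : Y' ⟶ Y) (s' : Y' ⟶ Spec A')
    (HY : IsPullback g s' s (Spec.map p)) (c' : T' ⟶ Y') (b : T' ⟶ T) (H : IsPullback b c' c g)
    [IsClosedImmersion c'] : IsClosedImmersion c := by
  haveI hpcl : IsClosedImmersion (Spec.map p) := IsClosedImmersion.spec_of_surjective p hp
  haveI hpsurj : Surjective (Spec.map p) := surjective_specMap_of_nilpotent p hp hnil
  haveI hgcl : IsClosedImmersion g := MorphismProperty.of_isPullback HY.flip hpcl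
  haveI hgsurj : Surjective g := MorphismProperty.of_isPullback HY.flip hpsurj
  haveI hbcl : IsClosedImmersion b := MorphismProperty.of_isPullback H.flip hgcl
  haveI hbsurj : Surjective b := MorphismProperty.of_isPullback H.flip hgsurj
  have hw : b ≫ c = c' ≫ g := H.w
  rw [isClosedImmersion_iff_isAffineHom]
  have haff : ∀ V : Y.Opens, IsAffineOpen V → IsAffineOpen (c ⁻¹ᵁ V) := by
    intro V hV
    apply Groth.Agent.Lib.Helper28.Thick.isAffineOpen_of_preimage b hbsurj.surj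
    have : b ⁻¹ᵁ (c ⁻¹ᵁ V) = c' ⁻¹ᵁ (g ⁻¹ᵁ V) := by
      rw [← Scheme.Hom.comp_preimage, ← Scheme.Hom.comp_preimage, hw]
    rw [this]
    exact (hV.preimage g).preimage c'
  refine ⟨⟨fun V hV => haff V hV⟩, fun V hV => ?_⟩
  -- sections
  have hV' : IsAffineOpen (c ⁻¹ᵁ V) := haff V hV
  obtain ⟨-, hPY⟩ := Groth.Agent.Lib.Helper4.SectPushoutSpec.sect_isPushout_Spec p HY hV
  obtain ⟨-, hPT⟩ := Groth.Agent.Lib.Helper4.SectPushoutSpec.sect_isPushout_Spec p
    (H.paste_vert HY) hV'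
  obtain ⟨hgs, -⟩ := Groth.Agent.Lib.Helper20.PushoutSurj.RC _ _ _ _ hPY.flip hp
  obtain ⟨-, hbk⟩ := Groth.Agent.Lib.Helper20.PushoutSurj.RC _ _ _ _ hPT.flip hp
  -- the structure map of `Γ(T, c⁻¹V)` factors through `Γ(Y, V)`
  have hfac : (Scheme.ΓSpecIso B).inv ≫ (c ≫ s).appLE ⊤ (c ⁻¹ᵁ V) le_top =
      ((Scheme.ΓSpecIso B).inv ≫ s.appLE ⊤ V le_top) ≫ c.app V := by
    rw [Category.assoc, Scheme.Hom.app_eq_appLE, Scheme.Hom.appLE_comp_appLE]
  -- surjectivity of `c'` on the relevant sections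
  have hc's : ∀ (W'' : T'.Opens) (hW : W'' = c' ⁻¹ᵁ (g ⁻¹ᵁ V)) (e : W'' ≤ c' ⁻¹ᵁ (g ⁻¹ᵁ V)),
      Function.Surjective (c'.appLE (g ⁻¹ᵁ V) W'' e) := by
    rintro _ rfl e
    rw [← Scheme.Hom.app_eq_appLE]
    exact c'.app_surjective _ (hV.preimage g)
  have hWeq : b ⁻¹ᵁ (c ⁻¹ᵁ V) = c' ⁻¹ᵁ (g ⁻¹ᵁ V) := by
    rw [← Scheme.Hom.comp_preimage, ← Scheme.Hom.comp_preimage, hw]
  have hcongr : ∀ (f₁ f₂ : T' ⟶ Y) (hf : f₁ = f₂) (W'' : T'.Opens) (h₁ : W'' ≤ f₁ ⁻¹ᵁ V)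
      (h₂ : W'' ≤ f₂ ⁻¹ᵁ V), f₁.appLE V W'' h₁ = f₂.appLE V W'' h₂ := by
    rintro _ _ rfl _ _ _; rfl
  have hsq : c.app V ≫ b.app (c ⁻¹ᵁ V) =
      g.app V ≫ c'.appLE (g ⁻¹ᵁ V) (b ⁻¹ᵁ (c ⁻¹ᵁ V)) hWeq.le := by
    rw [Scheme.Hom.app_eq_appLE, Scheme.Hom.app_eq_appLE, Scheme.Hom.app_eq_appLE,
      Scheme.Hom.appLE_comp_appLE, Scheme.Hom.appLE_comp_appLE]
    exact hcongr _ _ hw _ _ _
  -- `R = φ(S) + (ker p) R`
  have hstep : ∀ r : Γ(T, c ⁻¹ᵁ V), ∃ s₀ : Γ(Y, V), r - (c.app V).hom s₀ ∈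
      (RingHom.ker p.hom).map ((c.app V).hom.comp
        ((Scheme.ΓSpecIso B).inv ≫ s.appLE ⊤ V le_top).hom) := by
    intro r
    obtain ⟨y', hy'⟩ := hc's _ hWeq hWeq.le ((b.app (c ⁻¹ᵁ V)).hom r)
    obtain ⟨s₀, hs₀⟩ := hgs y'
    refine ⟨s₀, ?_⟩
    have hker : r - (c.app V).hom s₀ ∈ RingHom.ker (b.app (c ⁻¹ᵁ V)).hom := by
      rw [RingHom.mem_ker, map_sub, sub_eq_zero]
      have := congrArg (fun f => f.hom s₀) hsq
      simp only [CommRingCat.hom_comp, RingHom.comp_apply] at this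
      rw [this, hs₀, hy']
    rw [hbk, hfac] at hker
    exact hker
  exact surjective_of_nilpotent _ _ _ hnil hstep

end Groth.Agent.Lib.Helper20.ClImmNilBC
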