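import Mathlib
import Groth.Agent.Lib.Helper20.CodepthCons2

/-!
# Constructibility of the locus where the fibre local ring has codepth `= n` (helper20)
-/

set_option autoImplicit false
set_option linter.style.haveILetI false
set_option linter.unusedSectionVars false
universe u

open CategoryTheory CategoryTheory.Limits AlgebraicGeometry IsLocalRing TensorProduct Topology
  Opposite

namespace Groth.Agent.Lib.Helper20.CodepthCons

open Groth.Agent.Lib.Helper14 Groth.Agent.Lib.Helper14.ConsFibre

/-- for a Noetherian local ring: codepth `= n` iff codepth `≤ n` and not `≤ n - 1`. -/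
theorem dim_eq_depth_add_iff (R : Type u) [CommRing R] [IsLocalRing R] [IsNoetherianRing R]
    (n : ℕ) :
    ringKrullDim R = ((LocCoh.depth R R : ℕ∞) : WithBot ℕ∞) + (n : WithBot ℕ∞) ↔
      CPr n R ∧ (n = 0 ∨ ¬ CPr (n - 1) R) := by
  have h1 : ((LocCoh.depth R R : ℕ∞) : WithBot ℕ∞) ≤ ringKrullDim R := by
    have := Groth.Agent.Lib.Helper4.depth_le_supportDim (R := R) (M := R)
    rwa [Module.supportDim_self_eq_ringKrullDim] at this
  have ha : ringKrullDim R ≠ ⊤ := ringKrullDim_ne_top
  have hb : ringKrullDim R ≠ ⊥ := ringKrullDim_ne_bot
  unfold CPr
  obtain ⟨m, hm⟩ : ∃ m : ℕ, m = n - 1 := ⟨_, rfl⟩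
  rw [← hm]
  generalize ringKrullDim R = a at *
  generalize LocCoh.depth R R = d at *
  induction a using WithBot.recBotCoe with
  | bot => exact absurd rfl hb
  | coe a =>
    induction a using ENat.recTopCoe with
    | top => exact absurd rfl ha
    | coe a =>
      induction d using ENat.recTopCoe with
      | top =>
        exfalso
        have : ((⊤ : ℕ∞) : WithBot ℕ∞) ≤ ((a : ℕ∞) : WithBot ℕ∞) := h1
        have h2 : (⊤ : ℕ∞) ≤ (a : ℕ∞) := by exact_mod_cast this
        exact absurd h2 (by simp)
      | coe d =>
        have hda : d ≤ a := by exact_mod_cast h1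
        constructor
        · intro h
          have h' : a = d + n := by exact_mod_cast h
          refine ⟨by exact_mod_cast h'.le, ?_⟩
          rcases Nat.eq_zero_or_pos n with hn | hn
          · exact Or.inl hn
          · right
            intro hc
            have hc' : a ≤ d + m := by exact_mod_cast hc
            omega
        · rintro ⟨h2, h3⟩
          have h2' : a ≤ d + n := by exact_mod_cast h2
          rcases h3 with h3 | h3
          · subst h3
            have : a = d + 0 := by omega
            exact_mod_cast this
          · have h3' : ¬ a ≤ d + m := by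
              intro hc
              apply h3
              exact_mod_cast hc
            have : a = d + n := by omega
            exact_mod_cast this

/-- **the locus where the fibre local ring has codepth exactly `n` is locally constructible.** -/
theorem isLocallyConstructible_codepth_eq {X S : Scheme.{u}} (f : X ⟶ S)
    [LocallyOfFinitePresentation f] (n : ℕ) :
    IsLocallyConstructible {x : X |
      ringKrullDim ((f.fiber (f.base x)).presheaf.stalk (f.asFiber x)) =
        ((LocCoh.depth ((f.fiber (f.base x)).presheaf.stalk (f.asFiber x))
          ((f.fiber (f.base x)).presheaf.stalk (f.asFiber x)) : ℕ∞) : WithBot ℕ∞) + n} := by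
  have hN : ∀ x : X, IsNoetherianRing ((f.fiber (f.base x)).presheaf.stalk (f.asFiber x)) := by
    intro x
    haveI : LocallyOfFiniteType (f.fiberToSpecResidueField (f.base x)) := by
      change LocallyOfFiniteType (pullback.snd f (S.fromSpecResidueField (f.base x)))
      infer_instance
    haveI : IsLocallyNoetherian (f.fiber (f.base x)) :=
      LocallyOfFiniteType.isLocallyNoetherian (f.fiberToSpecResidueField (f.base x))
    infer_instance
  have hset : {x : X |
      ringKrullDim ((f.fiber (f.base x)).presheaf.stalk (f.asFiber x)) =
        ((LocCoh.depth ((f.fiber (f.base x)).presheaf.stalk (f.asFiber x))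
          ((f.fiber (f.base x)).presheaf.stalk (f.asFiber x)) : ℕ∞) : WithBot ℕ∞) + n} =
      cpSet n f ∩ ({_x : X | n = 0} ∪ (cpSet (n - 1) f)ᶜ) := by
    ext x
    haveI := hN x
    simp only [Set.mem_setOf_eq, Set.mem_inter_iff, Set.mem_union, Set.mem_compl_iff, cpSet]
    exact dim_eq_depth_add_iff _ n
  rw [hset]
  refine (isLocallyConstructible_cpSet n f).inter (IsLocallyConstructible.union ?_
    (Groth.Agent.Lib.Helper12.ConstrNhds.isLocallyConstructible_compl
      (isLocallyConstructible_cpSet (n - 1) f)))
  by_cases hn : n = 0
  · have : {_x : X | n = 0} = Set.univ := by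
      ext x
      simp [hn]
    rw [this]
    exact IsLocallyConstructible.univ
  · have : {_x : X | n = 0} = ∅ := by
      ext x
      simp [hn]
    rw [this]
    exact IsLocallyConstructible.empty

end Groth.Agent.Lib.Helper20.CodepthCons
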