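import Mathlib
import Groth.Prelude.Def_Wider
import Groth.Agent.Lib.Helper4.FrobTors
import Groth.Agent.Lib.Helper1.PSOmega

/-!
# Power-torsion modules with derivations over `k[[x_1..x_d]]` (char 0) are sums of injective hulls
-/

set_option autoImplicit false
set_option maxHeartbeats 400000
universe u

open IsLocalRing

namespace Groth.Agent.Lib.Helper20.DTors1

variable {k : Type u} [Field k] {d : ℕ}

local notation "AA" => MvPowerSeries (Fin d) k

/-- elements killed by `X i` for all `i` with `j ≤ i` -/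
def Kj (M : Type u) [AddCommGroup M] [Module (MvPowerSeries (Fin d) k) M] (j : ℕ) :
    Submodule (MvPowerSeries (Fin d) k) M where
  carrier := {z | ∀ i : Fin d, j ≤ i.val → (MvPowerSeries.X i : MvPowerSeries (Fin d) k) • z = 0}
  add_mem' := by
    intro a b ha hb i hi
    rw [smul_add, ha i hi, hb i hi, add_zero]
  zero_mem' := by
    intro i _
    exact smul_zero _
  smul_mem' := by
    intro c a ha i hi
    rw [smul_comm, ha i hi, smul_zero]

lemma mem_Kj {M : Type u} [AddCommGroup M] [Module (MvPowerSeries (Fin d) k) M] (j : ℕ) (z : M) :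
    z ∈ Kj (k := k) (d := d) M j ↔
      ∀ i : Fin d, j ≤ i.val → (MvPowerSeries.X i : MvPowerSeries (Fin d) k) • z = 0 := Iff.rfl

lemma X_mem_max (i : Fin d) :
    (MvPowerSeries.X i : MvPowerSeries (Fin d) k) ∈ maximalIdeal (MvPowerSeries (Fin d) k) := by
  rw [Groth.Agent.Lib.Helper1.PSOmega.maximalIdeal_eq_span]
  exact Ideal.subset_span ⟨i, rfl⟩

lemma exists_X_pow_smul {M : Type u} [AddCommGroup M] [Module (MvPowerSeries (Fin d) k) M]
    (hM : LocCoh.IsPowerTorsion (maximalIdeal (MvPowerSeries (Fin d) k)) M) (i : Fin d) (z : M) :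
    ∃ n : ℕ, (MvPowerSeries.X i : MvPowerSeries (Fin d) k) ^ n • z = 0 := by
  obtain ⟨n, hn⟩ := hM z
  exact ⟨n, hn _ (Ideal.pow_mem_pow (X_mem_max i) n)⟩

lemma smul_eq_zero_of_max {M : Type u} [AddCommGroup M] [Module (MvPowerSeries (Fin d) k) M]
    (z : M) (hz : ∀ i : Fin d, (MvPowerSeries.X i : MvPowerSeries (Fin d) k) • z = 0) :
    ∀ a ∈ maximalIdeal (MvPowerSeries (Fin d) k), a • z = 0 := by
  intro a ha
  rw [Groth.Agent.Lib.Helper1.PSOmega.maximalIdeal_eq_span] at ha
  refine Submodule.span_induction ?_ ?_ ?_ ?_ ha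
  · rintro _ ⟨i, rfl⟩
    exact hz i
  · exact zero_smul _ _
  · intro x y _ _ hx hy
    rw [add_smul, hx, hy, add_zero]
  · intro c x _ hx
    rw [smul_eq_mul, mul_smul, hx, smul_zero]

section Div

variable [CharZero k]
  (θ : Fin d → Derivation k (MvPowerSeries (Fin d) k) (MvPowerSeries (Fin d) k))
  (hθ : ∀ i j : Fin d, θ i (MvPowerSeries.X j) = if i = j then 1 else 0)
  {M : Type u} [AddCommGroup M] [Module (MvPowerSeries (Fin d) k) M]
  (hM : LocCoh.IsPowerTorsion (maximalIdeal (MvPowerSeries (Fin d) k)) M)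
  (D : Fin d → M →+ M)
  (hD : ∀ (i : Fin d) (f : MvPowerSeries (Fin d) k) (z : M), D i (f • z) = θ i f • z + f • D i z)

include hθ hD in
lemma D_mem_Kj (j : Fin d) (z : M) (hz : z ∈ Kj (k := k) (d := d) M (j.val + 1)) :
    D j z ∈ Kj (k := k) (d := d) M (j.val + 1) := by
  intro i hi
  have h1 := hD j (MvPowerSeries.X i) z
  rw [hz i hi, map_zero, hθ j i] at h1
  have hne : j ≠ i := by
    intro h
    rw [h] at hi
    omega
  rw [if_neg hne, zero_smul, zero_add] at h1
  exact h1.symm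

include hθ hD in
lemma div_step (j : Fin d) (n : ℕ) :
    ∀ z ∈ Kj (k := k) (d := d) M (j.val + 1),
      (MvPowerSeries.X j : MvPowerSeries (Fin d) k) ^ n • z = 0 →
      ∃ z' ∈ Kj (k := k) (d := d) M (j.val + 1),
        (MvPowerSeries.X j : MvPowerSeries (Fin d) k) • z' = z := by
  induction n with
  | zero =>
    intro z _ h0
    rw [pow_zero, one_smul] at h0
    exact ⟨0, Submodule.zero_mem _, by rw [smul_zero, h0]⟩
  | succ n ih =>
    intro z hz h0
    have h1 := hD j ((MvPowerSeries.X j : MvPowerSeries (Fin d) k) ^ (n + 1)) z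
    rw [h0, map_zero, Derivation.leibniz_pow, hθ j j, if_pos rfl, Nat.add_sub_cancel] at h1
    -- h1 : 0 = ((n+1) • X^n • 1) • z + X^(n+1) • D j z
    set X := (MvPowerSeries.X j : MvPowerSeries (Fin d) k) with hX
    let w : M := ((n + 1 : ℕ) : MvPowerSeries (Fin d) k) • z + X • D j z
    have hw : w ∈ Kj (k := k) (d := d) M (j.val + 1) :=
      Submodule.add_mem _ (Submodule.smul_mem _ _ hz)
        (Submodule.smul_mem _ _ (D_mem_Kj θ hθ D hD j z hz))
    have hw0 : X ^ n • w = 0 := by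
      rw [h1]
      simp only [w]
      rw [smul_add, smul_smul, smul_smul, ← pow_succ, nsmul_eq_mul, smul_eq_mul, mul_one]
      congr 2
      rw [mul_comm]
    obtain ⟨p, hp, hpw⟩ := ih w hw hw0
    let c : MvPowerSeries (Fin d) k := algebraMap k _ ((n + 1 : ℕ) : k)⁻¹
    have hc : c * ((n + 1 : ℕ) : MvPowerSeries (Fin d) k) = 1 := by
      have h2 : ((n + 1 : ℕ) : MvPowerSeries (Fin d) k) = algebraMap k _ ((n + 1 : ℕ) : k) := by
        rw [map_natCast]
      rw [h2, ← map_mul, inv_mul_cancel₀ (Nat.cast_ne_zero.2 (Nat.succ_ne_zero n)), map_one]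
    refine ⟨c • (p - D j z), Submodule.smul_mem _ _
      (Submodule.sub_mem _ hp (D_mem_Kj θ hθ D hD j z hz)), ?_⟩
    rw [smul_comm, smul_sub, hpw]
    simp only [w]
    rw [add_sub_cancel_right, smul_smul, hc, one_smul]

include hθ hM hD in
lemma div (j : Fin d) (z : M) (hz : z ∈ Kj (k := k) (d := d) M (j.val + 1)) :
    ∃ z' ∈ Kj (k := k) (d := d) M (j.val + 1),
      (MvPowerSeries.X j : MvPowerSeries (Fin d) k) • z' = z := by
  obtain ⟨n, hn⟩ := exists_X_pow_smul hM j z
  exact div_step θ hθ D hD j n z hz hn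

end Div

end Groth.Agent.Lib.Helper20.DTors1
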