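import Mathlib
import Groth.Prelude.Def_Wider
import Groth.Agent.Lib.Helper20.DTors1

/-!
# Surjectivity of the embedding `M → J →₀ E` from divisibility, and the main theorem
-/

set_option autoImplicit false
set_option maxHeartbeats 400000
universe u

open IsLocalRing

namespace Groth.Agent.Lib.Helper20.DTors2

open Groth.Agent.Lib.Helper20.DTors1

variable {k : Type u} [Field k] {d : ℕ}

section Surj

variable {M N : Type u} [AddCommGroup M] [Module (MvPowerSeries (Fin d) k) M]
  [AddCommGroup N] [Module (MvPowerSeries (Fin d) k) N]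
  (g : M →ₗ[MvPowerSeries (Fin d) k] N) (hg : Function.Injective g)
  (hsoc : ∀ y : N, (∀ a ∈ maximalIdeal (MvPowerSeries (Fin d) k), a • y = 0) → ∃ x : M, g x = y)
  (hN : LocCoh.IsPowerTorsion (maximalIdeal (MvPowerSeries (Fin d) k)) N)
  (hdiv : ∀ (j : Fin d) (z : M), z ∈ Kj (k := k) (d := d) M (j.val + 1) →
    ∃ z' ∈ Kj (k := k) (d := d) M (j.val + 1),
      (MvPowerSeries.X j : MvPowerSeries (Fin d) k) • z' = z)

include hg in
lemma mem_Kj_of_map (j : ℕ) (z : M) (h : g z ∈ Kj (k := k) (d := d) N j) :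
    z ∈ Kj (k := k) (d := d) M j := by
  intro i hi
  apply hg
  rw [map_smul, h i hi, map_zero]

lemma map_mem_Kj (j : ℕ) (z : M) (h : z ∈ Kj (k := k) (d := d) M j) :
    g z ∈ Kj (k := k) (d := d) N j := by
  intro i hi
  rw [← map_smul, h i hi, map_zero]

include hg hdiv in
lemma surj_step (j : Fin d)
    (ih : ∀ y ∈ Kj (k := k) (d := d) N j.val, ∃ x : M, g x = y) (n : ℕ) :
    ∀ y ∈ Kj (k := k) (d := d) N (j.val + 1),
      (MvPowerSeries.X j : MvPowerSeries (Fin d) k) ^ n • y = 0 → ∃ x : M, g x = y := by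
  induction n with
  | zero =>
    intro y _ h0
    rw [pow_zero, one_smul] at h0
    exact ⟨0, by rw [map_zero, h0]⟩
  | succ n ihn =>
    intro y hy h0
    have h1 : (MvPowerSeries.X j : MvPowerSeries (Fin d) k) • y ∈
        Kj (k := k) (d := d) N (j.val + 1) := Submodule.smul_mem _ _ hy
    have h2 : (MvPowerSeries.X j : MvPowerSeries (Fin d) k) ^ n •
        ((MvPowerSeries.X j : MvPowerSeries (Fin d) k) • y) = 0 := by
      rw [smul_smul, ← pow_succ]
      exact h0
    obtain ⟨z, hz⟩ := ihn _ h1 h2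
    have hzK : z ∈ Kj (k := k) (d := d) M (j.val + 1) :=
      mem_Kj_of_map g hg _ z (by rw [hz]; exact h1)
    obtain ⟨z', hz'K, hz'⟩ := hdiv j z hzK
    have hy' : y - g z' ∈ Kj (k := k) (d := d) N j.val := by
      intro i hi
      rcases Nat.eq_or_lt_of_le hi with h | h
      · have hij : i = j := Fin.ext h.symm
        rw [hij, smul_sub, ← map_smul, hz', hz, sub_self]
      · exact (Submodule.sub_mem _ hy (map_mem_Kj g _ z' hz'K)) i h
    obtain ⟨z'', hz''⟩ := ih _ hy'
    refine ⟨z'' + z', ?_⟩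
    rw [map_add, hz'', sub_add_cancel]

include hg hsoc hN hdiv in
lemma surj_Kj (j : ℕ) (hj : j ≤ d) :
    ∀ y ∈ Kj (k := k) (d := d) N j, ∃ x : M, g x = y := by
  induction j with
  | zero =>
    intro y hy
    exact hsoc y (smul_eq_zero_of_max y (fun i => hy i (Nat.zero_le _)))
  | succ j ih =>
    intro y hy
    obtain ⟨n, hn⟩ := exists_X_pow_smul hN ⟨j, hj⟩ y
    exact surj_step g hg hdiv ⟨j, hj⟩ (ih (Nat.le_of_succ_le hj)) n y hy hn

include hg hsoc hN hdiv in
lemma surjective : Function.Surjective g := by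
  intro y
  refine surj_Kj g hg hsoc hN hdiv d le_rfl y ?_
  intro i hi
  exact absurd i.isLt (not_lt.2 hi)

end Surj

theorem main (k : Type u) [Field k] [CharZero k] (d : ℕ) (E : Type u) [AddCommGroup E]
    [Module (MvPowerSeries (Fin d) k) E]
    (e : IsLocalRing.ResidueField (MvPowerSeries (Fin d) k) →ₗ[MvPowerSeries (Fin d) k] E)
    (he : InjHull.IsInjectiveHull e)
    (θ : Fin d → Derivation k (MvPowerSeries (Fin d) k) (MvPowerSeries (Fin d) k))
    (hθ : ∀ i j : Fin d, θ i (MvPowerSeries.X j) = if i = j then 1 else 0)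
    (M : Type u) [AddCommGroup M] [Module (MvPowerSeries (Fin d) k) M]
    (hM : LocCoh.IsPowerTorsion (IsLocalRing.maximalIdeal (MvPowerSeries (Fin d) k)) M)
    (D : Fin d → M →+ M)
    (hD : ∀ (i : Fin d) (f : MvPowerSeries (Fin d) k) (z : M),
      D i (f • z) = θ i f • z + f • D i z) :
    ∃ J : Type u, Nonempty (M ≃ₗ[MvPowerSeries (Fin d) k] (J →₀ E)) := by
  obtain ⟨J, _, g, hginj, hgsoc⟩ :=
    Groth.Agent.Lib.Helper4.FrobTors.exists_embedding e he M hM
  have hN := Groth.Agent.Lib.Helper4.FrobTors.isPowerTorsion_finsupp_hull e he J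
  have hsurj : Function.Surjective g :=
    surjective g hginj (fun y hy => by
      obtain ⟨x, _, hx⟩ := hgsoc y hy
      exact ⟨x, hx⟩) hN (fun j z hz => div θ hθ hM D hD j z hz)
  exact ⟨J, ⟨LinearEquiv.ofBijective g ⟨hginj, hsurj⟩⟩⟩

end Groth.Agent.Lib.Helper20.DTors2
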