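import Mathlib

/-!
# A local PID essentially of finite type over a field has a derivation with a unit value, or no differentials
(helper20, for helper22 / S7892)
-/

set_option autoImplicit false
set_option linter.style.haveILetI false
universe u

open KaehlerDifferential

namespace Groth.Agent.Lib.Helper20.DerivUnit

/-- (A) -/
theorem exists_derivation_or_subsingleton (k A : Type u) [Field k] [CommRing A] [IsDomain A]
    [IsLocalRing A] [IsPrincipalIdealRing A] [Algebra k A] [Algebra.EssFiniteType k A] :
    (∃ (D : Derivation k A A) (a : A), IsUnit (D a)) ∨ Subsingleton Ω[A⁄k] := by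
  classical
  let M := Ω[A⁄k]
  let T : Submodule A M := Submodule.torsion A M
  let Q := M ⧸ T
  haveI : Module.Finite A M := inferInstance
  haveI : Module.Finite A Q := inferInstance
  haveI : Module.IsTorsionFree A Q := inferInstance
  haveI : Module.Free A Q := Module.free_of_finite_type_torsion_free'
  by_cases hQ : Nontrivial Q
  · left
    let b := Module.Free.chooseBasis A Q
    haveI : Nonempty (Module.Free.ChooseBasisIndex A Q) := by
      by_contra hne
      rw [not_nonempty_iff] at hne
      haveI := hne
      exact (not_subsingleton Q) (b.repr.toEquiv.subsingleton)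
    let i : Module.Free.ChooseBasisIndex A Q := Classical.arbitrary _
    let ψ : M →ₗ[A] A := (b.coord i).comp T.mkQ
    let D : Derivation k A A := ψ.compDer (KaehlerDifferential.D k A)
    by_contra hcon
    push_neg at hcon
    -- every D a lies in the maximal ideal
    have hD : ∀ a : A, ψ (KaehlerDifferential.D k A a) ∈ IsLocalRing.maximalIdeal A := by
      intro a
      have := hcon D a
      rw [IsLocalRing.mem_maximalIdeal]
      exact this
    let N : Submodule A M := Submodule.comap ψ ((IsLocalRing.maximalIdeal A).restrictScalars A)
    have hN : (⊤ : Submodule A M) ≤ N := by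
      rw [← KaehlerDifferential.span_range_derivation k A, Submodule.span_le]
      rintro _ ⟨a, rfl⟩
      exact hD a
    obtain ⟨w, hw⟩ : ∃ w : M, ψ w = 1 := by
      obtain ⟨w, hw⟩ := T.mkQ_surjective (b i)
      refine ⟨w, ?_⟩
      show b.coord i (T.mkQ w) = 1
      rw [hw]
      simp [Module.Basis.coord_apply]
    have h1 : (1 : A) ∈ IsLocalRing.maximalIdeal A := by
      rw [← hw]
      exact hN (Submodule.mem_top : w ∈ ⊤)
    exact (IsLocalRing.maximalIdeal.isMaximal A).ne_top
      ((Ideal.eq_top_iff_one _).mpr h1)
  · right
    rw [not_nontrivial_iff_subsingleton] at hQ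
    have hT : T = ⊤ := Submodule.Quotient.subsingleton_iff.mp hQ
    have htors : ∀ x : M, ∃ a : nonZeroDivisors A, a • x = 0 := by
      intro x
      have hx : x ∈ T := by rw [hT]; exact Submodule.mem_top
      exact (Submodule.mem_torsion_iff x).mp hx
    let L := FractionRing A
    -- Ω[L⁄k] = 0
    haveI hloc : IsLocalizedModule (nonZeroDivisors A) (KaehlerDifferential.map k k A L) :=
      KaehlerDifferential.isLocalizedModule_map k A L (nonZeroDivisors A)
    have hΩL : Subsingleton Ω[L⁄k] := by
      refine ⟨fun y z => ?_⟩
      suffices h0 : ∀ y : Ω[L⁄k], y = 0 by rw [h0 y, h0 z]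
      intro y
      obtain ⟨⟨x, s⟩, hxs⟩ := IsLocalizedModule.surj (nonZeroDivisors A)
        (KaehlerDifferential.map k k A L) y
      obtain ⟨a, ha⟩ := htors x
      have h1 : KaehlerDifferential.map k k A L x = 0 := by
        have h2 : (a : A) • KaehlerDifferential.map k k A L x = 0 := by
          rw [← LinearMap.map_smul_of_tower]
          have : (a : A) • x = 0 := ha
          rw [this, map_zero]
        have hu : IsUnit (algebraMap A L (a : A)) :=
          IsLocalization.map_units L a
        rw [← algebraMap_smul L (a : A)] at h2
        exact (hu.smul_eq_zero).mp h2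
      have h3 : (s : A) • y = 0 := by
        have h4 : s • y = KaehlerDifferential.map k k A L x := hxs
        have h5 : (s : A) • y = s • y := rfl
        rw [h5, h4, h1]
      have hu : IsUnit (algebraMap A L (s : A)) := IsLocalization.map_units L s
      rw [← algebraMap_smul L (s : A)] at h3
      exact (hu.smul_eq_zero).mp h3
    haveI : Algebra.FormallyUnramified k L := ⟨hΩL⟩
    haveI : Algebra.EssFiniteType A L := Algebra.EssFiniteType.of_isLocalization L (nonZeroDivisors A)
    haveI : Algebra.EssFiniteType k L := Algebra.EssFiniteType.comp k A L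
    haveI : Algebra.IsSeparable k L := Algebra.FormallyUnramified.isSeparable k L
    haveI : Algebra.IsIntegral k L := Algebra.IsAlgebraic.isIntegral
    haveI : Algebra.IsIntegral k A := by
      refine ⟨fun a => ?_⟩
      have := Algebra.IsIntegral.isIntegral (R := k) (algebraMap A L a)
      exact (isIntegral_algebraMap_iff (IsFractionRing.injective A L)).mp this
    have hfield : IsField A := isField_of_isIntegral_of_isField' (Field.toIsField k)
    refine ⟨fun x y => ?_⟩
    suffices h0 : ∀ x : M, x = 0 by rw [h0 x, h0 y]
    intro x
    obtain ⟨a, ha⟩ := htors x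
    have ha0 : (a : A) ≠ 0 := nonZeroDivisors.ne_zero a.2
    obtain ⟨c, hc⟩ := hfield.mul_inv_cancel ha0
    have : x = (c * (a : A)) • x := by rw [mul_comm, hc, one_smul]
    rw [this, mul_smul]
    have : (a : A) • x = 0 := ha
    rw [this, smul_zero]

end Groth.Agent.Lib.Helper20.DerivUnit
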