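import Mathlib
import Groth.Prelude
import Groth.Agent.Lib.Helper3.PullLemmas
import Groth.Agent.Lib.Helper3.FreeBasis
import Groth.Agent.Lib.Helper3.ModGlue
import Groth.Agent.Lib.Helper13.PullBasis

/-!
# Helper20: descent of homomorphisms into finite locally free modules along a morphism `f` with
`O_Y → f_* O_X ⇉ g_* O_{X ×_Y X}` exact.
-/

set_option autoImplicit false
set_option linter.style.haveILetI false
universe u

open CategoryTheory CategoryTheory.Limits AlgebraicGeometry TopologicalSpace Opposite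
open Scheme.Modules

namespace Groth.Agent.Lib.Helper20.DescHom

open Groth.Agent.Lib.Helper3 Groth.Agent.Lib.Helper3.QCSec Groth.Agent.Lib.Helper3.FreeBasis
  Groth.Agent.Lib.Helper3.PbBasic Groth.Agent.Lib.Helper3.PullLemmas

variable {X Y : Scheme.{u}}

theorem pull_sum_smul (f : X ⟶ Y) (M : Y.Modules) (V : Y.Opens) {n : ℕ}
    (b : Fin n → Γ(Y, V)) (e : Fin n → Γ(M, V)) :
    pull f M V (∑ i, b i • e i) = ∑ i, (f.app V (b i)) • pull f M V (e i) := by
  have h : pull f M V (∑ i, b i • e i) = ∑ i, pull f M V (b i • e i) := by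
    unfold pull
    exact FreeBasis.app_sum _ V Finset.univ _
  rw [h]
  exact Finset.sum_congr rfl fun i _ => pull_smul f M V (b i) (e i)

theorem app_sum_smul {M N : X.Modules} (φ : M ⟶ N) (V : X.Opens) {n : ℕ}
    (b : Fin n → Γ(X, V)) (e : Fin n → Γ(M, V)) :
    φ.app V (∑ i, b i • e i) = ∑ i, b i • φ.app V (e i) := by
  rw [FreeBasis.app_sum]
  exact Finset.sum_congr rfl fun i _ => Scheme.Modules.Hom.app_smul φ (b i) (e i)

theorem res_sum_smul (M : X.Modules) {A B : X.Opens} (h : A ≤ B) {n : ℕ}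
    (b : Fin n → Γ(X, B)) (e : Fin n → Γ(M, B)) :
    res M h (∑ i, b i • e i) = ∑ i, rres X h (b i) • res M h (e i) := by
  have h1 : res M h (∑ i, b i • e i) = ∑ i, res M h (b i • e i) :=
    map_sum (M.presheaf.map (homOfLE h).op).hom _ _
  rw [h1]
  exact Finset.sum_congr rfl fun i _ => res_smul M h (b i) (e i)

/-- `pull` is injective on sections over an open where `M` has a basis, if `O_Y → f_*O_X` is
injective. -/
theorem pull_injective_of_isBasis (f : X ⟶ Y) (hinj : ∀ U : Y.Opens, Function.Injective (f.app U))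
    (M : Y.Modules) {V : Y.Opens} {n : ℕ} {e : Fin n → Γ(M, V)} (hb : IsBasis M V e) :
    Function.Injective (pull f M V) := by
  intro m m' hmm
  have h1 : IsBasisAt M V e := hb.self
  obtain ⟨b, rfl⟩ := h1.2 m
  obtain ⟨b', rfl⟩ := h1.2 m'
  have h2 : IsBasisAt ((Scheme.Modules.pullback f).obj M) (f ⁻¹ᵁ V)
      (fun i => pull f M V (e i)) := (Groth.Agent.Lib.Helper13.PullBasis.isBasis_pull f hb).self
  simp only [] at hmm
  rw [pull_sum_smul, pull_sum_smul] at hmm
  have h3 := h2.1 hmm
  have : b = b' := by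
    funext i
    exact hinj V (congrFun h3 i)
  rw [this]

end Groth.Agent.Lib.Helper20.DescHom
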