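import Mathlib
import Groth.Prelude
import Groth.Agent.Lib.Helper20.DescHom1

/-!
# Helper20: descent of homomorphisms — the coefficient computation.
-/

set_option autoImplicit false
set_option linter.style.haveILetI false
universe u

open CategoryTheory CategoryTheory.Limits AlgebraicGeometry TopologicalSpace Opposite
open Scheme.Modules

namespace Groth.Agent.Lib.Helper20.DescHom

open Groth.Agent.Lib.Helper3 Groth.Agent.Lib.Helper3.QCSec Groth.Agent.Lib.Helper3.FreeBasis
  Groth.Agent.Lib.Helper3.PbBasic Groth.Agent.Lib.Helper3.PullLemmas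

variable {X Y Z : Scheme.{u}}

/-- the section of `(p ≫ f)^* M` induced by a section of `f^* M`. -/
noncomputable def side (p : Z ⟶ X) (f : X ⟶ Y) (M : Y.Modules) (V : Y.Opens)
    (t : Γ((Scheme.Modules.pullback f).obj M, f ⁻¹ᵁ V)) :
    Γ((Scheme.Modules.pullback (p ≫ f)).obj M, (p ≫ f) ⁻¹ᵁ V) :=
  ((pullbackComp p f).hom.app M).app ((p ≫ f) ⁻¹ᵁ V)
    (pull p ((Scheme.Modules.pullback f).obj M) (f ⁻¹ᵁ V) t)

theorem side_sum (p : Z ⟶ X) (f : X ⟶ Y) (M : Y.Modules) (V : Y.Opens) {n : ℕ}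
    (a : Fin n → Γ(X, f ⁻¹ᵁ V)) (e : Fin n → Γ(M, V)) :
    side p f M V (∑ j, a j • pull f M V (e j)) =
      ∑ j, (show Γ(Z, (p ≫ f) ⁻¹ᵁ V) from p.app (f ⁻¹ᵁ V) (a j)) • pull (p ≫ f) M V (e j) := by
  unfold side
  rw [pull_sum_smul]
  have h := app_sum_smul ((pullbackComp p f).hom.app M) ((p ≫ f) ⁻¹ᵁ V)
    (fun j => (show Γ(Z, (p ≫ f) ⁻¹ᵁ V) from p.app (f ⁻¹ᵁ V) (a j)))
    (fun j => pull p ((Scheme.Modules.pullback f).obj M) (f ⁻¹ᵁ V) (pull f M V (e j)))
  refine h.trans ?_
  exact Finset.sum_congr rfl fun j _ => by rw [pullbackComp_hom_pull]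

theorem congr_side {g₁ g₂ : Z ⟶ Y} (c : g₁ = g₂) (M : Y.Modules) (V : Y.Opens)
    (hQ : g₁ ⁻¹ᵁ V ≤ g₂ ⁻¹ᵁ V) {n : ℕ} (a : Fin n → Γ(Z, g₂ ⁻¹ᵁ V)) (e : Fin n → Γ(M, V)) :
    ((pullbackCongr c).inv.app M).app (g₁ ⁻¹ᵁ V) (res _ hQ (∑ j, a j • pull g₂ M V (e j))) =
      ∑ j, rres Z hQ (a j) • pull g₁ M V (e j) := by
  rw [res_sum_smul, app_sum_smul]
  refine Finset.sum_congr rfl fun j _ => ?_
  rw [pullbackCongr_inv_pull c M V (e j) (g₁ ⁻¹ᵁ V) le_rfl hQ, res_self]

/-- the equation on sections given by the descent condition on `φ`. -/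
theorem descent_eq (f : X ⟶ Y) {L M : Y.Modules}
    (φ : (Scheme.Modules.pullback f).obj L ⟶ (Scheme.Modules.pullback f).obj M)
    (hφ : ((pullbackComp (pullback.fst f f) f).app L).inv ≫
        (Scheme.Modules.pullback (pullback.fst f f)).map φ ≫
          ((pullbackComp (pullback.fst f f) f).app M).hom =
      ((pullbackCongr (pullback.condition (f := f) (g := f))).app L).hom ≫
        ((pullbackComp (pullback.snd f f) f).app L).inv ≫
        (Scheme.Modules.pullback (pullback.snd f f)).map φ ≫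
          ((pullbackComp (pullback.snd f f) f).app M).hom ≫
        ((pullbackCongr (pullback.condition (f := f) (g := f))).app M).inv)
    (V : Y.Opens) (s : Γ(L, V))
    (hQ : (pullback.fst f f ≫ f) ⁻¹ᵁ V ≤ (pullback.snd f f ≫ f) ⁻¹ᵁ V) :
    side (pullback.fst f f) f M V (φ.app (f ⁻¹ᵁ V) (pull f L V s)) =
      ((pullbackCongr (pullback.condition (f := f) (g := f))).inv.app M).app
        ((pullback.fst f f ≫ f) ⁻¹ᵁ V)
        (res _ hQ (side (pullback.snd f f) f M V (φ.app (f ⁻¹ᵁ V) (pull f L V s)))) := by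
  have h := congrArg (fun α => (Scheme.Modules.Hom.app α ((pullback.fst f f ≫ f) ⁻¹ᵁ V))
    (pull (pullback.fst f f ≫ f) L V s)) hφ
  -- left hand side
  have hL : (Scheme.Modules.Hom.app (((pullbackComp (pullback.fst f f) f).app L).inv ≫
        (Scheme.Modules.pullback (pullback.fst f f)).map φ ≫
          ((pullbackComp (pullback.fst f f) f).app M).hom) ((pullback.fst f f ≫ f) ⁻¹ᵁ V))
      (pull (pullback.fst f f ≫ f) L V s) =
      side (pullback.fst f f) f M V (φ.app (f ⁻¹ᵁ V) (pull f L V s)) := by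
    change ((pullbackComp (pullback.fst f f) f).hom.app M).app ((pullback.fst f f ≫ f) ⁻¹ᵁ V)
      (((Scheme.Modules.pullback (pullback.fst f f)).map φ).app _
        (((pullbackComp (pullback.fst f f) f).inv.app L).app ((pullback.fst f f ≫ f) ⁻¹ᵁ V)
          (pull (pullback.fst f f ≫ f) L V s))) = _
    rw [pullbackComp_inv_pull]
    unfold side
    congr 1
    exact pull_app (pullback.fst f f) φ (f ⁻¹ᵁ V) (pull f L V s)
  -- right hand side
  have hR : (Scheme.Modules.Hom.app
      (((pullbackCongr (pullback.condition (f := f) (g := f))).app L).hom ≫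
        ((pullbackComp (pullback.snd f f) f).app L).inv ≫
        (Scheme.Modules.pullback (pullback.snd f f)).map φ ≫
          ((pullbackComp (pullback.snd f f) f).app M).hom ≫
        ((pullbackCongr (pullback.condition (f := f) (g := f))).app M).inv)
        ((pullback.fst f f ≫ f) ⁻¹ᵁ V)) (pull (pullback.fst f f ≫ f) L V s) =
      ((pullbackCongr (pullback.condition (f := f) (g := f))).inv.app M).app
        ((pullback.fst f f ≫ f) ⁻¹ᵁ V)
        (res _ hQ (side (pullback.snd f f) f M V (φ.app (f ⁻¹ᵁ V) (pull f L V s)))) := by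
    change ((pullbackCongr (pullback.condition (f := f) (g := f))).inv.app M).app
        ((pullback.fst f f ≫ f) ⁻¹ᵁ V)
      (((pullbackComp (pullback.snd f f) f).hom.app M).app ((pullback.fst f f ≫ f) ⁻¹ᵁ V)
        (((Scheme.Modules.pullback (pullback.snd f f)).map φ).app ((pullback.fst f f ≫ f) ⁻¹ᵁ V)
          (((pullbackComp (pullback.snd f f) f).inv.app L).app ((pullback.fst f f ≫ f) ⁻¹ᵁ V)
            (((pullbackCongr (pullback.condition (f := f) (g := f))).hom.app L).app
              ((pullback.fst f f ≫ f) ⁻¹ᵁ V) (pull (pullback.fst f f ≫ f) L V s))))) = _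
    have e1 : ((pullbackCongr (pullback.condition (f := f) (g := f))).hom.app L).app
        ((pullback.fst f f ≫ f) ⁻¹ᵁ V) (pull (pullback.fst f f ≫ f) L V s) =
        res _ hQ (pull (pullback.snd f f ≫ f) L V s) := by
      have := pullbackCongr_hom_pull (pullback.condition (f := f) (g := f)) L V s
        ((pullback.fst f f ≫ f) ⁻¹ᵁ V) le_rfl hQ
      rwa [res_self] at this
    have e2 : ((pullbackComp (pullback.snd f f) f).inv.app L).app ((pullback.fst f f ≫ f) ⁻¹ᵁ V)
        (res _ hQ (pull (pullback.snd f f ≫ f) L V s)) =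
        res _ hQ (pull (pullback.snd f f) ((Scheme.Modules.pullback f).obj L) (f ⁻¹ᵁ V)
          (pull f L V s)) :=
      (QCExact.app_res' ((pullbackComp (pullback.snd f f) f).inv.app L) hQ _).trans
        (congrArg (fun z => res _ hQ z) (pullbackComp_inv_pull (pullback.snd f f) f L V s))
    have e3 : ((Scheme.Modules.pullback (pullback.snd f f)).map φ).app
        ((pullback.fst f f ≫ f) ⁻¹ᵁ V)
        (res _ hQ (pull (pullback.snd f f) ((Scheme.Modules.pullback f).obj L) (f ⁻¹ᵁ V)
          (pull f L V s))) =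
        res _ hQ (pull (pullback.snd f f) ((Scheme.Modules.pullback f).obj M) (f ⁻¹ᵁ V)
          (φ.app (f ⁻¹ᵁ V) (pull f L V s))) :=
      (QCExact.app_res' ((Scheme.Modules.pullback (pullback.snd f f)).map φ) hQ _).trans
        (congrArg (fun z => res _ hQ z)
          (pull_app (pullback.snd f f) φ (f ⁻¹ᵁ V) (pull f L V s)))
    have e4 : ((pullbackComp (pullback.snd f f) f).hom.app M).app ((pullback.fst f f ≫ f) ⁻¹ᵁ V)
        (res _ hQ (pull (pullback.snd f f) ((Scheme.Modules.pullback f).obj M) (f ⁻¹ᵁ V)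
          (φ.app (f ⁻¹ᵁ V) (pull f L V s)))) =
        res _ hQ (side (pullback.snd f f) f M V (φ.app (f ⁻¹ᵁ V) (pull f L V s))) :=
      QCExact.app_res' ((pullbackComp (pullback.snd f f) f).hom.app M) hQ _
    have c1 := congrArg (fun z => ((pullbackComp (pullback.snd f f) f).inv.app L).app
      ((pullback.fst f f ≫ f) ⁻¹ᵁ V) z) e1
    have c2 := c1.trans e2
    have c3 := (congrArg (fun z => ((Scheme.Modules.pullback (pullback.snd f f)).map φ).app
      ((pullback.fst f f ≫ f) ⁻¹ᵁ V) z) c2).trans e3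
    have c4 := (congrArg (fun z => ((pullbackComp (pullback.snd f f) f).hom.app M).app
      ((pullback.fst f f ≫ f) ⁻¹ᵁ V) z) c3).trans e4
    exact congrArg (fun z => ((pullbackCongr (pullback.condition (f := f) (g := f))).inv.app M).app
      ((pullback.fst f f ≫ f) ⁻¹ᵁ V) z) c4
  rw [← hL, ← hR]
  exact h

end Groth.Agent.Lib.Helper20.DescHom
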