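import Mathlib
import Groth.Prelude
import Groth.Agent.Lib.Helper20.DescHom2

/-!
# Helper20: descent of homomorphisms into finite locally free modules — main theorem.
-/

set_option autoImplicit false
set_option linter.style.haveILetI false
universe u

open CategoryTheory CategoryTheory.Limits AlgebraicGeometry TopologicalSpace Opposite
open Scheme.Modules

namespace Groth.Agent.Lib.Helper20.DescHom

open Groth.Agent.Lib.Helper3 Groth.Agent.Lib.Helper3.QCSec Groth.Agent.Lib.Helper3.FreeBasis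
  Groth.Agent.Lib.Helper3.PbBasic Groth.Agent.Lib.Helper3.PullLemmas

variable {X Y : Scheme.{u}}

theorem pull_add (f : X ⟶ Y) (M : Y.Modules) (V : Y.Opens) (a b : Γ(M, V)) :
    pull f M V (a + b) = pull f M V a + pull f M V b := by
  unfold pull
  exact QCExact.app_add _ V a b

set_option maxHeartbeats 1600000 in
/-- over an open where `M` has a basis, `φ (f^* s)` is the pullback of a section of `M`. -/
theorem exists_section (f : X ⟶ Y)
    (hU : ∀ U : Y.Opens, (pullback.fst f f) ⁻¹ᵁ (f ⁻¹ᵁ U) = (pullback.snd f f) ⁻¹ᵁ (f ⁻¹ᵁ U))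
    (hex : ∀ (U : Y.Opens) (a : Γ(X, f ⁻¹ᵁ U)),
      (pullback.fst f f).app (f ⁻¹ᵁ U) a =
        ((pullback f f).presheaf.map (eqToHom (hU U)).op) ((pullback.snd f f).app (f ⁻¹ᵁ U) a) →
      a ∈ Set.range (f.app U))
    {L M : Y.Modules}
    (φ : (Scheme.Modules.pullback f).obj L ⟶ (Scheme.Modules.pullback f).obj M)
    (hφ : ((pullbackComp (pullback.fst f f) f).app L).inv ≫
        (Scheme.Modules.pullback (pullback.fst f f)).map φ ≫
          ((pullbackComp (pullback.fst f f) f).app M).hom =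
      ((pullbackCongr (pullback.condition (f := f) (g := f))).app L).hom ≫
        ((pullbackComp (pullback.snd f f) f).app L).inv ≫
        (Scheme.Modules.pullback (pullback.snd f f)).map φ ≫
          ((pullbackComp (pullback.snd f f) f).app M).hom ≫
        ((pullbackCongr (pullback.condition (f := f) (g := f))).app M).inv)
    (V : Y.Opens) {m : ℕ} (e : Fin m → Γ(M, V)) (hb : IsBasis M V e) (s : Γ(L, V)) :
    ∃ x : Γ(M, V), pull f M V x = φ.app (f ⁻¹ᵁ V) (pull f L V s) := by
  have hbX : IsBasisAt ((Scheme.Modules.pullback f).obj M) (f ⁻¹ᵁ V)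
      (fun j => pull f M V (e j)) := (Groth.Agent.Lib.Helper13.PullBasis.isBasis_pull f hb).self
  obtain ⟨a, ha⟩ := hbX.2 (φ.app (f ⁻¹ᵁ V) (pull f L V s))
  have ha' : ∑ j, a j • pull f M V (e j) = φ.app (f ⁻¹ᵁ V) (pull f L V s) := ha
  have hQ : (pullback.fst f f ≫ f) ⁻¹ᵁ V ≤ (pullback.snd f f ≫ f) ⁻¹ᵁ V := le_of_eq (hU V)
  have key := descent_eq f φ hφ V s hQ
  rw [← ha', side_sum, side_sum, congr_side] at key
  have hbP : IsBasisAt ((Scheme.Modules.pullback (pullback.fst f f ≫ f)).obj M)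
      ((pullback.fst f f ≫ f) ⁻¹ᵁ V) (fun j => pull (pullback.fst f f ≫ f) M V (e j)) :=
    (Groth.Agent.Lib.Helper13.PullBasis.isBasis_pull (pullback.fst f f ≫ f) hb).self
  have hcoef := hbP.1 key
  have hdesc : ∀ j, ∃ b : Γ(Y, V), f.app V b = a j := by
    intro j
    apply hex V (a j)
    have h1 := congrFun hcoef j
    have h2 : (homOfLE hQ) = eqToHom (hU V) := Subsingleton.elim _ _
    rw [← h2]
    exact h1
  choose b hb' using hdesc
  refine ⟨∑ j, b j • e j, ?_⟩
  rw [pull_sum_smul, ← ha']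
  exact Finset.sum_congr rfl fun j _ => by rw [hb']

set_option maxHeartbeats 1600000 in
theorem main (f : X ⟶ Y)
    (hU : ∀ U : Y.Opens, (pullback.fst f f) ⁻¹ᵁ (f ⁻¹ᵁ U) = (pullback.snd f f) ⁻¹ᵁ (f ⁻¹ᵁ U))
    (hinj : ∀ U : Y.Opens, Function.Injective (f.app U))
    (hex : ∀ (U : Y.Opens) (a : Γ(X, f ⁻¹ᵁ U)),
      (pullback.fst f f).app (f ⁻¹ᵁ U) a =
        ((pullback f f).presheaf.map (eqToHom (hU U)).op) ((pullback.snd f f).app (f ⁻¹ᵁ U) a) →
      a ∈ Set.range (f.app U))
    (L M : Y.Modules) (hM : FlatMod.IsFinLocFree M)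
    (φ : (Scheme.Modules.pullback f).obj L ⟶ (Scheme.Modules.pullback f).obj M)
    (hφ : ((pullbackComp (pullback.fst f f) f).app L).inv ≫
        (Scheme.Modules.pullback (pullback.fst f f)).map φ ≫
          ((pullbackComp (pullback.fst f f) f).app M).hom =
      ((pullbackCongr (pullback.condition (f := f) (g := f))).app L).hom ≫
        ((pullbackComp (pullback.snd f f) f).app L).inv ≫
        (Scheme.Modules.pullback (pullback.snd f f)).map φ ≫
          ((pullbackComp (pullback.snd f f) f).app M).hom ≫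
        ((pullbackCongr (pullback.condition (f := f) (g := f))).app M).inv) :
    ∃! ψ : L ⟶ M, (Scheme.Modules.pullback f).map ψ = φ := by
  let Small : Y.Opens → Prop := fun V => ∃ (m : ℕ) (e : Fin m → Γ(M, V)), IsBasis M V e
  have hmono : ∀ {V V' : Y.Opens}, V' ≤ V → Small V → Small V' := by
    rintro V V' h ⟨m, e, he⟩
    exact ⟨m, _, he.mono h⟩
  have hcov : ∀ y : Y, ∃ V : Y.Opens, Small V ∧ y ∈ V := by
    intro y
    obtain ⟨U, n, hyU, ⟨iso⟩⟩ := hM y
    obtain ⟨e, he⟩ := exists_isBasis_of_iso iso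
    exact ⟨U, ⟨n, e, he⟩, hyU⟩
  have hcov' : ∀ (W : Y.Opens) (y : Y), y ∈ W → ∃ V : Y.Opens, Small V ∧ y ∈ V ∧ V ≤ W := by
    intro W y hy
    obtain ⟨V, hV, hyV⟩ := hcov y
    exact ⟨V ⊓ W, hmono inf_le_left hV, ⟨hyV, hy⟩, inf_le_right⟩
  have hinjV : ∀ V : Y.Opens, Small V → Function.Injective (pull f M V) := by
    rintro V ⟨m, e, he⟩
    exact pull_injective_of_isBasis f hinj M he
  have hexists : ∀ (V : Y.Opens), Small V → ∀ s : Γ(L, V),
      ∃ x : Γ(M, V), pull f M V x = φ.app (f ⁻¹ᵁ V) (pull f L V s) := by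
    rintro V ⟨m, e, he⟩ s
    exact exists_section f hU hex φ hφ V e he s
  choose D hD using hexists
  obtain ⟨ψ, hψ⟩ := ModGlue.exists_hom_of_small (M := L) (N := M) Small hmono hcov D
    (by
      intro V hV s s'
      apply hinjV V hV
      rw [hD V hV (s + s'), pull_add, pull_add, QCExact.app_add, hD V hV s, hD V hV s'])
    (by
      intro V hV a s
      apply hinjV V hV
      rw [hD V hV (a • s), pull_smul, pull_smul, Scheme.Modules.Hom.app_smul, hD V hV s])
    (by
      intro V V' h hV hV' s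
      apply hinjV V' hV'
      rw [hD V' hV' (res L h s), ← res_pull f M h, hD V hV s, ← res_pull f L h,
        QCExact.app_res'])
  have hψφ : (Scheme.Modules.pullback f).map ψ = φ := by
    apply hom_ext_pull f Small hcov'
    intro U hUs e
    rw [pull_app, hψ U hUs e, hD U hUs e]
  refine ⟨ψ, hψφ, ?_⟩
  intro ψ' hψ'
  apply ModGlue.hom_ext_of_small Small hcov'
  intro V hV s
  apply hinjV V hV
  rw [← pull_app, ← pull_app, hψ', hψφ]

end Groth.Agent.Lib.Helper20.DescHom
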