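import Mathlib

/-!
# Helper20: flatness of a closed subscheme over an affine base, checked on affine quotients
(F2 for helper9 / helper18 R3, S12274 + S12272)
-/

set_option autoImplicit false
set_option linter.style.haveILetI false
universe u
open CategoryTheory CategoryTheory.Limits AlgebraicGeometry

namespace Groth.Agent.Lib.Helper20.EmbR3F2

/-- F2 (schemes, Mathlib only): flatness of a closed subscheme over an affine base can be checked
on the quotients `Γ(Y, W) ⧸ I(W)`, `W` affine open in `Y`. -/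
theorem flat_subschemeι_comp {Y : Scheme.{u}} {R : CommRingCat.{u}} (f : Y ⟶ Spec R)
    (I : Y.IdealSheafData)
    (H : ∀ W : Y.affineOpens, ((Ideal.Quotient.mk (I.ideal W)).comp
      ((Scheme.ΓSpecIso R).inv ≫ f.appLE ⊤ W.1 le_top).hom).Flat) :
    Flat (I.subschemeι ≫ f) := by
  let U : Y.affineOpens → I.subscheme.affineOpens :=
    fun W => ⟨I.subschemeι ⁻¹ᵁ W.1, W.2.preimage I.subschemeι⟩
  have hU : ⨆ W, ((U W : I.subscheme.affineOpens) : I.subscheme.Opens) = ⊤ := by
    change ⨆ W : Y.affineOpens, I.subschemeι ⁻¹ᵁ W.1 = ⊤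
    rw [← Scheme.Hom.preimage_iSup, iSup_affineOpens_eq_top]
    rfl
  rw [HasRingHomProperty.iff_of_iSup_eq_top (P := @Flat) U hU]
  intro W
  have e1 : (I.subschemeι ≫ f).appLE ⊤ (U W).1 le_top =
      f.appLE ⊤ W.1 le_top ≫ I.subschemeι.app W.1 := by
    rw [Scheme.Hom.app_eq_appLE, Scheme.Hom.appLE_comp_appLE]
  rw [e1, I.subschemeι_app W]
  have h1 : (Scheme.ΓSpecIso R).hom.hom.Flat :=
    RingHom.Flat.of_bijective (ConcreteCategory.bijective_of_isIso (Scheme.ΓSpecIso R).hom)
  have h3 : (I.subschemeObjIso W).inv.hom.Flat :=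
    RingHom.Flat.of_bijective (ConcreteCategory.bijective_of_isIso (I.subschemeObjIso W).inv)
  have h := (h1.comp (H W)).comp h3
  convert h using 1
  ext a
  simp only [CommRingCat.hom_comp, RingHom.coe_comp, Function.comp_apply, CommRingCat.hom_ofHom]
  congr 3
  exact (ConcreteCategory.congr_hom (Scheme.ΓSpecIso R).hom_inv_id a).symm

end Groth.Agent.Lib.Helper20.EmbR3F2
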