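import Mathlib

/-!
# Abelian groups with an "essential" element (helper20)

An abelian group `A` killed by `m > 0` with a nonzero element lying in every nonzero subgroup is
finite of cardinality at most `m`.
-/

set_option autoImplicit false
universe u

namespace Groth.Agent.Lib.Helper20.EssentialGroup

/-- transfer of the essential element to a subgroup containing it -/
theorem essential_subgroup {A : Type u} [AddCommGroup A] (a : A)
    (h : ∀ B : AddSubgroup A, B ≠ ⊥ → a ∈ B) (S : AddSubgroup A) (haS : a ∈ S)
    (C : AddSubgroup S) (hC : C ≠ ⊥) : (⟨a, haS⟩ : S) ∈ C := by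
  have hne : C.map S.subtype ≠ ⊥ := by
    intro h0
    apply hC
    rw [eq_bot_iff]
    intro c hc
    have : S.subtype c ∈ C.map S.subtype := ⟨c, hc, rfl⟩
    rw [h0, AddSubgroup.mem_bot] at this
    rw [AddSubgroup.mem_bot]
    exact Subtype.ext this
  obtain ⟨c, hc, hca⟩ := h _ hne
  have : c = ⟨a, haS⟩ := Subtype.ext hca
  rwa [← this]

theorem card_le_of_essential : ∀ (m : ℕ), 0 < m → ∀ (A : Type u) [AddCommGroup A] (a : A),
    a ≠ 0 → (∀ B : AddSubgroup A, B ≠ ⊥ → a ∈ B) → (∀ x : A, m • x = 0) →
    0 < Nat.card A ∧ Nat.card A ≤ m := by
  intro m
  induction m using Nat.strong_induction_on with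
  | _ m ih =>
    intro hm A _ a ha hess hexp
    rcases Nat.lt_or_ge m 2 with hm2 | hm2
    · have hm1 : m = 1 := by omega
      subst hm1
      exact absurd (by simpa using hexp a) ha
    · have hp : (m.minFac).Prime := Nat.minFac_prime (by omega)
      obtain ⟨m', hm'⟩ : m.minFac ∣ m := Nat.minFac_dvd m
      generalize m.minFac = p at hp hm'
      have hp0 : 0 < p := hp.pos
      have hm'0 : 0 < m' := by
        rcases Nat.eq_zero_or_pos m' with h0 | h0
        · rw [h0, mul_zero] at hm'; omega
        · exact h0
      have hm'lt : m' < m := by
        rw [hm']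
        calc m' = 1 * m' := (one_mul _).symm
          _ < p * m' := Nat.mul_lt_mul_of_pos_right hp.one_lt hm'0
      let φ : A →+ A := nsmulAddMonoidHom p
      have hφ : ∀ x, φ x = p • x := fun x => rfl
      -- kernel bound
      have hK : 0 < Nat.card φ.ker ∧ Nat.card φ.ker ≤ p := by
        by_cases hKb : φ.ker = ⊥
        · rw [hKb, AddSubgroup.card_bot]; exact ⟨one_pos, hp0⟩
        · have haK : a ∈ φ.ker := hess _ hKb
          have hpa : p • a = 0 := haK
          have hKz : φ.ker = AddSubgroup.zmultiples a := by
            apply le_antisymm
            · intro x hx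
              have hpx : p • x = 0 := hx
              by_cases hx0 : x = 0
              · rw [hx0]; exact zero_mem _
              · have hzx : AddSubgroup.zmultiples x ≠ ⊥ := by
                  intro h0
                  have : x ∈ AddSubgroup.zmultiples x := AddSubgroup.mem_zmultiples x
                  rw [h0, AddSubgroup.mem_bot] at this
                  exact hx0 this
                obtain ⟨k, hk⟩ := AddSubgroup.mem_zmultiples_iff.1 (hess _ hzx)
                have hcop : IsCoprime k (p : ℤ) := by
                  rw [Int.isCoprime_iff_gcd_eq_one]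
                  have hpp : Prime (p : ℤ) := Nat.prime_iff_prime_int.1 hp
                  by_contra hg
                  have hdvd : (p : ℤ) ∣ k := by
                    have h1 : Int.gcd k p ∣ p := Int.gcd_dvd_natAbs_right k p |>.trans (by simp)
                    rcases (Nat.dvd_prime hp).1 h1 with h2 | h2
                    · exact absurd h2 hg
                    · have := Int.gcd_dvd_left k (p : ℤ)
                      rwa [h2] at this
                  obtain ⟨l, rfl⟩ := hdvd
                  apply ha
                  rw [← hk, mul_comm, mul_smul, natCast_zsmul, hpx, smul_zero]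
                obtain ⟨u, v, huv⟩ := hcop
                have : x = u • a := by
                  have h1 : (u * k + v * p) • x = x := by rw [huv, one_smul]
                  rw [add_smul, mul_smul, mul_smul, hk, natCast_zsmul, hpx, smul_zero,
                    add_zero] at h1
                  exact h1.symm
                rw [this]
                exact AddSubgroup.zsmul_mem _ (AddSubgroup.mem_zmultiples a) u
            · rw [AddSubgroup.zmultiples_le]; exact haK
          rw [hKz, Nat.card_zmultiples]
          have hdvd : addOrderOf a ∣ p := addOrderOf_dvd_of_nsmul_eq_zero hpa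
          exact ⟨Nat.pos_of_dvd_of_pos hdvd hp0, Nat.le_of_dvd hp0 hdvd⟩
      -- range bound
      have hR : 0 < Nat.card φ.range ∧ Nat.card φ.range ≤ m' := by
        by_cases hRb : φ.range = ⊥
        · rw [hRb, AddSubgroup.card_bot]; exact ⟨one_pos, hm'0⟩
        · have haR : a ∈ φ.range := hess _ hRb
          refine ih m' hm'lt hm'0 φ.range ⟨a, haR⟩ (fun h0 => ha (congrArg Subtype.val h0))
            (fun C hC => essential_subgroup a hess φ.range haR C hC) ?_
          rintro ⟨y, x, rfl⟩
          apply Subtype.ext
          rw [AddSubgroup.coe_nsmul, AddSubgroup.coe_zero]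
          change m' • φ x = 0
          rw [hφ, ← mul_nsmul, ← hm']
          exact hexp x
      have hcard : Nat.card A = Nat.card φ.range * Nat.card φ.ker := by
        rw [AddSubgroup.card_eq_card_quotient_mul_card_addSubgroup φ.ker,
          Nat.card_congr (QuotientAddGroup.quotientKerEquivRange φ).toEquiv]
      rw [hcard, hm']
      refine ⟨Nat.mul_pos hR.1 hK.1, ?_⟩
      calc Nat.card φ.range * Nat.card φ.ker ≤ m' * p := Nat.mul_le_mul hR.2 hK.2
        _ = p * m' := mul_comm _ _

end Groth.Agent.Lib.Helper20.EssentialGroup
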