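import Mathlib

/-!
# Length bookkeeping for long exact sequences (helper20)
-/

set_option autoImplicit false
set_option linter.unusedSectionVars false
set_option linter.unusedVariables false
set_option linter.style.haveILetI false

universe u v

namespace Groth.Agent.Lib.Helper20.ExtChi

variable {R : Type u} [Ring R]

section basic

variable {A : Type*} {B : Type*} {C : Type*} [AddCommGroup A] [Module R A] [AddCommGroup B]
  [Module R B] [AddCommGroup C] [Module R C]

/-- For an exact `A → B → C`: `ℓ(B) = ℓ(range f) + ℓ(range g)`. -/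
theorem length_eq_range_add_range (f : A →ₗ[R] B) (g : B →ₗ[R] C) (h : Function.Exact f g) :
    Module.length R B =
      Module.length R (LinearMap.range f) + Module.length R (LinearMap.range g) := by
  refine Module.length_eq_add_of_exact (LinearMap.range f).subtype g.rangeRestrict
    (Submodule.injective_subtype _) g.surjective_rangeRestrict ?_
  intro b
  constructor
  · intro hb
    have hb' : g b = 0 := congrArg Subtype.val hb
    obtain ⟨a, rfl⟩ := (h b).1 hb'
    exact ⟨⟨f a, a, rfl⟩, rfl⟩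
  · rintro ⟨⟨_, a, rfl⟩, rfl⟩
    apply Subtype.ext
    exact (h (f a)).2 ⟨a, rfl⟩

theorem length_range_of_injective (f : A →ₗ[R] B) (hf : Function.Injective f) :
    Module.length R (LinearMap.range f) = Module.length R A :=
  (LinearEquiv.ofInjective f hf).length_eq.symm

theorem length_range_of_surjective (f : A →ₗ[R] B) (hf : Function.Surjective f) :
    Module.length R (LinearMap.range f) = Module.length R B := by
  rw [LinearMap.range_eq_top.2 hf]
  exact (Submodule.topEquiv (R := R) (M := B)).length_eq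

end basic

section four

variable {A₁ A₂ A₃ A₄ : Type*} [AddCommGroup A₁] [Module R A₁] [AddCommGroup A₂] [Module R A₂]
  [AddCommGroup A₃] [Module R A₃] [AddCommGroup A₄] [Module R A₄]

/-- `0 → A₁ → A₂ → A₃ → A₄ → 0` exact: `ℓ(A₁) + ℓ(A₃) = ℓ(A₂) + ℓ(A₄)`. -/
theorem length_four (f₁ : A₁ →ₗ[R] A₂) (f₂ : A₂ →ₗ[R] A₃) (f₃ : A₃ →ₗ[R] A₄)
    (h₁ : Function.Injective f₁) (h₁₂ : Function.Exact f₁ f₂) (h₂₃ : Function.Exact f₂ f₃)
    (h₃ : Function.Surjective f₃) :
    Module.length R A₁ + Module.length R A₃ = Module.length R A₂ + Module.length R A₄ := by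
  rw [length_eq_range_add_range f₁ f₂ h₁₂, length_eq_range_add_range f₂ f₃ h₂₃,
    length_range_of_injective f₁ h₁, length_range_of_surjective f₃ h₃]
  abel

end four

section nine

variable {A₁ A₂ A₃ A₄ A₅ A₆ A₇ A₈ A₉ : Type*}
  [AddCommGroup A₁] [Module R A₁] [AddCommGroup A₂] [Module R A₂]
  [AddCommGroup A₃] [Module R A₃] [AddCommGroup A₄] [Module R A₄]
  [AddCommGroup A₅] [Module R A₅] [AddCommGroup A₆] [Module R A₆]
  [AddCommGroup A₇] [Module R A₇] [AddCommGroup A₈] [Module R A₈]
  [AddCommGroup A₉] [Module R A₉]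

/-- Nine-term exact sequence `0 → A₁ → ⋯ → A₉ → 0`: the alternating sum of lengths vanishes. -/
theorem length_nine (f₁ : A₁ →ₗ[R] A₂) (f₂ : A₂ →ₗ[R] A₃) (f₃ : A₃ →ₗ[R] A₄)
    (f₄ : A₄ →ₗ[R] A₅) (f₅ : A₅ →ₗ[R] A₆) (f₆ : A₆ →ₗ[R] A₇) (f₇ : A₇ →ₗ[R] A₈)
    (f₈ : A₈ →ₗ[R] A₉)
    (h₁ : Function.Injective f₁) (h₁₂ : Function.Exact f₁ f₂) (h₂₃ : Function.Exact f₂ f₃)
    (h₃₄ : Function.Exact f₃ f₄) (h₄₅ : Function.Exact f₄ f₅) (h₅₆ : Function.Exact f₅ f₆)
    (h₆₇ : Function.Exact f₆ f₇) (h₇₈ : Function.Exact f₇ f₈) (h₈ : Function.Surjective f₈) :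
    Module.length R A₁ + Module.length R A₃ + Module.length R A₅ + Module.length R A₇ +
        Module.length R A₉ =
      Module.length R A₂ + Module.length R A₄ + Module.length R A₆ + Module.length R A₈ := by
  rw [length_eq_range_add_range f₁ f₂ h₁₂, length_eq_range_add_range f₂ f₃ h₂₃,
    length_eq_range_add_range f₃ f₄ h₃₄, length_eq_range_add_range f₄ f₅ h₄₅,
    length_eq_range_add_range f₅ f₆ h₅₆, length_eq_range_add_range f₆ f₇ h₆₇,
    length_eq_range_add_range f₇ f₈ h₇₈,
    ← length_range_of_injective f₁ h₁, ← length_range_of_surjective f₈ h₈]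
  abel

end nine

end Groth.Agent.Lib.Helper20.ExtChi
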