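import Mathlib
import Groth.Agent.Lib.Helper20.ExtChi1

/-!
# Lengths in the covariant long exact `Ext` sequence (helper20)
-/

set_option autoImplicit false
set_option linter.unusedSectionVars false
set_option linter.unusedVariables false
set_option linter.style.haveILetI false
set_option maxHeartbeats 400000

open CategoryTheory Limits Abelian

universe u

namespace Groth.Agent.Lib.Helper20.ExtChi

variable {R : Type u} [CommRing R]

section cov

variable (M : ModuleCat.{u} R) {S : ShortComplex (ModuleCat.{u} R)} (hS : S.ShortExact)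

/-- `Ext^i(M, X₁) → Ext^i(M, X₂)`. -/
noncomputable def covA (i : ℕ) : Ext.{u} M S.X₁ i →ₗ[R] Ext.{u} M S.X₂ i :=
  Ext.postcompOfLinear (Ext.mk₀ S.f) R M (add_zero i)

/-- `Ext^i(M, X₂) → Ext^i(M, X₃)`. -/
noncomputable def covB (i : ℕ) : Ext.{u} M S.X₂ i →ₗ[R] Ext.{u} M S.X₃ i :=
  Ext.postcompOfLinear (Ext.mk₀ S.g) R M (add_zero i)

/-- `Ext^i(M, X₃) → Ext^{i+1}(M, X₁)`. -/
noncomputable def covD (i : ℕ) : Ext.{u} M S.X₃ i →ₗ[R] Ext.{u} M S.X₁ (i + 1) :=
  Ext.postcompOfLinear hS.extClass R M rfl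

lemma covA_apply (i : ℕ) (x : Ext.{u} M S.X₁ i) :
    covA M (S := S) i x = x.comp (Ext.mk₀ S.f) (add_zero i) := rfl

lemma covB_apply (i : ℕ) (x : Ext.{u} M S.X₂ i) :
    covB M (S := S) i x = x.comp (Ext.mk₀ S.g) (add_zero i) := rfl

lemma covD_apply (i : ℕ) (x : Ext.{u} M S.X₃ i) :
    covD M hS i x = x.comp hS.extClass rfl := rfl

include hS in
lemma covA_injective_zero : Function.Injective (covA M (S := S) 0) := by
  haveI : Mono S.f := hS.mono_f
  exact Ext.postcomp_mk₀_injective_of_mono M S.f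

include hS in
lemma exact_covA_covB (i : ℕ) : Function.Exact (covA M (S := S) i) (covB M (S := S) i) := by
  intro x
  constructor
  · intro hx
    obtain ⟨x₁, hx₁⟩ := Ext.covariant_sequence_exact₂ M hS x hx
    exact ⟨x₁, hx₁⟩
  · rintro ⟨x₁, rfl⟩
    rw [covA_apply, covB_apply, Ext.comp_assoc_of_third_deg_zero, Ext.mk₀_comp_mk₀, S.zero,
      Ext.mk₀_zero, Ext.comp_zero]

lemma exact_covB_covD (i : ℕ) : Function.Exact (covB M (S := S) i) (covD M hS i) := by
  intro x
  constructor
  · intro hx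
    obtain ⟨x₂, hx₂⟩ := Ext.covariant_sequence_exact₃ M hS x rfl hx
    exact ⟨x₂, hx₂⟩
  · rintro ⟨x₂, rfl⟩
    rw [covB_apply, covD_apply, Ext.comp_assoc_of_second_deg_zero,
      ShortComplex.ShortExact.comp_extClass, Ext.comp_zero]

lemma exact_covD_covA (i : ℕ) : Function.Exact (covD M hS i) (covA M (S := S) (i + 1)) := by
  intro x
  constructor
  · intro hx
    obtain ⟨x₃, hx₃⟩ := Ext.covariant_sequence_exact₁ M hS x hx rfl
    exact ⟨x₃, hx₃⟩
  · rintro ⟨x₃, rfl⟩
    rw [covD_apply, covA_apply, Ext.comp_assoc_of_third_deg_zero,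
      ShortComplex.ShortExact.extClass_comp, Ext.comp_zero]

include hS in
lemma covB_surjective_of_subsingleton (i : ℕ) [Subsingleton (Ext.{u} M S.X₁ (i + 1))] :
    Function.Surjective (covB M (S := S) i) := by
  intro x
  exact (exact_covB_covD M hS i x).1 (Subsingleton.elim _ _)

include hS in
/-- Euler characteristic additivity for `Ext^{0,1,2}(M, -)` when `Ext^3(M, X₁) = 0`. -/
theorem length_ext_cov [Subsingleton (Ext.{u} M S.X₁ 3)] :
    Module.length R (Ext.{u} M S.X₁ 0) + Module.length R (Ext.{u} M S.X₃ 0) +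
        Module.length R (Ext.{u} M S.X₂ 1) + Module.length R (Ext.{u} M S.X₁ 2) +
        Module.length R (Ext.{u} M S.X₃ 2) =
      Module.length R (Ext.{u} M S.X₂ 0) + Module.length R (Ext.{u} M S.X₁ 1) +
        Module.length R (Ext.{u} M S.X₃ 1) + Module.length R (Ext.{u} M S.X₂ 2) :=
  length_nine (covA M (S := S) 0) (covB M (S := S) 0) (covD M hS 0) (covA M (S := S) 1)
    (covB M (S := S) 1) (covD M hS 1) (covA M (S := S) 2) (covB M (S := S) 2)
    (covA_injective_zero M hS) (exact_covA_covB M hS 0) (exact_covB_covD M hS 0)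
    (exact_covD_covA M hS 0) (exact_covA_covB M hS 1) (exact_covB_covD M hS 1)
    (exact_covD_covA M hS 1) (exact_covA_covB M hS 2)
    (covB_surjective_of_subsingleton M hS 2)

end cov

end Groth.Agent.Lib.Helper20.ExtChi
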