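import Mathlib
import Groth.Agent.Lib.Helper20.ExtChi2
import Groth.Agent.Lib.Helper4.Depth
import Groth.Agent.Lib.Helper4.FlatLocal
import Groth.Agent.Lib.Helper23.FinLenB

/-!
# Finite length of `Ext` from a finite length module (helper20)
-/

set_option autoImplicit false
set_option linter.unusedSectionVars false
set_option linter.unusedVariables false
set_option linter.style.haveILetI false
set_option maxHeartbeats 400000

open CategoryTheory Limits Abelian IsLocalRing

universe u

namespace Groth.Agent.Lib.Helper20.ExtChi

variable {R : Type u} [CommRing R] [IsLocalRing R] [IsNoetherianRing R]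

lemma isFiniteLength_of_pow_kill (X : Type u) [AddCommGroup X] [Module R X] [Module.Finite R X]
    (k : ℕ) (h : ∀ a ∈ maximalIdeal R ^ k, ∀ x : X, a • x = 0) : IsFiniteLength R X := by
  have hbot : (maximalIdeal R ^ k) • (⊤ : Submodule R X) = ⊥ := by
    rw [eq_bot_iff]
    intro x hx
    refine Submodule.smul_induction_on hx ?_ ?_
    · intro a ha y _
      rw [h a ha y]
      exact Submodule.zero_mem _
    · intro y z hy hz
      exact Submodule.add_mem _ hy hz
  have h1 := Groth.Agent.Lib.Helper4.isFiniteLength_quotient_pow_smul_top (R := R) X k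
  rw [hbot] at h1
  exact (Submodule.quotEquivOfEqBot (⊥ : Submodule R X) rfl).isFiniteLength h1

theorem isFiniteLength_ext (M P : ModuleCat.{u} R) [Module.Finite R M] [Module.Finite R P]
    (hM : IsFiniteLength R M) (i : ℕ) : IsFiniteLength R (Ext.{u} M P i) := by
  obtain ⟨n, hn⟩ := Groth.Agent.Lib.Helper23.FinLenLib.exists_pow_kill M hM
  refine isFiniteLength_of_pow_kill (Ext.{u} M P i) (n + 1) ?_
  intro a ha e
  apply Groth.Agent.Lib.Helper4.ext_smul_eq_zero_of_mem_annihilator_left
  rw [Module.mem_annihilator]
  exact hn a ha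

theorem length_ext_ne_top (M P : ModuleCat.{u} R) [Module.Finite R M] [Module.Finite R P]
    (hM : IsFiniteLength R M) (i : ℕ) : Module.length R (Ext.{u} M P i) ≠ ⊤ :=
  Module.length_ne_top_iff.2 (isFiniteLength_ext M P hM i)

end Groth.Agent.Lib.Helper20.ExtChi
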