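import Mathlib
import Groth.Agent.Lib.Helper20.ExtChi3
import Groth.Agent.Lib.Helper4.LD1
import Groth.Agent.Lib.Helper4.RegCM
import Groth.Agent.S0563

/-!
# Vanishing of the `Ext` Euler characteristic of finite length modules over a regular local ring of
dimension two (helper20)
-/

set_option autoImplicit false
set_option linter.unusedSectionVars false
set_option linter.unusedVariables false
set_option linter.style.haveILetI false
set_option maxHeartbeats 400000

open CategoryTheory Limits Abelian IsLocalRing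

universe u

namespace Groth.Agent.Lib.Helper20.ExtChi

open Groth.Agent.Lib.Helper4

section general

variable {R : Type u} [CommRing R] [IsLocalRing R] [IsNoetherianRing R]

/-- `χ(M, P) = 0`, written additively. -/
def ChiZero (M P : ModuleCat.{u} R) : Prop :=
  Module.length R (Ext.{u} M P 0) + Module.length R (Ext.{u} M P 2) =
    Module.length R (Ext.{u} M P 1)

lemma ChiZero.of_iso {M P P' : ModuleCat.{u} R} (e : P ≅ P') (h : ChiZero M P) : ChiZero M P' := by
  unfold ChiZero at h ⊢
  rw [← (LC.extCongrRight M e 0).length_eq, ← (LC.extCongrRight M e 1).length_eq,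
    ← (LC.extCongrRight M e 2).length_eq]
  exact h

lemma enat_cancel {a b c : ℕ∞} (ha : a ≠ ⊤) (h : a + b = a + c) : b = c := by
  exact ENat.add_right_injective_of_ne_top ha h

/-- `χ(M, P/xP) = 0` for a `P`-regular element `x`. -/
theorem chiZero_quot (M P : ModuleCat.{u} R) [Module.Finite R M] [Module.Finite R P]
    (hM : IsFiniteLength R M) [Subsingleton (Ext.{u} M P 3)] (x : R) (hx : IsSMulRegular P x) :
    ChiZero M (ModuleCat.smulShortComplex P x).X₃ := by
  have hS := hx.smulShortComplex_shortExact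
  haveI : Subsingleton (Ext.{u} M (ModuleCat.smulShortComplex P x).X₁ 3) :=
    inferInstanceAs (Subsingleton (Ext.{u} M P 3))
  have h := length_ext_cov M hS
  change Module.length R (Ext.{u} M P 0) +
      Module.length R (Ext.{u} M (ModuleCat.smulShortComplex P x).X₃ 0) +
      Module.length R (Ext.{u} M P 1) + Module.length R (Ext.{u} M P 2) +
      Module.length R (Ext.{u} M (ModuleCat.smulShortComplex P x).X₃ 2) =
    Module.length R (Ext.{u} M P 0) + Module.length R (Ext.{u} M P 1) +
      Module.length R (Ext.{u} M (ModuleCat.smulShortComplex P x).X₃ 1) +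
      Module.length R (Ext.{u} M P 2) at h
  have h0 := length_ext_ne_top M P hM 0
  have h1 := length_ext_ne_top M P hM 1
  have h2 := length_ext_ne_top M P hM 2
  unfold ChiZero
  set a0 := Module.length R (Ext.{u} M P 0)
  set a1 := Module.length R (Ext.{u} M P 1)
  set a2 := Module.length R (Ext.{u} M P 2)
  set b0 := Module.length R (Ext.{u} M (ModuleCat.smulShortComplex P x).X₃ 0)
  set b1 := Module.length R (Ext.{u} M (ModuleCat.smulShortComplex P x).X₃ 1)
  set b2 := Module.length R (Ext.{u} M (ModuleCat.smulShortComplex P x).X₃ 2)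
  have hne : a0 + a1 + a2 ≠ ⊤ := by
    simp only [ne_eq, ENat.add_eq_top, not_or]
    exact ⟨⟨h0, h1⟩, h2⟩
  apply enat_cancel hne
  calc a0 + a1 + a2 + (b0 + b2) = a0 + b0 + a1 + a2 + b2 := by abel
    _ = a0 + a1 + b1 + a2 := h
    _ = a0 + a1 + a2 + b1 := by abel

/-- `χ` is additive on short exact sequences. -/
theorem chiZero_of_ses (M : ModuleCat.{u} R) [Module.Finite R M] (hM : IsFiniteLength R M)
    {S : ShortComplex (ModuleCat.{u} R)} (hS : S.ShortExact)
    [Module.Finite R S.X₁] [Module.Finite R S.X₃] [Subsingleton (Ext.{u} M S.X₁ 3)]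
    (h₁ : ChiZero M S.X₁) (h₃ : ChiZero M S.X₃) : ChiZero M S.X₂ := by
  have h := length_ext_cov M hS
  unfold ChiZero at h₁ h₃ ⊢
  have ha0 := length_ext_ne_top M S.X₁ hM 0
  have ha2 := length_ext_ne_top M S.X₁ hM 2
  have hc0 := length_ext_ne_top M S.X₃ hM 0
  have hc2 := length_ext_ne_top M S.X₃ hM 2
  set a0 := Module.length R (Ext.{u} M S.X₁ 0)
  set a1 := Module.length R (Ext.{u} M S.X₁ 1)
  set a2 := Module.length R (Ext.{u} M S.X₁ 2)
  set b0 := Module.length R (Ext.{u} M S.X₂ 0)
  set b1 := Module.length R (Ext.{u} M S.X₂ 1)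
  set b2 := Module.length R (Ext.{u} M S.X₂ 2)
  set c0 := Module.length R (Ext.{u} M S.X₃ 0)
  set c1 := Module.length R (Ext.{u} M S.X₃ 1)
  set c2 := Module.length R (Ext.{u} M S.X₃ 2)
  have hne : a0 + a2 + c0 + c2 ≠ ⊤ := by
    simp only [ne_eq, ENat.add_eq_top, not_or]
    exact ⟨⟨⟨ha0, ha2⟩, hc0⟩, hc2⟩
  apply enat_cancel hne
  calc a0 + a2 + c0 + c2 + (b0 + b2) = b0 + (a0 + a2) + (c0 + c2) + b2 := by abel
    _ = b0 + a1 + c1 + b2 := by rw [h₁, h₃]
    _ = a0 + c0 + b1 + a2 + c2 := h.symm
    _ = a0 + a2 + c0 + c2 + b1 := by abel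

end general

end Groth.Agent.Lib.Helper20.ExtChi
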