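import Mathlib
import Groth.Agent.Lib.Helper20.ExtChi4
import Groth.Agent.Lib.Helper4.LC3

/-!
# `χ(M, N) = 0` for finite length modules over a regular local ring of dimension two (helper20)
-/

set_option autoImplicit false
set_option linter.unusedSectionVars false
set_option linter.unusedVariables false
set_option linter.style.haveILetI false
set_option maxHeartbeats 400000

open CategoryTheory Limits Abelian IsLocalRing

universe u

namespace Groth.Agent.Lib.Helper20.ExtChi

open Groth.Agent.Lib.Helper4

section quot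

variable {R : Type u} [CommRing R] [IsLocalRing R]

open Pointwise in
lemma nonempty_quot_quot_equiv (x0 x1 : R) (hspan : Ideal.span {x0, x1} = maximalIdeal R) :
    Nonempty (QuotSMulTop x1 (QuotSMulTop x0 R) ≃ₗ[R] R ⧸ maximalIdeal R) := by
  let q1 : R →ₗ[R] QuotSMulTop x0 R := (x0 • (⊤ : Submodule R R)).mkQ
  let q2 : QuotSMulTop x0 R →ₗ[R] QuotSMulTop x1 (QuotSMulTop x0 R) :=
    (x1 • (⊤ : Submodule R (QuotSMulTop x0 R))).mkQ
  let φ : R →ₗ[R] QuotSMulTop x1 (QuotSMulTop x0 R) := q2 ∘ₗ q1
  have hsurj : Function.Surjective φ :=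
    (Submodule.mkQ_surjective _).comp (Submodule.mkQ_surjective _)
  have hq1 : ∀ r : R, q1 r = 0 ↔ ∃ t : R, x0 * t = r := by
    intro r
    change (x0 • (⊤ : Submodule R R)).mkQ r = 0 ↔ _
    rw [Submodule.mkQ_apply, Submodule.Quotient.mk_eq_zero,
      Submodule.mem_smul_pointwise_iff_exists]
    constructor
    · rintro ⟨t, -, ht⟩
      exact ⟨t, ht⟩
    · rintro ⟨t, ht⟩
      exact ⟨t, trivial, ht⟩
  have hq2 : ∀ y : QuotSMulTop x0 R, q2 y = 0 ↔ ∃ z : QuotSMulTop x0 R, x1 • z = y := by
    intro y
    change (x1 • (⊤ : Submodule R (QuotSMulTop x0 R))).mkQ y = 0 ↔ _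
    rw [Submodule.mkQ_apply, Submodule.Quotient.mk_eq_zero,
      Submodule.mem_smul_pointwise_iff_exists]
    constructor
    · rintro ⟨t, -, ht⟩
      exact ⟨t, ht⟩
    · rintro ⟨t, ht⟩
      exact ⟨t, trivial, ht⟩
  have hker : LinearMap.ker φ = maximalIdeal R := by
    apply le_antisymm
    · intro r hr
      have hr' : q2 (q1 r) = 0 := hr
      obtain ⟨z, hz⟩ := (hq2 _).1 hr'
      obtain ⟨s, rfl⟩ := Submodule.mkQ_surjective _ z
      have h1 : q1 (r - x1 * s) = 0 := by
        rw [map_sub, ← smul_eq_mul, map_smul, sub_eq_zero]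
        exact hz.symm
      obtain ⟨t, ht⟩ := (hq1 _).1 h1
      have : r = x0 * t + x1 * s := by rw [ht]; ring
      rw [this, ← hspan]
      refine Submodule.add_mem _ (Ideal.mul_mem_right _ _ (Ideal.subset_span (by simp)))
        (Ideal.mul_mem_right _ _ (Ideal.subset_span (by simp)))
    · rw [← hspan, Ideal.span_le]
      intro r hr
      rcases hr with rfl | hr
      · have : q1 r = 0 := (hq1 r).2 ⟨1, mul_one r⟩
        change q2 (q1 r) = 0
        rw [this, map_zero]
      · rw [Set.mem_singleton_iff] at hr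
        subst hr
        change q2 (q1 r) = 0
        rw [hq2]
        refine ⟨q1 1, ?_⟩
        rw [← map_smul, smul_eq_mul, mul_one]
  exact ⟨((Submodule.quotEquivOfEq _ _ hker).symm.trans
    (φ.quotKerEquivOfSurjective hsurj)).symm⟩

end quot

section regular

variable (R : Type u) [CommRing R] [IsRegularLocalRing R] (hdim : ringKrullDim R = 2)
variable (M : Type u) [AddCommGroup M] [Module R M]

include hdim in
lemma subsingleton_ext_three (P : ModuleCat.{u} R) :
    Subsingleton (Ext.{u} (ModuleCat.of R M) P 3) := by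
  haveI := Groth.Agent.S0563.result R 2 hdim M
  exact HasProjectiveDimensionLT.subsingleton (ModuleCat.of R M) 3 3 le_rfl P

variable [Module.Finite R M] (hM : IsFiniteLength R M)

include hdim hM in
theorem chiZero_residue :
    ChiZero (ModuleCat.of R M) (ModuleCat.of R (R ⧸ maximalIdeal R)) := by
  obtain ⟨x, hx, hreg⟩ := RegCM.exists_regular_system R 2 hdim
  have hlist : List.ofFn x = [x 0, x 1] := by
    simp [List.ofFn_succ]
  rw [hlist, RingTheory.Sequence.isRegular_cons_iff, RingTheory.Sequence.isRegular_cons_iff]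
    at hreg
  obtain ⟨h0, h1, -⟩ := hreg
  have hspan : Ideal.span {x 0, x 1} = maximalIdeal R := by
    rw [← hx]
    congr 1
    ext r
    constructor
    · rintro (rfl | rfl)
      · exact ⟨0, rfl⟩
      · exact ⟨1, rfl⟩
    · rintro ⟨i, rfl⟩
      fin_cases i
      · left; rfl
      · right; rfl
  haveI : Module.Finite R (ModuleCat.of R M) := inferInstanceAs (Module.Finite R M)
  haveI : Module.Finite R (ModuleCat.of R R) := inferInstanceAs (Module.Finite R R)
  have hM' : IsFiniteLength R (ModuleCat.of R M) := hM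
  haveI := subsingleton_ext_three R hdim M (ModuleCat.of R R)
  have c1 := chiZero_quot (ModuleCat.of R M) (ModuleCat.of R R) hM' (x 0) h0
  set P1 := (ModuleCat.smulShortComplex (ModuleCat.of R R) (x 0)).X₃ with hP1
  haveI : Module.Finite R P1 :=
    inferInstanceAs (Module.Finite R (QuotSMulTop (x 0) R))
  haveI := subsingleton_ext_three R hdim M P1
  have h1' : IsSMulRegular P1 (x 1) := h1
  have c2 := chiZero_quot (ModuleCat.of R M) P1 hM' (x 1) h1'
  obtain ⟨e⟩ := nonempty_quot_quot_equiv (x 0) (x 1) hspan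
  exact c2.of_iso e.toModuleIso

include hdim hM in
/-- `χ(M, N) = 0` for `M`, `N` of finite length. -/
theorem chiZero_of_isFiniteLength (N : Type u) [AddCommGroup N] [Module R N]
    (hN : IsFiniteLength R N) : ChiZero (ModuleCat.of R M) (ModuleCat.of R N) := by
  haveI : Module.Finite R (ModuleCat.of R M) := inferInstanceAs (Module.Finite R M)
  have hM' : IsFiniteLength R (ModuleCat.of R M) := hM
  induction hN with
  | @of_subsingleton N _ _ _ =>
    have h1 : (1 : R) ∈ Module.annihilator R (ModuleCat.of R N) := by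
      rw [Module.mem_annihilator]
      intro m
      exact Subsingleton.elim _ _
    have h0 : (0 : R) ∈ Module.annihilator R (ModuleCat.of R M) := Submodule.zero_mem _
    have hall : ∀ i, Subsingleton (Ext.{u} (ModuleCat.of R M) (ModuleCat.of R N) i) := fun i =>
      subsingleton_ext_of_annihilators h0 h1 (by ring) i
    unfold ChiZero
    haveI := hall 0
    haveI := hall 1
    haveI := hall 2
    rw [Module.length_eq_zero, Module.length_eq_zero, Module.length_eq_zero, add_zero]
  | @of_simple_quotient N _ _ N' hsimple hN' ih =>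
    have hex : Function.Exact N'.subtype N'.mkQ := LinearMap.exact_subtype_mkQ N'
    have hS : (LC.sesOf N'.subtype N'.mkQ hex).ShortExact :=
      LC.sesOf_shortExact _ _ hex (Submodule.injective_subtype _) (Submodule.mkQ_surjective _)
    obtain ⟨e⟩ := Groth.Agent.Lib.Helper23.FinLenLib.simple_equiv (A := R) (N ⧸ N')
    have c3 : ChiZero (ModuleCat.of R M) (ModuleCat.of R (N ⧸ N')) :=
      (chiZero_residue R hdim M hM).of_iso e.symm.toModuleIso
    haveI : Module.Finite R (LC.sesOf N'.subtype N'.mkQ hex).X₁ := by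
      obtain ⟨hn, _⟩ := isFiniteLength_iff_isNoetherian_isArtinian.1 hN'
      exact inferInstanceAs (Module.Finite R N')
    haveI : Module.Finite R (LC.sesOf N'.subtype N'.mkQ hex).X₃ := by
      haveI : Module.Finite R (N ⧸ N') := Module.Finite.equiv e.symm
      exact inferInstanceAs (Module.Finite R (N ⧸ N'))
    haveI := subsingleton_ext_three R hdim M (LC.sesOf N'.subtype N'.mkQ hex).X₁
    have ih' : ChiZero (ModuleCat.of R M) (LC.sesOf N'.subtype N'.mkQ hex).X₁ := ih
    have c3' : ChiZero (ModuleCat.of R M) (LC.sesOf N'.subtype N'.mkQ hex).X₃ := c3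
    have key := chiZero_of_ses (ModuleCat.of R M) hM' hS ih' c3'
    exact key

end regular

end Groth.Agent.Lib.Helper20.ExtChi
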