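import Mathlib
import Groth.Agent.Lib.Helper20.ExtChi5
import Groth.Agent.Lib.Helper4.LD7
import Groth.Agent.Lib.Helper1.Matlis

/-!
# Serre duality for finite length modules over a regular local ring of dimension two:
`ℓ Ext²(M, N) = ℓ Hom(N, M)` (helper20)
-/

set_option autoImplicit false
set_option linter.unusedSectionVars false
set_option linter.unusedVariables false
set_option linter.style.haveILetI false
set_option maxHeartbeats 400000

open CategoryTheory Limits Abelian IsLocalRing TensorProduct Opposite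

universe u

namespace Groth.Agent.Lib.Helper20.ExtChi

open Groth.Agent.Lib.Helper4

section top

variable {R : Type u} [CommRing R]

/-- `Ext^d(M, -)` as a right exact functor, when `Ext^{d+1}(M, -) = 0`. -/
noncomputable def extTopFun (M : ModuleCat.{u} R) (d : ℕ)
    (h : ∀ P : ModuleCat.{u} R, Subsingleton (Ext.{u} M P (d + 1))) : EW.RFun R where
  obj P := Ext.{u} M P d
  map f := Ext.postcompOfLinear (Ext.mk₀ f) R M (add_zero d)
  map_id P x := by
    change x.comp (Ext.mk₀ (𝟙 P)) (add_zero d) = x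
    rw [Ext.comp_mk₀_id]
  map_comp f g x := by
    change x.comp (Ext.mk₀ (f ≫ g)) (add_zero d) =
      (x.comp (Ext.mk₀ f) (add_zero d)).comp (Ext.mk₀ g) (add_zero d)
    rw [Ext.comp_assoc_of_third_deg_zero, Ext.mk₀_comp_mk₀]
  map_add f g x := by
    change x.comp (Ext.mk₀ (f + g)) (add_zero d) =
      x.comp (Ext.mk₀ f) (add_zero d) + x.comp (Ext.mk₀ g) (add_zero d)
    rw [Ext.mk₀_add, Ext.comp_add]
  map_smul r f x := by
    change x.comp (Ext.mk₀ (r • f)) (add_zero d) = r • x.comp (Ext.mk₀ f) (add_zero d)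
    rw [Ext.mk₀_smul, Ext.comp_smul]
  surj {S} hS := by
    haveI := h S.X₁
    exact covB_surjective_of_subsingleton M hS d
  exact {S} hS x hx := by
    obtain ⟨y, hy⟩ := (exact_covA_covB M hS d x).1 hx
    exact ⟨y, hy⟩

end top

section regular

variable (R : Type u) [CommRing R] [IsRegularLocalRing R] (hdim : ringKrullDim R = 2)
variable (M : Type u) [AddCommGroup M] [Module R M] [Module.Finite R M]
  (hM : IsFiniteLength R M)

include hdim hM in
/-- Matlis/local duality: `M ≃ Hom(Ext²(M, R), E)` for `M` of finite length. -/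
theorem nonempty_equiv_dual_ext_two (E : Type u) [AddCommGroup E] [Module R E]
    (f : ResidueField R →ₗ[R] E) (hf : InjHull.IsInjectiveHull f) :
    Nonempty (M ≃ₗ[R] (Ext.{u} (ModuleCat.of R M) (ModuleCat.of R R) 2 →ₗ[R] E)) := by
  obtain ⟨e1⟩ := LC.nonempty_H_equiv_dual_ext_regular R 2 hdim E f hf M 0 (by omega)
  have hpt : LocCoh.IsPowerTorsion (maximalIdeal R) M := by
    obtain ⟨n, hn⟩ := Groth.Agent.Lib.Helper23.FinLenLib.exists_pow_kill M hM
    intro x
    exact ⟨n + 1, fun a ha => hn a ha x⟩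
  have e2 : LocCoh.H (maximalIdeal R) 0 M ≃ₗ[R] M :=
    (LC.lcEquiv (maximalIdeal R) (ModuleCat.of R M) 0).trans
      (LC.HH0EquivOfTorsion (maximalIdeal R) M hpt)
  have e3 : (((Ext R (ModuleCat.{u} R) 2).obj (op (ModuleCat.of R M))).obj (ModuleCat.of R R))
      ≃ₗ[R] Abelian.Ext.{u} (ModuleCat.of R M) (ModuleCat.of R R) 2 :=
    LCBridge.extBridge (ModuleCat.of R M) (ModuleCat.of R R) 2
  exact ⟨e2.symm.trans (e1.trans (LinearEquiv.arrowCongr e3 (LinearEquiv.refl R E)))⟩

include hdim hM in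
/-- `ℓ Ext²(M, N) = ℓ Hom(N, M)` for `M`, `N` of finite length. -/
theorem length_ext_two_eq (N : Type u) [AddCommGroup N] [Module R N] [Module.Finite R N]
    (hN : IsFiniteLength R N) :
    Module.length R (Ext.{u} (ModuleCat.of R M) (ModuleCat.of R N) 2) =
      Module.length R (N →ₗ[R] M) := by
  obtain ⟨E, _, _, f, hf⟩ :=
    Groth.Agent.Lib.Helper1.InjHullLib.exists_injective_hull R (ResidueField R)
  obtain ⟨eM⟩ := nonempty_equiv_dual_ext_two R hdim M hM E f hf
  let T := extTopFun (ModuleCat.of R M) 2 (fun P => subsingleton_ext_three R hdim M P)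
  have eθ : (N ⊗[R] Ext.{u} (ModuleCat.of R M) (ModuleCat.of R R) 2) ≃ₗ[R]
      Ext.{u} (ModuleCat.of R M) (ModuleCat.of R N) 2 := EW.thetaEquiv T N
  haveI : Module.Finite R (ModuleCat.of R M) := inferInstanceAs (Module.Finite R M)
  haveI : Module.Finite R (ModuleCat.of R N) := inferInstanceAs (Module.Finite R N)
  have hfl : IsFiniteLength R (N ⊗[R] Ext.{u} (ModuleCat.of R M) (ModuleCat.of R R) 2) :=
    eθ.symm.isFiniteLength (isFiniteLength_ext (ModuleCat.of R M) (ModuleCat.of R N) hM 2)
  rw [← eθ.length_eq, ← Groth.Agent.Lib.Helper1.Matlis.length_hom_eq_of_isFiniteLength f hf _ hfl,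
    ← (TensorProduct.lift.equiv (RingHom.id R) N
      (Ext.{u} (ModuleCat.of R M) (ModuleCat.of R R) 2) E).length_eq]
  exact (LinearEquiv.arrowCongr (LinearEquiv.refl R N) eM).length_eq.symm

end regular

end Groth.Agent.Lib.Helper20.ExtChi
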