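import Mathlib
import Groth.Agent.Lib.Helper20.ExtChi6
import Groth.Agent.Lib.Helper1.MatlisBaseChange

/-!
# `ℓ Hom(I, R/J) + ℓ R/(I:J) = ℓ R/J + ℓ R/I` over a regular local ring of dimension two (helper20)
-/

set_option autoImplicit false
set_option linter.unusedSectionVars false
set_option linter.unusedVariables false
set_option linter.style.haveILetI false
set_option maxHeartbeats 400000

open CategoryTheory Limits Abelian IsLocalRing

universe u

namespace Groth.Agent.Lib.Helper20.ExtChi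

open Groth.Agent.Lib.Helper4

section contra

variable {R : Type u} [CommRing R]

/-- Lengths in `0 → Hom(R/I, N) → Hom(R, N) → Hom(I, N) → Ext¹(R/I, N) → 0`. -/
theorem length_hom_ideal (I : Ideal R) (N : Type u) [AddCommGroup N] [Module R N] :
    Module.length R (Ext.{u} (ModuleCat.of R (R ⧸ I)) (ModuleCat.of R N) 0) +
        Module.length R (↥I →ₗ[R] N) =
      Module.length R N +
        Module.length R (Ext.{u} (ModuleCat.of R (R ⧸ I)) (ModuleCat.of R N) 1) := by
  have hex : Function.Exact I.subtype I.mkQ := LinearMap.exact_subtype_mkQ I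
  have hS : (LC.sesOf I.subtype I.mkQ hex).ShortExact :=
    LC.sesOf_shortExact _ _ hex (Submodule.injective_subtype _) (Submodule.mkQ_surjective _)
  set S := LC.sesOf I.subtype I.mkQ hex with hSdef
  let Y : ModuleCat.{u} R := ModuleCat.of R N
  let α : Ext.{u} S.X₃ Y 0 →ₗ[R] Ext.{u} S.X₂ Y 0 :=
    Ext.precompOfLinear (Ext.mk₀ S.g) R Y (zero_add 0)
  let β : Ext.{u} S.X₂ Y 0 →ₗ[R] Ext.{u} S.X₁ Y 0 :=
    Ext.precompOfLinear (Ext.mk₀ S.f) R Y (zero_add 0)
  let δ : Ext.{u} S.X₁ Y 0 →ₗ[R] Ext.{u} S.X₃ Y 1 :=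
    Ext.precompOfLinear hS.extClass R Y (add_zero 1)
  have hα : Function.Injective α := by
    haveI : Epi S.g := hS.epi_g
    exact Ext.precomp_mk₀_injective_of_epi Y S.g
  have hαβ : Function.Exact α β := by
    intro y
    constructor
    · intro hy
      obtain ⟨x, hx⟩ := Ext.contravariant_sequence_exact₂ hS Y y hy
      exact ⟨x, hx⟩
    · rintro ⟨x, rfl⟩
      change (Ext.mk₀ S.f).comp ((Ext.mk₀ S.g).comp x (zero_add 0)) (zero_add 0) = 0
      rw [Ext.mk₀_comp_mk₀_assoc, S.zero, Ext.mk₀_zero, Ext.zero_comp]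
  have hβδ : Function.Exact β δ := by
    intro y
    constructor
    · intro hy
      obtain ⟨x, hx⟩ := Ext.contravariant_sequence_exact₁ hS Y y (add_zero 1) hy
      exact ⟨x, hx⟩
    · rintro ⟨x, rfl⟩
      change hS.extClass.comp ((Ext.mk₀ S.f).comp x (zero_add 0)) (add_zero 1) = 0
      rw [ShortComplex.ShortExact.extClass_comp_assoc]
  have hδ : Function.Surjective δ := by
    intro x₃
    haveI : Projective S.X₂ := by
      change Projective (ModuleCat.of R R)
      infer_instance
    haveI : Subsingleton (Ext.{u} S.X₂ Y 1) :=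
      HasProjectiveDimensionLT.subsingleton S.X₂ 1 1 le_rfl Y
    obtain ⟨x₁, hx₁⟩ := Ext.contravariant_sequence_exact₃ hS Y x₃ (Subsingleton.elim _ _)
      (add_zero 1)
    exact ⟨x₁, hx₁⟩
  have h4 := length_four α β δ hα hαβ hβδ hδ
  have e1 : Ext.{u} S.X₁ Y 0 ≃ₗ[R] (↥I →ₗ[R] N) :=
    (Ext.linearEquiv₀ (R := R)).trans ModuleCat.homLinearEquiv
  have e2 : Ext.{u} S.X₂ Y 0 ≃ₗ[R] N :=
    ((Ext.linearEquiv₀ (R := R)).trans ModuleCat.homLinearEquiv).trans
      (LinearMap.ringLmapEquivSelf R R N)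
  rw [e1.length_eq, e2.length_eq] at h4
  exact h4

end contra

section colon

variable {R : Type u} [CommRing R]

/-- `ℓ Hom(R/J, R/I) + ℓ R/(I:J) = ℓ R/I`. -/
theorem length_hom_quot_add_colon (I J : Ideal R) :
    Module.length R ((R ⧸ J) →ₗ[R] (R ⧸ I)) + Module.length R (R ⧸ I.colon (J : Set R)) =
      Module.length R (R ⧸ I) := by
  have hle : I ≤ Submodule.comap (LinearMap.id : R →ₗ[R] R) (I.colon (J : Set R)) := by
    intro r hr
    rw [Submodule.mem_comap, LinearMap.id_apply, Submodule.mem_colon]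
    intro s _
    exact I.mul_mem_right s hr
  let g : (R ⧸ I) →ₗ[R] (R ⧸ I.colon (J : Set R)) :=
    Submodule.mapQ I (I.colon (J : Set R)) LinearMap.id hle
  have hg : Function.Surjective g := by
    intro y
    obtain ⟨r, rfl⟩ := Submodule.Quotient.mk_surjective _ y
    exact ⟨Submodule.Quotient.mk r, rfl⟩
  have hex : Function.Exact (Submodule.torsionBySet R (R ⧸ I) (J : Set R)).subtype g := by
    intro y
    obtain ⟨r, rfl⟩ := Submodule.Quotient.mk_surjective _ y
    have h1 : g (Submodule.Quotient.mk r) = 0 ↔ r ∈ I.colon (J : Set R) := by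
      change (Submodule.Quotient.mk r : R ⧸ I.colon (J : Set R)) = 0 ↔ _
      rw [Submodule.Quotient.mk_eq_zero]
    have h2 : (Submodule.Quotient.mk r : R ⧸ I) ∈ Submodule.torsionBySet R (R ⧸ I) (J : Set R) ↔
        r ∈ I.colon (J : Set R) := by
      rw [Submodule.mem_torsionBySet_iff, Submodule.mem_colon]
      constructor
      · intro h s hs
        have := h ⟨s, hs⟩
        change s • (Submodule.Quotient.mk r : R ⧸ I) = 0 at this
        rw [← Submodule.Quotient.mk_smul, Submodule.Quotient.mk_eq_zero] at this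
        rw [smul_eq_mul, mul_comm]
        exact this
      · rintro h ⟨s, hs⟩
        change s • (Submodule.Quotient.mk r : R ⧸ I) = 0
        rw [← Submodule.Quotient.mk_smul, Submodule.Quotient.mk_eq_zero, smul_eq_mul, mul_comm]
        exact h s hs
    rw [h1, ← h2]
    constructor
    · intro h
      exact ⟨⟨_, h⟩, rfl⟩
    · rintro ⟨⟨z, hz⟩, rfl⟩
      exact hz
  have h := Module.length_eq_add_of_exact _ g (Submodule.injective_subtype _) hg hex
  rw [h, (Groth.Agent.Lib.Helper1.Matlis.homQuotEquivTorsionBySet J (R ⧸ I)).length_eq]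

end colon

section main

variable (R : Type u) [CommRing R] [IsRegularLocalRing R] (hdim : ringKrullDim R = 2)

include hdim in
theorem length_hom_ideal_quot (I J : Ideal R) (hI : Module.length R (R ⧸ I) < ⊤)
    (hJ : Module.length R (R ⧸ J) < ⊤) :
    Module.length R (↥I →ₗ[R] (R ⧸ J)) + Module.length R (R ⧸ I.colon (J : Set R)) =
      Module.length R (R ⧸ J) + Module.length R (R ⧸ I) := by
  have hM : IsFiniteLength R (R ⧸ I) := Module.length_ne_top_iff.1 hI.ne
  have hN : IsFiniteLength R (R ⧸ J) := Module.length_ne_top_iff.1 hJ.ne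
  have c1 := length_hom_ideal I (R ⧸ J)
  have c2 : ChiZero (ModuleCat.of R (R ⧸ I)) (ModuleCat.of R (R ⧸ J)) :=
    chiZero_of_isFiniteLength R hdim (R ⧸ I) hM (R ⧸ J) hN
  have c3 := length_ext_two_eq R hdim (R ⧸ I) hM (R ⧸ J) hN
  have c4 := length_hom_quot_add_colon I J
  unfold ChiZero at c2
  haveI : Module.Finite R (ModuleCat.of R (R ⧸ I)) := inferInstanceAs (Module.Finite R (R ⧸ I))
  haveI : Module.Finite R (ModuleCat.of R (R ⧸ J)) := inferInstanceAs (Module.Finite R (R ⧸ J))
  have h0 := length_ext_ne_top (ModuleCat.of R (R ⧸ I)) (ModuleCat.of R (R ⧸ J)) hM 0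
  set e0 := Module.length R (Ext.{u} (ModuleCat.of R (R ⧸ I)) (ModuleCat.of R (R ⧸ J)) 0)
  set e1 := Module.length R (Ext.{u} (ModuleCat.of R (R ⧸ I)) (ModuleCat.of R (R ⧸ J)) 1)
  set e2 := Module.length R (Ext.{u} (ModuleCat.of R (R ⧸ I)) (ModuleCat.of R (R ⧸ J)) 2)
  apply enat_cancel h0
  calc e0 + (Module.length R (↥I →ₗ[R] (R ⧸ J)) + Module.length R (R ⧸ I.colon (J : Set R)))
      = (e0 + Module.length R (↥I →ₗ[R] (R ⧸ J))) + Module.length R (R ⧸ I.colon (J : Set R)) := by
        abel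
    _ = Module.length R (R ⧸ J) + e1 + Module.length R (R ⧸ I.colon (J : Set R)) := by rw [c1]
    _ = Module.length R (R ⧸ J) + (e0 + e2) + Module.length R (R ⧸ I.colon (J : Set R)) := by
        rw [c2]
    _ = e0 + (Module.length R (R ⧸ J) +
          (Module.length R ((R ⧸ J) →ₗ[R] (R ⧸ I)) +
            Module.length R (R ⧸ I.colon (J : Set R)))) := by rw [c3]; abel
    _ = e0 + (Module.length R (R ⧸ J) + Module.length R (R ⧸ I)) := by rw [c4]

end main

end Groth.Agent.Lib.Helper20.ExtChi
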