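import Mathlib
import Groth.Agent.Lib.Helper4.LCModel
import Groth.Agent.Lib.Helper4.LC3

/-!
# Representability of `Ext^n(-, G)` on modules killed by a power of `J`  (helper20)

If `Ext^{n-1}(F', G) = 0` for all finite modules `F'` killed by a power of `J`, then for finite `F`
killed by `J^k` one has `Ext^n(F, G) ≃ Hom(F, Ext^n(A/J^k, G)) ≃ Hom(F, H^n_J(G))`.
-/

set_option autoImplicit false
set_option linter.unusedSectionVars false
set_option linter.unusedVariables false

universe u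

open CategoryTheory Abelian Groth.Agent.Lib.Helper4.LC

namespace Groth.Agent.Lib.Helper20.ExtRep

variable {A : Type u} [CommRing A] (J : Ideal A) (G : ModuleCat.{u} A) (n : ℕ)

/-- killed by `J ^ k`. -/
def Killed (k : ℕ) (F : ModuleCat.{u} A) : Prop := ∀ r ∈ J ^ k, ∀ f : F, r • f = 0

variable {J}

lemma Killed.mono {k m : ℕ} (h : k ≤ m) {F : ModuleCat.{u} A} (hF : Killed J k F) :
    Killed J m F := fun r hr f => hF r (Ideal.pow_le_pow_right h hr) f

lemma killed_Q (k : ℕ) : Killed J k (Q J k) := by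
  intro r hr x
  obtain ⟨a, rfl⟩ := Submodule.Quotient.mk_surjective _ x
  change (Submodule.Quotient.mk (r • a) : A ⧸ J ^ k) = 0
  rw [Submodule.Quotient.mk_eq_zero, smul_eq_mul]
  exact Ideal.mul_mem_right _ _ hr

/-- the map `A ⧸ J^k ⟶ F`, `1 ↦ f`. -/
noncomputable def gen {k : ℕ} {F : ModuleCat.{u} A} (hF : Killed J k F) (f : F) : Q J k ⟶ F :=
  ModuleCat.ofHom (Submodule.liftQ (J ^ k) (LinearMap.toSpanSingleton A F f) (by
    intro r hr
    rw [LinearMap.mem_ker, LinearMap.toSpanSingleton_apply]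
    exact hF r hr f))

lemma gen_mk {k : ℕ} {F : ModuleCat.{u} A} (hF : Killed J k F) (f : F) (r : A) :
    (gen hF f).hom (Submodule.Quotient.mk r) = r • f := rfl

lemma hom_Q_ext {k : ℕ} {F : ModuleCat.{u} A} {φ ψ : Q J k ⟶ F}
    (h : ∀ r : A, φ.hom (Submodule.Quotient.mk r) = ψ.hom (Submodule.Quotient.mk r)) : φ = ψ := by
  apply ModuleCat.hom_ext
  apply LinearMap.ext
  intro x
  obtain ⟨r, rfl⟩ := Submodule.Quotient.mk_surjective _ x
  exact h r

lemma gen_add {k : ℕ} {F : ModuleCat.{u} A} (hF : Killed J k F) (f g : F) :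
    gen hF (f + g) = gen hF f + gen hF g := by
  apply hom_Q_ext
  intro r
  change r • (f + g) = r • f + r • g
  rw [smul_add]

lemma gen_smul {k : ℕ} {F : ModuleCat.{u} A} (hF : Killed J k F) (a : A) (f : F) :
    gen hF (a • f) = a • gen hF f := by
  apply hom_Q_ext
  intro r
  change r • a • f = a • r • f
  rw [smul_comm]

lemma gen_comp {k : ℕ} {F F' : ModuleCat.{u} A} (hF : Killed J k F) (hF' : Killed J k F')
    (g : F ⟶ F') (f : F) : gen hF f ≫ g = gen hF' (g.hom f) := by
  apply hom_Q_ext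
  intro r
  change g.hom (r • f) = r • g.hom f
  rw [map_smul]

lemma qmap_gen {k m : ℕ} (h : k ≤ m) {F : ModuleCat.{u} A} (hF : Killed J k F) (f : F) :
    qmap J h ≫ gen hF f = gen (hF.mono h) f := by
  apply hom_Q_ext
  intro r
  rfl

lemma gen_one (k : ℕ) : gen (killed_Q (J := J) k) (Submodule.Quotient.mk 1) = 𝟙 (Q J k) := by
  apply hom_Q_ext
  intro r
  change r • (Submodule.Quotient.mk 1 : A ⧸ J ^ k) = Submodule.Quotient.mk r
  rw [← Submodule.Quotient.mk_smul, smul_eq_mul, mul_one]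

/-- the comparison map `Ext^n(F, G) → Hom(F, Ext^n(A/J^k, G))`. -/
noncomputable def Φ {k : ℕ} {F : ModuleCat.{u} A} (hF : Killed J k F) :
    Abelian.Ext.{u} F G n →ₗ[A] (F →ₗ[A] Abelian.Ext.{u} (Q J k) G n) where
  toFun t :=
    { toFun := fun f => (Ext.mk₀ (gen hF f)).comp t (zero_add n)
      map_add' := fun f g => by rw [gen_add, Ext.mk₀_add, Ext.add_comp]
      map_smul' := fun a f => by
        rw [gen_smul, Ext.mk₀_smul, Ext.smul_comp, RingHom.id_apply] }
  map_add' t t' := by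
    apply LinearMap.ext
    intro f
    change (Ext.mk₀ (gen hF f)).comp (t + t') (zero_add n) = _ + _
    rw [Ext.comp_add]
    rfl
  map_smul' a t := by
    apply LinearMap.ext
    intro f
    change (Ext.mk₀ (gen hF f)).comp (a • t) (zero_add n) = a • _
    rw [Ext.comp_smul]
    rfl

lemma Φ_apply {k : ℕ} {F : ModuleCat.{u} A} (hF : Killed J k F) (t : Abelian.Ext.{u} F G n)
    (f : F) : Φ G n hF t f = (Ext.mk₀ (gen hF f)).comp t (zero_add n) := rfl

/-- naturality of `Φ`. -/
lemma Φ_natural {k : ℕ} {F F' : ModuleCat.{u} A} (hF : Killed J k F) (hF' : Killed J k F')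
    (g : F ⟶ F') (t' : Abelian.Ext.{u} F' G n) (f : F) :
    Φ G n hF ((Ext.mk₀ g).comp t' (zero_add n)) f = Φ G n hF' t' (g.hom f) := by
  rw [Φ_apply, Φ_apply, Ext.mk₀_comp_mk₀_assoc, gen_comp hF hF']

/-- compatibility with the transition maps. -/
lemma tr_Φ {k m : ℕ} (h : k ≤ m) {F : ModuleCat.{u} A} (hF : Killed J k F)
    (t : Abelian.Ext.{u} F G n) (f : F) :
    tr J G n h (Φ G n hF t f) = Φ G n (hF.mono h) t f := by
  rw [tr_apply, Φ_apply, Φ_apply, Ext.mk₀_comp_mk₀_assoc, qmap_gen]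

lemma Φ_Q_one (k : ℕ) (t : Abelian.Ext.{u} (Q J k) G n) :
    Φ G n (killed_Q k) t (Submodule.Quotient.mk 1) = t := by
  rw [Φ_apply, gen_one, Ext.mk₀_id_comp]

lemma Φ_Q_injective (k : ℕ) : Function.Injective (Φ G n (killed_Q (J := J) k)) := by
  intro t t' h
  rw [← Φ_Q_one G n k t, ← Φ_Q_one G n k t', h]

lemma Φ_Q_surjective (k : ℕ) : Function.Surjective (Φ G n (killed_Q (J := J) k)) := by
  intro φ
  refine ⟨φ (Submodule.Quotient.mk 1), ?_⟩
  apply LinearMap.ext
  intro x
  obtain ⟨r, rfl⟩ := Submodule.Quotient.mk_surjective _ x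
  have h1 : (Submodule.Quotient.mk r : A ⧸ J ^ k) = r • Submodule.Quotient.mk 1 := by
    rw [← Submodule.Quotient.mk_smul, smul_eq_mul, mul_one]
  have h1' : (Submodule.Quotient.mk r : Q J k) = r • (Submodule.Quotient.mk 1 : Q J k) := h1
  rw [h1', map_smul, map_smul, Φ_Q_one]


/-! ### Free modules over `A ⧸ J^k` -/

/-- the free module `(A ⧸ J^k)^b`. -/
abbrev P (J : Ideal A) (k b : ℕ) : ModuleCat.{u} A := ModuleCat.of A (Fin b → (A ⧸ J ^ k))

lemma killed_P (k b : ℕ) : Killed J k (P J k b) := by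
  intro r hr x
  funext j
  exact killed_Q (J := J) k r hr (x j)

/-- inclusions and projections. -/
noncomputable def inc (k b : ℕ) (j : Fin b) : Q J k ⟶ P J k b :=
  ModuleCat.ofHom (LinearMap.single A (fun _ : Fin b => (A ⧸ J ^ k)) j)

noncomputable def prj (k b : ℕ) (j : Fin b) : P J k b ⟶ Q J k :=
  ModuleCat.ofHom (LinearMap.proj (R := A) (φ := fun _ : Fin b => (A ⧸ J ^ k)) j)

lemma sum_prj_inc (k b : ℕ) : ∑ j : Fin b, prj (J := J) k b j ≫ inc k b j = 𝟙 (P J k b) := by
  apply ModuleCat.hom_ext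
  apply LinearMap.ext
  intro x
  rw [ModuleCat.hom_sum, LinearMap.sum_apply]
  change ∑ j : Fin b, Pi.single j (x j) = x
  exact Finset.univ_sum_single (M := fun _ : Fin b => A ⧸ J ^ k) x

/-- precomposition as an additive map in the morphism. -/
noncomputable def preT {X Y : ModuleCat.{u} A} (s : Abelian.Ext.{u} Y G n) :
    (X ⟶ Y) →+ Abelian.Ext.{u} X G n where
  toFun φ := (Ext.mk₀ φ).comp s (zero_add n)
  map_zero' := by rw [Ext.mk₀_zero, Ext.zero_comp]
  map_add' φ ψ := by rw [Ext.mk₀_add, Ext.add_comp]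

lemma preT_apply {X Y : ModuleCat.{u} A} (s : Abelian.Ext.{u} Y G n) (φ : X ⟶ Y) :
    preT G n s φ = (Ext.mk₀ φ).comp s (zero_add n) := rfl

lemma eq_sum_of_free (k b : ℕ) (s : Abelian.Ext.{u} (P J k b) G n) :
    s = ∑ j : Fin b, (Ext.mk₀ (prj k b j)).comp
      ((Ext.mk₀ (inc k b j)).comp s (zero_add n)) (zero_add n) := by
  have h1 : s = preT G n s (𝟙 _) := by rw [preT_apply, Ext.mk₀_id_comp]
  conv_lhs => rw [h1, ← sum_prj_inc, map_sum]
  refine Finset.sum_congr rfl fun j _ => ?_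
  rw [preT_apply, Ext.mk₀_comp_mk₀_assoc]

lemma Φ_P_injective (k b : ℕ) : Function.Injective (Φ G n (killed_P (J := J) k b)) := by
  rw [injective_iff_map_eq_zero]
  intro s hs
  rw [eq_sum_of_free G n k b s]
  refine Finset.sum_eq_zero fun j _ => ?_
  have h0 : (Ext.mk₀ (inc k b j)).comp s (zero_add n) = 0 := by
    apply Φ_Q_injective G n k
    apply LinearMap.ext
    intro q
    rw [Φ_natural G n (killed_Q k) (killed_P k b), hs, map_zero]
    rfl
  rw [h0, Ext.comp_zero]

lemma Φ_P_surjective (k b : ℕ) : Function.Surjective (Φ G n (killed_P (J := J) k b)) := by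
  intro φ
  choose t ht using fun j : Fin b =>
    Φ_Q_surjective G n k (φ ∘ₗ (inc (J := J) k b j).hom)
  refine ⟨∑ j : Fin b, (Ext.mk₀ (prj k b j)).comp (t j) (zero_add n), ?_⟩
  apply LinearMap.ext
  intro x
  rw [map_sum, LinearMap.sum_apply]
  have h1 : ∀ j : Fin b, Φ G n (killed_P k b) ((Ext.mk₀ (prj k b j)).comp (t j) (zero_add n)) x =
      φ (Pi.single j (x j)) := by
    intro j
    rw [Φ_natural G n (killed_P k b) (killed_Q k), ht j]
    rfl
  rw [Finset.sum_congr rfl fun j _ => h1 j, ← map_sum]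
  congr 1
  exact Finset.univ_sum_single (M := fun _ : Fin b => A ⧸ J ^ k) x

/-! ### Left exactness -/

variable {G n}

/-- the vanishing hypothesis. -/
def Van (J : Ideal A) (G : ModuleCat.{u} A) (n : ℕ) : Prop :=
  ∀ (K : ModuleCat.{u} A) (k : ℕ), Module.Finite A K → Killed J k K →
    ∀ i : ℕ, i + 1 = n → Subsingleton (Abelian.Ext.{u} K G i)

section leftExact

variable [IsNoetherianRing A] {k : ℕ} {X F : ModuleCat.{u} A} (π : X ⟶ F)
  (hπ : Function.Surjective π.hom) (hX : Killed J k X) [Module.Finite A X]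

/-- the kernel of `π` as an object. -/
abbrev Ker : ModuleCat.{u} A := ModuleCat.of A (LinearMap.ker π.hom)

include hX in
lemma killed_Ker : Killed J k (Ker π) := by
  intro r hr x
  apply Subtype.ext
  exact hX r hr x.1

/-- the inclusion of the kernel. -/
abbrev kerι : Ker π ⟶ X := ModuleCat.ofHom (LinearMap.ker π.hom).subtype

include hπ in
lemma ses_shortExact :
    (sesOf (LinearMap.ker π.hom).subtype π.hom (by
      intro x
      constructor
      · intro hx
        exact ⟨⟨x, hx⟩, rfl⟩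
      · rintro ⟨y, rfl⟩
        exact y.2)).ShortExact :=
  sesOf_shortExact _ _ _ (Submodule.injective_subtype _) hπ

include hπ hX in
lemma precomp_injective (hvan : Van J G n) :
    Function.Injective (fun t : Abelian.Ext.{u} F G n => (Ext.mk₀ π).comp t (zero_add n)) := by
  have hS := ses_shortExact π hπ
  cases n with
  | zero =>
    haveI : Epi π := (ModuleCat.epi_iff_surjective π).2 hπ
    exact Ext.precomp_mk₀_injective_of_epi G π
  | succ n₀ =>
    intro t t' htt
    have h0 : (Ext.mk₀ π).comp (t - t') (zero_add (n₀ + 1)) = 0 := by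
      rw [sub_eq_add_neg, Ext.comp_add, Ext.comp_neg, ← sub_eq_add_neg]
      exact sub_eq_zero.2 htt
    obtain ⟨x₁, hx₁⟩ := Ext.contravariant_sequence_exact₃ hS G (t - t') h0 (add_comm 1 n₀)
    haveI : Subsingleton (Abelian.Ext.{u} (Ker π) G n₀) :=
      hvan (Ker π) k inferInstance (killed_Ker π hX) n₀ rfl
    rw [Subsingleton.elim x₁ 0, Ext.comp_zero] at hx₁
    exact sub_eq_zero.1 hx₁.symm

include hπ in
lemma exists_of_comp_kerι_eq_zero (s : Abelian.Ext.{u} X G n)
    (hs : (Ext.mk₀ (kerι π)).comp s (zero_add n) = 0) :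
    ∃ t : Abelian.Ext.{u} F G n, (Ext.mk₀ π).comp t (zero_add n) = s :=
  Ext.contravariant_sequence_exact₂ (ses_shortExact π hπ) G s hs

end leftExact


/-! ### Representability at a finite level -/

section main

variable [IsNoetherianRing A]

lemma exists_presentation {k : ℕ} (F : ModuleCat.{u} A) [Module.Finite A F] (hF : Killed J k F) :
    ∃ (b : ℕ) (π : P J k b ⟶ F), Function.Surjective π.hom := by
  obtain ⟨b, s, hs⟩ := Module.Finite.exists_fin (R := A) (M := F)
  refine ⟨b, ∑ j, prj k b j ≫ gen hF (s j), ?_⟩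
  intro f
  have hf : f ∈ Submodule.span A (Set.range s) := by rw [hs]; trivial
  obtain ⟨c, rfl⟩ := (Submodule.mem_span_range_iff_exists_fun A).1 hf
  refine ⟨fun j => Submodule.Quotient.mk (c j), ?_⟩
  rw [ModuleCat.hom_sum, LinearMap.sum_apply]
  rfl

theorem Φ_injective (hvan : Van J G n) {k : ℕ} (F : ModuleCat.{u} A) [Module.Finite A F]
    (hF : Killed J k F) : Function.Injective (Φ G n hF) := by
  obtain ⟨b, π, hπ⟩ := exists_presentation F hF
  rw [injective_iff_map_eq_zero]
  intro t ht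
  have h1 : (Ext.mk₀ π).comp t (zero_add n) = 0 := by
    apply Φ_P_injective G n k b
    rw [map_zero]
    apply LinearMap.ext
    intro x
    rw [Φ_natural G n (killed_P k b) hF, ht]
    rfl
  have h2 := precomp_injective π hπ (killed_P k b) hvan
  exact h2 (h1.trans (Ext.comp_zero _ _ _ _ _).symm)

theorem Φ_surjective (hvan : Van J G n) {k : ℕ} (F : ModuleCat.{u} A) [Module.Finite A F]
    (hF : Killed J k F) : Function.Surjective (Φ G n hF) := by
  obtain ⟨b, π, hπ⟩ := exists_presentation F hF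
  intro φ
  obtain ⟨s, hs⟩ := Φ_P_surjective G n k b (φ ∘ₗ π.hom)
  have h0 : (Ext.mk₀ (kerι π)).comp s (zero_add n) = 0 := by
    apply Φ_injective hvan (Ker π) (killed_Ker π (killed_P k b))
    rw [map_zero]
    apply LinearMap.ext
    intro x
    rw [Φ_natural G n (killed_Ker π (killed_P k b)) (killed_P k b), hs]
    change φ (π.hom x.1) = 0
    have hx : π.hom x.1 = 0 := x.2
    rw [hx, map_zero]
  obtain ⟨t, ht⟩ := exists_of_comp_kerι_eq_zero π hπ s h0
  refine ⟨t, ?_⟩
  apply LinearMap.ext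
  intro f
  obtain ⟨x, rfl⟩ := hπ f
  rw [← Φ_natural G n (killed_P k b) hF, ht, hs]
  rfl

/-! ### Passing to the direct limit -/

lemma tr_injective (hvan : Van J G n) {k m : ℕ} (h : k ≤ m) :
    Function.Injective (tr J G n h) := by
  rw [injective_iff_map_eq_zero]
  intro y hy
  have hQ : Killed J m (Q J k) := (killed_Q k).mono h
  apply Φ_injective hvan (Q J k) hQ
  rw [map_zero]
  apply LinearMap.ext
  intro x
  obtain ⟨r, rfl⟩ := Submodule.Quotient.mk_surjective _ x
  have h1 : Φ G n hQ y (Submodule.Quotient.mk 1) = tr J G n h y := by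
    rw [← tr_Φ G n h (killed_Q k) y (Submodule.Quotient.mk 1), Φ_Q_one]
  have h2 : (Submodule.Quotient.mk r : Q J k) = r • (Submodule.Quotient.mk 1 : Q J k) := by
    change (Submodule.Quotient.mk r : A ⧸ J ^ k) = r • Submodule.Quotient.mk 1
    rw [← Submodule.Quotient.mk_smul, smul_eq_mul, mul_one]
  rw [h2, map_smul, h1, hy, smul_zero]
  rfl

lemma of_injective (hvan : Van J G n) (k : ℕ) : Function.Injective (HH.of J G n k) := by
  rw [injective_iff_map_eq_zero]
  intro y hy
  obtain ⟨m, h, h0⟩ := (HH.of_eq_zero_iff J G n y).1 hy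
  exact tr_injective hvan h (h0.trans (map_zero _).symm)

/-- the comparison map to `Hom(F, H^n_J(G))`. -/
noncomputable def Ψ {k : ℕ} {F : ModuleCat.{u} A} (hF : Killed J k F) :
    Abelian.Ext.{u} F G n →ₗ[A] (F →ₗ[A] HH J G n) where
  toFun t := (HH.of J G n k) ∘ₗ (Φ G n hF t)
  map_add' t t' := by rw [map_add, LinearMap.comp_add]
  map_smul' a t := by rw [map_smul, LinearMap.comp_smul]; rfl

lemma Ψ_apply {k : ℕ} {F : ModuleCat.{u} A} (hF : Killed J k F) (t : Abelian.Ext.{u} F G n)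
    (f : F) : Ψ hF t f = HH.of J G n k (Φ G n hF t f) := rfl

theorem Ψ_injective (hvan : Van J G n) {k : ℕ} (F : ModuleCat.{u} A) [Module.Finite A F]
    (hF : Killed J k F) : Function.Injective (Ψ (G := G) (n := n) hF) := by
  rw [injective_iff_map_eq_zero]
  intro t ht
  apply Φ_injective hvan F hF
  rw [map_zero]
  apply LinearMap.ext
  intro f
  apply of_injective hvan k
  rw [← Ψ_apply, ht]
  simp

theorem Ψ_surjective (hvan : Van J G n) {k : ℕ} (F : ModuleCat.{u} A) [Module.Finite A F]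
    (hF : Killed J k F) : Function.Surjective (Ψ (G := G) (n := n) hF) := by
  intro ψ
  obtain ⟨b, s, hs⟩ := Module.Finite.exists_fin (R := A) (M := F)
  choose mj y hy using fun j : Fin b => HH.exists_of J G n (ψ (s j))
  let m : ℕ := k + ∑ j, mj j
  have hkm : k ≤ m := Nat.le_add_right _ _
  have hjm : ∀ j, mj j ≤ m := fun j =>
    le_trans (Finset.single_le_sum (f := mj) (fun _ _ => Nat.zero_le _) (Finset.mem_univ j))
      (Nat.le_add_left _ _)
  have hrange : LinearMap.range ψ ≤ LinearMap.range (HH.of J G n m) := by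
    rw [LinearMap.range_eq_map, ← hs, Submodule.map_span, Submodule.span_le]
    rintro _ ⟨_, ⟨j, rfl⟩, rfl⟩
    exact ⟨tr J G n (hjm j) (y j), by rw [HH.of_tr, hy]⟩
  let e := LinearEquiv.ofInjective (HH.of J G n m) (of_injective hvan m)
  let φm : F →ₗ[A] Abelian.Ext.{u} (Q J m) G n :=
    e.symm.toLinearMap ∘ₗ
      (ψ.codRestrict (LinearMap.range (HH.of J G n m)) (fun f => hrange ⟨f, rfl⟩))
  have hφm : ∀ f, HH.of J G n m (φm f) = ψ f := by
    intro f
    have := e.apply_symm_apply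
      ((ψ.codRestrict (LinearMap.range (HH.of J G n m)) (fun f => hrange ⟨f, rfl⟩)) f)
    exact congrArg Subtype.val this
  obtain ⟨t, ht⟩ := Φ_surjective hvan F (hF.mono hkm) φm
  refine ⟨t, ?_⟩
  apply LinearMap.ext
  intro f
  rw [Ψ_apply, ← HH.of_tr J G n hkm, tr_Φ, ht, hφm]

theorem nonempty_equiv (hvan : Van J G n) {k : ℕ} (F : ModuleCat.{u} A) [Module.Finite A F]
    (hF : Killed J k F) :
    Nonempty (Abelian.Ext.{u} F G n ≃ₗ[A] (F →ₗ[A] HH J G n)) :=
  ⟨LinearEquiv.ofBijective (Ψ hF) ⟨Ψ_injective hvan F hF, Ψ_surjective hvan F hF⟩⟩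

end main

end Groth.Agent.Lib.Helper20.ExtRep
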