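import Mathlib

/-!
# Abstract lemmas on pullbacks: retracts, and `(-) ⨿ Z` in extensive categories (helper20)
-/

set_option autoImplicit false
set_option maxHeartbeats 400000

namespace Groth.Agent.Lib.Helper20.FSx1

open CategoryTheory CategoryTheory.Limits

universe v u

variable {C : Type u} [Category.{v} C]

/-- a commutative square which is a retract of a pullback square is a pullback square. -/
theorem isPullback_of_retract {P A B C₀ P' A' B' C' : C} {pA : P ⟶ A} {pB : P ⟶ B} {f : A ⟶ C₀}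
    {g : B ⟶ C₀} {pA' : P' ⟶ A'} {pB' : P' ⟶ B'} {f' : A' ⟶ C'} {g' : B' ⟶ C'}
    (h' : IsPullback pA' pB' f' g') (w : pA ≫ f = pB ≫ g)
    (iP : P ⟶ P') (iA : A ⟶ A') (iB : B ⟶ B') (iC : C₀ ⟶ C')
    (rP : P' ⟶ P) (rA : A' ⟶ A) (rB : B' ⟶ B)
    (hP : iP ≫ rP = 𝟙 P) (hA : iA ≫ rA = 𝟙 A) (hB : iB ≫ rB = 𝟙 B)
    (e1 : iP ≫ pA' = pA ≫ iA) (e2 : iP ≫ pB' = pB ≫ iB)
    (e3 : iA ≫ f' = f ≫ iC) (e4 : iB ≫ g' = g ≫ iC)
    (e5 : rP ≫ pA = pA' ≫ rA) (e6 : rP ≫ pB = pB' ≫ rB) : IsPullback pA pB f g := by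
  have hc : ∀ s : PullbackCone f g, (s.fst ≫ iA) ≫ f' = (s.snd ≫ iB) ≫ g' := by
    intro s
    rw [Category.assoc, e3, ← Category.assoc, s.condition, Category.assoc, Category.assoc, e4]
  refine ⟨⟨w⟩, ⟨PullbackCone.IsLimit.mk w
    (fun s => h'.lift (s.fst ≫ iA) (s.snd ≫ iB) (hc s) ≫ rP) ?_ ?_ ?_⟩⟩
  · intro s
    rw [Category.assoc, e5, ← Category.assoc, h'.lift_fst, Category.assoc, hA, Category.comp_id]
  · intro s
    rw [Category.assoc, e6, ← Category.assoc, h'.lift_snd, Category.assoc, hB, Category.comp_id]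
  · intro s m hm1 hm2
    have h1 : m ≫ iP = h'.lift (s.fst ≫ iA) (s.snd ≫ iB) (hc s) := by
      apply h'.hom_ext
      · rw [Category.assoc, e1, ← Category.assoc, hm1, h'.lift_fst]
      · rw [Category.assoc, e2, ← Category.assoc, hm2, h'.lift_snd]
    rw [← h1, Category.assoc, hP, Category.comp_id]

variable [FinitaryExtensive C]

/-- `(-) ⨿ Z` reflects pullback squares. -/
theorem isPullback_of_isPullback_coprod {P A B C₀ Z P' A' B' C' : C}
    {pA : P ⟶ A} {pB : P ⟶ B} {f : A ⟶ C₀} {g : B ⟶ C₀} (w : pA ≫ f = pB ≫ g)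
    {iP : P ⟶ P'} {jP : Z ⟶ P'} {iA : A ⟶ A'} {jA : Z ⟶ A'} {iB : B ⟶ B'} {jB : Z ⟶ B'}
    {iC : C₀ ⟶ C'}
    (hcP : IsColimit (BinaryCofan.mk iP jP)) (hcA : IsColimit (BinaryCofan.mk iA jA))
    (hcB : IsColimit (BinaryCofan.mk iB jB))
    {pA' : P' ⟶ A'} {pB' : P' ⟶ B'} {f' : A' ⟶ C'} {g' : B' ⟶ C'}
    (h1 : iP ≫ pA' = pA ≫ iA) (h1r : jP ≫ pA' = jA)
    (h2 : iP ≫ pB' = pB ≫ iB)
    (h3 : iA ≫ f' = f ≫ iC) (h4 : iB ≫ g' = g ≫ iC)
    (h' : IsPullback pA' pB' f' g') : IsPullback pA pB f g := by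
  have sqA : IsPullback iP pA pA' iA :=
    (((BinaryCofan.isVanKampen_iff (BinaryCofan.mk iA jA)).1
      (FinitaryExtensive.vanKampen _ hcA) (BinaryCofan.mk iP jP) pA (𝟙 Z) pA'
      h1.symm (by simp only [BinaryCofan.mk_inr, Category.id_comp]; exact h1r.symm)).1 ⟨hcP⟩).1
  have : Mono iB := FinitaryExtensive.mono_inl_of_isColimit hcB
  have hc : ∀ s : PullbackCone f g, (s.fst ≫ iA) ≫ f' = (s.snd ≫ iB) ≫ g' := by
    intro s
    rw [Category.assoc, h3, ← Category.assoc, s.condition, Category.assoc, Category.assoc, h4]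
  have hw : ∀ s : PullbackCone f g,
      h'.lift (s.fst ≫ iA) (s.snd ≫ iB) (hc s) ≫ pA' = s.fst ≫ iA :=
    fun s => h'.lift_fst _ _ _
  refine ⟨⟨w⟩, ⟨PullbackCone.IsLimit.mk w
    (fun s => sqA.lift (h'.lift (s.fst ≫ iA) (s.snd ≫ iB) (hc s)) s.fst (hw s)) ?_ ?_ ?_⟩⟩
  · intro s
    exact sqA.lift_snd _ _ _
  · intro s
    rw [← cancel_mono iB, Category.assoc, ← h2, ← Category.assoc, sqA.lift_fst,
      h'.lift_snd]
  · intro s m hm1 hm2
    apply sqA.hom_ext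
    · rw [sqA.lift_fst]
      apply h'.hom_ext
      · rw [Category.assoc, h1, ← Category.assoc, hm1, h'.lift_fst]
      · rw [Category.assoc, h2, ← Category.assoc, hm2, h'.lift_snd]
    · rw [sqA.lift_snd, hm1]

section preserve

variable [HasPullbacks C]

/-- `(-) ⨿ Z` preserves pullback squares. -/
theorem isPullback_coprod_of_isPullback {P A B C₀ Z P' A' B' C' : C}
    {pA : P ⟶ A} {pB : P ⟶ B} {f : A ⟶ C₀} {g : B ⟶ C₀} (h : IsPullback pA pB f g)
    {iP : P ⟶ P'} {jP : Z ⟶ P'} {iA : A ⟶ A'} {jA : Z ⟶ A'} {iB : B ⟶ B'} {jB : Z ⟶ B'}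
    {iC : C₀ ⟶ C'} {jC : Z ⟶ C'}
    (hcP : IsColimit (BinaryCofan.mk iP jP)) (hcA : IsColimit (BinaryCofan.mk iA jA))
    (hcB : IsColimit (BinaryCofan.mk iB jB)) (hcC : IsColimit (BinaryCofan.mk iC jC))
    {pA' : P' ⟶ A'} {pB' : P' ⟶ B'} {f' : A' ⟶ C'} {g' : B' ⟶ C'}
    (h1 : iP ≫ pA' = pA ≫ iA) (h1r : jP ≫ pA' = jA)
    (h2 : iP ≫ pB' = pB ≫ iB) (h2r : jP ≫ pB' = jB)
    (h3 : iA ≫ f' = f ≫ iC) (h3r : jA ≫ f' = jC)
    (h4 : iB ≫ g' = g ≫ iC) (h4r : jB ≫ g' = jC) :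
    IsPullback pA' pB' f' g' := by
  -- the Van Kampen squares over `C'`
  have sqB := ((BinaryCofan.isVanKampen_iff (BinaryCofan.mk iC jC)).1
    (FinitaryExtensive.vanKampen _ hcC) (BinaryCofan.mk iB jB) g (𝟙 Z) g' h4.symm
    ((Category.id_comp jC).trans h4r.symm)).1 ⟨hcB⟩
  have sqBl : IsPullback iB g g' iC := sqB.1
  have sqBr : IsPullback jB (𝟙 Z) g' jC := sqB.2
  have hau : IsUniversalColimit (BinaryCofan.mk iA jA) :=
    (FinitaryExtensive.vanKampen _ hcA).isUniversal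
  have key := IsUniversalColimit.isPullback_of_isColimit_right
    (X := fun j : WalkingPair => WalkingPair.casesOn (motive := fun _ => C) j A Z) (a := BinaryCofan.mk iA jA) hau
    (fun j => match j with
      | .left => (f ≫ iC : A ⟶ C')
      | .right => jC) f' g'
    (P := fun j : WalkingPair => WalkingPair.casesOn (motive := fun _ => C) j P Z)
    (fun j => match j with
      | .left => pA
      | .right => 𝟙 Z)
    (fun j => match j with
      | .left => (pB ≫ iB : P ⟶ B')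
      | .right => jB)
    (fun j => match j with
      | .left => h.paste_vert sqBl.flip
      | .right => sqBr.flip)
    (d := BinaryCofan.mk iP jP) hcP
    (fun j => match j with
      | .left => h3
      | .right => h3r)
  obtain ⟨x, y, hx1, hx2, hy1, hy2, key'⟩ : ∃ (x : P' ⟶ A') (y : P' ⟶ B'),
      iP ≫ x = pA ≫ iA ∧ jP ≫ x = jA ∧ iP ≫ y = pB ≫ iB ∧ jP ≫ y = jB ∧
        IsPullback x y f' g' := by
    refine ⟨_, _, ?_, ?_, ?_, ?_, key⟩
    · exact Cofan.IsColimit.fac hcP _ WalkingPair.left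
    · exact (Cofan.IsColimit.fac hcP _ WalkingPair.right).trans (Category.id_comp _)
    · exact Cofan.IsColimit.fac hcP _ WalkingPair.left
    · exact Cofan.IsColimit.fac hcP _ WalkingPair.right
  have ex : x = pA' := by
    apply BinaryCofan.IsColimit.hom_ext hcP
    · exact hx1.trans h1.symm
    · exact hx2.trans h1r.symm
  have ey : y = pB' := by
    apply BinaryCofan.IsColimit.hom_ext hcP
    · exact hy1.trans h2.symm
    · exact hy2.trans h2r.symm
  rw [← ex, ← ey]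
  exact key'

end preserve

section functor

variable {D : Type u} [Category.{v} D]

/-- a functor `T` preserves a pullback square admitting compatible sections of a natural
transformation `r : Π ⟶ 𝟭`, as soon as `Π ⋙ T` preserves it. -/
theorem map_isPullback_of_sections (T : C ⥤ D) (Pi : C ⥤ C) (r : Pi ⟶ 𝟭 C)
    {P A B C₀ : C} {pA : P ⟶ A} {pB : P ⟶ B} {f : A ⟶ C₀} {g : B ⟶ C₀}
    (h : IsPullback pA pB f g)
    (hPi : IsPullback (T.map (Pi.map pA)) (T.map (Pi.map pB)) (T.map (Pi.map f))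
      (T.map (Pi.map g)))
    (sP : P ⟶ Pi.obj P) (sA : A ⟶ Pi.obj A) (sB : B ⟶ Pi.obj B) (sC : C₀ ⟶ Pi.obj C₀)
    (hsP : sP ≫ r.app P = 𝟙 P) (hsA : sA ≫ r.app A = 𝟙 A) (hsB : sB ≫ r.app B = 𝟙 B)
    (n1 : sP ≫ Pi.map pA = pA ≫ sA) (n2 : sP ≫ Pi.map pB = pB ≫ sB)
    (n3 : sA ≫ Pi.map f = f ≫ sC) (n4 : sB ≫ Pi.map g = g ≫ sC) :
    IsPullback (T.map pA) (T.map pB) (T.map f) (T.map g) := by
  refine isPullback_of_retract hPi (by rw [← T.map_comp, h.w, T.map_comp])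
    (T.map sP) (T.map sA) (T.map sB) (T.map sC) (T.map (r.app P)) (T.map (r.app A))
    (T.map (r.app B)) ?_ ?_ ?_ ?_ ?_ ?_ ?_ ?_ ?_
  · rw [← T.map_comp, hsP, T.map_id]
  · rw [← T.map_comp, hsA, T.map_id]
  · rw [← T.map_comp, hsB, T.map_id]
  · rw [← T.map_comp, n1, T.map_comp]
  · rw [← T.map_comp, n2, T.map_comp]
  · rw [← T.map_comp, n3, T.map_comp]
  · rw [← T.map_comp, n4, T.map_comp]
  · rw [← T.map_comp, ← T.map_comp]
    congr 1
    exact (r.naturality pA).symm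
  · rw [← T.map_comp, ← T.map_comp]
    congr 1
    exact (r.naturality pB).symm

variable [FinitaryExtensive D] [HasPullbacks C]

/-- if a coproduct-preserving functor between extensive categories preserves the pullback squares
whose corners carry compatible `Z`-points, then it preserves all pullback squares. -/
theorem map_isPullback_of_pointed (T : C ⥤ D) [PreservesColimitsOfShape (Discrete WalkingPair) T]
    (Z : C)
    (hT : ∀ {P A B C₀ : C} {pA : P ⟶ A} {pB : P ⟶ B} {f : A ⟶ C₀} {g : B ⟶ C₀},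
      IsPullback pA pB f g → ∀ (p₀ : Z ⟶ P),
        IsPullback (T.map pA) (T.map pB) (T.map f) (T.map g))
    {P A B C₀ : C} {pA : P ⟶ A} {pB : P ⟶ B} {f : A ⟶ C₀} {g : B ⟶ C₀}
    (h : IsPullback pA pB f g) :
    IsPullback (T.map pA) (T.map pB) (T.map f) (T.map g) := by
  have hplus : IsPullback (coprod.map pA (𝟙 Z)) (coprod.map pB (𝟙 Z)) (coprod.map f (𝟙 Z))
      (coprod.map g (𝟙 Z)) :=
    isPullback_coprod_of_isPullback h (coprodIsCoprod P Z) (coprodIsCoprod A Z)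
      (coprodIsCoprod B Z) (coprodIsCoprod C₀ Z) (by simp) (by simp) (by simp) (by simp)
      (by simp) (by simp) (by simp) (by simp)
  have hT' := hT hplus coprod.inr
  have hc : ∀ X : C, IsColimit (BinaryCofan.mk (T.map (coprod.inl : X ⟶ X ⨿ Z))
      (T.map (coprod.inr : Z ⟶ X ⨿ Z))) := fun X =>
    (isColimitMapCoconeBinaryCofanEquiv T _ _) (isColimitOfPreserves T (coprodIsCoprod X Z))
  refine isPullback_of_isPullback_coprod (iC := T.map (coprod.inl : C₀ ⟶ C₀ ⨿ Z))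
    (by rw [← T.map_comp, h.w, T.map_comp])
    (hc P) (hc A) (hc B) ?_ ?_ ?_ ?_ ?_ hT'
  · rw [← T.map_comp, ← T.map_comp, coprod.inl_map]
  · rw [← T.map_comp, coprod.inr_map, Category.id_comp]
  · rw [← T.map_comp, ← T.map_comp, coprod.inl_map]
  · rw [← T.map_comp, ← T.map_comp, coprod.inl_map]
  · rw [← T.map_comp, ← T.map_comp, coprod.inl_map]

end functor

end Groth.Agent.Lib.Helper20.FSx1
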