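import Groth.Agent.Lib.Helper20.FibSiteLan

/-!
# Sections of the counit `restr ∘ coextend ⟶ 𝟭` on pointed sheaves (helper20)
-/

set_option linter.unusedVariables false
set_option linter.unusedSectionVars false

set_option backward.isDefEq.respectTransparency false
set_option backward.isDefEq.respectTransparency.types false
set_option backward.defeqAttrib.useBackward true
set_option maxHeartbeats 400000

namespace Groth.Agent.Lib.Helper20.FSx2

universe u
open CategoryTheory CategoryTheory.Limits Opposite Pseudofunctor Pseudofunctor.CoGrothendieck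
  Bicategory FibSite
open Groth.Agent.Lib.Helper20.FibSiteTop Groth.Agent.Lib.Helper20.FibSiteCont
  Groth.Agent.Lib.Helper20.FibSiteRan Groth.Agent.Lib.Helper20

variable {𝒮 : Type u} [SmallCategory 𝒮] (F : Pseudofunctor (LocallyDiscrete 𝒮ᵒᵖ) Cat.{u, u})
  (J : Topologies F) (S : 𝒮)
  [(ι F S).IsContinuous (J S) (totalTopology F J)]
  [(ι F S).IsCocontinuous (J S) (totalTopology F J)]
  [∀ (f : S ⟶ S), (invImage F f).IsContinuous (J S) (J S)]

/-- `restr ∘ coextend` on the fibre over `S`. -/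
noncomputable abbrev Pi : Sheaf (J S) (Type u) ⥤ Sheaf (J S) (Type u) :=
  coextend F J (Type u) S ⋙ restr F J (Type u) S

/-- the counit `restr ∘ coextend ⟶ 𝟭`. -/
noncomputable abbrev rr : Pi F J S ⟶ 𝟭 _ :=
  ((ι F S).sheafAdjunctionCocontinuous (Type u) (J S) (totalTopology F J)).counit

/-- the unit isomorphism component `V ⟶ 𝟙^* V`. -/
noncomputable def psi (V : F.obj ⟨op S⟩) : V ⟶ (invImage F (𝟙 S)).obj V :=
  (F.mapId ⟨op S⟩).inv.toNatTrans.app V

lemma mkHom_psi (V : F.obj ⟨op S⟩) : mkHom F (𝟙 S) (psi F S V) = 𝟙 ((ι F S).obj V) := rfl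

instance (V : F.obj ⟨op S⟩) : IsIso (psi F S V) := by
  unfold psi
  rw [← Cat.Hom.toNatIso_inv]
  infer_instance

lemma rr_app (b : Sheaf (J S) (Type u)) (V : (F.obj ⟨op S⟩)ᵒᵖ) (q : ((Pi F J S).obj b).obj.obj V) :
    ((rr F J S).app b).hom.app V q =
      b.obj.map (psi F S V.unop).op ((ranProjSheaf F J S S b (𝟙 S)).hom.app V q) := by
  show (((ι F S).sheafAdjunctionCocontinuous (Type u) (J S)
    (totalTopology F J)).counit.app b).hom.app _ _ = _
  rw [Functor.sheafAdjunctionCocontinuous_counit_app_hom, Functor.ranAdjunction_counit]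
  have h := hom_app_map_mkHom (Functor.RightExtension.mk _ ((ι F S).op.ranCounit.app b.obj))
    (𝟙 S) V.unop (psi F S V.unop) q
  rw [mkHom_psi, op_id, CategoryTheory.Functor.map_id] at h
  exact h


/-- naturality of the projections in the sheaf. -/
lemma ranProjSheaf_natural {b b' : Sheaf (J S) (Type u)} (h : b ⟶ b') (f : S ⟶ S)
    (V : (F.obj ⟨op S⟩)ᵒᵖ) (q : ((Pi F J S).obj b).obj.obj V) :
    (ranProjSheaf F J S S b' f).hom.app V (((Pi F J S).map h).hom.app V q) =
      h.hom.app (op ((invImage F f).obj V.unop)) ((ranProjSheaf F J S S b f).hom.app V q) := by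
  have n1 := NatTrans.naturality_apply ((ι F S).op.ran.map h.hom) (cart F f V.unop).op q
  have n2 := ConcreteCategory.congr_hom (NatTrans.congr_app
    ((ι F S).op.ranCounit.naturality h.hom) (op ((invImage F f).obj V.unop)))
    (((ι F S).op.ran.obj b.obj).map (cart F f V.unop).op q)
  exact (congrArg (fun t => ((ι F S).op.ranCounit.app b'.obj).app
    (op ((invImage F f).obj V.unop)) t) n1.symm).trans n2


section points

variable {C : Type u} [SmallCategory C] {K : GrothendieckTopology C}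

/-- a global element of a sheaf of sets. -/
structure Pt (b : Sheaf K (Type u)) where
  el : ∀ V : Cᵒᵖ, b.obj.obj V
  nat : ∀ {V V' : Cᵒᵖ} (s : V ⟶ V'), b.obj.map s (el V) = el V'

variable (K) in
/-- the one-point sheaf. -/
def onePt : Sheaf K (Type u) :=
  ⟨(Functor.const _).obj PUnit, (isSheaf_iff_isSheaf_of_type _ _).2
    (fun _ _ _ _ _ => ⟨PUnit.unit, fun _ _ _ => rfl, fun _ _ => rfl⟩)⟩

/-- a morphism from the one-point sheaf gives a global element. -/
def Pt.ofHom {b : Sheaf K (Type u)} (z : onePt K ⟶ b) : Pt b where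
  el V := z.hom.app V PUnit.unit
  nat {V V'} s := (NatTrans.naturality_apply z.hom s PUnit.unit).symm

lemma Pt.ofHom_comp {b b' : Sheaf K (Type u)} (z : onePt K ⟶ b) (h : b ⟶ b') (V : Cᵒᵖ) :
    h.hom.app V ((Pt.ofHom z).el V) = (Pt.ofHom (z ≫ h)).el V := rfl

end points


section sigma

lemma psi_natural {V V' : F.obj ⟨op S⟩} (g : V' ⟶ V) :
    g ≫ psi F S V = psi F S V' ≫ (invImage F (𝟙 S)).map g :=
  ((F.mapId ⟨op S⟩).inv.toNatTrans.naturality g)

lemma inv_psi_natural {V V' : F.obj ⟨op S⟩} (g : V' ⟶ V) :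
    (invImage F (𝟙 S)).map g ≫ inv (psi F S V) = inv (psi F S V') ≫ g := by
  rw [IsIso.comp_inv_eq, Category.assoc, psi_natural, IsIso.inv_hom_id_assoc]


variable (b : Sheaf (J S) (Type u)) (pt : Pt b)

open Classical in
/-- the family defining the section. -/
noncomputable def tfam (V : (F.obj ⟨op S⟩)ᵒᵖ) (x : b.obj.obj V) (f : S ⟶ S) :
    b.obj.obj (op ((invImage F f).obj V.unop)) :=
  if h : f = 𝟙 S then h ▸ b.obj.map (inv (psi F S V.unop)).op x else pt.el _


lemma tfam_one (V : (F.obj ⟨op S⟩)ᵒᵖ) (x : b.obj.obj V) :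
    tfam F J S b pt V x (𝟙 S) = b.obj.map (inv (psi F S V.unop)).op x := by
  unfold tfam
  rw [dif_pos rfl]

lemma tfam_ne (V : (F.obj ⟨op S⟩)ᵒᵖ) (x : b.obj.obj V) {f : S ⟶ S} (h : f ≠ 𝟙 S) :
    tfam F J S b pt V x f = pt.el _ := by
  unfold tfam
  rw [dif_neg h]

/-- the value of the section. -/
noncomputable def sigmaApp (V : (F.obj ⟨op S⟩)ᵒᵖ) (x : b.obj.obj V) :
    ((Pi F J S).obj b).obj.obj V :=
  Classical.choose ((bijective_ranProj F J S S b V).2 (tfam F J S b pt V x))

lemma sigmaApp_spec (V : (F.obj ⟨op S⟩)ᵒᵖ) (x : b.obj.obj V) (f : S ⟶ S) :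
    (ranProjSheaf F J S S b f).hom.app V (sigmaApp F J S b pt V x) = tfam F J S b pt V x f :=
  congrFun (Classical.choose_spec ((bijective_ranProj F J S S b V).2 (tfam F J S b pt V x))) f

omit pt in
lemma Pi_ext {V : (F.obj ⟨op S⟩)ᵒᵖ} {q q' : ((Pi F J S).obj b).obj.obj V}
    (h : ∀ f : S ⟶ S, (ranProjSheaf F J S S b f).hom.app V q =
      (ranProjSheaf F J S S b f).hom.app V q') : q = q' :=
  (bijective_ranProj F J S S b V).1 (funext h)

lemma sigmaApp_natural {V V' : (F.obj ⟨op S⟩)ᵒᵖ} (s : V ⟶ V') (x : b.obj.obj V) :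
    ((Pi F J S).obj b).obj.map s (sigmaApp F J S b pt V x) =
      sigmaApp F J S b pt V' (b.obj.map s x) := by
  apply Pi_ext
  intro f
  have n := NatTrans.naturality_apply (ranProjSheaf F J S S b f).hom s (sigmaApp F J S b pt V x)
  refine n.trans ?_
  rw [sigmaApp_spec, sigmaApp_spec]
  show b.obj.map ((invImage F f).map s.unop).op _ = _
  by_cases hf : f = 𝟙 S
  · subst hf
    rw [tfam_one, tfam_one, ← FunctorToTypes.map_comp_apply, ← FunctorToTypes.map_comp_apply,
      ← op_comp, inv_psi_natural]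
    rfl
  · rw [tfam_ne F J S b pt _ _ hf, tfam_ne F J S b pt _ _ hf]
    exact pt.nat _


/-- the section `b ⟶ Π b` determined by a global element of `b`. -/
noncomputable def sigma : b ⟶ (Pi F J S).obj b :=
  ObjectProperty.homMk
    { app := fun V => ↾(sigmaApp F J S b pt V)
      naturality := fun V V' s => by
        ext x
        exact (sigmaApp_natural F J S b pt s x).symm }

lemma sigma_app (V : (F.obj ⟨op S⟩)ᵒᵖ) (x : b.obj.obj V) :
    (sigma F J S b pt).hom.app V x = sigmaApp F J S b pt V x := rfl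

lemma sigma_rr : sigma F J S b pt ≫ (rr F J S).app b = 𝟙 b := by
  apply ObjectProperty.hom_ext
  ext V x
  show ((rr F J S).app b).hom.app V ((sigma F J S b pt).hom.app V x) = x
  rw [rr_app, sigma_app, sigmaApp_spec, tfam_one, ← FunctorToTypes.map_comp_apply, ← op_comp,
    IsIso.hom_inv_id, op_id, FunctorToTypes.map_id_apply]

lemma sigma_natural {b' : Sheaf (J S) (Type u)} (pt' : Pt b') (h : b ⟶ b')
    (hpt : ∀ V, h.hom.app V (pt.el V) = pt'.el V) :
    sigma F J S b pt ≫ (Pi F J S).map h = h ≫ sigma F J S b' pt' := by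
  apply ObjectProperty.hom_ext
  ext V x
  show ((Pi F J S).map h).hom.app V ((sigma F J S b pt).hom.app V x) =
    (sigma F J S b' pt').hom.app V (h.hom.app V x)
  rw [sigma_app, sigma_app]
  apply Pi_ext
  intro f
  rw [ranProjSheaf_natural, sigmaApp_spec, sigmaApp_spec]
  by_cases hf : f = 𝟙 S
  · subst hf
    rw [tfam_one, tfam_one]
    exact NatTrans.naturality_apply h.hom _ x
  · rw [tfam_ne F J S b pt _ _ hf, tfam_ne F J S b' pt' _ _ hf]
    exact hpt _

end sigma

end Groth.Agent.Lib.Helper20.FSx2
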