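import Groth.Agent.Lib.Helper20.FibSiteLan

/-! Cartesian functors between fibred sites. helper20 -/

set_option backward.isDefEq.respectTransparency false
set_option backward.isDefEq.respectTransparency.types false
set_option backward.defeqAttrib.useBackward true

namespace Groth.Agent.Lib.Helper20.FibSiteMap

universe w v₁ u₁ v₂ u₂ v₃ u₃
open CategoryTheory CategoryTheory.Limits Opposite Pseudofunctor Pseudofunctor.CoGrothendieck
  Bicategory FibSite
open scoped CategoryTheory.Pseudofunctor.StrongTrans
open Groth.Agent.Lib.Helper20.FibSiteTop Groth.Agent.Lib.Helper20.FibSiteCont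
  Groth.Agent.Lib.Helper20.FibSiteRan Groth.Agent.Lib.Helper20.FibSiteLan Groth.Agent.Lib.Helper20

section General

variable {𝒮 : Type u₁} [Category.{v₁} 𝒮] {F G : Pseudofunctor (LocallyDiscrete 𝒮ᵒᵖ) Cat.{v₂, u₂}}
  (α : G ⟶ F)

lemma map_ι_map (j : 𝒮) {U U' : G.obj ⟨op j⟩} (φ : U ⟶ U') :
    (CoGrothendieck.map α).map ((ι G j).map φ) =
      (ι F j).map ((α.app ⟨op j⟩).toFunctor.map φ) := by
  ext1
  · rfl
  · simp [StrongTrans.naturality_id_hom_app, Cat.Hom.id_toFunctor, ← Category.assoc,
        ← Functor.map_comp]
    rw [Category.assoc]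
    simp [← Cat.Hom.toNatIso_hom, ← Cat.Hom.toNatIso_inv]

/-- compatibility of the fibre inclusions with a cartesian functor -/
def ιCompMapIso (j : 𝒮) :
    ι G j ⋙ CoGrothendieck.map α ≅ (α.app ⟨op j⟩).toFunctor ⋙ ι F j :=
  NatIso.ofComponents (fun U => Iso.refl _) (by
    intro U U' φ
    rw [Iso.refl_hom, Iso.refl_hom]
    exact (Category.comp_id _).trans ((map_ι_map α j φ).trans (Category.id_comp _).symm))

/-- the comparison morphism `α_R (f^* U) ⟶ f^* (α_S U)` -/
abbrev nu {R S : 𝒮} (f : R ⟶ S) (U : G.obj ⟨op S⟩) :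
    (α.app ⟨op R⟩).toFunctor.obj ((invImage G f).obj U) ⟶
      (invImage F f).obj ((α.app ⟨op S⟩).toFunctor.obj U) :=
  (α.naturality f.op.toLoc).hom.toNatTrans.app U

instance {R S : 𝒮} (f : R ⟶ S) (U : G.obj ⟨op S⟩) : IsIso (nu α f U) := by
  unfold nu
  rw [← Cat.Hom.toNatIso_hom]
  infer_instance

lemma map_mkHom {R S : 𝒮} (f : R ⟶ S) {W : G.obj ⟨op R⟩} {U : G.obj ⟨op S⟩}
    (φ : W ⟶ (invImage G f).obj U) :
    (CoGrothendieck.map α).map (mkHom G f φ) =
      mkHom F f ((α.app ⟨op R⟩).toFunctor.map φ ≫ nu α f U) := rfl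

theorem isContinuous_map (J : Topologies F) (K : Topologies G) (hF : IsPreFibSite F J)
    (hG : IsPreFibSite G K)
    (hα : ∀ S, (α.app ⟨op S⟩).toFunctor.IsContinuous (K S) (J S)) :
    (CoGrothendieck.map α).IsContinuous (totalTopology G K) (totalTopology F J) := by
  constructor
  intro T
  apply isSheaf_of_forall_fibre hG
  intro S
  have := hα S
  have := isContinuous_ι hF S
  have h1 := Functor.isContinuous_comp (α.app ⟨op S⟩).toFunctor (ι F S) (K S) (J S)
    (totalTopology F J)
  have h2 : (ι G S ⋙ CoGrothendieck.map α).IsContinuous (K S) (totalTopology F J) :=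
    Functor.isContinuous_of_iso (ιCompMapIso α S).symm _ _
  exact Functor.op_comp_isSheaf_of_types (ι G S ⋙ CoGrothendieck.map α) (K S)
    (totalTopology F J) T

end General

section Cart

universe u

variable {𝒮 : Type u} [SmallCategory 𝒮] {F G : Pseudofunctor (LocallyDiscrete 𝒮ᵒᵖ) Cat.{u, u}}
  (α : G ⟶ F) (J : Topologies F) (K : Topologies G) (j : 𝒮)
  [(CoGrothendieck.map α).IsContinuous (totalTopology G K) (totalTopology F J)]
  [(ι F j).IsContinuous (J j) (totalTopology F J)]
  [(ι G j).IsContinuous (K j) (totalTopology G K)]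
  [(ι F j).IsCocontinuous (J j) (totalTopology F J)]
  [(ι G j).IsCocontinuous (K j) (totalTopology G K)]
  [(α.app ⟨op j⟩).toFunctor.IsContinuous (K j) (J j)]

/-- `m_*` -/
noncomputable abbrev mS : Sheaf (totalTopology F J) (Type u) ⥤ Sheaf (totalTopology G K) (Type u) :=
  (CoGrothendieck.map α).sheafPushforwardContinuous (Type u) (totalTopology G K)
    (totalTopology F J)

/-- `(α_j)_*` -/
noncomputable abbrev aS : Sheaf (J j) (Type u) ⥤ Sheaf (K j) (Type u) :=
  (α.app ⟨op j⟩).toFunctor.sheafPushforwardContinuous (Type u) (K j) (J j)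

/-- the (identity) comparison of the two restrictions -/
noncomputable def kappa :
    mS α J K ⋙ restr G K (Type u) j ⟶ restr F J (Type u) j ⋙ aS α J K j where
  app T := ObjectProperty.homMk
    { app := fun U =>
        𝟙 (T.obj.obj (op ((ι F j).obj ((α.app ⟨op j⟩).toFunctor.obj U.unop))))
      naturality := fun U U' s => by
        have h : T.obj.map ((CoGrothendieck.map α).map ((ι G j).map s.unop)).op =
            T.obj.map ((ι F j).map ((α.app ⟨op j⟩).toFunctor.map s.unop)).op := by
          rw [map_ι_map]
        exact (Category.comp_id _).trans (h.trans (Category.id_comp _).symm) }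
  naturality T T' φ := by
    apply Sheaf.hom_ext
    ext U x
    rfl

/-- the base change morphism -/
noncomputable def gamma :
    coextend F J (Type u) j ⋙ mS α J K ⟶ aS α J K j ⋙ coextend G K (Type u) j :=
  (mateEquiv ((ι F j).sheafAdjunctionCocontinuous (Type u) (J j) (totalTopology F J))
    ((ι G j).sheafAdjunctionCocontinuous (Type u) (K j) (totalTopology G K))
    (.mk _ _ _ _ (kappa α J K j))).natTrans

lemma counit_gamma (b : Sheaf (J j) (Type u)) (W : G.obj ⟨op j⟩)
    (z : ((coextend F J (Type u) j).obj b).obj.obj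
      (op ((ι F j).obj ((α.app ⟨op j⟩).toFunctor.obj W)))) :
    ((ι G j).op.ranCounit.app ((aS α J K j).obj b).obj).app (op W)
      (((gamma α J K j).app b).hom.app (op ((ι G j).obj W)) z) =
    ((ι F j).op.ranCounit.app b.obj).app (op ((α.app ⟨op j⟩).toFunctor.obj W)) z := by
  have h := mateEquiv_counit
    ((ι F j).sheafAdjunctionCocontinuous (Type u) (J j) (totalTopology F J))
    ((ι G j).sheafAdjunctionCocontinuous (Type u) (K j) (totalTopology G K))
    (.mk _ _ _ _ (kappa α J K j)) b
  have h2 := congrArg (fun φ => φ.hom.app (op W) z) h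
  refine Eq.trans ?_ (h2.trans ?_)
  · show _ = (((ι G j).sheafAdjunctionCocontinuous (Type u) (K j)
      (totalTopology G K)).counit.app _).hom.app _ _
    rw [Functor.sheafAdjunctionCocontinuous_counit_app_hom, Functor.ranAdjunction_counit]
    rfl
  · show (((ι F j).sheafAdjunctionCocontinuous (Type u) (J j)
      (totalTopology F J)).counit.app _).hom.app _ _ = _
    rw [Functor.sheafAdjunctionCocontinuous_counit_app_hom, Functor.ranAdjunction_counit]
    rfl

lemma ranProj_gamma (b : Sheaf (J j) (Type u)) {S : 𝒮} (U : G.obj ⟨op S⟩) (f : j ⟶ S)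
    (x : ((coextend F J (Type u) j).obj b).obj.obj
      (op ((ι F S).obj ((α.app ⟨op S⟩).toFunctor.obj U)))) :
    ranProj (Functor.RightExtension.mk _
        ((ι G j).op.ranCounit.app ((aS α J K j).obj b).obj)) f U
      (((gamma α J K j).app b).hom.app (op ((ι G S).obj U)) x) =
    b.obj.map ((α.app ⟨op j⟩).toFunctor.map (𝟙 _) ≫ nu α f U).op
      (ranProj (Functor.RightExtension.mk _ ((ι F j).op.ranCounit.app b.obj)) f
        ((α.app ⟨op S⟩).toFunctor.obj U) x) := by
  have e1 : ranProj (Functor.RightExtension.mk _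
        ((ι G j).op.ranCounit.app ((aS α J K j).obj b).obj)) f U
      (((gamma α J K j).app b).hom.app (op ((ι G S).obj U)) x) =
      ((ι G j).op.ranCounit.app ((aS α J K j).obj b).obj).app (op ((invImage G f).obj U))
        (((gamma α J K j).app b).hom.app (op ((ι G j).obj ((invImage G f).obj U)))
          (((coextend F J (Type u) j).obj b).obj.map
            ((CoGrothendieck.map α).map (cart G f U)).op x)) := by
    unfold ranProj
    exact congrArg _
      (NatTrans.naturality_apply ((gamma α J K j).app b).hom (cart G f U).op x).symm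
  rw [e1, counit_gamma]
  exact hom_app_map_mkHom (Functor.RightExtension.mk _ ((ι F j).op.ranCounit.app b.obj)) f _ _ x

theorem isIso_gamma_app (b : Sheaf (J j) (Type u)) : IsIso ((gamma α J K j).app b) := by
  have h1 : IsIso ((sheafToPresheaf (totalTopology G K) (Type u)).map
      ((gamma α J K j).app b)) := by
    apply (config := { allowSynthFailures := true }) NatIso.isIso_of_isIso_app
    intro X
    obtain ⟨⟨S, U⟩⟩ := X
    rw [isIso_iff_bijective]
    have hpsi : ∀ f : j ⟶ S, Function.Bijective
        (b.obj.map ((α.app ⟨op j⟩).toFunctor.map (𝟙 _) ≫ nu α f U).op) := by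
      intro f
      rw [← isIso_iff_bijective]
      infer_instance
    constructor
    · intro x x' h
      apply ranProj_injective (Functor.RightExtension.mk _ ((ι F j).op.ranCounit.app b.obj))
        ((α.app ⟨op S⟩).toFunctor.obj U)
        (Functor.isPointwiseRightKanExtensionRanCounit (ι F j).op b.obj _)
      intro f
      apply (hpsi f).1
      have e1 := ranProj_gamma α J K j b U f x
      have e2 := ranProj_gamma α J K j b U f x'
      exact e1.symm.trans ((congrArg (fun y => ranProj (Functor.RightExtension.mk _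
        ((ι G j).op.ranCounit.app ((aS α J K j).obj b).obj)) f U y) h).trans e2)
    · intro y
      obtain ⟨x, hx⟩ := ranProj_surjective
        (Functor.RightExtension.mk _ ((ι F j).op.ranCounit.app b.obj))
        ((α.app ⟨op S⟩).toFunctor.obj U)
        (Functor.isPointwiseRightKanExtensionRanCounit (ι F j).op b.obj _)
        (fun f => ((hpsi f).2 (ranProj (Functor.RightExtension.mk _
          ((ι G j).op.ranCounit.app ((aS α J K j).obj b).obj)) f U y)).choose)
      refine ⟨x, ?_⟩
      apply ranProj_injective (Functor.RightExtension.mk _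
          ((ι G j).op.ranCounit.app ((aS α J K j).obj b).obj)) U
        (Functor.isPointwiseRightKanExtensionRanCounit (ι G j).op ((aS α J K j).obj b).obj _)
      intro f
      refine (ranProj_gamma α J K j b U f x).trans ?_
      rw [hx f]
      exact ((hpsi f).2 _).choose_spec
  exact isIso_of_reflects_iso _ (sheafToPresheaf (totalTopology G K) (Type u))

instance : IsIso (gamma α J K j) := by
  apply (config := { allowSynthFailures := true }) NatIso.isIso_of_isIso_app
  intro b
  exact isIso_gamma_app α J K j b

omit [(CoGrothendieck.map α).IsContinuous (totalTopology G K) (totalTopology F J)]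
  [(ι F j).IsContinuous (J j) (totalTopology F J)]
  [(ι G j).IsContinuous (K j) (totalTopology G K)]
  [(ι F j).IsCocontinuous (J j) (totalTopology F J)]
  [(ι G j).IsCocontinuous (K j) (totalTopology G K)]
  [(α.app ⟨op j⟩).toFunctor.IsContinuous (K j) (J j)] in
theorem preservesFiniteLimits_sheafPullback_comp_restr (hF : IsFibSite F J) (hG : IsFibSite G K)
    (hα : ∀ S : 𝒮, ∃ (_ : (α.app ⟨op S⟩).toFunctor.IsContinuous (K S) (J S))
      (_ : ((α.app ⟨op S⟩).toFunctor.sheafPushforwardContinuous (Type u)
        (K S) (J S)).IsRightAdjoint),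
      PreservesFiniteLimits ((α.app ⟨op S⟩).toFunctor.sheafPullback (Type u) (K S) (J S)))
    [(CoGrothendieck.map α).IsContinuous (totalTopology G K) (totalTopology F J)]
    [(mS α J K).IsRightAdjoint]
    [(ι F j).IsContinuous (J j) (totalTopology F J)] :
    PreservesFiniteLimits
      ((CoGrothendieck.map α).sheafPullback (Type u) (totalTopology G K) (totalTopology F J) ⋙
        restr F J (Type u) j) := by
  have hFpre := hF.isPreFibSite
  have hGpre := hG.isPreFibSite
  have := isContinuous_ι hGpre j
  have := isCocontinuous_ι F J hFpre j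
  have := isCocontinuous_ι G K hGpre j
  obtain ⟨hc, hr, hpres⟩ := hα j
  let adjm := (CoGrothendieck.map α).sheafAdjunctionContinuous (Type u) (totalTopology G K)
    (totalTopology F J)
  let adjF := (ι F j).sheafAdjunctionCocontinuous (Type u) (J j) (totalTopology F J)
  let adjG := (ι G j).sheafAdjunctionCocontinuous (Type u) (K j) (totalTopology G K)
  let adjα := (α.app ⟨op j⟩).toFunctor.sheafAdjunctionContinuous (Type u) (K j) (J j)
  have e : (CoGrothendieck.map α).sheafPullback (Type u) (totalTopology G K)
      (totalTopology F J) ⋙ restr F J (Type u) j ≅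
      restr G K (Type u) j ⋙ (α.app ⟨op j⟩).toFunctor.sheafPullback (Type u) (K j) (J j) :=
    ((adjm.comp adjF).ofNatIsoRight (asIso (gamma α J K j))).leftAdjointUniq (adjG.comp adjα)
  have hrG : (restr G K (Type u) j).IsRightAdjoint := inferInstance
  have : PreservesFiniteLimits (restr G K (Type u) j) := inferInstance
  have : PreservesFiniteLimits (restr G K (Type u) j ⋙
      (α.app ⟨op j⟩).toFunctor.sheafPullback (Type u) (K j) (J j)) :=
    comp_preservesFiniteLimits _ _
  exact preservesFiniteLimits_of_natIso e.symm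

end Cart

end Groth.Agent.Lib.Helper20.FibSiteMap
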