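import Groth.Agent.Lib.Helper20.FSx2
import Groth.Agent.Lib.Helper20.FibSiteMap

/-!
# Fibre functors of a cartesian functor with continuous total functor are continuous (helper20)
-/

set_option backward.isDefEq.respectTransparency false
set_option backward.isDefEq.respectTransparency.types false
set_option backward.defeqAttrib.useBackward true
set_option maxHeartbeats 400000
set_option linter.unusedVariables false
set_option linter.unusedSectionVars false

namespace Groth.Agent.Lib.Helper20.FSx3

universe w v₁ u₁ v₂ u₂ u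
open CategoryTheory CategoryTheory.Limits Opposite Pseudofunctor Pseudofunctor.CoGrothendieck
  Bicategory FibSite
open scoped CategoryTheory.Pseudofunctor.StrongTrans
open Groth.Agent.Lib.Helper20.FibSiteTop Groth.Agent.Lib.Helper20.FibSiteCont
  Groth.Agent.Lib.Helper20.FibSiteRan Groth.Agent.Lib.Helper20.FibSiteMap
  Groth.Agent.Lib.Helper20 Groth.Agent.Lib.Helper20.FSx2

section general

variable {C : Type u₁} [Category.{v₁} C] {D : Type u₂} [Category.{v₂} D]
  {K : GrothendieckTopology C} {J : GrothendieckTopology D} {a : C ⥤ D}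

/-- if `a` preserves covers, `P ↪ P'` are sheaves on the target and `P' ∘ a` is a sheaf, then
`P ∘ a` is a sheaf. -/
theorem isSheaf_comp_of_injective (ha : CoverPreserving K J a) {P P' : Dᵒᵖ ⥤ Type w} (i : P ⟶ P')
    (hi : ∀ V, Function.Injective (i.app V))
    (hP : Presieve.IsSheaf J P) (hP' : Presieve.IsSheaf K (a.op ⋙ P')) :
    Presieve.IsSheaf K (a.op ⋙ P) := by
  have nat : ∀ {V V' : Dᵒᵖ} (f : V ⟶ V') (t : P.obj V),
      i.app V' (P.map f t) = P'.map f (i.app V t) := fun f t => NatTrans.naturality_apply i f t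
  intro U R hR x hx
  let x' : Presieve.FamilyOfElements (a.op ⋙ P') R.arrows := fun V r hr => i.app _ (x r hr)
  have hx' : x'.Compatible := by
    intro V₁ V₂ W g₁ g₂ r₁ r₂ h₁ h₂ e
    show P'.map (a.map g₁).op (i.app _ (x r₁ h₁)) = P'.map (a.map g₂).op (i.app _ (x r₂ h₂))
    rw [← nat, ← nat]
    exact congrArg _ (hx g₁ g₂ h₁ h₂ e)
  obtain ⟨y', hy', -⟩ := hP' R hR x' hx'
  have hy'' : ∀ {V : C} (r : V ⟶ U) (hr : R r), P'.map (a.map r).op y' = i.app _ (x r hr) :=
    fun r hr => hy' r hr
  obtain ⟨z, hz⟩ : ∃ z : Presieve.FamilyOfElements P (R.functorPushforward a).arrows,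
      ∀ {V : D} (ψ : V ⟶ a.obj U) (hψ : (R.functorPushforward a) ψ),
        i.app _ (z ψ hψ) = P'.map ψ.op y' := by
    refine ⟨fun V ψ hψ => P.map (Presieve.getFunctorPushforwardStructure hψ).lift.op
      (x _ (Presieve.getFunctorPushforwardStructure hψ).cover), ?_⟩
    intro V ψ hψ
    have e1 := nat (Presieve.getFunctorPushforwardStructure hψ).lift.op
      (x _ (Presieve.getFunctorPushforwardStructure hψ).cover)
    refine e1.trans ?_
    have e2 := hy'' _ (Presieve.getFunctorPushforwardStructure hψ).cover
    have e3 : P'.map ψ.op y' = P'.map (Presieve.getFunctorPushforwardStructure hψ).lift.op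
        (P'.map (a.map (Presieve.getFunctorPushforwardStructure hψ).premap).op y') := by
      rw [← Functor.map_comp_apply, ← op_comp,
        ← (Presieve.getFunctorPushforwardStructure hψ).fac]
    rw [e3]
    exact congrArg _ e2.symm
  have hzc : z.Compatible := by
    intro V₁ V₂ W g₁ g₂ ψ₁ ψ₂ h₁ h₂ e
    apply hi
    rw [nat, nat, hz, hz,
      ← Functor.map_comp_apply, ← Functor.map_comp_apply, ← op_comp, ← op_comp, e]
  obtain ⟨y, hy, -⟩ := hP _ (ha.cover_preserve hR) z hzc
  have key : ∀ {V : C} (r : V ⟶ U) (hr : R r), P.map (a.map r).op y = x r hr := by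
    intro V r hr
    apply hi
    have h1 : (R.functorPushforward a) (a.map r) := Sieve.image_mem_functorPushforward _ R hr
    have h2 : P.map (a.map r).op y = z (a.map r) h1 := hy (a.map r) h1
    rw [h2, hz, hy'' r hr]
    rfl
  refine ⟨y, fun V r hr => key r hr, ?_⟩
  intro y₂ hy₂
  apply hi
  have hsep := (hP' R hR).isSeparatedFor
  apply hsep x' (i.app _ y₂) (i.app _ y)
  · intro V r hr
    show P'.map (a.map r).op (i.app _ y₂) = i.app _ (x r hr)
    rw [← nat]
    exact congrArg _ (hy₂ r hr)
  · intro V r hr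
    show P'.map (a.map r).op (i.app _ y) = i.app _ (x r hr)
    rw [← nat]
    exact congrArg _ (key r hr)

end general

section cover

variable {𝒮 : Type u₁} [Category.{v₁} 𝒮] {F G : Pseudofunctor (LocallyDiscrete 𝒮ᵒᵖ) Cat.{v₂, u₂}}
  (α : G ⟶ F) (J : Topologies F) (K : Topologies G)

/-- `α_S ⋙ ι_S` is continuous when the total functor is. -/
theorem isContinuous_app_comp_ι (hG : IsPreFibSite G K)
    [(CoGrothendieck.map α).IsContinuous (totalTopology G K) (totalTopology F J)] (S : 𝒮) :
    ((α.app ⟨op S⟩).toFunctor ⋙ ι F S).IsContinuous (K S) (totalTopology F J) := by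
  have := isContinuous_ι hG S
  have h1 : (ι G S ⋙ CoGrothendieck.map α).IsContinuous (K S) (totalTopology F J) :=
    Functor.isContinuous_comp _ _ _ (totalTopology G K) _
  exact Functor.isContinuous_of_iso (ιCompMapIso α S) _ _

/-- the fibre functors of a cartesian functor whose total functor is continuous preserve covers. -/
theorem coverPreserving_app (hF : IsPreFibSite F J) (hG : IsPreFibSite G K)
    [(CoGrothendieck.map α).IsContinuous (totalTopology G K) (totalTopology F J)] (S : 𝒮) :
    CoverPreserving (K S) (J S) (α.app ⟨op S⟩).toFunctor := by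
  have h2 := isContinuous_app_comp_ι α J K hG S
  have cp := CoverPreserving.of_isContinuous ((α.app ⟨op S⟩).toFunctor ⋙ ι F S) (K S)
    (totalTopology F J)
  constructor
  intro U R hR
  have h3 := cp.cover_preserve hR
  obtain ⟨R', hR', hle⟩ := (mem_totalTopology_iff F J hF _ _).1 h3
  refine (J S).superset_covering ?_ hR'
  intro V φ hφ
  obtain ⟨W, r, g, hr, hfac⟩ := hle _ (Sieve.image_mem_functorPushforward (ι F S) R' hφ)
  have hb : g.base = 𝟙 S := base_eq_id_of_fac F φ ((α.app ⟨op S⟩).toFunctor.map r) g hfac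
  obtain ⟨g', hg'⟩ := exists_ι_map_eq F g hb
  refine ⟨W, r, g', hr, ?_⟩
  apply ι_map_injective F
  rw [Functor.map_comp, hg']
  exact hfac

end cover

section cont

variable {𝒮 : Type u} [SmallCategory 𝒮] {F G : Pseudofunctor (LocallyDiscrete 𝒮ᵒᵖ) Cat.{u, u}}
  (α : G ⟶ F) (J : Topologies F) (K : Topologies G)

/-- the fibre functors of a cartesian functor whose total functor is continuous are continuous. -/
theorem isContinuous_app (hF : IsPreFibSite F J) (hG : IsPreFibSite G K)
    [(CoGrothendieck.map α).IsContinuous (totalTopology G K) (totalTopology F J)] (S : 𝒮) :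
    (α.app ⟨op S⟩).toFunctor.IsContinuous (K S) (J S) := by
  have := isContinuous_ι hF S
  have := isCocontinuous_ι F J hF S
  have : ∀ f : S ⟶ S, (invImage F f).IsContinuous (J S) (J S) := fun f => hF f
  have h2 := isContinuous_app_comp_ι α J K hG S
  have hsh : HasSheafify (J S) (Type u) := inferInstance
  have hext : FinitaryExtensive (Sheaf (J S) (Type u)) := inferInstance
  have hfc : HasFiniteCoproducts (Sheaf (J S) (Type u)) := FinitaryExtensive.hasFiniteCoproducts
  have hcop : HasBinaryCoproducts (Sheaf (J S) (Type u)) :=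
    hasColimitsOfShape_discrete _ WalkingPair
  have hmc : MonoCoprod (Sheaf (J S) (Type u)) := inferInstance
  constructor
  intro P
  let Q : Sheaf (J S) (Type u) := P ⨿ onePt (J S)
  let pt : Pt Q := Pt.ofHom coprod.inr
  let i : P ⟶ (Pi F J S).obj Q := coprod.inl ≫ sigma F J S Q pt
  have : Mono (sigma F J S Q pt) := (SplitMono.mk _ (sigma_rr F J S Q pt)).mono
  have : Mono i := mono_comp _ _
  have hmono : Mono ((sheafToPresheaf _ _).map i) := inferInstance
  have hinj : ∀ V, Function.Injective (i.hom.app V) := by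
    intro V
    rw [← mono_iff_injective]
    exact (NatTrans.mono_iff_mono_app _).1 hmono V
  refine isSheaf_comp_of_injective (coverPreserving_app α J K hF hG S) i.hom hinj
    ((isSheaf_iff_isSheaf_of_type _ _).1 P.property) ?_
  exact Functor.op_comp_isSheaf_of_types ((α.app ⟨op S⟩).toFunctor ⋙ ι F S) (K S)
    (totalTopology F J) ((coextend F J (Type u) S).obj Q)

end cont

end Groth.Agent.Lib.Helper20.FSx3
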