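import Groth.Agent.Lib.Helper20.FSx1
import Groth.Agent.Lib.Helper20.FSx3

/-!
# The fibres of a cartesian functor whose total functor is a morphism of sites (helper20)
-/

set_option backward.isDefEq.respectTransparency false
set_option backward.isDefEq.respectTransparency.types false
set_option backward.defeqAttrib.useBackward true
set_option maxHeartbeats 400000
set_option linter.unusedVariables false
set_option linter.unusedSectionVars false

namespace Groth.Agent.Lib.Helper20.FSx4

universe w v₁ u₁ v₂ u₂ u
open CategoryTheory CategoryTheory.Limits Opposite Pseudofunctor Pseudofunctor.CoGrothendieck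
  Bicategory FibSite
open scoped CategoryTheory.Pseudofunctor.StrongTrans
open Groth.Agent.Lib.Helper20.FibSiteTop Groth.Agent.Lib.Helper20.FibSiteCont
  Groth.Agent.Lib.Helper20.FibSiteRan Groth.Agent.Lib.Helper20.FibSiteMap
  Groth.Agent.Lib.Helper20 Groth.Agent.Lib.Helper20.FSx2 Groth.Agent.Lib.Helper20.FSx1
  Groth.Agent.Lib.Helper20.FSx3

section general

variable {C : Type u₁} [Category.{v₁} C] {D : Type u₂} [Category.{v₂} D]

theorem preservesLimitsOfShape_walkingCospan_of_map_isPullback [HasPullbacks C] (T : C ⥤ D)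
    (hT : ∀ {P A B C₀ : C} {pA : P ⟶ A} {pB : P ⟶ B} {f : A ⟶ C₀} {g : B ⟶ C₀},
      IsPullback pA pB f g → IsPullback (T.map pA) (T.map pB) (T.map f) (T.map g)) :
    PreservesLimitsOfShape WalkingCospan T := by
  constructor
  intro K
  have : PreservesLimit (cospan (K.map WalkingCospan.Hom.inl) (K.map WalkingCospan.Hom.inr)) T := by
    have h := IsPullback.of_hasPullback (K.map WalkingCospan.Hom.inl) (K.map WalkingCospan.Hom.inr)
    apply preservesLimit_of_preserves_limit_cone h.isLimit
    exact (isLimitMapConePullbackConeEquiv T h.w).symm (hT h).isLimit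
  exact preservesLimit_of_iso_diagram T (diagramIsoCospan K).symm

end general

section exact

variable {𝒮 : Type u} [SmallCategory 𝒮] {F G : Pseudofunctor (LocallyDiscrete 𝒮ᵒᵖ) Cat.{u, u}}
  (α : G ⟶ F) (J : Topologies F) (K : Topologies G) (S : 𝒮)
  [(CoGrothendieck.map α).IsContinuous (totalTopology G K) (totalTopology F J)]
  [(ι F S).IsContinuous (J S) (totalTopology F J)]
  [(ι G S).IsContinuous (K S) (totalTopology G K)]
  [(ι F S).IsCocontinuous (J S) (totalTopology F J)]
  [(ι G S).IsCocontinuous (K S) (totalTopology G K)]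
  [(α.app ⟨op S⟩).toFunctor.IsContinuous (K S) (J S)]
  [∀ f : S ⟶ S, (invImage G f).IsContinuous (K S) (K S)]
  [(mS α J K).IsRightAdjoint] [(aS α J K S).IsRightAdjoint]

/-- `a_S^*` -/
noncomputable abbrev aP : Sheaf (K S) (Type u) ⥤ Sheaf (J S) (Type u) :=
  (α.app ⟨op S⟩).toFunctor.sheafPullback (Type u) (K S) (J S)

/-- `m^*` -/
noncomputable abbrev mP :
    Sheaf (totalTopology G K) (Type u) ⥤ Sheaf (totalTopology F J) (Type u) :=
  (CoGrothendieck.map α).sheafPullback (Type u) (totalTopology G K) (totalTopology F J)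

/-- base change: `m^*` followed by restriction to the fibre is restriction followed by `a_S^*`. -/
noncomputable def eIso :
    mP α J K ⋙ restr F J (Type u) S ≅ restr G K (Type u) S ⋙ aP α J K S :=
  ((((CoGrothendieck.map α).sheafAdjunctionContinuous (Type u) (totalTopology G K)
      (totalTopology F J)).comp
      ((ι F S).sheafAdjunctionCocontinuous (Type u) (J S) (totalTopology F J))).ofNatIsoRight
        (asIso (gamma α J K S))).leftAdjointUniq
    (((ι G S).sheafAdjunctionCocontinuous (Type u) (K S) (totalTopology G K)).comp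
      ((α.app ⟨op S⟩).toFunctor.sheafAdjunctionContinuous (Type u) (K S) (J S)))

theorem preservesFiniteLimits_Pi_comp [PreservesFiniteLimits (mP α J K)] :
    PreservesFiniteLimits (Pi G K S ⋙ aP α J K S) := by
  have e : Pi G K S ⋙ aP α J K S ≅
      coextend G K (Type u) S ⋙ mP α J K ⋙ restr F J (Type u) S :=
    Functor.associator _ _ _ ≪≫ Functor.isoWhiskerLeft _ (eIso α J K S).symm
  have h1 : (coextend G K (Type u) S).IsRightAdjoint :=
    ((ι G S).sheafAdjunctionCocontinuous (Type u) (K S) (totalTopology G K)).isRightAdjoint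
  have h2 : (restr F J (Type u) S).IsRightAdjoint := inferInstance
  have : PreservesFiniteLimits (coextend G K (Type u) S) := inferInstance
  have : PreservesFiniteLimits (restr F J (Type u) S) := inferInstance
  have : PreservesFiniteLimits (mP α J K ⋙ restr F J (Type u) S) :=
    comp_preservesFiniteLimits _ _
  have : PreservesFiniteLimits (coextend G K (Type u) S ⋙ mP α J K ⋙ restr F J (Type u) S) :=
    comp_preservesFiniteLimits _ _
  exact preservesFiniteLimits_of_natIso e.symm

theorem map_isPullback_of_point [PreservesFiniteLimits (mP α J K)]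
    {P A B C₀ : Sheaf (K S) (Type u)} {pA : P ⟶ A} {pB : P ⟶ B} {f : A ⟶ C₀} {g : B ⟶ C₀}
    (h : IsPullback pA pB f g) (p₀ : onePt (K S) ⟶ P) :
    IsPullback ((aP α J K S).map pA) ((aP α J K S).map pB) ((aP α J K S).map f)
      ((aP α J K S).map g) := by
  have hPiT := preservesFiniteLimits_Pi_comp α J K S
  have hPi : IsPullback ((aP α J K S).map ((Pi G K S).map pA))
      ((aP α J K S).map ((Pi G K S).map pB)) ((aP α J K S).map ((Pi G K S).map f))
      ((aP α J K S).map ((Pi G K S).map g)) :=
    (Pi G K S ⋙ aP α J K S).map_isPullback h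
  have hsh : HasSheafify (K S) (Type u) := inferInstance
  have hext : FinitaryExtensive (Sheaf (K S) (Type u)) := inferInstance
  exact map_isPullback_of_sections (aP α J K S) (Pi G K S) (rr G K S) h hPi
    (sigma G K S P (Pt.ofHom p₀)) (sigma G K S A (Pt.ofHom (p₀ ≫ pA)))
    (sigma G K S B (Pt.ofHom (p₀ ≫ pB))) (sigma G K S C₀ (Pt.ofHom (p₀ ≫ pA ≫ f)))
    (sigma_rr G K S _ _) (sigma_rr G K S _ _) (sigma_rr G K S _ _)
    (sigma_natural G K S P (Pt.ofHom p₀) (Pt.ofHom (p₀ ≫ pA)) pA
      (fun V => Pt.ofHom_comp p₀ pA V))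
    (sigma_natural G K S P (Pt.ofHom p₀) (Pt.ofHom (p₀ ≫ pB)) pB
      (fun V => Pt.ofHom_comp p₀ pB V))
    (sigma_natural G K S A (Pt.ofHom (p₀ ≫ pA)) (Pt.ofHom (p₀ ≫ pA ≫ f)) f
      (fun V => by rw [Pt.ofHom_comp, Category.assoc]))
    (sigma_natural G K S B (Pt.ofHom (p₀ ≫ pB)) (Pt.ofHom (p₀ ≫ pA ≫ f)) g
      (fun V => by rw [Pt.ofHom_comp, Category.assoc, ← h.w]))

theorem preservesFiniteLimits_aP [PreservesFiniteLimits (mP α J K)] :
    PreservesFiniteLimits (aP α J K S) := by
  have hsh : HasSheafify (K S) (Type u) := inferInstance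
  have hext : FinitaryExtensive (Sheaf (K S) (Type u)) := inferInstance
  have hsh' : HasSheafify (J S) (Type u) := inferInstance
  have hext' : FinitaryExtensive (Sheaf (J S) (Type u)) := inferInstance
  have hpbs : HasPullbacks (Sheaf (K S) (Type u)) := inferInstance
  have hterm : HasTerminal (Sheaf (K S) (Type u)) := inferInstance
  have hterm' : HasTerminal (Sheaf (J S) (Type u)) := inferInstance
  have hcolim : PreservesColimitsOfSize.{0, 0} (aP α J K S) :=
    ((α.app ⟨op S⟩).toFunctor.sheafAdjunctionContinuous (Type u) (K S)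
      (J S)).leftAdjoint_preservesColimits
  have hcop : PreservesColimitsOfShape (Discrete WalkingPair) (aP α J K S) := inferInstance
  have hpb : ∀ {P A B C₀ : Sheaf (K S) (Type u)} {pA : P ⟶ A} {pB : P ⟶ B} {f : A ⟶ C₀}
      {g : B ⟶ C₀}, IsPullback pA pB f g →
        IsPullback ((aP α J K S).map pA) ((aP α J K S).map pB) ((aP α J K S).map f)
          ((aP α J K S).map g) := fun h =>
    map_isPullback_of_pointed (aP α J K S) (onePt (K S))
      (fun h p₀ => map_isPullback_of_point α J K S h p₀) h
  have := preservesLimitsOfShape_walkingCospan_of_map_isPullback (aP α J K S) hpb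
  have hPiT := preservesFiniteLimits_Pi_comp α J K S
  have h1 : (coextend G K (Type u) S).IsRightAdjoint :=
    ((ι G S).sheafAdjunctionCocontinuous (Type u) (K S) (totalTopology G K)).isRightAdjoint
  have h2 : (restr G K (Type u) S).IsRightAdjoint := inferInstance
  have : PreservesFiniteLimits (coextend G K (Type u) S) := inferInstance
  have : PreservesFiniteLimits (restr G K (Type u) S) := inferInstance
  have hPi' : PreservesFiniteLimits (Pi G K S) := comp_preservesFiniteLimits _ _
  have ht1 : PreservesLimit (Functor.empty.{0} _) (Pi G K S) := inferInstance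
  have ht2' : PreservesLimitsOfShape (Discrete PEmpty.{1}) (Pi G K S ⋙ aP α J K S) :=
    hPiT.preservesFiniteLimits _
  have ht2 : PreservesLimit (Functor.empty.{0} _) (Pi G K S ⋙ aP α J K S) :=
    PreservesLimitsOfShape.preservesLimit
  have : PreservesLimit (Functor.empty.{0} _) (aP α J K S) :=
    preservesTerminal_of_iso (aP α J K S)
      ((aP α J K S).mapIso (PreservesTerminal.iso (Pi G K S)).symm ≪≫
        PreservesTerminal.iso (Pi G K S ⋙ aP α J K S))
  have : PreservesLimitsOfShape (Discrete.{0} PEmpty) (aP α J K S) :=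
    preservesLimitsOfShape_pempty_of_preservesTerminal _
  exact preservesFiniteLimits_of_preservesTerminal_and_pullbacks _

end exact

section main

variable {𝒮 : Type u} [SmallCategory 𝒮] {F G : Pseudofunctor (LocallyDiscrete 𝒮ᵒᵖ) Cat.{u, u}}
  (α : G ⟶ F) (J : Topologies F) (K : Topologies G)

/-- if the total functor of a cartesian functor is a morphism of sites, so are its fibres. -/
theorem morphismOfSites_app (hF : IsFibSite F J) (hG : IsFibSite G K)
    (hα : ∃ (_ : (CoGrothendieck.map α).IsContinuous (totalTopology G K) (totalTopology F J))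
      (_ : ((CoGrothendieck.map α).sheafPushforwardContinuous (Type u)
        (totalTopology G K) (totalTopology F J)).IsRightAdjoint),
      PreservesFiniteLimits ((CoGrothendieck.map α).sheafPullback (Type u)
        (totalTopology G K) (totalTopology F J))) (S : 𝒮) :
    ∃ (_ : (α.app ⟨op S⟩).toFunctor.IsContinuous (K S) (J S))
      (_ : ((α.app ⟨op S⟩).toFunctor.sheafPushforwardContinuous (Type u)
        (K S) (J S)).IsRightAdjoint),
      PreservesFiniteLimits ((α.app ⟨op S⟩).toFunctor.sheafPullback (Type u) (K S) (J S)) := by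
  obtain ⟨hc, hr, hp⟩ := hα
  have hFpre := hF.isPreFibSite
  have hGpre := hG.isPreFibSite
  have hcS := isContinuous_app α J K hFpre hGpre S
  have := isContinuous_ι hFpre S
  have := isContinuous_ι hGpre S
  have := isCocontinuous_ι F J hFpre S
  have := isCocontinuous_ι G K hGpre S
  have : ∀ f : S ⟶ S, (invImage G f).IsContinuous (K S) (K S) := fun f => hGpre f
  have hrS : ((α.app ⟨op S⟩).toFunctor.sheafPushforwardContinuous (Type u)
      (K S) (J S)).IsRightAdjoint := inferInstance
  exact ⟨hcS, hrS, preservesFiniteLimits_aP α J K S⟩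

end main

end Groth.Agent.Lib.Helper20.FSx4
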