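import Groth.Agent.Lib.Helper20.FSx1
import Groth.Agent.Lib.Helper20.FSx3

/-!
# Bicovering morphisms on a fibre and their left Kan extensions to the total site (helper20)
-/

set_option backward.isDefEq.respectTransparency false
set_option backward.isDefEq.respectTransparency.types false
set_option backward.defeqAttrib.useBackward true
set_option maxHeartbeats 400000
set_option linter.unusedVariables false
set_option linter.unusedSectionVars false

namespace Groth.Agent.Lib.Helper20.FSx5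

universe w v₁ u₁ v₂ u₂ u
open CategoryTheory CategoryTheory.Limits Opposite Pseudofunctor Pseudofunctor.CoGrothendieck
  Bicategory FibSite
open Groth.Agent.Lib.Helper20.FibSiteTop Groth.Agent.Lib.Helper20.FibSiteCont
  Groth.Agent.Lib.Helper20.FibSiteRan
  Groth.Agent.Lib.Helper20 Groth.Agent.Lib.Helper20.FSx2 Groth.Agent.Lib.Helper20.FSx1
  Groth.Agent.Lib.Helper20.FSx3

section general

variable {C : Type u₁} [Category.{v₁} C] {X Y : C} (u : X ⟶ Y)

/-- `T` is local with respect to `u`. -/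
def Loc (T : C) : Prop := Function.Bijective (fun g : Y ⟶ T => u ≫ g)

variable {u}

lemma Loc.of_retract {T T' : C} (h : Loc u T') (s : T ⟶ T') (r : T' ⟶ T) (hsr : s ≫ r = 𝟙 T) :
    Loc u T := by
  constructor
  · intro g₁ g₂ hg
    have h1 : g₁ ≫ s = g₂ ≫ s := by
      apply h.1
      show u ≫ g₁ ≫ s = u ≫ g₂ ≫ s
      rw [← Category.assoc, ← Category.assoc]
      exact congrArg (· ≫ s) hg
    have h2 := congrArg (· ≫ r) h1
    simpa only [Category.assoc, hsr, Category.comp_id] using h2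
  · intro φ
    obtain ⟨ψ, hψ⟩ := h.2 (φ ≫ s)
    refine ⟨ψ ≫ r, ?_⟩
    show u ≫ ψ ≫ r = φ
    have hψ' : u ≫ ψ = φ ≫ s := hψ
    rw [← Category.assoc, hψ', Category.assoc, hsr, Category.comp_id]

lemma Loc.of_isPullback {P A B C₀ : C} {pA : P ⟶ A} {pB : P ⟶ B} {f : A ⟶ C₀} {g : B ⟶ C₀}
    (h : IsPullback pA pB f g) (hA : Loc u A) (hB : Loc u B) (hC : Loc u C₀) : Loc u P := by
  constructor
  · intro g₁ g₂ hg
    have hg' : u ≫ g₁ = u ≫ g₂ := hg
    apply h.hom_ext
    · apply hA.1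
      show u ≫ g₁ ≫ pA = u ≫ g₂ ≫ pA
      rw [← Category.assoc, hg', Category.assoc]
    · apply hB.1
      show u ≫ g₁ ≫ pB = u ≫ g₂ ≫ pB
      rw [← Category.assoc, hg', Category.assoc]
  · intro φ
    obtain ⟨a, ha⟩ := hA.2 (φ ≫ pA)
    obtain ⟨b, hb⟩ := hB.2 (φ ≫ pB)
    have ha' : u ≫ a = φ ≫ pA := ha
    have hb' : u ≫ b = φ ≫ pB := hb
    have hab : a ≫ f = b ≫ g := by
      apply hC.1
      show u ≫ a ≫ f = u ≫ b ≫ g
      rw [← Category.assoc, ha', ← Category.assoc, hb', Category.assoc, Category.assoc, h.w]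
    refine ⟨h.lift a b hab, ?_⟩
    show u ≫ h.lift a b hab = φ
    apply h.hom_ext
    · rw [Category.assoc, h.lift_fst, ha']
    · rw [Category.assoc, h.lift_snd, hb']

end general

section fib

variable {𝒮 : Type u} [SmallCategory 𝒮] (F : Pseudofunctor (LocallyDiscrete 𝒮ᵒᵖ) Cat.{u, u})
  (J : Topologies F) (S : 𝒮)
  [(ι F S).IsContinuous (J S) (totalTopology F J)]
  [(ι F S).IsCocontinuous (J S) (totalTopology F J)]
  [∀ (f : S ⟶ S), (invImage F f).IsContinuous (J S) (J S)]

variable {R R' : (F.obj ⟨op S⟩)ᵒᵖ ⥤ Type u} (u : R ⟶ R')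

lemma loc_Pi (hu : (totalTopology F J).W (((ι F S).op.lan (H := Type u)).map u))
    (Q : Sheaf (J S) (Type u)) : Loc u ((Pi F J S).obj Q).obj := by
  have h := hu _ ((coextend F J (Type u) S).obj Q).property
  exact (((ι F S).op.lanAdjunction (Type u)).map_comp_bijective_iff u _).1 h

lemma loc_of_pt (hPi : ∀ Q : Sheaf (J S) (Type u), Loc u ((Pi F J S).obj Q).obj)
    (Q : Sheaf (J S) (Type u)) (pt : Pt Q) : Loc u Q.obj :=
  (hPi Q).of_retract (sigma F J S Q pt).hom ((rr F J S).app Q).hom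
    (congrArg (fun φ => φ.hom) (sigma_rr F J S Q pt))

theorem loc_all (hPi : ∀ Q : Sheaf (J S) (Type u), Loc u ((Pi F J S).obj Q).obj)
    (Q : Sheaf (J S) (Type u)) : Loc u Q.obj := by
  have hsh : HasSheafify (J S) (Type u) := inferInstance
  have hext : FinitaryExtensive (Sheaf (J S) (Type u)) := inferInstance
  have hfc : HasFiniteCoproducts (Sheaf (J S) (Type u)) := FinitaryExtensive.hasFiniteCoproducts
  have hcop : HasBinaryCoproducts (Sheaf (J S) (Type u)) :=
    hasColimitsOfShape_discrete _ WalkingPair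
  let t : Q ⟶ onePt (J S) := ObjectProperty.homMk
    { app := fun _ => ↾(fun _ => PUnit.unit)
      naturality := fun _ _ _ => rfl }
  have hvk := FinitaryExtensive.vanKampen _ (coprodIsCoprod (onePt (J S)) (onePt (J S)))
  have sq : IsPullback (coprod.inl : Q ⟶ Q ⨿ onePt (J S)) t (coprod.map t (𝟙 (onePt (J S))))
      (coprod.inl : onePt (J S) ⟶ onePt (J S) ⨿ onePt (J S)) :=
    (((BinaryCofan.isVanKampen_iff _).1 hvk (BinaryCofan.mk coprod.inl coprod.inr) t
      (𝟙 (onePt (J S))) (coprod.map t (𝟙 (onePt (J S)))) (by simp) (by simp)).1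
        ⟨coprodIsCoprod Q (onePt (J S))⟩).1
  have sq' := (sheafToPresheaf (J S) (Type u)).map_isPullback sq
  exact Loc.of_isPullback sq' (loc_of_pt F J S u hPi _ (Pt.ofHom coprod.inr))
    (loc_of_pt F J S u hPi _ (Pt.ofHom (𝟙 _))) (loc_of_pt F J S u hPi _ (Pt.ofHom coprod.inr))

end fib

section main

variable {𝒮 : Type u} [SmallCategory 𝒮] (F : Pseudofunctor (LocallyDiscrete 𝒮ᵒᵖ) Cat.{u, u})
  (J : Topologies F)

theorem W_iff_W_lan_map (hF : IsPreFibSite F J) (i : 𝒮) {R R' : (F.obj ⟨op i⟩)ᵒᵖ ⥤ Type u}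
    (u : R ⟶ R') :
    (J i).W u ↔ (totalTopology F J).W (((ι F i).op.lan (H := Type u)).map u) := by
  have := isContinuous_ι hF i
  have := isCocontinuous_ι F J hF i
  have : ∀ f : i ⟶ i, (invImage F f).IsContinuous (J i) (J i) := fun f => hF f
  constructor
  · intro hu
    exact Functor.W_map_of_adjunction_of_isContinuous (J := J i) (K := totalTopology F J)
      (ι F i) _ ((ι F i).op.lanAdjunction (Type u)) u hu
  · intro h T hT
    exact loc_all F J i u (loc_Pi F J i u h) ⟨T, hT⟩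

end main

end Groth.Agent.Lib.Helper20.FSx5
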