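import Mathlib
import Groth.Agent.Lib.Helper20.FaltAnn1

/-!
# `S₂`-ification along `T`: killing `H^0_T` and `H^1_T`

If an ideal `J` with `V(J) ⊆ T` kills `H^0_T(M)` and `H^1_T(M)` for a finite module `M`, there is a
finite module `M''` and a map `M → M''` which is an isomorphism away from `T` with
`H^0_T(M'') = H^1_T(M'') = 0`.
-/

set_option autoImplicit false
set_option linter.style.haveILetI false
set_option linter.unusedSectionVars false
set_option linter.unusedVariables false
set_option maxHeartbeats 400000

open CategoryTheory Limits Opposite Abelian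

universe u

namespace Groth.Agent.Lib.Helper20.Falt

open Groth.Agent.Lib.Helper20.HTModel Groth.Agent.Lib.Helper20.LCDelta
  Groth.Agent.Lib.Helper20.LCDeltaHH Groth.Agent.Lib.Helper4

variable {R : Type u} [CommRing R] [IsNoetherianRing R] (T : Set (PrimeSpectrum R))

lemma exists_mem_idx_not_mem (p : PrimeSpectrum R) (hp : p ∉ T) (a : Idx T) :
    ∃ r ∈ a.J, r ∉ p.asIdeal := by
  by_contra h
  push Not at h
  apply hp
  apply a.hJ
  rw [PrimeSpectrum.mem_zeroLocus]
  exact h

/-- a finitely generated submodule of multiples `a.J • e` inside the torsion. -/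
lemma mem_gammaT_of_smul_mem {X : Type u} [AddCommGroup X] [Module R X] (x : X) (a : Idx T)
    (h : ∀ r ∈ a.J, r • x ∈ gammaT T X) : x ∈ gammaT T X := by
  let N : Submodule R X := Submodule.map (LinearMap.toSpanSingleton R X x) a.J
  have hNfg : N.FG := Submodule.FG.map _ (IsNoetherian.noetherian a.J)
  have hN : N ≤ gammaT T X := by
    rintro _ ⟨r, hr, rfl⟩
    rw [LinearMap.toSpanSingleton_apply]
    exact h r hr
  obtain ⟨b, hb⟩ := exists_idx_of_fg T X N hNfg hN
  refine ⟨a.mul b, fun t ht => ?_⟩
  rw [Idx.mul_J] at ht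
  refine Submodule.mul_induction_on ht ?_ ?_
  · intro r hr s hs
    rw [mul_comm, mul_smul]
    exact hb s hs _ ⟨r, hr, rfl⟩
  · intro u v hu hv
    rw [add_smul, hu, hv, add_zero]

theorem exists_s2ify (M : Type u) [AddCommGroup M] [Module R M] [Module.Finite R M]
    (J : Ideal R) (hJ : PrimeSpectrum.zeroLocus (J : Set R) ⊆ T)
    (hkill : ∀ i : ℕ, i ≤ 1 → ∀ a ∈ J, ∀ x : HHT T (ModuleCat.of R M) i, a • x = 0) :
    ∃ (M'' : Type u) (_ : AddCommGroup M'') (_ : Module R M'') (_ : Module.Finite R M'')
      (F : M →ₗ[R] M''),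
      (∀ p : PrimeSpectrum R, p ∉ T →
        Function.Bijective (LocalizedModule.map p.asIdeal.primeCompl F)) ∧
      ∀ i : ℕ, i ≤ 1 → Subsingleton (HHT T (ModuleCat.of R M'') i) := by
  classical
  -- `Γ_T(M)` is killed by `J`
  have hΓ : ∀ a ∈ J, ∀ n : gammaT T M, a • n = 0 := by
    intro a ha n
    obtain ⟨b, hb⟩ := n.2
    obtain ⟨y, hy⟩ := exists_HHT0_eq T (ModuleCat.of R M) n.1 b hb
    apply Subtype.ext
    change a • n.1 = 0
    rw [← hy, ← map_smul, hkill 0 (Nat.zero_le _) a ha, map_zero]
  have hS := sesGamma_shortExact T M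
  -- `J * J` kills `H^1_T(M')`
  have hM' : ∀ a ∈ J * J, ∀ y : HHT T (ModuleCat.of R (Mq T M)) 1, a • y = 0 :=
    kills_of_exact (HHT.map T (sesGamma T M).g 1) (HHT.δ T hS 1)
      (fun y hy => HHT.exact₃ T hS 1 y hy) J J (hkill 1 le_rfl)
      (kills_HHT_of_kills T J (ModuleCat.of R (gammaT T M)) hΓ 2)
  -- the index `J * J`
  let aK : Idx T := (⟨J, hJ⟩ : Idx T).mul ⟨J, hJ⟩
  have haK : aK.J = J * J := rfl
  -- the injective hull of `M'`
  obtain ⟨E, _, _, f, hf⟩ := Groth.Agent.Lib.Helper1.InjHullLib.exists_injective_hull R (Mq T M)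
  have hfinj : Function.Injective f := hf.injective
  haveI : Module.Injective R E := hf.isInjective
  have hEobj : Injective (ModuleCat.of R E) := Module.injective_object_of_injective_module R E
  have hS' := sesHull_shortExact f hfinj
  have hM'bot : gammaT T (Mq T M) = ⊥ := gammaT_quotient_eq_bot' T M
  have hEbot : gammaT T E = ⊥ := gammaT_eq_bot_of_essential f hf.toIsEssentialInj hM'bot
  have hE0 : Subsingleton (HHT T (ModuleCat.of R E) 0) := subsingleton_HHT0 T E hEbot
  have hE1 : Subsingleton (HHT T (ModuleCat.of R E) 1) := by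
    haveI := hEobj
    exact subsingleton_HHT_of_injective T (ModuleCat.of R E) 0
  -- the module `M''`
  let N : Submodule R E := LinearMap.range f
  let P : Submodule R E := Submodule.comap N.mkQ (gammaT T (E ⧸ N))
  have hNP : N ≤ P := by
    intro e he
    change N.mkQ e ∈ gammaT T (E ⧸ N)
    rw [Submodule.mkQ_apply, (Submodule.Quotient.mk_eq_zero N).2 he]
    exact zero_mem _
  -- `J * J` maps `P` into `N`
  have hKP : ∀ c ∈ J * J, ∀ e ∈ P, c • e ∈ N := by
    intro c hc e he
    obtain ⟨b, hb⟩ := he
    obtain ⟨y, hy⟩ := exists_HHT0_eq T (ModuleCat.of R (E ⧸ N)) (N.mkQ e) b hb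
    have h1 : HHT.δ T hS' 0 (c • y) = 0 := by
      rw [map_smul]
      exact hM' c hc _
    obtain ⟨z, hz⟩ := HHT.exact₃ T hS' 0 _ h1
    have h2 : c • y = 0 := by
      rw [← hz, Subsingleton.elim z 0, map_zero]
    have h3 : c • N.mkQ e = 0 := by
      rw [← hy, ← map_smul, h2, map_zero]
    rw [← map_smul, Submodule.mkQ_apply, Submodule.Quotient.mk_eq_zero] at h3
    exact h3
  -- torsion-freeness of `P`
  have hPbot : gammaT T P = ⊥ := by
    rw [eq_bot_iff]
    rintro e ⟨a, ha⟩
    rw [Submodule.mem_bot]
    apply Subtype.ext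
    have h1 : e.1 ∈ gammaT T E := ⟨a, fun r hr => by
      have := congrArg Subtype.val (ha r hr)
      exact this⟩
    rw [hEbot, Submodule.mem_bot] at h1
    exact h1
  -- finiteness of `P`
  haveI hNfin : Module.Finite R N := Module.Finite.range f
  have hPfin : Module.Finite R P := by
    obtain ⟨s, hs⟩ := (IsNoetherian.noetherian (J * J) : (J * J).FG)
    have hsK : ∀ c ∈ s, c ∈ J * J := fun c hc => by
      rw [← hs]
      exact Submodule.subset_span hc
    let φ : ∀ c : s, P →ₗ[R] N := fun c =>
      LinearMap.codRestrict N ((LinearMap.lsmul R E c.1).comp P.subtype)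
        (fun e => hKP c.1 (hsK c.1 c.2) e.1 e.2)
    let Ψ : P →ₗ[R] (s → N) := LinearMap.pi φ
    have hΨ : Function.Injective Ψ := by
      rw [injective_iff_map_eq_zero]
      intro e he
      have h1 : ∀ c ∈ s, c • e.1 = 0 := by
        intro c hc
        have := congrArg Subtype.val (congrFun he ⟨c, hc⟩)
        exact this
      have h2 : ∀ c ∈ J * J, c • e.1 = 0 := by
        intro c hc
        rw [← hs] at hc
        induction hc using Submodule.span_induction with
        | mem y hy => exact h1 y hy
        | zero => exact zero_smul R _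
        | add y z _ _ hy hz => rw [add_smul, hy, hz, add_zero]
        | smul d y _ hy => rw [smul_eq_mul, mul_smul, hy, smul_zero]
      have h3 : e.1 ∈ gammaT T E := ⟨aK, fun r hr => h2 r hr⟩
      rw [hEbot, Submodule.mem_bot] at h3
      exact Subtype.ext h3
    exact Module.Finite.of_injective Ψ hΨ
  -- the map
  let F : M →ₗ[R] P := LinearMap.codRestrict P (f.comp (gammaT T M).mkQ)
    (fun m => hNP ⟨_, rfl⟩)
  refine ⟨P, inferInstance, inferInstance, hPfin, F, ?_, ?_⟩
  · intro p hp
    constructor
    · rw [injective_iff_map_eq_zero]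
      intro x hx
      induction x using LocalizedModule.induction_on with
      | h m s =>
        rw [LocalizedModule.map_mk, ← LocalizedModule.zero_mk s, LocalizedModule.mk_eq] at hx
        obtain ⟨t, ht⟩ := hx
        rw [smul_zero, smul_zero] at ht
        have ht' : ((t : R) * (s : R)) • F m = 0 := by
          rw [mul_smul]
          exact ht
        have h1 : F (((t : R) * (s : R)) • m) = 0 := by
          rw [map_smul]
          exact ht'
        have h2 : (gammaT T M).mkQ (((t : R) * (s : R)) • m) = 0 := by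
          apply hfinj
          rw [map_zero]
          exact congrArg Subtype.val h1
        rw [Submodule.mkQ_apply, Submodule.Quotient.mk_eq_zero] at h2
        obtain ⟨a, ha⟩ := h2
        obtain ⟨r, hr, hrp⟩ := exists_mem_idx_not_mem T p hp a
        rw [← LocalizedModule.zero_mk s, LocalizedModule.mk_eq]
        refine ⟨⟨r, hrp⟩ * t, ?_⟩
        rw [smul_zero, smul_zero]
        change (r * (t : R)) • (s : R) • m = 0
        rw [mul_smul, ← mul_smul (t : R) (s : R) m]
        exact ha r hr
    · intro x
      induction x using LocalizedModule.induction_on with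
      | h e s =>
        obtain ⟨a, ha⟩ := e.2
        -- `a.J * (J * J)` maps `e` into `N`
        obtain ⟨r, hr, hrp⟩ := exists_mem_idx_not_mem T p hp aK
        have h1 : r • e.1 ∈ N := hKP r hr e.1 e.2
        obtain ⟨m', hm'⟩ := h1
        obtain ⟨m, rfl⟩ := Submodule.mkQ_surjective _ m'
        refine ⟨LocalizedModule.mk m (⟨r, hrp⟩ * s), ?_⟩
        rw [LocalizedModule.map_mk, LocalizedModule.mk_eq]
        refine ⟨1, ?_⟩
        rw [one_smul, one_smul]
        apply Subtype.ext
        change s.1 • (f ((gammaT T M).mkQ m)) = (⟨r, hrp⟩ * s : p.asIdeal.primeCompl).1 • e.1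
        rw [hm', Submonoid.coe_mul, mul_comm, mul_smul]
  · intro i hi
    interval_cases i
    · exact subsingleton_HHT0 T P hPbot
    · -- the quotient `E ⧸ P` is torsion-free
      have hS'' := sesHull_shortExact P.subtype (Submodule.injective_subtype P)
      have hQbot : gammaT T (E ⧸ LinearMap.range P.subtype) = ⊥ := by
        rw [eq_bot_iff]
        rintro x ⟨a, ha⟩
        obtain ⟨e, rfl⟩ := Submodule.mkQ_surjective _ x
        rw [Submodule.mem_bot, Submodule.mkQ_apply, Submodule.Quotient.mk_eq_zero,
          Submodule.range_subtype]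
        change N.mkQ e ∈ gammaT T (E ⧸ N)
        apply mem_gammaT_of_smul_mem T (N.mkQ e) a
        intro r hr
        have h1 := ha r hr
        rw [Submodule.mkQ_apply, ← Submodule.Quotient.mk_smul, Submodule.Quotient.mk_eq_zero,
          Submodule.range_subtype] at h1
        rw [← map_smul]
        exact h1
      have hQ0 : Subsingleton (HHT T (ModuleCat.of R (E ⧸ LinearMap.range P.subtype)) 0) :=
        subsingleton_HHT0 T _ hQbot
      refine ⟨fun y y' => ?_⟩
      have key : ∀ y : HHT T (ModuleCat.of R P) 1, y = 0 := by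
        intro y
        obtain ⟨w, hw⟩ := HHT.exact₁ T hS'' 0 y (Subsingleton.elim _ _)
        rw [← hw, Subsingleton.elim w 0, map_zero]
      rw [key y, key y']

end Groth.Agent.Lib.Helper20.Falt
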