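import Mathlib
import Groth.Agent.Lib.Helper20.S2ify
import Groth.Agent.Lib.Helper4.LC2

/-!
# `H^i_{T₀}(M) → H^i_T(M)` is bijective in the range where `H^i_T(M)` is `T₀`-torsion
-/

set_option autoImplicit false
set_option linter.style.haveILetI false
set_option linter.unusedSectionVars false
set_option linter.unusedVariables false
set_option maxHeartbeats 400000

open CategoryTheory Limits Opposite Abelian

universe u

namespace Groth.Agent.Lib.Helper20.Falt

open Groth.Agent.Lib.Helper20.HTModel Groth.Agent.Lib.Helper20.LCDelta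
  Groth.Agent.Lib.Helper20.LCDeltaHH Groth.Agent.Lib.Helper4

variable {R : Type u} [CommRing R] [IsNoetherianRing R]

section inj

variable (T : Set (PrimeSpectrum R))

lemma torsionSub_le_gammaT (a : Idx T) (E : Type u) [AddCommGroup E] [Module R E] :
    DRing.torsionSub a.J E ≤ gammaT T E := by
  rintro x ⟨n, hn⟩
  by_cases h0 : n = 0
  · subst h0
    have h1 := hn 1 (by rw [pow_zero, Ideal.one_eq_top]; trivial)
    rw [one_smul] at h1
    rw [h1]
    exact zero_mem _
  · exact ⟨a.pow n (Nat.pos_of_ne_zero h0), fun r hr => hn r hr⟩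

/-- `Γ_T` of an injective module is injective. -/
theorem gammaT_injective (E : Type u) [AddCommGroup E] [Module R E] [Module.Injective R E] :
    Module.Injective R (gammaT T E) := by
  apply Module.Baer.injective
  intro b g
  -- a uniform annihilator
  have hfg : (LinearMap.range ((gammaT T E).subtype ∘ₗ g)).FG := by
    rw [LinearMap.range_eq_map]
    exact Submodule.FG.map _ (Module.Finite.fg_top)
  have hle : LinearMap.range ((gammaT T E).subtype ∘ₗ g) ≤ gammaT T E := by
    rintro _ ⟨x, rfl⟩
    exact (g x).2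
  obtain ⟨a, ha⟩ := exists_idx_of_fg T E _ hfg hle
  let g₁ : b →ₗ[R] DRing.torsionSub a.J E :=
    LinearMap.codRestrict _ ((gammaT T E).subtype ∘ₗ g) (fun x => ⟨1, fun r hr => by
      rw [pow_one] at hr
      exact ha r hr _ ⟨x, rfl⟩⟩)
  haveI hinj : Module.Injective R (DRing.torsionSub a.J E) := LC.injective_torsionSub a.J E
  obtain ⟨g', hg'⟩ := Module.Baer.of_injective hinj b g₁
  refine ⟨(Submodule.inclusion (torsionSub_le_gammaT T a E)).comp g', fun x hx => ?_⟩
  apply Subtype.ext
  rw [LinearMap.comp_apply, hg' x hx]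
  rfl

end inj

section hull

variable {T₀ T : Set (PrimeSpectrum R)} (hT₀T : T₀ ⊆ T)

include hT₀T in
/-- if the `T`-torsion of `M` is `T₀`-torsion, the same holds for an essential extension which is
injective. -/
theorem gammaT_le_of_essential {M E : Type u} [AddCommGroup M] [Module R M] [AddCommGroup E]
    [Module R E] [Module.Injective R E] (f : M →ₗ[R] E) (hf : InjHull.IsEssentialInj f)
    (hM : gammaT T M ≤ gammaT T₀ M) : gammaT T E ≤ gammaT T₀ E := by
  haveI hinj : Module.Injective R (gammaT T₀ E) := gammaT_injective T₀ E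
  obtain ⟨r, hr⟩ := Module.Injective.extension_property R (gammaT T₀ E) (gammaT T₀ E) E
    (gammaT T₀ E).subtype (Submodule.injective_subtype _) LinearMap.id
  have hr' : ∀ t : gammaT T₀ E, r (t : E) = t := fun t => DFunLike.congr_fun hr t
  obtain ⟨hfinj, hess⟩ := (Groth.Agent.Lib.Helper1.InjHullLib.isEssentialInj_iff f).1 hf
  intro x hx
  have hy : x - ((r x : gammaT T₀ E) : E) ∈ gammaT T E :=
    (gammaT T E).sub_mem hx (gammaT_mono hT₀T (r x).2)
  have hry : r (x - ((r x : gammaT T₀ E) : E)) = 0 := by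
    rw [map_sub, hr', sub_self]
  have hy0 : x - ((r x : gammaT T₀ E) : E) = 0 := by
    by_contra hne
    obtain ⟨c, hc0, m, hm⟩ := hess _ hne
    have hcy : c • (x - ((r x : gammaT T₀ E) : E)) ∈ gammaT T E := (gammaT T E).smul_mem c hy
    obtain ⟨a, ha⟩ := hcy
    have hmT : m ∈ gammaT T M := ⟨a, fun t ht => by
      apply hfinj
      rw [map_smul, hm, ha t ht, map_zero]⟩
    obtain ⟨a₀, ha₀⟩ := hM hmT
    have hfm : f m ∈ gammaT T₀ E := ⟨a₀, fun t ht => by rw [← map_smul, ha₀ t ht, map_zero]⟩
    have h1 : r (f m) = ⟨f m, hfm⟩ := hr' ⟨f m, hfm⟩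
    have h2 : r (f m) = 0 := by rw [hm, map_smul, hry, smul_zero]
    rw [h2] at h1
    have h3 : f m = 0 := (congrArg Subtype.val h1).symm
    rw [hm] at h3
    exact hc0 h3
  have : x = ((r x : gammaT T₀ E) : E) := sub_eq_zero.1 hy0
  rw [this]
  exact (r x).2

end hull

section bij

variable {T₀ T : Set (PrimeSpectrum R)} (hT₀T : T₀ ⊆ T)

include hT₀T in
lemma extSupp_zero_bijective (M : Type u) [AddCommGroup M] [Module R M]
    (h : gammaT T M ≤ gammaT T₀ M) :
    Function.Bijective (extSupp hT₀T (ModuleCat.of R M) 0) := by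
  refine ⟨extSupp_injective_zero hT₀T _, fun x => ?_⟩
  obtain ⟨b, hb⟩ := h (HHT0_mem_gammaT T M x)
  obtain ⟨y, hy⟩ := exists_HHT0_eq T₀ (ModuleCat.of R M) _ b hb
  refine ⟨y, ?_⟩
  apply HHT0_injective T (ModuleCat.of R M)
  rw [HHT0_extSupp hT₀T, hy]

lemma gammaT_le_of_HHT0_torsion (M : Type u) [AddCommGroup M] [Module R M]
    (h : gammaT T₀ (HHT T (ModuleCat.of R M) 0) = ⊤) : gammaT T M ≤ gammaT T₀ M := by
  rintro m ⟨a, ha⟩
  obtain ⟨x, hx⟩ := exists_HHT0_eq T (ModuleCat.of R M) m a ha
  have hx' : x ∈ gammaT T₀ (HHT T (ModuleCat.of R M) 0) := by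
    rw [h]
    trivial
  obtain ⟨b, hb⟩ := hx'
  exact ⟨b, fun r hr => by rw [← hx, ← map_smul, hb r hr, map_zero]⟩

lemma HHT0_torsion_of_le (M : Type u) [AddCommGroup M] [Module R M]
    (h : gammaT T M ≤ gammaT T₀ M) (z : HHT T (ModuleCat.of R M) 0) :
    z ∈ gammaT T₀ (HHT T (ModuleCat.of R M) 0) := by
  obtain ⟨b, hb⟩ := h (HHT0_mem_gammaT T M z)
  refine ⟨b, fun r hr => ?_⟩
  apply HHT0_injective T (ModuleCat.of R M)
  rw [map_smul, hb r hr, map_zero]

include hT₀T in
/-- **Comparison of supports in the torsion range.** -/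
theorem extSupp_bijective_of_torsion : ∀ (s : ℕ) (M : Type u) [AddCommGroup M] [Module R M],
    (∀ i : ℕ, i ≤ s → gammaT T₀ (HHT T (ModuleCat.of R M) i) = ⊤) →
    ∀ i : ℕ, i ≤ s → Function.Bijective (extSupp hT₀T (ModuleCat.of R M) i) := by
  intro s
  induction s with
  | zero =>
    intro M _ _ h i hi
    have hi0 : i = 0 := Nat.le_zero.1 hi
    subst hi0
    exact extSupp_zero_bijective hT₀T M (gammaT_le_of_HHT0_torsion M (h 0 le_rfl))
  | succ s ih =>
    intro M _ _ h i hi
    have hM0 : gammaT T M ≤ gammaT T₀ M := gammaT_le_of_HHT0_torsion M (h 0 (Nat.zero_le _))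
    cases i with
    | zero => exact extSupp_zero_bijective hT₀T M hM0
    | succ k =>
      have hk : k ≤ s := Nat.le_of_succ_le_succ hi
      obtain ⟨E, _, _, f, hf⟩ := Groth.Agent.Lib.Helper1.InjHullLib.exists_injective_hull R M
      have hfinj : Function.Injective f := hf.injective
      haveI : Module.Injective R E := hf.isInjective
      have hEobj : Injective (ModuleCat.of R E) := Module.injective_object_of_injective_module R E
      have hS' := sesHull_shortExact f hfinj
      have hE0 : gammaT T E ≤ gammaT T₀ E :=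
        gammaT_le_of_essential hT₀T f hf.toIsEssentialInj hM0
      have hEvanT : ∀ b : ℕ, Subsingleton (HHT T (ModuleCat.of R E) (b + 1)) := fun b => by
        haveI := hEobj
        exact subsingleton_HHT_of_injective T (ModuleCat.of R E) b
      have hEvanT₀ : ∀ b : ℕ, Subsingleton (HHT T₀ (ModuleCat.of R E) (b + 1)) := fun b => by
        haveI := hEobj
        exact subsingleton_HHT_of_injective T₀ (ModuleCat.of R E) b
      -- the cokernel satisfies the hypothesis for `s`
      have hC : ∀ j : ℕ, j ≤ s →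
          gammaT T₀ (HHT T (ModuleCat.of R (E ⧸ LinearMap.range f)) j) = ⊤ := by
        intro j hj
        rw [eq_top_iff]
        intro x _
        have hδx : HHT.δ T hS' j x ∈ gammaT T₀ (HHT T (ModuleCat.of R M) (j + 1)) := by
          rw [h (j + 1) (Nat.succ_le_succ hj)]
          trivial
        obtain ⟨b₁, hb₁⟩ := hδx
        apply mem_gammaT_of_smul_mem T₀ x b₁
        intro r hr
        have h1 : HHT.δ T hS' j (r • x) = 0 := by rw [map_smul, hb₁ r hr]
        obtain ⟨z, hz⟩ := HHT.exact₃ T hS' j _ h1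
        cases j with
        | zero =>
          obtain ⟨b₂, hb₂⟩ := HHT0_torsion_of_le E hE0 z
          exact ⟨b₂, fun t ht => by rw [← hz, ← map_smul, hb₂ t ht, map_zero]⟩
        | succ j =>
          have := hEvanT j
          rw [← hz, Subsingleton.elim z 0, map_zero]
          exact zero_mem _
      have ihC := ih (E ⧸ LinearMap.range f) hC
      constructor
      · -- injectivity
        rw [injective_iff_map_eq_zero]
        intro y₀ hy₀
        have := hEvanT₀ k
        obtain ⟨w₀, hw₀⟩ := HHT.exact₁ T₀ hS' k y₀ (Subsingleton.elim _ _)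
        have h1 : HHT.δ T hS' k (extSupp hT₀T _ k w₀) = 0 := by
          have := extSupp_δ hT₀T k hS' w₀
          rw [← this, hw₀]
          exact hy₀
        obtain ⟨z, hz⟩ := HHT.exact₃ T hS' k _ h1
        cases k with
        | zero =>
          obtain ⟨z₀, hz₀⟩ := (extSupp_zero_bijective hT₀T E hE0).2 z
          have h2 : extSupp hT₀T _ 0 (HHT.map T₀ (sesHull f).g 0 z₀) = extSupp hT₀T _ 0 w₀ := by
            rw [extSupp_map, hz₀]
            exact hz
          have h3 := (ihC 0 (Nat.zero_le _)).1 h2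
          rw [← hw₀, ← h3]
          exact HHT.δ_map_g T₀ hS' 0 z₀
        | succ k =>
          have := hEvanT k
          have h2 : extSupp hT₀T _ (k + 1) w₀ = 0 := by
            rw [← hz, Subsingleton.elim z 0, map_zero]
          have h3 : w₀ = 0 := by
            apply (ihC (k + 1) hk).1
            rw [h2, map_zero]
          rw [← hw₀, h3, map_zero]
      · -- surjectivity
        intro y
        have := hEvanT k
        obtain ⟨w, hw⟩ := HHT.exact₁ T hS' k y (Subsingleton.elim _ _)
        obtain ⟨w₀, hw₀⟩ := (ihC k hk).2 w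
        refine ⟨HHT.δ T₀ hS' k w₀, ?_⟩
        have := extSupp_δ hT₀T k hS' w₀
        rw [this]
        change HHT.δ T hS' k (extSupp hT₀T _ k w₀) = y
        rw [hw₀, hw]

end bij

end Groth.Agent.Lib.Helper20.Falt
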