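import Mathlib
import Groth.Agent.Lib.Helper20.FaltTors
import Groth.Agent.Lib.Helper20.FaltAnn2
import Groth.Agent.Lib.Helper20.LCDeltaRes

/-!
# Comparison of `H^i_{J₀}`, `H^i_{J'}` and `H^i_T` in the range where `H^i_T` is annihilated
-/

set_option autoImplicit false
set_option linter.style.haveILetI false
set_option linter.unusedSectionVars false
set_option linter.unusedVariables false
set_option maxHeartbeats 400000

open CategoryTheory Limits Opposite Abelian

universe u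

namespace Groth.Agent.Lib.Helper20.Falt

open Groth.Agent.Lib.Helper20.HTModel Groth.Agent.Lib.Helper20.LCDelta
  Groth.Agent.Lib.Helper20.LCDeltaHH Groth.Agent.Lib.Helper4

variable {R : Type u} [CommRing R] [IsNoetherianRing R]

/-- every class of `H^i_T(M)` is killed by an ideal with zero locus in `T`. -/
lemma HHT.exists_idx_kills (T : Set (PrimeSpectrum R)) (M : ModuleCat.{u} R) (i : ℕ)
    (x : HHT T M i) : ∃ a : Idx T, ∀ r ∈ a.J, r • x = 0 := by
  obtain ⟨a, y, rfl⟩ := HHT.exists_of T M i x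
  refine ⟨a, fun r hr => ?_⟩
  rw [← map_smul, smul_ext_eq_zero T i a y r hr, map_zero]

/-- if `K` kills `H^i_T(M)` and `V(K) ∩ T ⊆ T₀`, then `H^i_T(M)` is `T₀`-torsion. -/
lemma gammaT_HHT_eq_top_of_kills (T₀ T : Set (PrimeSpectrum R)) (K : Ideal R)
    (hK : PrimeSpectrum.zeroLocus (K : Set R) ∩ T ⊆ T₀) (M : ModuleCat.{u} R) (i : ℕ)
    (hk : ∀ c ∈ K, ∀ x : HHT T M i, c • x = 0) : gammaT T₀ (HHT T M i) = ⊤ := by
  rw [eq_top_iff]
  intro x _
  obtain ⟨a, ha⟩ := HHT.exists_idx_kills T M i x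
  refine ⟨⟨a.J ⊔ K, ?_⟩, fun r hr => ?_⟩
  · intro q hq
    rw [PrimeSpectrum.mem_zeroLocus, SetLike.coe_subset_coe] at hq
    apply hK
    constructor
    · rw [PrimeSpectrum.mem_zeroLocus, SetLike.coe_subset_coe]
      exact le_sup_right.trans hq
    · apply a.hJ
      rw [PrimeSpectrum.mem_zeroLocus, SetLike.coe_subset_coe]
      exact le_sup_left.trans hq
  · obtain ⟨r₁, hr₁, r₂, hr₂, rfl⟩ := Submodule.mem_sup.1 hr
    rw [add_smul, ha r₁ hr₁, hk r₂ hr₂ x, add_zero]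

section cmp

variable (T : Set (PrimeSpectrum R))

lemma cmp_eq_extSupp (I : Ideal R) (hIT : PrimeSpectrum.zeroLocus (I : Set R) ⊆ T)
    (M : ModuleCat.{u} R) (i : ℕ) (x : LC.HH I M i) :
    cmp I T hIT M i x = extSupp hIT M i (cmp I (PrimeSpectrum.zeroLocus (I : Set R)) le_rfl M i x) := by
  obtain ⟨n, y, rfl⟩ := LC.HH.exists_of I M i x
  rw [cmp_of, cmp_of, extSupp_of]
  rfl

/-- `H^i_{J₁}(M) → H^i_T(M)` is bijective in the range where `H^i_T(M)` is killed by `K` with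
`V(K) ∩ T ⊆ V(J₁)`. -/
theorem cmp_bijective_of_kills (J₁ : Ideal R)
    (hJ₁ : PrimeSpectrum.zeroLocus (J₁ : Set R) ⊆ T) (K : Ideal R)
    (hK : PrimeSpectrum.zeroLocus (K : Set R) ∩ T ⊆ PrimeSpectrum.zeroLocus (J₁ : Set R))
    (M : Type u) [AddCommGroup M] [Module R M] (s : ℕ)
    (hk : ∀ i : ℕ, i ≤ s → ∀ c ∈ K, ∀ x : HHT T (ModuleCat.of R M) i, c • x = 0)
    (i : ℕ) (hi : i ≤ s) : Function.Bijective (cmp J₁ T hJ₁ (ModuleCat.of R M) i) := by
  have h1 := extSupp_bijective_of_torsion hJ₁ s M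
    (fun j hj => gammaT_HHT_eq_top_of_kills _ T K hK (ModuleCat.of R M) j (hk j hj)) i hi
  have h2 : Function.Bijective
      (cmp J₁ (PrimeSpectrum.zeroLocus (J₁ : Set R)) le_rfl (ModuleCat.of R M) i) :=
    ⟨cmp_injective J₁ _ le_rfl (ModuleCat.of R M) i le_rfl,
      cmp_surjective J₁ _ le_rfl (ModuleCat.of R M) i le_rfl⟩
  have h3 : cmp J₁ T hJ₁ (ModuleCat.of R M) i =
      (extSupp hJ₁ (ModuleCat.of R M) i) ∘ₗ
        (cmp J₁ (PrimeSpectrum.zeroLocus (J₁ : Set R)) le_rfl (ModuleCat.of R M) i) := by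
    apply LinearMap.ext
    intro x
    exact cmp_eq_extSupp T J₁ hJ₁ _ i x
  rw [h3]
  exact h1.comp h2

lemma cmp_res {J' J₀ : Ideal R} (h : J' ≤ J₀)
    (h₀ : PrimeSpectrum.zeroLocus (J₀ : Set R) ⊆ T)
    (h' : PrimeSpectrum.zeroLocus (J' : Set R) ⊆ T) (M : ModuleCat.{u} R) (i : ℕ)
    (x : LC.HH J₀ M i) : cmp J' T h' M i (res h M i x) = cmp J₀ T h₀ M i x := by
  obtain ⟨n, y, rfl⟩ := LC.HH.exists_of J₀ M i x
  rw [res_of, cmp_of, cmp_of]
  have hle : idxPow J₀ T h₀ n ≤ idxPow J' T h' n := Ideal.pow_right_mono h n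
  rw [← HHT.of_tr T M i hle y, tr_apply]
  rfl

theorem res_bijective {J' J₀ : Ideal R} (h : J' ≤ J₀)
    (h₀ : PrimeSpectrum.zeroLocus (J₀ : Set R) ⊆ T)
    (h' : PrimeSpectrum.zeroLocus (J' : Set R) ⊆ T) (M : ModuleCat.{u} R) (i : ℕ)
    (b₀ : Function.Bijective (cmp J₀ T h₀ M i)) (b' : Function.Bijective (cmp J' T h' M i)) :
    Function.Bijective (res h M i) := by
  have hc : (cmp J' T h' M i) ∘ (res h M i) = cmp J₀ T h₀ M i := by
    funext x
    exact cmp_res T h h₀ h' M i x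
  constructor
  · have : Function.Injective ((cmp J' T h' M i) ∘ (res h M i)) := by
      rw [hc]
      exact b₀.1
    exact Function.Injective.of_comp this
  · intro y
    obtain ⟨x, hx⟩ := b₀.2 (cmp J' T h' M i y)
    refine ⟨x, ?_⟩
    apply b'.1
    rw [cmp_res T h h₀ h' M i x, hx]

end cmp

/-- bijectivity of `Dual2.HmapOfLE` from bijectivity of `res`. -/
theorem HmapOfLE_bijective_of_res {I J : Ideal R} (h : I ≤ J) (M : ModuleCat.{u} R) (i : ℕ)
    (hb : Function.Bijective (res h M i)) :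
    Function.Bijective ((Dual2.HmapOfLE h i).app M).hom := by
  have key : ∀ x, ((Dual2.HmapOfLE h i).app M).hom x =
      (LC.lcEquiv I M i).symm (res h M i (LC.lcEquiv J M i x)) := by
    intro x
    rw [← lcEquiv_HmapOfLE h M i x, LinearEquiv.symm_apply_apply]
  constructor
  · intro x y hxy
    rw [key, key] at hxy
    exact (LC.lcEquiv J M i).injective (hb.1 ((LC.lcEquiv I M i).symm.injective hxy))
  · intro z
    obtain ⟨w, hw⟩ := hb.2 (LC.lcEquiv I M i z)
    refine ⟨(LC.lcEquiv J M i).symm w, ?_⟩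
    rw [key, LinearEquiv.apply_symm_apply, hw, LinearEquiv.symm_apply_apply]

/-- annihilators of `LocCoh.H` from annihilators of `H_T` and injectivity of `cmp`. -/
theorem kills_H_of_kills_HHT (T : Set (PrimeSpectrum R)) (J₁ : Ideal R)
    (hJ₁ : PrimeSpectrum.zeroLocus (J₁ : Set R) ⊆ T) (M : Type u) [AddCommGroup M] [Module R M]
    (i : ℕ) (hinj : Function.Injective (cmp J₁ T hJ₁ (ModuleCat.of R M) i)) (a : R)
    (ha : ∀ x : HHT T (ModuleCat.of R M) i, a • x = 0) (x : LocCoh.H J₁ i M) : a • x = 0 := by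
  apply (LC.lcEquiv J₁ (ModuleCat.of R M) i).injective
  apply hinj
  rw [map_smul, map_smul, ha, map_zero, map_zero]

end Groth.Agent.Lib.Helper20.Falt
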