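import Mathlib
import Groth.Agent.Lib.Helper20.FaltMainB
import Groth.Agent.Lib.Helper20.FaltAlg1
import Groth.Agent.Lib.Helper20.DimBetween
import Groth.Agent.Lib.Helper20.HTMain2

/-!
# Algebraization of local cohomology: the set `T` of primes `p` with `V(p) ∩ V(I) ⊆ V(J)`
-/

set_option autoImplicit false
set_option linter.style.haveILetI false
set_option linter.unusedSectionVars false
set_option linter.unusedVariables false
set_option maxHeartbeats 800000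

universe u

open CategoryTheory CategoryTheory.Limits

attribute [local instance] HasDerivedCategory.standard

namespace Groth.Agent.Lib.Helper20.FaltLoc

open Groth.Agent.Lib.Helper18.DR Groth.Agent.Lib.Helper18.DR.Dim
  Groth.Agent.Lib.Helper20.HTModel Groth.Agent.Lib.Helper20.Falt Groth.Agent.Lib.Helper4

variable {A : Type u} [CommRing A] [IsNoetherianRing A]

/-! ### arithmetic -/

lemma enat_arith1 (dp : ℕ∞) (s a : ℕ) (ha : 1 ≤ a) (h : (s : ℕ∞) ≤ dp) :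
    (s : ℕ∞) < dp + (a : ℕ∞) := by
  induction dp using ENat.recTopCoe with
  | top => simp
  | coe n =>
    norm_cast at *
    omega

lemma enat_arith2 (dp : ℕ∞) (s d a b : ℕ) (hb : b ≤ d)
    (h : ((d + s : ℕ) : ℕ∞) < dp + ((a + b : ℕ) : ℕ∞)) : (s : ℕ∞) < dp + (a : ℕ∞) := by
  induction dp using ENat.recTopCoe with
  | top => simp
  | coe n =>
    norm_cast at *
    omega

lemma enat_arith3 (dp : ℕ∞) (s a : ℕ) (h : (s : ℕ∞) < dp) : (s : ℕ∞) < dp + (a : ℕ∞) :=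
  lt_of_lt_of_le h le_self_add

/-! ### the set `T` -/

section setup

variable (I J : Ideal A) (T : Set (PrimeSpectrum A))
  (hT : ∀ p : PrimeSpectrum A, p ∈ T ↔
    ∀ q : PrimeSpectrum A, p ≤ q → I ≤ q.asIdeal → J ≤ q.asIdeal)

include hT

lemma alg_stable : StableUnderSpecialization T := by
  intro x y hxy hx
  have hle : x ≤ y := (PrimeSpectrum.le_iff_specializes x y).2 hxy
  rw [hT] at hx ⊢
  exact fun q hq => hx q (hle.trans hq)

lemma alg_zeroLocus_subset (J' : Ideal A)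
    (h : PrimeSpectrum.zeroLocus (J' : Set A) ∩ PrimeSpectrum.zeroLocus (I : Set A) ⊆
      PrimeSpectrum.zeroLocus (J : Set A)) : PrimeSpectrum.zeroLocus (J' : Set A) ⊆ T := by
  intro p hp
  rw [hT]
  intro q hpq hIq
  rw [PrimeSpectrum.mem_zeroLocus, SetLike.coe_subset_coe] at hp
  have h1 : q ∈ PrimeSpectrum.zeroLocus (J' : Set A) ∩ PrimeSpectrum.zeroLocus (I : Set A) := by
    constructor
    · rw [PrimeSpectrum.mem_zeroLocus, SetLike.coe_subset_coe]
      exact hp.trans hpq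
    · rw [PrimeSpectrum.mem_zeroLocus, SetLike.coe_subset_coe]
      exact hIq
  have h2 := h h1
  rwa [PrimeSpectrum.mem_zeroLocus, SetLike.coe_subset_coe] at h2

lemma alg_inter (p : PrimeSpectrum A) (hp : p ∈ T) (hI : I ≤ p.asIdeal) : J ≤ p.asIdeal :=
  (hT p).1 hp p le_rfl hI

lemma alg_J_subset : PrimeSpectrum.zeroLocus (J : Set A) ⊆ T :=
  alg_zeroLocus_subset I J T hT J Set.inter_subset_left

variable (δ : PrimeSpectrum A → ℤ) (hδ : ∀ p q : PrimeSpectrum A, p ⋖ q → δ p = δ q + 1)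
  (M : Type u) [AddCommGroup M] [Module A M] [Module.Finite A M] (s d : ℕ)
  (h3 : ∀ p : PrimeSpectrum A, ¬ I ≤ p.asIdeal → p ∈ T → ∃ q : PrimeSpectrum A, p ≤ q ∧
    J ≤ q.asIdeal ∧ I ≤ q.asIdeal ∧
      Formal2.dimBetween A p.asIdeal q.asIdeal ≤ ((d : ℕ∞) : WithBot ℕ∞))
  (h4 : ∀ p : PrimeSpectrum A, ¬ I ≤ p.asIdeal → p ∉ T → ∀ q : PrimeSpectrum A, p ≤ q →
    J ≤ q.asIdeal → I ≤ q.asIdeal →
      (s : ℕ∞) ≤ LocCoh.depth (Localization.AtPrime p.asIdeal)
        (LocalizedModule p.asIdeal.primeCompl M) ∨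
      (((d + s : ℕ) : ℕ∞) : WithBot ℕ∞) <
        ((LocCoh.depth (Localization.AtPrime p.asIdeal)
          (LocalizedModule p.asIdeal.primeCompl M) : ℕ∞) : WithBot ℕ∞) +
            Formal2.dimBetween A p.asIdeal q.asIdeal)

include hδ h3 h4 in
/-- the depth inequality for `p ∉ V(I) ∪ T`, `q ∈ T`. -/
lemma alg_depth_ineq (p q : PrimeSpectrum A) (hpI : ¬ I ≤ p.asIdeal) (hpT : p ∉ T) (hq : q ∈ T)
    (hpq : p ≤ q) :
    ((s : ℕ) : WithBot ℕ∞) < ((LocCoh.depth (Localization.AtPrime p.asIdeal)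
      (LocalizedModule p.asIdeal.primeCompl M) : ℕ∞) : WithBot ℕ∞) +
        Order.krullDim (Set.Icc p q) := by
  -- the point `q'`
  obtain ⟨q', hqq', hJq', hIq', hdim⟩ : ∃ q' : PrimeSpectrum A, q ≤ q' ∧ J ≤ q'.asIdeal ∧
      I ≤ q'.asIdeal ∧ Order.krullDim (Set.Icc q q') ≤ ((d : ℕ∞) : WithBot ℕ∞) := by
    by_cases hIq : I ≤ q.asIdeal
    · refine ⟨q, le_rfl, alg_inter I J T hT q hq hIq, hIq, ?_⟩
      rw [(krullDim_Icc_eq δ hδ q q le_rfl).2]
      have h0 : (δ q - δ q).toNat = 0 := by omega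
      rw [h0]
      exact_mod_cast Nat.zero_le d
    · obtain ⟨q', h1, h2, h3', h4'⟩ := h3 q hIq hq
      refine ⟨q', h1, h2, h3', ?_⟩
      rw [← dimBetween_eq_krullDim_Icc q q' h1]
      exact h4'
  have hpq' : p ≤ q' := hpq.trans hqq'
  have hne : p ≠ q := fun h => hpT (h ▸ hq)
  have hlt : p < q := lt_of_le_of_ne hpq hne
  have hδlt := dimFun_lt δ hδ p q hlt
  obtain ⟨h0a, hka⟩ := krullDim_Icc_eq δ hδ p q hpq
  obtain ⟨h0b, hkb⟩ := krullDim_Icc_eq δ hδ q q' hqq'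
  obtain ⟨h0c, hkc⟩ := krullDim_Icc_eq δ hδ p q' hpq'
  rw [hkb] at hdim
  have hbd : (δ q - δ q').toNat ≤ d := by exact_mod_cast hdim
  rw [hka, show (((δ p - δ q).toNat : ℕ) : WithBot ℕ∞) =
    ((((δ p - δ q).toNat : ℕ) : ℕ∞) : WithBot ℕ∞) from rfl,
    show ((s : ℕ) : WithBot ℕ∞) = (((s : ℕ) : ℕ∞) : WithBot ℕ∞) from rfl,
    ← WithBot.coe_add, WithBot.coe_lt_coe]
  rcases h4 p hpI hpT q' hpq' hJq' hIq' with h | h
  · exact enat_arith1 _ s _ (by omega) h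
  · rw [dimBetween_eq_krullDim_Icc p q' hpq', hkc,
      show (((δ p - δ q').toNat : ℕ) : WithBot ℕ∞) =
        ((((δ p - δ q').toNat : ℕ) : ℕ∞) : WithBot ℕ∞) from rfl,
      ← WithBot.coe_add, WithBot.coe_lt_coe] at h
    have hc : (δ p - δ q').toNat = (δ p - δ q).toNat + (δ q - δ q').toNat := by omega
    rw [hc] at h
    exact enat_arith2 _ s d _ _ hbd h

end setup

/-! ### from an annihilator with zero locus in `T ∪ V(I)` to `J₀` -/

lemma alg_exists_J₀ (I J : Ideal A) (T : Set (PrimeSpectrum A))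
    (hTs : StableUnderSpecialization T) (hJT : PrimeSpectrum.zeroLocus (J : Set A) ⊆ T)
    (K : Ideal A) (hK : PrimeSpectrum.zeroLocus (K : Set A) ⊆
      T ∪ PrimeSpectrum.zeroLocus (I : Set A)) :
    ∃ J₀ : Ideal A, J₀ ≤ J ∧ PrimeSpectrum.zeroLocus (J₀ : Set A) ⊆ T ∧
      ∃ n : ℕ, (J₀ * I) ^ n ≤ K := by
  classical
  have hfin : K.minimalPrimes.Finite := Ideal.finite_minimalPrimes_of_isNoetherianRing A K
  let S : Finset (Ideal A) := hfin.toFinset
  let S₁ := S.filter (fun P => ∃ h : P.IsPrime, (⟨P, h⟩ : PrimeSpectrum A) ∈ T)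
  let S₂ := S.filter (fun P => ¬ ∃ h : P.IsPrime, (⟨P, h⟩ : PrimeSpectrum A) ∈ T)
  let K₁ : Ideal A := ∏ P ∈ S₁, P
  let K₂ : Ideal A := ∏ P ∈ S₂, P
  have hK₁ : PrimeSpectrum.zeroLocus (K₁ : Set A) ⊆ T := by
    intro q hq
    rw [PrimeSpectrum.mem_zeroLocus, SetLike.coe_subset_coe] at hq
    obtain ⟨P, hP, hPq⟩ := (Ideal.IsPrime.prod_le q.2).1 hq
    obtain ⟨hPprime, hPT⟩ := (Finset.mem_filter.1 hP).2
    exact hTs ((PrimeSpectrum.le_iff_specializes ⟨P, hPprime⟩ q).1 hPq) hPT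
  have hS₂ : ∀ P ∈ S₂, I ≤ P := by
    intro P hP
    obtain ⟨hPS, hPn⟩ := Finset.mem_filter.1 hP
    have hmin : P ∈ K.minimalPrimes := hfin.mem_toFinset.1 hPS
    have hPprime : P.IsPrime := hmin.1.1
    have hPK : K ≤ P := hmin.1.2
    have hmem : (⟨P, hPprime⟩ : PrimeSpectrum A) ∈ T ∪ PrimeSpectrum.zeroLocus (I : Set A) :=
      hK (by rw [PrimeSpectrum.mem_zeroLocus, SetLike.coe_subset_coe]; exact hPK)
    rcases hmem with h | h
    · exact absurd ⟨hPprime, h⟩ hPn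
    · rwa [PrimeSpectrum.mem_zeroLocus, SetLike.coe_subset_coe] at h
  have hK₂ : I ^ S₂.card ≤ K₂ := by
    rw [← Finset.prod_const]
    exact Finset.prod_le_prod' hS₂
  have hrad : K₁ * K₂ ≤ K.radical := by
    have h1 : K₁ * K₂ = ∏ P ∈ S, P := Finset.prod_filter_mul_prod_filter_not S _ _
    rw [h1, ← Ideal.sInf_minimalPrimes]
    apply le_sInf
    intro P hP
    exact Ideal.prod_le_inf.trans (Finset.inf_le (hfin.mem_toFinset.2 hP))
  obtain ⟨m, hm⟩ := Ideal.exists_radical_pow_le_of_fg K (IsNoetherian.noetherian _)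
  refine ⟨J * K₁, Ideal.mul_le_left, ?_, (S₂.card + 1) * m, ?_⟩
  · intro q hq
    rw [PrimeSpectrum.mem_zeroLocus, SetLike.coe_subset_coe] at hq
    rcases (Ideal.IsPrime.mul_le q.2).1 hq with h | h
    · apply hJT
      rw [PrimeSpectrum.mem_zeroLocus, SetLike.coe_subset_coe]
      exact h
    · apply hK₁
      rw [PrimeSpectrum.mem_zeroLocus, SetLike.coe_subset_coe]
      exact h
  · have h1 : J * K₁ * I ≤ K₁ * I := Ideal.mul_mono_left Ideal.mul_le_right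
    have h2 : (K₁ * I) ^ (S₂.card + 1) ≤ K₁ * K₂ := by
      rw [mul_pow]
      exact Ideal.mul_mono (Ideal.pow_le_self (Nat.succ_ne_zero _))
        ((Ideal.pow_le_pow_right (Nat.le_succ _)).trans hK₂)
    calc (J * K₁ * I) ^ ((S₂.card + 1) * m) = ((J * K₁ * I) ^ (S₂.card + 1)) ^ m := pow_mul _ _ _
      _ ≤ (K.radical) ^ m :=
        Ideal.pow_right_mono (((Ideal.pow_right_mono h1 _).trans h2).trans hrad) m
      _ ≤ K := hm

end Groth.Agent.Lib.Helper20.FaltLoc
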