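import Mathlib
import Groth.Agent.Lib.Helper20.FaltAlg2

/-!
# Algebraization of local cohomology: the main statements
-/

set_option autoImplicit false
set_option linter.style.haveILetI false
set_option linter.unusedSectionVars false
set_option linter.unusedVariables false
set_option maxHeartbeats 800000

universe u

open CategoryTheory CategoryTheory.Limits

attribute [local instance] HasDerivedCategory.standard

namespace Groth.Agent.Lib.Helper20.FaltLoc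

open Groth.Agent.Lib.Helper18.DR Groth.Agent.Lib.Helper18.DR.Dim
  Groth.Agent.Lib.Helper20.HTModel Groth.Agent.Lib.Helper20.Falt Groth.Agent.Lib.Helper4
  Groth.Agent.Lib.Helper20.LCDeltaHH

variable {A : Type u} [CommRing A] [IsNoetherianRing A]

section core

variable (ω : Dual.D A) (hω : Dual.IsDualizing A ω) (I J : Ideal A) (T : Set (PrimeSpectrum A))
  (hT : ∀ p : PrimeSpectrum A, p ∈ T ↔
    ∀ q : PrimeSpectrum A, p ≤ q → I ≤ q.asIdeal → J ≤ q.asIdeal)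
  (M : Type u) [AddCommGroup M] [Module A M] [Module.Finite A M] (s d : ℕ)
  (h3 : ∀ p : PrimeSpectrum A, ¬ I ≤ p.asIdeal → p ∈ T → ∃ q : PrimeSpectrum A, p ≤ q ∧
    J ≤ q.asIdeal ∧ I ≤ q.asIdeal ∧
      Formal2.dimBetween A p.asIdeal q.asIdeal ≤ ((d : ℕ∞) : WithBot ℕ∞))
  (h4 : ∀ p : PrimeSpectrum A, ¬ I ≤ p.asIdeal → p ∉ T → ∀ q : PrimeSpectrum A, p ≤ q →
    J ≤ q.asIdeal → I ≤ q.asIdeal →
      (s : ℕ∞) ≤ LocCoh.depth (Localization.AtPrime p.asIdeal)
        (LocalizedModule p.asIdeal.primeCompl M) ∨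
      (((d + s : ℕ) : ℕ∞) : WithBot ℕ∞) <
        ((LocCoh.depth (Localization.AtPrime p.asIdeal)
          (LocalizedModule p.asIdeal.primeCompl M) : ℕ∞) : WithBot ℕ∞) +
            Formal2.dimBetween A p.asIdeal q.asIdeal)

include hT in
lemma alg_union_stable :
    StableUnderSpecialization (T ∪ PrimeSpectrum.zeroLocus (I : Set A)) := by
  intro x y hxy hx
  rcases hx with h | h
  · exact Or.inl (alg_stable I J T hT hxy h)
  · right
    have hle : x ≤ y := (PrimeSpectrum.le_iff_specializes x y).2 hxy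
    rw [PrimeSpectrum.mem_zeroLocus, SetLike.coe_subset_coe] at h ⊢
    exact h.trans hle

include hω hT h3 h4 in
theorem alg_core : ∃ (J₀ : Ideal A) (n : ℕ), J₀ ≤ J ∧
    PrimeSpectrum.zeroLocus (J₀ : Set A) ⊆ T ∧
      ∀ i : ℕ, i ≤ s → ∀ a ∈ (J₀ * I) ^ n, ∀ x : HHT T (ModuleCat.of A M) i, a • x = 0 := by
  obtain ⟨δ, lo, hi, hδ, hbd, hdata⟩ := exists_local_data ω hω
  have hTs := alg_stable I J T hT
  have hT's := alg_union_stable I J T hT
  obtain ⟨K, hK, hk⟩ := kills_of_depth ω hω T (T ∪ PrimeSpectrum.zeroLocus (I : Set A)) hTs hT's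
    s M (fun p q hp hq hpq => by
      have hpT : p ∉ T := fun h => hp (Or.inl h)
      have hpI : ¬ I ≤ p.asIdeal := fun h => hp (Or.inr (by
        rw [PrimeSpectrum.mem_zeroLocus, SetLike.coe_subset_coe]
        exact h))
      exact alg_depth_ineq I J T hT δ hδ M s d h3 h4 p q hpI hpT hq hpq)
  obtain ⟨J₀, hJ₀J, hJ₀T, n, hn⟩ := alg_exists_J₀ I J T hTs (alg_J_subset I J T hT) K hK
  exact ⟨J₀, n, hJ₀J, hJ₀T, fun i hi a ha x => hk i hi a (hn ha) x⟩

end core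

section conseq

variable (I J : Ideal A) (T : Set (PrimeSpectrum A))
  (hT : ∀ p : PrimeSpectrum A, p ∈ T ↔
    ∀ q : PrimeSpectrum A, p ≤ q → I ≤ q.asIdeal → J ≤ q.asIdeal)
  (M : Type u) [AddCommGroup M] [Module A M] (s : ℕ)

include hT in
/-- `V(K * I)`-type loci inside `T`. -/
lemma alg_locus (J₀ J₁ : Ideal A) (n : ℕ) (hJ₁J₀ : J₁ ≤ J₀)
    (h : PrimeSpectrum.zeroLocus (J : Set A) ∩ PrimeSpectrum.zeroLocus (I : Set A) ⊆
      PrimeSpectrum.zeroLocus (J₁ : Set A)) :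
    PrimeSpectrum.zeroLocus (((J₀ * I) ^ n : Ideal A) : Set A) ∩ T ⊆
      PrimeSpectrum.zeroLocus (J₁ : Set A) := by
  rintro q ⟨hq, hqT⟩
  rw [PrimeSpectrum.mem_zeroLocus, SetLike.coe_subset_coe] at hq
  haveI := q.2
  have h1 : J₀ * I ≤ q.asIdeal := Ideal.IsPrime.le_of_pow_le hq
  rcases (Ideal.IsPrime.mul_le q.2).1 h1 with h2 | h2
  · rw [PrimeSpectrum.mem_zeroLocus, SetLike.coe_subset_coe]
    exact hJ₁J₀.trans h2
  · apply h
    constructor
    · rw [PrimeSpectrum.mem_zeroLocus, SetLike.coe_subset_coe]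
      exact alg_inter I J T hT q hqT h2
    · rw [PrimeSpectrum.mem_zeroLocus, SetLike.coe_subset_coe]
      exact h2

include hT in
lemma alg_locus_pow (J₁ : Ideal A) (n : ℕ)
    (h : PrimeSpectrum.zeroLocus (J : Set A) ∩ PrimeSpectrum.zeroLocus (I : Set A) ⊆
      PrimeSpectrum.zeroLocus (J₁ : Set A)) :
    PrimeSpectrum.zeroLocus ((I ^ n : Ideal A) : Set A) ∩ T ⊆
      PrimeSpectrum.zeroLocus (J₁ : Set A) := by
  rintro q ⟨hq, hqT⟩
  rw [PrimeSpectrum.mem_zeroLocus, SetLike.coe_subset_coe] at hq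
  haveI := q.2
  have h2 : I ≤ q.asIdeal := Ideal.IsPrime.le_of_pow_le hq
  apply h
  constructor
  · rw [PrimeSpectrum.mem_zeroLocus, SetLike.coe_subset_coe]
    exact alg_inter I J T hT q hqT h2
  · rw [PrimeSpectrum.mem_zeroLocus, SetLike.coe_subset_coe]
    exact h2

include hT in
theorem alg_conseq (J₀ : Ideal A) (n : ℕ) (hJ₀J : J₀ ≤ J)
    (hJ₀T : PrimeSpectrum.zeroLocus (J₀ : Set A) ⊆ T)
    (hkill : ∀ i : ℕ, i ≤ s → ∀ a ∈ (J₀ * I) ^ n,
      ∀ x : HHT T (ModuleCat.of A M) i, a • x = 0) :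
    (PrimeSpectrum.zeroLocus (J₀ : Set A) ∩ PrimeSpectrum.zeroLocus (I : Set A) =
      PrimeSpectrum.zeroLocus (J : Set A) ∩ PrimeSpectrum.zeroLocus (I : Set A)) ∧
    (∀ (J' : Ideal A) (hJ' : J' ≤ J₀),
      PrimeSpectrum.zeroLocus (J' : Set A) ∩ PrimeSpectrum.zeroLocus (I : Set A) =
        PrimeSpectrum.zeroLocus (J : Set A) ∩ PrimeSpectrum.zeroLocus (I : Set A) →
      ∀ i : ℕ, i ≤ s →
        Function.Bijective ((Dual2.HmapOfLE hJ' i).app (ModuleCat.of A M)).hom) ∧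
    (∀ a ∈ (J₀ * I) ^ n, ∀ i : ℕ, i ≤ s → ∀ x : LocCoh.H J₀ i M, a • x = 0) ∧
    (∀ i : ℕ, i ≤ s → Function.Bijective (cmp J₀ T hJ₀T (ModuleCat.of A M) i)) := by
  have hJ₀sub : PrimeSpectrum.zeroLocus (J : Set A) ⊆ PrimeSpectrum.zeroLocus (J₀ : Set A) :=
    PrimeSpectrum.zeroLocus_anti_mono (SetLike.coe_subset_coe.2 hJ₀J)
  have hb₀ : ∀ i : ℕ, i ≤ s → Function.Bijective (cmp J₀ T hJ₀T (ModuleCat.of A M) i) :=
    fun i hi => cmp_bijective_of_kills T J₀ hJ₀T ((J₀ * I) ^ n)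
      (alg_locus I J T hT J₀ J₀ n le_rfl (Set.inter_subset_left.trans hJ₀sub)) M s hkill i hi
  refine ⟨?_, ?_, ?_, hb₀⟩
  · apply Set.Subset.antisymm
    · rintro q ⟨hq1, hq2⟩
      refine ⟨?_, hq2⟩
      rw [PrimeSpectrum.mem_zeroLocus, SetLike.coe_subset_coe] at hq2 ⊢
      exact alg_inter I J T hT q (hJ₀T hq1) hq2
    · exact Set.inter_subset_inter_left _ hJ₀sub
  · intro J' hJ' hJ'eq i hi
    have hJ'T : PrimeSpectrum.zeroLocus (J' : Set A) ⊆ T :=
      alg_zeroLocus_subset I J T hT J' (hJ'eq.le.trans Set.inter_subset_left)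
    have hb' : Function.Bijective (cmp J' T hJ'T (ModuleCat.of A M) i) :=
      cmp_bijective_of_kills T J' hJ'T ((J₀ * I) ^ n)
        (alg_locus I J T hT J₀ J' n hJ' (hJ'eq.ge.trans Set.inter_subset_left)) M s hkill i hi
    exact HmapOfLE_bijective_of_res hJ' (ModuleCat.of A M) i
      (res_bijective T hJ' hJ₀T hJ'T (ModuleCat.of A M) i (hb₀ i hi) hb')
  · intro a ha i hi x
    exact kills_H_of_kills_HHT T J₀ hJ₀T M i (hb₀ i hi).1 a (fun y => hkill i hi a ha y) x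

end conseq

end Groth.Agent.Lib.Helper20.FaltLoc
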