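import Mathlib
import Groth.Agent.Lib.Helper20.FaltAlg3

/-!
# Algebraization of local cohomology: finiteness and the comparison with `H_J`, `H_{J+I}`
-/

set_option autoImplicit false
set_option linter.style.haveILetI false
set_option linter.unusedSectionVars false
set_option linter.unusedVariables false
set_option maxHeartbeats 800000

universe u

open CategoryTheory CategoryTheory.Limits

attribute [local instance] HasDerivedCategory.standard

namespace Groth.Agent.Lib.Helper20.FaltLoc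

open Groth.Agent.Lib.Helper18.DR Groth.Agent.Lib.Helper18.DR.Dim
  Groth.Agent.Lib.Helper20.HTModel Groth.Agent.Lib.Helper20.Falt Groth.Agent.Lib.Helper4
  Groth.Agent.Lib.Helper20.LCDeltaHH

variable {A : Type u} [CommRing A] [IsNoetherianRing A]

section core

variable (ω : Dual.D A) (hω : Dual.IsDualizing A ω) (I J : Ideal A) (T : Set (PrimeSpectrum A))
  (hT : ∀ p : PrimeSpectrum A, p ∈ T ↔
    ∀ q : PrimeSpectrum A, p ≤ q → I ≤ q.asIdeal → J ≤ q.asIdeal)
  (M : Type u) [AddCommGroup M] [Module A M] [Module.Finite A M] (s d : ℕ)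
  (h3 : ∀ p : PrimeSpectrum A, ¬ I ≤ p.asIdeal → p ∈ T → ∃ q : PrimeSpectrum A, p ≤ q ∧
    J ≤ q.asIdeal ∧ I ≤ q.asIdeal ∧
      Formal2.dimBetween A p.asIdeal q.asIdeal ≤ ((d : ℕ∞) : WithBot ℕ∞))
  (h4 : ∀ p : PrimeSpectrum A, ¬ I ≤ p.asIdeal → p ∉ T → ∀ q : PrimeSpectrum A, p ≤ q →
    J ≤ q.asIdeal → I ≤ q.asIdeal →
      (s : ℕ∞) ≤ LocCoh.depth (Localization.AtPrime p.asIdeal)
        (LocalizedModule p.asIdeal.primeCompl M) ∨
      (((d + s : ℕ) : ℕ∞) : WithBot ℕ∞) <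
        ((LocCoh.depth (Localization.AtPrime p.asIdeal)
          (LocalizedModule p.asIdeal.primeCompl M) : ℕ∞) : WithBot ℕ∞) +
            Formal2.dimBetween A p.asIdeal q.asIdeal)

include hω hT h3 h4 in
/-- finiteness of `H^i_T(M)` under the additional hypothesis (2'). -/
theorem alg_finite
    (h2 : ∀ p : PrimeSpectrum A, I ≤ p.asIdeal → ¬ J ≤ p.asIdeal → ∀ q : PrimeSpectrum A,
      p ≤ q → J ≤ q.asIdeal → I ≤ q.asIdeal →
      ((s : ℕ∞) : WithBot ℕ∞) < ((LocCoh.depth (Localization.AtPrime p.asIdeal)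
        (LocalizedModule p.asIdeal.primeCompl M) : ℕ∞) : WithBot ℕ∞) +
          Formal2.dimBetween A p.asIdeal q.asIdeal)
    (i : ℕ) (hi : i ≤ s) : Module.Finite A (HHT T (ModuleCat.of A M) i) := by
  obtain ⟨δ, lo, hi', hδ, hbd, hdata⟩ := exists_local_data ω hω
  have hTs := alg_stable I J T hT
  obtain ⟨K, hK, hk⟩ := kills_of_depth ω hω T T hTs hTs s M (fun p q hp hq hpq => by
    by_cases hIp : I ≤ p.asIdeal
    · have hJp : ¬ J ≤ p.asIdeal := fun h => hp (alg_J_subset I J T hT (by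
        rw [PrimeSpectrum.mem_zeroLocus, SetLike.coe_subset_coe]
        exact h))
      have hIq : I ≤ q.asIdeal := hIp.trans hpq
      have hJq := alg_inter I J T hT q hq hIq
      have h := h2 p hIp hJp q hpq hJq hIq
      rw [dimBetween_eq_krullDim_Icc p q hpq] at h
      exact h
    · exact alg_depth_ineq I J T hT δ hδ M s d h3 h4 p q hIp hp hq hpq)
  exact finite_of_annihilated T s M ⟨K, hK⟩ (fun j hj r hr x => hk j hj r hr x) i hi

include hω hT h3 h4 in
/-- a power of `I` kills `H^i_T(M)` under the additional hypothesis (6). -/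
theorem alg_I_kills
    (h6 : ∀ p : PrimeSpectrum A, ¬ I ≤ p.asIdeal → p ∈ T →
      (s : ℕ∞) < LocCoh.depth (Localization.AtPrime p.asIdeal)
        (LocalizedModule p.asIdeal.primeCompl M)) :
    ∃ n : ℕ, ∀ i : ℕ, i ≤ s → ∀ a ∈ I ^ n, ∀ x : HHT T (ModuleCat.of A M) i, a • x = 0 := by
  obtain ⟨δ, lo, hi', hδ, hbd, hdata⟩ := exists_local_data ω hω
  have hTs := alg_stable I J T hT
  have hIs : StableUnderSpecialization (PrimeSpectrum.zeroLocus (I : Set A)) := by
    intro x y hxy h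
    have hle : x ≤ y := (PrimeSpectrum.le_iff_specializes x y).2 hxy
    rw [PrimeSpectrum.mem_zeroLocus, SetLike.coe_subset_coe] at h ⊢
    exact h.trans hle
  obtain ⟨K, hK, hk⟩ := kills_of_depth ω hω T (PrimeSpectrum.zeroLocus (I : Set A)) hTs hIs s M
    (fun p q hp hq hpq => by
      have hpI : ¬ I ≤ p.asIdeal := fun h => hp (by
        rw [PrimeSpectrum.mem_zeroLocus, SetLike.coe_subset_coe]
        exact h)
      by_cases hpT : p ∈ T
      · have h := h6 p hpI hpT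
        obtain ⟨h0, hkd⟩ := krullDim_Icc_eq δ hδ p q hpq
        rw [hkd, show (((δ p - δ q).toNat : ℕ) : WithBot ℕ∞) =
          ((((δ p - δ q).toNat : ℕ) : ℕ∞) : WithBot ℕ∞) from rfl,
          show ((s : ℕ) : WithBot ℕ∞) = (((s : ℕ) : ℕ∞) : WithBot ℕ∞) from rfl,
          ← WithBot.coe_add, WithBot.coe_lt_coe]
        exact enat_arith3 _ s _ h
      · exact alg_depth_ineq I J T hT δ hδ M s d h3 h4 p q hpI hpT hq hpq)
  have hrad : I ≤ K.radical := by
    rw [← PrimeSpectrum.zeroLocus_subset_zeroLocus_iff]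
    exact hK
  obtain ⟨n, hn⟩ := Ideal.exists_pow_le_of_le_radical_of_fg hrad (IsNoetherian.noetherian _)
  exact ⟨n, fun i hi a ha x => hk i hi a (hn ha) x⟩

end core

section conseq

variable (I J : Ideal A) (T : Set (PrimeSpectrum A))
  (hT : ∀ p : PrimeSpectrum A, p ∈ T ↔
    ∀ q : PrimeSpectrum A, p ≤ q → I ≤ q.asIdeal → J ≤ q.asIdeal)
  (M : Type u) [AddCommGroup M] [Module A M] (s : ℕ)

/-- transfer of finiteness along an injective comparison map. -/
theorem finite_H_of_finite_HHT (J₀ : Ideal A)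
    (hJ₀T : PrimeSpectrum.zeroLocus (J₀ : Set A) ⊆ T) (i : ℕ)
    (hinj : Function.Injective (cmp J₀ T hJ₀T (ModuleCat.of A M) i))
    (hfin : Module.Finite A (HHT T (ModuleCat.of A M) i)) :
    Module.Finite A (LocCoh.H J₀ i M) := by
  haveI := hfin
  exact Module.Finite.of_injective
    ((cmp J₀ T hJ₀T (ModuleCat.of A M) i) ∘ₗ (LC.lcEquiv J₀ (ModuleCat.of A M) i).toLinearMap)
    (hinj.comp (LC.lcEquiv J₀ (ModuleCat.of A M) i).injective)

include hT in
theorem alg_conseq_I (J₀ : Ideal A) (hJ₀J : J₀ ≤ J)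
    (hJ₀T : PrimeSpectrum.zeroLocus (J₀ : Set A) ⊆ T)
    (hb₀ : ∀ i : ℕ, i ≤ s → Function.Bijective (cmp J₀ T hJ₀T (ModuleCat.of A M) i))
    (n : ℕ) (hkill : ∀ i : ℕ, i ≤ s → ∀ a ∈ I ^ n,
      ∀ x : HHT T (ModuleCat.of A M) i, a • x = 0) :
    (∀ i : ℕ, i ≤ s →
      Function.Bijective ((Dual2.HmapOfLE hJ₀J i).app (ModuleCat.of A M)).hom ∧
      Function.Bijective
        ((Dual2.HmapOfLE (le_sup_left : J ≤ J ⊔ I) i).app (ModuleCat.of A M)).hom) ∧
    (∀ a ∈ I ^ n, ∀ i : ℕ, i ≤ s → ∀ x : LocCoh.H J i M, a • x = 0) := by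
  have hJT := alg_J_subset I J T hT
  have hJIT : PrimeSpectrum.zeroLocus ((J ⊔ I : Ideal A) : Set A) ⊆ T :=
    (PrimeSpectrum.zeroLocus_anti_mono (SetLike.coe_subset_coe.2 le_sup_left)).trans hJT
  have hbJ : ∀ i : ℕ, i ≤ s → Function.Bijective (cmp J T hJT (ModuleCat.of A M) i) :=
    fun i hi => cmp_bijective_of_kills T J hJT (I ^ n)
      (alg_locus_pow I J T hT J n Set.inter_subset_left) M s hkill i hi
  have hbJI : ∀ i : ℕ, i ≤ s →
      Function.Bijective (cmp (J ⊔ I) T hJIT (ModuleCat.of A M) i) :=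
    fun i hi => cmp_bijective_of_kills T (J ⊔ I) hJIT (I ^ n)
      (alg_locus_pow I J T hT (J ⊔ I) n (by
        rintro q ⟨hq1, hq2⟩
        rw [PrimeSpectrum.mem_zeroLocus, SetLike.coe_subset_coe] at hq1 hq2 ⊢
        exact sup_le hq1 hq2)) M s hkill i hi
  refine ⟨fun i hi => ⟨?_, ?_⟩, ?_⟩
  · exact HmapOfLE_bijective_of_res hJ₀J (ModuleCat.of A M) i
      (res_bijective T hJ₀J hJT hJ₀T (ModuleCat.of A M) i (hbJ i hi) (hb₀ i hi))
  · exact HmapOfLE_bijective_of_res le_sup_left (ModuleCat.of A M) i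
      (res_bijective T le_sup_left hJIT hJT (ModuleCat.of A M) i (hbJI i hi) (hbJ i hi))
  · intro a ha i hi x
    exact kills_H_of_kills_HHT T J hJT M i (hbJ i hi).1 a (fun y => hkill i hi a ha y) x

end conseq

end Groth.Agent.Lib.Helper20.FaltLoc
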