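import Mathlib
import Groth.Agent.Lib.Helper20.FaltSigma

/-!
# The comparison `H^i_{pR_p}(N) → H^i_T(N|_R)` is bijective; transfer of images and injectivity
-/

set_option autoImplicit false
set_option linter.style.haveILetI false
set_option linter.unusedSectionVars false
set_option linter.unusedVariables false
set_option maxHeartbeats 400000

open CategoryTheory Limits Opposite Abelian

universe u

namespace Groth.Agent.Lib.Helper20.Falt

open Groth.Agent.Lib.Helper20.HTModel Groth.Agent.Lib.Helper20.LCDelta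
  Groth.Agent.Lib.Helper20.LCDeltaHH Groth.Agent.Lib.Helper4

variable {R : Type u} [CommRing R] (p : PrimeSpectrum R)
  (T : Set (PrimeSpectrum R)) (hT : StableUnderSpecialization T) (hp : p ∈ T)

lemma σ_add (n : ℕ) (N : ModuleCat.{u} (Rp p)) (i : ℕ) (y y' : Ext.{u} (LC.Q (mP p) n) N i) :
    σ p T hT hp n N i (y + y') = σ p T hT hp n N i y + σ p T hT hp n N i y' := by
  unfold σ
  rw [Ext.mapExactFunctor_add, Ext.comp_add]

lemma σ_neg (n : ℕ) (N : ModuleCat.{u} (Rp p)) (i : ℕ) (y : Ext.{u} (LC.Q (mP p) n) N i) :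
    σ p T hT hp n N i (-y) = -σ p T hT hp n N i y := by
  have h := σ_add p T hT hp n N i y (-y)
  rw [add_neg_cancel, σ_zero] at h
  exact (neg_eq_of_add_eq_zero_right h.symm).symm

lemma σ_sub (n : ℕ) (N : ModuleCat.{u} (Rp p)) (i : ℕ) (y y' : Ext.{u} (LC.Q (mP p) n) N i) :
    σ p T hT hp n N i (y - y') = σ p T hT hp n N i y - σ p T hT hp n N i y' := by
  rw [sub_eq_add_neg, σ_add, σ_neg, ← sub_eq_add_neg]

/-- `σ` is well defined on the colimit. -/
lemma σ_wd {n n' : ℕ} (N : ModuleCat.{u} (Rp p)) (i : ℕ) (y : Ext.{u} (LC.Q (mP p) n) N i)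
    (y' : Ext.{u} (LC.Q (mP p) n') N i)
    (h : LC.HH.of (mP p) N i n y = LC.HH.of (mP p) N i n' y') :
    HHT.of T ((rs p).obj N) i (idxN p T hT hp n) (σ p T hT hp n N i y) =
      HHT.of T ((rs p).obj N) i (idxN p T hT hp n') (σ p T hT hp n' N i y') := by
  set m := max n n' with hm
  have hnm : n ≤ m := le_max_left _ _
  have hn'm : n' ≤ m := le_max_right _ _
  have h1 : LC.HH.of (mP p) N i m (LC.tr (mP p) N i hnm y - LC.tr (mP p) N i hn'm y') = 0 := by
    rw [map_sub, LC.HH.of_tr, LC.HH.of_tr, h, sub_self]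
  have h2 := σ_of_eq_zero p T hT hp m N i _ h1
  rw [σ_sub, map_sub, σ_tr, σ_tr, HHT.of_tr, HHT.of_tr, sub_eq_zero] at h2
  exact h2

section inj

variable [IsNoetherianRing R] (hmin : ∀ q ∈ T, q ≤ p → q = p)

include hmin in
/-- the comparison is injective. -/
theorem σ_inj : ∀ (i : ℕ) (N : ModuleCat.{u} (Rp p)) (n : ℕ) (y : Ext.{u} (LC.Q (mP p) n) N i),
    HHT.of T ((rs p).obj N) i (idxN p T hT hp n) (σ p T hT hp n N i y) = 0 →
      LC.HH.of (mP p) N i n y = 0 := by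
  haveI : IsNoetherianRing (Rp p) :=
    IsLocalization.isNoetherianRing p.asIdeal.primeCompl (Rp p) inferInstance
  intro i
  induction i with
  | zero =>
    intro N n y h
    obtain ⟨φ', rfl⟩ := (Ext.mk₀_bijective (LC.Q (mP p) n) N).2 y
    have h1 : HHT0 T ((rs p).obj N)
        (HHT.of T ((rs p).obj N) 0 (idxN p T hT hp n) (σ p T hT hp n N 0 (Ext.mk₀ φ'))) = 0 := by
      rw [h, map_zero]
    unfold σ at h1
    rw [Ext.mapExactFunctor_mk₀, Ext.mk₀_comp_mk₀, HHT0_of, ev0_mk₀] at h1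
    have h2 : φ'.hom (Submodule.Quotient.mk (1 : Rp p)) = 0 := by
      have : φ'.hom ((θ p T hT hp n).hom (Submodule.Quotient.mk (1 : R))) = 0 := h1
      rw [θ_apply, map_one] at this
      exact this
    apply LC.HH0_injective (mP p) N
    rw [LC.HH0_of, LC.ev0_mk₀, map_zero]
    exact h2
  | succ i ih =>
    intro N n y h
    have hS := ses_shortExact N
    have hE := ses_injective N
    have hS' : ((ses N).map (rs p)).ShortExact := hS.map_of_exact (rs p)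
    -- write the class as a boundary
    have hvan' : Subsingleton (LC.HH (mP p) (ses N).X₂ (i + 1)) := by
      have := hE
      exact LC.HH.subsingleton_of_injective (mP p) (ses N).X₂ i
    obtain ⟨z₃, hz₃⟩ := LC.HH.exact₁ (mP p) hS i (LC.HH.of (mP p) N (i + 1) n y)
      (Subsingleton.elim _ _)
    obtain ⟨n₃, y₃, rfl⟩ := LC.HH.exists_of (mP p) (ses N).X₃ i z₃
    rw [LC.HH.δ_of] at hz₃
    -- transport
    have h1 := σ_wd p T hT hp (ses N).X₁ (i + 1) (y₃.comp hS.extClass rfl) y hz₃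
    have h2 : σ p T hT hp n₃ (ses N).X₁ (i + 1) (y₃.comp hS.extClass rfl) =
        (σ p T hT hp n₃ (ses N).X₃ i y₃).comp (hS.extClass.mapExactFunctor (rs p)) rfl :=
      σ_comp p T hT hp n₃ y₃ hS.extClass rfl
    rw [Ext.mapExactFunctor_extClass] at h2
    have h3 : HHT.δ T hS' i (HHT.of T ((ses N).map (rs p)).X₃ i (idxN p T hT hp n₃)
        (σ p T hT hp n₃ (ses N).X₃ i y₃)) = 0 := by
      refine (HHT.δ_of T hS' i _ _).trans ?_
      exact (congrArg (HHT.of T ((rs p).obj (ses N).X₁) (i + 1) (idxN p T hT hp n₃))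
        h2.symm).trans (h1.trans h)
    obtain ⟨w, hw⟩ := HHT.exact₃ T hS' i _ h3
    obtain ⟨n₄, y₄, rfl⟩ := σ_surj p T hT hp hmin i (ses N).X₂ w
    have h4 : HHT.map T ((rs p).map (ses N).g) i
        (HHT.of T ((rs p).obj (ses N).X₂) i (idxN p T hT hp n₄)
          (σ p T hT hp n₄ (ses N).X₂ i y₄)) =
        HHT.of T ((rs p).obj (ses N).X₃) i (idxN p T hT hp n₄)
          (σ p T hT hp n₄ (ses N).X₃ i (y₄.comp (Ext.mk₀ (ses N).g) (add_zero i))) := by
      rw [HHT.map_of, ← σ_post]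
    have hw' : HHT.of T ((rs p).obj (ses N).X₃) i (idxN p T hT hp n₄)
          (σ p T hT hp n₄ (ses N).X₃ i (y₄.comp (Ext.mk₀ (ses N).g) (add_zero i))) =
        HHT.of T ((rs p).obj (ses N).X₃) i (idxN p T hT hp n₃)
          (σ p T hT hp n₃ (ses N).X₃ i y₃) := h4.symm.trans hw
    -- common stage
    set m := max n₃ n₄ with hm
    have h3m : n₃ ≤ m := le_max_left _ _
    have h4m : n₄ ≤ m := le_max_right _ _
    have h5 : HHT.of T ((rs p).obj (ses N).X₃) i (idxN p T hT hp m)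
        (σ p T hT hp m (ses N).X₃ i
          (LC.tr (mP p) (ses N).X₃ i h3m y₃ -
            LC.tr (mP p) (ses N).X₃ i h4m
              (y₄.comp (Ext.mk₀ (ses N).g) (add_zero i)))) = 0 := by
      rw [σ_sub, map_sub, σ_tr, σ_tr, HHT.of_tr, HHT.of_tr, hw', sub_self]
    have h6 := ih (ses N).X₃ m _ h5
    rw [map_sub, LC.HH.of_tr, LC.HH.of_tr, sub_eq_zero] at h6
    -- conclude
    rw [← hz₃, ← LC.HH.δ_of, h6, ← LC.HH.map_of, LC.HH.δ_map_g]
    rfl

include hT hp hmin in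
/-- transfer of an inclusion of images. -/
theorem transfer_range {N₁ N₂ N : ModuleCat.{u} (Rp p)} (g₁ : N₁ ⟶ N) (g₂ : N₂ ⟶ N) (i : ℕ)
    (h : ∀ z₁ : LC.HH (mP p) N₁ i, ∃ z₂ : LC.HH (mP p) N₂ i,
      LC.HH.map (mP p) g₂ i z₂ = LC.HH.map (mP p) g₁ i z₁)
    (x₁ : HHT T ((rs p).obj N₁) i) :
    ∃ x₂ : HHT T ((rs p).obj N₂) i,
      HHT.map T ((rs p).map g₂) i x₂ = HHT.map T ((rs p).map g₁) i x₁ := by
  obtain ⟨n, y, rfl⟩ := σ_surj p T hT hp hmin i N₁ x₁
  obtain ⟨z₂, hz₂⟩ := h (LC.HH.of (mP p) N₁ i n y)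
  obtain ⟨n₂, y₂, rfl⟩ := LC.HH.exists_of (mP p) N₂ i z₂
  rw [LC.HH.map_of, LC.HH.map_of] at hz₂
  refine ⟨HHT.of T ((rs p).obj N₂) i (idxN p T hT hp n₂) (σ p T hT hp n₂ N₂ i y₂), ?_⟩
  rw [HHT.map_of, HHT.map_of, ← σ_post, ← σ_post]
  exact σ_wd p T hT hp N i _ _ hz₂

include hT hp hmin in
/-- transfer of injectivity on an image. -/
theorem transfer_inj {N₁ N N₀ : ModuleCat.{u} (Rp p)} (g₁ : N₁ ⟶ N) (g₀ : N ⟶ N₀) (i : ℕ)
    (h : ∀ z₁ : LC.HH (mP p) N₁ i,
      LC.HH.map (mP p) g₀ i (LC.HH.map (mP p) g₁ i z₁) = 0 → LC.HH.map (mP p) g₁ i z₁ = 0)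
    (x₁ : HHT T ((rs p).obj N₁) i)
    (hx : HHT.map T ((rs p).map g₀) i (HHT.map T ((rs p).map g₁) i x₁) = 0) :
    HHT.map T ((rs p).map g₁) i x₁ = 0 := by
  obtain ⟨n, y, rfl⟩ := σ_surj p T hT hp hmin i N₁ x₁
  rw [HHT.map_of, ← σ_post] at hx ⊢
  rw [HHT.map_of, ← σ_post] at hx
  have h1 := σ_inj p T hT hp hmin i N₀ n _ hx
  rw [← LC.HH.map_of, ← LC.HH.map_of] at h1
  have h2 := h _ h1
  rw [LC.HH.map_of] at h2
  exact σ_of_eq_zero p T hT hp n N i _ h2

end inj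

end Groth.Agent.Lib.Helper20.Falt
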