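import Mathlib
import Groth.Agent.Lib.Helper20.LCDelta

/-!
# Finitely supported products of δ-functors, and a vanishing lemma for kernels of `T₁ → T₂`
-/

set_option autoImplicit false
set_option linter.style.haveILetI false
set_option linter.unusedSectionVars false
set_option linter.unusedVariables false
set_option maxHeartbeats 400000

open CategoryTheory Limits

universe u

namespace Groth.Agent.Lib.Helper20.LCDelta

variable {R : Type u} [CommRing R]

/-- functoriality and naturality of the connecting maps of a `DF`. -/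
structure DFNat (T : DF R) : Prop where
  map_comp : ∀ {M N P : ModuleCat.{u} R} (f : M ⟶ N) (g : N ⟶ P) (i : ℕ) (x : T.T M i),
    T.map (f ≫ g) i x = T.map g i (T.map f i x)
  δ_nat : ∀ {S₁ S₂ : ShortComplex (ModuleCat.{u} R)} (h₁ : S₁.ShortExact) (h₂ : S₂.ShortExact)
    (Φ : S₁ ⟶ S₂) (i : ℕ) (x : T.T S₁.X₃ i),
    T.δ h₂ i (T.map Φ.τ₃ i x) = T.map Φ.τ₁ (i + 1) (T.δ h₁ i x)

/-! ### finitely supported families -/

section fin

variable {ι : Type u} (A : ι → Type u) [∀ k, AddCommGroup (A k)] [∀ k, Module R (A k)]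

/-- the submodule of finitely supported families. -/
def finSupp : Submodule R (∀ k, A k) where
  carrier := {f | {k | f k ≠ 0}.Finite}
  add_mem' := by
    intro f g hf hg
    refine (hf.union hg).subset ?_
    intro k hk
    by_contra hcon
    rw [Set.mem_union, not_or] at hcon
    apply hk
    have h1 : f k = 0 := not_not.1 hcon.1
    have h2 : g k = 0 := not_not.1 hcon.2
    change f k + g k = 0
    rw [h1, h2, add_zero]
  zero_mem' := by
    have : {k | (0 : ∀ k, A k) k ≠ 0} = ∅ := by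
      ext k
      simp
    change {k | (0 : ∀ k, A k) k ≠ 0}.Finite
    rw [this]
    exact Set.finite_empty
  smul_mem' := by
    intro r f hf
    refine Set.Finite.subset hf ?_
    intro k hk h0
    apply hk
    change r • f k = 0
    rw [h0, smul_zero]

lemma finSupp_finite (x : finSupp (R := R) A) : {k | x.1 k ≠ 0}.Finite := x.2

variable {A} {B : ι → Type u} [∀ k, AddCommGroup (B k)] [∀ k, Module R (B k)]

/-- the componentwise map. -/
def finMap (f : ∀ k, A k →ₗ[R] B k) : finSupp (R := R) A →ₗ[R] finSupp (R := R) B :=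
  LinearMap.codRestrict _ ((LinearMap.pi (fun k => f k ∘ₗ LinearMap.proj k)) ∘ₗ
    (finSupp (R := R) A).subtype) (by
    intro x
    refine Set.Finite.subset (finSupp_finite A x) ?_
    intro k hk h0
    apply hk
    change f k (x.1 k) = 0
    rw [h0, map_zero])

lemma finMap_apply (f : ∀ k, A k →ₗ[R] B k) (x : finSupp (R := R) A) (k : ι) :
    (finMap f x).1 k = f k (x.1 k) := rfl

lemma finSupp_ext {x y : finSupp (R := R) A} (h : ∀ k, x.1 k = y.1 k) : x = y :=
  Subtype.ext (funext h)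

/-- componentwise preimages assemble. -/
lemma finMap_exists_preimage (f : ∀ k, A k →ₗ[R] B k) (x : finSupp (R := R) B)
    (h : ∀ k, ∃ a, f k a = x.1 k) : ∃ y : finSupp (R := R) A, finMap f y = x := by
  classical
  choose a ha using h
  refine ⟨⟨fun k => if x.1 k = 0 then 0 else a k, ?_⟩, ?_⟩
  · refine Set.Finite.subset (finSupp_finite B x) ?_
    intro k hk h0
    apply hk
    change (if x.1 k = 0 then 0 else a k) = 0
    rw [if_pos h0]
  · apply finSupp_ext
    intro k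
    rw [finMap_apply]
    change f k (if x.1 k = 0 then 0 else a k) = x.1 k
    by_cases h0 : x.1 k = 0
    · rw [if_pos h0, map_zero, h0]
    · rw [if_neg h0, ha k]

end fin

/-! ### the finitely supported product of a family of `DF`s -/

section dsum

variable {ι : Type u} (D : ι → DF R)

/-- the finitely supported product. -/
noncomputable def DF.dsum : DF R where
  T M i := ModuleCat.of R (finSupp (R := R) (fun k => (D k).T M i))
  map g i := finMap (fun k => (D k).map g i)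
  δ hS i := finMap (fun k => (D k).δ hS i)
  map_f_injective hS := by
    intro x y hxy
    apply finSupp_ext
    intro k
    apply (D k).map_f_injective hS
    have := congrArg (fun z : finSupp (R := R) _ => z.1 k) hxy
    exact this
  map_g_map_f hS i x := by
    apply finSupp_ext
    intro k
    exact (D k).map_g_map_f hS i (x.1 k)
  exact₂ hS i x hx := by
    apply finMap_exists_preimage
    intro k
    apply (D k).exact₂ hS i
    have := congrArg (fun z : finSupp (R := R) _ => z.1 k) hx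
    exact this
  δ_map_g hS i x := by
    apply finSupp_ext
    intro k
    exact (D k).δ_map_g hS i (x.1 k)
  exact₃ hS i x hx := by
    apply finMap_exists_preimage
    intro k
    apply (D k).exact₃ hS i
    have := congrArg (fun z : finSupp (R := R) _ => z.1 k) hx
    exact this
  map_f_δ hS i x := by
    apply finSupp_ext
    intro k
    exact (D k).map_f_δ hS i (x.1 k)
  exact₁ hS i x hx := by
    apply finMap_exists_preimage
    intro k
    apply (D k).exact₁ hS i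
    have := congrArg (fun z : finSupp (R := R) _ => z.1 k) hx
    exact this
  vanish E hE i := by
    refine ⟨fun x y => ?_⟩
    apply finSupp_ext
    intro k
    have := (D k).vanish E hE i
    exact Subsingleton.elim _ _

lemma DF.dsum_map_apply {M N : ModuleCat.{u} R} (g : M ⟶ N) (i : ℕ)
    (x : (DF.dsum D).T M i) (k : ι) :
    ((DF.dsum D).map g i x).1 k = (D k).map g i (x.1 k) := rfl

lemma DF.dsum_δ_apply {S : ShortComplex (ModuleCat.{u} R)} (hS : S.ShortExact) (i : ℕ)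
    (x : (DF.dsum D).T S.X₃ i) (k : ι) :
    ((DF.dsum D).δ hS i x).1 k = (D k).δ hS i (x.1 k) := rfl

lemma DFNat.dsum (h : ∀ k, DFNat (D k)) : DFNat (DF.dsum D) where
  map_comp f g i x := by
    apply finSupp_ext
    intro k
    exact (h k).map_comp f g i (x.1 k)
  δ_nat h₁ h₂ Φ i x := by
    apply finSupp_ext
    intro k
    exact (h k).δ_nat h₁ h₂ Φ i (x.1 k)

/-- a family of morphisms with pointwise finite support assembles. -/
noncomputable def DFHom.toDsum {T₂ : DF R} (β : ∀ k, DFHom T₂ (D k))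
    (hfin : ∀ (M : ModuleCat.{u} R) (i : ℕ) (x : T₂.T M i),
      {k | (β k).app M i x ≠ 0}.Finite) : DFHom T₂ (DF.dsum D) where
  app M i := LinearMap.codRestrict (finSupp (R := R) (fun k => (D k).T M i))
    (LinearMap.pi (fun k => (β k).app M i)) (hfin M i)
  naturality g i x := by
    apply finSupp_ext
    intro k
    exact (β k).naturality g i x
  comm_δ hS i x := by
    apply finSupp_ext
    intro k
    exact (β k).comm_δ hS i x

lemma DFHom.toDsum_app {T₂ : DF R} (β : ∀ k, DFHom T₂ (D k))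
    (hfin : ∀ (M : ModuleCat.{u} R) (i : ℕ) (x : T₂.T M i),
      {k | (β k).app M i x ≠ 0}.Finite)
    (M : ModuleCat.{u} R) (i : ℕ) (x : T₂.T M i) (k : ι) :
    ((DFHom.toDsum D β hfin).app M i x).1 k = (β k).app M i x := rfl

end dsum

/-! ### the vanishing lemma -/

section zabs

variable (T₁ T₂ T₃ : DF R) (α : DFHom T₁ T₂) (β : DFHom T₂ T₃)
  (hzero : ∀ (M : ModuleCat.{u} R) (i : ℕ) (x : T₁.T M i), β.app M i (α.app M i x) = 0)
  (hinj0 : ∀ M : ModuleCat.{u} R, Function.Injective (α.app M 0))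
  (hex0 : ∀ (M : ModuleCat.{u} R) (x : T₂.T M 0), β.app M 0 x = 0 → ∃ y, α.app M 0 y = x)
  (hsurj : ∀ E : ModuleCat.{u} R, Injective E → Function.Surjective (β.app E 0))
  (n₁ : DFNat T₁) (n₂ : DFNat T₂) (n₃ : DFNat T₃)

/-- the middle component of `sesMap`. -/
noncomputable def sesτ₂ {M M' : ModuleCat.{u} R} (φ : M ⟶ M') :
    Injective.under M ⟶ Injective.under M' :=
  Injective.factorThru (φ ≫ Injective.ι M') (Injective.ι M)

lemma sesτ₂_comm {M M' : ModuleCat.{u} R} (φ : M ⟶ M') :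
    Injective.ι M ≫ sesτ₂ φ = φ ≫ Injective.ι M' :=
  Injective.comp_factorThru _ _

/-- the third component of `sesMap`. -/
noncomputable def sesτ₃ {M M' : ModuleCat.{u} R} (φ : M ⟶ M') :
    cokernel (Injective.ι M) ⟶ cokernel (Injective.ι M') :=
  cokernel.desc (Injective.ι M) (sesτ₂ φ ≫ cokernel.π (Injective.ι M')) (by
    rw [← Category.assoc, sesτ₂_comm, Category.assoc, cokernel.condition, comp_zero])

lemma sesτ₃_comm {M M' : ModuleCat.{u} R} (φ : M ⟶ M') :
    cokernel.π (Injective.ι M) ≫ sesτ₃ φ = sesτ₂ φ ≫ cokernel.π (Injective.ι M') :=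
  cokernel.π_desc _ _ _

/-- a morphism between the standard injective embeddings extending `φ`. -/
noncomputable def sesMap {M M' : ModuleCat.{u} R} (φ : M ⟶ M') : ses M ⟶ ses M' where
  τ₁ := φ
  τ₂ := sesτ₂ φ
  τ₃ := sesτ₃ φ
  comm₁₂ := (sesτ₂_comm φ).symm
  comm₂₃ := (sesτ₃_comm φ).symm

include hzero hinj0 hex0 n₁ n₂ n₃ in
lemma zabs_step_zero {S S' : ShortComplex (ModuleCat.{u} R)} (hS : S.ShortExact)
    (hS' : S'.ShortExact) (hE : Injective S.X₂) (Φ : S ⟶ S')
    (hφ : ∀ t : T₃.T S.X₁ 0, ∃ u : T₂.T S'.X₁ 0, T₃.map Φ.τ₁ 0 t = β.app S'.X₁ 0 u)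
    (b : T₁.T S.X₁ (0 + 1)) (hb : α.app S.X₁ (0 + 1) b = 0) : T₁.map Φ.τ₁ (0 + 1) b = 0 := by
  have c12 : S.f ≫ Φ.τ₂ = Φ.τ₁ ≫ S'.f := Φ.comm₁₂.symm
  have c23 : S.g ≫ Φ.τ₃ = Φ.τ₂ ≫ S'.g := Φ.comm₂₃.symm
  obtain ⟨c, rfl⟩ := T₁.δ_surjective hS hE 0 b
  have h2 : T₂.δ hS 0 (α.app _ 0 c) = 0 := by rw [← α.comm_δ, hb]
  obtain ⟨e, he⟩ := T₂.exact₃ hS 0 _ h2
  have h3 : T₃.map S.g 0 (β.app _ 0 e) = 0 := by
    rw [← β.naturality, he, hzero]
  obtain ⟨t, ht⟩ := T₃.exact₂ hS 0 _ h3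
  obtain ⟨u, hu⟩ := hφ t
  have h5 : β.app _ 0 (T₂.map Φ.τ₂ 0 e - T₂.map S'.f 0 u) = 0 := by
    rw [map_sub, β.naturality, β.naturality, ← ht, ← n₃.map_comp, c12, n₃.map_comp, hu,
      sub_self]
  obtain ⟨e₁, he₁⟩ := hex0 _ _ h5
  have h6 : α.app _ 0 (T₁.map Φ.τ₃ 0 c) = α.app _ 0 (T₁.map S'.g 0 e₁) := by
    rw [α.naturality, α.naturality, ← he, ← n₂.map_comp, c23, n₂.map_comp, he₁, map_sub,
      T₂.map_g_map_f hS', sub_zero]
  have h7 : T₁.map Φ.τ₃ 0 c = T₁.map S'.g 0 e₁ := hinj0 _ h6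
  rw [← n₁.δ_nat hS hS' Φ 0 c, h7, T₁.δ_map_g hS']

include hsurj n₁ n₃ in
lemma zabs_step_succ {S S' : ShortComplex (ModuleCat.{u} R)} (hS : S.ShortExact)
    (hS' : S'.ShortExact) (hE : Injective S.X₂) (hE' : Injective S'.X₂) (Φ : S ⟶ S') (i : ℕ)
    (ih : (∀ t : T₃.T S.X₃ i, ∃ u : T₂.T S'.X₃ i, T₃.map Φ.τ₃ i t = β.app S'.X₃ i u) →
      ∀ c : T₁.T S.X₃ (i + 1), α.app S.X₃ (i + 1) c = 0 → T₁.map Φ.τ₃ (i + 1) c = 0)
    (hφ : ∀ t : T₃.T S.X₁ (i + 1), ∃ u : T₂.T S'.X₁ (i + 1),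
      T₃.map Φ.τ₁ (i + 1) t = β.app S'.X₁ (i + 1) u)
    (b : T₁.T S.X₁ (i + 1 + 1)) (hb : α.app S.X₁ (i + 1 + 1) b = 0) :
    T₁.map Φ.τ₁ (i + 1 + 1) b = 0 := by
  obtain ⟨c, rfl⟩ := T₁.δ_surjective hS hE (i + 1) b
  have h2 : T₂.δ hS (i + 1) (α.app _ (i + 1) c) = 0 := by rw [← α.comm_δ, hb]
  have h2' : α.app _ (i + 1) c = 0 :=
    T₂.δ_injective_succ hS hE i (h2.trans (map_zero _).symm)
  have hχ : ∀ t : T₃.T S.X₃ i, ∃ u : T₂.T S'.X₃ i, T₃.map Φ.τ₃ i t = β.app _ i u := by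
    intro t
    have e1 := n₃.δ_nat hS hS' Φ i t
    obtain ⟨u, hu⟩ := hφ (T₃.δ hS i t)
    obtain ⟨u₀, hu₀⟩ := T₂.δ_surjective hS' hE' i u
    have e2 : T₃.δ hS' i (T₃.map Φ.τ₃ i t - β.app _ i u₀) = 0 := by
      rw [map_sub, e1, hu, ← hu₀, β.comm_δ, sub_self]
    obtain ⟨e₃, he₃⟩ := T₃.exact₃ hS' i _ e2
    obtain ⟨e₂, he₂⟩ := surj_inj T₂ T₃ β hsurj S'.X₂ hE' i e₃
    refine ⟨u₀ + T₂.map S'.g i e₂, ?_⟩
    rw [map_add, β.naturality, he₂, he₃]
    abel
  have h3 : T₁.map Φ.τ₃ (i + 1) c = 0 := ih hχ c h2'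
  rw [← n₁.δ_nat hS hS' Φ (i + 1) c, h3, map_zero]

include hzero hinj0 hex0 hsurj n₁ n₂ n₃ in
/-- if `T₃ⁱ(φ)` lands in the image of `β`, then `T₁ⁱ⁺¹(φ)` kills `ker α`. -/
theorem zabs : ∀ (i : ℕ) {M M' : ModuleCat.{u} R} (φ : M ⟶ M')
    (hφ : ∀ t : T₃.T M i, ∃ u : T₂.T M' i, T₃.map φ i t = β.app M' i u)
    (b : T₁.T M (i + 1)), α.app M (i + 1) b = 0 → T₁.map φ (i + 1) b = 0 := by
  intro i
  induction i with
  | zero =>
    intro M M' φ hφ b hb
    exact zabs_step_zero T₁ T₂ T₃ α β hzero hinj0 hex0 n₁ n₂ n₃ (ses_shortExact M)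
      (ses_shortExact M') (ses_injective M) (sesMap φ) hφ b hb
  | succ i ih =>
    intro M M' φ hφ b hb
    exact zabs_step_succ T₁ T₂ T₃ α β hsurj n₁ n₃ (ses_shortExact M)
      (ses_shortExact M') (ses_injective M) (ses_injective M') (sesMap φ) i
      (fun h c hc => ih (sesMap φ).τ₃ h c hc) hφ b hb

end zabs

end Groth.Agent.Lib.Helper20.LCDelta
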