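import Mathlib
import Groth.Agent.Lib.Helper20.FaltSum
import Groth.Agent.Lib.Helper20.FaltSigma2
import Groth.Agent.Lib.Helper20.FaltVanish

/-!
# The sum over the minimal points of `T` of the localized δ-functors, and killing of `ker(H_{T'} → H_T)`
-/

set_option autoImplicit false
set_option linter.style.haveILetI false
set_option linter.unusedSectionVars false
set_option linter.unusedVariables false
set_option maxHeartbeats 400000

open CategoryTheory Limits Opposite Abelian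

universe u

namespace Groth.Agent.Lib.Helper20.Falt

open Groth.Agent.Lib.Helper20.HTModel Groth.Agent.Lib.Helper20.LCDelta
  Groth.Agent.Lib.Helper20.LCDeltaHH Groth.Agent.Lib.Helper4

variable {R : Type u} [CommRing R]

lemma dfHT_nat (T : Set (PrimeSpectrum R)) : DFNat (dfHT T) where
  map_comp f g i x := HHT.map_comp T f g i x
  δ_nat h₁ h₂ Φ i x := HHT_δ_naturality T h₁ h₂ Φ i x

/-- the localized morphism of short complexes. -/
noncomputable def locSCmap (S : Submonoid R) {S₁ S₂ : ShortComplex (ModuleCat.{u} R)}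
    (Φ : S₁ ⟶ S₂) : locSC S S₁ ⟶ locSC S S₂ where
  τ₁ := Loc.map S Φ.τ₁
  τ₂ := Loc.map S Φ.τ₂
  τ₃ := Loc.map S Φ.τ₃
  comm₁₂ := by
    change Loc.map S Φ.τ₁ ≫ Loc.map S S₂.f = Loc.map S S₁.f ≫ Loc.map S Φ.τ₂
    rw [← Loc.map_comp, ← Loc.map_comp, Φ.comm₁₂]
  comm₂₃ := by
    change Loc.map S Φ.τ₂ ≫ Loc.map S S₂.g = Loc.map S S₁.g ≫ Loc.map S Φ.τ₃
    rw [← Loc.map_comp, ← Loc.map_comp, Φ.comm₂₃]

lemma dfHTLoc_nat [IsNoetherianRing R] (S : Submonoid R) (T : Set (PrimeSpectrum R)) :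
    DFNat (dfHTLoc S T) where
  map_comp f g i x := by
    change HHT.map T (Loc.map S (f ≫ g)) i x =
      HHT.map T (Loc.map S g) i (HHT.map T (Loc.map S f) i x)
    rw [Loc.map_comp, HHT.map_comp]
  δ_nat h₁ h₂ Φ i x :=
    HHT_δ_naturality T (locSC_shortExact S h₁) (locSC_shortExact S h₂) (locSCmap S Φ) i x

lemma HHT.map_hom_inv (T : Set (PrimeSpectrum R)) {A B : ModuleCat.{u} R} (e : A ≅ B) (i : ℕ)
    (y : HHT T B i) : HHT.map T e.hom i (HHT.map T e.inv i y) = y := by
  rw [← HHT.map_comp, Iso.inv_hom_id, HHT.map_id]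

lemma HHT.map_inv_hom (T : Set (PrimeSpectrum R)) {A B : ModuleCat.{u} R} (e : A ≅ B) (i : ℕ)
    (y : HHT T A i) : HHT.map T e.inv i (HHT.map T e.hom i y) = y := by
  rw [← HHT.map_comp, Iso.hom_inv_id, HHT.map_id]

lemma loc_ι_map (T : Set (PrimeSpectrum R)) (S : Submonoid R) {M N : ModuleCat.{u} R}
    (g : M ⟶ N) (i : ℕ) (x : HHT T M i) :
    HHT.map T (Loc.map S g) i (HHT.map T (Loc.ι S M) i x) =
      HHT.map T (Loc.ι S N) i (HHT.map T g i x) := by
  rw [← HHT.map_comp, ← HHT.map_comp, Loc.ι_naturality]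

/-- localizing at a point outside `T₀` kills `H_{T₀}`. -/
lemma subsingleton_HHT_loc_of_not_mem [IsNoetherianRing R] (T₀ : Set (PrimeSpectrum R))
    (p : PrimeSpectrum R)
    (hp : p ∉ T₀) (M : ModuleCat.{u} R) (i : ℕ) :
    Subsingleton (HHT T₀ (Loc p.asIdeal.primeCompl M) i) := by
  apply subsingleton_HHT_of_bijective
  intro a
  have hnot : ¬ a.J ≤ p.asIdeal := by
    intro hle
    have hpV : p ∈ PrimeSpectrum.zeroLocus (a.J : Set R) := by
      rw [PrimeSpectrum.mem_zeroLocus]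
      exact hle
    exact hp (a.hJ hpV)
  obtain ⟨f, hfJ, hfp⟩ := SetLike.not_le_iff_exists.1 hnot
  exact ⟨f, hfJ, smul_bijective_localizedModule _ _ f hfp⟩

lemma loc_extSupp_eq_zero [IsNoetherianRing R] {T₀ T : Set (PrimeSpectrum R)} (h : T₀ ⊆ T)
    (p : PrimeSpectrum R)
    (hp : p ∉ T₀) (M : ModuleCat.{u} R) (i : ℕ) (x : HHT T₀ M i) :
    HHT.map T (Loc.ι p.asIdeal.primeCompl M) i (extSupp h M i x) = 0 := by
  rw [← extSupp_map]
  have := subsingleton_HHT_loc_of_not_mem T₀ p hp M i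
  rw [Subsingleton.elim (HHT.map T₀ (Loc.ι p.asIdeal.primeCompl M) i x) 0, map_zero]

section minpt

variable [IsNoetherianRing R] (T : Set (PrimeSpectrum R))

/-- the minimal points of `T`. -/
abbrev MinPt : Type u := {p : PrimeSpectrum R // p ∈ T ∧ ∀ q ∈ T, q ≤ p → q = p}

lemma minPt_not_mem_nonMin (p : MinPt T) : p.1 ∉ nonMin T := by
  rintro ⟨_, q', hq'T, hq'lt⟩
  have := p.2.2 q' hq'T hq'lt.le
  exact absurd this (ne_of_lt hq'lt)

lemma finite_minPt_zeroLocus (a : Idx T) :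
    {p : MinPt T | p.1 ∈ PrimeSpectrum.zeroLocus (a.J : Set R)}.Finite := by
  have hfin := Ideal.finite_minimalPrimes_of_isNoetherianRing R a.J
  have hinj : Set.InjOn (fun p : MinPt T => p.1.asIdeal)
      ((fun p : MinPt T => p.1.asIdeal) ⁻¹' a.J.minimalPrimes) := by
    intro p _ q _ hpq
    exact Subtype.ext (PrimeSpectrum.ext hpq)
  refine (hfin.preimage hinj).subset ?_
  intro p hpV
  rw [Set.mem_preimage]
  change p.1 ∈ PrimeSpectrum.zeroLocus (a.J : Set R) at hpV
  rw [PrimeSpectrum.mem_zeroLocus, SetLike.coe_subset_coe] at hpV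
  refine ⟨⟨p.1.isPrime, hpV⟩, fun q' hq' hq'p => ?_⟩
  have hq'T : (⟨q', hq'.1⟩ : PrimeSpectrum R) ∈ T := by
    apply a.hJ
    rw [PrimeSpectrum.mem_zeroLocus, SetLike.coe_subset_coe]
    exact hq'.2
  have heq : (⟨q', hq'.1⟩ : PrimeSpectrum R) = p.1 := p.2.2 _ hq'T hq'p
  rw [← heq]

/-- the sum over the minimal points of the localized δ-functors. -/
noncomputable def dfMin : DF R :=
  DF.dsum (fun p : MinPt T => dfHTLoc p.1.asIdeal.primeCompl T)

lemma dfMin_nat : DFNat (dfMin T) :=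
  DFNat.dsum _ (fun p => dfHTLoc_nat p.1.asIdeal.primeCompl T)

lemma min_finite (M : ModuleCat.{u} R) (i : ℕ) (x : HHT T M i) :
    {p : MinPt T | HHT.map T (Loc.ι p.1.asIdeal.primeCompl M) i x ≠ 0}.Finite := by
  obtain ⟨a, y, rfl⟩ := HHT.exists_of T M i x
  refine (finite_minPt_zeroLocus T a).subset ?_
  intro p hp
  by_contra hpV
  apply hp
  have hVT : PrimeSpectrum.zeroLocus (a.J : Set R) ⊆ T := a.hJ
  have h1 : HHT.of T M i a y = extSupp hVT M i
      (HHT.of (PrimeSpectrum.zeroLocus (a.J : Set R)) M i ⟨a.J, subset_rfl⟩ y) := by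
    rw [extSupp_of]
    rfl
  rw [h1]
  exact loc_extSupp_eq_zero hVT p.1 hpV M i _

/-- the localization maps at all the minimal points. -/
noncomputable def βmin : DFHom (dfHT T) (dfMin T) :=
  DFHom.toDsum _ (fun p : MinPt T => locHomT p.1.asIdeal.primeCompl T)
    (fun M i x => min_finite T M i x)

lemma βmin_app (M : ModuleCat.{u} R) (i : ℕ) (x : HHT T M i) (p : MinPt T) :
    ((βmin T).app M i x).1 p = HHT.map T (Loc.ι p.1.asIdeal.primeCompl M) i x := rfl

lemma min_zero (M : ModuleCat.{u} R) (i : ℕ) (x : HHT (nonMin T) M i) :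
    (βmin T).app M i (extSupp (nonMin_subset T) M i x) = 0 := by
  apply finSupp_ext
  intro p
  rw [βmin_app]
  exact loc_extSupp_eq_zero (nonMin_subset T) p.1 (minPt_not_mem_nonMin T p) M i x

variable (hT : StableUnderSpecialization T)

include hT in
lemma min_ex0 (M : ModuleCat.{u} R) (x : HHT T M 0) (hx : (βmin T).app M 0 x = 0) :
    ∃ y : HHT (nonMin T) M 0, extSupp (nonMin_subset T) M 0 y = x := by
  apply exact_multi T hT 0 M x
  intro p hp hmin
  have := congrArg (fun z : finSupp (R := R) _ => z.1 (⟨p, hp, hmin⟩ : MinPt T)) hx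
  exact this

include hT in
lemma min_surj (E : ModuleCat.{u} R) (hE : Injective E) :
    Function.Surjective ((βmin T).app E 0) := by
  classical
  intro w
  have hwfin : {p : MinPt T | w.1 p ≠ 0}.Finite := w.2
  have hchoose : ∀ p : MinPt T, ∃ x : HHT T E 0,
      HHT.map T (Loc.ι p.1.asIdeal.primeCompl E) 0 x = w.1 p ∧
      ∀ q : MinPt T, q ≠ p → HHT.map T (Loc.ι q.1.asIdeal.primeCompl E) 0 x = 0 := by
    intro p
    set V : Set (PrimeSpectrum R) := PrimeSpectrum.zeroLocus (p.1.asIdeal : Set R) with hV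
    have hVT : V ⊆ T := by
      intro q hq
      rw [hV, PrimeSpectrum.mem_zeroLocus, SetLike.coe_subset_coe] at hq
      exact hT ((PrimeSpectrum.le_iff_specializes p.1 q).1 hq) p.2.1
    have hVst : StableUnderSpecialization V :=
      (PrimeSpectrum.isClosed_zeroLocus _).stableUnderSpecialization
    have hpV : p.1 ∈ V := (PrimeSpectrum.mem_zeroLocus _ _).2 subset_rfl
    obtain ⟨x₀, hx₀⟩ := rem_surj V T hVT hVst p.1 hpV p.2.2 E hE (w.1 p)
    refine ⟨extSupp hVT E 0 x₀, hx₀, ?_⟩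
    intro q hqp
    apply loc_extSupp_eq_zero
    intro hqV
    rw [hV, PrimeSpectrum.mem_zeroLocus, SetLike.coe_subset_coe] at hqV
    exact hqp (Subtype.ext (q.2.2 p.1 p.2.1 hqV)).symm
  choose xs hxs1 hxs2 using hchoose
  have hsum : ∀ q : MinPt T, HHT.map T (Loc.ι q.1.asIdeal.primeCompl E) 0
      (∑ p ∈ hwfin.toFinset, xs p) = w.1 q := by
    intro q
    rw [map_sum]
    by_cases hq : q ∈ hwfin.toFinset
    · rw [Finset.sum_eq_single q]
      · exact hxs1 q
      · intro p _ hpq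
        exact hxs2 p q hpq.symm
      · intro hq'
        exact absurd hq hq'
    · rw [Finset.sum_eq_zero]
      · rw [Set.Finite.mem_toFinset] at hq
        have hq0 : w.1 q = 0 := not_not.1 hq
        exact hq0.symm
      · intro p hp
        apply hxs2 p q
        rintro rfl
        exact hq hp
  refine ⟨∑ p ∈ hwfin.toFinset, xs p, ?_⟩
  apply finSupp_ext
  intro q
  exact hsum q

include hT in
/-- if `φ` induces zero on `H^i_T` of the localizations at all minimal points of `T`, then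
`H^{i+1}_{T'}(φ)` kills the kernel of `H^{i+1}_{T'} → H^{i+1}_T`. -/
theorem kill_of_loc (i : ℕ) {M M' : ModuleCat.{u} R} (φ : M ⟶ M')
    (hφ : ∀ (p : MinPt T) (t : HHT T (Loc p.1.asIdeal.primeCompl M) i),
      HHT.map T (Loc.map p.1.asIdeal.primeCompl φ) i t = 0)
    (b : HHT (nonMin T) M (i + 1)) (hb : extSupp (nonMin_subset T) M (i + 1) b = 0) :
    HHT.map (nonMin T) φ (i + 1) b = 0 :=
  zabs (dfHT (nonMin T)) (dfHT T) (dfMin T) (extHom (nonMin_subset T)) (βmin T)
    (fun M i x => min_zero T M i x)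
    (fun M => extSupp_injective_zero _ M)
    (fun M x hx => min_ex0 T hT M x hx)
    (fun E hE => min_surj T hT E hE)
    (dfHT_nat _) (dfHT_nat _) (dfMin_nat T) i φ
    (fun t => ⟨0, by
      rw [map_zero]
      apply finSupp_ext
      intro p
      exact hφ p (t.1 p)⟩) b hb

end minpt

/-! ### transfer for localized modules -/

section transfer

variable [IsNoetherianRing R] (p : PrimeSpectrum R)
  (T : Set (PrimeSpectrum R)) (hT : StableUnderSpecialization T) (hp : p ∈ T)
  (hmin : ∀ q ∈ T, q ≤ p → q = p)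

lemma loc_map_eq {M M' : ModuleCat.{u} R} (g : M ⟶ M') :
    Loc.map p.asIdeal.primeCompl g =
      (locIso p M).hom ≫
        (rs p).map (ModuleCat.ofHom (LocalizedModule.map p.asIdeal.primeCompl g.hom)) ≫
          (locIso p M').inv := by
  rw [← Category.assoc, ← locIso_naturality, Category.assoc, Iso.hom_inv_id, Category.comp_id]

include hT hp hmin in
theorem transfer_range_loc {M₁ M₂ M : ModuleCat.{u} R} (g₁ : M₁ ⟶ M) (g₂ : M₂ ⟶ M) (i : ℕ)
    (h : ∀ z₁ : LC.HH (mP p)
        (ModuleCat.of (Rp p) (LocalizedModule p.asIdeal.primeCompl M₁)) i,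
      ∃ z₂ : LC.HH (mP p) (ModuleCat.of (Rp p) (LocalizedModule p.asIdeal.primeCompl M₂)) i,
        LC.HH.map (mP p)
          (ModuleCat.ofHom (LocalizedModule.map p.asIdeal.primeCompl g₂.hom)) i z₂ =
        LC.HH.map (mP p)
          (ModuleCat.ofHom (LocalizedModule.map p.asIdeal.primeCompl g₁.hom)) i z₁)
    (x₁ : HHT T (Loc p.asIdeal.primeCompl M₁) i) :
    ∃ x₂ : HHT T (Loc p.asIdeal.primeCompl M₂) i,
      HHT.map T (Loc.map p.asIdeal.primeCompl g₂) i x₂ =
        HHT.map T (Loc.map p.asIdeal.primeCompl g₁) i x₁ := by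
  obtain ⟨x₂', hx₂'⟩ := transfer_range p T hT hp hmin
    (ModuleCat.ofHom (LocalizedModule.map p.asIdeal.primeCompl g₁.hom))
    (ModuleCat.ofHom (LocalizedModule.map p.asIdeal.primeCompl g₂.hom)) i h
    (HHT.map T (locIso p M₁).hom i x₁)
  refine ⟨HHT.map T (locIso p M₂).inv i x₂', ?_⟩
  rw [loc_map_eq p g₂, loc_map_eq p g₁, HHT.map_comp T (locIso p M₂).hom,
    HHT.map_comp T ((rs p).map _) (locIso p M).inv, HHT.map_hom_inv, hx₂',
    HHT.map_comp T (locIso p M₁).hom, HHT.map_comp T ((rs p).map _) (locIso p M).inv]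

include hT hp hmin in
theorem transfer_inj_loc {M₁ M M₀ : ModuleCat.{u} R} (g₁ : M₁ ⟶ M) (g₀ : M ⟶ M₀) (i : ℕ)
    (h : ∀ z₁ : LC.HH (mP p)
        (ModuleCat.of (Rp p) (LocalizedModule p.asIdeal.primeCompl M₁)) i,
      LC.HH.map (mP p)
          (ModuleCat.ofHom (LocalizedModule.map p.asIdeal.primeCompl g₀.hom)) i
        (LC.HH.map (mP p)
          (ModuleCat.ofHom (LocalizedModule.map p.asIdeal.primeCompl g₁.hom)) i z₁) = 0 →
      LC.HH.map (mP p)
          (ModuleCat.ofHom (LocalizedModule.map p.asIdeal.primeCompl g₁.hom)) i z₁ = 0)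
    (x₁ : HHT T (Loc p.asIdeal.primeCompl M₁) i)
    (hx : HHT.map T (Loc.map p.asIdeal.primeCompl g₀) i
      (HHT.map T (Loc.map p.asIdeal.primeCompl g₁) i x₁) = 0) :
    HHT.map T (Loc.map p.asIdeal.primeCompl g₁) i x₁ = 0 := by
  have hx' := congrArg (HHT.map T (locIso p M₀).hom i) hx
  rw [map_zero, loc_map_eq p g₀, loc_map_eq p g₁, HHT.map_comp T (locIso p M₁).hom,
    HHT.map_comp T ((rs p).map _) (locIso p M).inv, HHT.map_comp T (locIso p M).hom,
    HHT.map_comp T ((rs p).map _) (locIso p M₀).inv, HHT.map_hom_inv, HHT.map_hom_inv] at hx'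
  have key := transfer_inj p T hT hp hmin
    (ModuleCat.ofHom (LocalizedModule.map p.asIdeal.primeCompl g₁.hom))
    (ModuleCat.ofHom (LocalizedModule.map p.asIdeal.primeCompl g₀.hom)) i h
    (HHT.map T (locIso p M₁).hom i x₁) hx'
  rw [loc_map_eq p g₁, HHT.map_comp T (locIso p M₁).hom,
    HHT.map_comp T ((rs p).map _) (locIso p M).inv, key, map_zero]

end transfer

end Groth.Agent.Lib.Helper20.Falt
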