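import Mathlib
import Groth.Agent.Lib.Helper20.FaltMin

/-!
# Local-to-global injectivity of images for local cohomology with supports in `T` (inverse systems)
-/

set_option autoImplicit false
set_option linter.style.haveILetI false
set_option linter.unusedSectionVars false
set_option linter.unusedVariables false
set_option maxHeartbeats 400000

open CategoryTheory Limits Opposite Abelian

universe u

namespace Groth.Agent.Lib.Helper20.Falt

open Groth.Agent.Lib.Helper20.HTModel Groth.Agent.Lib.Helper20.LCDelta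
  Groth.Agent.Lib.Helper20.LCDeltaHH Groth.Agent.Lib.Helper4

variable {R : Type u} [CommRing R]

lemma exists_nat_krullDim_lt (T : Set (PrimeSpectrum R)) (hA : ringKrullDim R < ⊤) :
    ∃ n : ℕ, Order.krullDim ↥T < ((n : ℕ) : WithBot ℕ∞) := by
  have h1 : Order.krullDim ↥T ≤ ringKrullDim R :=
    Order.krullDim_le_of_strictMono (fun x : ↥T => x.1) (fun a b hab => hab)
  have h2 : Order.krullDim ↥T < ⊤ := lt_of_le_of_lt h1 hA
  cases hd : Order.krullDim ↥T with
  | bot => exact ⟨0, WithBot.bot_lt_coe _⟩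
  | coe d =>
    rw [hd] at h2
    cases d with
    | top => exact absurd h2 (lt_irrefl _)
    | coe k => exact ⟨k + 1, by exact_mod_cast Nat.lt_succ_self k⟩

section main

variable [IsNoetherianRing R] (M : ℕ → Type u) [∀ n, AddCommGroup (M n)] [∀ n, Module R (M n)]
  (φ : ∀ k m : ℕ, m ≤ k → (M k →ₗ[R] M m))
  (hφ : ∀ (k l m : ℕ) (h₁ : m ≤ l) (h₂ : l ≤ k), φ k m (h₁.trans h₂) = φ l m h₁ ∘ₗ φ k l h₂)
  (m' : ℕ → ℕ) (hm' : ∀ m, m ≤ m' m)

include hφ in
lemma map_map_sys (T : Set (PrimeSpectrum R)) (i : ℕ) (a b c : ℕ) (hab : b ≤ a) (hbc : c ≤ b)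
    (y : HHT T (ModuleCat.of R (M a)) i) :
    HHT.map T (ModuleCat.ofHom (φ b c hbc)) i (HHT.map T (ModuleCat.ofHom (φ a b hab)) i y) =
      HHT.map T (ModuleCat.ofHom (φ a c (hbc.trans hab))) i y := by
  have hcomp : (ModuleCat.ofHom (φ a c (hbc.trans hab)) :
      ModuleCat.of R (M a) ⟶ ModuleCat.of R (M c)) =
      ModuleCat.ofHom (φ a b hab) ≫ ModuleCat.ofHom (φ b c hbc) := by
    rw [← ModuleCat.ofHom_comp, ← hφ a b c hbc hab]
  rw [hcomp, HHT.map_comp]

set_option maxHeartbeats 3200000 in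
include hφ hm' in
theorem inj_of_pointwise : ∀ (n : ℕ) (i : ℕ) (T : Set (PrimeSpectrum R))
    (hT : StableUnderSpecialization T)
    (h1 : ∀ j : ℕ, i = j + 1 → ∀ (p : PrimeSpectrum R), p ∈ T → ∀ (m k : ℕ) (h : m ≤ k),
      m' m ≤ k →
      ∀ z : LC.HH (mP p) (ModuleCat.of (Rp p) (LocalizedModule p.asIdeal.primeCompl (M k))) j,
        LC.HH.map (mP p)
          (ModuleCat.ofHom (LocalizedModule.map p.asIdeal.primeCompl (φ k m h))) j z = 0)
    (h2 : ∀ (p : PrimeSpectrum R), p ∈ T → ∀ (m k : ℕ) (h : m ≤ k), m' m ≤ k →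
      ∀ z₁ : LC.HH (mP p) (ModuleCat.of (Rp p) (LocalizedModule p.asIdeal.primeCompl (M k))) i,
      ∃ z₂ : LC.HH (mP p)
          (ModuleCat.of (Rp p) (LocalizedModule p.asIdeal.primeCompl (M (m' m)))) i,
        LC.HH.map (mP p) (ModuleCat.ofHom
          (LocalizedModule.map p.asIdeal.primeCompl (φ (m' m) m (hm' m)))) i z₂ =
        LC.HH.map (mP p) (ModuleCat.ofHom
          (LocalizedModule.map p.asIdeal.primeCompl (φ k m h))) i z₁)
    (h3 : ∀ (p : PrimeSpectrum R), p ∈ T → ∀ (m : ℕ)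
      (z₁ : LC.HH (mP p)
        (ModuleCat.of (Rp p) (LocalizedModule p.asIdeal.primeCompl (M (m' m)))) i),
      LC.HH.map (mP p) (ModuleCat.ofHom
          (LocalizedModule.map p.asIdeal.primeCompl (φ m 0 (Nat.zero_le m)))) i
        (LC.HH.map (mP p) (ModuleCat.ofHom
          (LocalizedModule.map p.asIdeal.primeCompl (φ (m' m) m (hm' m)))) i z₁) = 0 →
      LC.HH.map (mP p) (ModuleCat.ofHom
          (LocalizedModule.map p.asIdeal.primeCompl (φ (m' m) m (hm' m)))) i z₁ = 0)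
    (hdim : Order.krullDim ↥T < ((n : ℕ) : WithBot ℕ∞)),
    ∃ m₀ : ℕ, ∀ m : ℕ, ∀ (hm : m₀ ≤ m), ∃ m'' : ℕ, m ≤ m'' ∧ ∀ (k : ℕ) (h : m ≤ k), m'' ≤ k →
      ∀ x : HHT T (ModuleCat.of R (M k)) i,
        HHT.map T (ModuleCat.ofHom (φ m m₀ hm)) i
          (HHT.map T (ModuleCat.ofHom (φ k m h)) i x) = 0 →
        HHT.map T (ModuleCat.ofHom (φ k m h)) i x = 0 := by
  intro n
  induction n with
  | zero =>
    intro i T hT h1 h2 h3 hdim
    have hempty : T = ∅ := by
      by_contra hne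
      have hne' : T.Nonempty := Set.nonempty_iff_ne_empty.2 hne
      haveI : Nonempty ↥T := hne'.to_subtype
      have h0 : (0 : WithBot ℕ∞) ≤ Order.krullDim ↥T := Order.krullDim_nonneg
      have h1 : Order.krullDim ↥T < (0 : WithBot ℕ∞) := by exact_mod_cast hdim
      exact absurd h0 (not_le.2 h1)
    refine ⟨0, fun m hm => ⟨m, le_rfl, fun k h hk x hx => ?_⟩⟩
    have := subsingleton_HHT_empty T hempty (ModuleCat.of R (M m)) i
    exact Subsingleton.elim _ _
  | succ n ih =>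
    intro i T hT h1 h2 h3 hdim
    obtain ⟨m₀B, hB⟩ := ih i (nonMin T) (nonMin_stable T hT)
      (fun j hj p hp => h1 j hj p (nonMin_subset T hp))
      (fun p hp => h2 p (nonMin_subset T hp))
      (fun p hp => h3 p (nonMin_subset T hp)) (krullDim_nonMin_lt T n hdim)
    refine ⟨m' m₀B, fun m hm => ?_⟩
    have hmB : m₀B ≤ m := (hm' m₀B).trans hm
    obtain ⟨l, hml, hl⟩ := hB m hmB
    refine ⟨m' l, hml.trans (hm' l), fun k h hk x hx => ?_⟩
    have hlk : l ≤ k := (hm' l).trans hk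
    have hCl : m' m₀B ≤ l := hm.trans hml
    set xl := HHT.map T (ModuleCat.ofHom (φ k l hlk)) i x with hxl
    -- the image of `x` in `M_{m₀}` vanishes
    have hxC : HHT.map T (ModuleCat.ofHom (φ l (m' m₀B) hCl)) i xl = 0 := by
      rw [hxl, map_map_sys M φ hφ T i k l (m' m₀B) hlk hCl,
        ← map_map_sys M φ hφ T i k m (m' m₀B) h hm, hx]
    have hx0 : HHT.map T (ModuleCat.ofHom (φ l 0 (Nat.zero_le l))) i xl = 0 := by
      rw [← map_map_sys M φ hφ T i l (m' m₀B) 0 hCl (Nat.zero_le _), hxC, map_zero]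
    -- the localizations of `xl` at the minimal points vanish
    have hmulti : ∀ p : PrimeSpectrum R, p ∈ T → (∀ q ∈ T, q ≤ p → q = p) →
        HHT.map T (Loc.ι p.asIdeal.primeCompl (ModuleCat.of R (M l))) i xl = 0 := by
      intro p hp hmin
      rw [hxl, ← loc_ι_map]
      obtain ⟨x₂, hx₂⟩ := transfer_range_loc p T hT hp hmin (ModuleCat.ofHom (φ k l hlk))
        (ModuleCat.ofHom (φ (m' l) l (hm' l))) i (h2 p hp l k hlk hk)
        (HHT.map T (Loc.ι p.asIdeal.primeCompl (ModuleCat.of R (M k))) i x)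
      rw [← hx₂]
      apply transfer_inj_loc p T hT hp hmin (ModuleCat.ofHom (φ (m' l) l (hm' l)))
        (ModuleCat.ofHom (φ l 0 (Nat.zero_le l))) i (h3 p hp l) x₂
      rw [hx₂, loc_ι_map, loc_ι_map, ← hxl, hx0, map_zero]
    obtain ⟨b, hb⟩ := exact_multi T hT i (ModuleCat.of R (M l)) xl hmulti
    -- the image of `b` in `M_{m₀B}` vanishes
    have hker : extSupp (nonMin_subset T) (ModuleCat.of R (M (m' m₀B))) i
        (HHT.map (nonMin T) (ModuleCat.ofHom (φ l (m' m₀B) hCl)) i b) = 0 := by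
      rw [extSupp_map, hb, hxC]
    have hb0 : HHT.map (nonMin T) (ModuleCat.ofHom (φ l m₀B (hmB.trans hml))) i b = 0 := by
      rw [← map_map_sys M φ hφ (nonMin T) i l (m' m₀B) m₀B hCl (hm' m₀B)]
      rcases Nat.eq_zero_or_pos i with hi0 | hipos
      · subst hi0
        have h0 := extSupp_injective_zero (nonMin_subset T) _
          (hker.trans (map_zero (extSupp (nonMin_subset T) _ 0)).symm)
        rw [h0, map_zero]
      · obtain ⟨j, rfl⟩ : ∃ j, i = j + 1 := ⟨i - 1, by omega⟩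
        exact kill_of_loc T hT j (ModuleCat.ofHom (φ (m' m₀B) m₀B (hm' m₀B)))
          (fun p t => transfer_loc p.1 T hT p.2.1 p.2.2 _ j
            (h1 j rfl p.1 p.2.1 m₀B (m' m₀B) (hm' m₀B) le_rfl) t) _ hker
    -- induction hypothesis
    have hbm : HHT.map (nonMin T) (ModuleCat.ofHom (φ l m hml)) i b = 0 :=
      hl l hml le_rfl b (by
        rw [map_map_sys M φ hφ (nonMin T) i l m m₀B hml hmB]
        exact hb0)
    rw [← map_map_sys M φ hφ T i k l m hlk hml, ← hxl, ← hb, ← extSupp_map, hbm, map_zero]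

end main

end Groth.Agent.Lib.Helper20.Falt
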