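import Groth.Agent.Lib.Helper20.FibSiteTop

/-! Sheaves on the total site of a pre-fibred site; continuity of the fibre inclusions. helper20 -/

set_option backward.isDefEq.respectTransparency false
set_option backward.isDefEq.respectTransparency.types false
set_option backward.defeqAttrib.useBackward true

namespace Groth.Agent.Lib.Helper20.FibSiteCont

universe t w v₁ u₁ v₂ u₂ v₃ u₃
open CategoryTheory Opposite Pseudofunctor Pseudofunctor.CoGrothendieck Bicategory FibSite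
open Groth.Agent.Lib.Helper20.FibSiteTop

lemma map_op_comp_apply {C : Type*} [Category C] (P : Cᵒᵖ ⥤ Type w) {X Y Z : C} (f : X ⟶ Y)
    (g : Y ⟶ Z) (a : P.obj (op Z)) : P.map (f ≫ g).op a = P.map f.op (P.map g.op a) := by
  rw [op_comp, Functor.map_comp_apply]

variable {𝒮 : Type u₁} [Category.{v₁} 𝒮] (F : Pseudofunctor (LocallyDiscrete 𝒮ᵒᵖ) Cat.{v₂, u₂})
  (J : Topologies F)

/-- constructor for morphisms of `∫ᶜ F` between objects of fibres -/
abbrev mkHom {T S : 𝒮} (f : T ⟶ S) {W₀ : F.obj ⟨op T⟩} {V : F.obj ⟨op S⟩}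
    (a : W₀ ⟶ (invImage F f).obj V) : (ι F T).obj W₀ ⟶ (ι F S).obj V := ⟨f, a⟩

lemma ι_map_comp_mkHom {T S : 𝒮} (f : T ⟶ S) {V₁ V₂ : F.obj ⟨op T⟩} {V' : F.obj ⟨op S⟩}
    (r : V₁ ⟶ V₂) (b : V₂ ⟶ (invImage F f).obj V') :
    (ι F T).map r ≫ mkHom F f b = mkHom F f (r ≫ b) := ι_map_comp_mk F f r b

lemma mkHom_comp_ι_map {T S : 𝒮} (f : T ⟶ S) {V : F.obj ⟨op T⟩} {V₁ V₂ : F.obj ⟨op S⟩}
    (a : V ⟶ (invImage F f).obj V₁) (ρ : V₁ ⟶ V₂) :
    mkHom F f a ≫ (ι F S).map ρ = mkHom F f (a ≫ (invImage F f).map ρ) := mk_comp_ι_map F f a ρ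

/-- the cartesian lift `⟨T, f^* V⟩ ⟶ ⟨S, V⟩` -/
abbrev cart {T S : 𝒮} (f : T ⟶ S) (V : F.obj ⟨op S⟩) :
    (ι F T).obj ((invImage F f).obj V) ⟶ (ι F S).obj V := mkHom F f (𝟙 _)

lemma cart_natural {T S : 𝒮} (f : T ⟶ S) {V' V : F.obj ⟨op S⟩} (s : V' ⟶ V) :
    cart F f V' ≫ (ι F S).map s = (ι F T).map ((invImage F f).map s) ≫ cart F f V := by
  rw [mkHom_comp_ι_map, ι_map_comp_mkHom, Category.id_comp, Category.comp_id]

lemma mkHom_eq_ι_map_comp_cart {T S : 𝒮} (f : T ⟶ S) {W₀ : F.obj ⟨op T⟩} {V : F.obj ⟨op S⟩}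
    (a : W₀ ⟶ (invImage F f).obj V) :
    mkHom F f a = (ι F T).map a ≫ cart F f V := by
  rw [ι_map_comp_mkHom, Category.comp_id]

variable {F J}

/-- restriction of a total sheaf to a fibre is separated -/
lemma sep_of_isSheaf {P : (∫ᶜ F)ᵒᵖ ⥤ Type w} (hP : Presieve.IsSheaf (totalTopology F J) P)
    (T : 𝒮) (X : F.obj ⟨op T⟩) (S : (J T).Cover X) (x y : ((ι F T).op ⋙ P).obj (op X))
    (h : ∀ I : S.Arrow, ((ι F T).op ⋙ P).map I.f.op x = ((ι F T).op ⋙ P).map I.f.op y) :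
    x = y := by
  apply (hP.isSeparated _ (functorPushforward_mem_totalTopology (F := F) (J := J) S.2)).ext
  rintro Y _ ⟨Z, g, h', hg, rfl⟩
  have := h ⟨Z, g, hg⟩
  rw [map_op_comp_apply, map_op_comp_apply]
  exact congrArg _ this

/-- the key compatibility, split form -/
lemma compat (hF : IsPreFibSite F J) {P : (∫ᶜ F)ᵒᵖ ⥤ Type (max u₂ v₂ t)}
    (hP : Presieve.IsSheaf (totalTopology F J) P) {S : 𝒮} {U : F.obj ⟨op S⟩} (R : Sieve U)
    (hR : R ∈ J S U) (x : Presieve.FamilyOfElements ((ι F S).op ⋙ P) R.arrows)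
    (hx : x.Compatible) {T : 𝒮} (f : T ⟶ S) {W₀ : F.obj ⟨op T⟩} {V₁ V₂ : F.obj ⟨op S⟩}
    {r₁ : V₁ ⟶ U} {r₂ : V₂ ⟶ U} (hr₁ : R r₁) (hr₂ : R r₂)
    (a₁ : W₀ ⟶ (invImage F f).obj V₁) (a₂ : W₀ ⟶ (invImage F f).obj V₂)
    (hsq : a₁ ≫ (invImage F f).map r₁ = a₂ ≫ (invImage F f).map r₂) :
    P.map (mkHom F f a₁).op (x r₁ hr₁) = P.map (mkHom F f a₂).op (x r₂ hr₂) := by
  have hsep := sep_of_isSheaf (F := F) (J := J) hP T
  have hQp : Presheaf.IsSheaf (J T) ((J T).plusObj ((ι F T).op ⋙ P)) :=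
    GrothendieckTopology.Plus.isSheaf_of_sep _ hsep
  have hinj := GrothendieckTopology.Plus.inj_of_sep ((ι F T).op ⋙ P) hsep
  have := hF f
  have hsh : Presieve.IsSheaf (J S)
      ((invImage F f).op ⋙ (J T).plusObj ((ι F T).op ⋙ P)) :=
    Functor.op_comp_isSheaf_of_types (invImage F f) (J S) (J T) ⟨_, hQp⟩
  have hnat : ∀ {X Y : F.obj ⟨op T⟩} (g : X ⟶ Y) (q : P.obj (op ((ι F T).obj Y))),
      ((J T).plusObj ((ι F T).op ⋙ P)).map g.op
        (((J T).toPlus ((ι F T).op ⋙ P)).app (op Y) q) =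
      ((J T).toPlus ((ι F T).op ⋙ P)).app (op X) (P.map ((ι F T).map g).op q) := by
    intro X Y g q
    exact (NatTrans.naturality_apply ((J T).toPlus ((ι F T).op ⋙ P)) g.op q).symm
  -- the family
  let z : Presieve.FamilyOfElements
      ((invImage F f).op ⋙ (J T).plusObj ((ι F T).op ⋙ P)) R.arrows :=
    fun V r hr => ((J T).toPlus ((ι F T).op ⋙ P)).app (op ((invImage F f).obj V))
      (P.map (cart F f V).op (x r hr))
  have hxs := (Presieve.compatible_iff_sieveCompatible x).mp hx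
  have hz : z.Compatible := by
    rw [Presieve.compatible_iff_sieveCompatible]
    intro V V' r s hr
    show ((J T).toPlus ((ι F T).op ⋙ P)).app _ (P.map (cart F f V').op (x (s ≫ r) _)) =
      ((J T).plusObj ((ι F T).op ⋙ P)).map ((invImage F f).map s).op
        (((J T).toPlus ((ι F T).op ⋙ P)).app _ (P.map (cart F f V).op (x r hr)))
    rw [hnat, hxs r s hr]
    congr 1
    show P.map (cart F f V').op (P.map ((ι F S).map s).op (x r hr)) =
      P.map ((ι F T).map ((invImage F f).map s)).op (P.map (cart F f V).op (x r hr))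
    rw [← map_op_comp_apply, ← map_op_comp_apply, cart_natural]
  obtain ⟨z₀, hz₀, -⟩ := hsh R hR z hz
  apply hinj
  have key : ∀ {V : F.obj ⟨op S⟩} {r : V ⟶ U} (hr : R r) (a : W₀ ⟶ (invImage F f).obj V),
      ((J T).toPlus ((ι F T).op ⋙ P)).app (op W₀) (P.map (mkHom F f a).op (x r hr)) =
      ((J T).plusObj ((ι F T).op ⋙ P)).map (a ≫ (invImage F f).map r).op z₀ := by
    intro V r hr a
    rw [mkHom_eq_ι_map_comp_cart, map_op_comp_apply, ← hnat]
    have h2 : ((J T).plusObj ((ι F T).op ⋙ P)).map ((invImage F f).map r).op z₀ = z r hr :=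
      hz₀ r hr
    rw [map_op_comp_apply, h2]
  rw [key hr₁ a₁, key hr₂ a₂, hsq]

/-- the key compatibility, intermediate form -/
lemma compat_aux (hF : IsPreFibSite F J) {P : (∫ᶜ F)ᵒᵖ ⥤ Type (max u₂ v₂ t)}
    (hP : Presieve.IsSheaf (totalTopology F J) P) {S : 𝒮} {U : F.obj ⟨op S⟩} (R : Sieve U)
    (hR : R ∈ J S U) (x : Presieve.FamilyOfElements ((ι F S).op ⋙ P) R.arrows)
    (hx : x.Compatible) {T : 𝒮} (f₁ f₂ : T ⟶ S) (hf : f₁ = f₂) {W₀ : F.obj ⟨op T⟩}
    {V₁ V₂ : F.obj ⟨op S⟩}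
    {r₁ : V₁ ⟶ U} {r₂ : V₂ ⟶ U} (hr₁ : R r₁) (hr₂ : R r₂)
    (a₁ : W₀ ⟶ (invImage F f₁).obj V₁) (a₂ : W₀ ⟶ (invImage F f₂).obj V₂)
    (h : mkHom F f₁ a₁ ≫ (ι F S).map r₁ = mkHom F f₂ a₂ ≫ (ι F S).map r₂) :
    P.map (mkHom F f₁ a₁).op (x r₁ hr₁) = P.map (mkHom F f₂ a₂).op (x r₂ hr₂) := by
  subst hf
  rw [mkHom_comp_ι_map, mkHom_comp_ι_map] at h
  have hsq : a₁ ≫ (invImage F f₁).map r₁ = a₂ ≫ (invImage F f₁).map r₂ := by
    have := (Hom.mk.injEq _ _ _ _).mp h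
    exact eq_of_heq this.2
  exact compat.{t} hF hP R hR x hx f₁ hr₁ hr₂ a₁ a₂ hsq

/-- the key compatibility, general form -/
lemma compat' (hF : IsPreFibSite F J) {P : (∫ᶜ F)ᵒᵖ ⥤ Type (max u₂ v₂ t)}
    (hP : Presieve.IsSheaf (totalTopology F J) P) {S : 𝒮} {U : F.obj ⟨op S⟩} (R : Sieve U)
    (hR : R ∈ J S U) (x : Presieve.FamilyOfElements ((ι F S).op ⋙ P) R.arrows)
    (hx : x.Compatible) {W : ∫ᶜ F} {V₁ V₂ : F.obj ⟨op S⟩}
    (k₁ : W ⟶ (ι F S).obj V₁) (k₂ : W ⟶ (ι F S).obj V₂)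
    {r₁ : V₁ ⟶ U} {r₂ : V₂ ⟶ U} (hr₁ : R r₁) (hr₂ : R r₂)
    (h : k₁ ≫ (ι F S).map r₁ = k₂ ≫ (ι F S).map r₂) :
    P.map k₁.op (x r₁ hr₁) = P.map k₂.op (x r₂ hr₂) := by
  obtain ⟨T, W₀⟩ := W
  have hb : k₁.base = k₂.base := by
    have := congrArg Hom.base h
    simpa using this
  exact compat_aux.{t} hF hP R hR x hx k₁.base k₂.base hb hr₁ hr₂ k₁.fiber k₂.fiber h

/-- the fibre inclusions are continuous for the total topology -/
theorem isContinuous_ι (hF : IsPreFibSite F J) (S : 𝒮) :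
    (ι F S).IsContinuous (J S) (totalTopology F J) where
  op_comp_isSheaf_of_types G U R hR x hx := by
    have hG : Presieve.IsSheaf (totalTopology F J) G.obj := (isSheaf_iff_isSheaf_of_type _ _).1 G.2
    have H := hG _ (functorPushforward_mem_totalTopology (F := F) (J := J) hR)
    have hcomp : (x.functorPushforward (ι F S)).Compatible := by
      rintro Z₁ Z₂ W g₁ g₂ f₁' f₂' H₁ H₂ eq
      unfold Presieve.FamilyOfElements.functorPushforward
      rcases Presieve.getFunctorPushforwardStructure H₁ with ⟨X₁, f₁, h₁, hf₁, rfl⟩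
      rcases Presieve.getFunctorPushforwardStructure H₂ with ⟨X₂, f₂, h₂, hf₂, rfl⟩
      suffices G.obj.map (g₁ ≫ h₁).op (x f₁ hf₁) = G.obj.map (g₂ ≫ h₂).op (x f₂ hf₂) by
        simpa using this
      apply compat'.{max u₁ v₁} hF hG R hR x hx _ _ hf₁ hf₂
      simpa using eq
    have happ : ∀ {Y} {f : Y ⟶ U} (hf : R f),
        x.functorPushforward (ι F S) ((ι F S).map f)
          (Presieve.image_mem_functorPushforward (ι F S) R.arrows hf) = x f hf := by
      intro Y f hf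
      unfold Presieve.FamilyOfElements.functorPushforward
      rcases Presieve.getFunctorPushforwardStructure
        (Presieve.image_mem_functorPushforward (ι F S) R.arrows hf) with ⟨X, g, f', hg, eq⟩
      simpa using compat'.{max u₁ v₁} hF hG R hR x hx f' (𝟙 _) hg hf (by simp [eq])
    apply existsUnique_of_exists_of_unique
    · exact ⟨H.amalgamate (x.functorPushforward (ι F S)) hcomp,
        fun V f hf => (H.isAmalgamation hcomp ((ι F S).map f) _).trans (happ hf)⟩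
    · intro y₁ y₂ hy₁ hy₂
      apply (hG.isSeparated _ (functorPushforward_mem_totalTopology (F := F) (J := J) hR)).ext
      rintro Y _ ⟨Z, g, h, hg, rfl⟩
      simpa using! congrArg _ ((hy₁ g hg).trans (hy₂ g hg).symm)

/-- a presheaf whose fibre restrictions are sheaves satisfies the sheaf condition for images of
fibre coverings -/
lemma isSheafFor_pushforward {P : (∫ᶜ F)ᵒᵖ ⥤ Type w} (S : 𝒮)
    (hP : Presieve.IsSheaf (J S) ((ι F S).op ⋙ P)) {U : F.obj ⟨op S⟩} (R : Sieve U)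
    (hR : R ∈ J S U) :
    Presieve.IsSheafFor P (R.functorPushforward (ι F S)).arrows := by
  intro x hx
  have hxs := (Presieve.compatible_iff_sieveCompatible x).mp hx
  let y : Presieve.FamilyOfElements ((ι F S).op ⋙ P) R.arrows :=
    fun V r hr => x ((ι F S).map r) (Sieve.image_mem_functorPushforward _ R hr)
  have hy : y.Compatible := by
    intro V₁ V₂ W g₁ g₂ r₁ r₂ h₁ h₂ comm
    exact hx ((ι F S).map g₁) ((ι F S).map g₂) _ _
      (by rw [← Functor.map_comp, ← Functor.map_comp, comm])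
  obtain ⟨t, ht, huniq⟩ := hP R hR y hy
  refine ⟨t, ?_, ?_⟩
  · rintro W k ⟨V, r, h, hr, rfl⟩
    rw [map_op_comp_apply]
    have h1 : P.map ((ι F S).map r).op t = y r hr := ht r hr
    rw [h1]
    exact (hxs ((ι F S).map r) h _).symm
  · intro t' ht'
    apply huniq
    intro V r hr
    exact ht' ((ι F S).map r) _

/-- the sheaf criterion for the total topology, presheaves of sets in any universe -/
theorem isSheaf_of_forall_fibre (hF : IsPreFibSite F J) {P : (∫ᶜ F)ᵒᵖ ⥤ Type w}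
    (hP : ∀ S, Presieve.IsSheaf (J S) ((ι F S).op ⋙ P)) :
    Presieve.IsSheaf (totalTopology F J) P := by
  intro X T hT
  obtain ⟨R, hR, hle⟩ := (mem_totalTopology_iff F J hF X T).mp hT
  refine Presieve.isSheafFor_subsieve_aux P (S := R.functorPushforward (ι F X.base)) hle
    (isSheafFor_pushforward X.base (hP _) R hR) ?_
  intro Y f hf
  have hpb : (R.functorPushforward (ι F X.base)).pullback f ∈ totalTopology F J Y :=
    (totalTopology F J).pullback_stable f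
      (functorPushforward_mem_totalTopology (F := F) (J := J) hR)
  obtain ⟨R', hR', hle'⟩ := (mem_totalTopology_iff F J hF Y _).mp hpb
  have hsep := (isSheafFor_pushforward Y.base (hP _) R' hR').isSeparatedFor
  intro x t₁ t₂ ht₁ ht₂
  exact hsep (x.restrict hle') t₁ t₂ (Presieve.isAmalgamation_restrict hle' x t₁ ht₁)
    (Presieve.isAmalgamation_restrict hle' x t₂ ht₂)

variable (F) in
/-- vertical morphisms between objects of a fibre come from the fibre -/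
lemma exists_ι_map_eq {S : 𝒮} {V V' : F.obj ⟨op S⟩} (h : (ι F S).obj V ⟶ (ι F S).obj V')
    (hb : h.base = 𝟙 S) : ∃ φ : V ⟶ V', (ι F S).map φ = h := by
  refine ⟨h.fiber ≫ eqToHom (by simp [hb]) ≫ (F.mapId ⟨op S⟩).hom.toNatTrans.app V', ?_⟩
  ext <;> simp [hb, ← Cat.Hom₂.comp_app]

variable (F) in
lemma ι_map_injective {S : 𝒮} {V V' : F.obj ⟨op S⟩} {φ ψ : V ⟶ V'}
    (h : (ι F S).map φ = (ι F S).map ψ) : φ = ψ := by
  have h2 := ((Hom.ext_iff _ _).mp h).2
  simpa [cancel_mono, ← Cat.Hom.toNatIso_hom, ← Cat.Hom.toNatIso_inv] using h2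

variable (F) in
lemma base_eq_id_of_fac {S : 𝒮} {V V' U : F.obj ⟨op S⟩} (r : V ⟶ U) (t : V' ⟶ U)
    (h : (ι F S).obj V ⟶ (ι F S).obj V') (hfac : (ι F S).map r = h ≫ (ι F S).map t) :
    h.base = 𝟙 S := by
  have := congrArg Hom.base hfac
  simpa using this.symm

end Groth.Agent.Lib.Helper20.FibSiteCont
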