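import Groth.Agent.Lib.Helper20.FibSiteRan
import Groth.Agent.Lib.Helper20.AdjCoprod

/-! Left Kan extension (sheafified) along a fibre inclusion, restricted to another fibre. helper20 -/

set_option backward.isDefEq.respectTransparency false
set_option backward.isDefEq.respectTransparency.types false
set_option backward.defeqAttrib.useBackward true

namespace Groth.Agent.Lib.Helper20.FibSiteLan

universe w v₁ u₁ v₂ u₂ v₃ u₃
open CategoryTheory CategoryTheory.Limits Opposite Pseudofunctor Pseudofunctor.CoGrothendieck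
  Bicategory FibSite
open Groth.Agent.Lib.Helper20.FibSiteTop Groth.Agent.Lib.Helper20.FibSiteCont
  Groth.Agent.Lib.Helper20.FibSiteRan Groth.Agent.Lib.Helper20

variable {𝒮 : Type u₁} [Category.{v₁} 𝒮] (F : Pseudofunctor (LocallyDiscrete 𝒮ᵒᵖ) Cat.{v₂, u₂})
  (J : Topologies F)

/-- the base-change transformation `restr_i ⟶ (f^*)_* ∘ restr_j` for `f : j ⟶ i` -/
noncomputable def theta (A : Type u₃) [Category.{v₃} A] {i j : 𝒮} (f : j ⟶ i)
    [(ι F i).IsContinuous (J i) (totalTopology F J)]
    [(ι F j).IsContinuous (J j) (totalTopology F J)]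
    [(invImage F f).IsContinuous (J i) (J j)] :
    restr F J A i ⟶
      restr F J A j ⋙ (invImage F f).sheafPushforwardContinuous A (J i) (J j) where
  app G := ObjectProperty.homMk
    { app := fun V => G.obj.map (cart F f V.unop).op
      naturality := fun V V' s => by
        show G.obj.map ((ι F i).map s.unop).op ≫ G.obj.map (cart F f V'.unop).op =
          G.obj.map (cart F f V.unop).op ≫
            G.obj.map ((ι F j).map ((invImage F f).map s.unop)).op
        rw [← G.obj.map_comp, ← G.obj.map_comp, ← op_comp, ← op_comp, cart_natural] }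
  naturality G G' φ := by
    apply Sheaf.hom_ext
    ext V
    exact (φ.hom.naturality (cart F f V.unop).op).symm

section

variable (i j : 𝒮)
  [(ι F i).IsContinuous (J i) (totalTopology F J)]
  [(ι F j).IsContinuous (J j) (totalTopology F J)]
  [(ι F j).IsCocontinuous (J j) (totalTopology F J)]
  [∀ (P : (F.obj ⟨op j⟩)ᵒᵖ ⥤ Type w), (ι F j).op.HasPointwiseRightKanExtension P]
  [∀ (f : j ⟶ i), (invImage F f).IsContinuous (J i) (J j)]

lemma p_eq_ranProjSheaf (f : j ⟶ i) (b : Sheaf (J j) (Type w)) :
    AdjCoprod.p ((ι F j).sheafAdjunctionCocontinuous (Type w) (J j) (totalTopology F J))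
      (fun f : j ⟶ i => theta F J (Type w) f) f b = ranProjSheaf F J j i b f := by
  apply Sheaf.hom_ext
  ext V x
  show (((ι F j).sheafAdjunctionCocontinuous (Type w) (J j)
    (totalTopology F J)).counit.app b).hom.app _ _ = _
  rw [Functor.sheafAdjunctionCocontinuous_counit_app_hom, Functor.ranAdjunction_counit]
  rfl

variable [((ι F i).sheafPushforwardContinuous (Type w) (J i) (totalTopology F J)).IsRightAdjoint]
  [∀ (f : j ⟶ i),
    ((invImage F f).sheafPushforwardContinuous (Type w) (J i) (J j)).IsRightAdjoint]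

theorem exists_cofan_restr_extend (a : Sheaf (J i) (Type w)) :
    ∃ c : Cofan fun f : j ⟶ i => ((invImage F f).sheafPullback (Type w) (J i) (J j)).obj a,
      Nonempty (IsColimit c) ∧
        Nonempty (c.pt ≅ (restr F J (Type w) j).obj ((extend F J (Type w) i).obj a)) := by
  let adj₁ := (ι F i).sheafAdjunctionContinuous (Type w) (J i) (totalTopology F J)
  let adj₂ := (ι F j).sheafAdjunctionCocontinuous (Type w) (J j) (totalTopology F J)
  let adj := fun f : j ⟶ i => (invImage F f).sheafAdjunctionContinuous (Type w) (J i) (J j)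
  refine ⟨Cofan.mk _ (fun f => AdjCoprod.inj adj₁ adj (fun f => theta F J (Type w) f) f a),
    ⟨AdjCoprod.isColimitCofan adj₁ adj₂ adj _ (fun b => ?_) a⟩, ⟨Iso.refl _⟩⟩
  have h := isLimit_fan_ranProjSheaf F J j i b
  rw [show (fun f => AdjCoprod.p adj₂ (fun f : j ⟶ i => theta F J (Type w) f) f b) =
    ranProjSheaf F J j i b from funext (fun f => p_eq_ranProjSheaf F J i j f b)]
  exact h.some

end

section Terminal

universe u

theorem preservesFiniteLimits_extend_comp_restr
    {𝒮 : Type u} [SmallCategory 𝒮] (F : Pseudofunctor (LocallyDiscrete 𝒮ᵒᵖ) Cat.{u, u})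
    (J : Topologies F) (hF : IsFibSite F J) (i : 𝒮) (hi : IsTerminal i)
    [(ι F i).IsContinuous (J i) (totalTopology F J)]
    [((ι F i).sheafPushforwardContinuous (Type u) (J i) (totalTopology F J)).IsRightAdjoint]
    (j : 𝒮) [(ι F j).IsContinuous (J j) (totalTopology F J)] :
    PreservesFiniteLimits (extend F J (Type u) i ⋙ restr F J (Type u) j) := by
  have hpre := hF.isPreFibSite
  have hcoc := isCocontinuous_ι F J hpre j
  have hkan : ∀ (P : (F.obj ⟨op j⟩)ᵒᵖ ⥤ Type u),
      (ι F j).op.HasPointwiseRightKanExtension P := fun P => inferInstance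
  let t : j ⟶ i := hi.from j
  let huniq : Unique (j ⟶ i) := ⟨⟨t⟩, fun f => hi.hom_ext _ _⟩
  have hcf : ∀ f : j ⟶ i, (invImage F f).IsContinuous (J i) (J j) := fun f => hpre f
  obtain ⟨hc, hr, hpres⟩ := hF t
  let adj₁ := (ι F i).sheafAdjunctionContinuous (Type u) (J i) (totalTopology F J)
  let adj₂ := (ι F j).sheafAdjunctionCocontinuous (Type u) (J j) (totalTopology F J)
  let L : PUnit.{1} → (Sheaf (J i) (Type u) ⥤ Sheaf (J j) (Type u)) :=
    fun _ => (invImage F t).sheafPullback (Type u) (J i) (J j)
  let R : PUnit.{1} → (Sheaf (J j) (Type u) ⥤ Sheaf (J i) (Type u)) :=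
    fun _ => (invImage F t).sheafPushforwardContinuous (Type u) (J i) (J j)
  let adj : ∀ f : PUnit.{1}, L f ⊣ R f :=
    fun _ => (invImage F t).sheafAdjunctionContinuous (Type u) (J i) (J j)
  let θ : ∀ f : PUnit.{1}, restr F J (Type u) i ⟶ restr F J (Type u) j ⋙ R f :=
    fun _ => theta F J (Type u) t
  have hiso : IsIso (AdjCoprod.pNat adj₂ θ PUnit.unit) := by
    apply (config := { allowSynthFailures := true }) NatIso.isIso_of_isIso_app
    intro b
    have h1 : (AdjCoprod.pNat adj₂ θ PUnit.unit).app b = ranProjSheaf F J j i b t :=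
      p_eq_ranProjSheaf F J i j t b
    rw [h1]
    exact isIso_ranProjSheaf_of_unique F J j i b t
  have e : extend F J (Type u) i ⋙ restr F J (Type u) j ≅ L PUnit.unit :=
    AdjCoprod.extResIso adj₁ adj₂ adj θ PUnit.unit
  have : PreservesFiniteLimits (L PUnit.unit) := hpres
  exact preservesFiniteLimits_of_natIso e.symm

theorem preservesFiniteLimits_extend_of_isTerminal
    {𝒮 : Type u} [SmallCategory 𝒮] (F : Pseudofunctor (LocallyDiscrete 𝒮ᵒᵖ) Cat.{u, u})
    (J : Topologies F) (hF : IsFibSite F J) (i : 𝒮) (hi : IsTerminal i)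
    [(ι F i).IsContinuous (J i) (totalTopology F J)]
    [((ι F i).sheafPushforwardContinuous (Type u) (J i) (totalTopology F J)).IsRightAdjoint] :
    PreservesFiniteLimits (extend F J (Type u) i) := by
  have hpre := hF.isPreFibSite
  constructor
  intro K _ _
  constructor
  intro D
  constructor
  intro c hc
  refine ⟨isLimitOfReflects (sheafToPresheaf (totalTopology F J) (Type u))
    (evaluationJointlyReflectsLimits _ (fun X => ?_))⟩
  obtain ⟨⟨j, V⟩⟩ := X
  have hcj := isContinuous_ι hpre j
  have hpj := preservesFiniteLimits_extend_comp_restr F J hF i hi j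
  have hp1 : PreservesLimitsOfShape K (extend F J (Type u) i ⋙ restr F J (Type u) j) :=
    hpj.preservesFiniteLimits K
  have hp2 : PreservesLimit D (extend F J (Type u) i ⋙ restr F J (Type u) j) :=
    PreservesLimitsOfShape.preservesLimit
  have h1 : IsLimit ((extend F J (Type u) i ⋙ restr F J (Type u) j).mapCone c) :=
    isLimitOfPreserves _ hc
  have h2 := isLimitOfPreserves (sheafToPresheaf (J j) (Type u)) h1
  have h3 := isLimitOfPreserves ((evaluation _ _).obj (op V)) h2
  exact h3

end Terminal

end Groth.Agent.Lib.Helper20.FibSiteLan
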