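import Groth.Agent.Lib.Helper20.FibSiteMap

/-! Cartesian functors between fibred sites: the total functor is a morphism of sites. helper20 -/

set_option backward.isDefEq.respectTransparency false
set_option backward.isDefEq.respectTransparency.types false
set_option backward.defeqAttrib.useBackward true

namespace Groth.Agent.Lib.Helper20.FibSiteMap

universe u
open CategoryTheory CategoryTheory.Limits Opposite Pseudofunctor Pseudofunctor.CoGrothendieck
  Bicategory FibSite
open scoped CategoryTheory.Pseudofunctor.StrongTrans
open Groth.Agent.Lib.Helper20.FibSiteTop Groth.Agent.Lib.Helper20.FibSiteCont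
  Groth.Agent.Lib.Helper20.FibSiteRan Groth.Agent.Lib.Helper20.FibSiteLan Groth.Agent.Lib.Helper20

variable {𝒮 : Type u} [SmallCategory 𝒮] {F G : Pseudofunctor (LocallyDiscrete 𝒮ᵒᵖ) Cat.{u, u}}
  (α : G ⟶ F) (J : Topologies F) (K : Topologies G)

theorem preservesFiniteLimits_sheafPullback_map (hF : IsFibSite F J) (hG : IsFibSite G K)
    (hα : ∀ S : 𝒮, ∃ (_ : (α.app ⟨op S⟩).toFunctor.IsContinuous (K S) (J S))
      (_ : ((α.app ⟨op S⟩).toFunctor.sheafPushforwardContinuous (Type u)
        (K S) (J S)).IsRightAdjoint),
      PreservesFiniteLimits ((α.app ⟨op S⟩).toFunctor.sheafPullback (Type u) (K S) (J S)))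
    [(CoGrothendieck.map α).IsContinuous (totalTopology G K) (totalTopology F J)]
    [(mS α J K).IsRightAdjoint] :
    PreservesFiniteLimits
      ((CoGrothendieck.map α).sheafPullback (Type u) (totalTopology G K)
        (totalTopology F J)) := by
  have hpre := hF.isPreFibSite
  constructor
  intro 𝒦 _ _
  constructor
  intro D
  constructor
  intro c hc
  refine ⟨isLimitOfReflects (sheafToPresheaf (totalTopology F J) (Type u))
    (evaluationJointlyReflectsLimits _ (fun X => ?_))⟩
  obtain ⟨⟨j, V⟩⟩ := X
  have hcj := isContinuous_ι hpre j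
  have hpj := preservesFiniteLimits_sheafPullback_comp_restr α J K j hF hG hα
  have hp1 : PreservesLimitsOfShape 𝒦
      ((CoGrothendieck.map α).sheafPullback (Type u) (totalTopology G K) (totalTopology F J) ⋙
        restr F J (Type u) j) := hpj.preservesFiniteLimits 𝒦
  have hp2 : PreservesLimit D
      ((CoGrothendieck.map α).sheafPullback (Type u) (totalTopology G K) (totalTopology F J) ⋙
        restr F J (Type u) j) := PreservesLimitsOfShape.preservesLimit
  have h1 : IsLimit
      (((CoGrothendieck.map α).sheafPullback (Type u) (totalTopology G K) (totalTopology F J) ⋙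
        restr F J (Type u) j).mapCone c) := isLimitOfPreserves _ hc
  have h2 := isLimitOfPreserves (sheafToPresheaf (J j) (Type u)) h1
  have h3 := isLimitOfPreserves ((evaluation _ _).obj (op V)) h2
  exact h3

theorem morphismOfSites_map (hF : IsFibSite F J) (hG : IsFibSite G K)
    (hα : ∀ S : 𝒮, ∃ (_ : (α.app ⟨op S⟩).toFunctor.IsContinuous (K S) (J S))
      (_ : ((α.app ⟨op S⟩).toFunctor.sheafPushforwardContinuous (Type u)
        (K S) (J S)).IsRightAdjoint),
      PreservesFiniteLimits ((α.app ⟨op S⟩).toFunctor.sheafPullback (Type u) (K S) (J S))) :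
    ∃ (_ : (CoGrothendieck.map α).IsContinuous (totalTopology G K) (totalTopology F J))
      (_ : ((CoGrothendieck.map α).sheafPushforwardContinuous (Type u)
        (totalTopology G K) (totalTopology F J)).IsRightAdjoint),
      PreservesFiniteLimits ((CoGrothendieck.map α).sheafPullback (Type u)
        (totalTopology G K) (totalTopology F J)) := by
  have hc := isContinuous_map α J K hF.isPreFibSite hG.isPreFibSite (fun S => (hα S).1)
  have hr : ((CoGrothendieck.map α).sheafPushforwardContinuous (Type u)
        (totalTopology G K) (totalTopology F J)).IsRightAdjoint := inferInstance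
  exact ⟨hc, hr, preservesFiniteLimits_sheafPullback_map α J K hF hG hα⟩

end Groth.Agent.Lib.Helper20.FibSiteMap
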