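import Groth.Agent.Lib.Helper20.FibSiteCont

/-! Right Kan extension along a fibre inclusion, restricted to another fibre. helper20 -/

set_option backward.isDefEq.respectTransparency false
set_option backward.isDefEq.respectTransparency.types false
set_option backward.defeqAttrib.useBackward true

namespace Groth.Agent.Lib.Helper20.FibSiteRan

universe w w' v₁ u₁ v₂ u₂ v₃ u₃
open CategoryTheory CategoryTheory.Limits Opposite Pseudofunctor Pseudofunctor.CoGrothendieck
  Bicategory FibSite
open Groth.Agent.Lib.Helper20.FibSiteTop Groth.Agent.Lib.Helper20.FibSiteCont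

/-- a fan of sheaves of sets is a limit as soon as it is a product objectwise -/
lemma isLimit_fan_of_bijective {C : Type u₃} [Category.{v₃} C] {J : GrothendieckTopology C}
    {I : Type w'} {Z : I → Sheaf J (Type w)} (c : Fan Z)
    (h : ∀ V : Cᵒᵖ, Function.Bijective
      (fun (x : c.pt.obj.obj V) (f : I) => (c.proj f).hom.app V x)) :
    Nonempty (IsLimit c) := by
  refine ⟨isLimitOfReflects (sheafToPresheaf J (Type w))
    (evaluationJointlyReflectsLimits _ (fun V => ?_))⟩
  apply Nonempty.some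
  rw [Types.isLimit_iff]
  intro s hs
  obtain ⟨x, hx⟩ := (h V).2 (fun f => s ⟨f⟩)
  refine ⟨x, ?_, ?_⟩
  · rintro ⟨f⟩
    exact congrFun hx f
  · intro y hy
    apply (h V).1
    funext f
    exact (hy ⟨f⟩).trans (congrFun hx f).symm

variable {𝒮 : Type u₁} [Category.{v₁} 𝒮] {F : Pseudofunctor (LocallyDiscrete 𝒮ᵒᵖ) Cat.{v₂, u₂}}
  {i : 𝒮} {a : (F.obj ⟨op i⟩)ᵒᵖ ⥤ Type w} (E : Functor.RightExtension (ι F i).op a)

/-- projection to the `f`-th factor -/
def ranProj {j : 𝒮} (f : i ⟶ j) (V : F.obj ⟨op j⟩) (x : E.left.obj (op ((ι F j).obj V))) :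
    a.obj (op ((invImage F f).obj V)) :=
  E.hom.app (op ((invImage F f).obj V)) (E.left.map (cart F f V).op x)

lemma hom_app_map_mkHom {j : 𝒮} (f : i ⟶ j) (V : F.obj ⟨op j⟩) {W : F.obj ⟨op i⟩}
    (φ : W ⟶ (invImage F f).obj V) (x : E.left.obj (op ((ι F j).obj V))) :
    E.hom.app (op W) (E.left.map (mkHom F f φ).op x) = a.map φ.op (ranProj E f V x) := by
  rw [mkHom_eq_ι_map_comp_cart, map_op_comp_apply]
  exact NatTrans.naturality_apply E.hom φ.op (E.left.map (cart F f V).op x)

lemma ranProj_natural {j : 𝒮} (f : i ⟶ j) {V' V : F.obj ⟨op j⟩} (s : V' ⟶ V)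
    (x : E.left.obj (op ((ι F j).obj V))) :
    ranProj E f V' (E.left.map ((ι F j).map s).op x) =
      a.map ((invImage F f).map s).op (ranProj E f V x) := by
  unfold ranProj
  rw [← map_op_comp_apply, cart_natural, map_op_comp_apply]
  exact NatTrans.naturality_apply E.hom ((invImage F f).map s).op (E.left.map (cart F f V).op x)

lemma ranProj_injective {j : 𝒮} (V : F.obj ⟨op j⟩)
    (hE : E.IsPointwiseRightKanExtensionAt (op ((ι F j).obj V)))
    {x y : E.left.obj (op ((ι F j).obj V))}
    (h : ∀ f : i ⟶ j, ranProj E f V x = ranProj E f V y) : x = y := by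
  have key : ∀ (z : E.left.obj (op ((ι F j).obj V)))
      (g : StructuredArrow (op ((ι F j).obj V)) (ι F i).op),
      (E.coneAt (op ((ι F j).obj V))).π.app g z =
        a.map g.hom.unop.fiber.op (ranProj E g.hom.unop.base V z) := by
    intro z g
    exact hom_app_map_mkHom E g.hom.unop.base V g.hom.unop.fiber z
  obtain ⟨x₀, -, huniq⟩ := (Types.isLimit_iff _).mp ⟨hE⟩ _
    (Types.sectionOfCone (E.coneAt (op ((ι F j).obj V))) y).2
  rw [huniq x (fun g => ?_), huniq y (fun g => rfl)]
  rw [key, h]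
  exact (key y g).symm

/-- auxiliary: the section attached to a family -/
def sec {j : 𝒮} (V : F.obj ⟨op j⟩) (t : ∀ f : i ⟶ j, a.obj (op ((invImage F f).obj V)))
    (W : F.obj ⟨op i⟩) (k : (ι F i).obj W ⟶ (ι F j).obj V) : a.obj (op W) :=
  a.map k.fiber.op (t k.base)

lemma sec_comp {j : 𝒮} (V : F.obj ⟨op j⟩) (t : ∀ f : i ⟶ j, a.obj (op ((invImage F f).obj V)))
    {W' W : F.obj ⟨op i⟩} (ψ : W' ⟶ W) (k : (ι F i).obj W ⟶ (ι F j).obj V) :
    sec V t W' ((ι F i).map ψ ≫ k) = a.map ψ.op (sec V t W k) := by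
  have e : (ι F i).map ψ ≫ k = mkHom F k.base (ψ ≫ k.fiber) :=
    ι_map_comp_mkHom F k.base ψ k.fiber
  rw [e]
  exact map_op_comp_apply a ψ k.fiber (t k.base)

lemma ranProj_surjective {j : 𝒮} (V : F.obj ⟨op j⟩)
    (hE : E.IsPointwiseRightKanExtensionAt (op ((ι F j).obj V)))
    (t : ∀ f : i ⟶ j, a.obj (op ((invImage F f).obj V))) :
    ∃ x, ∀ f, ranProj E f V x = t f := by
  have hs : (fun g : StructuredArrow (op ((ι F j).obj V)) (ι F i).op =>
      sec V t g.right.unop g.hom.unop) ∈ (StructuredArrow.proj _ _ ⋙ a).sections := by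
    intro g g' m
    have hw : (ι F i).map m.right.unop ≫ g.hom.unop = g'.hom.unop :=
      congrArg Quiver.Hom.unop (StructuredArrow.w m)
    show a.map m.right (sec V t g.right.unop g.hom.unop) = sec V t g'.right.unop g'.hom.unop
    rw [← hw, sec_comp]
    rfl
  obtain ⟨x, hx, -⟩ := (Types.isLimit_iff _).mp ⟨hE⟩ _ hs
  refine ⟨x, fun f => ?_⟩
  have h1 := hx (StructuredArrow.mk (Y := op ((invImage F f).obj V)) (cart F f V).op)
  refine Eq.trans ?_ (h1.trans ?_)
  · rfl
  · show a.map (𝟙 _).op (t f) = t f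
    simp

section Sheaf

variable (F) (J : Topologies F) (i j : 𝒮)
  [(ι F j).IsContinuous (J j) (totalTopology F J)]
  [(ι F i).IsCocontinuous (J i) (totalTopology F J)]
  [∀ (P : (F.obj ⟨op i⟩)ᵒᵖ ⥤ Type w), (ι F i).op.HasPointwiseRightKanExtension P]
  [∀ (f : i ⟶ j), (invImage F f).IsContinuous (J j) (J i)]
  (b : Sheaf (J i) (Type w))

/-- the projection of sheaves -/
noncomputable def ranProjSheaf (f : i ⟶ j) :
    (restr F J (Type w) j).obj ((coextend F J (Type w) i).obj b) ⟶
      ((invImage F f).sheafPushforwardContinuous (Type w) (J j) (J i)).obj b :=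
  ObjectProperty.homMk
    { app := fun V => ↾(ranProj
        (Functor.RightExtension.mk _ ((ι F i).op.ranCounit.app b.obj)) f V.unop)
      naturality := fun V V' s => by
        ext x
        exact ranProj_natural _ f s.unop x }

lemma bijective_ranProj (V : (F.obj ⟨op j⟩)ᵒᵖ) :
    Function.Bijective
      (fun (x : ((restr F J (Type w) j).obj ((coextend F J (Type w) i).obj b)).obj.obj V)
        (f : i ⟶ j) => (ranProjSheaf F J i j b f).hom.app V x) := by
  constructor
  · intro x y h
    apply ranProj_injective _ V.unop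
      (Functor.isPointwiseRightKanExtensionRanCounit (ι F i).op b.obj _)
    intro f
    exact congrFun h f
  · intro t
    obtain ⟨x, hx⟩ := ranProj_surjective _ V.unop
      (Functor.isPointwiseRightKanExtensionRanCounit (ι F i).op b.obj _) t
    exact ⟨x, funext hx⟩

theorem isLimit_fan_ranProjSheaf :
    Nonempty (IsLimit (Fan.mk _ (ranProjSheaf F J i j b))) := by
  apply isLimit_fan_of_bijective
  intro V
  exact bijective_ranProj F J i j b V

theorem exists_fan_restr_coextend :
    ∃ c : Fan fun f : i ⟶ j =>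
        ((invImage F f).sheafPushforwardContinuous (Type w) (J j) (J i)).obj b,
      Nonempty (IsLimit c) ∧
        Nonempty (c.pt ≅ (restr F J (Type w) j).obj ((coextend F J (Type w) i).obj b)) :=
  ⟨Fan.mk _ (ranProjSheaf F J i j b), isLimit_fan_ranProjSheaf F J i j b, ⟨Iso.refl _⟩⟩

/-- when there is only one morphism `i ⟶ j`, the projection is an isomorphism -/
theorem isIso_ranProjSheaf_of_unique [Unique (i ⟶ j)] (f : i ⟶ j) :
    IsIso (ranProjSheaf F J i j b f) := by
  have hbij : ∀ V : (F.obj ⟨op j⟩)ᵒᵖ,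
      Function.Bijective ((ranProjSheaf F J i j b f).hom.app V) := by
    intro V
    have hb := bijective_ranProj F J i j b V
    constructor
    · intro x y h
      apply hb.1
      funext f'
      obtain rfl : f' = f := Subsingleton.elim _ _
      exact h
    · intro y
      obtain ⟨x, hx⟩ := hb.2 (fun f' => (Subsingleton.elim f f') ▸ y)
      exact ⟨x, congrFun hx f⟩
  have h1 : IsIso ((sheafToPresheaf (J j) (Type w)).map (ranProjSheaf F J i j b f)) := by
    apply (config := { allowSynthFailures := true }) NatIso.isIso_of_isIso_app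
    intro V
    rw [isIso_iff_bijective]
    exact hbij V
  exact isIso_of_reflects_iso _ (sheafToPresheaf (J j) (Type w))

end Sheaf

end Groth.Agent.Lib.Helper20.FibSiteRan
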