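import Mathlib
import Groth.Prelude.Def_FibSite

/-! The covering sieves of the total topology of a (pre-)fibred site. helper20 -/

set_option backward.isDefEq.respectTransparency false
set_option backward.isDefEq.respectTransparency.types false
set_option backward.defeqAttrib.useBackward true

namespace Groth.Agent.Lib.Helper20.FibSiteTop

universe v₁ u₁ v₂ u₂
open CategoryTheory Opposite Pseudofunctor Pseudofunctor.CoGrothendieck Bicategory FibSite

variable {𝒮 : Type u₁} [Category.{v₁} 𝒮] (F : Pseudofunctor (LocallyDiscrete 𝒮ᵒᵖ) Cat.{v₂, u₂})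

attribute [local simp] PrelaxFunctor.map₂_eqToHom in
lemma ι_map_comp_mk {R S : 𝒮} (f : R ⟶ S) {V₁ V₂ : F.obj ⟨op R⟩} {V' : F.obj ⟨op S⟩}
    (r : V₁ ⟶ V₂) (b : V₂ ⟶ (F.map f.op.toLoc).toFunctor.obj V') :
    (ι F R).map r ≫ (⟨f, b⟩ : (⟨R, V₂⟩ : ∫ᶜ F) ⟶ ⟨S, V'⟩) =
      (⟨f, r ≫ b⟩ : (⟨R, V₁⟩ : ∫ᶜ F) ⟶ ⟨S, V'⟩) := by
  ext
  · exact Category.id_comp f
  · dsimp only [categoryStruct_comp_fiber, ι_map_base, ι_map_fiber, categoryStruct_comp_base]
    simp [F.mapComp_id_right_inv_app, Strict.rightUnitor_eqToIso, ← NatTrans.naturality_assoc,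
        ← Cat.Hom₂.comp_app]

attribute [local simp] PrelaxFunctor.map₂_eqToHom in
lemma mk_comp_ι_map {R S : 𝒮} (f : R ⟶ S) {V : F.obj ⟨op R⟩} {V₁ V₂ : F.obj ⟨op S⟩}
    (a : V ⟶ (F.map f.op.toLoc).toFunctor.obj V₁) (ρ : V₁ ⟶ V₂) :
    (⟨f, a⟩ : (⟨R, V⟩ : ∫ᶜ F) ⟶ ⟨S, V₁⟩) ≫ (ι F S).map ρ =
      (⟨f, a ≫ (F.map f.op.toLoc).toFunctor.map ρ⟩ : (⟨R, V⟩ : ∫ᶜ F) ⟶ ⟨S, V₂⟩) := by
  ext
  · exact Category.comp_id f
  · dsimp only [categoryStruct_comp_fiber, ι_map_base, ι_map_fiber, categoryStruct_comp_base]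
    simp [F.mapComp_id_left_inv_app, Strict.leftUnitor_eqToIso, ← Functor.map_comp_assoc,
        ← Cat.Hom₂.comp_app]

variable (J : Topologies F)

/-- the topology whose covering sieves are those containing the image of a fibre covering -/
def fibTop (hF : IsPreFibSite F J) : GrothendieckTopology (∫ᶜ F) where
  sieves X := {S | ∃ R ∈ J X.base X.fiber, Sieve.functorPushforward (ι F X.base) R ≤ S}
  top_mem' X := ⟨⊤, (J _).top_mem _, le_top⟩
  pullback_stable' := by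
    rintro X Y S g ⟨R, hR, hle⟩
    have cp : CoverPreserving (J X.base) (J Y.base) (invImage F g.base) :=
      haveI := hF g.base
      CoverPreserving.of_isContinuous _ _ _
    have hR₁ := cp.cover_preserve hR
    refine ⟨(R.functorPushforward (invImage F g.base)).pullback g.fiber,
      (J Y.base).pullback_stable g.fiber hR₁, ?_⟩
    rintro W h ⟨V, r, h', hr, rfl⟩
    obtain ⟨V', ρ, a, hρ, hfac⟩ := hr
    show S ((h' ≫ (ι F Y.base).map r) ≫ g)
    rw [Category.assoc]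
    apply S.downward_closed
    have e1 : (ι F Y.base).map r ≫ g = (⟨g.base, r ≫ g.fiber⟩ : (⟨Y.base, V⟩ : ∫ᶜ F) ⟶ X) :=
      ι_map_comp_mk F g.base r g.fiber
    have e2 : (⟨g.base, a⟩ : (⟨Y.base, V⟩ : ∫ᶜ F) ⟶ ⟨X.base, V'⟩) ≫ (ι F X.base).map ρ =
        (⟨g.base, a ≫ (F.map g.base.op.toLoc).toFunctor.map ρ⟩ : (⟨Y.base, V⟩ : ∫ᶜ F) ⟶ X) :=
      mk_comp_ι_map F g.base a ρ
    rw [e1]
    have e3 : (⟨g.base, r ≫ g.fiber⟩ : (⟨Y.base, V⟩ : ∫ᶜ F) ⟶ X) =
        (⟨g.base, a ≫ (F.map g.base.op.toLoc).toFunctor.map ρ⟩ : (⟨Y.base, V⟩ : ∫ᶜ F) ⟶ X) := by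
      congr 1
    rw [e3, ← e2]
    apply S.downward_closed
    exact hle _ (Sieve.image_mem_functorPushforward _ R hρ)
  transitive' := by
    rintro X S ⟨R, hR, hle⟩ T hT
    have H : ∀ ⦃V : F.obj ⟨op X.base⟩⦄ ⦃r : V ⟶ X.fiber⦄ (hr : R r),
        ∃ R' ∈ J X.base V, Sieve.functorPushforward (ι F X.base) R' ≤
          T.pullback ((ι F X.base).map r) := by
      intro V r hr
      exact hT (hle _ (Sieve.image_mem_functorPushforward _ R hr))
    choose R' hR'1 hR'2 using H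
    refine ⟨Sieve.bind R (fun V r hr => R' hr), (J X.base).bind_covering hR (fun V r hr => hR'1 hr),
      ?_⟩
    rintro W h ⟨V, t, h', ht, rfl⟩
    obtain ⟨V₂, s, r, hr, hs, rfl⟩ := ht
    rw [Functor.map_comp]
    apply T.downward_closed
    exact hR'2 hr _ (Sieve.image_mem_functorPushforward _ (R' hr) hs)

theorem mem_totalTopology_iff (hF : IsPreFibSite F J) (X : ∫ᶜ F) (S : Sieve X) :
    S ∈ totalTopology F J X ↔
      ∃ R ∈ J X.base X.fiber, Sieve.functorPushforward (ι F X.base) R ≤ S := by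
  constructor
  · intro hS
    have hle : totalTopology F J ≤ fibTop F J hF := by
      apply totalTopology_le
      intro S₀ U R hR
      exact ⟨R, hR, le_refl _⟩
    exact hle X hS
  · rintro ⟨R, hR, hle⟩
    exact (totalTopology F J).superset_covering hle (functorPushforward_mem_totalTopology hR)

theorem isCocontinuous_ι (hF : IsPreFibSite F J) (S : 𝒮) :
    (ι F S).IsCocontinuous (J S) (totalTopology F J) where
  cover_lift {U T} hT := by
    obtain ⟨R, hR, hle⟩ := (mem_totalTopology_iff F J hF _ T).mp hT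
    exact (J S).superset_covering
      ((Sieve.functorPushforward_le_iff_le_functorPullback (F := ι F S) R T).mp hle) hR

end Groth.Agent.Lib.Helper20.FibSiteTop
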