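import Mathlib
import Groth.Agent.Lib.Helper17.PbFlatOver
import Groth.Agent.Lib.Helper17.FibreFlat
import Groth.Agent.Lib.Helper1.FibreFlatGen
import Groth.Agent.Lib.Helper14.LCF.FibreSch
import Groth.Agent.Lib.Helper14.FlatOpen.ModStalk
import Groth.Agent.S9350

/-!
# Helper20: fibrewise flatness is invariant under base change (EGA IV 11.3.10 style)
-/

set_option autoImplicit false
set_option linter.style.haveILetI false
universe u
open CategoryTheory CategoryTheory.Limits AlgebraicGeometry

namespace Groth.Agent.Lib.Helper20.FlatBC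

open Groth.Agent.Lib.Helper17 Groth.Agent.Lib.Helper3 Groth.Agent.Lib.Helper1.FibreFlatSq

/-- descent of flatness at a point along a commutative square with flat sides. -/
theorem isFlatOverAt_of_flat_square {X Y X' Y' : Scheme.{u}} (φ : X ⟶ Y) (φ' : X' ⟶ Y')
    (a : X' ⟶ X) (b : Y' ⟶ Y) (w : a ≫ φ = φ' ≫ b) (G : X.Modules) [G.IsQuasicoherent] (x' : X')
    (ha : (a.stalkMap x').hom.Flat) (hb : (b.stalkMap (φ' x')).hom.Flat)
    (h : FlatMod.IsFlatOverAt φ' ((Scheme.Modules.pullback a).obj G) x') :
    FlatMod.IsFlatOverAt φ G (a x') := by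
  have h2 := FibreFlat.isFlatOverAt_comp φ' b _ x' h hb
  rw [← w] at h2
  exact (Groth.Agent.S9350.result a φ G ‹_› x' ha).2 h2

theorem flat_Spec_map_residueFieldMap {S' S : Scheme.{u}} (h : S' ⟶ S) (s' : S') :
    Flat (Spec.map (h.residueFieldMap s')) := by
  rw [HasRingHomProperty.Spec_iff (P := @Flat)]
  letI := (h.residueFieldMap s').hom.toAlgebra
  show Module.Flat _ _
  infer_instance

section

variable {X S X' S' : Scheme.{u}} {p : X ⟶ S} {p' : X' ⟶ S'} {gX : X' ⟶ X} {h : S' ⟶ S}

/-- the map on fibres induced by a base change square. -/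
noncomputable def fibBC (hX : IsPullback gX p' p h) (s' : S') :
    pullback p' (S'.fromSpecResidueField s') ⟶ pullback p (S.fromSpecResidueField (h s')) :=
  pullback.map p' (S'.fromSpecResidueField s') p (S.fromSpecResidueField (h s')) gX
    (Spec.map (h.residueFieldMap s')) h hX.w.symm
    (Scheme.Hom.SpecMap_residueFieldMap_fromSpecResidueField h s').symm

@[reassoc]
theorem fibBC_fst (hX : IsPullback gX p' p h) (s' : S') :
    fibBC hX s' ≫ pullback.fst p (S.fromSpecResidueField (h s')) =
      pullback.fst p' (S'.fromSpecResidueField s') ≫ gX :=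
  pullback.lift_fst _ _ _

@[reassoc]
theorem fibBC_snd (hX : IsPullback gX p' p h) (s' : S') :
    fibBC hX s' ≫ pullback.snd p (S.fromSpecResidueField (h s')) =
      pullback.snd p' (S'.fromSpecResidueField s') ≫ Spec.map (h.residueFieldMap s') :=
  pullback.lift_snd _ _ _

theorem isPullback_fibBC (hX : IsPullback gX p' p h) (s' : S') :
    IsPullback (fibBC hX s') (pullback.snd p' (S'.fromSpecResidueField s'))
      (pullback.snd p (S.fromSpecResidueField (h s'))) (Spec.map (h.residueFieldMap s')) := by
  have big := (IsPullback.of_hasPullback p' (S'.fromSpecResidueField s')).paste_horiz hX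
  rw [← fibBC_fst hX s',
    ← Scheme.Hom.SpecMap_residueFieldMap_fromSpecResidueField h s'] at big
  exact IsPullback.of_right big (fibBC_snd hX s')
    (IsPullback.of_hasPullback p (S.fromSpecResidueField (h s')))

instance flat_fibBC (hX : IsPullback gX p' p h) (s' : S') : Flat (fibBC hX s') := by
  haveI := flat_Spec_map_residueFieldMap h s'
  exact MorphismProperty.of_isPullback (P := @Flat) (isPullback_fibBC hX s').flip inferInstance

end

section

variable {X Y S X' Y' S' : Scheme.{u}} {f : X ⟶ Y} {g : Y ⟶ S} {f' : X' ⟶ Y'} {g' : Y' ⟶ S'}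
  {h : S' ⟶ S} {gY : Y' ⟶ Y} {gX : X' ⟶ X}

theorem fibBC_fibreMap (hY : IsPullback gY g' g h) (hX : IsPullback gX (f' ≫ g') (f ≫ g) h)
    (w : gX ≫ f = f' ≫ gY) (s' : S') :
    fibBC hX s' ≫ fibreMap f g (h s') = fibreMap f' g' s' ≫ fibBC hY s' := by
  apply pullback.hom_ext
  · simp only [Category.assoc]
    rw [fibBC_fst hY s']
    unfold fibreMap
    rw [pullback.lift_fst, pullback.lift_fst_assoc, fibBC_fst_assoc hX s', w, Category.assoc]
  · simp only [Category.assoc]
    rw [fibBC_snd hY s']
    unfold fibreMap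
    rw [pullback.lift_snd, pullback.lift_snd_assoc, fibBC_snd hX s']

/-- **Lemma K (descent direction)**: flatness of the fibre module over the fibre of `Y` descends
along a base change `S' ⟶ S`. -/
theorem isFlatOverAt_fibre_of_baseChange (hY : IsPullback gY g' g h)
    (hX : IsPullback gX (f' ≫ g') (f ≫ g) h) (w : gX ≫ f = f' ≫ gY)
    (F : X.Modules) [F.IsQuasicoherent] (s' : S')
    (z' : ↥(pullback (f' ≫ g') (S'.fromSpecResidueField s')))
    (hfl : FlatMod.IsFlatOverAt (fibreMap f' g' s')
      ((Scheme.Modules.pullback (pullback.fst (f' ≫ g') (S'.fromSpecResidueField s'))).obj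
        ((Scheme.Modules.pullback gX).obj F)) z') :
    FlatMod.IsFlatOverAt (fibreMap f g (h s'))
      ((Scheme.Modules.pullback (pullback.fst (f ≫ g) (S.fromSpecResidueField (h s')))).obj F)
      (fibBC hX s' z') := by
  haveI : ((Scheme.Modules.pullback
      (pullback.fst (f ≫ g) (S.fromSpecResidueField (h s')))).obj F).IsQuasicoherent :=
    PbStalk.isQuasicoherent_pullback _ F
  refine isFlatOverAt_of_flat_square _ (fibreMap f' g' s') (fibBC hX s') (fibBC hY s')
    (fibBC_fibreMap hY hX w s') _ z' (Flat.stalkMap _ _) (Flat.stalkMap _ _) ?_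
  let e : (Scheme.Modules.pullback (pullback.fst (f' ≫ g') (S'.fromSpecResidueField s'))).obj
        ((Scheme.Modules.pullback gX).obj F) ≅
      (Scheme.Modules.pullback (fibBC hX s')).obj
        ((Scheme.Modules.pullback (pullback.fst (f ≫ g) (S.fromSpecResidueField (h s')))).obj F) :=
    (Scheme.Modules.pullbackComp _ gX).app F ≪≫ eqToIso (by rw [fibBC_fst hX s']) ≪≫
      ((Scheme.Modules.pullbackComp (fibBC hX s') _).app F).symm
  exact PbFlatOver.isFlatOverAt_of_iso _ e z' hfl

end

end Groth.Agent.Lib.Helper20.FlatBC
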