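import Mathlib
import Groth.Agent.Lib.Helper20.FlatBC1

/-!
# Helper20: relative flat locus commutes with base change when `F` is flat over the base
-/

set_option autoImplicit false
set_option linter.style.haveILetI false
universe u
open CategoryTheory CategoryTheory.Limits AlgebraicGeometry

namespace Groth.Agent.Lib.Helper20.FlatBC

open Groth.Agent.Lib.Helper17 Groth.Agent.Lib.Helper3 Groth.Agent.Lib.Helper1.FibreFlatSq

variable {X Y S X' Y' S' : Scheme.{u}} {f : X ⟶ Y} {g : Y ⟶ S} {f' : X' ⟶ Y'} {g' : Y' ⟶ S'}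
  {h : S' ⟶ S} {gY : Y' ⟶ Y} {gX : X' ⟶ X}

theorem isPullback_of_squares (hY : IsPullback gY g' g h)
    (hX : IsPullback gX (f' ≫ g') (f ≫ g) h) (w : gX ≫ f = f' ≫ gY) :
    IsPullback gX f' f gY :=
  (IsPullback.of_right hX.flip w.symm hY.flip).flip

theorem isFlatOverAt_of_isFlatOverAt_baseChange
    [LocallyOfFinitePresentation (f ≫ g)] [LocallyOfFiniteType g]
    (hY : IsPullback gY g' g h) (hX : IsPullback gX (f' ≫ g') (f ≫ g) h)
    (w : gX ≫ f = f' ≫ gY)
    (F : X.Modules) [F.IsQuasicoherent]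
    [SheafOfModules.IsFinitePresentation (R := X.ringCatSheaf) F]
    (x' : X') (h1 : FlatMod.IsFlatOverAt (f ≫ g) F (gX x'))
    (h2 : FlatMod.IsFlatOverAt f' ((Scheme.Modules.pullback gX).obj F) x') :
    FlatMod.IsFlatOverAt f F (gX x') := by
  let s' : S' := (f' ≫ g') x'
  let z' : ↥(pullback (f' ≫ g') (S'.fromSpecResidueField s')) := (f' ≫ g').asFiber x'
  have hz' : (pullback.fst (f' ≫ g') (S'.fromSpecResidueField s')) z' = x' :=
    (f' ≫ g').fiberι_asFiber x'
  haveI : ((Scheme.Modules.pullback gX).obj F).IsQuasicoherent :=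
    PbStalk.isQuasicoherent_pullback _ F
  have st1 : FlatMod.IsFlatOverAt (fibreMap f' g' s')
      ((Scheme.Modules.pullback (pullback.fst (f' ≫ g') (S'.fromSpecResidueField s'))).obj
        ((Scheme.Modules.pullback gX).obj F)) z' :=
    FibreFlat.isFlatOverAt_baseChange (isPullback_fibreMap f' g' s') _ z' (by rw [hz']; exact h2)
  have st2 := isFlatOverAt_fibre_of_baseChange hY hX w F s' z' st1
  have hpt : (pullback.fst (f ≫ g) (S.fromSpecResidueField (h s'))) (fibBC hX s' z') = gX x' := by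
    rw [← Scheme.Hom.comp_apply, fibBC_fst hX s', Scheme.Hom.comp_apply, hz']
  have st3 := flat_quot_of_isFlatOverAt_fibre f g F (h s') (fibBC hX s' z') st2
  rw [← hpt] at h1 ⊢
  exact Groth.Agent.Lib.Helper14.LCF.isFlatOverAt_of_flat_fibre f g F _ h1 st3

/-- EGA IV 11.3.10-type: if `F` is `S`-flat, the `Y`-flat locus of `F` commutes with base change
`S' ⟶ S`. -/
theorem flatLocus_baseChange
    [LocallyOfFinitePresentation (f ≫ g)] [LocallyOfFiniteType g]
    (hY : IsPullback gY g' g h) (hX : IsPullback gX (f' ≫ g') (f ≫ g) h)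
    (w : gX ≫ f = f' ≫ gY)
    (F : X.Modules) [F.IsQuasicoherent]
    [SheafOfModules.IsFinitePresentation (R := X.ringCatSheaf) F]
    (hfl : FlatMod.IsFlatOver (f ≫ g) F) :
    {x' : X' | FlatMod.IsFlatOverAt f' ((Scheme.Modules.pullback gX).obj F) x'} =
      gX ⁻¹' {x : X | FlatMod.IsFlatOverAt f F x} := by
  ext x'
  simp only [Set.mem_ofPred_eq, Set.mem_preimage]
  constructor
  · intro h2
    exact isFlatOverAt_of_isFlatOverAt_baseChange hY hX w F x' (hfl _) h2
  · intro h2
    exact FibreFlat.isFlatOverAt_baseChange (isPullback_of_squares hY hX w) F x' h2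

end Groth.Agent.Lib.Helper20.FlatBC
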