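import Mathlib
import Groth.Agent.Lib.Helper20.FlatBC2

/-!
# Helper20: the fibrewise flat locus `FFX` and its compatibility with base change
-/

set_option autoImplicit false
set_option linter.style.haveILetI false
universe u
open CategoryTheory CategoryTheory.Limits AlgebraicGeometry

namespace Groth.Agent.Lib.Helper20.FlatBC

open Groth.Agent.Lib.Helper17 Groth.Agent.Lib.Helper3 Groth.Agent.Lib.Helper1.FibreFlatSq

section

variable {X Y S X' Y' S' : Scheme.{u}} {f : X ⟶ Y} {g : Y ⟶ S} {f' : X' ⟶ Y'} {g' : Y' ⟶ S'}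
  {h : S' ⟶ S} {gY : Y' ⟶ Y} {gX : X' ⟶ X}

theorem isPullback_fibBC_fibreMap (hY : IsPullback gY g' g h)
    (hX : IsPullback gX (f' ≫ g') (f ≫ g) h) (w : gX ≫ f = f' ≫ gY) (s' : S') :
    IsPullback (fibBC hX s') (fibreMap f' g' s') (fibreMap f g (h s')) (fibBC hY s') := by
  refine IsPullback.of_bot ?_ (fibBC_fibreMap hY hX w s') (isPullback_fibBC hY s')
  have e1 : fibreMap f' g' s' ≫ pullback.snd g' (S'.fromSpecResidueField s') =
      pullback.snd (f' ≫ g') (S'.fromSpecResidueField s') := pullback.lift_snd _ _ _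
  have e2 : fibreMap f g (h s') ≫ pullback.snd g (S.fromSpecResidueField (h s')) =
      pullback.snd (f ≫ g) (S.fromSpecResidueField (h s')) := pullback.lift_snd _ _ _
  rw [e1, e2]
  exact isPullback_fibBC hX s'

/-- the comparison isomorphism of the two pullbacks of `F` to the fibre of `X'`. -/
noncomputable def fibIso (hX : IsPullback gX (f' ≫ g') (f ≫ g) h) (F : X.Modules) (s' : S') :
    (Scheme.Modules.pullback (pullback.fst (f' ≫ g') (S'.fromSpecResidueField s'))).obj
        ((Scheme.Modules.pullback gX).obj F) ≅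
      (Scheme.Modules.pullback (fibBC hX s')).obj
        ((Scheme.Modules.pullback (pullback.fst (f ≫ g) (S.fromSpecResidueField (h s')))).obj F) :=
  (Scheme.Modules.pullbackComp _ gX).app F ≪≫ eqToIso (by rw [fibBC_fst hX s']) ≪≫
    ((Scheme.Modules.pullbackComp (fibBC hX s') _).app F).symm

/-- **Lemma K (base change direction)**. -/
theorem isFlatOverAt_fibre_baseChange (hY : IsPullback gY g' g h)
    (hX : IsPullback gX (f' ≫ g') (f ≫ g) h) (w : gX ≫ f = f' ≫ gY)
    (F : X.Modules) [F.IsQuasicoherent] (s' : S')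
    (z' : ↥(pullback (f' ≫ g') (S'.fromSpecResidueField s')))
    (hfl : FlatMod.IsFlatOverAt (fibreMap f g (h s'))
      ((Scheme.Modules.pullback (pullback.fst (f ≫ g) (S.fromSpecResidueField (h s')))).obj F)
      (fibBC hX s' z')) :
    FlatMod.IsFlatOverAt (fibreMap f' g' s')
      ((Scheme.Modules.pullback (pullback.fst (f' ≫ g') (S'.fromSpecResidueField s'))).obj
        ((Scheme.Modules.pullback gX).obj F)) z' := by
  haveI : ((Scheme.Modules.pullback
      (pullback.fst (f ≫ g) (S.fromSpecResidueField (h s')))).obj F).IsQuasicoherent :=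
    PbStalk.isQuasicoherent_pullback _ F
  have := FibreFlat.isFlatOverAt_baseChange (isPullback_fibBC_fibreMap hY hX w s') _ z' hfl
  exact PbFlatOver.isFlatOverAt_of_iso _ (fibIso hX F s').symm z' this

end

/-- the fibrewise flat locus: points `x` such that `F_s` is flat over `Y_s` at `x`. -/
def FFX {X Y S : Scheme.{u}} (f : X ⟶ Y) (g : Y ⟶ S) (F : X.Modules) : Set X :=
  {x | ∀ (s : S) (z : ↥(pullback (f ≫ g) (S.fromSpecResidueField s))),
    (pullback.fst (f ≫ g) (S.fromSpecResidueField s)) z = x →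
    FlatMod.IsFlatOverAt (fibreMap f g s)
      ((Scheme.Modules.pullback (pullback.fst (f ≫ g) (S.fromSpecResidueField s))).obj F) z}

section

variable {X Y S X' Y' S' : Scheme.{u}} {f : X ⟶ Y} {g : Y ⟶ S} {f' : X' ⟶ Y'} {g' : Y' ⟶ S'}
  {h : S' ⟶ S} {gY : Y' ⟶ Y} {gX : X' ⟶ X}

theorem fst_injective (p : X ⟶ S) (s : S) :
    Function.Injective (pullback.fst p (S.fromSpecResidueField s)) :=
  (p.fiberι s).isEmbedding.injective

theorem apply_fst (p : X ⟶ S) (s : S) (z : ↥(pullback p (S.fromSpecResidueField s))) :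
    p ((pullback.fst p (S.fromSpecResidueField s)) z) = s := by
  have : (pullback.fst p (S.fromSpecResidueField s)) z ∈ Set.range (p.fiberι s) := ⟨z, rfl⟩
  rw [p.range_fiberι s] at this
  exact this

theorem FFX_congr (f : X ⟶ Y) (g : Y ⟶ S) {F F' : X.Modules} (e : F ≅ F') :
    FFX f g F = FFX f g F' := by
  ext x
  constructor
  · intro hx s z hz
    exact PbFlatOver.isFlatOverAt_of_iso _ ((Scheme.Modules.pullback _).mapIso e) z (hx s z hz)
  · intro hx s z hz
    exact PbFlatOver.isFlatOverAt_of_iso _ ((Scheme.Modules.pullback _).mapIso e.symm) z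
      (hx s z hz)

theorem FFX_baseChange' (hY : IsPullback gY g' g h)
    (hX : IsPullback gX (f' ≫ g') (f ≫ g) h) (w : gX ≫ f = f' ≫ gY)
    (F : X.Modules) [F.IsQuasicoherent] :
    FFX f' g' ((Scheme.Modules.pullback gX).obj F) = gX ⁻¹' FFX f g F := by
  ext x'
  constructor
  · intro hx' s z hz
    have hs : s = h ((f' ≫ g') x') := by
      have h1 := apply_fst (f ≫ g) s z
      rw [hz] at h1
      rw [← h1, ← Scheme.Hom.comp_apply, ← Scheme.Hom.comp_apply, hX.w]
    subst hs
    have h2 := hx' ((f' ≫ g') x') ((f' ≫ g').asFiber x') ((f' ≫ g').fiberι_asFiber x')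
    have h3 := isFlatOverAt_fibre_of_baseChange hY hX w F _ _ h2
    have hz2 : fibBC hX ((f' ≫ g') x') ((f' ≫ g').asFiber x') = z := by
      apply fst_injective (f ≫ g) _
      rw [hz, ← Scheme.Hom.comp_apply, fibBC_fst hX _, Scheme.Hom.comp_apply]
      exact congrArg _ ((f' ≫ g').fiberι_asFiber x')
    rw [hz2] at h3
    exact h3
  · intro hx s' z' hz'
    have h1 := hx (h s') (fibBC hX s' z') (by
      rw [← Scheme.Hom.comp_apply, fibBC_fst hX s', Scheme.Hom.comp_apply, hz'])
    exact isFlatOverAt_fibre_baseChange hY hX w F s' z' h1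

theorem FFX_baseChange (hY : IsPullback gY g' g h)
    (hX : IsPullback gX (f' ≫ g') (f ≫ g) h) (w : gX ≫ f = f' ≫ gY)
    (F : X.Modules) [F.IsQuasicoherent] (F' : X'.Modules)
    (e : F' ≅ (Scheme.Modules.pullback gX).obj F) :
    FFX f' g' F' = gX ⁻¹' FFX f g F := by
  rw [FFX_congr f' g' e]
  exact FFX_baseChange' hY hX w F

theorem mem_FFX_iff_of_flat (f : X ⟶ Y) (g : Y ⟶ S)
    [LocallyOfFinitePresentation (f ≫ g)] [LocallyOfFiniteType g]
    (F : X.Modules) [F.IsQuasicoherent]
    [SheafOfModules.IsFinitePresentation (R := X.ringCatSheaf) F] (x : X)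
    (h1 : FlatMod.IsFlatOverAt (f ≫ g) F x) :
    x ∈ FFX f g F ↔ FlatMod.IsFlatOverAt f F x := by
  constructor
  · intro hx
    have hz := (f ≫ g).fiberι_asFiber x
    have h2 := hx ((f ≫ g) x) ((f ≫ g).asFiber x) hz
    have h3 := flat_quot_of_isFlatOverAt_fibre f g F ((f ≫ g) x) ((f ≫ g).asFiber x) h2
    have hz' : (pullback.fst (f ≫ g) (S.fromSpecResidueField ((f ≫ g) x)))
        ((f ≫ g).asFiber x) = x := hz
    rw [← hz'] at h1 ⊢
    exact Groth.Agent.Lib.Helper14.LCF.isFlatOverAt_of_flat_fibre f g F _ h1 h3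
  · intro hfl s z hz
    subst hz
    exact FibreFlat.isFlatOverAt_baseChange (isPullback_fibreMap f g s) F z hfl

end

end Groth.Agent.Lib.Helper20.FlatBC
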