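import Mathlib
import Groth.Agent.Lib.Helper14.ConsFibre.Main

/-!
# Constructibility of pointwise fibre conditions: a version of the machine with a generic
alternative instead of openness in the flat case (helper20)
-/

set_option autoImplicit false
set_option linter.style.haveILetI false
set_option linter.unusedSectionVars false
set_option linter.dupNamespace false
universe u

open AlgebraicGeometry CategoryTheory Limits Topology TopologicalSpace

namespace Groth.Agent.Lib.Helper20.GRkC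

open Groth.Agent.Lib.Helper12.ClosedSub Groth.Agent.Lib.Helper14.ConsFibre

/-- if near `ξ` the closure of `ξ` lies in the image of an inducing map `j` along which `E` pulls
back to a set satisfying the generic alternative, then so does `E`. -/
theorem exists_open_subset_or_compl' {X Y : Type*} [TopologicalSpace X] [TopologicalSpace Y]
    (E : Set X) (ξ : X) (j : Y → X) (hj : IsInducing j)
    (U₁ : Set X) (hU₁ : IsOpen U₁) (hξ : ξ ∈ U₁) (hr : U₁ ∩ closure {ξ} ⊆ Set.range j)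
    (hE : ∀ ξ' : Y, j ξ' = ξ → ∃ W' : Set Y, IsOpen W' ∧ ξ' ∈ W' ∧
      (W' ∩ closure {ξ'} ⊆ j ⁻¹' E ∨ W' ∩ closure {ξ'} ⊆ (j ⁻¹' E)ᶜ)) :
    ∃ U : Set X, IsOpen U ∧ ξ ∈ U ∧ (U ∩ closure {ξ} ⊆ E ∨ U ∩ closure {ξ} ⊆ Eᶜ) := by
  obtain ⟨ξ', hξ'⟩ := hr ⟨hξ, subset_closure rfl⟩
  obtain ⟨W', hW', hξ'W', halt⟩ := hE ξ' hξ'
  obtain ⟨W, hW, hWW'⟩ := hj.isOpen_iff.1 hW'
  have hmem : ∀ z ∈ (W ∩ U₁) ∩ closure {ξ}, ∃ z' : Y, j z' = z ∧ z' ∈ W' ∩ closure {ξ'} := by
    rintro z ⟨⟨hzW, hzU⟩, hzZ⟩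
    obtain ⟨z', rfl⟩ := hr ⟨hzU, hzZ⟩
    refine ⟨z', rfl, ?_, ?_⟩
    · rw [← hWW']
      exact hzW
    · rw [← specializes_iff_mem_closure, ← hj.specializes_iff, hξ']
      exact specializes_iff_mem_closure.2 hzZ
  refine ⟨W ∩ U₁, hW.inter hU₁, ⟨?_, hξ⟩, ?_⟩
  · have : ξ' ∈ j ⁻¹' W := by
      rw [hWW']
      exact hξ'W'
    rw [Set.mem_preimage, hξ'] at this
    exact this
  · rcases halt with h1 | h1
    · left
      intro z hz
      obtain ⟨z', rfl, hz'⟩ := hmem z hz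
      exact h1 hz'
    · right
      intro z hz hzE
      obtain ⟨z', rfl, hz'⟩ := hmem z hz
      exact h1 hz' hzE

/-- a pointwise condition on the fibres of a morphism which is compatible with base change and
satisfies the generic alternative in the flat case over an irreducible base. -/
structure IsFibreConsG (E : ∀ ⦃X S : Scheme.{u}⦄, (X ⟶ S) → Set X) : Prop where
  baseChange : ∀ ⦃X S X' S' : Scheme.{u}⦄ (f : X ⟶ S) (f' : X' ⟶ S') (g' : X' ⟶ X) (g : S' ⟶ S),
    IsPullback g' f' f g → LocallyOfFiniteType f → E f' = g' ⁻¹' (E f)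
  restrict : ∀ ⦃X S : Scheme.{u}⦄ (f : X ⟶ S) (U : X.Opens), LocallyOfFiniteType f →
    E (U.ι ≫ f) = U.ι ⁻¹' (E f)
  generic : ∀ ⦃X S : Scheme.{u}⦄ (f : X ⟶ S), NoetherianSpace X → Flat f →
    LocallyOfFinitePresentation f → ∀ ξ : X, (∀ s : S, f ξ ⤳ s) →
      ∃ W : Set X, IsOpen W ∧ ξ ∈ W ∧ (W ∩ closure {ξ} ⊆ E f ∨ W ∩ closure {ξ} ⊆ (E f)ᶜ)

variable {E : ∀ ⦃X S : Scheme.{u}⦄, (X ⟶ S) → Set X}

set_option maxHeartbeats 800000 in
theorem isConstructible_of_isNoetherian (hE : IsFibreConsG E) {X S : Scheme.{u}} [IsNoetherian S]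
    (f : X ⟶ S) [LocallyOfFiniteType f] [QuasiCompact f] : IsConstructible (E f) := by
  haveI : IsLocallyNoetherian X := LocallyOfFiniteType.isLocallyNoetherian f
  haveI : CompactSpace X := QuasiCompact.compactSpace_of_compactSpace f
  haveI : IsNoetherian X := {}
  apply isConstructible_of_forall_generic
  intro ξ
  set s := f ξ with hs
  set ι := clSubι S s with hι
  set fT := pullback.snd f ι with hfT
  set p := pullback.fst f ι with hp
  obtain ⟨V, hVd, hVfl, hVfp⟩ := Groth.Agent.Lib.Helper28.GenFlat.generic_flat fT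
  have hsq : IsPullback ((fT ⁻¹ᵁ V).ι ≫ p) (fT ∣_ V) f (V.ι ≫ ι) :=
    (isPullback_morphismRestrict fT V).flip.paste_horiz (IsPullback.of_hasPullback f ι)
  have h1 : E (fT ∣_ V) = ((fT ⁻¹ᵁ V).ι ≫ p) ⁻¹' (E f) :=
    hE.baseChange _ _ _ _ hsq inferInstance
  obtain ⟨V', hV', hV'V⟩ := ι.isEmbedding.isInducing.isOpen_iff.1 V.2
  have hη : genericPoint ↑(clSub S s) ∈ V := by
    have := (genericPoint_spec ↑(clSub S s)).mem_open_set_iff V.2
    exact this.2 (by
      obtain ⟨a, ha⟩ := hVd.nonempty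
      exact ⟨a, trivial, ha⟩)
  have hjind : IsInducing ((fT ⁻¹ᵁ V).ι ≫ p) := ((fT ⁻¹ᵁ V).ι ≫ p).isEmbedding.isInducing
  haveI : NoetherianSpace ((fT ⁻¹ᵁ V).toScheme) := hjind.noetherianSpace
  refine exists_open_subset_or_compl' (E f) ξ ((fT ⁻¹ᵁ V).ι ≫ p)
    hjind (f ⁻¹' V') (hV'.preimage f.continuous) ?_ ?_ ?_
  · change f ξ ∈ V'
    rw [← hs, ← clSubι_genericPoint S s]
    have : genericPoint ↑(clSub S s) ∈ ι ⁻¹' V' := by
      rw [hV'V]
      exact hη
    exact this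
  · rintro z ⟨hzV', hz⟩
    have hfz : f z ∈ Set.range ι := by
      rw [hι, range_clSubι]
      have : f z ∈ closure (f '' {ξ}) :=
        image_closure_subset_closure_image f.continuous ⟨z, hz, rfl⟩
      rwa [Set.image_singleton] at this
    obtain ⟨t, ht⟩ := hfz
    obtain ⟨w, hw1, hw2⟩ := Scheme.Pullback.exists_preimage_pullback z t ht.symm
    have htV : t ∈ V := by
      have : t ∈ ι ⁻¹' V' := by
        rw [Set.mem_preimage, ht]
        exact hzV'
      rwa [hV'V] at this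
    refine ⟨⟨w, ?_⟩, ?_⟩
    · change fT w ∈ V
      rw [hfT, hw2]
      exact htV
    · rw [Scheme.Hom.comp_apply]
      exact hw1
  · intro ξ' hξ'
    rw [← h1]
    refine hE.generic (fT ∣_ V) inferInstance hVfl hVfp ξ' ?_
    intro t
    have hind : IsInducing (V.ι ≫ ι) := (V.ι ≫ ι).isEmbedding.isInducing
    rw [← hind.specializes_iff]
    have e1 : (V.ι ≫ ι) ((fT ∣_ V) ξ') = s := by
      rw [← Scheme.Hom.comp_apply, ← hsq.w, Scheme.Hom.comp_apply]
      exact congrArg f hξ'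
    rw [e1]
    have e2 : (V.ι ≫ ι) t ∈ Set.range ι := ⟨V.ι t, (Scheme.Hom.comp_apply _ _ _).symm⟩
    rw [hι, range_clSubι] at e2
    exact specializes_iff_mem_closure.2 e2

theorem isConstructible_Spec (hE : IsFibreConsG E) {R A : CommRingCat.{u}} (φ : R ⟶ A)
    (hφ : φ.hom.FinitePresentation) : IsConstructible (E (Spec.map φ)) := by
  obtain ⟨R₀, A₀, φ₀, a, b, hN, hφ₀, hpb⟩ :=
    Groth.Agent.Lib.Helper12.FibreDimFP.exists_noetherian_model φ hφ
  haveI := hN
  haveI : LocallyOfFinitePresentation (Spec.map φ₀) :=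
    (HasRingHomProperty.Spec_iff (P := @LocallyOfFinitePresentation)).2 hφ₀
  have h1 : E (Spec.map φ) = (Spec.map b) ⁻¹' (E (Spec.map φ₀)) :=
    hE.baseChange _ _ _ _ hpb inferInstance
  rw [h1]
  exact (Spec.map b).isConstructible_preimage (isConstructible_of_isNoetherian hE (Spec.map φ₀))

theorem isConstructible_of_isAffine (hE : IsFibreConsG E) {X S : Scheme.{u}} [IsAffine X]
    [IsAffine S] (f : X ⟶ S) [LocallyOfFinitePresentation f] : IsConstructible (E f) := by
  have hsq : IsPullback X.toSpecΓ f (Spec.map f.appTop) S.toSpecΓ :=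
    IsPullback.of_horiz_isIso ⟨(Scheme.toSpecΓ_naturality f).symm⟩
  have h1 : E f = X.toSpecΓ ⁻¹' (E (Spec.map f.appTop)) := by
    refine hE.baseChange _ _ _ _ hsq ?_
    have : Spec.map f.appTop = inv X.toSpecΓ ≫ f ≫ S.toSpecΓ := by
      rw [Scheme.toSpecΓ_naturality, IsIso.inv_hom_id_assoc]
    rw [this]
    infer_instance
  rw [h1]
  refine X.toSpecΓ.isConstructible_preimage (isConstructible_Spec hE _ ?_)
  have : LocallyOfFinitePresentation (Spec.map f.appTop) := by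
    have : Spec.map f.appTop = inv X.toSpecΓ ≫ f ≫ S.toSpecΓ := by
      rw [Scheme.toSpecΓ_naturality, IsIso.inv_hom_id_assoc]
    rw [this]
    infer_instance
  exact (HasRingHomProperty.Spec_iff (P := @LocallyOfFinitePresentation)).1 this

theorem eq_of_comp_mono (hE : IsFibreConsG E) {X V S : Scheme.{u}} (f : X ⟶ V) (j : V ⟶ S) [Mono j]
    [LocallyOfFiniteType (f ≫ j)] : E f = E (f ≫ j) := by
  have h1 : IsPullback (𝟙 X) f f (𝟙 V) := IsPullback.of_horiz_isIso ⟨by simp⟩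
  have h2 : IsPullback (𝟙 V) (𝟙 V) j j := (IsKernelPair.id_of_mono j)
  have h3 := h1.paste_vert h2
  rw [Category.comp_id] at h3
  have := hE.baseChange _ _ _ _ h3 inferInstance
  rw [this]
  rfl

theorem isConstructible_restrict (hE : IsFibreConsG E) {X S : Scheme.{u}} (f : X ⟶ S)
    [LocallyOfFinitePresentation f] (V : S.Opens) (hV : IsAffineOpen V) (U : X.Opens)
    (hU : IsAffineOpen U) (e : U ≤ f ⁻¹ᵁ V) : IsConstructible (U.ι ⁻¹' (E f)) := by
  have hcomp : f.resLE V U e ≫ V.ι = U.ι ≫ f := Scheme.Hom.resLE_comp_ι f e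
  haveI : LocallyOfFinitePresentation (f.resLE V U e ≫ V.ι) := by
    rw [hcomp]
    infer_instance
  haveI : LocallyOfFinitePresentation (f.resLE V U e) :=
    Groth.Agent.Lib.Helper14.LCF.locallyOfFinitePresentation_of_comp (f.resLE V U e) V.ι
  haveI : IsAffine (U : Scheme.{u}) := hU
  haveI : IsAffine (V : Scheme.{u}) := hV
  have h1 : E (f.resLE V U e) = U.ι ⁻¹' (E f) := by
    rw [eq_of_comp_mono hE (f.resLE V U e) V.ι, ← hE.restrict f U inferInstance]
    congr 1
  have h2 := isConstructible_of_isAffine hE (f.resLE V U e)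
  rw [h1] at h2
  exact h2

theorem isLocallyConstructible (hE : IsFibreConsG E) {X S : Scheme.{u}} (f : X ⟶ S)
    [LocallyOfFinitePresentation f] : IsLocallyConstructible (E f) := by
  intro x
  obtain ⟨_, ⟨V, hV, rfl⟩, hxV, -⟩ :=
    S.isBasis_affineOpens.exists_subset_of_mem_open (Set.mem_univ (f x)) isOpen_univ
  obtain ⟨_, ⟨U, hU, rfl⟩, hxU, hUV⟩ :=
    X.isBasis_affineOpens.exists_subset_of_mem_open (show x ∈ ((f ⁻¹ᵁ V : X.Opens) : Set X) from hxV)
      (f ⁻¹ᵁ V).2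
  refine ⟨U, U.2.mem_nhds hxU, U.2, ?_⟩
  exact isConstructible_restrict hE f V hV U hU hUV

end Groth.Agent.Lib.Helper20.GRkC
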