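import Mathlib
import Groth.Agent.Lib.Helper1.ConsModLocus

/-!
# Noetherian models of a finitely presented family with a finitely presented module, with the
cartesian square and the module isomorphism exported (helper20; variant of
`Helper1.ConsModLocus.exists_chart_locusMod`)
-/

set_option autoImplicit false
universe u
open CategoryTheory CategoryTheory.Limits AlgebraicGeometry Topology TopologicalSpace

namespace Groth.Agent.Lib.Helper20.GRkM

open Groth.Agent.Lib.Helper12.ClosedSub Groth.Agent.Lib.Helper12.ConsPropNoeth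
  Groth.Agent.Lib.Helper12.ConsPropGen Groth.Agent.Lib.Helper12.FpDesc
  Groth.Agent.Lib.Helper12.PbDiag ConsProp Groth.Agent.Lib.Helper17
  Groth.Agent.Lib.Helper1 Groth.Agent.Lib.Helper1.ConsModLocus

set_option backward.isDefEq.respectTransparency false
set_option linter.style.haveILetI false

/-- Over an affine open of the base, the family with its module comes from a family with a
coherent module over a Noetherian scheme; the cartesian square and the isomorphism of modules are
part of the conclusion. -/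
theorem exists_chart_model {X S : Scheme.{u}} (u : X ⟶ S)
    [LocallyOfFinitePresentation u] [QuasiCompact u] [QuasiSeparated u]
    (F : X.Modules) [F.IsQuasicoherent] (hF : CohB1.IsFP F)
    (V : S.Opens) (hV : IsAffineOpen V) :
    ∃ (N : Scheme.{u}) (_ : IsNoetherian N) (p : (V : Scheme.{u}) ⟶ N) (X' : Scheme.{u})
      (u' : X' ⟶ N) (F' : X'.Modules) (a : pullback u V.ι ⟶ X'),
        LocallyOfFiniteType u' ∧ QuasiCompact u' ∧ Coh.IsCoh F' ∧
        IsPullback a (pullback.snd u V.ι) u' p ∧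
        Nonempty ((Scheme.Modules.pullback (pullback.fst u V.ι)).obj F ≅
          (Scheme.Modules.pullback a).obj F') := by
  obtain ⟨J, _, _, 𝔇, π, hπ, haff, hnoeth⟩ := exists_noetherian_limit V hV
  haveI : ∀ {i j : J} (a : i ⟶ j), IsAffineHom (𝔇.map a) := fun a => inferInstance
  haveI : SheafOfModules.IsFinitePresentation (R := X.ringCatSheaf) F := hF
  have hFcoh : Coh.IsCoh F := ⟨inferInstance, inferInstance⟩
  -- restriction over `V`
  have hsqV := IsPullback.of_hasPullback u V.ι
  let FV : (pullback u V.ι).Modules := (Scheme.Modules.pullback (pullback.fst u V.ι)).obj F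
  haveI : SheafOfModules.IsFinitePresentation (R := (pullback u V.ι).ringCatSheaf) FV :=
    PbFinite.isFinitePresentation_pullback _ F
  obtain ⟨i₁, X₁, x₁, qX₁, _, _, _, sq₁⟩ := descends_of_fp (D := 𝔇) (c := Cone.mk _ π) hπ
    (pullback.snd u V.ι)
  -- the base-changed diagram
  haveI := haff i₁
  haveI := hnoeth i₁
  let i₀' : Over i₁ := Over.mk (𝟙 i₁)
  haveI : CompactSpace ((pbDiagram 𝔇 i₁ x₁).obj i₀') := compactSpace_pbDiagram_obj 𝔇 i₁ x₁ i₀'
  haveI : QuasiSeparatedSpace ((pbDiagram 𝔇 i₁ x₁).obj i₀') :=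
    quasiSeparatedSpace_pbDiagram_obj 𝔇 i₁ x₁ i₀'
  haveI : IsLocallyNoetherian ((pbDiagram 𝔇 i₁ x₁).obj i₀') :=
    LocallyOfFiniteType.isLocallyNoetherian (pullback.snd x₁ (𝔇.map i₀'.hom))
  haveI : ∀ (j k : Over i₁) (a : j ⟶ k), IsAffineHom ((pbDiagram 𝔇 i₁ x₁).map a) :=
    fun _ _ a => inferInstance
  obtain ⟨j, φ, Fj, hFjq, hFjfp, ⟨e⟩⟩ := ModDescNoeth.exists_descent (pbDiagram 𝔇 i₁ x₁)
    (pbCone (Cone.mk _ π) qX₁ (pullback.snd u V.ι) sq₁)
    (isLimitPbCone (Cone.mk _ π) hπ qX₁ (pullback.snd u V.ι) sq₁) i₀' FV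
  haveI := hFjq
  haveI := hFjfp
  have hFjcoh : Coh.IsCoh Fj := ⟨inferInstance, inferInstance⟩
  have hsqj := isPullback_pbCone_π (Cone.mk _ π) qX₁ (pullback.snd u V.ι) sq₁ j
  exact ⟨𝔇.obj j.left, hnoeth j.left, π.app j.left, _, pullback.snd x₁ (𝔇.map j.hom), Fj, _,
    inferInstance, inferInstance, hFjcoh, hsqj, ⟨e.symm⟩⟩

end Groth.Agent.Lib.Helper20.GRkM
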