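import Mathlib
import Groth.Agent.Lib.Helper20.GRkM1
import Groth.Agent.Lib.Helper20.GRkC3
import Groth.Agent.Lib.Helper28.GenFlatMod
import Groth.Agent.Lib.Helper12.SecCompBC
import Groth.Agent.Lib.Helper1.ModDescNoeth

/-!
# Constructibility of pointwise fibre conditions depending on a finitely presented module
(helper20): the machine
-/

set_option autoImplicit false
set_option linter.style.haveILetI false
set_option linter.unusedSectionVars false
set_option linter.dupNamespace false
universe u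

open AlgebraicGeometry CategoryTheory Limits Topology TopologicalSpace

namespace Groth.Agent.Lib.Helper20.GRkM

open Groth.Agent.Lib.Helper12.ClosedSub Groth.Agent.Lib.Helper14.ConsFibre
  Groth.Agent.Lib.Helper17 Groth.Agent.Lib.Helper1 Groth.Agent.Lib.Helper12

/-- a pointwise condition on the fibres of a morphism with a module which is compatible with base
change and restriction and open on the locus where the module is flat over the base. -/
structure IsFibreConsM (E : ∀ ⦃X S : Scheme.{u}⦄, (X ⟶ S) → X.Modules → Set X) : Prop where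
  baseChange : ∀ ⦃X S X' S' : Scheme.{u}⦄ (f : X ⟶ S) (f' : X' ⟶ S') (g' : X' ⟶ X) (g : S' ⟶ S),
    IsPullback g' f' f g → LocallyOfFiniteType f → ∀ (F : X.Modules) (F' : X'.Modules),
      Coh.IsCoh F → (F' ≅ (Scheme.Modules.pullback g').obj F) → E f' F' = g' ⁻¹' (E f F)
  restrict : ∀ ⦃X S : Scheme.{u}⦄ (f : X ⟶ S) (U : X.Opens), LocallyOfFiniteType f →
    ∀ (F : X.Modules), Coh.IsCoh F →
      E (U.ι ≫ f) ((Scheme.Modules.pullback U.ι).obj F) = U.ι ⁻¹' (E f F)
  isOpen_flat : ∀ ⦃X S : Scheme.{u}⦄ (f : X ⟶ S), LocallyOfFinitePresentation f →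
    ∀ (F : X.Modules), F.IsQuasicoherent →
      SheafOfModules.IsFinitePresentation (R := X.ringCatSheaf) F →
      IsOpen {x : X | FlatMod.IsFlatOverAt f F x ∧ x ∈ E f F}

variable {E : ∀ ⦃X S : Scheme.{u}⦄, (X ⟶ S) → X.Modules → Set X}

set_option maxHeartbeats 800000 in
theorem isConstructible_of_isNoetherian (hE : IsFibreConsM E) {X S : Scheme.{u}} [IsNoetherian S]
    (f : X ⟶ S) [LocallyOfFiniteType f] [QuasiCompact f] (F : X.Modules) (hF : Coh.IsCoh F) :
    IsConstructible (E f F) := by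
  haveI : IsLocallyNoetherian X := LocallyOfFiniteType.isLocallyNoetherian f
  haveI : CompactSpace X := QuasiCompact.compactSpace_of_compactSpace f
  haveI : IsNoetherian X := {}
  haveI : F.IsQuasicoherent := hF.1
  haveI : F.IsFiniteType := hF.2
  apply isConstructible_of_forall_generic
  intro ξ
  set s := f ξ with hs
  set ι := clSubι S s with hι
  set fT := pullback.snd f ι with hfT
  set p := pullback.fst f ι with hp
  set FT : (pullback f ι).Modules := (Scheme.Modules.pullback p).obj F with hFT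
  haveI : FT.IsQuasicoherent := PbStalk.isQuasicoherent_pullback p F
  haveI : FT.IsFiniteType := PbFinite.isFiniteType_pullback p F
  haveI : IsLocallyNoetherian (pullback f ι) := LocallyOfFiniteType.isLocallyNoetherian fT
  haveI : SheafOfModules.IsFinitePresentation (R := (pullback f ι).ringCatSheaf) FT :=
    ModDescNoeth.isFinitePresentation_of_noeth FT
  haveI : LocallyOfFinitePresentation fT :=
    SecCompBC.locallyOfFinitePresentation_of_isLocallyNoetherian fT
  obtain ⟨V, hVne, hVfl⟩ := Groth.Agent.Lib.Helper28.GenFlatMod.generic_flat_module fT FT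
  have hsq0 : IsPullback p fT f ι := IsPullback.of_hasPullback f ι
  have h1 : E fT FT = p ⁻¹' (E f F) :=
    hE.baseChange _ _ _ _ hsq0 inferInstance F FT hF (Iso.refl _)
  have h2 : IsOpen {x : ↥(pullback f ι) | FlatMod.IsFlatOverAt fT FT x ∧ x ∈ E fT FT} :=
    hE.isOpen_flat fT inferInstance FT inferInstance inferInstance
  obtain ⟨V', hV', hV'V⟩ := ι.isEmbedding.isInducing.isOpen_iff.1 V.2
  have hη : genericPoint ↑(clSub S s) ∈ V := by
    have := (genericPoint_spec ↑(clSub S s)).mem_open_set_iff V.2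
    exact this.2 (by
      obtain ⟨a, ha⟩ := hVne
      exact ⟨a, trivial, ha⟩)
  refine exists_open_subset_or_compl (E f F) (closure {ξ}) ξ (subset_closure rfl)
    (fun z hz => specializes_iff_mem_closure.2 hz) ((fT ⁻¹ᵁ V).ι ≫ p)
    ((fT ⁻¹ᵁ V).ι ≫ p).isEmbedding.isInducing (f ⁻¹' V') (hV'.preimage f.continuous) ?_ ?_ ?_
  · change f ξ ∈ V'
    rw [← hs, ← clSubι_genericPoint S s]
    have : genericPoint ↑(clSub S s) ∈ ι ⁻¹' V' := by
      rw [hV'V]
      exact hη
    exact this
  · rintro z ⟨hzV', hz⟩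
    have hfz : f z ∈ Set.range ι := by
      rw [hι, range_clSubι]
      have : f z ∈ closure (f '' {ξ}) :=
        image_closure_subset_closure_image f.continuous ⟨z, hz, rfl⟩
      rwa [Set.image_singleton] at this
    obtain ⟨t, ht⟩ := hfz
    obtain ⟨w, hw1, hw2⟩ := Scheme.Pullback.exists_preimage_pullback z t ht.symm
    have htV : t ∈ V := by
      have : t ∈ ι ⁻¹' V' := by
        rw [Set.mem_preimage, ht]
        exact hzV'
      rwa [hV'V] at this
    refine ⟨⟨w, ?_⟩, ?_⟩
    · change fT w ∈ V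
      rw [hfT, hw2]
      exact htV
    · rw [Scheme.Hom.comp_apply]
      exact hw1
  · have heq : ((fT ⁻¹ᵁ V).ι ≫ p) ⁻¹' (E f F) =
        (fT ⁻¹ᵁ V).ι ⁻¹' {x : ↥(pullback f ι) | FlatMod.IsFlatOverAt fT FT x ∧ x ∈ E fT FT} := by
      ext w
      simp only [Set.mem_preimage, Set.mem_setOf_eq, Scheme.Hom.comp_apply]
      rw [h1, Set.mem_preimage]
      exact ⟨fun h => ⟨hVfl _ w.2, h⟩, fun h => h.2⟩
    rw [heq]
    exact h2.preimage (fT ⁻¹ᵁ V).ι.continuous

set_option maxHeartbeats 800000 in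
theorem isConstructible_of_isAffine (hE : IsFibreConsM E) {X S : Scheme.{u}} [IsAffine X]
    [IsAffine S] (f : X ⟶ S) [LocallyOfFinitePresentation f] (F : X.Modules)
    [F.IsQuasicoherent] (hF : CohB1.IsFP F) : IsConstructible (E f F) := by
  haveI : SheafOfModules.IsFinitePresentation (R := X.ringCatSheaf) F := hF
  have hFcoh : Coh.IsCoh F := ⟨inferInstance, inferInstance⟩
  obtain ⟨N, hN, p, X', u', F', a, hlft, hqc, hF', hsq, ⟨e⟩⟩ :=
    exists_chart_model f F hF ⊤ (isAffineOpen_top S)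
  haveI := hN
  haveI := hlft
  haveI := hqc
  have hsqV := IsPullback.of_hasPullback f (⊤ : S.Opens).ι
  have h1 : E (pullback.snd f (⊤ : S.Opens).ι)
      ((Scheme.Modules.pullback (pullback.fst f (⊤ : S.Opens).ι)).obj F) =
      (pullback.fst f (⊤ : S.Opens).ι) ⁻¹' (E f F) :=
    hE.baseChange _ _ _ _ hsqV inferInstance F _ hFcoh (Iso.refl _)
  have h2 : E (pullback.snd f (⊤ : S.Opens).ι)
      ((Scheme.Modules.pullback (pullback.fst f (⊤ : S.Opens).ι)).obj F) = a ⁻¹' (E u' F') :=
    hE.baseChange _ _ _ _ hsq hlft F' _ hF' e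
  have h3 : IsConstructible (E u' F') := isConstructible_of_isNoetherian hE u' F' hF'
  have h4 : IsConstructible ((pullback.fst f (⊤ : S.Opens).ι) ⁻¹' (E f F)) := by
    rw [← h1, h2]
    exact a.isConstructible_preimage h3
  haveI : IsIso (⊤ : S.Opens).ι := by
    have : (⊤ : S.Opens).ι = S.topIso.hom := rfl
    rw [this]
    infer_instance
  haveI : IsIso (pullback.fst f (⊤ : S.Opens).ι) := inferInstance
  have h5 : E f F = (inv (pullback.fst f (⊤ : S.Opens).ι)) ⁻¹'
      ((pullback.fst f (⊤ : S.Opens).ι) ⁻¹' (E f F)) := by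
    ext x
    simp only [Set.mem_preimage]
    rw [← Scheme.Hom.comp_apply, IsIso.inv_hom_id]
    rfl
  rw [h5]
  exact (inv (pullback.fst f (⊤ : S.Opens).ι)).isConstructible_preimage h4

theorem eq_of_comp_mono (hE : IsFibreConsM E) {X V S : Scheme.{u}} (f : X ⟶ V) (j : V ⟶ S)
    [Mono j] [LocallyOfFiniteType (f ≫ j)] (F : X.Modules) (hF : Coh.IsCoh F) :
    E f F = E (f ≫ j) F := by
  have h1 : IsPullback (𝟙 X) f f (𝟙 V) := IsPullback.of_horiz_isIso ⟨by simp⟩
  have h2 : IsPullback (𝟙 V) (𝟙 V) j j := (IsKernelPair.id_of_mono j)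
  have h3 := h1.paste_vert h2
  rw [Category.comp_id] at h3
  have := hE.baseChange _ _ _ _ h3 inferInstance F F hF
    ((Scheme.Modules.pullbackId X).app F).symm
  rw [this]
  rfl

theorem isConstructible_restrict (hE : IsFibreConsM E) {X S : Scheme.{u}} (f : X ⟶ S)
    [LocallyOfFinitePresentation f] (F : X.Modules) [F.IsQuasicoherent] (hF : CohB1.IsFP F)
    (V : S.Opens) (hV : IsAffineOpen V) (U : X.Opens)
    (hU : IsAffineOpen U) (e : U ≤ f ⁻¹ᵁ V) : IsConstructible (U.ι ⁻¹' (E f F)) := by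
  haveI : SheafOfModules.IsFinitePresentation (R := X.ringCatSheaf) F := hF
  have hFcoh : Coh.IsCoh F := ⟨inferInstance, inferInstance⟩
  have hcomp : f.resLE V U e ≫ V.ι = U.ι ≫ f := Scheme.Hom.resLE_comp_ι f e
  haveI : LocallyOfFinitePresentation (f.resLE V U e ≫ V.ι) := by
    rw [hcomp]
    infer_instance
  haveI : LocallyOfFinitePresentation (f.resLE V U e) :=
    Groth.Agent.Lib.Helper14.LCF.locallyOfFinitePresentation_of_comp (f.resLE V U e) V.ι
  haveI : IsAffine (U : Scheme.{u}) := hU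
  haveI : IsAffine (V : Scheme.{u}) := hV
  set FU : (U : Scheme.{u}).Modules := (Scheme.Modules.pullback U.ι).obj F with hFU
  haveI : FU.IsQuasicoherent := PbStalk.isQuasicoherent_pullback U.ι F
  haveI hFUfp : SheafOfModules.IsFinitePresentation (R := (U : Scheme.{u}).ringCatSheaf) FU :=
    PbFinite.isFinitePresentation_pullback U.ι F
  have hFUcoh : Coh.IsCoh FU := ⟨inferInstance, inferInstance⟩
  have h1 : E (f.resLE V U e) FU = U.ι ⁻¹' (E f F) := by
    rw [eq_of_comp_mono hE (f.resLE V U e) V.ι FU hFUcoh, ← hE.restrict f U inferInstance F hFcoh]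
    congr 1
  have h2 := isConstructible_of_isAffine hE (f.resLE V U e) FU hFUfp
  rw [h1] at h2
  exact h2

theorem isLocallyConstructible (hE : IsFibreConsM E) {X S : Scheme.{u}} (f : X ⟶ S)
    [LocallyOfFinitePresentation f] (F : X.Modules) [F.IsQuasicoherent] (hF : CohB1.IsFP F) :
    IsLocallyConstructible (E f F) := by
  intro x
  obtain ⟨_, ⟨V, hV, rfl⟩, hxV, -⟩ :=
    S.isBasis_affineOpens.exists_subset_of_mem_open (Set.mem_univ (f x)) isOpen_univ
  obtain ⟨_, ⟨U, hU, rfl⟩, hxU, hUV⟩ :=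
    X.isBasis_affineOpens.exists_subset_of_mem_open (show x ∈ ((f ⁻¹ᵁ V : X.Opens) : Set X) from hxV)
      (f ⁻¹ᵁ V).2
  refine ⟨U, U.2.mem_nhds hxU, U.2, ?_⟩
  exact isConstructible_restrict hE f F hF V hV U hU hUV

end Groth.Agent.Lib.Helper20.GRkM
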