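import Mathlib
import Groth.Agent.Lib.Helper20.FlatBC3
import Groth.Agent.Lib.Helper20.GRkM2

/-!
# Helper20: constructibility of the fibrewise flat locus, Noetherian case
-/

set_option autoImplicit false
set_option linter.style.haveILetI false
set_option linter.unusedSectionVars false
universe u
open CategoryTheory CategoryTheory.Limits AlgebraicGeometry Topology TopologicalSpace

namespace Groth.Agent.Lib.Helper20.FlatBC

open Groth.Agent.Lib.Helper12.ClosedSub Groth.Agent.Lib.Helper14.ConsFibre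
  Groth.Agent.Lib.Helper17 Groth.Agent.Lib.Helper1 Groth.Agent.Lib.Helper12
  Groth.Agent.Lib.Helper3

set_option maxHeartbeats 1600000 in
theorem isConstructible_FFX_of_isNoetherian {X Y S : Scheme.{u}} [IsNoetherian S]
    (f : X ⟶ Y) (g : Y ⟶ S) [LocallyOfFiniteType g]
    [LocallyOfFiniteType (f ≫ g)] [QuasiCompact (f ≫ g)] (F : X.Modules) (hF : Coh.IsCoh F) :
    IsConstructible (FFX f g F) := by
  haveI : IsLocallyNoetherian X := LocallyOfFiniteType.isLocallyNoetherian (f ≫ g)
  haveI : CompactSpace X := QuasiCompact.compactSpace_of_compactSpace (f ≫ g)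
  haveI : IsNoetherian X := {}
  haveI : F.IsQuasicoherent := hF.1
  haveI : F.IsFiniteType := hF.2
  apply isConstructible_of_forall_generic
  intro ξ
  set s := (f ≫ g) ξ with hs
  set ι := clSubι S s with hι
  set uT := pullback.snd (f ≫ g) ι with huT
  set p := pullback.fst (f ≫ g) ι with hp
  set gT := pullback.snd g ι with hgT
  set pY := pullback.fst g ι with hpY
  let fT : pullback (f ≫ g) ι ⟶ pullback g ι :=
    pullback.lift (p ≫ f) uT (by rw [Category.assoc]; exact pullback.condition)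
  have hfT1 : fT ≫ pY = p ≫ f := pullback.lift_fst _ _ _
  have hfT2 : fT ≫ gT = uT := pullback.lift_snd _ _ _
  set FT : (pullback (f ≫ g) ι).Modules := (Scheme.Modules.pullback p).obj F with hFT
  haveI : FT.IsQuasicoherent := PbStalk.isQuasicoherent_pullback p F
  haveI : FT.IsFiniteType := PbFinite.isFiniteType_pullback p F
  haveI : IsLocallyNoetherian (pullback (f ≫ g) ι) := LocallyOfFiniteType.isLocallyNoetherian uT
  haveI : SheafOfModules.IsFinitePresentation (R := (pullback (f ≫ g) ι).ringCatSheaf) FT :=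
    ModDescNoeth.isFinitePresentation_of_noeth FT
  haveI : LocallyOfFinitePresentation uT :=
    SecCompBC.locallyOfFinitePresentation_of_isLocallyNoetherian uT
  haveI : LocallyOfFinitePresentation (fT ≫ gT) := by rw [hfT2]; infer_instance
  haveI : LocallyOfFiniteType gT := inferInstance
  haveI : LocallyOfFinitePresentation fT :=
    Groth.Agent.Lib.Helper14.LCF.locallyOfFinitePresentation_of_comp fT gT
  obtain ⟨V, hVne, hVfl⟩ := Groth.Agent.Lib.Helper28.GenFlatMod.generic_flat_module uT FT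
  have hY : IsPullback pY gT g ι := IsPullback.of_hasPullback g ι
  have hX : IsPullback p (fT ≫ gT) (f ≫ g) ι := by
    rw [hfT2]
    exact IsPullback.of_hasPullback (f ≫ g) ι
  have h1 : FFX fT gT FT = p ⁻¹' (FFX f g F) := FFX_baseChange' hY hX hfT1.symm F
  have h2 : IsOpen {x : ↥(pullback (f ≫ g) ι) | FlatMod.IsFlatOverAt uT FT x ∧
      x ∈ FFX fT gT FT} := by
    have e : {x : ↥(pullback (f ≫ g) ι) | FlatMod.IsFlatOverAt uT FT x ∧ x ∈ FFX fT gT FT} =
        {x | FlatMod.IsFlatOverAt uT FT x} ∩ {x | FlatMod.IsFlatOverAt fT FT x} := by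
      ext x
      simp only [Set.mem_ofPred_eq, Set.mem_inter_iff]
      constructor
      · rintro ⟨a, b⟩
        refine ⟨a, (mem_FFX_iff_of_flat fT gT FT x ?_).1 b⟩
        rw [hfT2]; exact a
      · rintro ⟨a, b⟩
        refine ⟨a, (mem_FFX_iff_of_flat fT gT FT x ?_).2 b⟩
        rw [hfT2]; exact a
    rw [e]
    exact (Groth.Agent.Lib.Helper14.FlatOpen.isOpen_isFlatOverAt uT FT).inter
      (Groth.Agent.Lib.Helper14.FlatOpen.isOpen_isFlatOverAt fT FT)
  obtain ⟨V', hV', hV'V⟩ := ι.isEmbedding.isInducing.isOpen_iff.1 V.2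
  have hη : genericPoint ↑(clSub S s) ∈ V := by
    have := (genericPoint_spec ↑(clSub S s)).mem_open_set_iff V.2
    exact this.2 (by
      obtain ⟨a, ha⟩ := hVne
      exact ⟨a, trivial, ha⟩)
  refine exists_open_subset_or_compl (FFX f g F) (closure {ξ}) ξ (subset_closure rfl)
    (fun z hz => specializes_iff_mem_closure.2 hz) ((uT ⁻¹ᵁ V).ι ≫ p)
    ((uT ⁻¹ᵁ V).ι ≫ p).isEmbedding.isInducing ((f ≫ g) ⁻¹' V')
    (hV'.preimage (f ≫ g).continuous) ?_ ?_ ?_
  · change (f ≫ g) ξ ∈ V'
    rw [← hs, ← clSubι_genericPoint S s]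
    have : genericPoint ↑(clSub S s) ∈ ι ⁻¹' V' := by
      rw [hV'V]
      exact hη
    exact this
  · rintro z ⟨hzV', hz⟩
    have hfz : (f ≫ g) z ∈ Set.range ι := by
      rw [hι, range_clSubι]
      have : (f ≫ g) z ∈ closure ((f ≫ g) '' {ξ}) :=
        image_closure_subset_closure_image (f ≫ g).continuous ⟨z, hz, rfl⟩
      rwa [Set.image_singleton] at this
    obtain ⟨t, ht⟩ := hfz
    obtain ⟨w, hw1, hw2⟩ := Scheme.Pullback.exists_preimage_pullback z t ht.symm
    have htV : t ∈ V := by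
      have : t ∈ ι ⁻¹' V' := by
        rw [Set.mem_preimage, ht]
        exact hzV'
      rwa [hV'V] at this
    refine ⟨⟨w, ?_⟩, ?_⟩
    · change uT w ∈ V
      rw [huT, hw2]
      exact htV
    · rw [Scheme.Hom.comp_apply]
      exact hw1
  · have heq : ((uT ⁻¹ᵁ V).ι ≫ p) ⁻¹' (FFX f g F) =
        (uT ⁻¹ᵁ V).ι ⁻¹' {x : ↥(pullback (f ≫ g) ι) | FlatMod.IsFlatOverAt uT FT x ∧
          x ∈ FFX fT gT FT} := by
      ext w
      simp only [Set.mem_preimage, Set.mem_ofPred_eq, Scheme.Hom.comp_apply]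
      rw [h1, Set.mem_preimage]
      exact ⟨fun h => ⟨hVfl _ w.2, h⟩, fun h => h.2⟩
    rw [heq]
    exact h2.preimage (uT ⁻¹ᵁ V).ι.continuous

end Groth.Agent.Lib.Helper20.FlatBC
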