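import Mathlib
import Groth.Agent.Lib.Helper12.ConsMorLocus
import Groth.Agent.Lib.Helper12.PbDiag
import Groth.Agent.Lib.Helper1.ModDescNoeth
import Groth.Agent.Lib.Helper1.ConsModLocus
import Groth.Agent.Lib.Helper20.GRkM1

/-!
# Helper20: Noetherian chart for a triple `X ⟶ Y ⟶ S` with a finitely presented module on `X`
-/

set_option autoImplicit false
set_option linter.style.haveILetI false
set_option linter.unusedSectionVars false
universe u
open CategoryTheory CategoryTheory.Limits AlgebraicGeometry Topology TopologicalSpace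

namespace Groth.Agent.Lib.Helper20.FlatBC

open Groth.Agent.Lib.Helper12.ClosedSub Groth.Agent.Lib.Helper12.ConsPropNoeth
  Groth.Agent.Lib.Helper12.ConsPropGen Groth.Agent.Lib.Helper12.FpDesc
  Groth.Agent.Lib.Helper12.ConsMorLocus Groth.Agent.Lib.Helper12.PbDiag
  Groth.Agent.Lib.Helper17 Groth.Agent.Lib.Helper1 Groth.Agent.Lib.Helper3

set_option backward.isDefEq.respectTransparency false in
set_option maxHeartbeats 1600000 in
theorem exists_chart_triple {X Y S : Scheme.{u}} (f : X ⟶ Y) (g : Y ⟶ S)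
    [LocallyOfFinitePresentation g] [QuasiCompact g] [QuasiSeparated g]
    [LocallyOfFinitePresentation (f ≫ g)] [QuasiCompact (f ≫ g)] [QuasiSeparated (f ≫ g)]
    (F : X.Modules) [F.IsQuasicoherent] (hF : CohB1.IsFP F)
    (V : S.Opens) (hV : IsAffineOpen V) :
    ∃ (N : Scheme.{u}) (_ : IsNoetherian N) (p : (V : Scheme.{u}) ⟶ N) (X' Y' : Scheme.{u})
      (f' : X' ⟶ Y') (g' : Y' ⟶ N) (F' : X'.Modules)
      (a : pullback f (pullback.fst g V.ι) ⟶ X') (b : pullback g V.ι ⟶ Y'),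
        LocallyOfFiniteType g' ∧ LocallyOfFiniteType (f' ≫ g') ∧ QuasiCompact (f' ≫ g') ∧
        Coh.IsCoh F' ∧
        IsPullback b (pullback.snd g V.ι) g' p ∧
        IsPullback a (bcMor f g V.ι ≫ pullback.snd g V.ι) (f' ≫ g') p ∧
        a ≫ f' = bcMor f g V.ι ≫ b ∧
        Nonempty ((Scheme.Modules.pullback (pullback.fst f (pullback.fst g V.ι))).obj F ≅
          (Scheme.Modules.pullback a).obj F') := by
  obtain ⟨J, _, _, 𝔇, π, hπ, haff, hnoeth⟩ := exists_noetherian_limit V hV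
  haveI : ∀ {i j : J} (a : i ⟶ j), IsAffineHom (𝔇.map a) := fun a => inferInstance
  haveI : ∀ (i j : J) (a : i ⟶ j), IsAffineHom (𝔇.map a) := fun _ _ a => inferInstance
  haveI : SheafOfModules.IsFinitePresentation (R := X.ringCatSheaf) F := hF
  -- the restrictions over `V`
  have hcompV := isPullback_bcMor_comp f g V.ι
  haveI : LocallyOfFinitePresentation (bcMor f g V.ι ≫ pullback.snd g V.ι) :=
    MorphismProperty.of_isPullback (P := @LocallyOfFinitePresentation) hcompV inferInstance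
  haveI : QuasiCompact (bcMor f g V.ι ≫ pullback.snd g V.ι) :=
    MorphismProperty.of_isPullback (P := @QuasiCompact) hcompV inferInstance
  haveI : QuasiSeparated (bcMor f g V.ι ≫ pullback.snd g V.ι) :=
    MorphismProperty.of_isPullback (P := @QuasiSeparated) hcompV inferInstance
  obtain ⟨i₁, Y₁, y₁, qY₁, _, _, _, sqY₁⟩ := descends_of_fp (D := 𝔇) (c := Cone.mk _ π) hπ
    (pullback.snd g V.ι)
  obtain ⟨i₂, X₁, x₁, qX₁, _, _, _, sqX₁⟩ := descends_of_fp (D := 𝔇) (c := Cone.mk _ π) hπ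
    (bcMor f g V.ι ≫ pullback.snd g V.ι)
  obtain ⟨i, a₁, a₂, -⟩ : ∃ (i : J) (a₁ : i ⟶ i₁) (a₂ : i ⟶ i₂), True :=
    ⟨IsCofiltered.min i₁ i₂, IsCofiltered.minToLeft _ _, IsCofiltered.minToRight _ _, trivial⟩
  have sqY := isPullback_restage (D := 𝔇) (c := Cone.mk _ π) a₁ sqY₁
    (restage_w (D := 𝔇) (c := Cone.mk _ π) a₁ sqY₁)
  have sqX := isPullback_restage (D := 𝔇) (c := Cone.mk _ π) a₂ sqX₁
    (restage_w (D := 𝔇) (c := Cone.mk _ π) a₂ sqX₁)
  haveI := haff i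
  haveI : CompactSpace ↥(pullback x₁ (𝔇.map a₂)) :=
    QuasiCompact.compactSpace_of_compactSpace (pullback.snd x₁ (𝔇.map a₂))
  haveI : QuasiSeparatedSpace ↥(pullback x₁ (𝔇.map a₂)) :=
    quasiSeparatedSpace_of_quasiSeparated (pullback.snd x₁ (𝔇.map a₂))
  haveI : CompactSpace ↥(pullback y₁ (𝔇.map a₁)) :=
    QuasiCompact.compactSpace_of_compactSpace (pullback.snd y₁ (𝔇.map a₁))
  haveI : QuasiSeparatedSpace ↥(pullback y₁ (𝔇.map a₁)) :=
    quasiSeparatedSpace_of_quasiSeparated (pullback.snd y₁ (𝔇.map a₁))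
  obtain ⟨j, φ, fj, sX, sY, h1, h2, h3, h4, h5, h6⟩ := Groth.Agent.S9218.result 𝔇 (Cone.mk _ π)
    hπ i (pullback.snd x₁ (𝔇.map a₂)) (pullback.snd y₁ (𝔇.map a₁)) _ _ sqX _ _ sqY
    (bcMor f g V.ι) rfl
  have hYj : IsPullback sY (pullback.snd g V.ι)
      (pullback.snd (pullback.snd y₁ (𝔇.map a₁)) (𝔇.map φ)) (π.app j) := by
    refine IsPullback.of_right ?_ h5 (IsPullback.of_hasPullback _ (𝔇.map φ))
    rw [h4]
    have e : π.app j ≫ 𝔇.map φ = π.app i := (Cone.mk _ π).w φ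
    rw [e]
    exact sqY
  have hXj' : IsPullback sX (bcMor f g V.ι ≫ pullback.snd g V.ι)
      (pullback.snd (pullback.snd x₁ (𝔇.map a₂)) (𝔇.map φ)) (π.app j) := by
    refine IsPullback.of_right ?_ h3 (IsPullback.of_hasPullback _ (𝔇.map φ))
    rw [h2]
    have e : π.app j ≫ 𝔇.map φ = π.app i := (Cone.mk _ π).w φ
    rw [e]
    exact sqX
  -- stage `j`
  obtain ⟨xj, hxj⟩ : ∃ xj : pullback (pullback.snd x₁ (𝔇.map a₂)) (𝔇.map φ) ⟶ 𝔇.obj j,
    xj = pullback.snd (pullback.snd x₁ (𝔇.map a₂)) (𝔇.map φ) := ⟨_, rfl⟩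
  obtain ⟨yj, hyj⟩ : ∃ yj : pullback (pullback.snd y₁ (𝔇.map a₁)) (𝔇.map φ) ⟶ 𝔇.obj j,
    yj = pullback.snd (pullback.snd y₁ (𝔇.map a₁)) (𝔇.map φ) := ⟨_, rfl⟩
  rw [← hxj] at hXj' h1
  rw [← hyj] at hYj h1
  haveI : LocallyOfFinitePresentation xj := by rw [hxj]; infer_instance
  haveI : QuasiCompact xj := by rw [hxj]; infer_instance
  haveI : QuasiSeparated xj := by rw [hxj]; infer_instance
  haveI : LocallyOfFinitePresentation yj := by rw [hyj]; infer_instance
  haveI : QuasiCompact yj := by rw [hyj]; infer_instance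
  -- the module over `V`
  let FV : (pullback f (pullback.fst g V.ι)).Modules :=
    (Scheme.Modules.pullback (pullback.fst f (pullback.fst g V.ι))).obj F
  haveI : SheafOfModules.IsFinitePresentation
      (R := (pullback f (pullback.fst g V.ι)).ringCatSheaf) FV :=
    PbFinite.isFinitePresentation_pullback _ F
  haveI := haff j
  haveI := hnoeth j
  let j₀ : Over j := Over.mk (𝟙 j)
  haveI : CompactSpace ((pbDiagram 𝔇 j xj).obj j₀) := compactSpace_pbDiagram_obj 𝔇 j xj j₀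
  haveI : QuasiSeparatedSpace ((pbDiagram 𝔇 j xj).obj j₀) :=
    quasiSeparatedSpace_pbDiagram_obj 𝔇 j xj j₀
  haveI : IsLocallyNoetherian ((pbDiagram 𝔇 j xj).obj j₀) :=
    LocallyOfFiniteType.isLocallyNoetherian (pullback.snd xj (𝔇.map j₀.hom))
  haveI : ∀ (k l : Over j) (a : k ⟶ l), IsAffineHom ((pbDiagram 𝔇 j xj).map a) :=
    fun _ _ a => inferInstance
  obtain ⟨k, ψ, Fk, hFkq, hFkfp, ⟨e⟩⟩ := ModDescNoeth.exists_descent (pbDiagram 𝔇 j xj)
    (pbCone (Cone.mk _ π) sX (bcMor f g V.ι ≫ pullback.snd g V.ι) hXj')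
    (isLimitPbCone (Cone.mk _ π) hπ sX (bcMor f g V.ι ≫ pullback.snd g V.ι) hXj') j₀ FV
  haveI := hFkq
  haveI := hFkfp
  have hFkcoh : Coh.IsCoh Fk := ⟨inferInstance, inferInstance⟩
  have hsqk := isPullback_pbCone_π (Cone.mk _ π) sX (bcMor f g V.ι ≫ pullback.snd g V.ι) hXj' k
  -- the stage `k`
  let fk : pullback xj (𝔇.map k.hom) ⟶ pullback yj (𝔇.map k.hom) :=
    pullback.lift (pullback.fst xj (𝔇.map k.hom) ≫ fj) (pullback.snd xj (𝔇.map k.hom))
      (by rw [Category.assoc, h1]; exact pullback.condition)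
  have hfk1 : fk ≫ pullback.fst yj (𝔇.map k.hom) = pullback.fst xj (𝔇.map k.hom) ≫ fj :=
    pullback.lift_fst _ _ _
  have hfk2 : fk ≫ pullback.snd yj (𝔇.map k.hom) = pullback.snd xj (𝔇.map k.hom) :=
    pullback.lift_snd _ _ _
  have hwk : π.app k.left ≫ 𝔇.map k.hom = π.app j := (Cone.mk _ π).w k.hom
  let b : pullback g V.ι ⟶ pullback yj (𝔇.map k.hom) :=
    pullback.lift sY (pullback.snd g V.ι ≫ π.app k.left)
      (by rw [Category.assoc, hwk]; exact hYj.w)
  have hb1 : b ≫ pullback.fst yj (𝔇.map k.hom) = sY := pullback.lift_fst _ _ _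
  have hb2 : b ≫ pullback.snd yj (𝔇.map k.hom) = pullback.snd g V.ι ≫ π.app k.left :=
    pullback.lift_snd _ _ _
  have hYk : IsPullback b (pullback.snd g V.ι) (pullback.snd yj (𝔇.map k.hom))
      (π.app k.left) := by
    refine IsPullback.of_right ?_ hb2 (IsPullback.of_hasPullback yj (𝔇.map k.hom))
    rw [hb1, hwk]
    exact hYj
  have ha1 : (pbCone (Cone.mk _ π) sX (bcMor f g V.ι ≫ pullback.snd g V.ι) hXj').π.app k ≫
      pullback.fst xj (𝔇.map k.hom) = sX := pbCone_π_fst _ _ _ _ _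
  have ha2 : (pbCone (Cone.mk _ π) sX (bcMor f g V.ι ≫ pullback.snd g V.ι) hXj').π.app k ≫
      pullback.snd xj (𝔇.map k.hom) = (bcMor f g V.ι ≫ pullback.snd g V.ι) ≫ π.app k.left :=
    pbCone_π_snd _ _ _ _ _
  have hcomm : (pbCone (Cone.mk _ π) sX (bcMor f g V.ι ≫ pullback.snd g V.ι) hXj').π.app k ≫ fk =
      bcMor f g V.ι ≫ b := by
    apply pullback.hom_ext
    · rw [Category.assoc, hfk1, reassoc_of% ha1, Category.assoc, hb1, h6]
    · rw [Category.assoc, hfk2, ha2]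
      simp only [Category.assoc]
      rw [hb2]
  haveI := hnoeth k.left
  refine ⟨𝔇.obj k.left, hnoeth k.left, π.app k.left, _, _, fk, pullback.snd yj (𝔇.map k.hom),
    Fk, _, b, inferInstance, by rw [hfk2]; infer_instance, by rw [hfk2]; infer_instance, hFkcoh,
    hYk, by rw [hfk2]; exact hsqk, hcomm, ⟨e.symm⟩⟩

end Groth.Agent.Lib.Helper20.FlatBC
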