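import Mathlib
import Groth.Agent.Lib.Helper20.FlatBC4
import Groth.Agent.Lib.Helper20.FlatBC5

/-!
# Helper20: local constructibility of the fibrewise flat locus (qcqs finitely presented case)
-/

set_option autoImplicit false
set_option linter.style.haveILetI false
set_option linter.unusedSectionVars false
universe u
open CategoryTheory CategoryTheory.Limits AlgebraicGeometry Topology TopologicalSpace

namespace Groth.Agent.Lib.Helper20.FlatBC

open Groth.Agent.Lib.Helper12.ConsMorLocus

theorem isConstructible_preimage_FFX {X Y S : Scheme.{u}} (f : X ⟶ Y) (g : Y ⟶ S)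
    [LocallyOfFinitePresentation g] [QuasiCompact g] [QuasiSeparated g]
    [LocallyOfFinitePresentation (f ≫ g)] [QuasiCompact (f ≫ g)] [QuasiSeparated (f ≫ g)]
    (F : X.Modules) [F.IsQuasicoherent] (hF : CohB1.IsFP F)
    (V : S.Opens) (hV : IsAffineOpen V) :
    IsConstructible ((pullback.fst f (pullback.fst g V.ι)) ⁻¹' FFX f g F) := by
  obtain ⟨N, hN, p, X', Y', f', g', F', a, b, h1, h2, h3, hF', hYk, hXk, hcomm, ⟨e⟩⟩ :=
    exists_chart_triple f g F hF V hV
  haveI := hN
  haveI := h1
  haveI := h2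
  haveI := h3
  haveI : F'.IsQuasicoherent := hF'.1
  have e1 : FFX (bcMor f g V.ι) (pullback.snd g V.ι)
      ((Scheme.Modules.pullback (pullback.fst f (pullback.fst g V.ι))).obj F) =
      (pullback.fst f (pullback.fst g V.ι)) ⁻¹' FFX f g F :=
    FFX_baseChange' (IsPullback.of_hasPullback g V.ι) (isPullback_bcMor_comp f g V.ι)
      pullback.condition F
  have e2 : FFX (bcMor f g V.ι) (pullback.snd g V.ι)
      ((Scheme.Modules.pullback (pullback.fst f (pullback.fst g V.ι))).obj F) =
      a ⁻¹' FFX f' g' F' := FFX_baseChange hYk hXk hcomm F' _ e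
  rw [← e1, e2]
  exact a.isConstructible_preimage (isConstructible_FFX_of_isNoetherian f' g' F' hF')

theorem isLocallyConstructible_FFX {X Y S : Scheme.{u}} (f : X ⟶ Y) (g : Y ⟶ S)
    [LocallyOfFinitePresentation g] [QuasiCompact g] [QuasiSeparated g]
    [LocallyOfFinitePresentation (f ≫ g)] [QuasiCompact (f ≫ g)] [QuasiSeparated (f ≫ g)]
    (F : X.Modules) [F.IsQuasicoherent] (hF : CohB1.IsFP F) :
    IsLocallyConstructible (FFX f g F) := by
  intro x
  obtain ⟨V, hV, hxV⟩ : ∃ V : S.Opens, IsAffineOpen V ∧ (f ≫ g) x ∈ V := by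
    obtain ⟨_, ⟨V, hV, rfl⟩, hxV, -⟩ :=
      S.isBasis_affineOpens.exists_subset_of_mem_open (Set.mem_univ ((f ≫ g) x)) isOpen_univ
    exact ⟨V, hV, hxV⟩
  have hcons := isConstructible_preimage_FFX f g F hF V hV
  set j := pullback.fst f (pullback.fst g V.ι) with hj
  have hrange : Set.range j = (f ≫ g) ⁻¹' (V : Set S) := by
    rw [hj, Scheme.Pullback.range_fst, Scheme.Pullback.range_fst, Scheme.Opens.range_ι]
    rfl
  have hjo : IsOpenEmbedding j := j.isOpenEmbedding
  let e : ↥(pullback f (pullback.fst g V.ι)) ≃ₜ Set.range j := hjo.isEmbedding.toHomeomorph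
  have hx : x ∈ Set.range j := by rw [hrange]; exact hxV
  refine ⟨Set.range j, hjo.isOpen_range.mem_nhds hx, hjo.isOpen_range, ?_⟩
  have h2 := hcons.preimage_of_isOpenEmbedding e.symm.isOpenEmbedding
  convert h2 using 1
  ext ⟨y, z, rfl⟩
  have hz : e z = ⟨j z, ⟨z, rfl⟩⟩ := rfl
  simp only [Set.mem_preimage]
  rw [← hz, e.symm_apply_apply]

end Groth.Agent.Lib.Helper20.FlatBC
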