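import Mathlib
import Groth.Agent.Lib.Helper20.FlatBC6
import Groth.Agent.Lib.Helper17.FibreCritSch

/-!
# Helper20: the algebraic form of fibrewise flatness is equivalent to the scheme form
-/

set_option autoImplicit false
set_option linter.style.haveILetI false
set_option linter.unusedSectionVars false
universe u
open TensorProduct CategoryTheory CategoryTheory.Limits AlgebraicGeometry Topology

namespace Groth.Agent.Lib.Helper20.FlatBC

open Groth.Agent.Lib.Helper17 Groth.Agent.Lib.Helper3 Groth.Agent.Lib.Helper1.FibreFlatSq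
  Groth.Agent.Lib.Helper6

set_option maxHeartbeats 800000 in
/-- converse of `flat_quot_of_square`. -/
theorem flat_of_flat_quot_of_square {A B C C' M N : Type u} [CommRing A] [CommRing B] [CommRing C]
    [CommRing C'] [Algebra A B] [Algebra A C] [Algebra C C'] [Algebra B C']
    [AddCommGroup M] [Module C M] [Module A M] [IsScalarTower A C M]
    [AddCommGroup N] [Module C' N] [Module C N] [IsScalarTower C C' N]
    [Module B N] [IsScalarTower B C' N]
    (hsq : (algebraMap B C').comp (algebraMap A B) = (algebraMap C C').comp (algebraMap A C))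
    (hAB : Function.Surjective (algebraMap A B))
    (hCC' : Function.Surjective (algebraMap C C'))
    (hker : RingHom.ker (algebraMap C C') =
      Ideal.map (algebraMap A C) (RingHom.ker (algebraMap A B)))
    (γ : M →ₗ[C] N) (hγ : IsBaseChange C' γ)
    (hfl : Module.Flat (A ⧸ RingHom.ker (algebraMap A B))
      (M ⧸ (RingHom.ker (algebraMap A B) • (⊤ : Submodule A M)))) :
    Module.Flat B N := by
  obtain ⟨hsurj, hkerγ⟩ := surj_ker_of_isBaseChange hCC' γ hγ
  set I := RingHom.ker (algebraMap A B) with hI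
  letI mAN : Module A N := Module.compHom N (algebraMap A B)
  haveI tABN : IsScalarTower A B N := ⟨fun a b n => by
    rw [Algebra.smul_def, mul_smul]
    rfl⟩
  have hsm : ∀ (a : A) (n : N), a • n = (algebraMap A C a) • n := by
    intro a n
    change algebraMap A B a • n = _
    rw [← algebraMap_smul C' (algebraMap A B a) n, ← algebraMap_smul C' (algebraMap A C a) n]
    congr 1
    exact congr($hsq a)
  let γA : M →ₗ[A] N :=
    { toFun := γ
      map_add' := map_add γ
      map_smul' := fun a m => by
        change γ (a • m) = a • γ m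
        rw [hsm, ← algebraMap_smul C a m, map_smul] }
  have hkerA : ∀ m, γA m = 0 → m ∈ I • (⊤ : Submodule A M) := by
    intro m hm
    have h1 := hkerγ m hm
    rw [hker] at h1
    have h2 := Ideal.smul_restrictScalars (S := C) (M := M) I (⊤ : Submodule C M)
    rw [Submodule.restrictScalars_top] at h2
    rw [← h2]
    exact h1
  let ℓ : B ⊗[A] M →ₗ[B] N := (TensorProduct.isBaseChange A M B).lift γA
  have hℓ : ∀ m, ℓ (1 ⊗ₜ m) = γA m := fun m =>
    (TensorProduct.isBaseChange A M B).lift_eq γA m
  have hrep : ∀ t : B ⊗[A] M, ∃ m, t = 1 ⊗ₜ m := by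
    intro t
    induction t using TensorProduct.induction_on with
    | zero => exact ⟨0, (TensorProduct.tmul_zero _ _).symm⟩
    | tmul b m =>
      obtain ⟨a, rfl⟩ := hAB b
      refine ⟨a • m, ?_⟩
      rw [← TensorProduct.smul_tmul, Algebra.smul_def, mul_one]
    | add t₁ t₂ h₁ h₂ =>
      obtain ⟨m₁, rfl⟩ := h₁
      obtain ⟨m₂, rfl⟩ := h₂
      exact ⟨m₁ + m₂, (TensorProduct.tmul_add _ _ _).symm⟩
  have hinj : Function.Injective ℓ := by
    rw [injective_iff_map_eq_zero]
    intro t ht
    obtain ⟨m, rfl⟩ := hrep t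
    rw [hℓ] at ht
    have hm := hkerA m ht
    refine Submodule.smul_induction_on (p := fun m => (1 : B) ⊗ₜ[A] m = 0) hm ?_ ?_
    · intro a ha m' _
      change (1 : B) ⊗ₜ[A] (a • m') = 0
      rw [← TensorProduct.smul_tmul, Algebra.smul_def, mul_one,
        (RingHom.mem_ker).mp ha, TensorProduct.zero_tmul]
    · intro x y hx hy
      change (1 : B) ⊗ₜ[A] (x + y) = 0
      rw [TensorProduct.tmul_add, hx, hy, add_zero]
  have hsurjℓ : Function.Surjective ℓ := by
    intro n
    obtain ⟨m, rfl⟩ := hsurj n
    exact ⟨1 ⊗ₜ m, hℓ m⟩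
  -- the reverse chain
  letI aIB : Algebra (A ⧸ I) B :=
    (Ideal.Quotient.lift I (algebraMap A B) (fun a ha => ha)).toAlgebra
  haveI : IsScalarTower A (A ⧸ I) B := IsScalarTower.of_algebraMap_eq (fun a => rfl)
  haveI h1 : Module.Flat (A ⧸ I) ((A ⧸ I) ⊗[A] M) := (FibreCritSch.flat_quot_iff I).mpr hfl
  haveI h2 : Module.Flat B (B ⊗[A ⧸ I] ((A ⧸ I) ⊗[A] M)) := inferInstance
  have e2 : B ⊗[A ⧸ I] ((A ⧸ I) ⊗[A] M) ≃ₗ[B] B ⊗[A] M :=
    TensorProduct.AlgebraTensorModule.cancelBaseChange A (A ⧸ I) B B M
  haveI h3 : Module.Flat B (B ⊗[A] M) := Module.Flat.of_linearEquiv e2.symm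
  exact Module.Flat.of_linearEquiv (LinearEquiv.ofBijective ℓ ⟨hinj, hsurjℓ⟩).symm

section

variable {X Y S : Scheme.{u}} (g : X ⟶ Y) (h : Y ⟶ S) (F : X.Modules) (s : S)
  (x' : ↥(pullback (g ≫ h) (S.fromSpecResidueField s)))

local notation "ιX" => pullback.fst (g ≫ h) (S.fromSpecResidueField s)
local notation "ιY" => pullback.fst h (S.fromSpecResidueField s)
local notation "gs" => fibreMap g h s

set_option maxHeartbeats 1600000 in
theorem isFlatOverAt_fibre_of_flat_quot [F.IsQuasicoherent]
    (hq : letI := FlatMod.moduleStalkOver g F ((ιX).base x')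
      Module.Flat
      (Y.presheaf.stalk (g.base ((ιX).base x')) ⧸
        Ideal.map (h.stalkMap (g.base ((ιX).base x'))).hom
          (IsLocalRing.maximalIdeal (S.presheaf.stalk (h.base (g.base ((ιX).base x'))))))
      (F.presheaf.stalk ((ιX).base x') ⧸
        (Ideal.map (h.stalkMap (g.base ((ιX).base x'))).hom
          (IsLocalRing.maximalIdeal (S.presheaf.stalk (h.base (g.base ((ιX).base x'))))) •
          (⊤ : Submodule (Y.presheaf.stalk (g.base ((ιX).base x')))
            (F.presheaf.stalk ((ιX).base x')))))) :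
    FlatMod.IsFlatOverAt gs ((Scheme.Modules.pullback ιX).obj F) x' := by
  have hsq : gs ≫ ιY = ιX ≫ g := pullback.lift_fst _ _ _
  have hpt : g.base ((ιX).base x') = (ιY).base ((gs).base x') :=
    congr(($hsq).base x').symm
  let θ : Y.presheaf.stalk (g.base ((ιX).base x')) ⟶ Y.presheaf.stalk ((ιY).base ((gs).base x')) :=
    (Y.presheaf.stalkCongr (.of_eq hpt)).hom
  obtain ⟨hsurjY, hkerY⟩ := FibreStalkMap.stalkMap_fiberι h s ((gs).base x')
  obtain ⟨hsurjX, hkerX⟩ := FibreStalkMap.stalkMap_fiberι (g ≫ h) s x'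
  letI aAB : Algebra (Y.presheaf.stalk (g.base ((ιX).base x')))
      ((pullback h (S.fromSpecResidueField s)).presheaf.stalk ((gs).base x')) :=
    (θ ≫ (ιY).stalkMap ((gs).base x')).hom.toAlgebra
  letI aAC : Algebra (Y.presheaf.stalk (g.base ((ιX).base x')))
      (X.presheaf.stalk ((ιX).base x')) := (g.stalkMap ((ιX).base x')).hom.toAlgebra
  letI aCC' : Algebra (X.presheaf.stalk ((ιX).base x'))
      ((pullback (g ≫ h) (S.fromSpecResidueField s)).presheaf.stalk x') :=
    ((ιX).stalkMap x').hom.toAlgebra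
  letI aBC' : Algebra ((pullback h (S.fromSpecResidueField s)).presheaf.stalk ((gs).base x'))
      ((pullback (g ≫ h) (S.fromSpecResidueField s)).presheaf.stalk x') :=
    ((gs).stalkMap x').hom.toAlgebra
  letI mAM : Module (Y.presheaf.stalk (g.base ((ιX).base x')))
      (F.presheaf.stalk ((ιX).base x')) := FlatMod.moduleStalkOver g F ((ιX).base x')
  haveI tACM : IsScalarTower (Y.presheaf.stalk (g.base ((ιX).base x')))
      (X.presheaf.stalk ((ιX).base x')) (F.presheaf.stalk ((ιX).base x')) :=
    ⟨fun a c m => mul_smul ((g.stalkMap ((ιX).base x')).hom a) c m⟩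
  letI mCN : Module (X.presheaf.stalk ((ιX).base x'))
      (((Scheme.Modules.pullback ιX).obj F).presheaf.stalk x') :=
    Module.compHom _ ((ιX).stalkMap x').hom
  letI mBN : Module ((pullback h (S.fromSpecResidueField s)).presheaf.stalk ((gs).base x'))
      (((Scheme.Modules.pullback ιX).obj F).presheaf.stalk x') :=
    FlatMod.moduleStalkOver gs ((Scheme.Modules.pullback ιX).obj F) x'
  haveI tBC'N : IsScalarTower
      ((pullback h (S.fromSpecResidueField s)).presheaf.stalk ((gs).base x'))
      ((pullback (g ≫ h) (S.fromSpecResidueField s)).presheaf.stalk x')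
      (((Scheme.Modules.pullback ιX).obj F).presheaf.stalk x') :=
    ⟨fun b c n => mul_smul (((gs).stalkMap x').hom b) c n⟩
  obtain ⟨hst, γ, hγ⟩ := PbStalk.exists_isBaseChange_stalk ιX F x'
  haveI := hst
  -- the square of stalk maps
  have e1 := Scheme.Hom.stalkMap_comp gs ιY x'
  have e2 := Scheme.Hom.stalkMap_comp ιX g x'
  have e3 := Scheme.Hom.stalkMap_congr_hom (ιX ≫ g) (gs ≫ ιY) hsq.symm x'
  rw [e1] at e3
  have e4 := e3.symm.trans e2
  have hsqR : (algebraMap ((pullback h (S.fromSpecResidueField s)).presheaf.stalk ((gs).base x'))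
      ((pullback (g ≫ h) (S.fromSpecResidueField s)).presheaf.stalk x')).comp
      (algebraMap (Y.presheaf.stalk (g.base ((ιX).base x')))
        ((pullback h (S.fromSpecResidueField s)).presheaf.stalk ((gs).base x'))) =
      (algebraMap (X.presheaf.stalk ((ιX).base x'))
        ((pullback (g ≫ h) (S.fromSpecResidueField s)).presheaf.stalk x')).comp
      (algebraMap (Y.presheaf.stalk (g.base ((ιX).base x'))) (X.presheaf.stalk ((ιX).base x'))) :=
    RingHom.ext fun a => congr(($e4).hom a)
  have hθ : Function.Surjective θ.hom :=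
    (Y.presheaf.stalkCongr (.of_eq hpt)).commRingCatIsoToRingEquiv.surjective
  have hAB : Function.Surjective (algebraMap (Y.presheaf.stalk (g.base ((ιX).base x')))
      ((pullback h (S.fromSpecResidueField s)).presheaf.stalk ((gs).base x'))) :=
    hsurjY.comp hθ
  have hkerAB : RingHom.ker (algebraMap (Y.presheaf.stalk (g.base ((ιX).base x')))
      ((pullback h (S.fromSpecResidueField s)).presheaf.stalk ((gs).base x'))) =
      Ideal.map (h.stalkMap (g.base ((ιX).base x'))).hom
        (IsLocalRing.maximalIdeal (S.presheaf.stalk (h.base (g.base ((ιX).base x'))))) := by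
    change RingHom.ker (((ιY).stalkMap ((gs).base x')).hom.comp θ.hom) = _
    rw [← RingHom.comap_ker]
    have := FibreStalkMap.comap_stalkCongr_fiberIdeal h ((ιY).base ((gs).base x'))
      (g.base ((ιX).base x')) hpt (.of_eq hpt)
    refine Eq.trans ?_ this
    congr 1
  have hker : RingHom.ker (algebraMap (X.presheaf.stalk ((ιX).base x'))
        ((pullback (g ≫ h) (S.fromSpecResidueField s)).presheaf.stalk x')) =
      Ideal.map (algebraMap (Y.presheaf.stalk (g.base ((ιX).base x')))
        (X.presheaf.stalk ((ιX).base x')))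
        (RingHom.ker (algebraMap (Y.presheaf.stalk (g.base ((ιX).base x')))
          ((pullback h (S.fromSpecResidueField s)).presheaf.stalk ((gs).base x')))) := by
    rw [hkerAB, Ideal.map_map]
    refine hkerX.trans ?_
    rw [Scheme.Hom.stalkMap_comp]
    rfl
  rw [← hkerAB] at hq
  have key := flat_of_flat_quot_of_square
    (A := Y.presheaf.stalk (g.base ((ιX).base x')))
    (B := (pullback h (S.fromSpecResidueField s)).presheaf.stalk ((gs).base x'))
    (C := X.presheaf.stalk ((ιX).base x'))
    (C' := (pullback (g ≫ h) (S.fromSpecResidueField s)).presheaf.stalk x')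
    hsqR hAB hsurjX hker γ hγ hq
  exact key

end

end Groth.Agent.Lib.Helper20.FlatBC
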