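import Mathlib
import Groth.Agent.Lib.Helper20.FlatBC9
import Groth.Agent.Lib.Helper12.ConstrNhds

/-!
# Helper20: the locus of points of the base over which the fibre module is fibrewise flat
-/

set_option autoImplicit false
set_option linter.style.haveILetI false
set_option linter.unusedSectionVars false
universe u
open CategoryTheory CategoryTheory.Limits AlgebraicGeometry Topology

namespace Groth.Agent.Lib.Helper20.FlatBC

open Groth.Agent.Lib.Helper17 Groth.Agent.Lib.Helper3 Groth.Agent.Lib.Helper1.FibreFlatSq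

theorem mem_FFX_iff_flat_quot {X Y S : Scheme.{u}} (f : X ⟶ Y) (h : Y ⟶ S) (F : X.Modules)
    [F.IsQuasicoherent] (x : X) :
    x ∈ FFX f h F ↔ (letI := FlatMod.moduleStalkOver f F x
      Module.Flat (↑(Y.presheaf.stalk (f x)) ⧸ Ideal.map (h.stalkMap (f x)).hom
          (IsLocalRing.maximalIdeal ↑(S.presheaf.stalk (h (f x)))))
        (↑(F.presheaf.stalk x) ⧸ (Ideal.map (h.stalkMap (f x)).hom
          (IsLocalRing.maximalIdeal ↑(S.presheaf.stalk (h (f x)))) •
          (⊤ : Submodule ↑(Y.presheaf.stalk (f x)) ↑(F.presheaf.stalk x))))) := by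
  obtain ⟨s, z, hz⟩ : ∃ (s : S) (z : ↥(pullback (f ≫ h) (S.fromSpecResidueField s))),
      (pullback.fst (f ≫ h) (S.fromSpecResidueField s)) z = x :=
    ⟨_, (f ≫ h).asFiber x, (f ≫ h).fiberι_asFiber x⟩
  subst hz
  constructor
  · intro hx
    exact flat_quot_of_isFlatOverAt_fibre f h F s z (hx s z rfl)
  · intro hq s' z' hz'
    have hs : s' = s := by
      have h1 := apply_fst (f ≫ h) s' z'
      rw [hz', apply_fst (f ≫ h) s z] at h1
      exact h1.symm
    subst hs
    have hzz : z' = z := fst_injective (f ≫ h) s' hz'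
    subst hzz
    exact isFlatOverAt_fibre_of_flat_quot f h F s' z' hq

theorem isLocallyConstructible_setOf_forall_flat_quot {X Y S : Scheme.{u}} (f : X ⟶ Y)
    (h : Y ⟶ S)
    [LocallyOfFinitePresentation (f ≫ h)] [QuasiCompact (f ≫ h)] [QuasiSeparated (f ≫ h)]
    [LocallyOfFinitePresentation h] [QuasiCompact h] [QuasiSeparated h]
    (F : X.Modules) [F.IsQuasicoherent] (hF : CohB1.IsFP F) :
    IsLocallyConstructible {s : S | ∀ x : X, (f ≫ h) x = s →
      letI := FlatMod.moduleStalkOver f F x
      Module.Flat (↑(Y.presheaf.stalk (f x)) ⧸ Ideal.map (h.stalkMap (f x)).hom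
          (IsLocalRing.maximalIdeal ↑(S.presheaf.stalk (h (f x)))))
        (↑(F.presheaf.stalk x) ⧸ (Ideal.map (h.stalkMap (f x)).hom
          (IsLocalRing.maximalIdeal ↑(S.presheaf.stalk (h (f x)))) •
          (⊤ : Submodule ↑(Y.presheaf.stalk (f x)) ↑(F.presheaf.stalk x))))} := by
  have h1 := isLocallyConstructible_FFX f h F hF
  have h2 := Groth.Agent.Lib.Helper12.ConstrNhds.isLocallyConstructible_compl h1
  have h3 := (f ≫ h).isLocallyConstructible_image h2
  have h4 := Groth.Agent.Lib.Helper12.ConstrNhds.isLocallyConstructible_compl h3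
  convert h4 using 1
  ext s
  simp only [Set.mem_ofPred_eq, Set.mem_compl_iff, Set.mem_image, not_exists, not_and]
  constructor
  · intro hs x hx hxs
    exact hx ((mem_FFX_iff_flat_quot f h F x).2 (hs x hxs))
  · intro hs x hxs
    by_contra hq
    exact hs x (fun hx => hq ((mem_FFX_iff_flat_quot f h F x).1 hx)) hxs

end Groth.Agent.Lib.Helper20.FlatBC
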