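import Mathlib
import Groth.Agent.Lib.Helper20.FlatBC3

/-!
# Helper20: the fibrewise flat locus under flat changes of `X` and `Y` over a fixed base
-/

set_option autoImplicit false
set_option linter.style.haveILetI false
universe u
open CategoryTheory CategoryTheory.Limits AlgebraicGeometry

namespace Groth.Agent.Lib.Helper20.FlatBC

open Groth.Agent.Lib.Helper17 Groth.Agent.Lib.Helper3 Groth.Agent.Lib.Helper1.FibreFlatSq

section FibRes

variable {S Z Z' : Scheme.{u}} (p' : Z' ⟶ S) (p : Z ⟶ S) (j : Z' ⟶ Z) (hj : j ≫ p = p') (s : S)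

/-- the map induced on fibres over `s` by an `S`-morphism `j`. -/
noncomputable def fibRes :
    pullback p' (S.fromSpecResidueField s) ⟶ pullback p (S.fromSpecResidueField s) :=
  pullback.lift (pullback.fst p' _ ≫ j) (pullback.snd p' _)
    (by rw [Category.assoc, hj]; exact pullback.condition)

@[reassoc]
theorem fibRes_fst : fibRes p' p j hj s ≫ pullback.fst p (S.fromSpecResidueField s) =
    pullback.fst p' (S.fromSpecResidueField s) ≫ j := pullback.lift_fst _ _ _

@[reassoc]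
theorem fibRes_snd : fibRes p' p j hj s ≫ pullback.snd p (S.fromSpecResidueField s) =
    pullback.snd p' (S.fromSpecResidueField s) := pullback.lift_snd _ _ _

theorem isPullback_fibRes : IsPullback (fibRes p' p j hj s)
    (pullback.fst p' (S.fromSpecResidueField s)) (pullback.fst p (S.fromSpecResidueField s)) j := by
  have big := (IsPullback.of_hasPullback p' (S.fromSpecResidueField s)).flip
  rw [← fibRes_snd p' p j hj s] at big
  subst hj
  exact IsPullback.of_right big (fibRes_fst _ p j rfl s)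
    (IsPullback.of_hasPullback p (S.fromSpecResidueField s)).flip

theorem flat_fibRes [Flat j] : Flat (fibRes p' p j hj s) :=
  MorphismProperty.of_isPullback (P := @Flat) (isPullback_fibRes p' p j hj s).flip inferInstance

end FibRes

section Change

variable {X Y S X₂ Y₂ : Scheme.{u}} {f : X ⟶ Y} {h : Y ⟶ S} {f₂ : X₂ ⟶ Y₂} {h₂ : Y₂ ⟶ S}
  {jX : X₂ ⟶ X} {jY : Y₂ ⟶ Y}

theorem comp_eq_of_squares (w : jX ≫ f = f₂ ≫ jY) (hh : jY ≫ h = h₂) :
    jX ≫ (f ≫ h) = f₂ ≫ h₂ := by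
  rw [← Category.assoc, w, Category.assoc, hh]

theorem fibRes_fibreMap (w : jX ≫ f = f₂ ≫ jY) (hh : jY ≫ h = h₂) (s : S) :
    fibRes (f₂ ≫ h₂) (f ≫ h) jX (comp_eq_of_squares w hh) s ≫ fibreMap f h s =
      fibreMap f₂ h₂ s ≫ fibRes h₂ h jY hh s := by
  apply pullback.hom_ext
  · simp only [Category.assoc]
    rw [fibRes_fst]
    unfold fibreMap
    rw [pullback.lift_fst, pullback.lift_fst_assoc, fibRes_fst_assoc, w, Category.assoc]
  · simp only [Category.assoc]
    rw [fibRes_snd]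
    unfold fibreMap
    rw [pullback.lift_snd, pullback.lift_snd, fibRes_snd]

/-- comparison of the two pullbacks of `F` to the fibre of `X₂`. -/
noncomputable def fibResIso (w : jX ≫ f = f₂ ≫ jY) (hh : jY ≫ h = h₂) (F : X.Modules) (s : S) :
    (Scheme.Modules.pullback (pullback.fst (f₂ ≫ h₂) (S.fromSpecResidueField s))).obj
        ((Scheme.Modules.pullback jX).obj F) ≅
      (Scheme.Modules.pullback (fibRes (f₂ ≫ h₂) (f ≫ h) jX (comp_eq_of_squares w hh) s)).obj
        ((Scheme.Modules.pullback (pullback.fst (f ≫ h) (S.fromSpecResidueField s))).obj F) :=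
  (Scheme.Modules.pullbackComp _ jX).app F ≪≫ eqToIso (by rw [fibRes_fst]) ≪≫
    ((Scheme.Modules.pullbackComp
      (fibRes (f₂ ≫ h₂) (f ≫ h) jX (comp_eq_of_squares w hh) s) _).app F).symm

theorem isPullback_fibRes_fibreMap (w : jX ≫ f = f₂ ≫ jY) (hh : jY ≫ h = h₂)
    (hpb : IsPullback jX f₂ f jY) (s : S) :
    IsPullback (fibRes (f₂ ≫ h₂) (f ≫ h) jX (comp_eq_of_squares w hh) s) (fibreMap f₂ h₂ s)
      (fibreMap f h s) (fibRes h₂ h jY hh s) := by
  have A := isPullback_fibreMap f₂ h₂ s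
  have C := A.paste_horiz hpb
  rw [← fibRes_fst (f₂ ≫ h₂) (f ≫ h) jX (comp_eq_of_squares w hh) s,
    ← fibRes_fst h₂ h jY hh s] at C
  exact IsPullback.of_right C (fibRes_fibreMap w hh s) (isPullback_fibreMap f h s)

/-- descent direction. -/
theorem FFX_subset_preimage_of_flat (w : jX ≫ f = f₂ ≫ jY) (hh : jY ≫ h = h₂)
    [Flat jX] [Flat jY] (F : X.Modules) [F.IsQuasicoherent] :
    FFX f₂ h₂ ((Scheme.Modules.pullback jX).obj F) ⊆ jX ⁻¹' FFX f h F := by
  intro x₂ hx₂ s z hz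
  have hs : s = (f₂ ≫ h₂) x₂ := by
    have h1 := apply_fst (f ≫ h) s z
    rw [hz] at h1
    rw [← h1, ← Scheme.Hom.comp_apply, comp_eq_of_squares w hh]
  subst hs
  have h2 := hx₂ ((f₂ ≫ h₂) x₂) ((f₂ ≫ h₂).asFiber x₂) ((f₂ ≫ h₂).fiberι_asFiber x₂)
  haveI : ((Scheme.Modules.pullback
      (pullback.fst (f ≫ h) (S.fromSpecResidueField ((f₂ ≫ h₂) x₂)))).obj F).IsQuasicoherent :=
    PbStalk.isQuasicoherent_pullback _ F
  haveI := flat_fibRes (f₂ ≫ h₂) (f ≫ h) jX (comp_eq_of_squares w hh) ((f₂ ≫ h₂) x₂)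
  haveI := flat_fibRes h₂ h jY hh ((f₂ ≫ h₂) x₂)
  have h3 := isFlatOverAt_of_flat_square (fibreMap f h ((f₂ ≫ h₂) x₂))
    (fibreMap f₂ h₂ ((f₂ ≫ h₂) x₂))
    (fibRes (f₂ ≫ h₂) (f ≫ h) jX (comp_eq_of_squares w hh) ((f₂ ≫ h₂) x₂))
    (fibRes h₂ h jY hh ((f₂ ≫ h₂) x₂)) (fibRes_fibreMap w hh _) _ ((f₂ ≫ h₂).asFiber x₂)
    (Flat.stalkMap _ _) (Flat.stalkMap _ _)
    (PbFlatOver.isFlatOverAt_of_iso _ (fibResIso w hh F _) _ h2)
  have hz2 : fibRes (f₂ ≫ h₂) (f ≫ h) jX (comp_eq_of_squares w hh) ((f₂ ≫ h₂) x₂)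
      ((f₂ ≫ h₂).asFiber x₂) = z := by
    apply fst_injective (f ≫ h) _
    rw [hz, ← Scheme.Hom.comp_apply, fibRes_fst, Scheme.Hom.comp_apply]
    exact congrArg _ ((f₂ ≫ h₂).fiberι_asFiber x₂)
  rw [hz2] at h3
  exact h3

/-- base change direction. -/
theorem preimage_FFX_subset_of_isPullback (w : jX ≫ f = f₂ ≫ jY) (hh : jY ≫ h = h₂)
    (hpb : IsPullback jX f₂ f jY) (F : X.Modules) [F.IsQuasicoherent] :
    jX ⁻¹' FFX f h F ⊆ FFX f₂ h₂ ((Scheme.Modules.pullback jX).obj F) := by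
  intro x₂ hx₂ s z₂ hz₂
  have h1 := hx₂ s (fibRes (f₂ ≫ h₂) (f ≫ h) jX (comp_eq_of_squares w hh) s z₂) (by
    rw [← Scheme.Hom.comp_apply, fibRes_fst, Scheme.Hom.comp_apply, hz₂])
  haveI : ((Scheme.Modules.pullback
      (pullback.fst (f ≫ h) (S.fromSpecResidueField s))).obj F).IsQuasicoherent :=
    PbStalk.isQuasicoherent_pullback _ F
  have h2 := FibreFlat.isFlatOverAt_baseChange (isPullback_fibRes_fibreMap w hh hpb s) _ z₂ h1
  exact PbFlatOver.isFlatOverAt_of_iso _ (fibResIso w hh F s).symm z₂ h2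

theorem FFX_eq_preimage_of_isPullback (w : jX ≫ f = f₂ ≫ jY) (hh : jY ≫ h = h₂)
    (hpb : IsPullback jX f₂ f jY) [Flat jX] [Flat jY] (F : X.Modules) [F.IsQuasicoherent] :
    FFX f₂ h₂ ((Scheme.Modules.pullback jX).obj F) = jX ⁻¹' FFX f h F :=
  subset_antisymm (FFX_subset_preimage_of_flat w hh F)
    (preimage_FFX_subset_of_isPullback w hh hpb F)

end Change

section Source

variable {X Y S X₂ : Scheme.{u}} (f : X ⟶ Y) (h : Y ⟶ S) (jX : X₂ ⟶ X)

theorem fibRes_fibreMap_source (s : S) :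
    fibRes ((jX ≫ f) ≫ h) (f ≫ h) jX (Category.assoc _ _ _).symm s ≫ fibreMap f h s =
      fibreMap (jX ≫ f) h s := by
  apply pullback.hom_ext
  · simp only [Category.assoc]
    unfold fibreMap
    rw [pullback.lift_fst, pullback.lift_fst, fibRes_fst_assoc]
  · simp only [Category.assoc]
    unfold fibreMap
    rw [pullback.lift_snd, pullback.lift_snd, fibRes_snd]

/-- restriction of the source along a flat morphism. -/
theorem FFX_source_eq_preimage [Flat jX] (F : X.Modules) [F.IsQuasicoherent] :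
    FFX (jX ≫ f) h ((Scheme.Modules.pullback jX).obj F) = jX ⁻¹' FFX f h F := by
  apply subset_antisymm
  · have := FFX_subset_preimage_of_flat (f := f) (h := h) (f₂ := jX ≫ f) (h₂ := h) (jX := jX)
      (jY := 𝟙 Y) (Category.comp_id _).symm (Category.id_comp _) F
    exact this
  · intro x₂ hx₂ s z₂ hz₂
    have h1 := hx₂ s (fibRes ((jX ≫ f) ≫ h) (f ≫ h) jX (Category.assoc _ _ _).symm s z₂) (by
      rw [← Scheme.Hom.comp_apply, fibRes_fst, Scheme.Hom.comp_apply, hz₂])
    haveI : ((Scheme.Modules.pullback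
        (pullback.fst (f ≫ h) (S.fromSpecResidueField s))).obj F).IsQuasicoherent :=
      PbStalk.isQuasicoherent_pullback _ F
    haveI := flat_fibRes ((jX ≫ f) ≫ h) (f ≫ h) jX (Category.assoc _ _ _).symm s
    have h2 := (Groth.Agent.S9350.result
      (fibRes ((jX ≫ f) ≫ h) (f ≫ h) jX (Category.assoc _ _ _).symm s) (fibreMap f h s) _
      ‹_› z₂ (Flat.stalkMap _ _)).1 h1
    rw [fibRes_fibreMap_source] at h2
    let e : (Scheme.Modules.pullback (pullback.fst ((jX ≫ f) ≫ h) (S.fromSpecResidueField s))).obj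
          ((Scheme.Modules.pullback jX).obj F) ≅
        (Scheme.Modules.pullback
          (fibRes ((jX ≫ f) ≫ h) (f ≫ h) jX (Category.assoc _ _ _).symm s)).obj
          ((Scheme.Modules.pullback (pullback.fst (f ≫ h) (S.fromSpecResidueField s))).obj F) :=
      (Scheme.Modules.pullbackComp _ jX).app F ≪≫ eqToIso (by rw [fibRes_fst]) ≪≫
        ((Scheme.Modules.pullbackComp
          (fibRes ((jX ≫ f) ≫ h) (f ≫ h) jX (Category.assoc _ _ _).symm s) _).app F).symm
    exact PbFlatOver.isFlatOverAt_of_iso _ e.symm z₂ h2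

end Source

end Groth.Agent.Lib.Helper20.FlatBC
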