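import Mathlib
import Groth.Agent.Lib.Helper20.FlatBC6
import Groth.Agent.Lib.Helper20.FlatBC7

/-!
# Helper20: local constructibility of the fibrewise flat locus, locally finitely presented case,
and the description of `FFX` by arbitrary models of the fibres
-/

set_option autoImplicit false
set_option linter.style.haveILetI false
set_option linter.unusedSectionVars false
universe u
open CategoryTheory CategoryTheory.Limits AlgebraicGeometry Topology TopologicalSpace

namespace Groth.Agent.Lib.Helper20.FlatBC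

open Groth.Agent.Lib.Helper12.ConsMorLocus Groth.Agent.Lib.Helper17 Groth.Agent.Lib.Helper3
  Groth.Agent.Lib.Helper1.FibreFlatSq

theorem mem_FFX_iff_forall_models {X Y S : Scheme.{u}} (f : X ⟶ Y) (h : Y ⟶ S)
    (F : X.Modules) [F.IsQuasicoherent] (x : X) :
    x ∈ FFX f h F ↔ ∀ (Xs Ys : Scheme.{u}) (ιX : Xs ⟶ X) (ιY : Ys ⟶ Y) (fs : Xs ⟶ Ys)
      (pY : Ys ⟶ Spec (S.residueField ((f ≫ h).base x))),
      IsPullback ιY pY h (S.fromSpecResidueField ((f ≫ h).base x)) → IsPullback ιX fs f ιY →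
        ∀ x' : ↥Xs, ιX.base x' = x →
          FlatMod.IsFlatOverAt fs ((Scheme.Modules.pullback ιX).obj F) x' := by
  constructor
  · intro hx Xs Ys ιX ιY fs pY hYs hXs x' hx'
    have hbig := hXs.paste_vert hYs
    have comm : hbig.isoPullback.hom ≫ fibreMap f h ((f ≫ h).base x) =
        fs ≫ hYs.isoPullback.hom := by
      apply pullback.hom_ext
      · simp only [Category.assoc]
        unfold fibreMap
        rw [pullback.lift_fst, IsPullback.isoPullback_hom_fst,
          IsPullback.isoPullback_hom_fst_assoc, hXs.w]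
      · simp only [Category.assoc]
        unfold fibreMap
        rw [pullback.lift_snd, IsPullback.isoPullback_hom_snd,
          IsPullback.isoPullback_hom_snd]
    have hpb : IsPullback hbig.isoPullback.hom fs (fibreMap f h ((f ≫ h).base x))
        hYs.isoPullback.hom := IsPullback.of_horiz_isIso ⟨comm⟩
    have h1 := hx ((f ≫ h).base x) (hbig.isoPullback.hom x') (by
      rw [← Scheme.Hom.comp_apply, IsPullback.isoPullback_hom_fst]
      exact hx')
    haveI : ((Scheme.Modules.pullback (pullback.fst (f ≫ h)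
        (S.fromSpecResidueField ((f ≫ h).base x)))).obj F).IsQuasicoherent :=
      PbStalk.isQuasicoherent_pullback _ F
    have h2 := FibreFlat.isFlatOverAt_baseChange hpb _ x' h1
    let e : (Scheme.Modules.pullback hbig.isoPullback.hom).obj
        ((Scheme.Modules.pullback (pullback.fst (f ≫ h)
          (S.fromSpecResidueField ((f ≫ h).base x)))).obj F) ≅
        (Scheme.Modules.pullback ιX).obj F :=
      (Scheme.Modules.pullbackComp hbig.isoPullback.hom _).app F ≪≫
        eqToIso (by rw [IsPullback.isoPullback_hom_fst])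
    exact PbFlatOver.isFlatOverAt_of_iso _ e x' h2
  · intro hE s z hz
    have hs : (f ≫ h).base x = s := by
      have h1 := apply_fst (f ≫ h) s z
      rw [hz] at h1
      exact h1
    subst hs
    exact hE _ _ _ _ (fibreMap f h _) _ (IsPullback.of_hasPullback h _)
      (isPullback_fibreMap f h _) z hz

set_option maxHeartbeats 1600000 in
theorem isLocallyConstructible_FFX_lfp {X Y S : Scheme.{u}} (f : X ⟶ Y) (h : Y ⟶ S)
    [LocallyOfFinitePresentation h] [LocallyOfFinitePresentation (f ≫ h)]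
    (F : X.Modules) [F.IsQuasicoherent] (hF : CohB1.IsFP F) :
    IsLocallyConstructible (FFX f h F) := by
  intro x
  haveI : SheafOfModules.IsFinitePresentation (R := X.ringCatSheaf) F := hF
  -- Step 1: shrink the base
  obtain ⟨W, hW, hxW⟩ : ∃ W : S.Opens, IsAffineOpen W ∧ (f ≫ h) x ∈ W := by
    obtain ⟨_, ⟨W, hW, rfl⟩, hxW, -⟩ :=
      S.isBasis_affineOpens.exists_subset_of_mem_open (Set.mem_univ ((f ≫ h) x)) isOpen_univ
    exact ⟨W, hW, hxW⟩
  have e1 : FFX (bcMor f h W.ι) (pullback.snd h W.ι)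
      ((Scheme.Modules.pullback (pullback.fst f (pullback.fst h W.ι))).obj F) =
      (pullback.fst f (pullback.fst h W.ι)) ⁻¹' FFX f h F :=
    FFX_baseChange' (IsPullback.of_hasPullback h W.ι) (isPullback_bcMor_comp f h W.ι)
      pullback.condition F
  have hr₁ : Set.range (pullback.fst f (pullback.fst h W.ι)) = (f ≫ h) ⁻¹' (W : Set S) := by
    rw [Scheme.Pullback.range_fst, Scheme.Pullback.range_fst, Scheme.Opens.range_ι]
    rfl
  obtain ⟨x₁, hx₁⟩ : x ∈ Set.range (pullback.fst f (pullback.fst h W.ι)) := by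
    rw [hr₁]; exact hxW
  haveI : LocallyOfFinitePresentation (bcMor f h W.ι ≫ pullback.snd h W.ι) :=
    MorphismProperty.of_isPullback (P := @LocallyOfFinitePresentation)
      (isPullback_bcMor_comp f h W.ι) inferInstance
  -- Step 2: shrink `Y`
  obtain ⟨V, hV, hxV⟩ : ∃ V : (pullback h W.ι).Opens, IsAffineOpen V ∧
      (bcMor f h W.ι) x₁ ∈ V := by
    obtain ⟨_, ⟨V, hV, rfl⟩, hxV, -⟩ :=
      (pullback h W.ι).isBasis_affineOpens.exists_subset_of_mem_open
        (Set.mem_univ ((bcMor f h W.ι) x₁)) isOpen_univ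
    exact ⟨V, hV, hxV⟩
  let F₁ : (pullback f (pullback.fst h W.ι)).Modules :=
    (Scheme.Modules.pullback (pullback.fst f (pullback.fst h W.ι))).obj F
  haveI : F₁.IsQuasicoherent := PbStalk.isQuasicoherent_pullback _ F
  haveI : SheafOfModules.IsFinitePresentation
      (R := (pullback f (pullback.fst h W.ι)).ringCatSheaf) F₁ :=
    PbFinite.isFinitePresentation_pullback _ F
  have e2 : FFX (pullback.snd (bcMor f h W.ι) V.ι) (V.ι ≫ pullback.snd h W.ι)
      ((Scheme.Modules.pullback (pullback.fst (bcMor f h W.ι) V.ι)).obj F₁) =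
      (pullback.fst (bcMor f h W.ι) V.ι) ⁻¹' FFX (bcMor f h W.ι) (pullback.snd h W.ι) F₁ :=
    FFX_eq_preimage_of_isPullback pullback.condition rfl
      (IsPullback.of_hasPullback (bcMor f h W.ι) V.ι) F₁
  obtain ⟨x₂, hx₂⟩ : x₁ ∈ Set.range (pullback.fst (bcMor f h W.ι) V.ι) := by
    rw [Scheme.Pullback.range_fst, Scheme.Opens.range_ι]
    exact hxV
  let F₂ : (pullback (bcMor f h W.ι) V.ι).Modules :=
    (Scheme.Modules.pullback (pullback.fst (bcMor f h W.ι) V.ι)).obj F₁
  haveI : F₂.IsQuasicoherent := PbStalk.isQuasicoherent_pullback _ F₁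
  haveI : SheafOfModules.IsFinitePresentation
      (R := (pullback (bcMor f h W.ι) V.ι).ringCatSheaf) F₂ :=
    PbFinite.isFinitePresentation_pullback _ F₁
  -- Step 3: shrink `X`
  obtain ⟨U, hU, hxU⟩ : ∃ U : (pullback (bcMor f h W.ι) V.ι).Opens, IsAffineOpen U ∧ x₂ ∈ U := by
    obtain ⟨_, ⟨U, hU, rfl⟩, hxU, -⟩ :=
      (pullback (bcMor f h W.ι) V.ι).isBasis_affineOpens.exists_subset_of_mem_open
        (Set.mem_univ x₂) isOpen_univ
    exact ⟨U, hU, hxU⟩
  have e3 : FFX (U.ι ≫ pullback.snd (bcMor f h W.ι) V.ι) (V.ι ≫ pullback.snd h W.ι)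
      ((Scheme.Modules.pullback U.ι).obj F₂) =
      U.ι ⁻¹' FFX (pullback.snd (bcMor f h W.ι) V.ι) (V.ι ≫ pullback.snd h W.ι) F₂ :=
    FFX_source_eq_preimage _ _ U.ι F₂
  let F₃ : (U : Scheme.{u}).Modules := (Scheme.Modules.pullback U.ι).obj F₂
  haveI : F₃.IsQuasicoherent := PbStalk.isQuasicoherent_pullback _ F₂
  have hF₃ : SheafOfModules.IsFinitePresentation (R := (U : Scheme.{u}).ringCatSheaf) F₃ :=
    PbFinite.isFinitePresentation_pullback _ F₂
  haveI : IsAffine (U : Scheme.{u}) := hU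
  haveI : IsAffine (V : Scheme.{u}) := hV
  haveI : IsAffine (W : Scheme.{u}) := hW
  have hcomp : (U.ι ≫ pullback.snd (bcMor f h W.ι) V.ι) ≫ V.ι ≫ pullback.snd h W.ι =
      U.ι ≫ pullback.fst (bcMor f h W.ι) V.ι ≫ bcMor f h W.ι ≫ pullback.snd h W.ι := by
    simp only [Category.assoc]
    rw [← pullback.condition_assoc]
  haveI : LocallyOfFinitePresentation
      ((U.ι ≫ pullback.snd (bcMor f h W.ι) V.ι) ≫ V.ι ≫ pullback.snd h W.ι) := by
    rw [hcomp]; infer_instance
  have hlc := isLocallyConstructible_FFX (U.ι ≫ pullback.snd (bcMor f h W.ι) V.ι)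
    (V.ι ≫ pullback.snd h W.ι) F₃ hF₃
  have hc : IsConstructible (FFX (U.ι ≫ pullback.snd (bcMor f h W.ι) V.ι)
      (V.ι ≫ pullback.snd h W.ι) F₃) := hlc.isConstructible
  -- conclusion
  set j : (U : Scheme.{u}) ⟶ X :=
    U.ι ≫ pullback.fst (bcMor f h W.ι) V.ι ≫ pullback.fst f (pullback.fst h W.ι) with hj
  have hjE : j ⁻¹' FFX f h F = FFX (U.ι ≫ pullback.snd (bcMor f h W.ι) V.ι)
      (V.ι ≫ pullback.snd h W.ι) F₃ := by
    rw [e3, e2, e1]
    rfl
  rw [← hjE] at hc
  have hjo : IsOpenEmbedding j := j.isOpenEmbedding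
  let e : ↥(U : Scheme.{u}) ≃ₜ Set.range j := hjo.isEmbedding.toHomeomorph
  have hx : x ∈ Set.range j := by
    refine ⟨⟨x₂, hxU⟩, ?_⟩
    rw [hj, Scheme.Hom.comp_apply, Scheme.Hom.comp_apply]
    have : U.ι ⟨x₂, hxU⟩ = x₂ := rfl
    rw [this, hx₂, hx₁]
  refine ⟨Set.range j, hjo.isOpen_range.mem_nhds hx, hjo.isOpen_range, ?_⟩
  have h2 := hc.preimage_of_isOpenEmbedding e.symm.isOpenEmbedding
  convert h2 using 1
  ext ⟨y, z, rfl⟩
  have hz : e z = ⟨j z, ⟨z, rfl⟩⟩ := rfl
  simp only [Set.mem_preimage]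
  rw [← hz, e.symm_apply_apply]

end Groth.Agent.Lib.Helper20.FlatBC
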