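import Mathlib
import Groth.Prelude
import Groth.Agent.Lib.Helper17.PbFlatOver
import Groth.Agent.Lib.Helper17.GenPSpSheaf
import Groth.Agent.Lib.Helper16.TrdegBC

/-!
# The functor "flat in dimensions `≥ n`" is an fpqc sheaf (helper20)
-/

set_option autoImplicit false
set_option linter.style.haveILetI false
universe u
open CategoryTheory CategoryTheory.Limits AlgebraicGeometry Opposite TopologicalSpace

namespace Groth.Agent.Lib.Helper20.FlatDimSheaf

open Groth.Agent.Lib.Helper3 Groth.Agent.Lib.Helper17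

variable {X S : Scheme.{u}}

theorem dimFibresLT_iff {X T : Scheme.{u}} (n : ℕ) (q : X ⟶ T) (Z : Set X) :
    FlatFun.DimFibresLT n q Z ↔ ∀ x ∈ Z, Dual3.resTrdeg q x < (n : Cardinal.{u}) := Iff.rfl

/-- pointwise: flatness of `F_T` at `bcMap x'` gives flatness of `F_{T'}` at `x'`. -/
theorem isFlatOverAt_of_hom (f : X ⟶ S) (F : X.Modules) [F.IsQuasicoherent] {T T' : Over S}
    (g : T' ⟶ T) (x' : ↑(pullback f T'.hom))
    (h : FlatMod.IsFlatOverAt (pullback.snd f T.hom)
      ((Scheme.Modules.pullback (pullback.fst f T.hom)).obj F) ((PbCover.bcMap f g).base x')) :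
    FlatMod.IsFlatOverAt (pullback.snd f T'.hom)
      ((Scheme.Modules.pullback (pullback.fst f T'.hom)).obj F) x' := by
  haveI : ((Scheme.Modules.pullback (pullback.fst f T.hom)).obj F).IsQuasicoherent :=
    PbStalk.isQuasicoherent_pullback _ F
  refine PbFlatOver.isFlatOverAt_of_iso _ (PbFlatOver.bcIso f g F) x' ?_
  exact FibreFlat.isFlatOverAt_baseChange (PbCover.isPullback_bcMap f g) _ x' h

/-- pointwise descent: if `g` is flat then flatness of `F_{T'}` at `x'` gives flatness of `F_T`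
at `bcMap x'`. -/
theorem isFlatOverAt_of_flat_hom (f : X ⟶ S) (F : X.Modules) [F.IsQuasicoherent] {T T' : Over S}
    (g : T' ⟶ T) [Flat g.left] (x' : ↑(pullback f T'.hom))
    (h : FlatMod.IsFlatOverAt (pullback.snd f T'.hom)
      ((Scheme.Modules.pullback (pullback.fst f T'.hom)).obj F) x') :
    FlatMod.IsFlatOverAt (pullback.snd f T.hom)
      ((Scheme.Modules.pullback (pullback.fst f T.hom)).obj F) ((PbCover.bcMap f g).base x') := by
  haveI : ((Scheme.Modules.pullback (pullback.fst f T.hom)).obj F).IsQuasicoherent :=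
    PbStalk.isQuasicoherent_pullback _ F
  have h1 := PbFlatOver.isFlatOverAt_of_iso _ (PbFlatOver.bcIso f g F).symm x' h
  have h2 := FibreFlat.isFlatOverAt_comp (pullback.snd f T'.hom) g.left _ x' h1
    (Flat.stalkMap g.left _)
  rw [← PbCover.bcMap_snd] at h2
  haveI : Flat (PbCover.bcMap f g) :=
    MorphismProperty.of_isPullback (P := @Flat) (PbCover.isPullback_bcMap f g).flip inferInstance
  exact (Groth.Agent.S9350.result (PbCover.bcMap f g) (pullback.snd f T.hom) _
    (PbStalk.isQuasicoherent_pullback _ F) x' (Flat.stalkMap _ x')).2 h2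

/-- The condition "flat in dimensions `≥ n`". -/
def P (f : X ⟶ S) (F : X.Modules) (n : ℕ) (T : Over S) : Prop :=
  FlatFun.DimFibresLT n (PicF.XTproj f T)
    {x | ¬ FlatMod.IsFlatOverAt (PicF.XTproj f T) (FGA.ET f F T) x}

theorem P_stable (f : X ⟶ S) (F : X.Modules) [F.IsQuasicoherent] (n : ℕ) ⦃T T₀ : Over S⦄
    (k : T ⟶ T₀) (h0 : P f F n T₀) : P f F n T := by
  intro x hx
  have hx0 : (PbCover.bcMap f k).base x ∈
      {x | ¬ FlatMod.IsFlatOverAt (PicF.XTproj f T₀) (FGA.ET f F T₀) x} := by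
    intro hfl
    exact hx (isFlatOverAt_of_hom f F k x hfl)
  have h1 : Dual3.resTrdeg (pullback.snd f T₀.hom) ((PbCover.bcMap f k).base x) <
      (n : Cardinal.{u}) := h0 _ hx0
  have h2 := Groth.Agent.Lib.Helper6.FibProdTrdeg.resTrdeg_le_of_isPullback
    (PbCover.isPullback_bcMap f k) x
  exact lt_of_le_of_lt h2 h1

theorem P_local (f : X ⟶ S) (F : X.Modules) [F.IsQuasicoherent] (n : ℕ) (T : Over S)
    (ι : Type (u + 1)) (Ti : ι → Over S) (g : ∀ i, Ti i ⟶ T)
    (hsurj : ∀ t : T.left, ∃ i, t ∈ Set.range (g i).left) (hflat : ∀ i, Flat (g i).left)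
    (hP : ∀ i, P f F n (Ti i)) : P f F n T := by
  intro x hx
  obtain ⟨i, ti, hti⟩ := hsurj ((pullback.snd f T.hom).base x)
  obtain ⟨xi, hxi1, hxi2, hxi3⟩ := Groth.Agent.Lib.Helper16.TrdegBC.exists_point_resTrdeg_eq
    (PbCover.isPullback_bcMap f (g i)) x ti hti.symm
  haveI := hflat i
  have hxi : xi ∈ {x | ¬ FlatMod.IsFlatOverAt (PicF.XTproj f (Ti i)) (FGA.ET f F (Ti i)) x} := by
    intro hfl
    apply hx
    have := isFlatOverAt_of_flat_hom f F (g i) xi hfl
    rw [hxi1] at this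
    exact this
  have h1 : Dual3.resTrdeg (pullback.snd f (Ti i).hom) xi < (n : Cardinal.{u}) := hP i xi hxi
  rw [hxi3] at h1
  exact h1

theorem isSheaf (f : X ⟶ S) (F : X.Modules) [F.IsQuasicoherent] (n : ℕ) :
    Presheaf.IsSheaf (QuotSh.J Scheme.fpqcPrecoverage S)
      (FlatFun.genPSp S (fun T => FlatFun.DimFibresLT n (PicF.XTproj f T)
        {x | ¬ FlatMod.IsFlatOverAt (PicF.XTproj f T) (FGA.ET f F T) x})) := by
  apply GenPSpSheaf.isSheaf_genPSp_fpqc
  · intro T T₀ k h0
    exact P_stable f F n k h0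
  · intro T ι Ti g hsurj hflat hP
    exact P_local f F n T ι Ti g hsurj hflat hP

end Groth.Agent.Lib.Helper20.FlatDimSheaf
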