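import Mathlib
import Groth.Agent.Lib.Helper9.NilpFlat
import Groth.Agent.Lib.Helper27.NilpFree

/-!
# The flattening ideal of a module which is free modulo a nilpotent ideal (helper20)

`core`: `R` a ring, `I` a nilpotent ideal, `N` an `R`-module with `N / I N` free over `R / I`.
Then there is an ideal `J ≤ I` such that for every `R`-algebra `C`, `C ⊗ N` is flat over `C`
iff `J C = 0`.  (`J` is generated by the coordinates of the relations between lifts of a basis.)
-/

set_option autoImplicit false
universe u
open TensorProduct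

namespace Groth.Agent.Lib.Helper20.FlatIdeal

set_option maxHeartbeats 1600000 in
theorem core {R : Type u} [CommRing R] (I : Ideal R) (hI : IsNilpotent I)
    (N : Type u) [AddCommGroup N] [Module R N]
    (hfree : Module.Free (R ⧸ I) ((R ⧸ I) ⊗[R] N)) :
    ∃ J : Ideal R, J ≤ I ∧ ∀ (C : Type u) [CommRing C] [Algebra R C],
      (Module.Flat C (C ⊗[R] N) ↔ J.map (algebraMap R C) = ⊥) := by
  classical
  obtain ⟨⟨ι, bb⟩⟩ := hfree.exists_basis
  let ψ : N →ₗ[R] (R ⧸ I) ⊗[R] N := TensorProduct.mk R (R ⧸ I) N 1
  have hψsurj : Function.Surjective ψ :=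
    TensorProduct.mk_surjective R N (R ⧸ I) Ideal.Quotient.mk_surjective
  choose m hm using fun j => hψsurj (bb j)
  let φ : (ι →₀ R) →ₗ[R] N := Finsupp.linearCombination R m
  let θ : (ι →₀ R) →ₗ[R] (ι →₀ R ⧸ I) :=
    Finsupp.mapRange.linearMap (Ideal.Quotient.mkₐ R I).toLinearMap
  have hθ : ∀ x j, θ x j = Ideal.Quotient.mk I (x j) := fun x j => rfl
  have hkey : ∀ x, ψ (φ x) = bb.repr.symm (θ x) := by
    have : ψ.comp φ = (bb.repr.symm.toLinearMap.restrictScalars R).comp θ := by
      apply Finsupp.lhom_ext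
      intro j r
      have h1 : θ (Finsupp.single j r) = Finsupp.single j (Ideal.Quotient.mk I r) := by
        ext j'
        rw [hθ]
        by_cases hjj : j = j'
        · subst hjj; simp
        · simp [hjj]
      show ψ (φ (Finsupp.single j r)) = bb.repr.symm (θ (Finsupp.single j r))
      rw [h1, Finsupp.linearCombination_single, map_smul, hm, bb.repr_symm_single]
      rw [← Ideal.Quotient.algebraMap_eq, algebraMap_smul]
    intro x
    exact LinearMap.congr_fun this x
  have hθsurj : Function.Surjective θ := by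
    intro c
    induction c using Finsupp.induction_linear with
    | zero => exact ⟨0, map_zero _⟩
    | add c d hc hd =>
      obtain ⟨x, rfl⟩ := hc
      obtain ⟨y, rfl⟩ := hd
      exact ⟨x + y, map_add _ _ _⟩
    | single j r =>
      obtain ⟨r', rfl⟩ := Ideal.Quotient.mk_surjective r
      refine ⟨Finsupp.single j r', ?_⟩
      ext j'
      rw [hθ]
      by_cases hjj : j = j'
      · subst hjj; simp
      · simp [hjj]
  have hsurj : Function.Surjective φ := by
    rw [← LinearMap.range_eq_top]
    apply Groth.Agent.Lib.Helper27.NilpFree.nakayama_nilpotent hI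
    rw [eq_top_iff]
    intro y _
    obtain ⟨x, hx⟩ := hθsurj (bb.repr (ψ y))
    have h1 : (1 : R ⧸ I) ⊗ₜ[R] (y - φ x) = 0 := by
      show ψ (y - φ x) = 0
      rw [map_sub, hkey, hx, LinearEquiv.symm_apply_apply, sub_self]
    have h2 : y - φ x ∈ I • (⊤ : Submodule R N) :=
      (Groth.Agent.Lib.Helper9.NilpFlat.one_tmul_eq_zero_iff I N _).1 h1
    have : y = φ x + (y - φ x) := by abel
    rw [this]
    exact Submodule.add_mem_sup (LinearMap.mem_range_self φ x) h2
  -- kernel coordinates lie in `I`
  have hKI : ∀ x, φ x = 0 → ∀ j, x j ∈ I := by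
    intro x hx j
    have h1 : ψ (φ x) = 0 := by rw [hx, map_zero]
    rw [hkey] at h1
    have h2 : θ x = 0 := (LinearEquiv.map_eq_zero_iff _).1 h1
    have := DFunLike.congr_fun h2 j
    rw [hθ] at this
    exact Ideal.Quotient.eq_zero_iff_mem.1 this
  let Sgen : Set R := {r | ∃ x : ι →₀ R, φ x = 0 ∧ ∃ j, x j = r}
  refine ⟨Ideal.span Sgen, Ideal.span_le.2 ?_, ?_⟩
  · rintro r ⟨x, hx, j, rfl⟩
    exact hKI x hx j
  intro C _ _
  have hmap : (Ideal.span Sgen).map (algebraMap R C) = ⊥ ↔
      ∀ x : ι →₀ R, φ x = 0 → ∀ j, algebraMap R C (x j) = 0 := by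
    rw [Ideal.map_span, Ideal.span_eq_bot]
    constructor
    · intro h x hx j
      exact h _ ⟨x j, ⟨x, hx, j, rfl⟩, rfl⟩
    · rintro h _ ⟨r, ⟨x, hx, j, rfl⟩, rfl⟩
      exact h x hx j
  rw [hmap]
  constructor
  · intro hflat
    haveI := hflat
    set IC : Ideal C := I.map (algebraMap R C) with hIC
    have hICnil : IsNilpotent IC := Groth.Agent.Lib.Helper27.NilpFree.isNilpotent_map _ hI
    let Φ : (ι →₀ C) →ₗ[C] C ⊗[R] N :=
      Finsupp.linearCombination C (fun j => (1 : C) ⊗ₜ[R] m j)
    have hΦ1 : ∀ x : ι →₀ R, Φ (Finsupp.mapRange (algebraMap R C) (map_zero _) x) =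
        (1 : C) ⊗ₜ[R] φ x := by
      intro x
      induction x using Finsupp.induction_linear with
      | zero => simp
      | add x y hx hy =>
        rw [Finsupp.mapRange_add (fun a b => map_add (algebraMap R C) a b), map_add, hx, hy,
          map_add, tmul_add]
      | single j r =>
        rw [Finsupp.mapRange_single, Finsupp.linearCombination_single,
          Finsupp.linearCombination_single, TensorProduct.smul_tmul', smul_eq_mul, mul_one,
          Algebra.algebraMap_eq_smul_one, TensorProduct.smul_tmul]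
    have hΦsurj : Function.Surjective Φ := by
      intro z
      induction z using TensorProduct.induction_on with
      | zero => exact ⟨0, map_zero _⟩
      | add z w hz hw =>
        obtain ⟨a, rfl⟩ := hz
        obtain ⟨b, rfl⟩ := hw
        exact ⟨a + b, map_add _ _ _⟩
      | tmul c n =>
        obtain ⟨x, rfl⟩ := hsurj n
        refine ⟨c • Finsupp.mapRange (algebraMap R C) (map_zero _) x, ?_⟩
        rw [map_smul, hΦ1, TensorProduct.smul_tmul', smul_eq_mul, mul_one]
    have hle : I ≤ IC.comap (Algebra.ofId R C) := Ideal.le_comap_map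
    let qL : (R ⧸ I) →ₗ[R] (C ⧸ IC) := (Ideal.quotientMapₐ IC (Algebra.ofId R C) hle).toLinearMap
    have hqL1 : qL 1 = 1 := map_one (Ideal.quotientMapₐ IC (Algebra.ofId R C) hle)
    let ψ₀ : N →ₗ[R] (ι →₀ C ⧸ IC) :=
      (Finsupp.mapRange.linearMap qL) ∘ₗ ((bb.repr.toLinearMap.restrictScalars R) ∘ₗ ψ)
    let Ψ : C ⊗[R] N →ₗ[C] (ι →₀ C ⧸ IC) := LinearMap.liftBaseChange C ψ₀
    have hΨ : ∀ j, Ψ ((1 : C) ⊗ₜ[R] m j) = Finsupp.single j 1 := by
      intro j
      rw [LinearMap.liftBaseChange_tmul, one_smul]
      show Finsupp.mapRange.linearMap qL (bb.repr (ψ (m j))) = _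
      rw [hm, bb.repr_self, Finsupp.mapRange.linearMap_apply, Finsupp.mapRange_single, hqL1]
    have hΨΦ : Ψ ∘ₗ Φ = Finsupp.mapRange.linearMap (Ideal.Quotient.mkₐ C IC).toLinearMap := by
      apply Finsupp.lhom_ext
      intro j c
      show Ψ (Φ (Finsupp.single j c)) = Finsupp.mapRange.linearMap _ (Finsupp.single j c)
      rw [Finsupp.linearCombination_single, map_smul, hΨ, Finsupp.smul_single,
        Finsupp.mapRange.linearMap_apply, Finsupp.mapRange_single]
      congr 1
      rw [Algebra.smul_def, mul_one]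
      rfl
    have hkill : ∀ z ∈ IC • (⊤ : Submodule C (C ⊗[R] N)), Ψ z = 0 := by
      intro z hz
      refine Submodule.smul_induction_on hz ?_ ?_
      · intro a ha w _
        rw [map_smul]
        ext j'
        rw [Finsupp.smul_apply, Algebra.smul_def, Ideal.Quotient.algebraMap_eq,
          Ideal.Quotient.eq_zero_iff_mem.2 ha, zero_mul]
        rfl
      · intro x y hx hy
        rw [map_add, hx, hy, add_zero]
    have hu : ∀ y : ι →₀ C, Φ y ∈ IC • (⊤ : Submodule C (C ⊗[R] N)) →
        y ∈ IC • (⊤ : Submodule C (ι →₀ C)) := by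
      intro y hy
      have h1 : (Ψ ∘ₗ Φ) y = 0 := hkill _ hy
      rw [hΨΦ] at h1
      have h3 : ∀ j, y j ∈ IC := fun j => by
        have := DFunLike.congr_fun h1 j
        exact Ideal.Quotient.eq_zero_iff_mem.1 this
      have hmem : (∑ j ∈ y.support, Finsupp.single j (y j)) ∈
          IC • (⊤ : Submodule C (ι →₀ C)) := by
        refine Submodule.sum_mem _ (fun j _ => ?_)
        have : Finsupp.single j (y j) = (y j) • (Finsupp.single j (1 : C)) := by
          rw [Finsupp.smul_single, smul_eq_mul, mul_one]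
        rw [this]
        exact Submodule.smul_mem_smul (h3 j) Submodule.mem_top
      have hy' : (∑ j ∈ y.support, Finsupp.single j (y j)) = y := Finsupp.sum_single y
      rw [hy'] at hmem
      exact hmem
    have hΦinj : Function.Injective Φ :=
      Groth.Agent.Lib.Helper9.NilpFlat.injective_of_surjective_of_flat IC hICnil Φ hΦsurj hu
    intro x hx j
    have h1 : Φ (Finsupp.mapRange (algebraMap R C) (map_zero _) x) = 0 := by
      rw [hΦ1, hx, tmul_zero]
    have h2 := hΦinj (h1.trans (map_zero Φ).symm)
    have h3 := DFunLike.congr_fun h2 j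
    rw [Finsupp.mapRange_apply] at h3
    exact h3
  · intro h0
    have hex : Function.Exact (LinearMap.ker φ).subtype φ := LinearMap.exact_subtype_ker_map φ
    have hex' := lTensor_exact (R := R) (M := LinearMap.ker φ) (N := ι →₀ R) (P := N)
      (f := (LinearMap.ker φ).subtype) (g := φ) C hex hsurj
    have hzero : ∀ z, ((LinearMap.ker φ).subtype.lTensor C) z = 0 := by
      intro z
      induction z using TensorProduct.induction_on with
      | zero => exact map_zero _
      | add z w hz hw => rw [map_add, hz, hw, add_zero]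
      | tmul c k =>
        rw [LinearMap.lTensor_tmul]
        show c ⊗ₜ[R] (k : ι →₀ R) = 0
        have hk : φ (k : ι →₀ R) = 0 := k.2
        have hsum : (k : ι →₀ R) = ∑ j ∈ (k : ι →₀ R).support, Finsupp.single j ((k : ι →₀ R) j) :=
          (Finsupp.sum_single (k : ι →₀ R)).symm
        rw [hsum, tmul_sum]
        refine Finset.sum_eq_zero (fun j _ => ?_)
        have h1 : Finsupp.single j ((k : ι →₀ R) j) =
            ((k : ι →₀ R) j) • (Finsupp.single j (1 : R)) := by
          rw [Finsupp.smul_single, smul_eq_mul, mul_one]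
        rw [h1, ← TensorProduct.smul_tmul, Algebra.smul_def, h0 _ hk j, zero_mul, zero_tmul]
    have hinj : Function.Injective (φ.lTensor C) := by
      intro a b hab
      have h1 : (φ.lTensor C) (a - b) = 0 := by rw [map_sub, hab, sub_self]
      obtain ⟨z, hz⟩ := (hex' (a - b)).1 h1
      rw [hzero] at hz
      exact sub_eq_zero.1 hz.symm
    have hsurjC : Function.Surjective (φ.lTensor C) := LinearMap.lTensor_surjective C hsurj
    have hb : Function.Bijective (φ.baseChange C) := by
      rw [LinearMap.baseChange_eq_ltensor]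
      exact ⟨hinj, hsurjC⟩
    haveI : Module.Free C (C ⊗[R] N) :=
      Module.Free.of_equiv (LinearEquiv.ofBijective (φ.baseChange C) hb)
    exact Module.Flat.of_free

end Groth.Agent.Lib.Helper20.FlatIdeal
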