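import Mathlib
import Groth.Agent.Lib.Helper20.FlatIdeal1
import Groth.Agent.Lib.Helper26.GenFreeNil

/-!
# Generic flattening ideal, algebra (helper20)

`single`: `A` a ring with irreducible spectrum, `B` a finitely presented `A`-algebra, `M` a finitely
presented `B`-module.  Then there are a non-nilpotent `h : A` and a finitely generated ideal
`J ≤ nilradical A_h` such that for every `A_h`-algebra `C`, `C ⊗_A M` is flat over `C` iff `J C = 0`.

`Good A P`: hom-flexible packaging; `good_and`, `good_finset`, `good_of_ringEquiv`, `good_flatP`.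
-/

set_option autoImplicit false
set_option linter.style.haveILetI false
universe u
open TensorProduct

attribute [local instance] MvPolynomial.algebraMvPolynomial

namespace Groth.Agent.Lib.Helper20.FlatIdeal

open Groth.Agent.Lib.Helper14.FlatStage Groth.Agent.Lib.Helper26.GenFreeNil

set_option maxHeartbeats 1600000 in
theorem single_aux {A : Type u} [CommRing A] [IrreducibleSpace (PrimeSpectrum A)]
    {R₀ : Type u} [CommRing R₀] [IsNoetherianRing R₀] [Algebra R₀ A]
    (hinj : Function.Injective (algebraMap R₀ A)) {n b e : ℕ} (L : Fin e → Fm n b R₀)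
    (M : Type u) [AddCommGroup M] [Module A M] (eM : M ≃ₗ[A] Mm L A) :
    ∃ (h : A) (_ : ¬ IsNilpotent h) (J : Ideal (Localization.Away h)) (_ : J.FG)
      (_ : J ≤ nilradical (Localization.Away h)),
      ∀ (C : Type u) [CommRing C] [Algebra A C] [Algebra (Localization.Away h) C]
        [IsScalarTower A (Localization.Away h) C],
        (Module.Flat C (C ⊗[A] M) ↔ J.map (algebraMap (Localization.Away h) C) = ⊥) := by
  classical
  have hnilA : (nilradical A).IsPrime :=
    PrimeSpectrum.irreducibleSpace_iff_isPrime_nilradical.1 inferInstance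
  set 𝔫 : Ideal R₀ := nilradical R₀ with h𝔫
  have h𝔫eq : 𝔫 = (nilradical A).comap (algebraMap R₀ A) := by
    ext x
    rw [Ideal.mem_comap, h𝔫, mem_nilradical, mem_nilradical]
    exact (IsNilpotent.map_iff hinj).symm
  haveI : 𝔫.IsPrime := by
    rw [h𝔫eq]
    exact Ideal.comap_isPrime _ _
  have h𝔫nil : IsNilpotent 𝔫 := IsNoetherianRing.isNilpotent_nilradical R₀
  obtain ⟨fbar, hfbar, hfree⟩ :=
    Groth.Agent.Lib.Helper28.GenFree.genFree_mvPolynomial (R := R₀ ⧸ 𝔫) n (Mm L (R₀ ⧸ 𝔫))
  obtain ⟨f, rfl⟩ := Ideal.Quotient.mk_surjective fbar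
  have hfn : f ∉ 𝔫 := fun h => hfbar (Ideal.Quotient.eq_zero_iff_mem.2 h)
  have hfreeD : Module.Free (Localization.Away (Ideal.Quotient.mk 𝔫 f))
      (Mm L (Localization.Away (Ideal.Quotient.mk 𝔫 f))) := by
    have hfree' : Module.Free (Localization.Away (Ideal.Quotient.mk 𝔫 f))
        (Localization.Away (Ideal.Quotient.mk 𝔫 f) ⊗[R₀ ⧸ 𝔫] Mm L (R₀ ⧸ 𝔫)) := hfree
    haveI := hfree'
    exact Module.Free.of_equiv
      (isBaseChange_mapM L (R₀ ⧸ 𝔫) (Localization.Away (Ideal.Quotient.mk 𝔫 f))).equiv
  set I : Ideal (Localization.Away f) := 𝔫.map (algebraMap R₀ (Localization.Away f)) with hIdef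
  have hI : IsNilpotent I := Groth.Agent.Lib.Helper27.NilpFree.isNilpotent_map _ h𝔫nil
  let δ : (R₀ ⧸ 𝔫) →ₐ[R₀] (Localization.Away f ⧸ I) :=
    Ideal.Quotient.liftₐ 𝔫
      ((Ideal.Quotient.mkₐ R₀ I).comp (Algebra.ofId R₀ (Localization.Away f))) (by
        intro a ha
        show Ideal.Quotient.mk I (algebraMap R₀ (Localization.Away f) a) = 0
        exact Ideal.Quotient.eq_zero_iff_mem.2 (Ideal.mem_map_of_mem _ ha))
  have hδ : IsUnit (δ (Ideal.Quotient.mk 𝔫 f)) := by
    have : δ (Ideal.Quotient.mk 𝔫 f) =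
        Ideal.Quotient.mk I (algebraMap R₀ (Localization.Away f) f) := rfl
    rw [this]
    exact (IsLocalization.Away.algebraMap_isUnit f).map _
  let δ' : Localization.Away (Ideal.Quotient.mk 𝔫 f) →ₐ[R₀] (Localization.Away f ⧸ I) :=
    IsLocalization.Away.liftAlgHom (Ideal.Quotient.mk 𝔫 f) (f := δ) hδ
  have hfreeE : Module.Free (Localization.Away f ⧸ I) (Mm L (Localization.Away f ⧸ I)) :=
    free_of_algHom L δ' hfreeD
  have hfreeR : Module.Free (Localization.Away f ⧸ I)
      ((Localization.Away f ⧸ I) ⊗[Localization.Away f] Mm L (Localization.Away f)) := by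
    haveI := hfreeE
    exact Module.Free.of_equiv
      (isBaseChange_mapM L (Localization.Away f) (Localization.Away f ⧸ I)).equiv.symm
  obtain ⟨J₀, hJ₀I, hJ₀⟩ := core I hI (Mm L (Localization.Away f)) hfreeR
  haveI : IsNoetherianRing (Localization.Away f) :=
    IsLocalization.isNoetherianRing (Submonoid.powers f) _ inferInstance
  have hJ₀fg : J₀.FG := IsNoetherian.noetherian J₀
  set h : A := algebraMap R₀ A f with hh
  have hhn : ¬ IsNilpotent h := fun hn =>
    hfn (mem_nilradical.2 ((IsNilpotent.map_iff hinj).1 hn))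
  have hunit : IsUnit ((Algebra.ofId R₀ (Localization.Away h)) f) := by
    show IsUnit (algebraMap R₀ (Localization.Away h) f)
    rw [IsScalarTower.algebraMap_apply R₀ A (Localization.Away h)]
    exact IsLocalization.Away.algebraMap_isUnit h
  let ρ : Localization.Away f →ₐ[R₀] Localization.Away h :=
    IsLocalization.Away.liftAlgHom f (f := Algebra.ofId R₀ (Localization.Away h)) hunit
  refine ⟨h, hhn, J₀.map ρ.toRingHom, Ideal.FG.map hJ₀fg _, ?_, ?_⟩
  · rw [Ideal.map_le_iff_le_comap]
    intro x hx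
    have hxI : x ∈ I := hJ₀I hx
    obtain ⟨k, hk⟩ := hI
    have hxk : x ^ k = 0 := by
      have := Ideal.pow_mem_pow hxI k
      rw [hk] at this
      exact this
    exact mem_nilradical.2 (IsNilpotent.map ⟨k, hxk⟩ ρ.toRingHom)
  · intro C _ _ _ _
    letI aR : Algebra (Localization.Away f) C :=
      ((algebraMap (Localization.Away h) C).comp ρ.toRingHom).toAlgebra
    letI a0 : Algebra R₀ C := ((algebraMap A C).comp (algebraMap R₀ A)).toAlgebra
    haveI t1 : IsScalarTower R₀ A C := IsScalarTower.of_algebraMap_eq (fun r => rfl)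
    haveI t2 : IsScalarTower R₀ (Localization.Away f) C :=
      IsScalarTower.of_algebraMap_eq (fun r => by
        show algebraMap A C (algebraMap R₀ A r) =
          algebraMap (Localization.Away h) C (ρ (algebraMap R₀ (Localization.Away f) r))
        rw [ρ.commutes, IsScalarTower.algebraMap_apply R₀ A (Localization.Away h)]
        exact IsScalarTower.algebraMap_apply A (Localization.Away h) C _)
    have e1 : C ⊗[A] M ≃ₗ[C] Mm L C :=
      (TensorProduct.AlgebraTensorModule.congr (LinearEquiv.refl C C) eM) ≪≫ₗ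
        (isBaseChange_mapM L A C).equiv
    have e2 : C ⊗[Localization.Away f] Mm L (Localization.Away f) ≃ₗ[C] Mm L C :=
      (isBaseChange_mapM L (Localization.Away f) C).equiv
    rw [Ideal.map_map]
    have hcomp : (algebraMap (Localization.Away h) C).comp ρ.toRingHom =
        algebraMap (Localization.Away f) C := rfl
    rw [hcomp, ← hJ₀ C]
    constructor
    · intro hfl
      haveI := hfl
      exact Module.Flat.of_linearEquiv (e2 ≪≫ₗ e1.symm)
    · intro hfl
      haveI := hfl
      exact Module.Flat.of_linearEquiv (e1 ≪≫ₗ e2.symm)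

/-- **Generic flattening ideal** for one module. -/
theorem single (A : Type u) [CommRing A] [IrreducibleSpace (PrimeSpectrum A)]
    (B : Type u) [CommRing B] [Algebra A B] [Algebra.FinitePresentation A B]
    (M : Type u) [AddCommGroup M] [Module B M] [Module A M] [IsScalarTower A B M]
    [Module.FinitePresentation B M] :
    ∃ (h : A) (_ : ¬ IsNilpotent h) (J : Ideal (Localization.Away h)) (_ : J.FG)
      (_ : J ≤ nilradical (Localization.Away h)),
      ∀ (C : Type u) [CommRing C] [Algebra A C] [Algebra (Localization.Away h) C]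
        [IsScalarTower A (Localization.Away h) C],
        (Module.Flat C (C ⊗[A] M) ↔ J.map (algebraMap (Localization.Away h) C) = ⊥) := by
  obtain ⟨n, b, e, R₀, hR₀, L, ⟨eM⟩⟩ := exists_model A B M
  haveI : Algebra.FiniteType ℤ R₀ := (Subalgebra.fg_iff_finiteType R₀).1 hR₀
  haveI : IsNoetherianRing R₀ := Algebra.FiniteType.isNoetherianRing ℤ R₀
  have hinj : Function.Injective (algebraMap R₀ A) := fun x y h => Subtype.ext h
  exact single_aux hinj L M eM

/-- hom-flexible packaging of "generic flattening ideal exists for the property `P`". -/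
def Good (A : Type u) [CommRing A] (P : ∀ (C : Type u) [CommRing C], (A →+* C) → Prop) : Prop :=
  ∃ (h : A) (_ : ¬ IsNilpotent h) (J : Ideal (Localization.Away h)) (_ : J.FG)
    (_ : J ≤ nilradical (Localization.Away h)),
    ∀ (C : Type u) [CommRing C] (ψ : Localization.Away h →+* C),
      (P C (ψ.comp (algebraMap A (Localization.Away h))) ↔ J.map ψ = ⊥)

/-- flatness of `C ⊗_A M` over `C`, for `C` an `A`-algebra through `φ`. -/
def FlatP (A : Type u) [CommRing A] (M : Type u) [AddCommGroup M] [Module A M] :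
    ∀ (C : Type u) [CommRing C], (A →+* C) → Prop :=
  fun C _ φ => letI := φ.toAlgebra; Module.Flat C (C ⊗[A] M)

theorem good_flatP (A : Type u) [CommRing A] [IrreducibleSpace (PrimeSpectrum A)]
    (B : Type u) [CommRing B] [Algebra A B] [Algebra.FinitePresentation A B]
    (M : Type u) [AddCommGroup M] [Module B M] [Module A M] [IsScalarTower A B M]
    [Module.FinitePresentation B M] : Good A (FlatP A M) := by
  obtain ⟨h, hh, J, hJ, hJn, H⟩ := single A B M
  refine ⟨h, hh, J, hJ, hJn, fun C _ ψ => ?_⟩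
  letI a1 : Algebra (Localization.Away h) C := ψ.toAlgebra
  letI a2 : Algebra A C := (ψ.comp (algebraMap A (Localization.Away h))).toAlgebra
  haveI : IsScalarTower A (Localization.Away h) C := IsScalarTower.of_algebraMap_eq (fun _ => rfl)
  exact H C

theorem good_congr {A : Type u} [CommRing A]
    {P Q : ∀ (C : Type u) [CommRing C], (A →+* C) → Prop}
    (hPQ : ∀ (C : Type u) [CommRing C] (φ : A →+* C), P C φ ↔ Q C φ) (hP : Good A P) :
    Good A Q := by
  obtain ⟨h, hh, J, hJ, hJn, H⟩ := hP
  exact ⟨h, hh, J, hJ, hJn, fun C _ ψ => (hPQ C _).symm.trans (H C ψ)⟩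

theorem good_true (A : Type u) [CommRing A] [Nontrivial A] :
    Good A (fun _ _ _ => True) := by
  refine ⟨1, not_isNilpotent_one, ⊥, Submodule.fg_bot, bot_le, fun C _ ψ => ?_⟩
  rw [Ideal.map_bot]
  exact ⟨fun _ => rfl, fun _ => trivial⟩

theorem good_and {A : Type u} [CommRing A] (hA : (nilradical A).IsPrime)
    {P Q : ∀ (C : Type u) [CommRing C], (A →+* C) → Prop}
    (hP : Good A P) (hQ : Good A Q) : Good A (fun C _ φ => P C φ ∧ Q C φ) := by
  obtain ⟨h₁, hh₁, J₁, hJ₁, hJ₁n, H₁⟩ := hP
  obtain ⟨h₂, hh₂, J₂, hJ₂, hJ₂n, H₂⟩ := hQ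
  have hh : ¬ IsNilpotent (h₁ * h₂) := by
    intro hn
    have : h₁ * h₂ ∈ nilradical A := mem_nilradical.2 hn
    rcases hA.mem_or_mem this with h | h
    · exact hh₁ (mem_nilradical.1 h)
    · exact hh₂ (mem_nilradical.1 h)
  let l₁ : Localization.Away h₁ →+* Localization.Away (h₁ * h₂) :=
    IsLocalization.Away.lift h₁ (g := algebraMap A (Localization.Away (h₁ * h₂)))
      (IsLocalization.Away.isUnit_of_dvd (h₁ * h₂) (dvd_mul_right h₁ h₂))
  let l₂ : Localization.Away h₂ →+* Localization.Away (h₁ * h₂) :=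
    IsLocalization.Away.lift h₂ (g := algebraMap A (Localization.Away (h₁ * h₂)))
      (IsLocalization.Away.isUnit_of_dvd (h₁ * h₂) (dvd_mul_left h₂ h₁))
  have hl₁ : l₁.comp (algebraMap A (Localization.Away h₁)) =
      algebraMap A (Localization.Away (h₁ * h₂)) := IsLocalization.Away.lift_comp _ _
  have hl₂ : l₂.comp (algebraMap A (Localization.Away h₂)) =
      algebraMap A (Localization.Away (h₁ * h₂)) := IsLocalization.Away.lift_comp _ _
  refine ⟨h₁ * h₂, hh, J₁.map l₁ ⊔ J₂.map l₂, Submodule.FG.sup (hJ₁.map _) (hJ₂.map _), ?_, ?_⟩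
  · refine sup_le ?_ ?_
    · rw [Ideal.map_le_iff_le_comap]
      intro x hx
      exact mem_nilradical.2 ((mem_nilradical.1 (hJ₁n hx)).map l₁)
    · rw [Ideal.map_le_iff_le_comap]
      intro x hx
      exact mem_nilradical.2 ((mem_nilradical.1 (hJ₂n hx)).map l₂)
  · intro C _ ψ
    have e1 := H₁ C (ψ.comp l₁)
    have e2 := H₂ C (ψ.comp l₂)
    rw [RingHom.comp_assoc, hl₁] at e1
    rw [RingHom.comp_assoc, hl₂] at e2
    rw [Ideal.map_sup, Ideal.map_map, Ideal.map_map, sup_eq_bot_iff, ← e1, ← e2]

theorem good_finset {A : Type u} [CommRing A] [IrreducibleSpace (PrimeSpectrum A)]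
    {ι : Type*} (P : ι → ∀ (C : Type u) [CommRing C], (A →+* C) → Prop) (s : Finset ι)
    (hP : ∀ i ∈ s, Good A (P i)) : Good A (fun C _ φ => ∀ i ∈ s, P i C φ) := by
  classical
  have hnilA : (nilradical A).IsPrime :=
    PrimeSpectrum.irreducibleSpace_iff_isPrime_nilradical.1 inferInstance
  haveI : Nontrivial A := by
    by_contra hne
    rw [not_nontrivial_iff_subsingleton] at hne
    exact hnilA.ne_top (Subsingleton.elim _ _)
  induction s using Finset.induction_on with
  | empty =>
    refine good_congr (fun C _ φ => ?_) (good_true A)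
    simp
  | insert a s ha ih =>
    have h1 := good_and hnilA (hP a (Finset.mem_insert_self a s))
      (ih (fun i hi => hP i (Finset.mem_insert_of_mem hi)))
    refine good_congr (fun C _ φ => ?_) h1
    rw [Finset.forall_mem_insert]

theorem good_of_ringEquiv {A R : Type u} [CommRing A] [CommRing R] (e : R ≃+* A)
    {P : ∀ (C : Type u) [CommRing C], (R →+* C) → Prop} (hP : Good R P) :
    Good A (fun C _ φ => P C (φ.comp e.toRingHom)) := by
  obtain ⟨h, hh, J, hJ, hJn, H⟩ := hP
  have hu : IsUnit (((algebraMap A (Localization.Away (e h))).comp e.toRingHom) h) :=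
    IsLocalization.Away.algebraMap_isUnit (e h)
  let ε : Localization.Away h →+* Localization.Away (e h) := IsLocalization.Away.lift h hu
  have hε : ε.comp (algebraMap R (Localization.Away h)) =
      (algebraMap A (Localization.Away (e h))).comp e.toRingHom :=
    IsLocalization.Away.lift_comp _ _
  refine ⟨e h, ?_, J.map ε, hJ.map _, ?_, ?_⟩
  · intro hn
    exact hh ((IsNilpotent.map_iff e.injective).1 hn)
  · rw [Ideal.map_le_iff_le_comap]
    intro x hx
    exact mem_nilradical.2 ((mem_nilradical.1 (hJn hx)).map ε)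
  · intro C _ ψ
    have h1 := H C (ψ.comp ε)
    rw [RingHom.comp_assoc, hε, ← RingHom.comp_assoc] at h1
    rw [Ideal.map_map]
    exact h1

theorem flatP_of_ringHom {R : Type u} [CommRing R] (M : Type u) [AddCommGroup M] [Module R M]
    {C C' : Type u} [CommRing C] [CommRing C'] (φ : R →+* C) (ε : C →+* C') :
    FlatP R M C φ → FlatP R M C' (ε.comp φ) := by
  intro h
  letI a1 : Algebra R C := φ.toAlgebra
  letI a2 : Algebra C C' := ε.toAlgebra
  letI a3 : Algebra R C' := (ε.comp φ).toAlgebra
  haveI : IsScalarTower R C C' := IsScalarTower.of_algebraMap_eq (fun _ => rfl)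
  haveI : Module.Flat C (C ⊗[R] M) := h
  have e : C' ⊗[C] (C ⊗[R] M) ≃ₗ[C'] C' ⊗[R] M :=
    TensorProduct.AlgebraTensorModule.cancelBaseChange R C C' C' M
  show Module.Flat C' (C' ⊗[R] M)
  exact Module.Flat.of_linearEquiv e.symm

end Groth.Agent.Lib.Helper20.FlatIdeal
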