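import Mathlib
import Groth.Agent.Lib.Helper20.FlatIdeal2
import Groth.Agent.Lib.Helper17.FlatPiece
import Groth.Agent.Lib.Helper17.PbFinite
import Groth.Agent.Lib.Helper3.QCProps

/-!
# Generic flattening ideal, schemes (helper20)

`main`: EGA IV 11.4-type statement: over an affine base with irreducible spectrum, generically the
flattening functor of a finitely presented module on a finitely presented scheme is represented by a
nilpotent, finitely generated ideal (tested on affine base changes).
-/

set_option autoImplicit false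
set_option linter.style.haveILetI false
universe u
open CategoryTheory CategoryTheory.Limits AlgebraicGeometry Opposite TensorProduct

namespace Groth.Agent.Lib.Helper20.FlatIdeal

open Groth.Agent.Lib.Helper3 Groth.Agent.Lib.Helper17

set_option maxHeartbeats 3200000 in
theorem main {A : Type u} [CommRing A] [IrreducibleSpace (PrimeSpectrum A)]
    {X : Scheme.{u}} (f : X ⟶ Spec (CommRingCat.of A))
    [LocallyOfFinitePresentation f] [QuasiCompact f]
    (F : X.Modules) [F.IsQuasicoherent]
    (hF : SheafOfModules.IsFinitePresentation (R := X.ringCatSheaf) F) :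
    ∃ (h : A) (_ : ¬ IsNilpotent h) (J : Ideal (Localization.Away h)) (_ : J.FG)
      (_ : J ≤ nilradical (Localization.Away h)),
      ∀ (A' : Type u) [CommRing A'] (ψ : Localization.Away h →+* A'),
        (FlatMod.IsFlatOver
          (pullback.snd f (Spec.map (CommRingCat.ofHom
            (ψ.comp (algebraMap A (Localization.Away h))))))
          ((Scheme.Modules.pullback (pullback.fst f (Spec.map (CommRingCat.ofHom
            (ψ.comp (algebraMap A (Localization.Away h))))))).obj F) ↔
          Ideal.map ψ J = ⊥) := by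
  classical
  haveI := hF
  obtain ⟨S, hS⟩ : ∃ S : Scheme.{u}, S = Spec (CommRingCat.of A) := ⟨_, rfl⟩
  let T₀ : Over (Spec (CommRingCat.of A)) := Over.mk (𝟙 (Spec (CommRingCat.of A)))
  haveI : IsAffine T₀.left := (inferInstance : IsAffine (Spec (CommRingCat.of A)))
  haveI : LocallyOfFinitePresentation (pullback.snd f T₀.hom) := inferInstance
  haveI : QuasiCompact (pullback.snd f T₀.hom) := inferInstance
  haveI : CompactSpace ↥(pullback f T₀.hom) :=
    QuasiCompact.compactSpace_of_compactSpace (pullback.snd f T₀.hom)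
  haveI hq0 : ((Scheme.Modules.pullback (pullback.fst f T₀.hom)).obj F).IsQuasicoherent :=
    PbStalk.isQuasicoherent_pullback _ F
  haveI hfp0 : SheafOfModules.IsFinitePresentation (R := (pullback f T₀.hom).ringCatSheaf)
      ((Scheme.Modules.pullback (pullback.fst f T₀.hom)).obj F) :=
    PbFinite.isFinitePresentation_pullback _ F
  obtain ⟨s, hs, hcov⟩ := isCompact_and_isOpen_iff_finite_and_eq_biUnion_affineOpens.mp
    ⟨isCompact_univ (X := ↥(pullback f T₀.hom)), isOpen_univ⟩
  letI algB : ∀ W : (pullback f T₀.hom).Opens,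
      Algebra Γ(T₀.left, ⊤) Γ(pullback f T₀.hom, W) :=
    fun W => ((pullback.snd f T₀.hom).appLE ⊤ W le_top).hom.toAlgebra
  letI modM : ∀ W : (pullback f T₀.hom).Opens,
      Module Γ(T₀.left, ⊤) Γ((Scheme.Modules.pullback (pullback.fst f T₀.hom)).obj F, W) :=
    fun W => Module.compHom _ ((pullback.snd f T₀.hom).appLE ⊤ W le_top).hom
  haveI tower : ∀ W : (pullback f T₀.hom).Opens, IsScalarTower Γ(T₀.left, ⊤)
      Γ(pullback f T₀.hom, W) Γ((Scheme.Modules.pullback (pullback.fst f T₀.hom)).obj F, W) :=
    fun W => IsScalarTower.of_algebraMap_smul (fun r m => rfl)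
  let e : Γ(T₀.left, ⊤) ≃+* A := (Scheme.ΓSpecIso (CommRingCat.of A)).commRingCatIsoToRingEquiv
  haveI : IrreducibleSpace (PrimeSpectrum Γ(T₀.left, ⊤)) := by
    rw [PrimeSpectrum.irreducibleSpace_iff_isPrime_nilradical]
    have hA : (nilradical A).IsPrime :=
      PrimeSpectrum.irreducibleSpace_iff_isPrime_nilradical.1 inferInstance
    have : nilradical Γ(T₀.left, ⊤) = (nilradical A).comap e.toRingHom := by
      ext x
      rw [Ideal.mem_comap, mem_nilradical, mem_nilradical]
      exact (IsNilpotent.map_iff e.injective).symm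
    rw [this]
    exact Ideal.comap_isPrime _ _
  have hgood : Good Γ(T₀.left, ⊤) (fun C _ φ => ∀ W ∈ hs.toFinset,
      FlatP Γ(T₀.left, ⊤)
        Γ((Scheme.Modules.pullback (pullback.fst f T₀.hom)).obj F,
          ((W : (pullback f T₀.hom).affineOpens) : (pullback f T₀.hom).Opens)) C φ) := by
    apply good_finset (fun (W : (pullback f T₀.hom).affineOpens) => FlatP Γ(T₀.left, ⊤)
        Γ((Scheme.Modules.pullback (pullback.fst f T₀.hom)).obj F,
          (W : (pullback f T₀.hom).Opens)))
    intro W _
    haveI : Algebra.FinitePresentation Γ(T₀.left, ⊤) Γ(pullback f T₀.hom, W.1) :=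
      (pullback.snd f T₀.hom).finitePresentation_appLE (isAffineOpen_top _) W.2 le_top
    haveI : Module.FinitePresentation Γ(pullback f T₀.hom, W.1)
        Γ((Scheme.Modules.pullback (pullback.fst f T₀.hom)).obj F, W.1) :=
      QCProps.finitePresentation_sections _ W.2
    exact good_flatP Γ(T₀.left, ⊤) Γ(pullback f T₀.hom, W.1)
      Γ((Scheme.Modules.pullback (pullback.fst f T₀.hom)).obj F, W.1)
  obtain ⟨h, hh, J, hJ, hJn, H⟩ := good_of_ringEquiv e hgood
  refine ⟨h, hh, J, hJ, hJn, fun A' _ ψ => ?_⟩
  rw [← H A' ψ]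
  obtain ⟨φ, hφ⟩ : ∃ φ : A →+* A', φ = ψ.comp (algebraMap A (Localization.Away h)) := ⟨_, rfl⟩
  rw [← hφ]
  let T' : Over (Spec (CommRingCat.of A)) := Over.mk (Spec.map (CommRingCat.ofHom φ))
  let k : T' ⟶ T₀ := Over.homMk (Spec.map (CommRingCat.ofHom φ)) (Category.comp_id _)
  haveI : IsAffine T'.left := (inferInstance : IsAffine (Spec (CommRingCat.of A')))
  -- step 1: cover
  have step1 : FlatMod.IsFlatOver (pullback.snd f (Spec.map (CommRingCat.ofHom φ)))
      ((Scheme.Modules.pullback (pullback.fst f (Spec.map (CommRingCat.ofHom φ)))).obj F) ↔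
      ∀ W ∈ hs.toFinset, ∀ x ∈ (PbCover.bcMap f k) ⁻¹ᵁ (W : (pullback f T₀.hom).Opens),
        FlatMod.IsFlatOverAt (pullback.snd f T'.hom)
          ((Scheme.Modules.pullback (pullback.fst f T'.hom)).obj F) x := by
    constructor
    · intro hfl W _ x _
      exact hfl x
    · intro hall x
      have hx : (PbCover.bcMap f k) x ∈ (Set.univ : Set ↥(pullback f T₀.hom)) := Set.mem_univ _
      rw [hcov] at hx
      simp only [Set.mem_iUnion] at hx
      obtain ⟨W, hW, hxW⟩ := hx
      exact hall W (hs.mem_toFinset.2 hW) x hxW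
  rw [step1]
  refine forall₂_congr (fun W _ => ?_)
  rw [FlatPiece.piece_iff f F k W.2]
  -- step 3: change of rings along `ΓSpecIso`
  have hnat : k.left.appTop.hom =
      ((Scheme.ΓSpecIso (CommRingCat.of A')).inv.hom).comp (φ.comp e.toRingHom) := by
    have h1 := Scheme.ΓSpecIso_inv_naturality (CommRingCat.ofHom φ)
    have h2 : (Spec.map (CommRingCat.ofHom φ)).appTop =
        (Scheme.ΓSpecIso (CommRingCat.of A)).hom ≫ CommRingCat.ofHom φ ≫
          (Scheme.ΓSpecIso (CommRingCat.of A')).inv := by
      rw [h1, Iso.hom_inv_id_assoc]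
    show (Spec.map (CommRingCat.ofHom φ)).appTop.hom = _
    rw [h2]
    rfl
  have hinv : ((Scheme.ΓSpecIso (CommRingCat.of A')).hom.hom).comp
      ((Scheme.ΓSpecIso (CommRingCat.of A')).inv.hom) = RingHom.id A' := by
    rw [← CommRingCat.hom_comp, Iso.inv_hom_id]
    rfl
  constructor
  · intro hfl
    have h1 := flatP_of_ringHom
      Γ((Scheme.Modules.pullback (pullback.fst f T₀.hom)).obj F, (W : (pullback f T₀.hom).Opens))
      k.left.appTop.hom ((Scheme.ΓSpecIso (CommRingCat.of A')).hom.hom) hfl
    rw [hnat, ← RingHom.comp_assoc, hinv, RingHom.id_comp] at h1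
    exact h1
  · intro hfl
    have h1 := flatP_of_ringHom
      Γ((Scheme.Modules.pullback (pullback.fst f T₀.hom)).obj F, (W : (pullback f T₀.hom).Opens))
      (φ.comp e.toRingHom) ((Scheme.ΓSpecIso (CommRingCat.of A')).inv.hom) hfl
    rw [← hnat] at h1
    exact h1

end Groth.Agent.Lib.Helper20.FlatIdeal
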