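import Mathlib
import Groth.Agent.Lib.Helper13.DeltaFun

/-!
# Elementwise API for the δ-functor `N ↦ Ext^n(X, L N)` on modules

`Tm L X N n = Ext^n(X, L N)`, `Tmap φ n`, the connecting map `Tδ P n` for a submodule `P ≤ N`,
exactness and naturality.
-/

set_option autoImplicit false
set_option maxHeartbeats 400000
universe w u v' u'

open CategoryTheory CategoryTheory.Limits Abelian Groth.Agent.Lib.Helper13.DeltaFun

namespace Groth.Agent.Lib.Helper20.FormalF1

variable {A : Type u} [CommRing A] {ℬ : Type u'} [Category.{v'} ℬ] [Abelian ℬ] [HasExt.{w} ℬ]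
  (L : ModuleCat.{u} A ⥤ ℬ) [L.Additive] [PreservesFiniteLimits L] [PreservesFiniteColimits L]
  (X : ℬ)

/-- `Ext^n(X, L N)`. -/
abbrev Tm (N : Type u) [AddCommGroup N] [Module A N] (n : ℕ) : Type w :=
  Ext X (L.obj (ModuleCat.of A N)) n

section maps

variable {N N' N'' : Type u} [AddCommGroup N] [Module A N] [AddCommGroup N'] [Module A N']
  [AddCommGroup N''] [Module A N'']

/-- functoriality. -/
noncomputable def Tmap (φ : N →ₗ[A] N') (n : ℕ) : Tm L X N n →+ Tm L X N' n :=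
  (ofExt L X).map (ModuleCat.ofHom φ) n

lemma Tmap_apply (φ : N →ₗ[A] N') (n : ℕ) (x : Tm L X N n) :
    Tmap L X φ n x = x.comp (Ext.mk₀ (L.map (ModuleCat.ofHom φ))) (add_zero n) := rfl

lemma Tmap_id (n : ℕ) (x : Tm L X N n) : Tmap L X (LinearMap.id : N →ₗ[A] N) n x = x :=
  (ofExt L X).map_id _ n x

lemma Tmap_comp (φ : N →ₗ[A] N') (ψ : N' →ₗ[A] N'') (n : ℕ) (x : Tm L X N n) :
    Tmap L X (ψ ∘ₗ φ) n x = Tmap L X ψ n (Tmap L X φ n x) := by
  rw [Tmap_apply, Tmap_apply, Tmap_apply, ModuleCat.ofHom_comp, L.map_comp,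
    ← Ext.mk₀_comp_mk₀, Ext.comp_assoc_of_third_deg_zero]

lemma Tmap_add (φ ψ : N →ₗ[A] N') (n : ℕ) (x : Tm L X N n) :
    Tmap L X (φ + ψ) n x = Tmap L X φ n x + Tmap L X ψ n x := by
  rw [Tmap_apply, Tmap_apply, Tmap_apply]
  have h : ModuleCat.ofHom (φ + ψ) = ModuleCat.ofHom φ + ModuleCat.ofHom ψ := rfl
  rw [h, L.map_add, Ext.mk₀_add, Ext.comp_add]

lemma Tmap_zero (n : ℕ) (x : Tm L X N n) : Tmap L X (0 : N →ₗ[A] N') n x = 0 := by
  rw [Tmap_apply]
  have h : ModuleCat.ofHom (0 : N →ₗ[A] N') = 0 := rfl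
  rw [h, L.map_zero, Ext.mk₀_zero, Ext.comp_zero]

lemma Tmap_congr {φ ψ : N →ₗ[A] N'} (h : φ = ψ) (n : ℕ) (x : Tm L X N n) :
    Tmap L X φ n x = Tmap L X ψ n x := by rw [h]

lemma Tmap_injective_zero (φ : N →ₗ[A] N') (hφ : Function.Injective φ) :
    Function.Injective (Tmap L X φ 0) := by
  haveI : Mono (ModuleCat.ofHom φ) := (ModuleCat.mono_iff_injective _).2 hφ
  haveI : Mono (L.map (ModuleCat.ofHom φ)) := inferInstance
  exact Ext.postcomp_mk₀_injective_of_mono X (L.map (ModuleCat.ofHom φ))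

/-- multiplication by a scalar. -/
noncomputable abbrev Tsmul (a : A) (n : ℕ) : Tm L X N n →+ Tm L X N n :=
  Tmap L X (a • (LinearMap.id : N →ₗ[A] N)) n

lemma Tmap_Tsmul (φ : N →ₗ[A] N') (a : A) (n : ℕ) (x : Tm L X N n) :
    Tmap L X φ n (Tsmul L X a n x) = Tsmul L X a n (Tmap L X φ n x) := by
  rw [← Tmap_comp, ← Tmap_comp]
  apply Tmap_congr
  ext m
  simp

lemma Tsmul_mul (a b : A) (n : ℕ) (x : Tm L X N n) :
    Tsmul L X (a * b) n x = Tsmul L X a n (Tsmul L X b n x) := by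
  rw [← Tmap_comp]
  apply Tmap_congr
  ext m
  simp [mul_smul]

lemma Tmap_smul_eq (φ : N →ₗ[A] N') (a : A) (n : ℕ) (x : Tm L X N n) :
    Tmap L X (a • φ) n x = Tsmul L X a n (Tmap L X φ n x) := by
  rw [← Tmap_comp]
  apply Tmap_congr
  ext m
  simp

end maps

section ses

variable {N : Type u} [AddCommGroup N] [Module A N] (P : Submodule A N)

/-- the short exact sequence `0 → P → N → N/P → 0`. -/
noncomputable def ses : ShortComplex (ModuleCat.{u} A) :=
  ShortComplex.mk (ModuleCat.ofHom P.subtype) (ModuleCat.ofHom P.mkQ) (by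
    ext x
    simp)

lemma ses_shortExact : (ses P).ShortExact := by
  have hmono : Mono (ses P).f := (ModuleCat.mono_iff_injective _).2 P.injective_subtype
  have hepi : Epi (ses P).g := (ModuleCat.epi_iff_surjective _).2 P.mkQ_surjective
  refine ShortComplex.ShortExact.mk' ?_ hmono hepi
  rw [ShortComplex.moduleCat_exact_iff]
  intro x hx
  have hx' : P.mkQ x = 0 := hx
  rw [Submodule.mkQ_apply, Submodule.Quotient.mk_eq_zero] at hx'
  exact ⟨⟨x, hx'⟩, rfl⟩

/-- the connecting map. -/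
noncomputable def Tδ (n : ℕ) : Tm L X (N ⧸ P) n →+ Tm L X P (n + 1) :=
  (ofExt L X).δ (ses P) (ses_shortExact P) n

lemma exact₃ (n : ℕ) (y : Tm L X (N ⧸ P) n) (hy : Tδ L X P n y = 0) :
    ∃ x : Tm L X N n, Tmap L X P.mkQ n x = y :=
  (ofExt L X).exact₃ (ses P) (ses_shortExact P) n y hy

lemma exact₂ (n : ℕ) (x : Tm L X N n) (hx : Tmap L X P.mkQ n x = 0) :
    ∃ z : Tm L X P n, Tmap L X P.subtype n z = x :=
  Ext.covariant_sequence_exact₂ X ((ses_shortExact P).map_of_exact L) x hx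

lemma Tmap_mkQ_subtype (n : ℕ) (z : Tm L X P n) :
    Tmap L X P.mkQ n (Tmap L X P.subtype n z) = 0 := by
  rw [← Tmap_comp]
  have h : P.mkQ ∘ₗ P.subtype = 0 := by
    ext x
    simp
  rw [h, Tmap_zero]

variable {P} in
/-- the morphism of short exact sequences attached to `P ≤ P'`. -/
noncomputable def sesHom {P' : Submodule A N} (h : P ≤ P') : ses P ⟶ ses P' where
  τ₁ := ModuleCat.ofHom (Submodule.inclusion h)
  τ₂ := 𝟙 _
  τ₃ := ModuleCat.ofHom (Submodule.mapQ P P' LinearMap.id (by rwa [Submodule.comap_id]))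
  comm₁₂ := by
    ext x
    rfl
  comm₂₃ := by
    ext x
    rfl

lemma Tδ_nat {P' : Submodule A N} (h : P ≤ P') (n : ℕ) (y : Tm L X (N ⧸ P) n) :
    Tδ L X P' n (Tmap L X (Submodule.mapQ P P' LinearMap.id (by rwa [Submodule.comap_id])) n y) =
      Tmap L X (Submodule.inclusion h) (n + 1) (Tδ L X P n y) :=
  (ofExt L X).δ_nat (sesHom h) (ses_shortExact P) (ses_shortExact P') n y

end ses

end Groth.Agent.Lib.Helper20.FormalF1
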