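import Groth.Agent.Lib.Helper20.FormalF9

/-!
# Formal comparison for cohomology on the punctured spectrum (principal ideal case)
-/

set_option autoImplicit false
set_option maxHeartbeats 1600000

open CategoryTheory CategoryTheory.Limits AlgebraicGeometry TopologicalSpace Opposite
open Groth.Agent.Lib.Helper6.TildePunctured Groth.Agent.Lib.Helper13.DeltaFun
open Groth.Agent.Lib.Helper13.SerreCrit1 Groth.Agent.Lib.Helper13.PuncturedLC

namespace Groth.Agent.Lib.Helper20.FormalF10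

open Groth.Agent.Lib.Helper20.FormalF1 Groth.Agent.Lib.Helper20.FormalF2
  Groth.Agent.Lib.Helper20.FormalF4 Groth.Agent.Lib.Helper20.FormalF6
  Groth.Agent.Lib.Helper20.FormalF7 Groth.Agent.Lib.Helper20.FormalF8
  Groth.Agent.Lib.Helper20.FormalF9

universe u

variable (A : Type u) [CommRing A] [IsNoetherianRing A] (𝔞 : Ideal A) (f : A)
  (M : Type u) [AddCommGroup M] [Module A M] [Module.Finite A M]

/-- `L'` for the ring `A`. -/
noncomputable def LA : ModuleCat.{u} A ⥤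
    Sheaf (Opens.grothendieckTopology (Spec (CommRingCat.of A))) AddCommGrpCat.{u} :=
  L' (R := CommRingCat.of A)

theorem additive_L' (R : CommRingCat.{u}) : (L' (R := R)).Additive := inferInstance

theorem pfl_L' (R : CommRingCat.{u}) : PreservesFiniteLimits (L' (R := R)) := inferInstance

theorem pfc_L' (R : CommRingCat.{u}) : PreservesFiniteColimits (L' (R := R)) := inferInstance

instance : (LA A).Additive := additive_L' (CommRingCat.of A)

instance : PreservesFiniteLimits (LA A) := pfl_L' (CommRingCat.of A)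

instance : PreservesFiniteColimits (LA A) := pfc_L' (CommRingCat.of A)

/-- the free sheaf on the punctured spectrum. -/
noncomputable abbrev XA : Sheaf (Opens.grothendieckTopology (Spec (CommRingCat.of A)))
    AddCommGrpCat.{u} :=
  XX (R := CommRingCat.of A) 𝔞

omit [IsNoetherianRing A] in
lemma W_eq_punctured : W (R := CommRingCat.of A) 𝔞 = LocCoh.puncturedOpen A 𝔞 :=
  W_eq (R := CommRingCat.of A) 𝔞

omit [IsNoetherianRing A] [Module.Finite A M] in
lemma ofHom_smul_id (a : A) :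
    ModuleCat.ofHom (a • (LinearMap.id : M →ₗ[A] M)) = a • 𝟙 (ModuleCat.of A M) := rfl

lemma Tsmul_eq_zero_of_LC (q c : ℕ) (h : ∀ y : LocCoh.H 𝔞 (q + 2) M, f ^ c • y = 0)
    (x : Tm (LA A) (XA A 𝔞) M (q + 1)) :
    Tsmul (LA A) (XA A 𝔞) (f ^ c) (q + 1) x = 0 := by
  have h1 := kill_of_LC (R := CommRingCat.of A) 𝔞 q (ModuleCat.of A M) (f ^ c) h x
  rw [← ofHom_smul_id] at h1
  exact h1

theorem formalCohBijective_pos (q c : ℕ) (h1 : ∀ y : LocCoh.H 𝔞 (q + 2) M, f ^ c • y = 0)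
    (h2 : ∀ y : LocCoh.H 𝔞 (q + 3) M, f ^ c • y = 0) :
    Formal2.FormalCohBijective A (Ideal.span {f}) M (q + 1) (LocCoh.puncturedOpen A 𝔞) := by
  rw [← W_eq_punctured]
  have key := formal_pos (LA A) (XA A 𝔞) f (M := M)
    (q + 1) c (Tsmul_eq_zero_of_LC A 𝔞 f M q c h1) (Tsmul_eq_zero_of_LC A 𝔞 f M (q + 1) c h2)
  exact key


/-- `β` for the ring `A`. -/
noncomputable def βA (N : Type u) [AddCommGroup N] [Module A N] : N →+ Tm (LA A) (XA A 𝔞) N 0 :=
  β' (R := CommRingCat.of A) 𝔞 (ModuleCat.of A N)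

omit [IsNoetherianRing A] [Module.Finite A M] in
lemma βA_natural {N : Type u} [AddCommGroup N] [Module A N] (φ : M →ₗ[A] N) (m : M) :
    Tmap (LA A) (XA A 𝔞) φ 0 (βA A 𝔞 M m) = βA A 𝔞 N (φ m) :=
  β'_natural (R := CommRingCat.of A) 𝔞 (ModuleCat.ofHom φ) m

theorem formalCohBijective_zero [IsAdicComplete (Ideal.span {f}) A] (N c : ℕ)
    (h1 : ∀ y : LocCoh.H 𝔞 1 M, f ^ N • y = 0) (h2 : ∀ y : LocCoh.H 𝔞 2 M, f ^ c • y = 0) :
    Formal2.FormalCohBijective A (Ideal.span {f}) M 0 (LocCoh.puncturedOpen A 𝔞) := by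
  rw [← W_eq_punctured]
  have hβs : ∀ (a : A) (m : M),
      Tsmul (LA A) (XA A 𝔞) a 0 (βA A 𝔞 M m) = βA A 𝔞 M (a • m) :=
    fun a m => βA_natural A 𝔞 M (a • (LinearMap.id : M →ₗ[A] M)) m
  have hβq : ∀ (n : ℕ) (m : M), m ∈ Nn f M (n + 1) →
      bb (LA A) (XA A 𝔞) f 0 n (βA A 𝔞 M m) = 0 := by
    intro n m hm
    have h3 := βA_natural A 𝔞 M (Nn f M (n + 1)).mkQ m
    have h4 : (Nn f M (n + 1)).mkQ m = 0 := (Submodule.Quotient.mk_eq_zero _).2 hm
    rw [h4, map_zero] at h3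
    exact h3
  have hβN : ∀ γ : Tm (LA A) (XA A 𝔞) M 0,
      ∃ m : M, Tsmul (LA A) (XA A 𝔞) (f ^ N) 0 γ = βA A 𝔞 M m := by
    intro γ
    obtain ⟨m, hm⟩ := β'_exists (R := CommRingCat.of A) 𝔞 (ModuleCat.of A M) (f ^ N) h1 γ
    rw [← ofHom_smul_id] at hm
    exact ⟨m, hm⟩
  have key := formal_zero (LA A) (XA A 𝔞) f (βA A 𝔞 M) hβs hβq N hβN c
    (Tsmul_eq_zero_of_LC A 𝔞 f M 0 c h2)
  exact key

end Groth.Agent.Lib.Helper20.FormalF10
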