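import Mathlib
import Groth.Agent.Lib.Helper20.FormalF1

/-!
# The submodules `f^n M`, multiplication isomorphisms and vanishing of transition maps
-/

set_option autoImplicit false
set_option maxHeartbeats 400000
universe w u v' u'

open CategoryTheory CategoryTheory.Limits Abelian

namespace Groth.Agent.Lib.Helper20.FormalF2

open Groth.Agent.Lib.Helper20.FormalF1

variable {A : Type u} [CommRing A] (f : A) (M : Type u) [AddCommGroup M] [Module A M]

/-- `f^n M = (f)^n • ⊤`. -/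
abbrev Nn (n : ℕ) : Submodule A M := (Ideal.span {f}) ^ n • (⊤ : Submodule A M)

lemma mem_Nn_iff (n : ℕ) (x : M) : x ∈ Nn f M n ↔ ∃ m : M, f ^ n • m = x := by
  rw [Nn, Ideal.span_singleton_pow, Submodule.ideal_span_singleton_smul,
    Submodule.mem_smul_pointwise_iff_exists]
  constructor
  · rintro ⟨m, -, hm⟩
    exact ⟨m, hm⟩
  · rintro ⟨m, hm⟩
    exact ⟨m, Submodule.mem_top, hm⟩

lemma Nn_antitone {m n : ℕ} (h : m ≤ n) : Nn f M n ≤ Nn f M m :=
  Submodule.smul_mono_left (Ideal.pow_le_pow_right h)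

/-- the inclusion `f^n M ⊆ f^m M`. -/
abbrev incl {m n : ℕ} (h : m ≤ n) : Nn f M n →ₗ[A] Nn f M m :=
  Submodule.inclusion (Nn_antitone f M h)

lemma smul_mem_Nn (n e : ℕ) (x : M) (hx : x ∈ Nn f M n) : f ^ e • x ∈ Nn f M (n + e) := by
  rw [mem_Nn_iff] at hx ⊢
  obtain ⟨m, rfl⟩ := hx
  exact ⟨m, by rw [smul_smul, ← pow_add, add_comm]⟩

/-- multiplication by `f^e`, `f^n M → f^(n+e) M`. -/
noncomputable def mulE (n e : ℕ) : Nn f M n →ₗ[A] Nn f M (n + e) :=
  LinearMap.codRestrict (Nn f M (n + e)) ((f ^ e) • (Nn f M n).subtype)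
    (fun x => smul_mem_Nn f M n e x.1 x.2)

lemma mulE_coe (n e : ℕ) (x : Nn f M n) : ((mulE f M n e x : Nn f M (n + e)) : M) = f ^ e • (x : M) :=
  rfl

lemma incl_comp_mulE (n e : ℕ) :
    incl f M (Nat.le_add_right n e) ∘ₗ mulE f M n e = (f ^ e) • (LinearMap.id : Nn f M n →ₗ[A] _) := by
  ext x
  rfl

lemma mulE_comp_incl (n e : ℕ) :
    mulE f M n e ∘ₗ incl f M (Nat.le_add_right n e) =
      (f ^ e) • (LinearMap.id : Nn f M (n + e) →ₗ[A] _) := by
  ext x
  rfl

/-- multiplication by `f^n`, `M → f^n M`. -/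
noncomputable def mul0 (n : ℕ) : M →ₗ[A] Nn f M n :=
  LinearMap.codRestrict (Nn f M n) ((f ^ n) • LinearMap.id)
    (fun x => (mem_Nn_iff f M n _).2 ⟨x, rfl⟩)

lemma subtype_comp_mul0 (n : ℕ) :
    (Nn f M n).subtype ∘ₗ mul0 f M n = (f ^ n) • (LinearMap.id : M →ₗ[A] M) := by
  ext x
  rfl

lemma mul0_comp_subtype (n : ℕ) :
    mul0 f M n ∘ₗ (Nn f M n).subtype = (f ^ n) • (LinearMap.id : Nn f M n →ₗ[A] _) := by
  ext x
  rfl

/-- stabilisation of the `f`-power torsion. -/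
def Stab (c' : ℕ) : Prop := ∀ (k : ℕ) (m : M), f ^ (c' + k) • m = 0 → f ^ c' • m = 0

lemma exists_stab [IsNoetherian A M] : ∃ c' : ℕ, Stab f M c' := by
  let chain : ℕ →o Submodule A M :=
    ⟨fun n => LinearMap.ker ((f ^ n) • (LinearMap.id : M →ₗ[A] M)), by
      intro a b hab x hx
      rw [LinearMap.mem_ker, LinearMap.smul_apply, LinearMap.id_apply] at hx ⊢
      obtain ⟨k, rfl⟩ := Nat.exists_eq_add_of_le hab
      rw [pow_add, mul_comm, mul_smul, hx, smul_zero]⟩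
  obtain ⟨c', hc'⟩ := monotone_stabilizes_iff_noetherian.mpr (inferInstance : IsNoetherian A M) chain
  refine ⟨c', fun k m hm => ?_⟩
  have h1 : m ∈ chain (c' + k) := by
    change m ∈ LinearMap.ker ((f ^ (c' + k)) • (LinearMap.id : M →ₗ[A] M))
    rw [LinearMap.mem_ker, LinearMap.smul_apply, LinearMap.id_apply]
    exact hm
  rw [← hc' (c' + k) (Nat.le_add_right _ _)] at h1
  have h2 : m ∈ LinearMap.ker ((f ^ c') • (LinearMap.id : M →ₗ[A] M)) := h1
  rw [LinearMap.mem_ker, LinearMap.smul_apply, LinearMap.id_apply] at h2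
  exact h2

variable {f M}

lemma smul_injective_Nn {c' : ℕ} (hc' : Stab f M c') (n : ℕ) (hn : c' ≤ n) (e : ℕ)
    (x : Nn f M n) (hx : f ^ e • x = 0) : x = 0 := by
  obtain ⟨m, hm⟩ := (mem_Nn_iff f M n _).1 x.2
  have h1 : f ^ e • (x : M) = 0 := by
    have := congrArg Subtype.val hx
    simpa using this
  obtain ⟨k, rfl⟩ := Nat.exists_eq_add_of_le hn
  have h2 : f ^ (c' + (k + e)) • m = 0 := by
    rw [← hm, smul_smul, ← pow_add] at h1
    rw [← h1]
    congr 2
    omega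
  have h3 := hc' (k + e) m h2
  apply Subtype.ext
  rw [← hm, pow_add, mul_comm, mul_smul, h3, smul_zero]
  rfl

lemma mulE_bijective {c' : ℕ} (hc' : Stab f M c') (n : ℕ) (hn : c' ≤ n) (e : ℕ) :
    Function.Bijective (mulE f M n e) := by
  constructor
  · rw [← LinearMap.ker_eq_bot, LinearMap.ker_eq_bot']
    intro x hx
    apply smul_injective_Nn hc' n hn e x
    apply Subtype.ext
    have := congrArg Subtype.val hx
    simpa [mulE_coe] using this
  · intro y
    obtain ⟨m, hm⟩ := (mem_Nn_iff f M (n + e) _).1 y.2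
    refine ⟨⟨f ^ n • m, (mem_Nn_iff f M n _).2 ⟨m, rfl⟩⟩, ?_⟩
    apply Subtype.ext
    rw [mulE_coe]
    change f ^ e • f ^ n • m = _
    rw [← hm, smul_smul, ← pow_add, add_comm]

end Groth.Agent.Lib.Helper20.FormalF2
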