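import Mathlib
import Groth.Agent.Lib.Helper20.FormalF2

/-!
# Vanishing of the transition maps `T^j(f^(n+e) M) → T^j(f^n M)`
-/

set_option autoImplicit false
set_option maxHeartbeats 400000
universe w u v' u'

open CategoryTheory CategoryTheory.Limits Abelian

namespace Groth.Agent.Lib.Helper20.FormalF3

open Groth.Agent.Lib.Helper20.FormalF1 Groth.Agent.Lib.Helper20.FormalF2

variable {A : Type u} [CommRing A] {ℬ : Type u'} [Category.{v'} ℬ] [Abelian ℬ] [HasExt.{w} ℬ]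
  (L : ModuleCat.{u} A ⥤ ℬ) [L.Additive] [PreservesFiniteLimits L] [PreservesFiniteColimits L]
  (X : ℬ) {f : A} {M : Type u} [AddCommGroup M] [Module A M]

lemma Tsmul_pow_add (a : A) (m n : ℕ) (j : ℕ) {N : Type u} [AddCommGroup N] [Module A N]
    (x : Tm L X N j) :
    Tsmul L X (a ^ (m + n)) j x = Tsmul L X (a ^ m) j (Tsmul L X (a ^ n) j x) := by
  rw [pow_add, Tsmul_mul]

/-- a bijective linear map induces a surjection. -/
lemma Tmap_surjective_of_bijective {N N' : Type u} [AddCommGroup N] [Module A N]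
    [AddCommGroup N'] [Module A N'] (φ : N →ₗ[A] N') (hφ : Function.Bijective φ) (j : ℕ) :
    Function.Surjective (Tmap L X φ j) := by
  intro y
  let e := LinearEquiv.ofBijective φ hφ
  refine ⟨Tmap L X e.symm.toLinearMap j y, ?_⟩
  rw [← Tmap_comp]
  have h : φ ∘ₗ e.symm.toLinearMap = LinearMap.id := by
    ext z
    exact e.apply_symm_apply z
  rw [h, Tmap_id]

/-- Claim K for `n = c'`. -/
lemma kill_base (j c c' : ℕ) (hM : ∀ x : Tm L X M j, Tsmul L X (f ^ c) j x = 0)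
    (x : Tm L X (Nn f M c') j) : Tsmul L X (f ^ (c + c')) j x = 0 := by
  rw [Tsmul_pow_add]
  have h1 : Tsmul L X (f ^ c') j x =
      Tmap L X (mul0 f M c') j (Tmap L X (Nn f M c').subtype j x) := by
    rw [← Tmap_comp, mul0_comp_subtype]
  rw [h1, ← Tmap_Tsmul, hM, map_zero]

/-- Claim K. -/
lemma kill (j c c' : ℕ) (hc' : Stab f M c')
    (hM : ∀ x : Tm L X M j, Tsmul L X (f ^ c) j x = 0) (n : ℕ) (hn : c' ≤ n)
    (x : Tm L X (Nn f M n) j) : Tsmul L X (f ^ (c + c')) j x = 0 := by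
  obtain ⟨k, rfl⟩ := Nat.exists_eq_add_of_le hn
  obtain ⟨z, rfl⟩ := Tmap_surjective_of_bijective L X (mulE f M c' k)
    (mulE_bijective hc' c' le_rfl k) j x
  rw [← Tmap_Tsmul, kill_base L X j c c' hM, map_zero]

/-- Claim B. -/
lemma incl_eq_zero (j c c' : ℕ) (hc' : Stab f M c')
    (hM : ∀ x : Tm L X M j, Tsmul L X (f ^ c) j x = 0) (n : ℕ) (hn : c' ≤ n) (e : ℕ)
    (he : c + c' ≤ e) (x : Tm L X (Nn f M (n + e)) j) :
    Tmap L X (incl f M (Nat.le_add_right n e)) j x = 0 := by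
  obtain ⟨z, rfl⟩ := Tmap_surjective_of_bijective L X (mulE f M n e)
    (mulE_bijective hc' n hn e) j x
  rw [← Tmap_comp, incl_comp_mulE]
  obtain ⟨k, rfl⟩ := Nat.exists_eq_add_of_le he
  rw [add_comm (c + c') k, Tsmul_pow_add, kill L X j c c' hc' hM n hn, map_zero]

/-- Claim B for a general pair of indices. -/
lemma incl_eq_zero' (j c c' : ℕ) (hc' : Stab f M c')
    (hM : ∀ x : Tm L X M j, Tsmul L X (f ^ c) j x = 0) (n n' : ℕ) (hn : c' ≤ n)
    (he : n + (c + c') ≤ n') (x : Tm L X (Nn f M n') j) :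
    Tmap L X (incl f M ((Nat.le_add_right n (c + c')).trans he)) j x = 0 := by
  obtain ⟨e, rfl⟩ := Nat.exists_eq_add_of_le ((Nat.le_add_right n (c + c')).trans he)
  exact incl_eq_zero L X j c c' hc' hM n hn e (by omega) x

/-- Claim A. -/
lemma subtype_eq_zero (j c c' : ℕ) (hc' : Stab f M c')
    (hM : ∀ x : Tm L X M j, Tsmul L X (f ^ c) j x = 0) (n : ℕ) (hn : c' + (c + c') ≤ n)
    (x : Tm L X (Nn f M n) j) : Tmap L X (Nn f M n).subtype j x = 0 := by
  have h : (Nn f M n).subtype = (Nn f M c').subtype ∘ₗ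
      incl f M ((Nat.le_add_right c' (c + c')).trans hn) := by
    ext z
    rfl
  rw [Tmap_congr L X h, Tmap_comp, incl_eq_zero' L X j c c' hc' hM c' n le_rfl hn, map_zero]

end Groth.Agent.Lib.Helper20.FormalF3
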