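import Mathlib
import Groth.Prelude.Def_Formal2
import Groth.Agent.Lib.Helper20.FormalF3

/-!
# Formal comparison in positive degrees for the δ-functor `N ↦ Ext^n(X, L N)`
-/

set_option autoImplicit false
set_option maxHeartbeats 400000
universe w u v' u'

open CategoryTheory CategoryTheory.Limits Abelian

namespace Groth.Agent.Lib.Helper20.FormalF4

open Groth.Agent.Lib.Helper20.FormalF1 Groth.Agent.Lib.Helper20.FormalF2
  Groth.Agent.Lib.Helper20.FormalF3

variable {A : Type u} [CommRing A] {ℬ : Type u'} [Category.{v'} ℬ] [Abelian ℬ] [HasExt.{w} ℬ]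
  (L : ModuleCat.{u} A ⥤ ℬ) [L.Additive] [PreservesFiniteLimits L] [PreservesFiniteColimits L]
  (X : ℬ) (f : A) (M : Type u) [AddCommGroup M] [Module A M]

/-- the transition map `M/f^(n'+1) → M/f^(n+1)`. -/
noncomputable abbrev trq {n n' : ℕ} (h : n ≤ n') :
    (M ⧸ Nn f M (n' + 1)) →ₗ[A] (M ⧸ Nn f M (n + 1)) :=
  Submodule.mapQ (Nn f M (n' + 1)) (Nn f M (n + 1)) LinearMap.id (by
    rw [Submodule.comap_id]
    exact Nn_antitone f M (Nat.succ_le_succ h))

lemma trq_comp_mkQ {n n' : ℕ} (h : n ≤ n') :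
    trq f M h ∘ₗ (Nn f M (n' + 1)).mkQ = (Nn f M (n + 1)).mkQ := by
  ext x
  rw [LinearMap.comp_apply, Submodule.mkQ_apply, Submodule.mapQ_apply, LinearMap.id_apply,
    Submodule.mkQ_apply]

lemma trq_refl (n : ℕ) : trq f M (le_refl n) = LinearMap.id := by
  apply Submodule.linearMap_qext
  ext x
  rw [LinearMap.comp_apply, Submodule.mkQ_apply, Submodule.mapQ_apply, LinearMap.id_apply,
    LinearMap.comp_apply, LinearMap.id_apply, Submodule.mkQ_apply]

lemma trq_trans {n n' n'' : ℕ} (h : n ≤ n') (h' : n' ≤ n'') :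
    trq f M h ∘ₗ trq f M h' = trq f M (h.trans h') := by
  apply Submodule.linearMap_qext
  ext x
  rw [LinearMap.comp_apply, LinearMap.comp_apply, Submodule.mkQ_apply, Submodule.mapQ_apply,
    LinearMap.id_apply, Submodule.mapQ_apply, LinearMap.id_apply, LinearMap.comp_apply,
    Submodule.mkQ_apply, Submodule.mapQ_apply, LinearMap.id_apply]

lemma quotPowTrans_eq (n : ℕ) :
    Formal2.quotPowTrans A (Ideal.span {f}) M n = trq f M (Nat.le_succ n) := by
  apply Submodule.linearMap_qext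
  ext x
  rw [LinearMap.comp_apply, LinearMap.comp_apply, Submodule.mkQ_apply, Submodule.mapQ_apply,
    LinearMap.id_apply]
  unfold Formal2.quotPowTrans
  rw [Submodule.mapQ_apply, LinearMap.id_apply]

variable {M}

/-- compatible families for the δ-functor. -/
def Compat (j : ℕ) (y : ∀ n, Tm L X (M ⧸ Nn f M (n + 1)) j) : Prop :=
  ∀ n, Tmap L X (Formal2.quotPowTrans A (Ideal.span {f}) M n) j (y (n + 1)) = y n

lemma compat_iter {j : ℕ} {y : ∀ n, Tm L X (M ⧸ Nn f M (n + 1)) j} (hy : Compat L X f j y)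
    (n n' : ℕ) (h : n ≤ n') : Tmap L X (trq f M h) j (y n') = y n := by
  induction n', h using Nat.le_induction with
  | base => rw [trq_refl, Tmap_id]
  | succ n' h ih =>
    have h1 : trq f M (h.trans (Nat.le_succ n')) =
        trq f M h ∘ₗ Formal2.quotPowTrans A (Ideal.span {f}) M n' := by
      rw [quotPowTrans_eq, trq_trans]
    rw [Tmap_congr L X h1, Tmap_comp, hy n', ih]

/-- the comparison maps `T^j(M) → T^j(M/f^(n+1)M)`. -/
noncomputable abbrev bb (j n : ℕ) : Tm L X M j →+ Tm L X (M ⧸ Nn f M (n + 1)) j :=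
  Tmap L X (Nn f M (n + 1)).mkQ j

lemma trq_bb (j : ℕ) {n n' : ℕ} (h : n ≤ n') (x : Tm L X M j) :
    Tmap L X (trq f M h) j (bb L X f j n' x) = bb L X f j n x := by
  rw [← Tmap_comp, trq_comp_mkQ]

variable [IsNoetherian A M]

/-- injectivity of `T^j(M) → T^j(M/f^(n+1)M)` for large `n`. -/
lemma bb_injective (j c c' : ℕ) (hc' : Stab f M c')
    (hM : ∀ x : Tm L X M j, Tsmul L X (f ^ c) j x = 0) (n : ℕ) (hn : c' + (c + c') ≤ n + 1)
    (x : Tm L X M j) (hx : bb L X f j n x = 0) : x = 0 := by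
  obtain ⟨z, rfl⟩ := exact₂ L X (Nn f M (n + 1)) j x hx
  exact subtype_eq_zero L X j c c' hc' hM (n + 1) hn z

/-- the connecting maps kill a compatible family. -/
lemma Tδ_compat_eq_zero (j c c' : ℕ) (hc' : Stab f M c')
    (hM : ∀ x : Tm L X M (j + 1), Tsmul L X (f ^ c) (j + 1) x = 0)
    (y : ∀ n, Tm L X (M ⧸ Nn f M (n + 1)) j) (hy : Compat L X f j y) (n : ℕ) :
    Tδ L X (Nn f M (n + 1)) j (y n) = 0 := by
  -- go up by `c' + (c + c')`
  set n' := n + (c' + (c + c')) with hn'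
  have hle : n ≤ n' := Nat.le_add_right _ _
  have h1 := compat_iter L X f hy n n' hle
  rw [← h1]
  have h2 := Tδ_nat L X (Nn f M (n' + 1)) (Nn_antitone f M (Nat.succ_le_succ hle)) j (y n')
  rw [h2]
  -- factor the inclusion through `f^(n+1+c')M`
  have hfac : Submodule.inclusion (Nn_antitone f M (Nat.succ_le_succ hle)) =
      incl f M (Nat.le_add_right (n + 1) c') ∘ₗ
        incl f M (m := n + 1 + c') (n := n' + 1) (by omega) := by
    ext z
    rfl
  rw [Tmap_congr L X hfac, Tmap_comp]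
  have h3 := incl_eq_zero' L X (j + 1) c c' hc' hM (n + 1 + c') (n' + 1) (by omega) (by omega)
    (Tδ L X (Nn f M (n' + 1)) j (y n'))
  rw [h3, map_zero]

/-- **Formal comparison** in a degree `j` such that `T^j(M)` and `T^(j+1)(M)` are killed by a power
of `f`. -/
theorem formal_pos (j c : ℕ)
    (hM : ∀ x : Tm L X M j, Tsmul L X (f ^ c) j x = 0)
    (hM1 : ∀ x : Tm L X M (j + 1), Tsmul L X (f ^ c) (j + 1) x = 0) :
    (∀ x x' : Tm L X M j, (∀ n, bb L X f j n x = bb L X f j n x') → x = x') ∧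
    ∀ y : ∀ n, Tm L X (M ⧸ Nn f M (n + 1)) j, Compat L X f j y →
      ∃ x : Tm L X M j, ∀ n, bb L X f j n x = y n := by
  obtain ⟨c', hc'⟩ := exists_stab f M
  set n₀ := c' + (c + c') with hn₀
  have hinj : ∀ n, n₀ ≤ n → ∀ x : Tm L X M j, bb L X f j n x = 0 → x = 0 :=
    fun n hn x hx => bb_injective L X f j c c' hc' hM n (by omega) x hx
  refine ⟨fun x x' h => ?_, fun y hy => ?_⟩
  · have h1 : bb L X f j n₀ (x - x') = 0 := by
      rw [map_sub, h n₀, sub_self]
    exact sub_eq_zero.1 (hinj n₀ le_rfl _ h1)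
  · have hδ := Tδ_compat_eq_zero L X f j c c' hc' hM1 y hy
    choose xs hxs using fun n => exact₃ L X (Nn f M (n + 1)) j (y n) (hδ n)
    refine ⟨xs n₀, fun n => ?_⟩
    rcases le_total n n₀ with h | h
    · rw [← trq_bb L X f j h, hxs n₀]
      exact compat_iter L X f hy n n₀ h
    · have h1 : xs n = xs n₀ := by
        have h2 : bb L X f j n₀ (xs n - xs n₀) = 0 := by
          rw [map_sub, ← trq_bb L X f j h (xs n), hxs n, hxs n₀,
            compat_iter L X f hy n₀ n h, sub_self]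
        exact sub_eq_zero.1 (hinj n₀ le_rfl _ h2)
      rw [← h1]
      exact hxs n

end Groth.Agent.Lib.Helper20.FormalF4
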