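import Mathlib
import Groth.Prelude.Def_Formal2
import Groth.Agent.Lib.Helper20.FormalF4
import Groth.Agent.Lib.Helper1.FFAdic

/-!
# Formal comparison in degree zero
-/

set_option autoImplicit false
set_option maxHeartbeats 400000
universe w u v' u'

open CategoryTheory CategoryTheory.Limits Abelian

namespace Groth.Agent.Lib.Helper20.FormalF5

open Groth.Agent.Lib.Helper20.FormalF1 Groth.Agent.Lib.Helper20.FormalF2
  Groth.Agent.Lib.Helper20.FormalF3 Groth.Agent.Lib.Helper20.FormalF4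

variable {A : Type u} [CommRing A] {ℬ : Type u'} [Category.{v'} ℬ] [Abelian ℬ] [HasExt.{w} ℬ]
  (L : ModuleCat.{u} A ⥤ ℬ) [L.Additive] [PreservesFiniteLimits L] [PreservesFiniteColimits L]
  (X : ℬ) (f : A) {M : Type u} [AddCommGroup M] [Module A M]

lemma Tsmul_one {N : Type u} [AddCommGroup N] [Module A N] (j : ℕ) (x : Tm L X N j) :
    Tsmul L X (1 : A) j x = x := by
  have h : (1 : A) • (LinearMap.id : N →ₗ[A] N) = LinearMap.id := one_smul _ _
  rw [Tmap_congr L X h, Tmap_id]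

/-- an element in the kernel of `T^j(M) → T^j(M/f^(c'+e+1))` is divisible by `f^(e+1)`. -/
lemma exists_Tsmul_eq {c' : ℕ} (hc' : Stab f M c') (j n e : ℕ) (hn : n = c' + e) (d : Tm L X M j)
    (hd : bb L X f j n d = 0) : ∃ g : Tm L X M j, d = Tsmul L X (f ^ (e + 1)) j g := by
  subst hn
  obtain ⟨z, rfl⟩ := exact₂ L X (Nn f M (c' + e + 1)) j d hd
  obtain ⟨w, rfl⟩ := Tmap_surjective_of_bijective L X (mulE f M c' (e + 1))
    (mulE_bijective hc' c' le_rfl (e + 1)) j z
  refine ⟨Tmap L X (Nn f M c').subtype j w, ?_⟩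
  rw [← Tmap_comp, ← Tmap_smul_eq]
  apply Tmap_congr
  ext x
  rfl

variable (β : M →+ Tm L X M 0)
  (hβs : ∀ (a : A) (m : M), Tsmul L X a 0 (β m) = β (a • m))
  (hβq : ∀ (n : ℕ) (m : M), m ∈ Nn f M (n + 1) → bb L X f 0 n (β m) = 0)
  (N : ℕ) (hβN : ∀ γ : Tm L X M 0, ∃ m : M, Tsmul L X (f ^ N) 0 γ = β m)

/-- the kernel of `β` as a submodule. -/
def Kβ (hβs : ∀ (a : A) (m : M), Tsmul L X a 0 (β m) = β (a • m)) : Submodule A M where
  carrier := {m | β m = 0}
  add_mem' := by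
    intro a b ha hb
    change β (a + b) = 0
    rw [map_add, ha, hb, add_zero]
  zero_mem' := map_zero β
  smul_mem' := by
    intro a m hm
    change β (a • m) = 0
    rw [← hβs, hm, map_zero]

include hβs hβN in
lemma Tsmul_pow_eq_zero [IsNoetherianRing A] [Module.Finite A M]
    (hjac : Ideal.span {f} ≤ Ideal.jacobson (⊥ : Ideal A)) {c' : ℕ} (hc' : Stab f M c')
    (d : Tm L X M 0) (hd : ∀ n, bb L X f 0 n d = 0) : Tsmul L X (f ^ N) 0 d = 0 := by
  obtain ⟨m, hm⟩ := hβN d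
  rw [hm]
  have key : (Kβ L X β hβs).mkQ m ∈ (⨅ i : ℕ, (Ideal.span {f}) ^ i • ⊤ :
      Submodule A (M ⧸ Kβ L X β hβs)) := by
    rw [Submodule.mem_iInf]
    intro i
    cases i with
    | zero =>
      rw [pow_zero, Ideal.one_eq_top, Submodule.top_smul]
      exact Submodule.mem_top
    | succ e =>
      obtain ⟨g, hg⟩ := exists_Tsmul_eq L X f hc' 0 (c' + e) e rfl d (hd _)
      obtain ⟨me, hme⟩ := hβN g
      have h1 : β m = β (f ^ (e + 1) • me) := by
        rw [← hm, hg, ← Tsmul_mul, mul_comm, Tsmul_mul, hme, hβs]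
      have h2 : m - f ^ (e + 1) • me ∈ Kβ L X β hβs := by
        change β (m - f ^ (e + 1) • me) = 0
        rw [map_sub, h1, sub_self]
      have h3 : (Kβ L X β hβs).mkQ m = f ^ (e + 1) • (Kβ L X β hβs).mkQ me := by
        rw [← map_smul, ← sub_eq_zero, ← map_sub]
        exact (Submodule.Quotient.mk_eq_zero _).2 h2
      rw [h3]
      exact Submodule.smul_mem_smul
        (Ideal.pow_mem_pow (Ideal.mem_span_singleton_self f) _) Submodule.mem_top
  rw [Ideal.iInf_pow_smul_eq_bot_of_le_jacobson _ hjac, Submodule.mem_bot] at key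
  exact (Submodule.Quotient.mk_eq_zero _).1 key

include hβs hβN in
/-- injectivity in degree zero. -/
lemma inj_zero [IsNoetherianRing A] [Module.Finite A M]
    (hjac : Ideal.span {f} ≤ Ideal.jacobson (⊥ : Ideal A))
    (d : Tm L X M 0) (hd : ∀ n, bb L X f 0 n d = 0) : d = 0 := by
  obtain ⟨c', hc'⟩ := exists_stab f M
  have h0 := Tsmul_pow_eq_zero L X f β hβs N hβN hjac hc' d hd
  obtain ⟨z, rfl⟩ := exact₂ L X (Nn f M (c' + 1)) 0 d (hd c')
  rw [← Tmap_Tsmul] at h0
  have h1 : Tsmul L X (f ^ N) 0 z = 0 :=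
    Tmap_injective_zero L X _ (Nn f M (c' + 1)).injective_subtype (by rw [h0, map_zero])
  have h2 : z = 0 := by
    refine Tmap_injective_zero L X ((f ^ N) • (LinearMap.id : Nn f M (c' + 1) →ₗ[A] _)) ?_
      (by rw [h1, map_zero])
    intro a b hab
    have h3 : f ^ N • (a - b) = 0 := by
      rw [smul_sub]
      exact sub_eq_zero.2 hab
    exact sub_eq_zero.1 (smul_injective_Nn hc' (c' + 1) (Nat.le_succ _) N _ h3)
  rw [h2, map_zero]

end Groth.Agent.Lib.Helper20.FormalF5
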