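import Mathlib
import Groth.Prelude.Def_Formal2
import Groth.Agent.Lib.Helper20.FormalF5

/-!
# Formal comparison in degree zero: surjectivity, and the main theorem
-/

set_option autoImplicit false
set_option maxHeartbeats 400000
universe w u v' u'

open CategoryTheory CategoryTheory.Limits Abelian

namespace Groth.Agent.Lib.Helper20.FormalF6

open Groth.Agent.Lib.Helper20.FormalF1 Groth.Agent.Lib.Helper20.FormalF2
  Groth.Agent.Lib.Helper20.FormalF3 Groth.Agent.Lib.Helper20.FormalF4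
  Groth.Agent.Lib.Helper20.FormalF5

variable {A : Type u} [CommRing A] {ℬ : Type u'} [Category.{v'} ℬ] [Abelian ℬ] [HasExt.{w} ℬ]
  (L : ModuleCat.{u} A ⥤ ℬ) [L.Additive] [PreservesFiniteLimits L] [PreservesFiniteColimits L]
  (X : ℬ) (f : A) {M : Type u} [AddCommGroup M] [Module A M]
  (β : M →+ Tm L X M 0)
  (hβs : ∀ (a : A) (m : M), Tsmul L X a 0 (β m) = β (a • m))
  (hβq : ∀ (n : ℕ) (m : M), m ∈ Nn f M (n + 1) → bb L X f 0 n (β m) = 0)
  (N : ℕ) (hβN : ∀ γ : Tm L X M 0, ∃ m : M, Tsmul L X (f ^ N) 0 γ = β m)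

include hβs hβq hβN in
theorem surj_zero [IsNoetherianRing A] [Module.Finite A M] [IsAdicComplete (Ideal.span {f}) A]
    (c : ℕ) (hM1 : ∀ x : Tm L X M 1, Tsmul L X (f ^ c) 1 x = 0)
    (y : ∀ n, Tm L X (M ⧸ Nn f M (n + 1)) 0) (hy : Compat L X f 0 y) :
    ∃ x : Tm L X M 0, ∀ n, bb L X f 0 n x = y n := by
  obtain ⟨c', hc'⟩ := exists_stab f M
  have hδ := Tδ_compat_eq_zero L X f 0 c c' hc' hM1 y hy
  choose xs hxs using fun n => exact₃ L X (Nn f M (n + 1)) 0 (y n) (hδ n)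
  have hdiff : ∀ n, bb L X f 0 n (xs (n + 1) - xs n) = 0 := by
    intro n
    rw [map_sub, ← trq_bb L X f 0 (Nat.le_succ n) (xs (n + 1)), hxs (n + 1), hxs n,
      compat_iter L X f hy n (n + 1) (Nat.le_succ n), sub_self]
  have hv : ∀ k, ∃ v : M, v ∈ Nn f M k ∧ xs (c' + N + k + 1) - xs (c' + N + k) = β v := by
    intro k
    obtain ⟨g, hg⟩ := exists_Tsmul_eq L X f hc' 0 (c' + N + k) (N + k) (by omega) _
      (hdiff (c' + N + k))
    obtain ⟨m, hm⟩ := hβN g
    refine ⟨f ^ (k + 1) • m, (mem_Nn_iff f M k _).2 ⟨f • m, ?_⟩, ?_⟩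
    · rw [smul_smul, ← pow_succ]
    · rw [hg, show N + k + 1 = (k + 1) + N by omega, Tsmul_pow_add, hm, hβs]
  choose v hvmem hvdiff using hv
  let σ : ℕ → M := fun k => ∑ j ∈ Finset.range k, v j
  have hσ : ∀ k, xs (c' + N + k) = xs (c' + N) + β (σ k) := by
    intro k
    induction k with
    | zero => simp [σ]
    | succ k ih =>
      have h1 := hvdiff k
      have h2 : σ (k + 1) = σ k + v k := Finset.sum_range_succ _ _
      have h3 : xs (c' + N + (k + 1)) = xs (c' + N + k) + β (v k) := by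
        rw [← h1]
        change xs (c' + N + k + 1) = _
        abel
      rw [h3, ih, h2, map_add, add_assoc]
  have hcauchy : ∀ {m n : ℕ}, m ≤ n →
      σ m ≡ σ n [SMOD ((Ideal.span {f}) ^ m • ⊤ : Submodule A M)] := by
    intro m n hmn
    rw [SModEq.sub_mem]
    have h1 : σ n - σ m = ∑ j ∈ Finset.Ico m n, v j := by
      rw [Finset.sum_Ico_eq_sub _ hmn]
    have h2 : σ n - σ m ∈ Nn f M m := by
      rw [h1]
      exact Submodule.sum_mem _ (fun j hj => Nn_antitone f M (Finset.mem_Ico.1 hj).1 (hvmem j))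
    have h3 := Submodule.neg_mem _ h2
    rwa [neg_sub] at h3
  haveI : IsAdicComplete (Ideal.span {f}) M :=
    Groth.Agent.Lib.Helper1.FFAdic.isAdicComplete_of_finite _ M
  obtain ⟨s, hs⟩ := IsPrecomplete.prec (inferInstance : IsPrecomplete (Ideal.span {f}) M) hcauchy
  refine ⟨xs (c' + N) + β s, fun n => ?_⟩
  have h1 : xs (c' + N) + β s = xs (c' + N + (n + 1)) + β (s - σ (n + 1)) := by
    rw [hσ (n + 1), map_sub]
    abel
  have h2 : s - σ (n + 1) ∈ Nn f M (n + 1) := by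
    have h3 := Submodule.neg_mem _ (SModEq.sub_mem.1 (hs (n + 1)))
    rwa [neg_sub] at h3
  rw [h1, map_add, hβq n _ h2, add_zero,
    ← trq_bb L X f 0 (show n ≤ c' + N + (n + 1) by omega), hxs]
  exact compat_iter L X f hy n _ _

include hβs hβq hβN in
/-- **Formal comparison in degree zero.** -/
theorem formal_zero [IsNoetherianRing A] [Module.Finite A M] [IsAdicComplete (Ideal.span {f}) A]
    (c : ℕ) (hM1 : ∀ x : Tm L X M 1, Tsmul L X (f ^ c) 1 x = 0) :
    (∀ x x' : Tm L X M 0, (∀ n, bb L X f 0 n x = bb L X f 0 n x') → x = x') ∧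
    ∀ y : ∀ n, Tm L X (M ⧸ Nn f M (n + 1)) 0, Compat L X f 0 y →
      ∃ x : Tm L X M 0, ∀ n, bb L X f 0 n x = y n := by
  refine ⟨fun x x' h => ?_, fun y hy => surj_zero L X f β hβs hβq N hβN c hM1 y hy⟩
  have hjac : Ideal.span {f} ≤ Ideal.jacobson (⊥ : Ideal A) :=
    IsAdicComplete.le_jacobson_bot _
  have h1 : ∀ n, bb L X f 0 n (x - x') = 0 := fun n => by rw [map_sub, h n, sub_self]
  exact sub_eq_zero.1 (inj_zero L X f β hβs N hβN hjac _ h1)

end Groth.Agent.Lib.Helper20.FormalF6
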