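import Groth.Agent.Lib.Helper13.PuncturedLC
import Groth.Agent.Lib.Helper4.LCModel
import Groth.Agent.Lib.Helper4.LC1
import Groth.Agent.Lib.Helper20.FormalF6

/-!
# The δ-functor `M ↦ Ext^n(ℤ_U, M~)` on `Spec R` versus local cohomology
-/

set_option autoImplicit false
set_option maxHeartbeats 800000

open CategoryTheory CategoryTheory.Limits AlgebraicGeometry TopologicalSpace Opposite
open Groth.Agent.Lib.Helper6.TildePunctured Groth.Agent.Lib.Helper13.DeltaFun
open Groth.Agent.Lib.Helper13.SerreCrit1 Groth.Agent.Lib.Helper13.PuncturedLC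
open Groth.Agent.Lib.Helper2.DerivedDFun

namespace Groth.Agent.Lib.Helper20.FormalF7

universe u
variable {R : CommRingCat.{u}} (I : Ideal R)

/-- `M ↦ M~` as an abelian sheaf on `Spec R`. -/
noncomputable def L' : ModuleCat.{u} R ⥤
    Sheaf (Opens.grothendieckTopology (Spec R)) AddCommGrpCat.{u} :=
  tilde.functor R ⋙ TT (Spec R)

instance : (L' (R := R)).Additive := inferInstanceAs ((tilde.functor R ⋙ TT (Spec R)).Additive)

instance : PreservesFiniteLimits (L' (R := R)) :=
  haveI := Groth.Agent.Lib.Helper14.preservesFiniteLimits_tilde R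
  inferInstanceAs (PreservesFiniteLimits (tilde.functor R ⋙ TT (Spec R)))

instance : PreservesFiniteColimits (L' (R := R)) :=
  haveI := Groth.Agent.Lib.Helper14.preservesFiniteColimits_tilde R
  inferInstanceAs (PreservesFiniteColimits (tilde.functor R ⋙ TT (Spec R)))

/-- the free abelian sheaf on the open `W I`. -/
noncomputable abbrev XX : Sheaf (Opens.grothendieckTopology (Spec R)) AddCommGrpCat.{u} :=
  CohCx.freeSheaf (Opens.grothendieckTopology (Spec R)) (W I)

/-- the δ-functor `M ↦ Ext^n(ℤ_W, M~)`. -/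
noncomputable abbrev T' : DFun.{u} (ModuleCat.{u} R) := ofExt (L' (R := R)) (XX I)

/-- degree zero: sections over `W`. -/
noncomputable def sect (M : ModuleCat.{u} R) : (T' I).obj M 0 ≃+ (G I).obj M :=
  (Abelian.Ext.addEquiv₀).trans (CohFree.homEquivSect _ (W I) ((L' (R := R)).obj M))

lemma sect_natural {P Q : ModuleCat.{u} R} (φ : P ⟶ Q) (x : (T' I).obj P 0) :
    sect I Q ((T' I).map φ 0 x) = ((G I).map φ).hom (sect I P x) := by
  have h1 : Abelian.Ext.addEquiv₀ ((T' I).map φ 0 x) =
      Abelian.Ext.addEquiv₀ x ≫ (L' (R := R)).map φ := by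
    delta Abelian.Ext.addEquiv₀
    apply (Abelian.Ext.mk₀_bijective _ _).injective
    simp only [AddEquiv.coe_mk, Abelian.Ext.mk₀_homEquiv₀_apply, ← Abelian.Ext.mk₀_comp_mk₀]
    rfl
  change CohFree.homEquivSect _ (W I) _ (Abelian.Ext.addEquiv₀ ((T' I).map φ 0 x)) = _
  rw [h1]
  rfl

lemma isFlasque_L' [IsNoetherianRing R] (E : ModuleCat.{u} R) [Module.Injective R E] :
    TopCat.Sheaf.IsFlasque ((L' (R := R)).obj E) where
  epi {A B} i := by
    rw [AddCommGrpCat.epi_iff_surjective]
    intro s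
    obtain ⟨t, ht⟩ := Groth.Agent.Lib.Helper13.TildeFlasque.res_surjective E (leOfHom i.unop) s
    exact ⟨t, ht⟩

lemma effaceable_T' [IsNoetherianRing R] : Effaceable (T' I) := by
  intro E hE n x
  haveI : Module.Injective R E := Module.injective_module_of_injective_object R E
  exact Groth.Agent.Lib.Helper1.FlasqueAcyclic.flasque_ext_freeSheaf_eq_zero (W I) n
    ((L' (R := R)).obj E) (isFlasque_L' E) x

/-- degree zero comparison with the derived functors of `Γ(U, (-)~)`. -/
noncomputable def e0' (M : ModuleCat.{u} R) : (T' I).obj M 0 →+ (rdDFun (G I)).obj M 0 :=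
  (((G I).rightDerivedZeroIsoSelf.inv.app M).hom).comp (sect I M).toAddMonoidHom

lemma e0'_bijective (M : ModuleCat.{u} R) : Function.Bijective (e0' I M) := by
  have h1 : Function.Bijective ((G I).rightDerivedZeroIsoSelf.inv.app M).hom :=
    ConcreteCategory.bijective_of_isIso _
  exact h1.comp (sect I M).bijective

lemma e0'_natural {P Q : ModuleCat.{u} R} (φ : P ⟶ Q) (x : (T' I).obj P 0) :
    e0' I Q ((T' I).map φ 0 x) = (rdDFun (G I)).map φ 0 (e0' I P x) := by
  have h2 : ∀ y, ((G I).rightDerivedZeroIsoSelf.inv.app Q).hom (((G I).map φ).hom y) =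
      (((G I).rightDerived 0).map φ).hom (((G I).rightDerivedZeroIsoSelf.inv.app P).hom y) :=
    fun y => ConcreteCategory.congr_hom ((G I).rightDerivedZeroIsoSelf.inv.naturality φ) y
  change ((G I).rightDerivedZeroIsoSelf.inv.app Q).hom (sect I Q ((T' I).map φ 0 x)) = _
  rw [sect_natural]
  exact h2 _

end Groth.Agent.Lib.Helper20.FormalF7
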