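import Groth.Agent.Lib.Helper20.FormalF7

/-!
# `Ext^(q+1)(ℤ_U, M~)` is killed by what kills `H^(q+2)_I(M)`; the degree zero map `β`
-/

set_option autoImplicit false
set_option maxHeartbeats 800000

open CategoryTheory CategoryTheory.Limits AlgebraicGeometry TopologicalSpace Opposite
open Groth.Agent.Lib.Helper6.TildePunctured Groth.Agent.Lib.Helper13.DeltaFun
open Groth.Agent.Lib.Helper13.SerreCrit1 Groth.Agent.Lib.Helper13.PuncturedLC
open Groth.Agent.Lib.Helper2.DerivedDFun

namespace Groth.Agent.Lib.Helper20.FormalF8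

open Groth.Agent.Lib.Helper20.FormalF7

universe u
variable {R : CommRingCat.{u}} (I : Ideal R)

/-- local cohomology is `R`-linear on endomorphisms given by scalars. -/
lemma lc_map_smul (n : ℕ) (M : ModuleCat.{u} R) (r : R) (y : (localCohomology I n).obj M) :
    ((localCohomology I n).map (r • 𝟙 M)).hom y = r • y := by
  apply (Groth.Agent.Lib.Helper4.LC.lcEquiv I M n).injective
  rw [Groth.Agent.Lib.Helper4.LC.lcEquiv_map, map_smul,
    Groth.Agent.Lib.Helper4.LC.HH.smul_eq_map]

variable [IsNoetherianRing R]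

theorem exists_compare' :
    ∃ e : ∀ (P : ModuleCat.{u} R) (n : ℕ), (T' I).obj P n →+ (rdDFun (G I)).obj P n,
      IsHom (T' I) (rdDFun (G I)) e ∧ (∀ P, e P 0 = e0' I P) ∧
        ∀ P n, Function.Bijective (e P n) :=
  bijective_of_zero (effaceable_T' I) (effaceable_rdDFun (G I))
    (e0' I) (e0'_natural I) (e0'_bijective I)

/-- `R^(q+1) Γ(U, (-)~) ≅ H^(q+2)_I` as abelian-group valued functors. -/
noncomputable def Φ (q : ℕ) : (G I).rightDerived (q + 1) ≅
    localCohomology I (q + 2) ⋙ forget₂ (ModuleCat.{u} R) AddCommGrpCat.{u} :=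
  δIso I q ≪≫ F₁Iso I (q + 2)

theorem kill_of_LC (q : ℕ) (M : ModuleCat.{u} R) (r : R)
    (hr : ∀ y : (localCohomology I (q + 2)).obj M, r • y = 0) (x : (T' I).obj M (q + 1)) :
    (T' I).map (r • 𝟙 M) (q + 1) x = 0 := by
  obtain ⟨e, he, -, hb⟩ := exists_compare' I
  apply (hb M (q + 1)).injective
  rw [he.natural, map_zero]
  set z := e M (q + 1) x with hz
  change (((G I).rightDerived (q + 1)).map (r • 𝟙 M)).hom z = 0
  have hinj : Function.Injective ((Φ I q).hom.app M).hom :=
    (ConcreteCategory.bijective_of_isIso ((Φ I q).hom.app M)).injective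
  apply hinj
  rw [map_zero]
  have hnat := ConcreteCategory.congr_hom ((Φ I q).hom.naturality (r • 𝟙 M)) z
  refine hnat.trans ?_
  change ((localCohomology I (q + 2)).map (r • 𝟙 M)).hom (((Φ I q).hom.app M).hom z) = 0
  rw [lc_map_smul]
  exact hr _

end Groth.Agent.Lib.Helper20.FormalF8
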