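import Groth.Agent.Lib.Helper20.FormalF8

/-!
# The degree zero map `β : M → Ext^0(ℤ_U, M~)` and its cokernel
-/

set_option autoImplicit false
set_option maxHeartbeats 800000

open CategoryTheory CategoryTheory.Limits AlgebraicGeometry TopologicalSpace Opposite
open Groth.Agent.Lib.Helper6.TildePunctured Groth.Agent.Lib.Helper13.DeltaFun
open Groth.Agent.Lib.Helper13.SerreCrit1 Groth.Agent.Lib.Helper13.PuncturedLC
open Groth.Agent.Lib.Helper2.DerivedDFun

namespace Groth.Agent.Lib.Helper20.FormalF9

open Groth.Agent.Lib.Helper20.FormalF7 Groth.Agent.Lib.Helper20.FormalF8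

universe u
variable {R : CommRingCat.{u}} (I : Ideal R)

/-- `M → Ext^0(ℤ_W, M~)`. -/
noncomputable def β' (M : ModuleCat.{u} R) : M →+ (T' I).obj M 0 :=
  (sect I M).symm.toAddMonoidHom.comp (βapp I M).hom

lemma sect_β' (M : ModuleCat.{u} R) (m : M) : sect I M (β' I M m) = (βapp I M).hom m :=
  (sect I M).apply_symm_apply _

lemma β'_natural {P Q : ModuleCat.{u} R} (φ : P ⟶ Q) (m : P) :
    (T' I).map φ 0 (β' I P m) = β' I Q (φ.hom m) := by
  apply (sect I Q).injective
  rw [sect_natural, sect_β', sect_β']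
  exact (ConcreteCategory.congr_hom ((β I).naturality φ) m).symm

variable [IsNoetherianRing R]

theorem β'_exists (M : ModuleCat.{u} R) (r : R)
    (hr : ∀ y : (localCohomology I 1).obj M, r • y = 0) (γ : (T' I).obj M 0) :
    ∃ m : M, (T' I).map (r • 𝟙 M) 0 γ = β' I M m := by
  set g := sect I M γ with hg
  set g' := ((G I).map (r • 𝟙 M)).hom g with hg'
  let π' := Groth.Agent.Lib.Helper13.FunctorLES.π' (α I) (β I) (αβ I) (hex I)
  have h1 : (π'.app M).hom g' = 0 := by
    have hnat := ConcreteCategory.congr_hom (π'.naturality (r • 𝟙 M)) g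
    refine hnat.trans ?_
    set w := (π'.app M).hom g with hw
    change (((F₁ I).rightDerived 1).map (r • 𝟙 M)).hom w = 0
    have hinj : Function.Injective (((F₁Iso I 1).hom.app M).hom) :=
      (ConcreteCategory.bijective_of_isIso ((F₁Iso I 1).hom.app M)).injective
    apply hinj
    rw [map_zero]
    have hnat2 := ConcreteCategory.congr_hom ((F₁Iso I 1).hom.naturality (r • 𝟙 M)) w
    refine hnat2.trans ?_
    change ((localCohomology I 1).map (r • 𝟙 M)).hom (((F₁Iso I 1).hom.app M).hom w) = 0
    rw [lc_map_smul]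
    exact hr _
  have hex' := Groth.Agent.Lib.Helper13.FunctorLES.exact_app (α I) (β I) (αβ I) (hex I) M
  rw [ShortComplex.ab_exact_iff] at hex'
  obtain ⟨m, hm⟩ := hex' g' h1
  refine ⟨m, ?_⟩
  apply (sect I M).injective
  rw [sect_natural, sect_β']
  exact hm.symm

end Groth.Agent.Lib.Helper20.FormalF9
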