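import Groth.Agent.Lib.Helper20.FormalF10

/-!
# API for `Formal2.HV`, `HVmap`, `HVres` (all opens), general ideal `I`
-/

set_option autoImplicit false
set_option maxHeartbeats 800000

open CategoryTheory CategoryTheory.Limits AlgebraicGeometry TopologicalSpace Opposite

namespace Groth.Agent.Lib.Helper20.FormalG1

open Groth.Agent.Lib.Helper20.FormalF1 Groth.Agent.Lib.Helper20.FormalF10

universe u

variable (A : Type u) [CommRing A]

/-- the free abelian sheaf on an open of `Spec A`. -/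
noncomputable abbrev XV (V : (Spec (CommRingCat.of A)).Opens) :
    Sheaf (Opens.grothendieckTopology (Spec (CommRingCat.of A))) AddCommGrpCat.{u} :=
  CohCx.freeSheaf (Opens.grothendieckTopology (Spec (CommRingCat.of A))) V

section

variable {A}
variable {M N P : Type u} [AddCommGroup M] [Module A M] [AddCommGroup N] [Module A N]
  [AddCommGroup P] [Module A P]

lemma HVmap_eq (φ : M →ₗ[A] N) (i : ℕ) (V : (Spec (CommRingCat.of A)).Opens)
    (x : Formal2.HV A M i V) :
    Formal2.HVmap A φ i V x = Tmap (LA A) (XV A V) φ i x := rfl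

lemma HVmap_comp (φ : M →ₗ[A] N) (ψ : N →ₗ[A] P) (i : ℕ) (V : (Spec (CommRingCat.of A)).Opens)
    (x : Formal2.HV A M i V) :
    Formal2.HVmap A (ψ ∘ₗ φ) i V x = Formal2.HVmap A ψ i V (Formal2.HVmap A φ i V x) :=
  Tmap_comp (LA A) (XV A V) φ ψ i x

lemma HVmap_id (i : ℕ) (V : (Spec (CommRingCat.of A)).Opens) (x : Formal2.HV A M i V) :
    Formal2.HVmap A (LinearMap.id : M →ₗ[A] M) i V x = x :=
  Tmap_id (LA A) (XV A V) i x

lemma HVmap_zero (i : ℕ) (V : (Spec (CommRingCat.of A)).Opens) (x : Formal2.HV A M i V) :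
    Formal2.HVmap A (0 : M →ₗ[A] N) i V x = 0 :=
  Tmap_zero (LA A) (XV A V) i x

lemma HVmap_congr {φ ψ : M →ₗ[A] N} (h : φ = ψ) (i : ℕ) (V : (Spec (CommRingCat.of A)).Opens)
    (x : Formal2.HV A M i V) : Formal2.HVmap A φ i V x = Formal2.HVmap A ψ i V x := by rw [h]

lemma HVmap_injective_zero (φ : M →ₗ[A] N) (hφ : Function.Injective φ)
    (V : (Spec (CommRingCat.of A)).Opens) : Function.Injective (Formal2.HVmap A φ 0 V) :=
  Tmap_injective_zero (LA A) (XV A V) φ hφ

/-- left exactness in degree zero. -/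
lemma HVmap_ker_exact (φ : M →ₗ[A] N) (V : (Spec (CommRingCat.of A)).Opens)
    (x : Formal2.HV A M 0 V) (hx : Formal2.HVmap A φ 0 V x = 0) :
    ∃ z : Formal2.HV A (LinearMap.ker φ) 0 V,
      Formal2.HVmap A (LinearMap.ker φ).subtype 0 V z = x := by
  let φbar : (M ⧸ LinearMap.ker φ) →ₗ[A] N := (LinearMap.ker φ).liftQ φ le_rfl
  have hφbar : Function.Injective φbar := by
    rw [← LinearMap.ker_eq_bot]
    exact Submodule.ker_liftQ_eq_bot _ _ _ le_rfl
  have h1 : φ = φbar ∘ₗ (LinearMap.ker φ).mkQ := by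
    ext m
    rfl
  have h2 : Formal2.HVmap A (LinearMap.ker φ).mkQ 0 V x = 0 := by
    apply HVmap_injective_zero φbar hφbar V
    rw [← HVmap_comp, ← HVmap_congr h1, hx, map_zero]
  exact exact₂ (LA A) (XV A V) (LinearMap.ker φ) 0 x h2

lemma HVres_HVmap (φ : M →ₗ[A] N) (i : ℕ) {V V' : (Spec (CommRingCat.of A)).Opens} (h : V' ≤ V)
    (x : Formal2.HV A M i V) :
    Formal2.HVres A N i h (Formal2.HVmap A φ i V x) =
      Formal2.HVmap A φ i V' (Formal2.HVres A M i h x) := by
  have hn := ((Sheaf.cohomologyPresheafFunctor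
    (Opens.grothendieckTopology (Spec (CommRingCat.of A))) i).map
      ((SheafOfModules.toSheaf _).map (Formal2.tmodMap A φ))).naturality (homOfLE h).op
  exact (ConcreteCategory.congr_hom hn x).symm

lemma HVres_trans (i : ℕ) {V V' V'' : (Spec (CommRingCat.of A)).Opens} (h : V' ≤ V)
    (h' : V'' ≤ V') (x : Formal2.HV A M i V) :
    Formal2.HVres A M i h' (Formal2.HVres A M i h x) = Formal2.HVres A M i (h'.trans h) x := by
  have hc := (Sheaf.cohomologyPresheaf (Coh.toAb (Formal2.tmod A M)) i).map_comp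
    (homOfLE h).op (homOfLE h').op
  exact (ConcreteCategory.congr_hom hc x).symm

end

end Groth.Agent.Lib.Helper20.FormalG1
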