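import Groth.Agent.Lib.Helper20.FormalG1

/-!
# General-ideal transition maps, Artin–Rees, and the left-exact chase for
`Formal2.FormalCohColimBijective` in degree zero
-/

set_option autoImplicit false
set_option maxHeartbeats 800000

open CategoryTheory CategoryTheory.Limits AlgebraicGeometry TopologicalSpace Opposite

namespace Groth.Agent.Lib.Helper20.FormalG2

open Groth.Agent.Lib.Helper20.FormalG1

universe u

variable (A : Type u) [CommRing A] (I : Ideal A)

section tr

variable (M : Type u) [AddCommGroup M] [Module A M]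

/-- the transition map `M/I^(n'+1)M → M/I^(n+1)M`. -/
noncomputable abbrev trI {n n' : ℕ} (h : n ≤ n') :
    Formal2.quotPow A I M n' →ₗ[A] Formal2.quotPow A I M n :=
  Submodule.mapQ _ _ LinearMap.id (by
    rw [Submodule.comap_id]
    exact Submodule.smul_mono_left (Ideal.pow_le_pow_right (Nat.succ_le_succ h)))

lemma trI_comp_mkQ {n n' : ℕ} (h : n ≤ n') :
    trI A I M h ∘ₗ Formal2.quotPowπ A I M n' = Formal2.quotPowπ A I M n := by
  ext x
  rw [LinearMap.comp_apply, Submodule.mkQ_apply, Submodule.mapQ_apply, LinearMap.id_apply,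
    Submodule.mkQ_apply]

lemma trI_refl (n : ℕ) : trI A I M (le_refl n) = LinearMap.id := by
  apply Submodule.linearMap_qext
  ext x
  rw [LinearMap.comp_apply, Submodule.mkQ_apply, Submodule.mapQ_apply, LinearMap.id_apply,
    LinearMap.comp_apply, LinearMap.id_apply, Submodule.mkQ_apply]

lemma trI_trans {n n' n'' : ℕ} (h : n ≤ n') (h' : n' ≤ n'') :
    trI A I M h ∘ₗ trI A I M h' = trI A I M (h.trans h') := by
  apply Submodule.linearMap_qext
  ext x
  rw [LinearMap.comp_apply, LinearMap.comp_apply, Submodule.mkQ_apply, Submodule.mapQ_apply,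
    LinearMap.id_apply, Submodule.mapQ_apply, LinearMap.id_apply, LinearMap.comp_apply,
    Submodule.mkQ_apply, Submodule.mapQ_apply, LinearMap.id_apply]

lemma quotPowTrans_eqI (n : ℕ) :
    Formal2.quotPowTrans A I M n = trI A I M (Nat.le_succ n) := by
  apply Submodule.linearMap_qext
  ext x
  rw [LinearMap.comp_apply, LinearMap.comp_apply, Submodule.mkQ_apply, Submodule.mapQ_apply,
    LinearMap.id_apply]
  unfold Formal2.quotPowTrans
  rw [Submodule.mapQ_apply, LinearMap.id_apply]

variable {M}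

lemma compat_iterI {i : ℕ} {V : (Spec (CommRingCat.of A)).Opens}
    {y : ∀ n, Formal2.HV A (Formal2.quotPow A I M n) i V}
    (hy : ∀ n, Formal2.HVmap A (Formal2.quotPowTrans A I M n) i V (y (n + 1)) = y n)
    (n n' : ℕ) (h : n ≤ n') : Formal2.HVmap A (trI A I M h) i V (y n') = y n := by
  induction n', h using Nat.le_induction with
  | base => rw [HVmap_congr (trI_refl A I M n), HVmap_id]
  | succ n' h ih =>
    have h1 : trI A I M (h.trans (Nat.le_succ n')) =
        trI A I M h ∘ₗ Formal2.quotPowTrans A I M n' := by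
      rw [quotPowTrans_eqI, trI_trans]
    rw [HVmap_congr h1, HVmap_comp, hy n', ih]

end tr

section fq

variable {M N P : Type u} [AddCommGroup M] [Module A M] [AddCommGroup N] [Module A N]
  [AddCommGroup P] [Module A P]

/-- the map induced on `M/I^(n+1)M → N/I^(n+1)N`. -/
noncomputable abbrev fq (f : M →ₗ[A] N) (n : ℕ) :
    Formal2.quotPow A I M n →ₗ[A] Formal2.quotPow A I N n :=
  Submodule.mapQ _ _ f (Submodule.smul_top_le_comap_smul_top _ f)

lemma fq_comp_mkQ (f : M →ₗ[A] N) (n : ℕ) :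
    fq A I f n ∘ₗ Formal2.quotPowπ A I M n = Formal2.quotPowπ A I N n ∘ₗ f := by
  ext x
  rw [LinearMap.comp_apply, Submodule.mkQ_apply, Submodule.mapQ_apply, LinearMap.comp_apply,
    Submodule.mkQ_apply]

lemma trI_comp_fq (f : M →ₗ[A] N) {n n' : ℕ} (h : n ≤ n') :
    trI A I N h ∘ₗ fq A I f n' = fq A I f n ∘ₗ trI A I M h := by
  apply Submodule.linearMap_qext
  ext x
  rw [LinearMap.comp_apply, LinearMap.comp_apply, Submodule.mkQ_apply, Submodule.mapQ_apply,
    Submodule.mapQ_apply, LinearMap.id_apply, LinearMap.comp_apply, LinearMap.comp_apply,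
    Submodule.mkQ_apply, Submodule.mapQ_apply, LinearMap.id_apply, Submodule.mapQ_apply]

lemma fq_comp (f : M →ₗ[A] N) (g : N →ₗ[A] P) (n : ℕ) :
    fq A I g n ∘ₗ fq A I f n = fq A I (g ∘ₗ f) n := by
  apply Submodule.linearMap_qext
  ext x
  rw [LinearMap.comp_apply, LinearMap.comp_apply, Submodule.mkQ_apply, Submodule.mapQ_apply,
    Submodule.mapQ_apply, LinearMap.comp_apply, Submodule.mkQ_apply, Submodule.mapQ_apply,
    LinearMap.comp_apply]

lemma fq_zero (n : ℕ) : fq A I (0 : M →ₗ[A] N) n = 0 := by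
  apply Submodule.linearMap_qext
  ext x
  rw [LinearMap.comp_apply, Submodule.mkQ_apply, Submodule.mapQ_apply, LinearMap.zero_apply,
    LinearMap.comp_apply, LinearMap.zero_apply, Submodule.Quotient.mk_zero]

/-- Artin–Rees for an injective map into a finite module over a Noetherian ring. -/
lemma exists_AR [IsNoetherianRing A] [Module.Finite A N] (f : M →ₗ[A] N)
    (hf : Function.Injective f) :
    ∃ k, ∀ (n : ℕ) (m : M), f m ∈ I ^ (n + k + 1) • (⊤ : Submodule A N) →
      m ∈ I ^ (n + 1) • (⊤ : Submodule A M) := by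
  obtain ⟨k, hk⟩ := Ideal.exists_pow_inf_eq_pow_smul I (LinearMap.range f)
  refine ⟨k, fun n m hm => ?_⟩
  have h1 : f m ∈ I ^ (n + k + 1) • (⊤ : Submodule A N) ⊓ LinearMap.range f :=
    ⟨hm, LinearMap.mem_range_self f m⟩
  rw [hk (n + k + 1) (by omega)] at h1
  have h2 : n + k + 1 - k = n + 1 := by omega
  rw [h2] at h1
  have h3 : I ^ (n + 1) • (I ^ k • (⊤ : Submodule A N) ⊓ LinearMap.range f) ≤
      Submodule.map f (I ^ (n + 1) • (⊤ : Submodule A M)) := by
    rw [Submodule.map_smul'', Submodule.map_top]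
    exact smul_mono_right _ inf_le_right
  obtain ⟨m', hm', hfm'⟩ := h3 h1
  rwa [← hf hfm']

/-- consequence of Artin–Rees: the kernel of `fq f (n+k)` dies in `M/I^(n+1)M`. -/
lemma trI_comp_ker_subtype (f : M →ₗ[A] N) (k : ℕ)
    (hk : ∀ (n : ℕ) (m : M), f m ∈ I ^ (n + k + 1) • (⊤ : Submodule A N) →
      m ∈ I ^ (n + 1) • (⊤ : Submodule A M)) (n : ℕ) :
    trI A I M (Nat.le_add_right n k) ∘ₗ (LinearMap.ker (fq A I f (n + k))).subtype = 0 := by
  have key : ∀ z : Formal2.quotPow A I M (n + k), fq A I f (n + k) z = 0 →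
      trI A I M (Nat.le_add_right n k) z = 0 := by
    intro z hz
    obtain ⟨m, hm⟩ := Submodule.mkQ_surjective _ z
    subst hm
    rw [Submodule.mkQ_apply, Submodule.mapQ_apply, Submodule.Quotient.mk_eq_zero] at hz
    rw [Submodule.mkQ_apply, Submodule.mapQ_apply, LinearMap.id_apply,
      Submodule.Quotient.mk_eq_zero]
    exact hk n m hz
  ext z
  rw [LinearMap.comp_apply, Submodule.subtype_apply, LinearMap.zero_apply]
  exact key z.1 z.2

end fq

end Groth.Agent.Lib.Helper20.FormalG2
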