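import Groth.Agent.Lib.Helper20.FormalG2

/-!
# `FormalCohColimBijective` in degree zero: middle and right give left
-/

set_option autoImplicit false
set_option maxHeartbeats 800000

open CategoryTheory CategoryTheory.Limits AlgebraicGeometry TopologicalSpace Opposite

namespace Groth.Agent.Lib.Helper20.FormalG3

open Groth.Agent.Lib.Helper20.FormalG1 Groth.Agent.Lib.Helper20.FormalG2

universe u

theorem colim_left (A : Type u) [CommRing A] [IsNoetherianRing A] (I : Ideal A)
    (U : (Spec (CommRingCat.of A)).Opens)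
    (M' M M'' : Type u) [AddCommGroup M'] [Module A M'] [AddCommGroup M] [Module A M]
    [AddCommGroup M''] [Module A M''] [Module.Finite A M]
    (f : M' →ₗ[A] M) (g : M →ₗ[A] M'') (hf : Function.Injective f)
    (hfg : LinearMap.range f = LinearMap.ker g)
    (h : Formal2.FormalCohColimBijective A I M 0 U)
    (h'' : Formal2.FormalCohColimBijective A I M'' 0 U) :
    Formal2.FormalCohColimBijective A I M' 0 U := by
  obtain ⟨k, hk⟩ := exists_AR A I f hf
  have hgf : g ∘ₗ f = 0 := by
    ext m
    have : f m ∈ LinearMap.ker g := hfg ▸ LinearMap.mem_range_self f m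
    exact LinearMap.mem_ker.1 this
  refine ⟨fun V hV x hx => ?_, fun y' hy' => ?_⟩
  · -- part 1
    have h1 : ∀ n, Formal2.HVmap A (Formal2.quotPowπ A I M n) 0 V
        (Formal2.HVmap A f 0 V x) = 0 := by
      intro n
      rw [← HVmap_comp, ← HVmap_congr (fq_comp_mkQ A I f n), HVmap_comp, hx n, map_zero]
    obtain ⟨V', hV', hres⟩ := h.1 V hV _ h1
    refine ⟨V', hV', ?_⟩
    apply HVmap_injective_zero f hf V'
    rw [← HVres_HVmap, hres, map_zero]
  · -- part 2
    have hycompat : ∀ n, Formal2.HVmap A (Formal2.quotPowTrans A I M n) 0 U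
        (Formal2.HVmap A (fq A I f (n + 1)) 0 U (y' (n + 1))) =
          Formal2.HVmap A (fq A I f n) 0 U (y' n) := by
      intro n
      rw [← HVmap_comp, quotPowTrans_eqI, HVmap_congr (trI_comp_fq A I f (Nat.le_succ n)),
        HVmap_comp, ← quotPowTrans_eqI, hy' n]
    obtain ⟨V, hV, x, hx⟩ := h.2 (fun n => Formal2.HVmap A (fq A I f n) 0 U (y' n)) hycompat
    have h2 : ∀ n, Formal2.HVmap A (Formal2.quotPowπ A I M'' n) 0 V
        (Formal2.HVmap A g 0 V x) = 0 := by
      intro n
      rw [← HVmap_comp, ← HVmap_congr (fq_comp_mkQ A I g n), HVmap_comp, ← hx n, ← HVres_HVmap,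
        ← HVmap_comp, HVmap_congr (fq_comp A I f g n),
        HVmap_congr (show fq A I (g ∘ₗ f) n = 0 by rw [hgf, fq_zero]), HVmap_zero, map_zero]
    obtain ⟨V', hV', hres⟩ := h''.1 V hV _ h2
    have h3 : Formal2.HVmap A g 0 V' (Formal2.HVres A M 0 hV'.2 x) = 0 := by
      rw [← HVres_HVmap, hres]
    obtain ⟨z, hz⟩ := HVmap_ker_exact g V' _ h3
    -- the equivalence `M' ≃ ker g`
    let e : M' →ₗ[A] LinearMap.ker g :=
      f.codRestrict (LinearMap.ker g) (fun m => hfg ▸ LinearMap.mem_range_self f m)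
    have he : Function.Bijective e := by
      constructor
      · intro a b hab
        apply hf
        exact congrArg Subtype.val hab
      · rintro ⟨m, hm⟩
        rw [← hfg] at hm
        obtain ⟨m', rfl⟩ := hm
        exact ⟨m', rfl⟩
    let e' : M' ≃ₗ[A] LinearMap.ker g := LinearEquiv.ofBijective e he
    have hx' : Formal2.HVmap A f 0 V' (Formal2.HVmap A e'.symm.toLinearMap 0 V' z) =
        Formal2.HVres A M 0 hV'.2 x := by
      rw [← hz, ← HVmap_comp]
      apply HVmap_congr
      ext w
      obtain ⟨m', rfl⟩ := e'.surjective w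
      rw [LinearMap.comp_apply, LinearEquiv.coe_coe, LinearEquiv.symm_apply_apply]
      rfl
    refine ⟨V', hV'.1, Formal2.HVmap A e'.symm.toLinearMap 0 V' z, fun n => ?_⟩
    set x' := Formal2.HVmap A e'.symm.toLinearMap 0 V' z with hx'def
    -- the differences
    let d : ∀ n, Formal2.HV A (Formal2.quotPow A I M' n) 0 V' := fun n =>
      Formal2.HVmap A (Formal2.quotPowπ A I M' n) 0 V' x' -
        Formal2.HVres A (Formal2.quotPow A I M' n) 0 hV'.1.1 (y' n)
    have hd_compat : ∀ n, Formal2.HVmap A (Formal2.quotPowTrans A I M' n) 0 V' (d (n + 1)) =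
        d n := by
      intro n
      simp only [d]
      rw [map_sub, ← HVmap_comp, quotPowTrans_eqI, HVmap_congr (trI_comp_mkQ A I M' (Nat.le_succ n)),
        ← HVres_HVmap, ← quotPowTrans_eqI, hy' n]
    have hd_f : ∀ n, Formal2.HVmap A (fq A I f n) 0 V' (d n) = 0 := by
      intro n
      simp only [d]
      rw [map_sub, ← HVmap_comp, HVmap_congr (fq_comp_mkQ A I f n), HVmap_comp, hx',
        ← HVres_HVmap, ← hx n, HVres_trans, ← HVres_HVmap, sub_self]
    have hd : d n = 0 := by
      rw [← compat_iterI A I hd_compat n (n + k) (Nat.le_add_right n k)]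
      obtain ⟨w, hw⟩ := HVmap_ker_exact (fq A I f (n + k)) V' (d (n + k)) (hd_f (n + k))
      rw [← hw, ← HVmap_comp, HVmap_congr (trI_comp_ker_subtype A I f k hk n), HVmap_zero]
    exact (sub_eq_zero.1 hd).symm

end Groth.Agent.Lib.Helper20.FormalG3
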