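import Groth.Agent.Lib.Helper20.W2Coeff

/-!
# Helper library (helper20): Frobenius liftings on a flat lifting over `W₂(k)` in terms of the
"defect" function `δ` with `Φ b = b ^ p + p · δ b`.
-/

set_option autoImplicit false
universe u v

namespace Groth.Agent.Lib.Helper20

open FrobAlg

section charp

variable (p : ℕ) [Fact p.Prime] (R : Type u) [CommRing R] [CharP R p]

omit [CharP R p] in
theorem w2_pow_coeff_zero (w : W2 p R) (n : ℕ) : (w ^ n).coeff 0 = w.coeff 0 ^ n := by
  rw [← res_apply, map_pow, res_apply]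

theorem w2_pow_succ_coeff_one (w : W2 p R) (n : ℕ) :
    (w ^ (n + 1)).coeff 1 = ((n : R) + 1) * (w.coeff 0 ^ p) ^ n * w.coeff 1 := by
  induction n with
  | zero => simp
  | succ n ih =>
    rw [pow_succ, w2_mul_coeff_one, ih, w2_pow_coeff_zero, CharP.cast_eq_zero R p]
    push_cast
    ring

theorem w2_pow_p_coeff_one (w : W2 p R) : (w ^ p).coeff 1 = 0 := by
  obtain ⟨n, hn⟩ : ∃ n, p = n + 1 := Nat.exists_eq_succ_of_ne_zero (Fact.out : p.Prime).ne_zero
  have h := w2_pow_succ_coeff_one p R w n
  have hc : ((n : R) + 1) = ((p : ℕ) : R) := by rw [hn]; push_cast; rfl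
  rw [hc, CharP.cast_eq_zero R p, zero_mul, zero_mul, ← hn] at h
  exact h

omit [Fact p.Prime] [CharP R p] in
theorem Wp_zero_right (x : R) : Wp p x 0 = 0 := by
  unfold Wp
  apply Finset.sum_eq_zero
  intro i hi
  rw [Finset.mem_Ioo] at hi
  rw [zero_pow (by omega), mul_zero, zero_mul]

theorem sigma_eq (w : W2 p R) :
    sigma p R w = w ^ p + (p : W2 p R) * TruncatedWittVector.mk p ![w.coeff 1, 0] := by
  apply TruncatedWittVector.ext
  intro i
  fin_cases i
  · change (sigma p R w).coeff 0 = (w ^ p + _).coeff 0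
    rw [WittGrp.coeff_frob, w2_add_coeff_zero, coeff_p_mul_zero, add_zero, w2_pow_coeff_zero]
  · change (sigma p R w).coeff 1 = (w ^ p + _).coeff 1
    rw [WittGrp.coeff_frob, w2_add_coeff_one, coeff_p_mul_one, coeff_p_mul_zero, Wp_zero_right,
      w2_pow_p_coeff_one, TruncatedWittVector.coeff_mk]
    simp

end charp

section delta

variable {p : ℕ} [Fact p.Prime] {k : Type u} [Field k] [CharP k p] [PerfectRing k p]
  {A : Type v} [CommRing A] [Algebra k A] {B : Type v} [CommRing B]
  {ι : W2 p k →+* B} {π : B →+* A}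

theorem exists_delta (h : IsLift p k A B ι π) (Φ : B →+* B) (hred : ∀ b, π (Φ b) = π b ^ p) :
    ∃ δ : B → A, (∀ b, Φ b = b ^ p + lift_theta h (δ b)) ∧
      (∀ a b, δ (a + b) = δ a + δ b - Wp p (π a) (π b)) ∧
      (∀ a b, δ (a * b) = π a ^ p * δ b + π b ^ p * δ a) ∧ δ 1 = 0 ∧ δ 0 = 0 := by
  have hp : p.Prime := Fact.out
  have hker : ∀ b : B, π (Φ b - b ^ p) = 0 := by
    intro b
    rw [map_sub, hred, map_pow, sub_self]
  choose δ hδ using fun b => lift_exists_theta_of_pi_eq_zero h _ (hker b)
  refine ⟨δ, fun b => by rw [← hδ b]; ring, ?_, ?_, ?_, ?_⟩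
  · intro a b
    apply lift_theta_injective h
    rw [lift_theta_sub, lift_theta_add, ← hδ (a + b), ← hδ a, ← hδ b, ← map_Wp, lift_theta_apply]
    simp only [map_add]
    rw [add_pow_eq_Wp hp]
    ring
  · intro a b
    apply lift_theta_injective h
    have e1 : lift_theta h (π a ^ p * δ b) = a ^ p * lift_theta h (δ b) := by
      rw [lift_mul_theta h, map_pow]
    have e2 : lift_theta h (π b ^ p * δ a) = b ^ p * lift_theta h (δ a) := by
      rw [lift_mul_theta h, map_pow]
    have hzero : (Φ a - a ^ p) * (Φ b - b ^ p) = 0 := by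
      rw [hδ a, hδ b, lift_theta_mul_theta]
    rw [lift_theta_add, e1, e2, ← hδ (a * b), ← hδ a, ← hδ b]
    simp only [map_mul]
    linear_combination hzero
  · apply lift_theta_injective h
    rw [lift_theta_zero, ← hδ 1, map_one, one_pow, sub_self]
  · apply lift_theta_injective h
    rw [lift_theta_zero, ← hδ 0, map_zero, zero_pow hp.ne_zero, sub_zero]

theorem exists_ringHom_of_delta (h : IsLift p k A B ι π) (δ : B → A)
    (hadd : ∀ a b, δ (a + b) = δ a + δ b - Wp p (π a) (π b))
    (hmul : ∀ a b, δ (a * b) = π a ^ p * δ b + π b ^ p * δ a) (hone : δ 1 = 0) (hzero : δ 0 = 0) :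
    ∃ Φ : B →+* B, ∀ b, Φ b = b ^ p + lift_theta h (δ b) := by
  have hp : p.Prime := Fact.out
  refine ⟨
    { toFun := fun a => a ^ p + lift_theta h (δ a)
      map_one' := by
        show (1 : B) ^ p + lift_theta h (δ 1) = 1
        rw [hone, lift_theta_zero, one_pow, add_zero]
      map_mul' := by
        intro a b
        show (a * b) ^ p + lift_theta h (δ (a * b)) =
          (a ^ p + lift_theta h (δ a)) * (b ^ p + lift_theta h (δ b))
        have e1 : lift_theta h (π a ^ p * δ b) = a ^ p * lift_theta h (δ b) := by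
          rw [lift_mul_theta h, map_pow]
        have e2 : lift_theta h (π b ^ p * δ a) = b ^ p * lift_theta h (δ a) := by
          rw [lift_mul_theta h, map_pow]
        have hz := lift_theta_mul_theta h (δ a) (δ b)
        rw [hmul, lift_theta_add, e1, e2]
        linear_combination (-1 : B) * hz
      map_zero' := by
        show (0 : B) ^ p + lift_theta h (δ 0) = 0
        rw [hzero, lift_theta_zero, zero_pow hp.ne_zero, add_zero]
      map_add' := by
        intro a b
        show (a + b) ^ p + lift_theta h (δ (a + b)) =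
          (a ^ p + lift_theta h (δ a)) + (b ^ p + lift_theta h (δ b))
        rw [hadd, lift_theta_sub, lift_theta_add, ← map_Wp, lift_theta_apply, add_pow_eq_Wp hp]
        ring }, fun b => rfl⟩

theorem semi_iff (h : IsLift p k A B ι π) (Φ : B →+* B) (δ : B → A)
    (hΦ : ∀ b, Φ b = b ^ p + lift_theta h (δ b)) (w : W2 p k) :
    Φ (ι w) = ι (sigma p k w) ↔ δ (ι w) = algebraMap k A (w.coeff 1) := by
  have hcomm : ∀ w, π (ι w) = algebraMap k A (res p k w) := fun w => RingHom.congr_fun h.comm w
  have e : ι (sigma p k w) = ι w ^ p + lift_theta h (algebraMap k A (w.coeff 1)) := by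
    rw [sigma_eq, map_add, map_pow, map_mul, map_natCast, ← lift_theta_apply h, hcomm, res_apply,
      TruncatedWittVector.coeff_mk]
    simp
  rw [hΦ, e]
  constructor
  · intro h1
    exact lift_theta_injective h (add_left_cancel h1)
  · intro h1
    rw [h1]

end delta

end Groth.Agent.Lib.Helper20
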