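import Mathlib
import Groth.Agent.Lib.Helper20.GRkC2
import Groth.Agent.Lib.Helper20.GRkC3
import Groth.Agent.Lib.Helper14.ConsFibre.Smooth
import Groth.Agent.Lib.Helper14.ConsFibre.CM

/-!
# Local constructibility of the locus where the fibre is geometrically `(R_k)` (over all field
extensions) (helper20)
-/

set_option autoImplicit false
set_option linter.style.haveILetI false
set_option linter.unusedSectionVars false
set_option linter.dupNamespace false
universe u

open IsLocalRing TensorProduct CategoryTheory CategoryTheory.Limits AlgebraicGeometry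
  TopologicalSpace Topology

namespace Groth.Agent.Lib.Helper20.GRkC

open Groth.Agent.Lib.Helper14.ConsFibre Groth.Agent.Lib.Helper20.GeomRk
  Groth.Agent.Lib.Helper14.CMBaseChange

/-- the set of points `x` all of whose generizations in the fibre of codimension `≤ k` are smooth
points of the fibre. -/
def rkSet (k : ℕ) ⦃X S : Scheme.{u}⦄ (f : X ⟶ S) : Set X :=
  {x : X | ∃ (_ : LocallyOfFinitePresentation (f.fiberToSpecResidueField (f x))),
    FibRk (f.fiberToSpecResidueField (f x)) k (f.asFiber x)}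

theorem mem_rkSet_iff (k : ℕ) {X S : Scheme.{u}} (f : X ⟶ S) (x : X)
    [LocallyOfFinitePresentation (f.fiberToSpecResidueField (f x))] :
    x ∈ rkSet k f ↔ FibRk (f.fiberToSpecResidueField (f x)) k (f.asFiber x) :=
  ⟨fun ⟨_, h⟩ => h, fun h => ⟨inferInstance, h⟩⟩

theorem fibRk_congr {X S : Scheme.{u}} (f : X ⟶ S) (k : ℕ) (s₁ s₂ : S) (h : s₁ = s₂)
    (z₁ : f.fiber s₁) (z₂ : f.fiber s₂) (hz : f.fiberι s₁ z₁ = f.fiberι s₂ z₂)
    [LocallyOfFinitePresentation (f.fiberToSpecResidueField s₁)]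
    [LocallyOfFinitePresentation (f.fiberToSpecResidueField s₂)] :
    FibRk (f.fiberToSpecResidueField s₁) k z₁ ↔ FibRk (f.fiberToSpecResidueField s₂) k z₂ := by
  subst h
  have : z₁ = z₂ := (f.fiberι s₁).isEmbedding.injective hz
  subst this
  exact Iff.rfl

/-- `FibRk` and open immersions. -/
theorem fibRk_openImmersion_iff {W₁ W T : Scheme.{u}} (φ : W₁ ⟶ W) [IsOpenImmersion φ]
    (g₁ : W₁ ⟶ T) (g : W ⟶ T) [LocallyOfFinitePresentation g₁] [LocallyOfFinitePresentation g]
    (hover : φ ≫ g = g₁) (k : ℕ) (w₁ : W₁) :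
    FibRk g₁ k w₁ ↔ FibRk g k (φ w₁) := by
  have hsm := fun ζ₁ : W₁ =>
    Groth.Agent.Lib.Helper11.GrpdK.mem_smoothLocus_iff_of_isOpenImmersion φ g₁ g hover ζ₁
  have hdim : ∀ ζ₁ : W₁, ringKrullDim (W₁.presheaf.stalk ζ₁) =
      ringKrullDim (W.presheaf.stalk (φ ζ₁)) := fun ζ₁ =>
    (ringKrullDim_eq_of_ringEquiv (asIso (φ.stalkMap ζ₁)).commRingCatIsoToRingEquiv).symm
  constructor
  · intro hR ζ hζ hd
    have hmem : ζ ∈ Set.range φ := hζ.mem_open φ.isOpenEmbedding.isOpen_range ⟨w₁, rfl⟩
    obtain ⟨ζ₁, rfl⟩ := hmem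
    have hsp : ζ₁ ⤳ w₁ := φ.isOpenEmbedding.isInducing.specializes_iff.mp hζ
    exact (hsm ζ₁).mp (hR ζ₁ hsp (by rw [hdim]; exact hd))
  · intro hR ζ₁ hζ₁ hd
    exact (hsm ζ₁).mpr (hR (φ ζ₁) (hζ₁.map φ.continuous) (by rw [← hdim]; exact hd))

/-- in the flat case the set is the set `RSet` of the singular locus. -/
theorem rkSet_eq_rSet {X S : Scheme.{u}} (f : X ⟶ S) [Flat f] [LocallyOfFinitePresentation f]
    (k : ℕ) : rkSet k f = RSet f (Sing f) k := by
  ext x
  haveI := Groth.Agent.Lib.Helper14.ConsFibre.lfp_fiberToSpecResidueField f (f x)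
  rw [mem_rkSet_iff]
  have hx₀ : f.fiberι (f x) (f.asFiber x) = x := f.fiberι_asFiber x
  constructor
  · intro hR z hzS hfz hzx hc
    set ζ := (f.fiberHomeo (f x)).symm ⟨z, hfz⟩ with hζ
    have hιζ : f.fiberι (f x) ζ = z := f.fiberι_fiberHomeo_symm (f x) ⟨z, hfz⟩
    have hsp : ζ ⤳ f.asFiber x := by
      apply (f.fiberι (f x)).isEmbedding.isInducing.specializes_iff.mp
      rw [hιζ, hx₀]
      exact hzx
    obtain ⟨e⟩ := nonempty_stalk_equiv_of_fiberι_eq f (f z) (f x) hfz (f.asFiber z) ζ (by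
      rw [f.fiberι_asFiber, hιζ])
    have hd : ringKrullDim ((f.fiber (f x)).presheaf.stalk ζ) ≤ k := by
      rw [← ringKrullDim_eq_of_ringEquiv e]
      exact hc
    have hsm := (mem_smoothLocus_fibre_iff f (f x) ζ).mp (hR ζ hsp hd)
    rw [hιζ] at hsm
    exact hzS hsm
  · intro hR ζ hζ hd
    by_contra hns
    have hns' : f.fiberι (f x) ζ ∈ Sing f := fun hsm =>
      hns ((mem_smoothLocus_fibre_iff f (f x) ζ).mpr hsm)
    have hfz : f (f.fiberι (f x) ζ) = f x := by
      have : f.fiberι (f x) ζ ∈ Set.range (f.fiberι (f x)) := ⟨ζ, rfl⟩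
      rw [f.range_fiberι] at this
      exact this
    have hsp : f.fiberι (f x) ζ ⤳ x := by
      have := hζ.map (f.fiberι (f x)).continuous
      rwa [hx₀] at this
    refine hR _ hns' hfz hsp ?_
    obtain ⟨e⟩ := nonempty_stalk_equiv_of_fiberι_eq f (f (f.fiberι (f x) ζ)) (f x) hfz
      (f.asFiber (f.fiberι (f x) ζ)) ζ (f.fiberι_asFiber _)
    unfold CodimLE
    rw [ringKrullDim_eq_of_ringEquiv e]
    exact hd

set_option maxHeartbeats 800000 in
theorem rkSet_isFibreConsG (k : ℕ) : IsFibreConsG.{u} (rkSet k) where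
  baseChange := by
    intro X S X' S' f f' g' g hc hf
    haveI : LocallyOfFiniteType f := hf
    haveI : LocallyOfFiniteType f' :=
      MorphismProperty.of_isPullback (P := @LocallyOfFiniteType) hc hf
    ext x'
    haveI := lfp_fiberToSpecResidueField f (g (f' x'))
    haveI := lfp_fiberToSpecResidueField f (f (g' x'))
    haveI := lfp_fiberToSpecResidueField f' (f' x')
    obtain ⟨e, he, hcomm⟩ :=
      Groth.Agent.Lib.Helper12.ConsPropNoeth.exists_fibre_isPullback hc (f' x')
    haveI : Flat (Spec.map (g.residueFieldMap (f' x'))) := by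
      rw [Flat.SpecMap_iff]
      algebraize [(g.residueFieldMap (f' x')).hom]
      change Module.Flat _ _
      infer_instance
    haveI : IsLocallyNoetherian (f.fiber (g (f' x'))) :=
      LocallyOfFiniteType.isLocallyNoetherian (f.fiberToSpecResidueField (g (f' x')))
    haveI : IsLocallyNoetherian (f'.fiber (f' x')) :=
      LocallyOfFiniteType.isLocallyNoetherian (f'.fiberToSpecResidueField (f' x'))
    have h1 := fibRk_bc_iff (f.fiberToSpecResidueField (g (f' x')))
      (f'.fiberToSpecResidueField (f' x')) e (Spec.map (g.residueFieldMap (f' x'))) he k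
      (f'.asFiber x')
    have hfg : g (f' x') = f (g' x') := by
      rw [← Scheme.Hom.comp_apply, ← hc.w, Scheme.Hom.comp_apply]
    have h2 := fibRk_congr f k (g (f' x')) (f (g' x')) hfg (e (f'.asFiber x'))
      (f.asFiber (g' x')) (by
        rw [← Scheme.Hom.comp_apply, hcomm, Scheme.Hom.comp_apply, f'.fiberι_asFiber,
          f.fiberι_asFiber])
    rw [mem_rkSet_iff, Set.mem_preimage, mem_rkSet_iff, h1, h2]
  restrict := by
    intro X S f U hf
    haveI : LocallyOfFiniteType f := hf
    ext u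
    set s := f (U.ι u) with hs
    haveI := lfp_fiberToSpecResidueField f s
    haveI := lfp_fiberToSpecResidueField (U.ι ≫ f) s
    have hsq := Groth.Agent.Lib.Helper12.ConsPropNoeth.isPullback_fiberMap U.ι f s
    set φ := MoreMor.fiberMap U.ι f s with hφ
    haveI : IsOpenImmersion φ :=
      MorphismProperty.of_isPullback (P := @IsOpenImmersion) hsq inferInstance
    have hz : φ ((U.ι ≫ f).asFiber u) = f.asFiber (U.ι u) := by
      apply (f.fiberι s).isEmbedding.injective
      have h1 : (U.ι ≫ f).fiberι s ((U.ι ≫ f).asFiber u) = u := (U.ι ≫ f).fiberι_asFiber u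
      have h2 : f.fiberι s (f.asFiber (U.ι u)) = U.ι u := f.fiberι_asFiber (U.ι u)
      rw [← Scheme.Hom.comp_apply, ← hsq.w, Scheme.Hom.comp_apply, h1, h2]
    have hover : φ ≫ f.fiberToSpecResidueField s = (U.ι ≫ f).fiberToSpecResidueField s :=
      pullback.lift_snd _ _ _
    have h3 := fibRk_openImmersion_iff φ ((U.ι ≫ f).fiberToSpecResidueField s)
      (f.fiberToSpecResidueField s) hover k ((U.ι ≫ f).asFiber u)
    rw [hz] at h3
    change u ∈ rkSet k (U.ι ≫ f) ↔ U.ι u ∈ rkSet k f
    have e1 : u ∈ rkSet k (U.ι ≫ f) ↔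
        FibRk ((U.ι ≫ f).fiberToSpecResidueField s) k ((U.ι ≫ f).asFiber u) :=
      mem_rkSet_iff k (U.ι ≫ f) u
    exact e1.trans (h3.trans (mem_rkSet_iff k f (U.ι u)).symm)
  generic := by
    intro X S f hN hfl hfp ξ hgen
    haveI := hN
    haveI := hfl
    haveI := hfp
    rw [rkSet_eq_rSet f k]
    exact generic_rSet f (Sing f) (isClosed_sing f) k ξ hgen

/-- **the locus where the fibre is geometrically `(R_k)` in the intrinsic form is locally
constructible.** -/
theorem isLocallyConstructible_rkSet (k : ℕ) {X S : Scheme.{u}} (f : X ⟶ S)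
    [LocallyOfFinitePresentation f] : IsLocallyConstructible (rkSet k f) :=
  isLocallyConstructible (rkSet_isFibreConsG k) f

/-- the set of the statement is the intrinsic set. -/
theorem setOf_allK_hasRk_eq (k : ℕ) {X S : Scheme.{u}} (f : X ⟶ S)
    [LocallyOfFinitePresentation f] :
    {x : X |
      ∀ (K : Type u) [Field K] [Algebra (IsLocalRing.ResidueField (S.presheaf.stalk (f.base x))) K]
        (x' : ↥(FBase.bc (f.fiberToSpecResidueField (f.base x)) K)),
        (FBase.bcπ (f.fiberToSpecResidueField (f.base x)) K).base x' = f.asFiber x →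
          LocCoh.HasRk k ((FBase.bc (f.fiberToSpecResidueField (f.base x)) K).presheaf.stalk x')} =
    rkSet k f := by
  ext x
  haveI := Groth.Agent.Lib.Helper14.ConsFibre.lfp_fiberToSpecResidueField f (f x)
  rw [mem_rkSet_iff]
  exact @allK_hasRk_iff (IsLocalRing.ResidueField (S.presheaf.stalk (f.base x))) _
    (f.fiber (f.base x)) (f.fiberToSpecResidueField (f.base x))
    (Groth.Agent.Lib.Helper14.ConsFibre.lfp_fiberToSpecResidueField f (f x)) k (f.asFiber x)

end Groth.Agent.Lib.Helper20.GRkC
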