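import Mathlib
import Groth.Agent.Lib.Helper20.GeomRk4
import Groth.Agent.Lib.Helper20.SkCons
import Groth.Agent.Lib.Helper4.SerreNormal

/-!
# Geometric normality at a point of a scheme of finite type over a field:
`geometrically normal ⟺ geometrically (R_1) and (S_2)` (helper20)
-/

set_option autoImplicit false
set_option linter.style.haveILetI false
set_option linter.unusedSectionVars false
set_option linter.dupNamespace false
universe u

open IsLocalRing TensorProduct CategoryTheory CategoryTheory.Limits AlgebraicGeometry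
  TopologicalSpace

namespace Groth.Agent.Lib.Helper20.GeomNor

open Groth.Agent.Lib.Helper20.GeomRk Groth.Agent.Lib.Helper20.SkCons Groth.Agent.Lib.Helper4
  Groth.Agent.Lib.Helper14.StalkTensor

section Alg

variable {R : Type u} [CommRing R] [IsNoetherianRing R] [IsLocalRing R]

/-- a normal Noetherian local domain is `(R_1)` and `(S_2)`. -/
theorem r1_s2_of_normal [IsDomain R] [IsIntegrallyClosed R] :
    LocCoh.HasRk 1 R ∧ LocCoh.HasSk 2 R R := by
  rw [← SerreNormal.serre_criterion R]
  intro p _
  exact ⟨IsLocalization.isDomain_of_le_nonZeroDivisors (M := p.primeCompl) _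
      p.primeCompl_le_nonZeroDivisors,
    isIntegrallyClosed_of_isLocalization (Localization.AtPrime p) p.primeCompl
      p.primeCompl_le_nonZeroDivisors⟩

/-- a Noetherian local ring which is `(R_1)` and `(S_2)` is a normal domain. -/
theorem normal_of_r1_s2 (h1 : LocCoh.HasRk 1 R) (h2 : LocCoh.HasSk 2 R R) :
    IsDomain R ∧ IsIntegrallyClosed R := by
  haveI := SerreNormal.isDomain_of_R1_S2 h1 h2
  exact ⟨inferInstance, SerreNormal.isIntegrallyClosed_of_R1_S2 h1 h2⟩

end Alg

section Dom

variable (R : Type u) [CommRing R] [IsDomain R]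

theorem isEquidim_of_isDomain : EGA4.IsEquidim R := by
  intro p hp
  have hmin : minimalPrimes R = {⊥} := IsDomain.minimalPrimes_eq_singleton_bot R
  rw [hmin, Set.mem_singleton_iff] at hp
  subst hp
  exact ringKrullDim_eq_of_ringEquiv (RingEquiv.quotientBot R)

theorem ass_subset_min_of_isDomain [IsNoetherianRing R] :
    ∀ p ∈ associatedPrimes R R, p ∈ minimalPrimes R := by
  intro p hp
  have hmin : minimalPrimes R = {⊥} := IsDomain.minimalPrimes_eq_singleton_bot R
  rw [hmin, Set.mem_singleton_iff]
  have hp' : IsAssociatedPrime p R := hp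
  obtain ⟨hprime, x, hx⟩ := isAssociatedPrime_iff.mp hp'
  have hx0 : x ≠ 0 := by
    rintro rfl
    apply hprime.ne_top
    rw [hx, Ideal.eq_top_iff_one, Submodule.mem_colon_singleton]
    simp
  rw [eq_bot_iff]
  intro a ha
  rw [hx, Submodule.mem_colon_singleton] at ha
  have h0 : a * x = 0 := by simpa using ha
  rcases mul_eq_zero.mp h0 with h | h
  · exact (Submodule.mem_bot R).mpr h
  · exact absurd h hx0

end Dom

section Field

variable {κ : Type u} [Field κ] {W : Scheme.{u}} (g : W ⟶ Spec (CommRingCat.of κ))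

/-- geometric normality at a point (finite extensions). -/
def GeomNormalAt (w : W) : Prop :=
  ∀ (K : Type u) [Field K] [Algebra κ K], Module.Finite κ K →
    ∀ x' : ↥(FBase.bc g K), (FBase.bcπ g K).base x' = w →
      IsDomain ((FBase.bc g K).presheaf.stalk x') ∧
        IsIntegrallyClosed ((FBase.bc g K).presheaf.stalk x')

/-- the trivial base change. -/
theorem exists_stalk_equiv_bc_self (w : W) :
    ∃ x' : ↥(FBase.bc g κ), (FBase.bcπ g κ).base x' = w ∧
      Nonempty (W.presheaf.stalk w ≃+* (FBase.bc g κ).presheaf.stalk x') := by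
  haveI : IsIso (Spec.map (CommRingCat.ofHom (algebraMap κ κ))) := by
    have h0 : CommRingCat.ofHom (algebraMap κ κ) = 𝟙 _ := rfl
    rw [h0, Spec.map_id]
    infer_instance
  haveI : IsIso (FBase.bcπ g κ) :=
    inferInstanceAs (IsIso (pullback.fst g (Spec.map (CommRingCat.ofHom (algebraMap κ κ)))))
  obtain ⟨x', hx'⟩ := (FBase.bcπ g κ).surjective w
  subst hx'
  exact ⟨x', rfl, ⟨(asIso ((FBase.bcπ g κ).stalkMap x')).commRingCatIsoToRingEquiv⟩⟩

/-- a geometrically normal point is a normal point. -/
theorem isDomain_of_geomNormalAt (w : W) (h : GeomNormalAt g w) :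
    IsDomain (W.presheaf.stalk w) := by
  obtain ⟨x', hx', ⟨e⟩⟩ := exists_stalk_equiv_bc_self g w
  haveI := (h κ inferInstance x' hx').1
  exact e.toMulEquiv.isDomain _

variable [LocallyOfFinitePresentation g]

/-- `(S_n)` is insensitive to finite extensions of the base field. -/
theorem hasSk_stalk_bc_iff (K : Type u) [Field K] [Algebra κ K] [Module.Finite κ K] (n : ℕ)
    (x' : ↥(FBase.bc g K)) :
    LocCoh.HasSk n (W.presheaf.stalk ((FBase.bcπ g K).base x'))
        (W.presheaf.stalk ((FBase.bcπ g K).base x')) ↔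
      LocCoh.HasSk n ((FBase.bc g K).presheaf.stalk x') ((FBase.bc g K).presheaf.stalk x') := by
  haveI := isLocallyNoetherian_src g
  let x₀ : W := (pullback.fst g (Spec.map (CommRingCat.ofHom (algebraMap κ K)))) x'
  letI := stalkAlgA g x₀
  have hN : IsNoetherianRing (W.presheaf.stalk x₀ ⊗[κ] K) :=
    Algebra.FiniteType.isNoetherianRing (W.presheaf.stalk x₀) _
  exact (skr_stalk_iff g K n x' hN (Or.inr inferInstance)).2

set_option maxHeartbeats 800000 in
/-- **geometric normality at a point is geometric `(R_1)` together with `(S_2)`.** -/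
theorem geomNormalAt_iff (w : W) :
    GeomNormalAt g w ↔
      GeomRkAt g 1 w ∧ LocCoh.HasSk 2 (W.presheaf.stalk w) (W.presheaf.stalk w) := by
  haveI := isLocallyNoetherian_src g
  constructor
  · intro h
    refine ⟨?_, ?_⟩
    · intro K _ _ hfin x' hx'
      haveI := hfin
      haveI := isLocallyNoetherian_bc g K
      obtain ⟨hd, hi⟩ := h K hfin x' hx'
      exact (r1_s2_of_normal (R := (FBase.bc g K).presheaf.stalk x')).1
    · haveI : IsIso (Spec.map (CommRingCat.ofHom (algebraMap κ κ))) := by
        have h0 : CommRingCat.ofHom (algebraMap κ κ) = 𝟙 _ := rfl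
        rw [h0, Spec.map_id]
        infer_instance
      haveI : Surjective (FBase.bcπ g κ) :=
        inferInstanceAs (Surjective (pullback.fst g (Spec.map (CommRingCat.ofHom
          (algebraMap κ κ)))))
      obtain ⟨x', hx'⟩ := (FBase.bcπ g κ).surjective w
      haveI := isLocallyNoetherian_bc g κ
      obtain ⟨hd, hi⟩ := h κ inferInstance x' hx'
      have h2 := (hasSk_stalk_bc_iff g κ 2 x').mpr
        (r1_s2_of_normal (R := (FBase.bc g κ).presheaf.stalk x')).2
      rwa [hx'] at h2
  · rintro ⟨h1, h2⟩ K _ _ hfin x' hx'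
    haveI := hfin
    haveI := isLocallyNoetherian_bc g K
    have hS : LocCoh.HasSk 2 ((FBase.bc g K).presheaf.stalk x')
        ((FBase.bc g K).presheaf.stalk x') :=
      (hasSk_stalk_bc_iff g K 2 x').mp (by rw [hx']; exact h2)
    exact normal_of_r1_s2 (h1 K hfin x' hx') hS

end Field

end Groth.Agent.Lib.Helper20.GeomNor
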