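import Mathlib
import Groth.Agent.Lib.Helper20.GRkC4
import Groth.Agent.Lib.Helper20.GeomNor1

/-!
# Local constructibility of the locus where the fibre is geometrically normal (over all field
extensions) (helper20)
-/

set_option autoImplicit false
set_option linter.style.haveILetI false
set_option linter.unusedSectionVars false
set_option linter.dupNamespace false
universe u

open IsLocalRing TensorProduct CategoryTheory CategoryTheory.Limits AlgebraicGeometry
  TopologicalSpace Topology

namespace Groth.Agent.Lib.Helper20.GRkC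

open Groth.Agent.Lib.Helper14.ConsFibre Groth.Agent.Lib.Helper20.GeomRk
  Groth.Agent.Lib.Helper14.CMBaseChange Groth.Agent.Lib.Helper20.GeomNor
  Groth.Agent.Lib.Helper20.SkCons Groth.Agent.Lib.Helper14.StalkTensor

section Field

variable {κ : Type u} [Field κ] {W : Scheme.{u}} (g : W ⟶ Spec (CommRingCat.of κ))
  [LocallyOfFinitePresentation g]

set_option maxHeartbeats 800000 in
/-- `(S_n)` is insensitive to arbitrary extensions of the base field. -/
theorem hasSk_stalk_bc_iff' (K : Type u) [Field K] [Algebra κ K] (n : ℕ)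
    (x' : ↥(FBase.bc g K)) :
    LocCoh.HasSk n (W.presheaf.stalk ((FBase.bcπ g K).base x'))
        (W.presheaf.stalk ((FBase.bcπ g K).base x')) ↔
      LocCoh.HasSk n ((FBase.bc g K).presheaf.stalk x') ((FBase.bc g K).presheaf.stalk x') := by
  haveI := isLocallyNoetherian_src g
  let x₀ : W := (pullback.fst g (Spec.map (CommRingCat.ofHom (algebraMap κ K)))) x'
  letI := stalkAlgA g x₀
  haveI hE : Algebra.EssFiniteType κ (W.presheaf.stalk x₀) := by
    rw [← RingHom.essFiniteType_algebraMap,
      Groth.Agent.Lib.Helper14.CMFieldBCSch.algebraMap_stalkAlgA]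
    exact Groth.Agent.Lib.Helper14.GeomRegSmooth.essFiniteType_stalkStr _ _
  have hN : IsNoetherianRing (W.presheaf.stalk x₀ ⊗[κ] K) := by
    haveI : IsNoetherianRing (TensorProduct κ K (W.presheaf.stalk x₀)) :=
      Algebra.EssFiniteType.isNoetherianRing K _
    exact isNoetherianRing_of_ringEquiv _
      (Algebra.TensorProduct.comm κ K (W.presheaf.stalk x₀)).toRingEquiv
  exact (skr_stalk_iff g K n x' hN (Or.inl hE)).2

set_option maxHeartbeats 800000 in
/-- **geometric normality at a point over all field extensions.** -/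
theorem allK_normal_iff (w : W) :
    (∀ (K : Type u) [Field K] [Algebra κ K] (x' : ↥(FBase.bc g K)),
      (FBase.bcπ g K).base x' = w → IsDomain ((FBase.bc g K).presheaf.stalk x') ∧
        IsIntegrallyClosed ((FBase.bc g K).presheaf.stalk x')) ↔
    FibRk g 1 w ∧ LocCoh.HasSk 2 (W.presheaf.stalk w) (W.presheaf.stalk w) := by
  haveI := isLocallyNoetherian_src g
  rw [← allK_hasRk_iff g 1 w]
  constructor
  · intro h
    refine ⟨?_, ?_⟩
    · intro K _ _ x' hx'
      haveI := isLocallyNoetherian_bc g K
      obtain ⟨hd, hi⟩ := h K x' hx'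
      exact (r1_s2_of_normal (R := (FBase.bc g K).presheaf.stalk x')).1
    · obtain ⟨x', hx', -⟩ := exists_stalk_equiv_bc_self g w
      haveI := isLocallyNoetherian_bc g κ
      obtain ⟨hd, hi⟩ := h κ x' hx'
      have h2 := (hasSk_stalk_bc_iff' g κ 2 x').mpr
        (r1_s2_of_normal (R := (FBase.bc g κ).presheaf.stalk x')).2
      rwa [hx'] at h2
  · rintro ⟨h1, h2⟩ K _ _ x' hx'
    haveI := isLocallyNoetherian_bc g K
    have hS : LocCoh.HasSk 2 ((FBase.bc g K).presheaf.stalk x')
        ((FBase.bc g K).presheaf.stalk x') :=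
      (hasSk_stalk_bc_iff' g K 2 x').mp (by rw [hx']; exact h2)
    exact normal_of_r1_s2 (h1 K x' hx') hS

end Field

/-- the set of the statement is the intersection of the intrinsic sets. -/
theorem setOf_allK_normal_eq {X S : Scheme.{u}} (f : X ⟶ S)
    [LocallyOfFinitePresentation f] :
    {x : X |
      ∀ (K : Type u) [Field K] [Algebra (IsLocalRing.ResidueField (S.presheaf.stalk (f.base x))) K]
        (x' : ↥(FBase.bc (f.fiberToSpecResidueField (f.base x)) K)),
        (FBase.bcπ (f.fiberToSpecResidueField (f.base x)) K).base x' = f.asFiber x →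
          (IsDomain ((FBase.bc (f.fiberToSpecResidueField (f.base x)) K).presheaf.stalk x') ∧
            IsIntegrallyClosed
              ((FBase.bc (f.fiberToSpecResidueField (f.base x)) K).presheaf.stalk x'))} =
    rkSet 1 f ∩ skSet 2 f := by
  ext x
  haveI := Groth.Agent.Lib.Helper14.ConsFibre.lfp_fiberToSpecResidueField f (f x)
  rw [Set.mem_inter_iff, mem_rkSet_iff]
  exact @allK_normal_iff (IsLocalRing.ResidueField (S.presheaf.stalk (f.base x))) _
    (f.fiber (f.base x)) (f.fiberToSpecResidueField (f.base x))
    (Groth.Agent.Lib.Helper14.ConsFibre.lfp_fiberToSpecResidueField f (f x)) (f.asFiber x)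

/-- **the locus where the fibre is geometrically normal is locally constructible.** -/
theorem isLocallyConstructible_setOf_allK_normal {X S : Scheme.{u}} (f : X ⟶ S)
    [LocallyOfFinitePresentation f] :
    IsLocallyConstructible (rkSet 1 f ∩ skSet 2 f) :=
  (isLocallyConstructible_rkSet 1 f).inter (isLocallyConstructible_skSet 2 f)

end Groth.Agent.Lib.Helper20.GRkC
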