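import Mathlib
import Groth.Agent.Lib.Helper20.GRkC5
import Groth.Agent.Lib.Helper12.ConstrNhds

/-!
# Local constructibility on the base of the locus where the whole fibre is geometrically `(R_k)`
/ geometrically normal (helper20)
-/

set_option autoImplicit false
set_option linter.style.haveILetI false
set_option linter.unusedSectionVars false
set_option linter.dupNamespace false
universe u

open IsLocalRing TensorProduct CategoryTheory CategoryTheory.Limits AlgebraicGeometry
  TopologicalSpace Topology

namespace Groth.Agent.Lib.Helper20.GRkC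

open Groth.Agent.Lib.Helper14.ConsFibre Groth.Agent.Lib.Helper20.GeomRk
  Groth.Agent.Lib.Helper14.CMBaseChange Groth.Agent.Lib.Helper20.GeomNor
  Groth.Agent.Lib.Helper20.SkCons Groth.Agent.Lib.Helper14.StalkTensor

/-- a set of points of the base described fibrewise by a locally constructible subset of the
source. -/
theorem isLocallyConstructible_forall_mem {X S : Scheme.{u}} (f : X ⟶ S)
    [LocallyOfFinitePresentation f] [QuasiCompact f] (E : Set X)
    (hE : IsLocallyConstructible E) :
    IsLocallyConstructible {s : S | ∀ x : X, f x = s → x ∈ E} := by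
  have h1 := Groth.Agent.Lib.Helper12.ConstrNhds.isLocallyConstructible_compl
    (f.isLocallyConstructible_image
      (Groth.Agent.Lib.Helper12.ConstrNhds.isLocallyConstructible_compl hE))
  convert h1 using 1
  ext s
  simp only [Set.mem_setOf_eq, Set.mem_compl_iff, Set.mem_image, not_exists, not_and, not_not]
  constructor
  · intro h x hx hfx
    exact hx (h x hfx)
  · intro h x hfx
    by_contra hne
    exact h x hne hfx

theorem fiberι_mem_rkSet_iff (k : ℕ) {X S : Scheme.{u}} (f : X ⟶ S) [LocallyOfFiniteType f]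
    (s : S) (w : f.fiber s)
    [LocallyOfFinitePresentation (f.fiberToSpecResidueField s)] :
    f.fiberι s w ∈ rkSet k f ↔ FibRk (f.fiberToSpecResidueField s) k w := by
  have hgx : f (f.fiberι s w) = s := by
    have : f.fiberι s w ∈ Set.range (f.fiberι s) := ⟨w, rfl⟩
    rw [f.range_fiberι] at this
    exact this
  haveI := Groth.Agent.Lib.Helper14.ConsFibre.lfp_fiberToSpecResidueField f (f (f.fiberι s w))
  rw [mem_rkSet_iff]
  exact fibRk_congr f k (f (f.fiberι s w)) s hgx (f.asFiber (f.fiberι s w)) w
    (f.fiberι_asFiber _)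

theorem fiberι_mem_skSet_iff (n : ℕ) {X S : Scheme.{u}} (f : X ⟶ S) [LocallyOfFiniteType f]
    (s : S) (w : f.fiber s) :
    f.fiberι s w ∈ skSet n f ↔
      LocCoh.HasSk n ((f.fiber s).presheaf.stalk w) ((f.fiber s).presheaf.stalk w) := by
  have hgx : f (f.fiberι s w) = s := by
    have : f.fiberι s w ∈ Set.range (f.fiberι s) := ⟨w, rfl⟩
    rw [f.range_fiberι] at this
    exact this
  obtain ⟨e⟩ := nonempty_stalk_equiv_of_fiberι_eq f (f (f.fiberι s w)) s hgx
    (f.asFiber (f.fiberι s w)) w (f.fiberι_asFiber _)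
  haveI := Groth.Agent.Lib.Helper20.SkFib.isNoetherianRing_fibreStalk f (f (f.fiberι s w))
    (f.asFiber (f.fiberι s w))
  exact skr_iff_of_ringEquiv e

/-- the set of `S4828` on the base. -/
theorem setOf_forall_allK_hasRk_eq (k : ℕ) {X S : Scheme.{u}} (f : X ⟶ S)
    [LocallyOfFinitePresentation f] :
    {s : S |
      ∀ (K : Type u) [Field K] [Algebra (IsLocalRing.ResidueField (S.presheaf.stalk s)) K]
        (x' : ↥(FBase.bc (f.fiberToSpecResidueField s) K)),
        LocCoh.HasRk k ((FBase.bc (f.fiberToSpecResidueField s) K).presheaf.stalk x')} =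
    {s : S | ∀ x : X, f x = s → x ∈ rkSet k f} := by
  ext s
  haveI hlfp := Groth.Agent.Lib.Helper14.ConsFibre.lfp_fiberToSpecResidueField f s
  have key := fun w : f.fiber s =>
    @allK_hasRk_iff (IsLocalRing.ResidueField (S.presheaf.stalk s)) _
      (f.fiber s) (f.fiberToSpecResidueField s) hlfp k w
  simp only [Set.mem_setOf_eq]
  constructor
  · intro h x hx
    subst hx
    have h1 := (key (f.asFiber x)).mp (fun K _ _ x' _ => h K x')
    have h2 := (fiberι_mem_rkSet_iff k f (f x) (f.asFiber x)).mpr h1
    rwa [f.fiberι_asFiber] at h2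
  · intro h K _ _ x'
    have hgx : f (f.fiberι s ((FBase.bcπ (f.fiberToSpecResidueField s) K).base x')) = s := by
      have : f.fiberι s ((FBase.bcπ (f.fiberToSpecResidueField s) K).base x') ∈
          Set.range (f.fiberι s) := ⟨_, rfl⟩
      rw [f.range_fiberι] at this
      exact this
    have h1 := (fiberι_mem_rkSet_iff k f s _).mp (h _ hgx)
    exact (key _).mpr h1 K x' rfl

/-- the set of `S4827` on the base. -/
theorem setOf_forall_allK_normal_eq {X S : Scheme.{u}} (f : X ⟶ S)
    [LocallyOfFinitePresentation f] :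
    {s : S |
      ∀ (K : Type u) [Field K] [Algebra (IsLocalRing.ResidueField (S.presheaf.stalk s)) K]
        (x' : ↥(FBase.bc (f.fiberToSpecResidueField s) K)),
        IsDomain ((FBase.bc (f.fiberToSpecResidueField s) K).presheaf.stalk x') ∧
          IsIntegrallyClosed ((FBase.bc (f.fiberToSpecResidueField s) K).presheaf.stalk x')} =
    {s : S | ∀ x : X, f x = s → x ∈ rkSet 1 f ∩ skSet 2 f} := by
  ext s
  haveI hlfp := Groth.Agent.Lib.Helper14.ConsFibre.lfp_fiberToSpecResidueField f s
  have key := fun w : f.fiber s =>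
    @allK_normal_iff (IsLocalRing.ResidueField (S.presheaf.stalk s)) _
      (f.fiber s) (f.fiberToSpecResidueField s) hlfp w
  simp only [Set.mem_setOf_eq]
  constructor
  · intro h x hx
    subst hx
    have h1 := (key (f.asFiber x)).mp (fun K _ _ x' _ => h K x')
    have h2 := (fiberι_mem_rkSet_iff 1 f (f x) (f.asFiber x)).mpr h1.1
    have h3 := (fiberι_mem_skSet_iff 2 f (f x) (f.asFiber x)).mpr h1.2
    rw [f.fiberι_asFiber] at h2 h3
    exact ⟨h2, h3⟩
  · intro h K _ _ x'
    have hgx : f (f.fiberι s ((FBase.bcπ (f.fiberToSpecResidueField s) K).base x')) = s := by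
      have : f.fiberι s ((FBase.bcπ (f.fiberToSpecResidueField s) K).base x') ∈
          Set.range (f.fiberι s) := ⟨_, rfl⟩
      rw [f.range_fiberι] at this
      exact this
    obtain ⟨h1, h2⟩ := h _ hgx
    exact (key _).mpr ⟨(fiberι_mem_rkSet_iff 1 f s _).mp h1,
      (fiberι_mem_skSet_iff 2 f s _).mp h2⟩ K x' rfl

end Groth.Agent.Lib.Helper20.GRkC
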