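import Mathlib
import Groth.Agent.Lib.Helper20.GRkM3
import Groth.Agent.Lib.Helper20.RD6
import Groth.Agent.Lib.Helper17.SepFG
import Groth.Agent.Lib.Helper17.GenFin1
import Groth.Agent.Lib.Helper17.ExactStage
import Groth.Agent.Lib.Helper14.CMBaseChange
import Groth.Agent.Lib.Helper12.SchemeDimIneq2

/-!
# Transfer of the fibrewise rectified depth along a flat morphism of fibres (helper20)
-/

set_option autoImplicit false
set_option linter.style.haveILetI false
set_option linter.unusedSectionVars false
set_option linter.dupNamespace false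
universe u

open IsLocalRing TensorProduct CategoryTheory CategoryTheory.Limits AlgebraicGeometry
  TopologicalSpace

namespace Groth.Agent.Lib.Helper20.GRkM

open Groth.Agent.Lib.Helper17 Groth.Agent.Lib.Helper4 Groth.Agent.Lib.Helper20.EquiSk
  Groth.Agent.Lib.Helper20.NoEmbFS Groth.Agent.Lib.Helper20.RD
  Groth.Agent.Lib.Helper12.SchemeDimIneq Groth.Agent.Lib.Helper14.CMBaseChange

set_option maxHeartbeats 1600000 in
/-- **transfer of the rectified depth.** -/
theorem qxrd_transfer {X S X' S' : Scheme.{u}} (f : X ⟶ S) (f' : X' ⟶ S')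
    [LocallyOfFiniteType f] [LocallyOfFiniteType f'] (g' : X' ⟶ X) (F : X.Modules)
    (hF : Coh.IsCoh F) (F' : X'.Modules) (iso : F' ≅ (Scheme.Modules.pullback g').obj F)
    (s : S) (s' : S') (e : f'.fiber s' ⟶ f.fiber s) [Flat e]
    (hcomm : e ≫ f.fiberι s = f'.fiberι s' ≫ g')
    (hCE : ∀ w' : f'.fiber s',
      CEr ((f.fiber s).presheaf.stalk (e w')) ((f'.fiber s').presheaf.stalk w'))
    (w' : f'.fiber s') (x' : X') (hw' : (f'.fiberι s').base w' = x')
    (hfd : FlatMor.fibreDimAt f' x' = FlatMor.fibreDimAt f (g' x'))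
    (n : ℕ) : QXrd f' F' n x' ↔ QXrd f F n (g' x') := by
  haveI : F.IsQuasicoherent := hF.1
  haveI : F.IsFiniteType := hF.2
  haveI : LocallyOfFiniteType (f.fiberToSpecResidueField s) := by
    change LocallyOfFiniteType (pullback.snd f (S.fromSpecResidueField s))
    infer_instance
  haveI : IsLocallyNoetherian (f.fiber s) :=
    LocallyOfFiniteType.isLocallyNoetherian (f.fiberToSpecResidueField s)
  haveI : LocallyOfFiniteType (f'.fiberToSpecResidueField s') := by
    change LocallyOfFiniteType (pullback.snd f' (S'.fromSpecResidueField s'))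
    infer_instance
  haveI : IsLocallyNoetherian (f'.fiber s') :=
    LocallyOfFiniteType.isLocallyNoetherian (f'.fiberToSpecResidueField s')
  set G : (f.fiber s).Modules := (Scheme.Modules.pullback (f.fiberι s)).obj F with hG
  haveI : G.IsQuasicoherent := PbStalk.isQuasicoherent_pullback (f.fiberι s) F
  haveI : G.IsFiniteType := PbFinite.isFiniteType_pullback (f.fiberι s) F
  haveI : ((Scheme.Modules.pullback g').obj F).IsQuasicoherent :=
    PbStalk.isQuasicoherent_pullback g' F
  haveI : F'.IsQuasicoherent := ExactStage.isQuasicoherent_of_iso iso.symm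
  set G' : (f'.fiber s').Modules :=
    (Scheme.Modules.pullback (f'.fiberι s')).obj F' with hG'
  let i₁ : G' ≅ (Scheme.Modules.pullback (f'.fiberι s')).obj
      ((Scheme.Modules.pullback g').obj F) :=
    (Scheme.Modules.pullback (f'.fiberι s')).mapIso iso
  let i₂ : (Scheme.Modules.pullback (f'.fiberι s')).obj
      ((Scheme.Modules.pullback g').obj F) ≅
      (Scheme.Modules.pullback (f'.fiberι s' ≫ g')).obj F :=
    (SepFG.compIso (f'.fiberι s') g' (f'.fiberι s' ≫ g') rfl).app F
  let i₃ : (Scheme.Modules.pullback e).obj G ≅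
      (Scheme.Modules.pullback (f'.fiberι s' ≫ g')).obj F :=
    (SepFG.compIso e (f.fiberι s) (f'.fiberι s' ≫ g') hcomm).app F
  let isoG : G' ≅ (Scheme.Modules.pullback e).obj G := i₁ ≪≫ i₂ ≪≫ i₃.symm
  have hw : (f.fiberι s).base (e w') = g' x' := by
    have h5 : (e ≫ f.fiberι s) w' = (f'.fiberι s' ≫ g') w' := by rw [hcomm]
    rw [Scheme.Hom.comp_apply, Scheme.Hom.comp_apply] at h5
    rw [← hw']
    exact h5
  have hfx : f (g' x') = s := by
    have h3 : (f.fiberι s).base (e w') ∈ f.base ⁻¹' {s} := by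
      rw [← f.range_fiberι s]
      exact ⟨_, rfl⟩
    rw [hw] at h3
    exact h3
  have hfx' : f' x' = s' := by
    have h3 : (f'.fiberι s').base w' ∈ f'.base ⁻¹' {s'} := by
      rw [← f'.range_fiberι s']
      exact ⟨_, rfl⟩
    rw [hw'] at h3
    exact h3
  obtain ⟨a, c, d, hcd, hdep, hdimA, hdimB, hcdeq⟩ := exists_data e G w'
  have hcd' : c = d := hcdeq (hCE w')
  -- depths
  have h1 : xdepth f' F' x' = LocCoh.depth ((f'.fiber s').presheaf.stalk w')
      (G'.presheaf.stalk w') := by
    have := fibre_depth_eq f' F' s' w'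
    rw [hw'] at this
    exact this.symm
  have h2 : LocCoh.depth ((f'.fiber s').presheaf.stalk w') (G'.presheaf.stalk w') =
      LocCoh.depth ((f'.fiber s').presheaf.stalk w')
        (((Scheme.Modules.pullback e).obj G).presheaf.stalk w') := by
    unfold LocCoh.depth
    exact idealDepth_congr _ (GenFin.stalkEquivOfIso isoG w')
  have h3 : xdepth f F (g' x') = LocCoh.depth ((f.fiber s).presheaf.stalk (e w'))
      (G.presheaf.stalk (e w')) := by
    have := fibre_depth_eq f F s (e w')
    rw [hw] at this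
    exact this.symm
  have hxd : xdepth f' F' x' = xdepth f F (g' x') + (c : ℕ∞) := by
    rw [h1, h2, hdep, ← h3]
  -- dimensions
  have k1 := fibreDimAt_eq_trn_add f' x'
  have k2 := fibreDimAt_eq_trn_add f (g' x')
  obtain ⟨eq⟩ := nonempty_stalk_equiv_of_fiberι_eq f (f (g' x')) s hfx (f.asFiber (g' x'))
    (e w') (by
      have := f.fiberι_asFiber (g' x')
      rw [this]
      exact hw.symm)
  obtain ⟨eq'⟩ := nonempty_stalk_equiv_of_fiberι_eq f' (f' x') s' hfx' (f'.asFiber x')
    w' (by
      have := f'.fiberι_asFiber x'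
      rw [this]
      exact hw'.symm)
  rw [ringKrullDim_eq_of_ringEquiv eq, hdimA] at k2
  rw [ringKrullDim_eq_of_ringEquiv eq', hdimB] at k1
  obtain ⟨t', ht'⟩ := exists_trn_eq f' x'
  obtain ⟨t, ht⟩ := exists_trn_eq f (g' x')
  rw [ht'] at k1
  rw [ht] at k2
  rw [k1, k2] at hfd
  have htt : t' + (a + d) = t + a := by exact_mod_cast hfd
  have htt' : t = t' + d := by omega
  unfold QXrd
  rw [hxd, ht', ht, htt', hcd']
  push_cast
  constructor
  · intro h
    refine le_trans h (le_of_eq ?_)
    ring
  · intro h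
    refine le_trans h (le_of_eq ?_)
    ring

end Groth.Agent.Lib.Helper20.GRkM
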