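import Mathlib
import Groth.Agent.Lib.Helper20.GRkM2
import Groth.Agent.Lib.Helper20.GRkM4
import Groth.Agent.Lib.Helper20.DepthAlong3
import Groth.Agent.Lib.Helper20.AssDim2
import Groth.Agent.Lib.Helper12.Equidim
import Groth.Agent.Lib.Helper12.SecComp
import Groth.Agent.S9358

/-!
# Local constructibility of the fibrewise rectified depth of a finitely presented module
(EGA IV 9.9.x) (helper20)
-/

set_option autoImplicit false
set_option linter.style.haveILetI false
set_option linter.unusedSectionVars false
set_option linter.dupNamespace false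
universe u

open IsLocalRing TensorProduct CategoryTheory CategoryTheory.Limits AlgebraicGeometry
  TopologicalSpace Topology

namespace Groth.Agent.Lib.Helper20.GRkM

open Groth.Agent.Lib.Helper17 Groth.Agent.Lib.Helper4 Groth.Agent.Lib.Helper20.EquiSk
  Groth.Agent.Lib.Helper20.NoEmbFS Groth.Agent.Lib.Helper20.RD
  Groth.Agent.Lib.Helper12.SchemeDimIneq Groth.Agent.Lib.Helper14.CMBaseChange
  Groth.Agent.Lib.Helper12 Groth.Agent.Lib.Helper20.AssDim

/-- the set where the fibrewise rectified depth of `F` is at least `n`. -/
def rdSet (n : ℕ) ⦃X S : Scheme.{u}⦄ (f : X ⟶ S) (F : X.Modules) : Set X :=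
  {x | QXrd f F n x}

set_option maxHeartbeats 1600000 in
theorem rdSet_isFibreConsM (n : ℕ) : IsFibreConsM.{u} (rdSet n) where
  baseChange := by
    intro X S X' S' f f' g' g hc hf F F' hF iso
    haveI : LocallyOfFiniteType f := hf
    haveI : LocallyOfFiniteType f' :=
      MorphismProperty.of_isPullback (P := @LocallyOfFiniteType) hc hf
    ext x'
    obtain ⟨e, he, hcomm⟩ :=
      Groth.Agent.Lib.Helper12.ConsPropNoeth.exists_fibre_isPullback hc (f' x')
    haveI : Flat (Spec.map (g.residueFieldMap (f' x'))) := by
      rw [Flat.SpecMap_iff]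
      algebraize [(g.residueFieldMap (f' x')).hom]
      change Module.Flat _ _
      infer_instance
    haveI : Flat e := MorphismProperty.of_isPullback (P := @Flat) he.flip inferInstance
    haveI : LocallyOfFiniteType (f.fiberToSpecResidueField (g (f' x'))) := by
      change LocallyOfFiniteType (pullback.snd f (S.fromSpecResidueField (g (f' x'))))
      infer_instance
    have hCE : ∀ w' : f'.fiber (f' x'),
        CEr ((f.fiber (g (f' x'))).presheaf.stalk (e w'))
          ((f'.fiber (f' x')).presheaf.stalk w') := fun w' =>
      (cer_general (f.fiberToSpecResidueField (g (f' x')))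
        (f'.fiberToSpecResidueField (f' x')) e (Spec.map (g.residueFieldMap (f' x'))) he w').2
    exact qxrd_transfer f f' g' F hF F' iso (g (f' x')) (f' x') e hcomm hCE (f'.asFiber x') x'
      (f'.fiberι_asFiber x') ((Groth.Agent.S9358.result f g g' f' hc 0).1 x') n
  restrict := by
    intro X S f U hf F hF
    haveI : LocallyOfFiniteType f := hf
    ext u
    set s := f (U.ι u) with hs
    have hsq := Groth.Agent.Lib.Helper12.ConsPropNoeth.isPullback_fiberMap U.ι f s
    set φ := MoreMor.fiberMap U.ι f s with hφ
    haveI : IsOpenImmersion φ :=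
      MorphismProperty.of_isPullback (P := @IsOpenImmersion) hsq inferInstance
    have hCE : ∀ w' : (U.ι ≫ f).fiber s,
        CEr ((f.fiber s).presheaf.stalk (φ w')) (((U.ι ≫ f).fiber s).presheaf.stalk w') :=
      fun w' => cer_of_ringEquiv (RingEquiv.refl _)
        (asIso (φ.stalkMap w')).commRingCatIsoToRingEquiv (by unfold CEr; rfl)
    exact qxrd_transfer f (U.ι ≫ f) U.ι F hF _ (Iso.refl _) s s φ hsq.w.symm hCE
      ((U.ι ≫ f).asFiber u) u ((U.ι ≫ f).fiberι_asFiber u)
      (Equidim.fibreDimAt_comp_openImmersion U.ι f u) n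
  isOpen_flat := by
    intro X S f hf F hq hfp
    haveI := hf
    haveI := hq
    haveI := hfp
    exact isOpen_flat_and_QXrd f F n

/-- the locus where the rectified depth is at least `n` is locally constructible. -/
theorem isLocallyConstructible_rdSet (n : ℕ) {X S : Scheme.{u}} (f : X ⟶ S)
    [LocallyOfFinitePresentation f] (F : X.Modules) [F.IsQuasicoherent] (hF : CohB1.IsFP F) :
    IsLocallyConstructible (rdSet n f F) :=
  isLocallyConstructible (rdSet_isFibreConsM n) f F hF

section Top

variable {X S : Scheme.{u}} (f : X ⟶ S) [LocallyOfFiniteType f] (F : X.Modules)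
  [F.IsQuasicoherent] [F.IsFiniteType]

/-- a finite rectified depth is bounded by the local dimension of the fibre. -/
theorem rd_le_fibreDimAt (x : X) (h : xdepth f F x ≠ ⊤) :
    ((xdepth f F x + trn f x : ℕ∞) : WithBot ℕ∞) ≤ FlatMor.fibreDimAt f x := by
  haveI : LocallyOfFiniteType (f.fiberToSpecResidueField (f x)) := by
    change LocallyOfFiniteType (pullback.snd f (S.fromSpecResidueField (f x)))
    infer_instance
  haveI : IsLocallyNoetherian (f.fiber (f x)) :=
    LocallyOfFiniteType.isLocallyNoetherian (f.fiberToSpecResidueField (f x))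
  set G : (f.fiber (f x)).Modules := (Scheme.Modules.pullback (f.fiberι (f x))).obj F with hG
  haveI : G.IsQuasicoherent := PbStalk.isQuasicoherent_pullback (f.fiberι (f x)) F
  haveI : G.IsFiniteType := PbFinite.isFiniteType_pullback (f.fiberι (f x)) F
  haveI := CohStalk.finite_stalk G (f.asFiber x)
  have h1 : xdepth f F x = LocCoh.depth ((f.fiber (f x)).presheaf.stalk (f.asFiber x))
      (G.presheaf.stalk (f.asFiber x)) := by
    have := fibre_depth_eq f F (f x) (f.asFiber x)
    rw [f.fiberι_asFiber x] at this
    exact this.symm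
  have hnt : Nontrivial (G.presheaf.stalk (f.asFiber x)) := by
    by_contra hM
    rw [not_nontrivial_iff_subsingleton] at hM
    apply h
    rw [h1, depth_eq_top_of_subsingleton]
  have h2 := depth_le_supportDim (R := (f.fiber (f x)).presheaf.stalk (f.asFiber x))
    (M := G.presheaf.stalk (f.asFiber x))
  have h3 := Module.supportDim_le_ringKrullDim ((f.fiber (f x)).presheaf.stalk (f.asFiber x))
    (G.presheaf.stalk (f.asFiber x))
  rw [fibreDimAt_eq_trn_add f x, h1]
  push_cast
  rw [add_comm]
  exact add_le_add le_rfl (h2.trans h3)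

end Top

set_option maxHeartbeats 800000 in
/-- **the level sets of the fibrewise rectified depth are locally constructible.** -/
theorem isLocallyConstructible_rd_eq {X S : Scheme.{u}} (f : X ⟶ S)
    [LocallyOfFinitePresentation f] (F : X.Modules) [F.IsQuasicoherent] (hF : CohB1.IsFP F)
    (n : ℕ∞) : IsLocallyConstructible {x : X | xdepth f F x + trn f x = n} := by
  haveI : SheafOfModules.IsFinitePresentation (R := X.ringCatSheaf) F := hF
  induction n using ENat.recTopCoe with
  | top =>
    let U : ℕ → X.Opens := fun N =>
      ⟨{x : X | FlatMor.fibreDimAt f x ≤ (N : WithBot ℕ∞)},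
        Chevalley.isOpen_setOf_fibreDimAt_le f N⟩
    have hU : IsOpenCover U := by
      rw [IsOpenCover, eq_top_iff]
      rintro x -
      obtain ⟨m, hm⟩ := SecComp.exists_nat_fibreDimAt f x
      rw [Opens.mem_iSup]
      exact ⟨m, hm.le⟩
    refine IsLocallyConstructible.of_isOpenCover hU fun N => ?_
    have heq : ((Subtype.val : ↥(U N : Set X) → X) ⁻¹' {x : X | xdepth f F x + trn f x = ⊤}) =
        ((Subtype.val : ↥(U N : Set X) → X) ⁻¹' rdSet (N + 1) f F) := by
      ext ⟨x, hx⟩
      simp only [Set.mem_preimage, Set.mem_setOf_eq, rdSet, QXrd]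
      constructor
      · intro h
        rw [h]
        exact le_top
      · intro h
        by_contra hne
        have hxd : xdepth f F x ≠ ⊤ := fun h' => hne (by rw [h', top_add])
        have h1 := rd_le_fibreDimAt f F x hxd
        have hx' : FlatMor.fibreDimAt f x ≤ (N : WithBot ℕ∞) := hx
        have h2 : ((xdepth f F x + trn f x : ℕ∞) : WithBot ℕ∞) ≤ ((N : ℕ∞) : WithBot ℕ∞) :=
          h1.trans hx'
        have h3 : xdepth f F x + trn f x ≤ (N : ℕ∞) := by exact_mod_cast h2
        have h4 := le_trans h h3
        have : N + 1 ≤ N := by exact_mod_cast h4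
        omega
    show IsLocallyConstructible
      ((Subtype.val : ↥(U N : Set X) → X) ⁻¹' {x : X | xdepth f F x + trn f x = ⊤})
    rw [heq]
    exact (isLocallyConstructible_rdSet (N + 1) f F hF).preimage_of_isOpenEmbedding
      (U N).2.isOpenEmbedding_subtypeVal
  | coe m =>
    have h1 := isLocallyConstructible_rdSet m f F hF
    have h2 := Groth.Agent.Lib.Helper12.ConstrNhds.isLocallyConstructible_compl
      (isLocallyConstructible_rdSet (m + 1) f F hF)
    convert h1.inter h2 using 1
    ext x
    simp only [Set.mem_setOf_eq, Set.mem_inter_iff, Set.mem_compl_iff, rdSet, QXrd]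
    generalize xdepth f F x + trn f x = r
    induction r using ENat.recTopCoe with
    | top => simp
    | coe r =>
      constructor
      · intro h
        have : r = m := by exact_mod_cast h
        subst this
        refine ⟨le_rfl, ?_⟩
        intro h'
        have : r + 1 ≤ r := by exact_mod_cast h'
        omega
      · rintro ⟨h1, h2⟩
        have h1' : m ≤ r := by exact_mod_cast h1
        have h2' : ¬ (m + 1 ≤ r) := fun h => h2 (by exact_mod_cast h)
        exact_mod_cast (by omega : r = m)

/-- the form of the statement. -/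
theorem setOf_rd_eq {X S : Scheme.{u}} (f : X ⟶ S) [LocallyOfFinitePresentation f]
    (F : X.Modules) [F.IsQuasicoherent] (n : ℕ∞) :
    {x : X | ((CInt.fiberDepth f F x : ℕ∞) : WithBot ℕ∞) +
        topologicalKrullDim ↥(closure ({f.asFiber x} : Set ↥(f.fiber (f.base x)))) =
          ((n : ℕ∞) : WithBot ℕ∞)} =
      {x : X | xdepth f F x + trn f x = n} := by
  ext x
  simp only [Set.mem_setOf_eq]
  rw [Groth.Agent.Lib.Helper20.DepthAlong.fiberDepth_eq_xdepth f F x,
    dim_closure_eq_trn f (f.base x) (f.asFiber x)]
  have := f.fiberι_asFiber x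
  rw [this]
  constructor
  · intro h
    exact_mod_cast h
  · intro h
    exact_mod_cast h

end Groth.Agent.Lib.Helper20.GRkM
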