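import Mathlib
import Groth.Agent.Lib.Helper20.GRkC1
import Groth.Agent.Lib.Helper12.Equidim
import Groth.Agent.Lib.Helper14.ConsFibre.Top

/-!
# Constructibility of the fibrewise codimension condition over a locally Noetherian base
(helper20)
-/

set_option autoImplicit false
set_option linter.style.haveILetI false
set_option linter.unusedSectionVars false
set_option linter.dupNamespace false
universe u

open IsLocalRing CategoryTheory CategoryTheory.Limits AlgebraicGeometry TopologicalSpace Topology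

namespace Groth.Agent.Lib.Helper20.GRkT

open Groth.Agent.Lib.Helper12 Groth.Agent.Lib.Helper12.SchemeDimIneq
  Groth.Agent.Lib.Helper20.AssDim Groth.Agent.Lib.Helper12.FibreMax
  Groth.Agent.Lib.Helper20.GRkC

section Gen

variable {X Y : Scheme.{u}} (f : X ⟶ Y) [LocallyOfFiniteType f]

/-- case B, for one irreducible closed subset of `Sg` lying over the closure of `f ξ`. -/
theorem caseB_component' (Sg : Set X) (k : ℕ) (ξ : X)
    (hξ : ξ ∈ RSet f Sg k) (T : Set X) (hTc : IsClosed T) (hTi : IsIrreducible T)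
    (hTS : T ⊆ Sg) (hTf : ∀ z ∈ T, f ξ ⤳ f z) :
    ∃ K : Set X, IsClosed K ∧ ξ ∉ K ∧ ∀ x : X, x ∉ K → ∀ z ∈ T, f z = f x → z ⤳ x →
      ¬ CodimLE f k z := by
  by_cases hξT : ξ ∈ T
  · obtain ⟨σ, hσ⟩ := QuasiSober.sober hTi hTc
    have hσT : σ ∈ T := hσ.mem
    have hσξ : σ ⤳ ξ := hσ.specializes hξT
    have hfσ : f σ = f ξ :=
      ((hσξ.map f.continuous).antisymm (hTf σ hσT)).eq
    obtain ⟨n, hn⟩ := exists_trn_eq f σ
    have hσbad : ¬ CodimLE f k σ := hξ σ (hTS hσT) hfσ hσξ
    refine ⟨{x : X | x ∈ T ∧ ∃ z ∈ T, f z = f x ∧ z ⤳ x ∧ ((n + 1 : ℕ) : ℕ∞) ≤ trn f z},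
      isClosed_setOf_exists_generization f T hTc (n + 1), ?_, ?_⟩
    · rintro ⟨-, z, hzT, hfz, hzξ, hle⟩
      have hσz : σ ⤳ z := hσ.specializes hzT
      by_cases hne : σ = z
      · rw [← hne, hn] at hle
        have : n + 1 ≤ n := by exact_mod_cast hle
        omega
      · have hlt := trn_lt_of_specializes f z σ (hfσ.trans hfz.symm) hσz hne
        rw [hn] at hlt
        have h2 := lt_of_le_of_lt hle hlt
        have : n + 1 < n := by exact_mod_cast h2
        omega
    · intro x hxK z hzT hfz hzx hzc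
      have hxT : x ∈ T := hzx.mem_closed hTc hzT
      obtain ⟨t, ht⟩ := exists_trn_eq f z
      have htn : t ≤ n := by
        by_contra hcon
        apply hxK
        refine ⟨hxT, z, hzT, hfz, hzx, ?_⟩
        rw [ht]
        exact_mod_cast (by omega : n + 1 ≤ t)
      have hσz : σ ⤳ z := hσ.specializes hzT
      have h1 := (codimLE_iff f k z t ht).mp hzc
      have h2 := fibreDimAt_le_of_specializes_of_le f σ z hσz (t + k) h1
      apply hσbad
      rw [codimLE_iff f k σ n hn]
      refine le_trans h2 ?_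
      exact_mod_cast (by omega : t + k ≤ n + k)
  · exact ⟨T, hTc, hξT, fun x hxT z hzT _ hzx _ => hxT (hzx.mem_closed hTc hzT)⟩

/-- **the generic alternative**, without hypothesis on the image of `ξ`. -/
theorem generic_rSet' [NoetherianSpace X] (Sg : Set X) (hSg : IsClosed Sg) (k : ℕ) (ξ : X) :
    ∃ W : Set X, IsOpen W ∧ ξ ∈ W ∧
      (W ∩ closure {ξ} ⊆ RSet f Sg k ∨ W ∩ closure {ξ} ⊆ (RSet f Sg k)ᶜ) := by
  by_cases hξ : ξ ∈ RSet f Sg k
  · set Sg' : Set X := Sg ∩ f ⁻¹' closure {f ξ} with hSg'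
    have hSg'c : IsClosed Sg' := hSg.inter (isClosed_closure.preimage f.continuous)
    have hξ' : ξ ∈ RSet f Sg' k := fun z hz hfz hzx => hξ z hz.1 hfz hzx
    obtain ⟨S, hSf, hSc, hSi, hSU⟩ :=
      NoetherianSpace.exists_finite_set_isClosed_irreducible hSg'c
    have hcomp : ∀ T ∈ S, ∃ K : Set X, IsClosed K ∧ ξ ∉ K ∧ ∀ x : X, x ∉ K → ∀ z ∈ T,
        f z = f x → z ⤳ x → ¬ CodimLE f k z := by
      intro T hT
      have hTS : T ⊆ Sg' := by
        rw [hSU]
        exact Set.subset_sUnion_of_mem hT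
      refine caseB_component' f Sg' k ξ hξ' T (hSc T hT) (hSi T hT) hTS ?_
      intro z hz
      exact specializes_iff_mem_closure.mpr (hTS hz).2
    choose! K hK using hcomp
    refine ⟨(⋃ T ∈ S, K T)ᶜ, (hSf.isClosed_biUnion fun T hT => (hK T hT).1).isOpen_compl,
      ?_, Or.inl ?_⟩
    · simp only [Set.mem_compl_iff, Set.mem_iUnion, not_exists]
      intro T hT
      exact (hK T hT).2.1
    · rintro x ⟨hxW, hxξ⟩ z hzS hfz hzx
      have hfx : f x ∈ closure {f ξ} :=
        specializes_iff_mem_closure.mp ((specializes_iff_mem_closure.mpr hxξ).map f.continuous)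
      have hzS' : z ∈ Sg' := ⟨hzS, by
        show f z ∈ closure {f ξ}
        rw [hfz]
        exact hfx⟩
      rw [hSU] at hzS'
      obtain ⟨T, hT, hzT⟩ := hzS'
      simp only [Set.mem_compl_iff, Set.mem_iUnion, not_exists] at hxW
      exact (hK T hT).2.2 x (hxW T hT) z hzT hfz hzx
  · obtain ⟨W, hW, hξW, h⟩ := caseA f Sg hSg k ξ hξ
    exact ⟨W, hW, hξW, Or.inr h⟩

/-- on a Noetherian scheme the fibrewise codimension condition is constructible. -/
theorem isConstructible_rSet [NoetherianSpace X] (Sg : Set X) (hSg : IsClosed Sg) (k : ℕ) :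
    IsConstructible (RSet f Sg k) :=
  Groth.Agent.Lib.Helper14.ConsFibre.isConstructible_of_forall_generic _
    fun ξ => generic_rSet' f Sg hSg k ξ

end Gen

section Open

variable {U X Y : Scheme.{u}} (j : U ⟶ X) [IsOpenImmersion j] (f : X ⟶ Y)
  [LocallyOfFiniteType f]

theorem codimLE_comp_openImmersion (k : ℕ) (z : U) :
    CodimLE (j ≫ f) k z ↔ CodimLE f k (j z) := by
  obtain ⟨t, ht⟩ := exists_trn_eq f (j z)
  have ht' : trn (j ≫ f) z = (t : ℕ∞) := by
    rw [Equidim.trn_comp_openImmersion j f z, ht]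
  rw [codimLE_iff (j ≫ f) k z t ht', codimLE_iff f k (j z) t ht,
    Equidim.fibreDimAt_comp_openImmersion j f z]

theorem rSet_comp_openImmersion (Sg : Set X) (k : ℕ) :
    RSet (j ≫ f) (j ⁻¹' Sg) k = j ⁻¹' RSet f Sg k := by
  ext x
  constructor
  · intro hx z hzS hfz hzx hc
    have hzr : z ∈ Set.range j :=
      hzx.mem_open j.isOpenEmbedding.isOpen_range ⟨x, rfl⟩
    obtain ⟨z', rfl⟩ := hzr
    refine hx z' hzS ?_ (j.isOpenEmbedding.isInducing.specializes_iff.mp hzx) ?_
    · rw [Scheme.Hom.comp_apply, Scheme.Hom.comp_apply]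
      exact hfz
    · exact (codimLE_comp_openImmersion j f k z').mpr hc
  · intro hx z' hzS hfz hzx hc
    refine hx (j z') hzS ?_ (hzx.map j.continuous) ?_
    · rw [Scheme.Hom.comp_apply, Scheme.Hom.comp_apply] at hfz
      exact hfz
    · exact (codimLE_comp_openImmersion j f k z').mp hc

end Open

section Loc

variable {X Y : Scheme.{u}} (f : X ⟶ Y) [LocallyOfFiniteType f]

theorem isConstructible_preimage_rSet [IsLocallyNoetherian X] (Sg : Set X) (hSg : IsClosed Sg)
    (k : ℕ) (U : X.Opens) (hU : IsAffineOpen U) : IsConstructible (U.ι ⁻¹' RSet f Sg k) := by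
  haveI : IsAffine (U : Scheme.{u}) := hU
  haveI : IsLocallyNoetherian (U : Scheme.{u}) := LocallyOfFiniteType.isLocallyNoetherian U.ι
  haveI : IsNoetherian (U : Scheme.{u}) := {}
  have h1 := isConstructible_rSet (U.ι ≫ f) (U.ι ⁻¹' Sg) (hSg.preimage U.ι.continuous) k
  rw [rSet_comp_openImmersion U.ι f Sg k] at h1
  exact h1

/-- on a locally Noetherian scheme the fibrewise codimension condition is locally
constructible. -/
theorem isLocallyConstructible_rSet [IsLocallyNoetherian X] (Sg : Set X) (hSg : IsClosed Sg)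
    (k : ℕ) : IsLocallyConstructible (RSet f Sg k) := by
  intro x
  obtain ⟨_, ⟨U, hU, rfl⟩, hxU, -⟩ :=
    X.isBasis_affineOpens.exists_subset_of_mem_open (Set.mem_univ x) isOpen_univ
  refine ⟨U, U.2.mem_nhds hxU, U.2, ?_⟩
  exact isConstructible_preimage_rSet f Sg hSg k U hU

end Loc

end Groth.Agent.Lib.Helper20.GRkT
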