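import Mathlib
import Groth.Agent.Lib.Helper20.GRkT1
import Groth.Agent.Lib.Helper20.GRkC6
import Groth.Agent.Lib.Helper20.FAD3
import Groth.Agent.Lib.Helper20.EquiSk2
import Groth.Agent.Lib.Helper20.GeomRk1

/-!
# The torsion locus of the fibres of a coherent module (EGA IV 9.4.8 / 9.9) (helper20)
-/

set_option autoImplicit false
set_option linter.style.haveILetI false
set_option linter.unusedSectionVars false
set_option linter.dupNamespace false
universe u

open IsLocalRing CategoryTheory CategoryTheory.Limits AlgebraicGeometry TopologicalSpace Topology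

namespace Groth.Agent.Lib.Helper20.GRkT

open Groth.Agent.Lib.Helper12 Groth.Agent.Lib.Helper12.SchemeDimIneq
  Groth.Agent.Lib.Helper20.AssDim Groth.Agent.Lib.Helper12.FibreMax
  Groth.Agent.Lib.Helper20.GRkC Groth.Agent.Lib.Helper20.EquiSk Groth.Agent.Lib.Helper20.GeomRk
  Groth.Agent.Lib.Helper17 Groth.Agent.Lib.Helper20.FAD

section Alg

variable {A M : Type*} [CommRing A] [IsDomain A] [AddCommGroup M] [Module A M]

/-- over a domain, a module is torsion iff its localization at the zero ideal vanishes. -/
theorem torsion_eq_top_iff_subsingleton :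
    Submodule.torsion A M = ⊤ ↔
      Subsingleton (LocalizedModule (⊥ : Ideal A).primeCompl M) := by
  rw [LocalizedModule.subsingleton_iff, eq_top_iff]
  constructor
  · intro h m
    obtain ⟨a, ha⟩ := (Submodule.mem_torsion_iff m).mp (h (Submodule.mem_top : m ∈ ⊤))
    refine ⟨a.1, ?_, ha⟩
    show a.1 ∉ (⊥ : Ideal A)
    rw [Ideal.mem_bot]
    exact nonZeroDivisors.coe_ne_zero a
  · intro h m _
    obtain ⟨r, hr, hrm⟩ := h m
    have hr0 : r ≠ 0 := fun h0 => hr (by rw [h0]; exact Ideal.zero_mem _)
    exact (Submodule.mem_torsion_iff m).mpr ⟨⟨r, mem_nonZeroDivisors_of_ne_zero hr0⟩, hrm⟩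

end Alg

section Sch

variable {W : Scheme.{u}} [IsLocallyNoetherian W] (G : W.Modules) [G.IsQuasicoherent]
  [G.IsFiniteType]

set_option maxHeartbeats 800000 in
/-- at a point where the local ring is a domain, the stalk of a coherent module is torsion iff
no generization with zero-dimensional local ring lies in the support. -/
theorem torsion_stalk_iff (x : W) [IsDomain (W.presheaf.stalk x)] :
    Submodule.torsion (W.presheaf.stalk x) (G.presheaf.stalk x) = ⊤ ↔
      ∀ z : W, z ⤳ x → z ∈ CohB1.support G → ¬ ringKrullDim (W.presheaf.stalk z) ≤ 0 := by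
  haveI hbp : (⊥ : Ideal (W.presheaf.stalk x)).IsPrime := Ideal.isPrime_bot
  set t₀ : PrimeSpectrum (W.presheaf.stalk x) := ⟨⊥, hbp⟩ with ht₀
  set ζ₀ : W := (W.fromSpecStalk x).base t₀ with hζ₀
  have hζ₀x : ζ₀ ⤳ x := fromSpecStalk_specializes x t₀
  -- the dimension at ζ₀
  have hdim₀ : ringKrullDim (W.presheaf.stalk ζ₀) ≤ 0 := by
    obtain ⟨e⟩ := nonempty_loc_equiv_stalk x t₀
    rw [← ringKrullDim_eq_of_ringEquiv e,
      IsLocalization.AtPrime.ringKrullDim_eq_height t₀.asIdeal
        (Localization.AtPrime t₀.asIdeal)]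
    have : t₀.asIdeal.height = 0 := Ideal.height_bot
    rw [this]
    rfl
  -- uniqueness
  have huniq : ∀ z : W, z ⤳ x → ringKrullDim (W.presheaf.stalk z) ≤ 0 → z = ζ₀ := by
    intro z hz hd
    obtain ⟨t, rfl⟩ : z ∈ Set.range (W.fromSpecStalk x).base := by
      rw [Scheme.range_fromSpecStalk]
      exact hz
    obtain ⟨e⟩ := nonempty_loc_equiv_stalk x t
    rw [← ringKrullDim_eq_of_ringEquiv e,
      IsLocalization.AtPrime.ringKrullDim_eq_height t.asIdeal
        (Localization.AtPrime t.asIdeal)] at hd
    have h0 : t.asIdeal.height = 0 := by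
      have : t.asIdeal.height ≤ 0 := by exact_mod_cast hd
      exact le_antisymm this bot_le
    have h1 : t.asIdeal = ⊥ := Ideal.height_eq_zero_iff_eq_bot.mp h0
    have h2 : t = t₀ := PrimeSpectrum.ext h1
    rw [h2]
  -- torsion in terms of the stalk at ζ₀
  have hkey : Submodule.torsion (W.presheaf.stalk x) (G.presheaf.stalk x) = ⊤ ↔
      ζ₀ ∉ CohB1.support G := by
    rw [torsion_eq_top_iff_subsingleton]
    have h2 := (dsd_localization_stalk G x (⊥ : Ideal (W.presheaf.stalk x))).2
    unfold CohB1.support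
    simp only [Set.mem_ofPred_eq, not_not]
    rw [← Module.supportDim_eq_bot_iff_subsingleton (R := Localization.AtPrime
        (⊥ : Ideal (W.presheaf.stalk x))), h2,
      Module.supportDim_eq_bot_iff_subsingleton]
  rw [hkey]
  constructor
  · intro h z hz hzS hd
    rw [huniq z hz hd] at hzS
    exact h hzS
  · intro h hS
    exact h ζ₀ hζ₀x hS hdim₀

end Sch

section Fib

variable {X S : Scheme.{u}} (f : X ⟶ S) [LocallyOfFiniteType f] (F : X.Modules)
  [F.IsQuasicoherent] [F.IsFiniteType]

theorem ringKrullDim_stalk_fibre_congr (s₁ s₂ : S) (h : s₁ = s₂) (z₁ : f.fiber s₁)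
    (z₂ : f.fiber s₂) (hz : f.fiberι s₁ z₁ = f.fiberι s₂ z₂) :
    ringKrullDim ((f.fiber s₁).presheaf.stalk z₁) =
      ringKrullDim ((f.fiber s₂).presheaf.stalk z₂) := by
  subst h
  have : z₁ = z₂ := (f.fiberι s₁).isEmbedding.injective hz
  subst this
  rfl

theorem codimLE_fiberι (k : ℕ) (s : S) (z : f.fiber s) :
    CodimLE f k (f.fiberι s z) ↔
      ringKrullDim ((f.fiber s).presheaf.stalk z) ≤ (k : WithBot ℕ∞) := by
  unfold CodimLE
  have hs : f (f.fiberι s z) = s := apply_fiberι' f s z
  rw [ringKrullDim_stalk_fibre_congr f (f (f.fiberι s z)) s hs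
    (f.asFiber (f.fiberι s z)) z (f.fiberι_asFiber (f.fiberι s z))]

set_option maxHeartbeats 800000 in
/-- the stalk of the fibre module at a point is torsion iff the point lies in the set
`RSet f (Supp F) 0`. -/
theorem torsion_fibre_iff (s : S) (x : f.fiber s)
    [IsDomain ((f.fiber s).presheaf.stalk x)] :
    Submodule.torsion ((f.fiber s).presheaf.stalk x)
        (((Scheme.Modules.pullback (f.fiberι s)).obj F).presheaf.stalk x) = ⊤ ↔
      f.fiberι s x ∈ RSet f (CohB1.support F) 0 := by
  haveI : LocallyOfFiniteType (f.fiberToSpecResidueField s) :=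
    FibreRes.locallyOfFiniteType_fiberToSpecResidueField f s
  haveI : IsLocallyNoetherian (f.fiber s) :=
    LocallyOfFiniteType.isLocallyNoetherian (f.fiberToSpecResidueField s)
  haveI : ((Scheme.Modules.pullback (f.fiberι s)).obj F).IsQuasicoherent :=
    PbStalk.isQuasicoherent_pullback (f.fiberι s) F
  haveI : ((Scheme.Modules.pullback (f.fiberι s)).obj F).IsFiniteType :=
    PbFinite.isFiniteType_pullback (f.fiberι s) F
  rw [torsion_stalk_iff]
  constructor
  · intro h z' hz'S hfz' hz'x hc
    have hz's : f z' = s := hfz'.trans (apply_fiberι' f s x)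
    set z := (f.fiberHomeo s).symm ⟨z', hz's⟩ with hz
    have hιz0 : f.fiberι s z = z' := f.fiberι_fiberHomeo_symm s ⟨z', hz's⟩
    have hιz : (f.fiberι s).base z = z' := hιz0
    have hzx : z ⤳ x := by
      apply (f.fiberι s).isEmbedding.isInducing.specializes_iff.mp
      rw [hιz0]
      exact hz'x
    have hzS : z ∈ CohB1.support ((Scheme.Modules.pullback (f.fiberι s)).obj F) := by
      rw [mem_support_fibre_iff f F s z, hιz]
      exact hz'S
    refine h z hzx hzS ?_
    rw [← hιz0] at hc
    have := (codimLE_fiberι f 0 s z).mp hc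
    exact_mod_cast this
  · intro h z hzx hzS hd
    refine h (f.fiberι s z) ((mem_support_fibre_iff f F s z).mp hzS) ?_
      (hzx.map (f.fiberι s).continuous) ?_
    · rw [apply_fiberι' f s z, apply_fiberι' f s x]
    · rw [codimLE_fiberι f 0 s z]
      exact_mod_cast hd

set_option maxHeartbeats 800000 in
/-- **the torsion locus of the fibres is locally constructible** (locally Noetherian base,
locally integral fibres). -/
theorem isLocallyConstructible_setOf_fibre_torsion [IsLocallyNoetherian S] [QuasiCompact f]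
    (hint : ∀ (s : S) (x : ↥(f.fiber s)), IsDomain ((f.fiber s).presheaf.stalk x)) :
    IsLocallyConstructible {s : S | ∀ x : ↥(f.fiber s),
      Submodule.torsion ((f.fiber s).presheaf.stalk x)
        (((Scheme.Modules.pullback (f.fiberι s)).obj F).presheaf.stalk x) = ⊤} := by
  haveI : IsLocallyNoetherian X := LocallyOfFiniteType.isLocallyNoetherian f
  haveI : LocallyOfFinitePresentation f :=
    SecCompBC.locallyOfFinitePresentation_of_isLocallyNoetherian f
  have hE := isLocallyConstructible_rSet f (CohB1.support F)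
    (Groth.Agent.Lib.Helper1.MaxAnnInt.isClosed_support F) 0
  convert isLocallyConstructible_forall_mem f _ hE using 1
  ext s
  simp only [Set.mem_ofPred_eq]
  constructor
  · intro h x' hx's
    subst hx's
    haveI := hint (f x') (f.asFiber x')
    have := (torsion_fibre_iff f F (f x') (f.asFiber x')).mp (h _)
    rwa [f.fiberι_asFiber x'] at this
  · intro h x
    haveI := hint s x
    exact (torsion_fibre_iff f F s x).mpr (h _ (apply_fiberι' f s x))

end Fib

end Groth.Agent.Lib.Helper20.GRkT
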