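import Mathlib
import Groth.Agent.Lib.Helper20.GRkT2
import Groth.Agent.Lib.Helper20.GRkM3
import Groth.Agent.Lib.Helper20.GRkC2
import Groth.Agent.Lib.Helper20.NoEmbFS5
import Groth.Agent.Lib.Helper4.Sk

/-!
# The torsion-free condition at a point, in terms of depths at generizations (helper20)
-/

set_option autoImplicit false
set_option linter.style.haveILetI false
set_option linter.unusedSectionVars false
set_option linter.dupNamespace false
universe u

open IsLocalRing CategoryTheory CategoryTheory.Limits AlgebraicGeometry TopologicalSpace Topology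

namespace Groth.Agent.Lib.Helper20.GRkT

open Groth.Agent.Lib.Helper12 Groth.Agent.Lib.Helper12.SchemeDimIneq
  Groth.Agent.Lib.Helper20.AssDim Groth.Agent.Lib.Helper12.FibreMax
  Groth.Agent.Lib.Helper20.GRkC Groth.Agent.Lib.Helper20.EquiSk Groth.Agent.Lib.Helper20.GeomRk
  Groth.Agent.Lib.Helper17 Groth.Agent.Lib.Helper20.FAD Groth.Agent.Lib.Helper4
  Groth.Agent.Lib.Helper20.NoEmbFS

section Alg

variable {A M : Type*} [CommRing A] [IsDomain A] [IsNoetherianRing A] [AddCommGroup M]
  [Module A M]

/-- over a Noetherian domain, a module is torsion-free iff its only possible associated prime is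
zero. -/
theorem torsion_eq_bot_iff_ass :
    Submodule.torsion A M = ⊥ ↔ ∀ 𝔭 ∈ associatedPrimes A M, 𝔭 = ⊥ := by
  constructor
  · intro h 𝔭 h𝔭
    obtain ⟨hp, m, rfl⟩ := isAssociatedPrime_iff.mp h𝔭
    rw [eq_bot_iff]
    intro a ha
    rw [Submodule.mem_colon_singleton] at ha
    rw [Ideal.mem_bot]
    by_contra ha0
    have ha' : a • m = 0 := by simpa using ha
    have hm : m ∈ Submodule.torsion A M :=
      (Submodule.mem_torsion_iff m).mpr ⟨⟨a, mem_nonZeroDivisors_of_ne_zero ha0⟩, ha'⟩
    rw [h, Submodule.mem_bot] at hm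
    subst hm
    apply hp.ne_top
    rw [eq_top_iff]
    intro r _
    rw [Submodule.mem_colon_singleton]
    simp
  · intro h
    rw [eq_bot_iff]
    intro m hm
    rw [Submodule.mem_bot]
    by_contra hm0
    obtain ⟨a, ha⟩ := (Submodule.mem_torsion_iff m).mp hm
    have h1 : (a : A) ∈ {r : A | ∃ x : M, x ≠ 0 ∧ r • x = 0} := ⟨m, hm0, ha⟩
    rw [← biUnion_associatedPrimes_eq_zero_divisors] at h1
    obtain ⟨𝔭, h𝔭, ha𝔭⟩ := Set.mem_iUnion₂.mp h1
    rw [h 𝔭 h𝔭] at ha𝔭
    exact nonZeroDivisors.coe_ne_zero a (by simpa using ha𝔭)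

end Alg

section Sch

variable {W : Scheme.{u}} (G : W.Modules)

/-- every generization of `w` at which `G` has depth zero has a zero-dimensional local ring. -/
def TFpt (w : W) : Prop :=
  ∀ z : W, z ⤳ w → LocCoh.depth (W.presheaf.stalk z) (G.presheaf.stalk z) = 0 →
    ringKrullDim (W.presheaf.stalk z) ≤ 0

theorem ringKrullDim_stalk_fromSpecStalk [IsLocallyNoetherian W] (x : W)
    (t : PrimeSpectrum (W.presheaf.stalk x)) :
    ringKrullDim (W.presheaf.stalk ((W.fromSpecStalk x).base t)) =
      (t.asIdeal.height : WithBot ℕ∞) := by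
  obtain ⟨e⟩ := nonempty_loc_equiv_stalk x t
  rw [← ringKrullDim_eq_of_ringEquiv e,
    IsLocalization.AtPrime.ringKrullDim_eq_height t.asIdeal (Localization.AtPrime t.asIdeal)]

variable [IsLocallyNoetherian W] [G.IsQuasicoherent] [G.IsFiniteType]

set_option maxHeartbeats 800000 in
/-- at a point where the local ring is a domain, the stalk of a coherent module is torsion-free
iff every generization of depth zero has a zero-dimensional local ring. -/
theorem torsion_stalk_eq_bot_iff (x : W) [IsDomain (W.presheaf.stalk x)] :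
    Submodule.torsion (W.presheaf.stalk x) (G.presheaf.stalk x) = ⊥ ↔ TFpt G x := by
  haveI := CohStalk.finite_stalk G x
  rw [torsion_eq_bot_iff_ass]
  constructor
  · intro h z hz hd
    obtain ⟨t, rfl⟩ : z ∈ Set.range (W.fromSpecStalk x).base := by
      rw [Scheme.range_fromSpecStalk]
      exact hz
    haveI := t.isPrime
    have h1 : LocCoh.depth (Localization.AtPrime t.asIdeal)
        (LocalizedModule t.asIdeal.primeCompl (G.presheaf.stalk x)) = 0 :=
      ((dsd_localization_stalk G x t.asIdeal).1).trans hd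
    rw [depth_localizedModule_eq_zero_iff] at h1
    have h2 := h _ h1
    rw [ringKrullDim_stalk_fromSpecStalk, h2, Ideal.height_bot]
    rfl
  · intro h 𝔭 h𝔭
    haveI h𝔭p : 𝔭.IsPrime := h𝔭.isPrime
    have h1 := (depth_localizedModule_eq_zero_iff (M := G.presheaf.stalk x) 𝔭).mpr h𝔭
    rw [(dsd_localization_stalk G x 𝔭).1] at h1
    have h2 := h _ (fromSpecStalk_specializes x ⟨𝔭, h𝔭p⟩) h1
    rw [ringKrullDim_stalk_fromSpecStalk] at h2
    have h3 : 𝔭.height = 0 := le_antisymm (by exact_mod_cast h2) bot_le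
    exact Ideal.height_eq_zero_iff_eq_bot.mp h3

end Sch

section Transfer

variable {Y Y' : Scheme.{u}} [IsLocallyNoetherian Y] [IsLocallyNoetherian Y'] (e : Y' ⟶ Y)
  [Flat e] (G : Y.Modules) [G.IsQuasicoherent] [G.IsFiniteType]

set_option maxHeartbeats 1600000 in
/-- **transfer of the torsion-free condition along a flat morphism with Cohen–Macaulay
fibres.** -/
theorem tfpt_transfer (G' : Y'.Modules) (iso : G' ≅ (Scheme.Modules.pullback e).obj G)
    (hCE : ∀ w' : Y', CEr (Y.presheaf.stalk (e w')) (Y'.presheaf.stalk w')) (w' : Y') :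
    TFpt G' w' ↔ TFpt G (e w') := by
  have hdepth : ∀ z' : Y', LocCoh.depth (Y'.presheaf.stalk z') (G'.presheaf.stalk z') =
      LocCoh.depth (Y'.presheaf.stalk z')
        (((Scheme.Modules.pullback e).obj G).presheaf.stalk z') := by
    intro z'
    unfold LocCoh.depth
    exact idealDepth_congr _ (GenFin.stalkEquivOfIso iso z')
  constructor
  · intro h z hz hd
    obtain ⟨z'₀, hz'₀, rfl⟩ := Flat.generalizingMap e hz
    obtain ⟨z', hz'z'₀, hez', hdimeq⟩ := exists_dim_eq' e z'₀
    obtain ⟨a, c, d, hcd, hdep, hdimA, hdimB, hCEcd⟩ := GRkM.exists_data e G z'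
    have hd0 : d = 0 := by
      rw [hdimA, hdimB] at hdimeq
      have : a + d = a := by exact_mod_cast hdimeq
      omega
    have hc0 : c = 0 := by omega
    subst hc0
    rw [hez', hd] at hdep
    have hd' : LocCoh.depth (Y'.presheaf.stalk z') (G'.presheaf.stalk z') = 0 := by
      rw [hdepth, hdep]
      simp
    have h3 := h z' (hz'z'₀.trans hz'₀) hd'
    rw [hdimeq, hez'] at h3
    exact h3
  · intro h z' hz' hd'
    rw [hdepth] at hd'
    obtain ⟨a, c, d, hcd, hdep, hdimA, hdimB, hCEcd⟩ := GRkM.exists_data e G z'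
    rw [hd'] at hdep
    have hdep' := hdep.symm
    rw [add_eq_zero] at hdep'
    obtain ⟨hdep0, hc0⟩ := hdep'
    have hc : c = 0 := by exact_mod_cast hc0
    have hd : d = 0 := by
      rw [← hCEcd (hCE z')]
      exact hc
    subst hd
    have h3 := h (e z') (hz'.map e.continuous) hdep0
    rw [hdimA] at h3
    rw [hdimB]
    exact h3

end Transfer

end Groth.Agent.Lib.Helper20.GRkT
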