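import Mathlib
import Groth.Agent.Lib.Helper20.GRkT3
import Groth.Agent.Lib.Helper20.GRkM5

/-!
# The torsion-free locus of the fibres of a coherent module (EGA IV 9.4.8 / 9.9) (helper20)
-/

set_option autoImplicit false
set_option linter.style.haveILetI false
set_option linter.unusedSectionVars false
set_option linter.dupNamespace false
universe u

open IsLocalRing TensorProduct CategoryTheory CategoryTheory.Limits AlgebraicGeometry
  TopologicalSpace Topology

namespace Groth.Agent.Lib.Helper20.GRkT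

open Groth.Agent.Lib.Helper12 Groth.Agent.Lib.Helper12.SchemeDimIneq
  Groth.Agent.Lib.Helper20.AssDim Groth.Agent.Lib.Helper12.FibreMax
  Groth.Agent.Lib.Helper20.GRkC Groth.Agent.Lib.Helper20.EquiSk Groth.Agent.Lib.Helper20.GeomRk
  Groth.Agent.Lib.Helper17 Groth.Agent.Lib.Helper20.FAD Groth.Agent.Lib.Helper4
  Groth.Agent.Lib.Helper20.NoEmbFS Groth.Agent.Lib.Helper20.RD Groth.Agent.Lib.Helper20.GRkM
  Groth.Agent.Lib.Helper14.CMBaseChange Groth.Agent.Lib.Helper14.FlatOpen

section Def

variable {X S : Scheme.{u}} (f : X ⟶ S) (F : X.Modules)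

/-- the torsion-free condition for the fibre module at a point of the fibre. -/
def FibTF (s : S) (w : f.fiber s) : Prop :=
  TFpt ((Scheme.Modules.pullback (f.fiberι s)).obj F) w

theorem fibTF_congr (s₁ s₂ : S) (h : s₁ = s₂) (w₁ : f.fiber s₁) (w₂ : f.fiber s₂)
    (hw : f.fiberι s₁ w₁ = f.fiberι s₂ w₂) : FibTF f F s₁ w₁ ↔ FibTF f F s₂ w₂ := by
  subst h
  have : w₁ = w₂ := (f.fiberι s₁).isEmbedding.injective hw
  subst this
  exact Iff.rfl

end Def

/-- the set of points at which the fibre module is torsion-free (in the sense of `TFpt`). -/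
def tfSet ⦃X S : Scheme.{u}⦄ (f : X ⟶ S) (F : X.Modules) : Set X :=
  {x | FibTF f F (f x) (f.asFiber x)}

section Basic

variable {X S : Scheme.{u}} (f : X ⟶ S) (F : X.Modules)

theorem fiberι_mem_tfSet_iff (s : S) (w : f.fiber s) :
    f.fiberι s w ∈ tfSet f F ↔ FibTF f F s w :=
  fibTF_congr f F _ s (apply_fiberι' f s w) _ w (f.fiberι_asFiber _)

variable [LocallyOfFiniteType f] [F.IsQuasicoherent]

set_option maxHeartbeats 800000 in
/-- the intrinsic description. -/
theorem mem_tfSet_iff (x : X) :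
    x ∈ tfSet f F ↔
      ∀ z : X, f z = f x → z ⤳ x → xdepth f F z = 0 → CodimLE f 0 z := by
  constructor
  · intro h z hfz hzx hd
    set z₁ := (f.fiberHomeo (f x)).symm ⟨z, hfz⟩ with hz₁
    have hιz0 : f.fiberι (f x) z₁ = z := f.fiberι_fiberHomeo_symm (f x) ⟨z, hfz⟩
    have hιz : (f.fiberι (f x)).base z₁ = z := hιz0
    have hsp : z₁ ⤳ f.asFiber x := by
      apply (f.fiberι (f x)).isEmbedding.isInducing.specializes_iff.mp
      rw [hιz0, f.fiberι_asFiber x]
      exact hzx
    have hd₁ : LocCoh.depth ((f.fiber (f x)).presheaf.stalk z₁)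
        (((Scheme.Modules.pullback (f.fiberι (f x))).obj F).presheaf.stalk z₁) = 0 := by
      rw [fibre_depth_eq f F (f x) z₁, hιz]
      exact hd
    have h1 := h z₁ hsp hd₁
    rw [← hιz0, codimLE_fiberι f 0 (f x) z₁]
    exact_mod_cast h1
  · intro h z₁ hsp hd₁
    have h1 := hsp.map (f.fiberι (f x)).continuous
    rw [f.fiberι_asFiber x] at h1
    rw [fibre_depth_eq f F (f x) z₁] at hd₁
    have h2 := h _ (apply_fiberι' f (f x) z₁) h1 hd₁
    have h3 := (codimLE_fiberι f 0 (f x) z₁).mp h2
    exact_mod_cast h3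

end Basic

section Transfer

set_option maxHeartbeats 1600000 in
/-- **transfer of the torsion-free condition between fibres.** -/
theorem fibTF_transfer {X S X' S' : Scheme.{u}} (f : X ⟶ S) (f' : X' ⟶ S')
    [LocallyOfFiniteType f] [LocallyOfFiniteType f'] (g' : X' ⟶ X) (F : X.Modules)
    (hF : Coh.IsCoh F) (F' : X'.Modules) (iso : F' ≅ (Scheme.Modules.pullback g').obj F)
    (s : S) (s' : S') (e : f'.fiber s' ⟶ f.fiber s) [Flat e]
    (hcomm : e ≫ f.fiberι s = f'.fiberι s' ≫ g')
    (hCE : ∀ w' : f'.fiber s',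
      CEr ((f.fiber s).presheaf.stalk (e w')) ((f'.fiber s').presheaf.stalk w'))
    (w' : f'.fiber s') : FibTF f' F' s' w' ↔ FibTF f F s (e w') := by
  haveI : F.IsQuasicoherent := hF.1
  haveI : F.IsFiniteType := hF.2
  haveI : LocallyOfFiniteType (f.fiberToSpecResidueField s) := by
    change LocallyOfFiniteType (pullback.snd f (S.fromSpecResidueField s))
    infer_instance
  haveI : IsLocallyNoetherian (f.fiber s) :=
    LocallyOfFiniteType.isLocallyNoetherian (f.fiberToSpecResidueField s)
  haveI : LocallyOfFiniteType (f'.fiberToSpecResidueField s') := by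
    change LocallyOfFiniteType (pullback.snd f' (S'.fromSpecResidueField s'))
    infer_instance
  haveI : IsLocallyNoetherian (f'.fiber s') :=
    LocallyOfFiniteType.isLocallyNoetherian (f'.fiberToSpecResidueField s')
  set G : (f.fiber s).Modules := (Scheme.Modules.pullback (f.fiberι s)).obj F with hG
  haveI : G.IsQuasicoherent := PbStalk.isQuasicoherent_pullback (f.fiberι s) F
  haveI : G.IsFiniteType := PbFinite.isFiniteType_pullback (f.fiberι s) F
  set G' : (f'.fiber s').Modules :=
    (Scheme.Modules.pullback (f'.fiberι s')).obj F' with hG'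
  let i₁ : G' ≅ (Scheme.Modules.pullback (f'.fiberι s')).obj
      ((Scheme.Modules.pullback g').obj F) :=
    (Scheme.Modules.pullback (f'.fiberι s')).mapIso iso
  let i₂ : (Scheme.Modules.pullback (f'.fiberι s')).obj
      ((Scheme.Modules.pullback g').obj F) ≅
      (Scheme.Modules.pullback (f'.fiberι s' ≫ g')).obj F :=
    (SepFG.compIso (f'.fiberι s') g' (f'.fiberι s' ≫ g') rfl).app F
  let i₃ : (Scheme.Modules.pullback e).obj G ≅
      (Scheme.Modules.pullback (f'.fiberι s' ≫ g')).obj F :=
    (SepFG.compIso e (f.fiberι s) (f'.fiberι s' ≫ g') hcomm).app F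
  let isoG : G' ≅ (Scheme.Modules.pullback e).obj G := i₁ ≪≫ i₂ ≪≫ i₃.symm
  exact tfpt_transfer e G G' isoG hCE w'

end Transfer

section Open

variable {X S : Scheme.{u}} (f : X ⟶ S) (F : X.Modules)

set_option maxHeartbeats 1600000 in
/-- the locus where the module is flat over the base and the fibre module is torsion-free is
open. -/
theorem isOpen_flat_and_tfSet [LocallyOfFinitePresentation f] [F.IsQuasicoherent]
    [SheafOfModules.IsFinitePresentation (R := X.ringCatSheaf) F] :
    IsOpen {x : X | FlatMod.IsFlatOverAt f F x ∧ x ∈ tfSet f F} := by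
  refine isOpen_iff_forall_mem_open.mpr fun x₀ hx₀ => ?_
  obtain ⟨N, hN⟩ := SecComp.exists_nat_fibreDimAt f x₀
  have hfl : IsOpen {x : X | FlatMod.IsFlatOverAt f F x} := isOpen_isFlatOverAt f F
  have hUN := Chevalley.isOpen_setOf_fibreDimAt_le f N
  let Yt : ℕ → Set X := fun t =>
    {x : X | FlatMod.IsFlatOverAt f F x ∧ QXrd f F (t + 1) x}ᶜ ∩
      {x : X | FlatMor.fibreDimAt f x ≤ (t : WithBot ℕ∞)}ᶜ
  have hYt : ∀ t, IsClosed (Yt t) := fun t =>
    (isOpen_flat_and_QXrd f F (t + 1)).isClosed_compl.inter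
      (Chevalley.isOpen_setOf_fibreDimAt_le f t).isClosed_compl
  let Bt : ℕ → Set X := fun t =>
    {x : X | x ∈ Yt t ∧ ∃ z ∈ Yt t, f z = f x ∧ z ⤳ x ∧ (t : ℕ∞) ≤ trn f z}
  have hBt : ∀ t, IsClosed (Bt t) := fun t =>
    isClosed_setOf_exists_generization f (Yt t) (hYt t) t
  refine ⟨({x : X | FlatMod.IsFlatOverAt f F x} ∩
      {x : X | FlatMor.fibreDimAt f x ≤ (N : WithBot ℕ∞)}) ∩
      (⋃ t ∈ Finset.range N, Bt t)ᶜ, ?_, ?_, ?_⟩
  · rintro x ⟨⟨hxfl, hxN⟩, hxB⟩
    refine ⟨hxfl, ?_⟩
    rw [mem_tfSet_iff]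
    intro z hfz hzx hd
    by_contra hc
    obtain ⟨t, ht⟩ := exists_trn_eq f z
    have hzfl : FlatMod.IsFlatOverAt f F z := hzx.mem_open hfl hxfl
    have hzN : FlatMor.fibreDimAt f z ≤ (N : WithBot ℕ∞) := hzx.mem_open hUN hxN
    rw [codimLE_iff f 0 z t ht] at hc
    have htN : t < N := by
      by_contra hcon
      push_neg at hcon
      apply hc
      refine le_trans hzN ?_
      exact_mod_cast (by omega : N ≤ t + 0)
    have hzY : z ∈ Yt t := by
      refine ⟨?_, ?_⟩
      · rintro ⟨-, hq⟩
        unfold QXrd at hq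
        rw [hd, ht, zero_add] at hq
        have : t + 1 ≤ t := by exact_mod_cast hq
        omega
      · intro hle
        apply hc
        simpa using hle
    have hxY : x ∈ Yt t := hzx.mem_closed (hYt t) hzY
    apply hxB
    exact Set.mem_biUnion (Finset.mem_range.mpr htN) ⟨hxY, z, hzY, hfz, hzx, ht.ge⟩
  · exact (hfl.inter hUN).inter
      (isClosed_biUnion_finset fun t _ => hBt t).isOpen_compl
  · refine ⟨⟨hx₀.1, hN.le⟩, ?_⟩
    intro hB
    obtain ⟨t, hB'⟩ := Set.mem_iUnion.mp hB
    obtain ⟨htN, hB''⟩ := Set.mem_iUnion.mp hB'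
    obtain ⟨-, z, hzY, hfz, hzx, hle⟩ := hB''
    have hzfl : FlatMod.IsFlatOverAt f F z := hzx.mem_open hfl hx₀.1
    have hq : ¬ QXrd f F (t + 1) z := fun hq => hzY.1 ⟨hzfl, hq⟩
    obtain ⟨t', ht'⟩ := exists_trn_eq f z
    unfold QXrd at hq
    rw [ht'] at hq hle
    rw [not_le] at hq
    have htt' : t ≤ t' := by exact_mod_cast hle
    have hxd : xdepth f F z = 0 ∧ t' = t := by
      by_cases htop : xdepth f F z = ⊤
      · rw [htop] at hq
        exact absurd hq (by simp)
      · obtain ⟨d, hd⟩ := ENat.ne_top_iff_exists.mp htop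
        rw [← hd] at hq ⊢
        have h5 : d + t' < t + 1 := by exact_mod_cast hq
        have hd0 : d = 0 := by omega
        refine ⟨?_, by omega⟩
        rw [hd0]
        rfl
    obtain ⟨hd0, rfl⟩ := hxd
    have hc := (mem_tfSet_iff f F x₀).mp hx₀.2 z hfz hzx hd0
    rw [codimLE_iff f 0 z t' ht'] at hc
    exact hzY.2 (by simpa using hc)

end Open

set_option maxHeartbeats 1600000 in
theorem tfSet_isFibreConsM : IsFibreConsM.{u} tfSet where
  baseChange := by
    intro X S X' S' f f' g' g hc hf F F' hF iso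
    haveI : LocallyOfFiniteType f := hf
    haveI : LocallyOfFiniteType f' :=
      MorphismProperty.of_isPullback (P := @LocallyOfFiniteType) hc hf
    ext x'
    obtain ⟨e, he, hcomm⟩ :=
      Groth.Agent.Lib.Helper12.ConsPropNoeth.exists_fibre_isPullback hc (f' x')
    haveI : Flat (Spec.map (g.residueFieldMap (f' x'))) := by
      rw [Flat.SpecMap_iff]
      algebraize [(g.residueFieldMap (f' x')).hom]
      change Module.Flat _ _
      infer_instance
    haveI : Flat e := MorphismProperty.of_isPullback (P := @Flat) he.flip inferInstance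
    haveI : LocallyOfFiniteType (f.fiberToSpecResidueField (g (f' x'))) := by
      change LocallyOfFiniteType (pullback.snd f (S.fromSpecResidueField (g (f' x'))))
      infer_instance
    have hCE : ∀ w' : f'.fiber (f' x'),
        CEr ((f.fiber (g (f' x'))).presheaf.stalk (e w'))
          ((f'.fiber (f' x')).presheaf.stalk w') := fun w' =>
      (cer_general (f.fiberToSpecResidueField (g (f' x')))
        (f'.fiberToSpecResidueField (f' x')) e (Spec.map (g.residueFieldMap (f' x'))) he w').2
    have h1 := fibTF_transfer f f' g' F hF F' iso (g (f' x')) (f' x') e hcomm hCE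
      (f'.asFiber x')
    have h2 : f.fiberι (g (f' x')) (e (f'.asFiber x')) = g' x' := by
      have h5 : (e ≫ f.fiberι (g (f' x'))) (f'.asFiber x') =
          (f'.fiberι (f' x') ≫ g') (f'.asFiber x') := by rw [hcomm]
      rw [Scheme.Hom.comp_apply, Scheme.Hom.comp_apply, f'.fiberι_asFiber x'] at h5
      exact h5
    show FibTF f' F' (f' x') (f'.asFiber x') ↔ g' x' ∈ tfSet f F
    rw [h1, ← h2, fiberι_mem_tfSet_iff]
  restrict := by
    intro X S f U hf F hF
    haveI : LocallyOfFiniteType f := hf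
    ext u
    set s := f (U.ι u) with hs
    have hsq := Groth.Agent.Lib.Helper12.ConsPropNoeth.isPullback_fiberMap U.ι f s
    set φ := MoreMor.fiberMap U.ι f s with hφ
    haveI : IsOpenImmersion φ :=
      MorphismProperty.of_isPullback (P := @IsOpenImmersion) hsq inferInstance
    have hCE : ∀ w' : (U.ι ≫ f).fiber s,
        CEr ((f.fiber s).presheaf.stalk (φ w')) (((U.ι ≫ f).fiber s).presheaf.stalk w') :=
      fun w' => cer_of_ringEquiv (RingEquiv.refl _)
        (asIso (φ.stalkMap w')).commRingCatIsoToRingEquiv (by unfold CEr; rfl)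
    have h1 := fibTF_transfer f (U.ι ≫ f) U.ι F hF _ (Iso.refl _) s s φ hsq.w.symm hCE
      ((U.ι ≫ f).asFiber u)
    have h2 : f.fiberι s (φ ((U.ι ≫ f).asFiber u)) = U.ι u := by
      have h5 : (φ ≫ f.fiberι s) ((U.ι ≫ f).asFiber u) =
          ((U.ι ≫ f).fiberι s ≫ U.ι) ((U.ι ≫ f).asFiber u) := by rw [hsq.w]
      rw [Scheme.Hom.comp_apply, Scheme.Hom.comp_apply] at h5
      rw [h5]
      exact congrArg U.ι ((U.ι ≫ f).fiberι_asFiber u)
    show FibTF (U.ι ≫ f) _ s ((U.ι ≫ f).asFiber u) ↔ U.ι u ∈ tfSet f F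
    rw [h1, ← h2, fiberι_mem_tfSet_iff]
  isOpen_flat := by
    intro X S f hf F hq hfp
    haveI := hf
    haveI := hq
    haveI := hfp
    exact isOpen_flat_and_tfSet f F

/-- the torsion-free locus is locally constructible. -/
theorem isLocallyConstructible_tfSet {X S : Scheme.{u}} (f : X ⟶ S)
    [LocallyOfFinitePresentation f] (F : X.Modules) [F.IsQuasicoherent] (hF : CohB1.IsFP F) :
    IsLocallyConstructible (tfSet f F) :=
  isLocallyConstructible tfSet_isFibreConsM f F hF

section Main

variable {X S : Scheme.{u}} (f : X ⟶ S) [LocallyOfFiniteType f] (F : X.Modules)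
  [F.IsQuasicoherent]

set_option maxHeartbeats 800000 in
/-- **the torsion-free locus of the fibres is locally constructible** (locally Noetherian base,
locally integral fibres). -/
theorem isLocallyConstructible_setOf_fibre_torsionFree [IsLocallyNoetherian S] [QuasiCompact f]
    (hF : CohB1.IsFP F)
    (hint : ∀ (s : S) (x : ↥(f.fiber s)), IsDomain ((f.fiber s).presheaf.stalk x)) :
    IsLocallyConstructible {s : S | ∀ x : ↥(f.fiber s),
      Submodule.torsion ((f.fiber s).presheaf.stalk x)
        (((Scheme.Modules.pullback (f.fiberι s)).obj F).presheaf.stalk x) = ⊥} := by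
  haveI : SheafOfModules.IsFinitePresentation (R := X.ringCatSheaf) F := hF
  haveI : IsLocallyNoetherian X := LocallyOfFiniteType.isLocallyNoetherian f
  haveI : LocallyOfFinitePresentation f :=
    SecCompBC.locallyOfFinitePresentation_of_isLocallyNoetherian f
  have hE := isLocallyConstructible_tfSet f F hF
  convert isLocallyConstructible_forall_mem f _ hE using 1
  ext s
  simp only [Set.mem_ofPred_eq]
  have key : ∀ x : f.fiber s,
      Submodule.torsion ((f.fiber s).presheaf.stalk x)
        (((Scheme.Modules.pullback (f.fiberι s)).obj F).presheaf.stalk x) = ⊥ ↔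
      f.fiberι s x ∈ tfSet f F := by
    intro x
    haveI := hint s x
    haveI : LocallyOfFiniteType (f.fiberToSpecResidueField s) :=
      FibreRes.locallyOfFiniteType_fiberToSpecResidueField f s
    haveI : IsLocallyNoetherian (f.fiber s) :=
      LocallyOfFiniteType.isLocallyNoetherian (f.fiberToSpecResidueField s)
    haveI : ((Scheme.Modules.pullback (f.fiberι s)).obj F).IsQuasicoherent :=
      PbStalk.isQuasicoherent_pullback (f.fiberι s) F
    haveI : ((Scheme.Modules.pullback (f.fiberι s)).obj F).IsFiniteType :=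
      PbFinite.isFiniteType_pullback (f.fiberι s) F
    rw [torsion_stalk_eq_bot_iff, fiberι_mem_tfSet_iff]
    exact Iff.rfl
  constructor
  · intro h x' hx's
    subst hx's
    have := (key (f.asFiber x')).mp (h _)
    rwa [f.fiberι_asFiber x'] at this
  · intro h x
    exact (key x).mpr (h _ (apply_fiberι' f s x))

end Main

end Groth.Agent.Lib.Helper20.GRkT
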