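import Groth.Agent.Lib.Helper20.LamBasic
import Mathlib

/-!
# γ-operations of a pre-λ-ring: `γ_t(x) = λ_{t/(1-t)}(x)`, additivity.
-/

set_option autoImplicit false
universe u

namespace Groth.Agent.Lib.Helper20.GammaBasic

open PowerSeries LambdaRing

/-- the series `t/(1-t) = t + t^2 + …` -/
noncomputable def uSer (K : Type u) [CommRing K] : PowerSeries K := X * mk 1

theorem constantCoeff_uSer (K : Type u) [CommRing K] : constantCoeff (uSer K) = 0 := by
  simp [uSer]

theorem hasSubst_uSer (K : Type u) [CommRing K] : HasSubst (uSer K) :=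
  HasSubst.of_constantCoeff_zero' (constantCoeff_uSer K)

theorem coeff_uSer_pow_succ (K : Type u) [CommRing K] (j k : ℕ) :
    coeff k ((uSer K) ^ (j + 1)) = if j + 1 ≤ k then ((Nat.choose (k - 1) j : ℕ) : K) else 0 := by
  rw [uSer, mul_pow, mk_one_pow_eq_mk_choose_add, coeff_X_pow_mul']
  split_ifs with h
  · rw [coeff_mk]
    have e : j + (k - (j + 1)) = k - 1 := by omega
    rw [e]
  · rfl

variable {K : Type u} [CommRing K] [LambdaOps K]

/-- the series `γ_t(x) = Σ γ^k(x) t^k` -/
noncomputable def gammaSeries (x : K) : PowerSeries K := mk (fun k => gamma k x)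

theorem coeff_gammaSeries (x : K) (k : ℕ) : coeff k (gammaSeries x) = gamma k x := coeff_mk _ _

theorem gamma_zero_apply (x : K) : gamma 0 x = 1 := by
  rw [gamma, if_pos rfl]

theorem gammaSeries_eq_subst (x : K) : gammaSeries x = (lamSeries x).subst (uSer K) := by
  ext k
  rw [coeff_gammaSeries, coeff_subst' (hasSubst_uSer K)]
  rw [finsum_eq_sum_of_support_subset (s := Finset.range (k + 1))]
  · rcases Nat.eq_zero_or_pos k with rfl | hk
    · simp [gamma, LamBasic.coeff_lamSeries, LambdaOps.lam_zero]
    · rw [gamma, if_neg (by omega)]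
      apply Finset.sum_congr rfl
      intro j hj
      rw [Finset.mem_range] at hj
      rcases j with _ | j
      · simp [coeff_one, hk.ne']
      · rw [coeff_uSer_pow_succ, LamBasic.coeff_lamSeries, if_neg (Nat.succ_ne_zero j), smul_eq_mul,
          mul_comm, if_pos (by omega)]
        simp
  · intro d hd
    rw [Function.mem_support] at hd
    by_contra hlt
    apply hd
    have hkd : k < d := by simpa using hlt
    obtain ⟨j, rfl⟩ : ∃ j, d = j + 1 := ⟨d - 1, by omega⟩
    rw [coeff_uSer_pow_succ, if_neg (by omega), smul_zero]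

theorem gammaSeries_add (x y : K) : gammaSeries (x + y) = gammaSeries x * gammaSeries y := by
  rw [gammaSeries_eq_subst, gammaSeries_eq_subst, gammaSeries_eq_subst, LamBasic.lamSeries_add,
    subst_mul (hasSubst_uSer K)]

/-- additivity of the γ-operations -/
theorem gamma_add (k : ℕ) (x y : K) :
    gamma k (x + y) = ∑ i ∈ Finset.range (k + 1), gamma i x * gamma (k - i) y := by
  have h := congrArg (coeff k) (gammaSeries_add x y)
  rw [coeff_gammaSeries, coeff_mul, Finset.Nat.sum_antidiagonal_eq_sum_range_succ_mk] at h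
  rw [h]
  apply Finset.sum_congr rfl
  intro i _
  rw [coeff_gammaSeries, coeff_gammaSeries]

theorem gamma_one_apply (x : K) : gamma 1 x = x := by
  rw [gamma, if_neg one_ne_zero]
  simp [Finset.sum_range_succ, LambdaOps.lam_one]

theorem lam_apply_zero (j : ℕ) (hj : 1 ≤ j) : LambdaOps.lam j (0 : K) = 0 := by
  have h := congrArg (coeff j) (LamBasic.lamSeries_zero (K := K))
  rw [LamBasic.coeff_lamSeries, coeff_one, if_neg (by omega)] at h
  exact h

theorem gamma_apply_zero (k : ℕ) (hk : 1 ≤ k) : gamma k (0 : K) = 0 := by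
  rw [gamma, if_neg (by omega)]
  apply Finset.sum_eq_zero
  intro j _
  rcases j with _ | j
  · simp
  · rw [if_neg (Nat.succ_ne_zero j), lam_apply_zero (j + 1) (by omega), mul_zero]

theorem gammaSeries_zero : gammaSeries (0 : K) = 1 := by
  ext k
  rw [coeff_gammaSeries, coeff_one]
  rcases Nat.eq_zero_or_pos k with rfl | hk
  · rw [gamma_zero_apply, if_pos rfl]
  · rw [gamma_apply_zero k hk, if_neg (by omega)]

theorem gammaSeries_mul_neg (x : K) : gammaSeries x * gammaSeries (-x) = 1 := by
  rw [← gammaSeries_add, add_neg_cancel, gammaSeries_zero]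

theorem gamma_neg_rec (n : ℕ) (x : K) :
    gamma (n + 1) (-x) = - ∑ i ∈ Finset.range (n + 1), gamma (i + 1) x * gamma (n - i) (-x) := by
  have h := congrArg (coeff (n + 1)) (gammaSeries_mul_neg x)
  rw [coeff_mul, Finset.Nat.sum_antidiagonal_eq_sum_range_succ_mk, coeff_one,
    if_neg (Nat.succ_ne_zero n), Finset.sum_range_succ'] at h
  simp only [coeff_gammaSeries, gamma_zero_apply, one_mul, Nat.sub_zero, Nat.add_sub_add_right] at h
  linear_combination h

end Groth.Agent.Lib.Helper20.GammaBasic
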