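import Mathlib

/-! Spanning `Γ^d` by pure divided powers when enough Vandermonde units exist. helper20 -/

namespace Groth.Agent.Lib.Helper20.GammaSpan

open DividedPowerAlgebra Finset

variable {A M : Type*} [CommRing A] [AddCommGroup M] [Module A M]

/-- the span of the `d`-th divided powers -/
noncomputable abbrev Nspan (A M : Type*) [CommRing A] [AddCommGroup M] [Module A M] (d : ℕ) :
    Submodule A (DividedPowerAlgebra A M) :=
  Submodule.span A (Set.range (dp A d : M → DividedPowerAlgebra A M))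

lemma dp_mul_dp_mem (d : ℕ) (a : Fin (d + 1) → A) (ha : IsUnit (Matrix.vandermonde a).det)
    (x y : M) (i : Fin (d + 1)) :
    dp A (i : ℕ) x * dp A (d - i) y ∈ Nspan A M d := by
  classical
  set V := Matrix.vandermonde a with hV
  set z : Fin (d + 1) → DividedPowerAlgebra A M := fun j => dp A (j : ℕ) x * dp A (d - j) y with hz
  have hdp : ∀ l, dp A d (a l • x + y) = ∑ j, V l j • z j := by
    intro l
    rw [dp_add, Finset.Nat.sum_antidiagonal_eq_sum_range_succ_mk, Finset.sum_range]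
    refine Finset.sum_congr rfl fun j _ => ?_
    simp only [hz, hV, Matrix.vandermonde_apply, dp_smul, smul_mul_assoc]
  have hw : ∀ l, ∑ j, V l j • z j ∈ Nspan A M d := fun l => by
    rw [← hdp l]; exact Submodule.subset_span ⟨_, rfl⟩
  have key : z i = ∑ l, (V⁻¹ i l) • ∑ j, V l j • z j := by
    simp_rw [Finset.smul_sum, smul_smul]
    rw [Finset.sum_comm]
    simp_rw [← Finset.sum_smul, ← Matrix.mul_apply, Matrix.nonsing_inv_mul V ha, Matrix.one_apply]
    simp
  change z i ∈ _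
  rw [key]
  exact Submodule.sum_mem _ fun l _ => Submodule.smul_mem _ _ (hw l)

lemma exists_vandermonde (t : A) (d : ℕ)
    (ht : ∀ i j : ℕ, i < j → j ≤ d → IsUnit (t ^ i - t ^ j)) (e : ℕ) (he : e ≤ d) :
    IsUnit (Matrix.vandermonde (fun l : Fin (e + 1) => t ^ (l : ℕ))).det := by
  rw [Matrix.det_vandermonde]
  refine Finset.prod_induction _ IsUnit (fun _ _ => IsUnit.mul) isUnit_one fun i _ => ?_
  refine Finset.prod_induction _ IsUnit (fun _ _ => IsUnit.mul) isUnit_one fun j hj => ?_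
  have hij : (i : ℕ) < j := Fin.lt_def.mp (Finset.mem_Ioi.mp hj)
  have := ht i j hij (le_trans (Nat.lt_succ_iff.mp j.2) he)
  rw [← neg_sub]
  exact this.neg

lemma mul_dp_mem (t : A) (d : ℕ)
    (ht : ∀ i j : ℕ, i < j → j ≤ d → IsUnit (t ^ i - t ^ j)) (e₁ e₂ : ℕ) (he : e₁ + e₂ ≤ d)
    (P : DividedPowerAlgebra A M) (hP : P ∈ Nspan A M e₁) (y : M) :
    P * dp A e₂ y ∈ Nspan A M (e₁ + e₂) := by
  induction hP using Submodule.span_induction with
  | mem P hP =>
    obtain ⟨x, rfl⟩ := hP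
    have := dp_mul_dp_mem (A := A) (M := M) (e₁ + e₂) _
      (exists_vandermonde t d ht (e₁ + e₂) he) x y ⟨e₁, by omega⟩
    simpa using this
  | zero => rw [zero_mul]; exact Submodule.zero_mem _
  | add p q _ _ hp hq => rw [add_mul]; exact Submodule.add_mem _ hp hq
  | smul c p _ hp => rw [smul_mul_assoc]; exact Submodule.smul_mem _ _ hp

lemma prod_mem (t : A) (d : ℕ)
    (ht : ∀ i j : ℕ, i < j → j ≤ d → IsUnit (t ^ i - t ^ j)) :
    ∀ (n : ℕ) (k : Fin n → ℕ) (m : Fin n → M), (∑ i, k i) ≤ d →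
      ∏ i, dp A (k i) (m i) ∈ Nspan A M (∑ i, k i) := by
  intro n
  induction n with
  | zero =>
    intro k m _
    simp only [Finset.univ_eq_empty, Finset.prod_empty, Finset.sum_empty]
    exact Submodule.subset_span ⟨0, dp_zero⟩
  | succ n ih =>
    intro k m hk
    rw [Fin.prod_univ_castSucc, Fin.sum_univ_castSucc]
    rw [Fin.sum_univ_castSucc] at hk
    exact mul_dp_mem t d ht _ _ hk _
      (ih (fun i => k i.castSucc) (fun i => m i.castSucc) (by omega)) _

lemma map_mk_eq_one {R B : Type*} [CommRing R] [CommRing B] (p : R)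
    (φ : R ⧸ Ideal.span {p - 1} →+* B) : φ (Ideal.Quotient.mk _ p) = 1 := by
  have : Ideal.Quotient.mk (Ideal.span {p - 1}) (p - 1) = 0 :=
    Ideal.Quotient.eq_zero_iff_mem.mpr (Ideal.subset_span (Set.mem_singleton _))
  rw [map_sub, map_one, sub_eq_zero] at this
  rw [this, map_one]

lemma isUnit_of_prod_eq_one (t : A) (d : ℕ)
    (h1 : ∏ j ∈ range (d + 1), ∏ i ∈ range j, (t ^ i - t ^ j) = 1) :
    ∀ i j : ℕ, i < j → j ≤ d → IsUnit (t ^ i - t ^ j) := by
  intro i j hij hjd
  apply isUnit_of_dvd_one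
  rw [← h1]
  exact dvd_trans (Finset.dvd_prod_of_mem (fun i => t ^ i - t ^ j) (Finset.mem_range.mpr hij))
    (Finset.dvd_prod_of_mem (fun j => ∏ i ∈ range j, (t ^ i - t ^ j))
      (Finset.mem_range.mpr (Nat.lt_succ_of_le hjd)))

/-- two-variable step with a Vandermonde determinant as scalar -/
lemma det_smul_dp_mul_dp_mem (e : ℕ) (c : Fin e → A) (x y : M) (j : ℕ) (hj : j ≤ e) :
    (Matrix.vandermonde c).det • (dp A j x * dp A (e - j) y) ∈ Nspan A M e := by
  classical
  rcases Nat.lt_or_ge j e with hlt | hge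
  · set V := Matrix.vandermonde c with hV
    set z : Fin e → DividedPowerAlgebra A M := fun j => dp A (j : ℕ) x * dp A (e - j) y with hz
    have hdp : ∀ l, dp A e (c l • x + y) - c l ^ e • dp A e x = ∑ j, V l j • z j := by
      intro l
      rw [dp_add, Finset.Nat.sum_antidiagonal_eq_sum_range_succ_mk, Finset.sum_range_succ,
        Nat.sub_self, dp_zero, mul_one, dp_smul, add_sub_cancel_right, Finset.sum_range]
      refine Finset.sum_congr rfl fun j _ => ?_
      simp only [hz, hV, Matrix.vandermonde_apply, dp_smul, smul_mul_assoc]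
    have hw : ∀ l, ∑ j, V l j • z j ∈ Nspan A M e := fun l => by
      rw [← hdp l]
      exact Submodule.sub_mem _ (Submodule.subset_span ⟨_, rfl⟩)
        (Submodule.smul_mem _ _ (Submodule.subset_span ⟨_, rfl⟩))
    have key : V.det • z ⟨j, hlt⟩ = ∑ l, (V.adjugate ⟨j, hlt⟩ l) • ∑ i, V l i • z i := by
      simp_rw [Finset.smul_sum, smul_smul]
      rw [Finset.sum_comm]
      simp_rw [← Finset.sum_smul, ← Matrix.mul_apply, Matrix.adjugate_mul, Matrix.smul_apply,
        Matrix.one_apply]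
      simp
    change V.det • z ⟨j, hlt⟩ ∈ _
    rw [key]
    exact Submodule.sum_mem _ fun l _ => Submodule.smul_mem _ _ (hw l)
  · obtain rfl : j = e := le_antisymm hj hge
    rw [Nat.sub_self, dp_zero, mul_one]
    exact Submodule.smul_mem _ _ (Submodule.subset_span ⟨_, rfl⟩)

lemma smul_mul_dp_mem (e₁ e₂ : ℕ) (D : A)
    (hD : ∀ x y : M, D • (dp A e₁ x * dp A e₂ y) ∈ Nspan A M (e₁ + e₂))
    (Q : DividedPowerAlgebra A M) (hQ : Q ∈ Nspan A M e₁) (y : M) :
    D • (Q * dp A e₂ y) ∈ Nspan A M (e₁ + e₂) := by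
  induction hQ using Submodule.span_induction with
  | mem Q hQ => obtain ⟨x, rfl⟩ := hQ; exact hD x y
  | zero => simp
  | add p q _ _ hp hq => rw [add_mul, smul_add]; exact Submodule.add_mem _ hp hq
  | smul r p _ hp => rw [smul_mul_assoc, smul_comm]; exact Submodule.smul_mem _ _ hp

lemma exists_smul_prod_mem_of_vandermonde (S : Submonoid A) (d : ℕ)
    (hS : ∀ e ≤ d, ∃ c : Fin e → A, (Matrix.vandermonde c).det ∈ S) :
    ∀ (n : ℕ) (k : Fin n → ℕ) (m : Fin n → M), (∑ i, k i) ≤ d →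
      ∃ s ∈ S, s • ∏ i, dp A (k i) (m i) ∈ Nspan A M (∑ i, k i) := by
  intro n
  induction n with
  | zero =>
    intro k m _
    refine ⟨1, S.one_mem, ?_⟩
    simp only [Finset.univ_eq_empty, Finset.prod_empty, Finset.sum_empty, one_smul]
    exact Submodule.subset_span ⟨0, dp_zero⟩
  | succ n ih =>
    intro k m hk
    rw [Fin.sum_univ_castSucc] at hk
    obtain ⟨s', hs', hP'⟩ := ih (fun i => k i.castSucc) (fun i => m i.castSucc) (by omega)
    obtain ⟨c, hc⟩ := hS _ hk
    refine ⟨(Matrix.vandermonde c).det * s', S.mul_mem hc hs', ?_⟩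
    rw [Fin.prod_univ_castSucc, Fin.sum_univ_castSucc, mul_smul, ← smul_mul_assoc]
    refine smul_mul_dp_mem _ _ _ (fun x y => ?_) _ hP' _
    have := det_smul_dp_mul_dp_mem (A := A) (M := M) _ c x y (∑ i : Fin n, k i.castSucc)
      (Nat.le_add_right _ _)
    rwa [Nat.add_sub_cancel_left] at this

lemma exists_smul_prod_eq_of_cyclic (S : Submonoid A) (x₀ : M)
    (hx : ∀ m : M, ∃ t ∈ S, ∃ a : A, t • m = a • x₀) :
    ∀ (n : ℕ) (k : Fin n → ℕ) (m : Fin n → M),
      ∃ s ∈ S, ∃ c : A, s • ∏ i, dp A (k i) (m i) = c • dp A (∑ i, k i) x₀ := by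
  intro n
  induction n with
  | zero =>
    intro k m
    refine ⟨1, S.one_mem, 1, ?_⟩
    simp [dp_zero]
  | succ n ih =>
    intro k m
    obtain ⟨s', hs', c', hP'⟩ := ih (fun i => k i.castSucc) (fun i => m i.castSucc)
    obtain ⟨t, ht, a, hta⟩ := hx (m (Fin.last n))
    refine ⟨s' * t ^ (k (Fin.last n)), S.mul_mem hs' (S.pow_mem ht _),
      c' * a ^ (k (Fin.last n)) *
        (((∑ i : Fin n, k i.castSucc) + k (Fin.last n)).choose (∑ i : Fin n, k i.castSucc) : A), ?_⟩
    rw [Fin.prod_univ_castSucc, Fin.sum_univ_castSucc, ← smul_mul_smul_comm, hP', ← dp_smul, hta,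
      dp_smul, smul_mul_smul_comm, dp_mul]
    simp only [mul_smul, Nat.cast_smul_eq_nsmul]

end Groth.Agent.Lib.Helper20.GammaSpan
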