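import Mathlib
import Groth.Agent.Lib.Helper20.GeomNor1

/-!
# Openness of the locus where the fibre of a flat morphism is geometrically normal
(EGA IV 12.1.6 / 12.2.4) (helper20)
-/

set_option autoImplicit false
set_option linter.style.haveILetI false
set_option linter.unusedSectionVars false
set_option linter.dupNamespace false
universe u

open IsLocalRing TensorProduct CategoryTheory CategoryTheory.Limits AlgebraicGeometry
  TopologicalSpace

namespace Groth.Agent.Lib.Helper20.GeomNor

open Groth.Agent.Lib.Helper14.CMMod Groth.Agent.Lib.Helper12 Groth.Agent.Lib.Helper20.RD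
  Groth.Agent.Lib.Helper20.SkFib Groth.Agent.Lib.Helper20.DepthAlong
  Groth.Agent.Lib.Helper3 Groth.Agent.Lib.Helper17 Groth.Agent.Lib.Helper4
  Groth.Agent.Lib.Helper12.SchemeDimIneq Groth.Agent.Lib.Helper20.AssDim
  Groth.Agent.Lib.Helper20.EquiSk Groth.Agent.Lib.Helper12.SchemeDimFT
  Groth.Agent.Lib.Helper20.GeomRk

section Sch

variable {X Y : Scheme.{u}} (f : X ⟶ Y) [LocallyOfFinitePresentation f]

/-- the intrinsic set. -/
def NSet : Set X := {x | x ∈ TSet f 1 ∧ XSk f (Coh.structureModule X) 2 x}

theorem isOpen_nSet [Flat f] : IsOpen (NSet f) := by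
  have hflat : FlatMod.IsFlatOver f (Coh.structureModule X) :=
    (FlatStructure.flat_iff_isFlatOver f).mp inferInstance
  exact (isOpen_tSet f 1).inter (isOpen_xsk f (Coh.structureModule X) hflat 2)

set_option maxHeartbeats 1600000 in
/-- the set of the statement is the intrinsic set. -/
theorem mem_nSet_iff [Flat f] (s : Y) (z : f.fiber s) :
    GeomNormalAt (κ := IsLocalRing.ResidueField (Y.presheaf.stalk s))
        (f.fiberToSpecResidueField s) z ↔
    (f.fiberι s).base z ∈ NSet f := by
  haveI : IsLocallyNoetherian (f.fiber s) :=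
    LocallyOfFiniteType.isLocallyNoetherian (f.fiberToSpecResidueField s)
  have hG := @geomNormalAt_iff (IsLocalRing.ResidueField (Y.presheaf.stalk s)) _ (f.fiber s)
    (f.fiberToSpecResidueField s) (lfp_fiberToSpecResidueField f s) z
  have hT := mem_tSet_iff f 1 s z
  have hS := fibre_mod_hasSk_iff' f (Coh.structureModule X) 2 s z
  have e := pbUnitStalkEquiv (f.fiberι s) z
  constructor
  · intro h
    haveI hdom := isDomain_of_geomNormalAt (κ := IsLocalRing.ResidueField (Y.presheaf.stalk s))
      (f.fiberToSpecResidueField s) z h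
    obtain ⟨h1, h2⟩ := hG.mp h
    refine ⟨hT.mp ⟨h1, isEquidim_of_isDomain _, ass_subset_min_of_isDomain _⟩, hS.mp ?_⟩
    exact Groth.Agent.Lib.Helper28.hasSk_congr 2 e.symm h2
  · rintro ⟨h1, h2⟩
    refine hG.mpr ⟨(hT.mpr h1).1, ?_⟩
    exact Groth.Agent.Lib.Helper28.hasSk_congr 2 e (hS.mpr h2)

/-- the locus where the fibre is geometrically normal is open (flat case). -/
theorem isOpen_fibre_geomNormal [Flat f] :
    IsOpen {x : X | GeomNormalAt (κ := IsLocalRing.ResidueField (Y.presheaf.stalk (f.base x)))
        (f.fiberToSpecResidueField (f.base x)) (f.asFiber x)} := by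
  convert isOpen_nSet f using 1
  ext x
  have hx₀ : (f.fiberι (f.base x)).base (f.asFiber x) = x := f.fiberι_asFiber x
  have h := mem_nSet_iff f (f.base x) (f.asFiber x)
  rw [hx₀] at h
  exact h

/-- the form on the base, for a closed map. -/
theorem isOpen_fibre_geomNormal_base [Flat f] (hcl : IsClosedMap f.base) :
    IsOpen {y : Y | ∀ x : ↥(f.fiber y),
      GeomNormalAt (κ := IsLocalRing.ResidueField (Y.presheaf.stalk y))
        (f.fiberToSpecResidueField y) x} := by
  have h2 : IsClosed (f.base '' (NSet f)ᶜ) := hcl _ (isOpen_nSet f).isClosed_compl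
  convert h2.isOpen_compl using 1
  ext y
  constructor
  · rintro hall ⟨x, hx, hxy⟩
    subst hxy
    apply hx
    have h3 := (mem_nSet_iff f (f.base x) (f.asFiber x)).mp (hall (f.asFiber x))
    have hx₀ : (f.fiberι (f.base x)).base (f.asFiber x) = x := f.fiberι_asFiber x
    rwa [hx₀] at h3
  · intro hall z
    refine (mem_nSet_iff f y z).mpr ?_
    by_contra hne
    exact hall ⟨_, hne, apply_fiberι' f y z⟩

end Sch

end Groth.Agent.Lib.Helper20.GeomNor
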