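import Mathlib
import Groth.Agent.Lib.Helper20.GeomNor2
import Groth.Agent.Lib.Helper12.ConsPropNoeth
import Groth.Agent.Lib.Helper14.FlatOpen.Stalk
import Groth.Prelude.Def_MoreMor

/-!
# Openness of the locus where a morphism is flat with geometrically normal fibre
(EGA IV 12.1.6) (helper20)
-/

set_option autoImplicit false
set_option linter.style.haveILetI false
set_option linter.unusedSectionVars false
set_option linter.dupNamespace false
universe u

open IsLocalRing TensorProduct CategoryTheory CategoryTheory.Limits AlgebraicGeometry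
  TopologicalSpace

namespace Groth.Agent.Lib.Helper20.GeomNor

open Groth.Agent.Lib.Helper20.GeomRk Groth.Agent.Lib.Helper20.SkCons

section Field

variable {κ : Type u} [Field κ] {W' W : Scheme.{u}}

set_option maxHeartbeats 800000 in
/-- geometric normality at a point is insensitive to open immersions. -/
theorem geomNormalAt_comp_iff (φ : W' ⟶ W) [IsOpenImmersion φ]
    (g : W ⟶ Spec (CommRingCat.of κ)) [LocallyOfFinitePresentation g]
    [LocallyOfFinitePresentation (φ ≫ g)] (z' : W') :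
    GeomNormalAt (φ ≫ g) z' ↔ GeomNormalAt g (φ.base z') := by
  rw [geomNormalAt_iff, geomNormalAt_iff, geomRkAt_iff, geomRkAt_iff]
  haveI := isLocallyNoetherian_src g
  haveI := isLocallyNoetherian_src (φ ≫ g)
  have e : ∀ ζ' : W', W.presheaf.stalk (φ.base ζ') ≃+* W'.presheaf.stalk ζ' := fun ζ' =>
    (asIso (φ.stalkMap ζ')).commRingCatIsoToRingEquiv
  have hsm : ∀ ζ' : W', ζ' ∈ (φ ≫ g).smoothLocus ↔ φ.base ζ' ∈ g.smoothLocus := by
    intro ζ'
    rw [← Scheme.Hom.preimage_smoothLocus_eq φ g]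
    rfl
  refine and_congr ?_ ?_
  · constructor
    · intro h ζ hζ hd
      obtain ⟨ζ', rfl⟩ : ζ ∈ Set.range φ.base :=
        hζ.mem_open φ.isOpenEmbedding.isOpen_range ⟨z', rfl⟩
      rw [← hsm]
      apply h ζ'
      · exact φ.isOpenEmbedding.isInducing.specializes_iff.mp hζ
      · rw [← ringKrullDim_eq_of_ringEquiv (e ζ')]
        exact hd
    · intro h ζ' hζ' hd
      rw [hsm]
      apply h _ (hζ'.map φ.continuous)
      rw [ringKrullDim_eq_of_ringEquiv (e ζ')]
      exact hd
  · exact (skr_iff_of_ringEquiv (e z')).symm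

end Field

section Sch

variable {X Y : Scheme.{u}}

/-- the locus of points at which the fibre is geometrically normal. -/
def NW (f : X ⟶ Y) : Set X :=
  {x | GeomNormalAt (κ := IsLocalRing.ResidueField (Y.presheaf.stalk (f.base x)))
    (f.fiberToSpecResidueField (f.base x)) (f.asFiber x)}

theorem mem_NW_iff (f : X ⟶ Y) (x : X) (y : Y) (w : f.fiber y) (hw : f.fiberι y w = x) :
    x ∈ NW f ↔ GeomNormalAt (κ := IsLocalRing.ResidueField (Y.presheaf.stalk y))
      (f.fiberToSpecResidueField y) w := by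
  have hy : f x = y := by
    have h1 : (f.fiberι y) w ∈ Set.range (f.fiberι y) := ⟨w, rfl⟩
    rw [Scheme.Hom.range_fiberι, hw] at h1
    exact h1
  subst hy
  have hw' : w = f.asFiber x := by
    apply (f.fiberι (f x)).isEmbedding.injective
    rw [hw]; exact (f.fiberι_asFiber x).symm
  rw [hw']
  exact Iff.rfl

set_option maxHeartbeats 800000 in
/-- the locus is compatible with open immersions into the source. -/
theorem mem_NW_comp_iff {U : Scheme.{u}} (j : U ⟶ X) [IsOpenImmersion j] (f : X ⟶ Y)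
    [LocallyOfFinitePresentation f] (u : U) :
    u ∈ NW (j ≫ f) ↔ j u ∈ NW f := by
  obtain ⟨s, hs⟩ : ∃ s : Y, s = (j ≫ f) u := ⟨_, rfl⟩
  let m := MoreMor.fiberMap j f s
  have hpb := Groth.Agent.Lib.Helper12.ConsPropNoeth.isPullback_fiberMap j f s
  haveI : IsOpenImmersion m :=
    MorphismProperty.of_isPullback (P := @IsOpenImmersion) hpb inferInstance
  have h1 : m ≫ f.fiberToSpecResidueField s = (j ≫ f).fiberToSpecResidueField s :=
    pullback.lift_snd _ _ _
  have h2 : m ≫ f.fiberι s = (j ≫ f).fiberι s ≫ j := pullback.lift_fst _ _ _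
  obtain ⟨w, hw⟩ : ∃ w : (j ≫ f).fiber s, (j ≫ f).fiberι s w = u := by
    have : u ∈ Set.range ((j ≫ f).fiberι s) := by
      rw [Scheme.Hom.range_fiberι]; exact hs.symm
    exact this
  have h3 : (f.fiberι s) (m w) = j u := by
    rw [← Scheme.Hom.comp_apply, h2, Scheme.Hom.comp_apply, hw]
  rw [mem_NW_iff (j ≫ f) u s w hw, mem_NW_iff f (j u) s (m w) h3, ← h1]
  haveI : LocallyOfFinitePresentation (j ≫ f) := inferInstance
  have hl : LocallyOfFinitePresentation (m ≫ f.fiberToSpecResidueField s) := by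
    rw [h1]
    exact lfp_fiberToSpecResidueField (j ≫ f) s
  exact @geomNormalAt_comp_iff (IsLocalRing.ResidueField (Y.presheaf.stalk s)) _ _ _ m _
    (f.fiberToSpecResidueField s) (lfp_fiberToSpecResidueField f s) hl w

theorem preimage_NW_comp {U : Scheme.{u}} (j : U ⟶ X) [IsOpenImmersion j] (f : X ⟶ Y)
    [LocallyOfFinitePresentation f] : NW (j ≫ f) = j ⁻¹' NW f := by
  ext u
  exact mem_NW_comp_iff j f u

/-- **EGA IV 12.1.6 (normal)**: the locus where `f` is flat and the fibre is geometrically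
normal is open. -/
theorem isOpen_flat_and_fibre_geomNormal (f : X ⟶ Y) [LocallyOfFinitePresentation f] :
    IsOpen {x : X | (f.stalkMap x).hom.Flat ∧ x ∈ NW f} := by
  have hF : IsOpen {x : X | (f.stalkMap x).hom.Flat} :=
    Groth.Agent.Lib.Helper14.FlatOpen.isOpen_flat_stalkMap f
  let Uo : X.Opens := ⟨{x : X | (f.stalkMap x).hom.Flat}, hF⟩
  haveI : Flat (Uo.ι ≫ f) := by
    apply Flat.of_stalkMap
    intro u
    rw [Scheme.Hom.stalkMap_comp]
    show ((Uo.ι.stalkMap u).hom.comp (f.stalkMap (Uo.ι u)).hom).Flat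
    have h1 : (f.stalkMap (Uo.ι u)).hom.Flat := u.2
    have h2 : (Uo.ι.stalkMap u).hom.Flat :=
      RingHom.Flat.of_bijective
        (asIso (Uo.ι.stalkMap u)).commRingCatIsoToRingEquiv.bijective
    exact RingHom.Flat.comp h1 h2
  have hW : IsOpen (NW (Uo.ι ≫ f)) := isOpen_fibre_geomNormal (Uo.ι ≫ f)
  rw [preimage_NW_comp] at hW
  have h3 := Uo.ι.isOpenEmbedding.isOpenMap _ hW
  convert h3 using 1
  ext x
  constructor
  · rintro ⟨hx1, hx2⟩
    exact ⟨⟨x, hx1⟩, hx2, rfl⟩
  · rintro ⟨u, hu, rfl⟩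
    exact ⟨u.2, hu⟩

end Sch

end Groth.Agent.Lib.Helper20.GeomNor
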