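import Mathlib
import Groth.Prelude.Def_GrLC2
import Groth.Prelude.Def_CAlg
import Groth.Agent.Lib.Helper4.GorTop
import Groth.Agent.Lib.Helper4.LD1
import Groth.Agent.Lib.Helper1.Matlis

/-!
# Bass numbers of a Gorenstein ring (helper20)

`μ^i(p, R) = δ_{i, ht p}` for a Gorenstein ring `R`.
-/

set_option autoImplicit false
set_option linter.unusedSectionVars false
set_option linter.unusedVariables false
set_option linter.style.haveILetI false

universe u

open CategoryTheory Abelian IsLocalRing Groth.Agent.Lib.Helper4.LC

namespace Groth.Agent.Lib.Helper20.GorBassNum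

variable (R : Type u) [CommRing R] [LocCoh.IsGorensteinRing R] (p : Ideal R) [hp : p.IsPrime]
  (n : ℕ) (hn : p.height = n)

/-- the comparison between the two Ext modules. -/
noncomputable def extEquiv (i : ℕ) :
    Ext.{u} (ModuleCat.of (Localization.AtPrime p) (ResidueField (Localization.AtPrime p)))
      (ModuleCat.of (Localization.AtPrime p) (LocalizedModule p.primeCompl R)) i
      ≃ₗ[Localization.AtPrime p]
    Ext.{u} (ModuleCat.of (Localization.AtPrime p)
        (Localization.AtPrime p ⧸ maximalIdeal (Localization.AtPrime p)))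
      (ModuleCat.of (Localization.AtPrime p) (Localization.AtPrime p)) i :=
  let e' : LocalizedModule p.primeCompl R ≃ₗ[Localization.AtPrime p] Localization.AtPrime p :=
    IsLocalizedModule.mapEquiv p.primeCompl (LocalizedModule.mkLinearMap p.primeCompl R)
      (Algebra.linearMap R (Localization.AtPrime p)) (Localization.AtPrime p)
      (LinearEquiv.refl R R)
  (extCongrRight _ e'.toModuleIso i).trans
    (extCongrLeft (Groth.Agent.Lib.Helper1.Matlis.quotEquivResidueField
      (R := Localization.AtPrime p)).toModuleIso _ i).symm

include hn in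
theorem ringKrullDim_loc : ringKrullDim (Localization.AtPrime p) = n := by
  rw [IsLocalization.AtPrime.ringKrullDim_eq_height p (Localization.AtPrime p), hn]
  rfl

include hn in
/-- `μ^i(p, R) = 0` for `i ≠ ht p`. -/
theorem bassNum_eq_zero (i : ℕ) (hi : i ≠ n) : GrLC.bassNum p R i = 0 := by
  haveI : LocCoh.IsGorensteinLocalRing (Localization.AtPrime p) :=
    LocCoh.IsGorensteinRing.isGorensteinLocalRing_localization p
  unfold GrLC.bassNum GrLC.bassNumLocal
  rw [(extEquiv R p i).length_eq, Module.length_eq_zero_iff]
  exact Groth.Agent.Lib.Helper4.LC.gor_ext_residue_subsingleton (Localization.AtPrime p) n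
    (ringKrullDim_loc R p n hn) i hi

include hn in
/-- `μ^{ht p}(p, R) = 1`. -/
theorem bassNum_eq_one : GrLC.bassNum p R n = 1 := by
  haveI : LocCoh.IsGorensteinLocalRing (Localization.AtPrime p) :=
    LocCoh.IsGorensteinRing.isGorensteinLocalRing_localization p
  unfold GrLC.bassNum GrLC.bassNumLocal
  rw [(extEquiv R p n).length_eq]
  exact Groth.Agent.Lib.Helper4.LC.gor_length_ext_residue (Localization.AtPrime p) n
    (ringKrullDim_loc R p n hn)

end Groth.Agent.Lib.Helper20.GorBassNum
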