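import Mathlib
import Groth.Prelude.Def_GrLC
import Groth.Prelude.Def_GrLC2
import Groth.Agent.Lib.Helper20.GorBassNum
import Groth.Agent.Lib.Helper20.BassInjDim
import Groth.Agent.Lib.Helper20.GrStarLocalBass
import Groth.Agent.Lib.Helper9.BassLemma
import Groth.Agent.Lib.Helper4.GorLoc
import Groth.Agent.S18636

/-!
# A Bass-number criterion for a `*`local ℤ-graded ring to be Gorenstein (helper20)
-/

set_option autoImplicit false
set_option linter.unusedSectionVars false
set_option linter.unusedVariables false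
set_option linter.style.haveILetI false

universe u

open CategoryTheory Abelian IsLocalRing GrLC Groth.Agent.Lib.Helper4.LC
  Groth.Agent.Lib.Helper20.BassInjDim Groth.Agent.Lib.Helper20.GrStarLocalBass

namespace Groth.Agent.Lib.Helper20.GrGorCrit

variable {R : Type u} [CommRing R] [IsNoetherianRing R] (𝒜 : ℤ → AddSubgroup R) [GradedRing 𝒜]
  (m : HomogeneousIdeal 𝒜) (hm : IsStarLocal 𝒜 m) [hmp : m.toIdeal.IsPrime]

include hm in
/-- **if the Bass numbers `μ^i(m, R)` of a `*`local ring vanish for large `i`, the ring is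
Gorenstein.** -/
theorem isGorensteinRing_of_bassNum (N₀ : ℕ)
    (h : ∀ i, N₀ < i → GrLC.bassNum m.toIdeal R i = 0) : LocCoh.IsGorensteinRing R := by
  -- vanishing of `Ext` from the residue field over the local ring
  have hk : ∀ i, N₀ < i → Subsingleton (Ext.{u} (ModuleCat.of (Localization.AtPrime m.toIdeal)
      (Localization.AtPrime m.toIdeal ⧸ maximalIdeal (Localization.AtPrime m.toIdeal)))
      (ModuleCat.of (Localization.AtPrime m.toIdeal) (Localization.AtPrime m.toIdeal)) i) := by
    intro i hi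
    haveI := (bassNum_eq_zero_iff m.toIdeal R i).1 (h i hi)
    exact (Groth.Agent.Lib.Helper20.GorBassNum.extEquiv R m.toIdeal i).symm.toEquiv.subsingleton
  haveI : Module.Finite (Localization.AtPrime m.toIdeal)
      (ModuleCat.of (Localization.AtPrime m.toIdeal) (Localization.AtPrime m.toIdeal)) :=
    inferInstanceAs (Module.Finite (Localization.AtPrime m.toIdeal) (Localization.AtPrime m.toIdeal))
  obtain ⟨r, hr⟩ : ∃ r : ℕ, ringKrullDim (Localization.AtPrime m.toIdeal) = r := by
    obtain ⟨r, hr⟩ := ENat.ne_top_iff_exists.1 (Ideal.height_ne_top_of_isPrime (I := m.toIdeal))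
    refine ⟨r, ?_⟩
    rw [IsLocalization.AtPrime.ringKrullDim_eq_height m.toIdeal (Localization.AtPrime m.toIdeal),
      ← hr]
    rfl
  have hall : ∀ (N : Type u) [AddCommGroup N] [Module (Localization.AtPrime m.toIdeal) N]
      [Module.Finite (Localization.AtPrime m.toIdeal) N] (i : ℕ), N₀ < i →
      Subsingleton (Ext.{u} (ModuleCat.of (Localization.AtPrime m.toIdeal) N)
        (ModuleCat.of (Localization.AtPrime m.toIdeal) (Localization.AtPrime m.toIdeal)) i) := by
    intro N _ _ _ i hi
    exact Groth.Agent.Lib.Helper9.bass_aux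
      (ModuleCat.of (Localization.AtPrime m.toIdeal) (Localization.AtPrime m.toIdeal)) N₀ hk r N
      (by rw [← hr]; exact Module.supportDim_le_ringKrullDim _ _) i hi
  let e' : LocalizedModule m.toIdeal.primeCompl R ≃ₗ[Localization.AtPrime m.toIdeal]
      Localization.AtPrime m.toIdeal :=
    IsLocalizedModule.mapEquiv m.toIdeal.primeCompl
      (LocalizedModule.mkLinearMap m.toIdeal.primeCompl R)
      (Algebra.linearMap R (Localization.AtPrime m.toIdeal)) (Localization.AtPrime m.toIdeal)
      (LinearEquiv.refl R R)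
  have hhom : ∀ (Q : Ideal R) [Q.IsPrime], Q.IsHomogeneous 𝒜 → ∀ i : ℕ, N₀ < i →
      GrLC.bassNum Q R i = 0 := by
    intro Q hQp hQ i hi
    have hne : (⟨Q, hQ⟩ : HomogeneousIdeal 𝒜) ≠ ⊤ := by
      intro h
      have h1 : Q = ⊤ := congrArg HomogeneousIdeal.toIdeal h
      exact hQp.ne_top h1
    have hQm : Q ≤ m.toIdeal := le_of_isStarLocal 𝒜 m hm _ hne
    apply bassNum_eq_zero_of_le Q m.toIdeal hQm R i
    haveI := hall (LocalizedModule m.toIdeal.primeCompl (R ⧸ Q)) i hi
    exact (extCongrRight _ e'.toModuleIso i).toEquiv.subsingleton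
  have hallP : ∀ (P : Ideal R) [P.IsPrime] (i : ℕ), N₀ + 1 < i → GrLC.bassNum P R i = 0 := by
    intro P hPp i hi
    by_cases hP : P.IsHomogeneous 𝒜
    · exact hhom P hP i (by omega)
    · haveI : (Ideal.homogeneousCore 𝒜 P).toIdeal.IsPrime := Ideal.IsPrime.homogeneousCore hPp
      obtain ⟨j, rfl⟩ : ∃ j, i = j + 1 := ⟨i - 1, by omega⟩
      rw [(Groth.Agent.S18636.result R 𝒜 R 𝒜 P hP).2 j]
      exact hhom _ (Ideal.homogeneousCore 𝒜 P).isHomogeneous j (by omega)
  have hN' : CategoryTheory.HasInjectiveDimensionLT (ModuleCat.of R R) (N₀ + 1 + 1) :=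
    hasInjectiveDimensionLT_of_bassNum R (N₀ + 1) hallP
  exact ⟨fun p _ => isGorensteinLocalRing_localization_of_injDim (N₀ + 1 + 1) hN' p⟩

end Groth.Agent.Lib.Helper20.GrGorCrit
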