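import Mathlib
import Groth.Agent.Lib.Helper20.GrGorCrit
import Groth.Agent.Lib.Helper20.GorBassNum
import Groth.Agent.Lib.Helper26.RegQuotLoc

/-!
# Transferring the Gorenstein property along `R → R/t ≅ S → S/x` for `*`local `R` (helper20)
-/

set_option autoImplicit false
set_option linter.unusedSectionVars false
set_option linter.unusedVariables false
set_option linter.style.haveILetI false

universe u

open CategoryTheory IsLocalRing GrLC

namespace Groth.Agent.Lib.Helper20.GorStarTransfer

section starlocal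

variable {R : Type u} [CommRing R] [IsNoetherianRing R] (𝒜 : ℤ → AddSubgroup R) [GradedRing 𝒜]
  (m : HomogeneousIdeal 𝒜) (hm : IsStarLocal 𝒜 m) [hmp : m.toIdeal.IsPrime]

include hm in
/-- **a `*`local noetherian ring whose localization at the `*`maximal ideal is Gorenstein is a
Gorenstein ring.** -/
theorem gorRing_of_starLocal
    (hG : LocCoh.IsGorensteinLocalRing (Localization.AtPrime m.toIdeal)) :
    LocCoh.IsGorensteinRing R := by
  haveI := hG
  obtain ⟨r, hr⟩ : ∃ r : ℕ, ringKrullDim (Localization.AtPrime m.toIdeal) = r := by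
    obtain ⟨r, hr⟩ := ENat.ne_top_iff_exists.1 (Ideal.height_ne_top_of_isPrime (I := m.toIdeal))
    refine ⟨r, ?_⟩
    rw [IsLocalization.AtPrime.ringKrullDim_eq_height m.toIdeal (Localization.AtPrime m.toIdeal),
      ← hr]
    rfl
  refine Groth.Agent.Lib.Helper20.GrGorCrit.isGorensteinRing_of_bassNum 𝒜 m hm r (fun i hi => ?_)
  unfold GrLC.bassNum GrLC.bassNumLocal
  rw [(Groth.Agent.Lib.Helper20.GorBassNum.extEquiv R m.toIdeal i).length_eq,
    Module.length_eq_zero_iff]
  exact Groth.Agent.Lib.Helper4.LC.gor_ext_residue_subsingleton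
    (Localization.AtPrime m.toIdeal) r hr i (by omega)

end starlocal

section transfer

open Groth.Agent.Lib.Helper26.RegQuotLoc Groth.Agent.Lib.Helper4.GorRing
  Groth.Agent.Lib.Helper4.GorFlat

variable {R S : Type u} [CommRing R] [CommRing S] [IsNoetherianRing R] (φ : R →+* S)
  (hφ : Function.Surjective φ) (t : R) (ht : IsSMulRegular R t)
  (hker : RingHom.ker φ = Ideal.span {t})

include hφ hker in
/-- the induced isomorphism `R/t ≃ S`. -/
theorem nonempty_quotEquiv : ∃ E : (R ⧸ Ideal.span {t}) ≃+* S,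
    ∀ r : R, E (Ideal.Quotient.mk _ r) = φ r := by
  refine ⟨(Ideal.quotEquivOfEq hker.symm).trans (RingHom.quotientKerEquivOfSurjective hφ), ?_⟩
  intro r
  rfl

include hφ in
theorem isNoetherianRing_target : IsNoetherianRing S :=
  isNoetherianRing_of_surjective R S φ hφ

include hφ ht hker in
/-- **`R` Gorenstein implies `S/x` Gorenstein.** -/
theorem gorRing_quot_of_gorRing (x : S) (hx : IsSMulRegular S x)
    (hR : LocCoh.IsGorensteinRing R) : LocCoh.IsGorensteinRing (S ⧸ Ideal.span {x}) := by
  haveI : IsNoetherianRing S := isNoetherianRing_target φ hφ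
  obtain ⟨E, hE⟩ := nonempty_quotEquiv φ hφ t hker
  have h1 : LocCoh.IsGorensteinRing (R ⧸ Ideal.span {t}) := gorRing_quot t ht hR
  have h2 : LocCoh.IsGorensteinRing S := gorRing_of_ringEquiv E h1
  exact gorRing_quot x hx h2

include hφ ht hker in
/-- **`S/x` Gorenstein implies `R_P` Gorenstein for the prime `P = φ⁻¹ Q'`, `x ∈ Q'`.** -/
theorem gor_atPrime_comap_of_gorRing_quot (x : S) (hx : IsSMulRegular S x)
    (hQ : LocCoh.IsGorensteinRing (S ⧸ Ideal.span {x})) (Q' : Ideal S) [Q'.IsPrime]
    (hxQ : x ∈ Q') (P : Ideal R) [P.IsPrime] (hP : P = Q'.comap φ) :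
    LocCoh.IsGorensteinLocalRing (Localization.AtPrime P) := by
  haveI : IsNoetherianRing S := isNoetherianRing_target φ hφ
  obtain ⟨E, hE⟩ := nonempty_quotEquiv φ hφ t hker
  have h1 : LocCoh.IsGorensteinLocalRing (Localization.AtPrime Q') :=
    gor_atPrime_of_mem x hx hQ Q' hxQ
  -- transport to `R/t`
  have h2 : LocCoh.IsGorensteinLocalRing (Localization.AtPrime (Q'.comap E)) :=
    gor_of_ringEquiv
      (IsLocalization.ringEquivOfRingEquiv (Localization.AtPrime (Q'.comap E))
        (Localization.AtPrime Q') E (E.map_primeCompl_comap_eq Q')).symm h1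
  have hP' : P = (Q'.comap E).comap (Ideal.Quotient.mk (Ideal.span {t})) := by
    rw [hP]
    ext r
    rw [Ideal.mem_comap, Ideal.mem_comap, Ideal.mem_comap, hE]
  exact (gor_atPrime_iff_quot t ht (Q'.comap E) P hP').2 h2

end transfer

end Groth.Agent.Lib.Helper20.GorStarTransfer
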