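import Mathlib
import Groth.Prelude.Def_GrLC
import Groth.Agent.Lib.Helper20.GrPos

/-!
# Finiteness of pieces of finitely generated graded modules; homogeneous prime avoidance (helper20)
-/

set_option autoImplicit false
set_option linter.unusedSectionVars false
set_option linter.unusedVariables false

universe u

open DirectSum GrLC Groth.Agent.Lib.Helper20.GrLCBasic Groth.Agent.Lib.Helper20.GrPos

namespace Groth.Agent.Lib.Helper20.GrFin1

section noeth

variable {ι : Type} [AddCommGroup ι] [DecidableEq ι] {R : Type u} [CommRing R]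
  (𝒜 : ι → AddSubgroup R) [GradedRing 𝒜]
  {M : Type u} [AddCommGroup M] [Module R M] (ℳ : ι → AddSubgroup M) [DirectSum.Decomposition ℳ]
  [SetLike.GradedSMul 𝒜 ℳ]

/-- The pieces of a Noetherian graded module are Noetherian over the degree-zero subring. -/
theorem isNoetherian_comp [IsNoetherian R M] (n : ι) :
    IsNoetherian (deg0 𝒜) (comp 𝒜 ℳ n) := by
  classical
  rw [isNoetherian_def]
  intro N
  apply Submodule.fg_of_fg_map_injective (comp 𝒜 ℳ n).subtype (Submodule.injective_subtype _)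
  set N' : Submodule (deg0 𝒜) M := N.map (comp 𝒜 ℳ n).subtype with hN'
  have hN'n : ∀ z ∈ N', z ∈ ℳ n := by
    rintro _ ⟨p, -, rfl⟩
    exact p.2
  have hfg : (Submodule.span R (N' : Set M)).FG := IsNoetherian.noetherian _
  obtain ⟨T, hTN, hspan⟩ := (Submodule.fg_span_iff_fg_span_finset_subset (N' : Set M)).1 hfg
  refine ⟨T, le_antisymm (Submodule.span_le.2 hTN) ?_⟩
  intro z hz
  have hz1 : z ∈ Submodule.span R (T : Set M) := by
    rw [← hspan]
    exact Submodule.subset_span hz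
  obtain ⟨f, -, hsum⟩ := Submodule.mem_span_finset.1 hz1
  have hzn : z ∈ ℳ n := hN'n z hz
  have : z = ∑ t ∈ T, (⟨((decompose 𝒜 (f t) 0 : 𝒜 0) : R), SetLike.coe_mem _⟩ : deg0 𝒜) • t := by
    conv_lhs => rw [← decompose_of_mem_same ℳ hzn, ← hsum]
    rw [decompose_sum, DFinsupp.finsetSum_apply, AddSubmonoidClass.coe_finsetSum]
    refine Finset.sum_congr rfl fun t ht => ?_
    have h1 := decompose_smul_right 𝒜 ℳ (hN'n t (hTN ht)) (f t) 0
    rw [zero_add] at h1
    rw [h1]
    rfl
  rw [this]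
  exact Submodule.sum_mem _ fun t ht => Submodule.smul_mem _ _ (Submodule.subset_span ht)

end noeth

section pos

variable {R : Type u} [CommRing R] (𝒜 : ℤ → AddSubgroup R) [GradedRing 𝒜]
  {M : Type u} [AddCommGroup M] [Module R M] (ℳ : ℤ → AddSubgroup M) [DirectSum.Decomposition ℳ]
  [SetLike.GradedSMul 𝒜 ℳ]

/-- large pieces of a positively graded Noetherian ring lie in powers of the irrelevant ideal. -/
theorem exists_le_pow [IsNoetherianRing R] (a : Ideal R)
    (ha : a = Ideal.span (⋃ n ∈ Set.Ioi (0 : ℤ), (𝒜 n : Set R))) :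
    ∃ e : ℤ, 0 < e ∧ ∀ (k : ℕ) (d : ℤ), (k : ℤ) * e ≤ d → 0 < d → ∀ r ∈ 𝒜 d, r ∈ a ^ k := by
  classical
  have hfg : (Submodule.span R (⋃ n ∈ Set.Ioi (0 : ℤ), (𝒜 n : Set R))).FG :=
    IsNoetherian.noetherian _
  obtain ⟨T, hTG, hspan⟩ := (Submodule.fg_span_iff_fg_span_finset_subset _).1 hfg
  have hTdeg : ∀ t ∈ T, ∃ n : ℤ, 0 < n ∧ t ∈ 𝒜 n := by
    intro t ht
    obtain ⟨n, hn, htn⟩ := Set.mem_iUnion₂.1 (hTG ht)
    exact ⟨n, hn, htn⟩
  let deg : R → ℤ := fun x => if hx : ∃ n : ℤ, 0 < n ∧ x ∈ 𝒜 n then hx.choose else 1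
  have hdeg : ∀ t ∈ T, 0 < deg t ∧ t ∈ 𝒜 (deg t) := by
    intro t ht
    have h1 := hTdeg t ht
    simp only [deg, dif_pos h1]
    exact h1.choose_spec
  obtain ⟨D, hD⟩ := (T.image deg).exists_le
  refine ⟨max D 1, lt_of_lt_of_le one_pos (le_max_right _ _), ?_⟩
  intro k
  induction k with
  | zero =>
    intro d _ _ r _
    rw [pow_zero, Ideal.one_eq_top]
    trivial
  | succ k ih =>
    intro d hd hdpos r hr
    have hra : r ∈ Submodule.span R (T : Set R) := by
      rw [← hspan]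
      exact Ideal.subset_span (Set.mem_iUnion₂.2 ⟨d, hdpos, hr⟩)
    obtain ⟨f, -, hsum⟩ := Submodule.mem_span_finset.1 hra
    have hrd : r = ((decompose 𝒜 r d : 𝒜 d) : R) := (decompose_of_mem_same 𝒜 hr).symm
    rw [hrd, ← hsum, decompose_sum, DFinsupp.finsetSum_apply, AddSubmonoidClass.coe_finsetSum]
    refine Ideal.sum_mem _ fun t ht => ?_
    obtain ⟨hpos_t, hmem_t⟩ := hdeg t ht
    obtain ⟨e', he'⟩ : ∃ e', d = e' + deg t := ⟨d - deg t, by ring⟩
    rw [he', decompose_smul_right 𝒜 𝒜 hmem_t (f t) e', pow_succ, smul_eq_mul]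
    have hta : t ∈ a := by
      rw [ha]
      exact Ideal.subset_span (hTG ht)
    have hdt : deg t ≤ D := hD _ (Finset.mem_image_of_mem deg ht)
    have hke : (k : ℤ) * max D 1 ≤ e' := by
      have h1 : ((k + 1 : ℕ) : ℤ) * max D 1 = (k : ℤ) * max D 1 + max D 1 := by
        push_cast; ring
      have h2 : deg t ≤ max D 1 := le_trans hdt (le_max_left _ _)
      omega
    by_cases hk0 : k = 0
    · subst hk0
      rw [pow_zero, Ideal.one_eq_top, Ideal.top_mul]
      exact Ideal.mul_mem_left _ _ hta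
    · have he'pos : 0 < e' := by
        have h3 : (1 : ℤ) ≤ (k : ℤ) := by exact_mod_cast Nat.one_le_iff_ne_zero.2 hk0
        have h4 : (1 : ℤ) ≤ max D 1 := le_max_right _ _
        have h5 : (1 : ℤ) * 1 ≤ (k : ℤ) * max D 1 := mul_le_mul h3 h4 (by norm_num) (by omega)
        omega
      exact Ideal.mul_mem_mul (ih e' hke he'pos _ (SetLike.coe_mem _)) hta

include 𝒜 in
/-- If a power of the irrelevant ideal kills a finitely generated graded module over a
positively graded Noetherian ring, the module vanishes in large degrees. -/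
theorem eventually_bot_of_pow_smul [IsNoetherianRing R] [Module.Finite R M] (a : Ideal R)
    (ha : a = Ideal.span (⋃ n ∈ Set.Ioi (0 : ℤ), (𝒜 n : Set R))) (k : ℕ)
    (h : ∀ c ∈ a ^ k, ∀ m : M, c • m = 0) : ∃ n₀ : ℤ, ∀ n : ℤ, n₀ ≤ n → ℳ n = ⊥ := by
  classical
  obtain ⟨e, hepos, he⟩ := exists_le_pow 𝒜 a ha
  obtain ⟨T, hT, hspan⟩ := Groth.Agent.Lib.Helper20.GrLCExt.exists_homogeneous_generators (R := R) ℳ
  let deg : M → ℤ := fun x => if hx : ∃ g, x ∈ ℳ g then hx.choose else 0
  have hdeg : ∀ x ∈ T, x ∈ ℳ (deg x) := by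
    intro x hx
    have h1 := hT x hx
    simp only [deg, dif_pos h1]
    exact h1.choose_spec
  obtain ⟨D, hD⟩ := (T.image deg).exists_le
  refine ⟨D + k * e + 1, fun n hn => ?_⟩
  rw [eq_bot_iff]
  intro x hx
  rw [AddSubgroup.mem_bot]
  have hxs : x ∈ Submodule.span R (T : Set M) := by rw [hspan]; trivial
  obtain ⟨f, -, hsum⟩ := Submodule.mem_span_finset.1 hxs
  rw [← decompose_of_mem_same ℳ hx, ← hsum, decompose_sum, DFinsupp.finsetSum_apply,
    AddSubmonoidClass.coe_finsetSum]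
  refine Finset.sum_eq_zero fun t ht => ?_
  have hdt : deg t ≤ D := hD _ (Finset.mem_image_of_mem deg ht)
  obtain ⟨e', he'⟩ : ∃ e', n = e' + deg t := ⟨n - deg t, by ring⟩
  subst he'
  rw [decompose_smul_right 𝒜 ℳ (hdeg t ht) (f t) e']
  have hk1 : (k : ℤ) * e ≤ e' := by omega
  have hk2 : 0 < e' := by
    have : 0 ≤ (k : ℤ) * e := mul_nonneg (by positivity) hepos.le
    omega
  exact h _ (he k e' hk1 hk2 _ (SetLike.coe_mem _)) t

end pos

section avoid

variable {R : Type u} [CommRing R] (𝒜 : ℤ → AddSubgroup R) [GradedRing 𝒜]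

/-- **homogeneous prime avoidance** for ideals generated in positive degrees. -/
theorem exists_homogeneous_notMem (a : Ideal R)
    (ha : a = Ideal.span (⋃ n ∈ Set.Ioi (0 : ℤ), (𝒜 n : Set R))) :
    ∀ (n : ℕ) (s : Finset (Ideal R)), s.card = n → (∀ P ∈ s, P.IsPrime) →
      (∀ P ∈ s, ¬ a ≤ P) →
      ∃ d : ℕ, 0 < d ∧ ∃ x ∈ 𝒜 (d : ℤ), ∀ P ∈ s, x ∉ P := by
  classical
  have hone : ∀ Q : Ideal R, ¬ a ≤ Q → ∃ d : ℕ, 0 < d ∧ ∃ x ∈ 𝒜 (d : ℤ), x ∉ Q := by
    intro Q hQ
    by_contra hcon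
    push Not at hcon
    apply hQ
    rw [ha, Ideal.span_le]
    intro x hx
    obtain ⟨n, hn, hxn⟩ := Set.mem_iUnion₂.1 hx
    have hn' : 0 < n := hn
    obtain ⟨d, rfl⟩ : ∃ d : ℕ, n = (d : ℤ) := ⟨n.toNat, (Int.toNat_of_nonneg hn'.le).symm⟩
    exact hcon d (by exact_mod_cast hn') x hxn
  intro n
  induction n with
  | zero =>
    intro s hs _ _
    rw [Finset.card_eq_zero] at hs
    subst hs
    exact ⟨1, one_pos, 0, zero_mem _, fun P hP => absurd hP (Finset.notMem_empty P)⟩
  | succ n ih =>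
    intro s hs hprime hirr
    have hIH : ∀ Q ∈ s, ∃ d : ℕ, 0 < d ∧ ∃ x ∈ 𝒜 (d : ℤ), ∀ P ∈ s.erase Q, x ∉ P := by
      intro Q hQ
      refine ih (s.erase Q) ?_ (fun P hP => hprime P (Finset.mem_of_mem_erase hP))
        (fun P hP => hirr P (Finset.mem_of_mem_erase hP))
      rw [Finset.card_erase_of_mem hQ, hs]
      rfl
    choose d hd x hx havoid using hIH
    by_cases hgood : ∃ Q, ∃ hQ : Q ∈ s, x Q hQ ∉ Q
    · obtain ⟨Q, hQ, hxQ⟩ := hgood
      refine ⟨d Q hQ, hd Q hQ, x Q hQ, hx Q hQ, fun P hP => ?_⟩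
      by_cases hPQ : P = Q
      · subst hPQ; exact hxQ
      · exact havoid Q hQ P (Finset.mem_erase.2 ⟨hPQ, hP⟩)
    · push Not at hgood
      have hne : s.Nonempty := by
        rw [← Finset.card_pos, hs]; exact Nat.succ_pos n
      obtain ⟨Q₀, hQ₀⟩ := hne
      rcases Nat.eq_zero_or_pos n with hn0 | hnpos
      · subst hn0
        have hs1 : s = {Q₀} := by
          obtain ⟨a, ha⟩ := Finset.card_eq_one.1 hs
          rw [ha] at hQ₀ ⊢
          rw [Finset.mem_singleton] at hQ₀
          rw [hQ₀]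
        obtain ⟨e, he, y, hy, hyQ⟩ := hone Q₀ (hirr Q₀ hQ₀)
        refine ⟨e, he, y, hy, fun P hP => ?_⟩
        rw [hs1, Finset.mem_singleton] at hP
        subst hP
        exact hyQ
      · haveI := hprime Q₀ hQ₀
        set t := s.erase Q₀ with ht
        have htne : t.Nonempty := by
          rw [← Finset.card_pos, ht, Finset.card_erase_of_mem hQ₀, hs]
          simpa using hnpos
        set u := x Q₀ hQ₀ with hu
        set d₀ := d Q₀ hQ₀ with hd₀
        set v := ∏ Q ∈ t.attach, x Q.1 (Finset.mem_of_mem_erase Q.2) with hv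
        set e := ∑ Q ∈ t.attach, d Q.1 (Finset.mem_of_mem_erase Q.2) with he
        have hepos : 0 < e := by
          obtain ⟨Q₁, hQ₁⟩ := htne
          refine lt_of_lt_of_le (hd Q₁ (Finset.mem_of_mem_erase hQ₁)) ?_
          exact Finset.single_le_sum
            (f := fun Q : {x // x ∈ t} => d Q.1 (Finset.mem_of_mem_erase Q.2))
            (fun _ _ => Nat.zero_le _) (Finset.mem_attach t ⟨Q₁, hQ₁⟩)
        have hvmem : v ∈ 𝒜 ((e : ℕ) : ℤ) := by
          have h1 := SetLike.prod_mem_graded 𝒜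
            (fun Q : {x // x ∈ t} => ((d Q.1 (Finset.mem_of_mem_erase Q.2) : ℕ) : ℤ))
            (fun Q : {x // x ∈ t} => x Q.1 (Finset.mem_of_mem_erase Q.2))
            (F := t.attach) (fun Q _ => hx Q.1 (Finset.mem_of_mem_erase Q.2))
          have h2 : (∑ Q ∈ t.attach, ((d Q.1 (Finset.mem_of_mem_erase Q.2) : ℕ) : ℤ)) =
              ((e : ℕ) : ℤ) := by
            rw [he]; push_cast; rfl
          rw [← h2]
          exact h1
        have humem : u ∈ 𝒜 ((d₀ : ℕ) : ℤ) := hx Q₀ hQ₀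
        have huQ₀ : u ∈ Q₀ := hgood Q₀ hQ₀
        have huP : ∀ P ∈ t, u ∉ P := havoid Q₀ hQ₀
        have hvP : ∀ P ∈ t, v ∈ P := by
          intro P hP
          have hdvd : x P (Finset.mem_of_mem_erase hP) ∣ v :=
            Finset.dvd_prod_of_mem
              (fun Q : {x // x ∈ t} => x Q.1 (Finset.mem_of_mem_erase Q.2))
              (Finset.mem_attach t ⟨P, hP⟩)
          obtain ⟨c, hc⟩ := hdvd
          rw [hc]
          exact Ideal.mul_mem_right _ _ (hgood P (Finset.mem_of_mem_erase hP))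
        have hvQ₀ : v ∉ Q₀ := by
          intro hmem
          obtain ⟨Q, -, hQmem⟩ := (Ideal.IsPrime.prod_mem_iff (hp := hprime Q₀ hQ₀)).1 hmem
          have hQs : Q.1 ∈ s := Finset.mem_of_mem_erase Q.2
          have hne : Q₀ ≠ Q.1 := by
            intro h
            have h2 : Q.1 ∈ t := Q.2
            rw [← h] at h2
            exact Finset.notMem_erase Q₀ s h2
          exact havoid Q.1 hQs Q₀ (Finset.mem_erase.2 ⟨hne, hQ₀⟩) hQmem
        refine ⟨d₀ * e, Nat.mul_pos (hd Q₀ hQ₀) hepos, u ^ e + v ^ d₀, ?_, ?_⟩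
        · refine add_mem ?_ ?_
          · have := SetLike.pow_mem_graded e humem
            rw [nsmul_eq_mul] at this
            have h2 : ((e : ℕ) : ℤ) * ((d₀ : ℕ) : ℤ) = ((d₀ * e : ℕ) : ℤ) := by
              push_cast; ring
            rwa [h2] at this
          · have := SetLike.pow_mem_graded d₀ hvmem
            rw [nsmul_eq_mul] at this
            have h2 : ((d₀ : ℕ) : ℤ) * ((e : ℕ) : ℤ) = ((d₀ * e : ℕ) : ℤ) := by
              push_cast; ring
            rwa [h2] at this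
        · intro P hP
          by_cases hPQ : P = Q₀
          · subst hPQ
            intro hmem
            have h1 : v ^ d₀ ∈ P := by
              have := P.sub_mem hmem (P.pow_mem_of_mem huQ₀ e hepos)
              rwa [add_sub_cancel_left] at this
            exact hvQ₀ ((hprime P hP).mem_of_pow_mem _ h1)
          · have hPt : P ∈ t := Finset.mem_erase.2 ⟨hPQ, hP⟩
            intro hmem
            have h1 : u ^ e ∈ P := by
              have := P.sub_mem hmem (P.pow_mem_of_mem (hvP P hPt) d₀ (hd Q₀ hQ₀))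
              rwa [add_sub_cancel_right] at this
            exact huP P hPt ((hprime P (Finset.mem_of_mem_erase hPt)).mem_of_pow_mem _ h1)

variable {M : Type u} [AddCommGroup M] [Module R M]

/-- a finitely generated module without `a`-torsion has a homogeneous nonzerodivisor of
positive degree. -/
theorem exists_homogeneous_regular [IsNoetherianRing R] [Module.Finite R M] (a : Ideal R)
    (ha : a = Ideal.span (⋃ n ∈ Set.Ioi (0 : ℤ), (𝒜 n : Set R)))
    (htf : ∀ m : M, (∀ r ∈ a, r • m = 0) → m = 0) :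
    ∃ d : ℕ, 0 < d ∧ ∃ x ∈ 𝒜 (d : ℤ), IsSMulRegular M x := by
  classical
  have hfin : (associatedPrimes R M).Finite := associatedPrimes.finite R M
  obtain ⟨d, hd, x, hx, hxP⟩ := exists_homogeneous_notMem 𝒜 a ha _ hfin.toFinset rfl
    (fun P hP => ((hfin.mem_toFinset).1 hP).isPrime)
    (fun P hP hle => by
      have hP' := (hfin.mem_toFinset).1 hP
      obtain ⟨hprime, m, hm⟩ := isAssociatedPrime_iff.1 hP'
      have hm0 : m = 0 := by
        apply htf
        intro r hr
        have : r ∈ P := hle hr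
        rw [hm, Submodule.mem_colon_singleton, Submodule.mem_bot] at this
        exact this
      subst hm0
      apply hprime.ne_top
      rw [hm, eq_top_iff]
      intro r _
      rw [Submodule.mem_colon_singleton, smul_zero]
      exact Submodule.zero_mem _)
  refine ⟨d, hd, x, hx, ?_⟩
  by_contra hreg
  have h1 : x ∈ ({r : R | IsSMulRegular M r})ᶜ := hreg
  rw [← biUnion_associatedPrimes_eq_compl_regular R M] at h1
  obtain ⟨P, hP, hxPmem⟩ := Set.mem_iUnion₂.1 h1
  exact hxP P ((hfin.mem_toFinset).2 hP) hxPmem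

end avoid

end Groth.Agent.Lib.Helper20.GrFin1
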