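import Mathlib
import Groth.Prelude.Def_GrLC
import Groth.Agent.Lib.Helper20.GrLES2
import Groth.Agent.Lib.Helper20.GrFin1
import Groth.Agent.Lib.Helper20.LCFinite
import Groth.Agent.S13215

/-!
# Finiteness and vanishing of the pieces of graded local cohomology w.r.t. the irrelevant ideal
(Brodmann–Sharp 16.1.5)  (helper20)
-/

set_option autoImplicit false
set_option linter.unusedSectionVars false
set_option linter.unusedVariables false
set_option linter.style.haveILetI false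

universe u

open CategoryTheory DirectSum GrLC Groth.Agent.Lib.Helper4.LC Groth.Agent.Lib.Helper20.GrLCBasic
  Groth.Agent.Lib.Helper20.GrLCQuot Groth.Agent.Lib.Helper20.GrRes
  Groth.Agent.Lib.Helper20.GrLES Groth.Agent.Lib.Helper20.GrLES2
  Groth.Agent.Lib.Helper20.GrFin1

namespace Groth.Agent.Lib.Helper20.GrFin2

variable {R : Type u} [CommRing R] [IsNoetherianRing R] {𝒜 : ℤ → AddSubgroup R} [GradedRing 𝒜]

section general

variable {M : Type u} [AddCommGroup M] [Module R M] {ℳ : ℤ → AddSubgroup M}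
  [DirectSum.Decomposition ℳ] [SetLike.GradedSMul 𝒜 ℳ]

omit [IsNoetherianRing R] in
/-- elements of `E.H a i` are `a`-power torsion. -/
theorem exists_pow_smul_eq_zero (E : StarInjRes 𝒜 ℳ) (a : HomogeneousIdeal 𝒜) (i : ℕ)
    (h : E.H a i) {x : R} (hx : x ∈ a.toIdeal) : ∃ k : ℕ, x ^ k • h = 0 := by
  obtain ⟨z, rfl⟩ := Submodule.mkQ_surjective _ h
  obtain ⟨k, hk⟩ := z.2.1
  refine ⟨k, ?_⟩
  rw [← map_smul]
  have : x ^ k • z = 0 := by
    apply Subtype.ext
    rw [Submodule.coe_smul, Submodule.coe_zero]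
    exact hk _ (Ideal.pow_mem_pow hx k)
  rw [this, map_zero]

/-- the map induced by a lift of multiplication by `x` is multiplication by `x`. -/
theorem Hmap_smul (E : StarInjRes 𝒜 ℳ) (x : R) (k : ℤ)
    (l : Lift E (toCx E) (E.ε ∘ₗ (LinearMap.lsmul R M x)) k) (a : HomogeneousIdeal 𝒜) (i : ℕ)
    (h : E.H a i) : l.Hmap a i h = x • h := by
  apply (cmpE E a i).injective
  rw [cmpE_Hmap, map_smul, HH.smul_eq_map]
  congr 1

omit [IsNoetherianRing R] in
theorem exists_piece_preimage {A B : Type u} [AddCommGroup A] [Module R A] [AddCommGroup B]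
    [Module R B] (𝒜gr : ℤ → AddSubgroup A) (ℬgr : ℤ → AddSubgroup B)
    [DirectSum.Decomposition 𝒜gr] [DirectSum.Decomposition ℬgr] (u : A →ₗ[R] B) (k : ℤ)
    (hu : IsGrHomDeg 𝒜gr ℬgr u k) (n : ℤ) (b : B) (hb : b ∈ ℬgr (n + k)) (a : A)
    (hab : u a = b) : ∃ a' ∈ 𝒜gr n, u a' = b := by
  refine ⟨(DirectSum.decompose 𝒜gr a n : 𝒜gr n), SetLike.coe_mem _, ?_⟩
  rw [← decompose_map_deg 𝒜gr ℬgr u k hu a n, hab, DirectSum.decompose_of_mem_same ℬgr hb]

end general

section base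

variable (a : HomogeneousIdeal 𝒜)
  {M : Type u} [AddCommGroup M] [Module R M] {ℳ : ℤ → AddSubgroup M}
  [DirectSum.Decomposition ℳ] [SetLike.GradedSMul 𝒜 ℳ] (E : StarInjRes 𝒜 ℳ)

omit [IsNoetherianRing R] in
/-- cocycles of degree 0 are images of torsion elements. -/
theorem exists_of_mem_cocyc_zero (z : E.cocyc a 0) :
    ∃ m : M, m ∈ gam a.toIdeal M ∧ E.ε m = z := by
  have hz : (z : (E.X 0).carrier) ∈ LinearMap.range E.ε := by
    rw [← E.exact_zero]
    exact z.2.2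
  obtain ⟨m, hm⟩ := hz
  refine ⟨m, ?_, hm⟩
  obtain ⟨k, hk⟩ := z.2.1
  refine ⟨k, fun r hr => ?_⟩
  apply E.ε_injective
  rw [map_smul, hm, hk r hr, map_zero]

omit [IsNoetherianRing R] in
theorem eps_mem_cocyc_zero (m : M) (hm : m ∈ gam a.toIdeal M) : E.ε m ∈ E.cocyc a 0 := by
  refine ⟨?_, ?_⟩
  · obtain ⟨k, hk⟩ := hm
    refine ⟨k, fun r hr => ?_⟩
    rw [← map_smul, hk r hr, map_zero]
  · have : E.ε m ∈ LinearMap.ker (E.d 0) := by
      rw [E.exact_zero]
      exact LinearMap.mem_range_self _ _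
    exact this

/-- the map `Γ_a(M) → H^0`. -/
noncomputable def h0 : ↥(gam a.toIdeal M) →ₗ[R] E.H a 0 :=
  E.toH a 0 ∘ₗ LinearMap.codRestrict (E.cocyc a 0) (E.ε ∘ₗ (gam a.toIdeal M).subtype)
    (fun y => eps_mem_cocyc_zero a E y.1 y.2)

variable (ℳ) in
/-- the torsion elements of degree `n`. -/
def S0 (n : ℤ) : Submodule (deg0 𝒜) ↥(gam a.toIdeal M) where
  carrier := {y | (y : M) ∈ ℳ n}
  add_mem' := fun {x y} hx hy => (ℳ n).add_mem hx hy
  zero_mem' := (ℳ n).zero_mem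
  smul_mem' := by
    intro r y hy
    have h := SetLike.GradedSMul.smul_mem (A := 𝒜) (B := ℳ) (show (r : R) ∈ 𝒜 0 from r.2) hy
    rw [vadd_eq_add, zero_add] at h
    exact h

omit [IsNoetherianRing R] in
theorem Hcomp_zero_eq (n : ℤ) :
    E.Hcomp a 0 n = (S0 a ℳ n).map ((h0 a E).restrictScalars (deg0 𝒜)) := by
  ext h
  constructor
  · rintro ⟨z, hz, rfl⟩
    obtain ⟨m, hm, hmz⟩ := exists_of_mem_cocyc_zero a E z
    have hmn : m ∈ ℳ n := by
      apply mem_of_map_mem ℳ (E.X 0).gr E.ε E.ε_grHom E.ε_injective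
      rw [hmz]
      exact hz
    refine ⟨⟨m, hm⟩, hmn, ?_⟩
    show E.toH a 0 _ = E.toH a 0 z
    congr 1
    exact Subtype.ext hmz
  · rintro ⟨y, hy, rfl⟩
    exact ⟨_, E.ε_grHom n y.1 hy, rfl⟩

theorem isNoetherian_S0 [Module.Finite R M] (n : ℤ) :
    IsNoetherian (deg0 𝒜) (S0 a ℳ n) := by
  haveI : IsNoetherian R M := isNoetherian_of_isNoetherianRing_of_finite R M
  haveI := isNoetherian_comp 𝒜 ℳ n
  let g : ↥(S0 a ℳ n) →ₗ[deg0 𝒜] M :=
    ((gam a.toIdeal M).subtype.restrictScalars (deg0 𝒜)) ∘ₗ (S0 a ℳ n).subtype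
  let g' : ↥(S0 a ℳ n) →ₗ[deg0 𝒜] ↥(comp 𝒜 ℳ n) :=
    LinearMap.codRestrict (comp 𝒜 ℳ n) g (fun y => y.2)
  refine isNoetherian_of_injective g' ?_
  intro y y' hyy'
  apply Subtype.ext
  apply Subtype.ext
  exact congrArg (fun q : ↥(comp 𝒜 ℳ n) => (q : M)) hyy'

theorem isNoetherian_Hcomp_zero [Module.Finite R M] (n : ℤ) :
    IsNoetherian (deg0 𝒜) (E.Hcomp a 0 n) := by
  rw [Hcomp_zero_eq]
  haveI := isNoetherian_S0 (ℳ := ℳ) a n
  exact isNoetherian_of_surjective
    (((h0 a E).restrictScalars (deg0 𝒜)).submoduleMap (S0 a ℳ n))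
    (LinearMap.range_eq_top.2 (LinearMap.submoduleMap_surjective _ _))

omit [IsNoetherianRing R] in
/-- a finitely generated power-torsion module is killed by a single power. -/
theorem exists_pow_annihilates (I : Ideal R) (T : Type u) [AddCommGroup T] [Module R T]
    [Module.Finite R T] (h : ∀ y : T, ∃ k : ℕ, ∀ r ∈ I ^ k, r • y = 0) :
    ∃ k : ℕ, ∀ c ∈ I ^ k, ∀ y : T, c • y = 0 := by
  classical
  obtain ⟨S, hS⟩ := (Module.Finite.fg_top (R := R) (M := T))
  choose kk hkk using h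
  refine ⟨S.sup kk, fun c hc y => ?_⟩
  have hy : y ∈ Submodule.span R (S : Set T) := by rw [hS]; trivial
  induction hy using Submodule.span_induction with
  | mem s hs => exact hkk s c (Ideal.pow_le_pow_right (Finset.le_sup hs) hc)
  | zero => rw [smul_zero]
  | add x y _ _ hx hy => rw [smul_add, hx, hy, add_zero]
  | smul r x _ hx => rw [smul_comm, hx, smul_zero]

theorem eventually_Hcomp_zero_eq_bot [Module.Finite R M]
    (ha : a.toIdeal = Ideal.span (⋃ n ∈ Set.Ioi (0 : ℤ), (𝒜 n : Set R))) :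
    ∃ r : ℤ, ∀ n : ℤ, r ≤ n → E.Hcomp a 0 n = ⊥ := by
  haveI : IsNoetherian R M := isNoetherian_of_isNoetherianRing_of_finite R M
  have hΓ : (gam a.toIdeal M).IsHomogeneous ℳ := Groth.Agent.S13225.gam_isHomogeneous 𝒜 ℳ a
  letI : DirectSum.Decomposition (subGr ℳ (gam a.toIdeal M)) :=
    (isInternal_subGr ℳ (gam a.toIdeal M) hΓ).chooseDecomposition
  obtain ⟨k, hk⟩ := exists_pow_annihilates a.toIdeal ↥(gam a.toIdeal M) (by
    intro y
    obtain ⟨k, hk⟩ := y.2
    exact ⟨k, fun r hr => Subtype.ext (hk r hr)⟩)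
  obtain ⟨n₀, hn₀⟩ := eventually_bot_of_pow_smul 𝒜 (subGr ℳ (gam a.toIdeal M)) a.toIdeal ha k hk
  refine ⟨n₀, fun n hn => ?_⟩
  rw [eq_bot_iff]
  rintro h ⟨z, hz, rfl⟩
  obtain ⟨m, hm, hmz⟩ := exists_of_mem_cocyc_zero a E z
  have hmn : m ∈ ℳ n := by
    apply mem_of_map_mem ℳ (E.X 0).gr E.ε E.ε_grHom E.ε_injective
    rw [hmz]
    exact hz
  have h1 : (⟨m, hm⟩ : ↥(gam a.toIdeal M)) ∈ subGr ℳ (gam a.toIdeal M) n := hmn
  rw [hn₀ n hn, AddSubgroup.mem_bot] at h1
  have hm0 : m = 0 := congrArg Subtype.val h1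
  have hz0 : z = 0 := by
    apply Subtype.ext
    rw [← hmz, hm0, map_zero]
    rfl
  rw [hz0, map_zero]
  exact zero_mem _

end base

section steps

variable (a : HomogeneousIdeal 𝒜)
  {M : Type u} [AddCommGroup M] [Module R M] {ℳ : ℤ → AddSubgroup M}
  [DirectSum.Decomposition ℳ] [SetLike.GradedSMul 𝒜 ℳ]
  {N : Type u} [AddCommGroup N] [Module R N] {𝒩 : ℤ → AddSubgroup N}
  [DirectSum.Decomposition 𝒩] [SetLike.GradedSMul 𝒜 𝒩]

/-- a surjection with power-torsion kernel induces injections on higher graded local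
cohomology. -/
theorem Hmap_injective_succ (g : M →ₗ[R] N) (hg : Function.Surjective g)
    (hker : ∀ m ∈ LinearMap.ker g, m ∈ gam a.toIdeal M) (E : StarInjRes 𝒜 ℳ)
    (F : StarInjRes 𝒜 𝒩) (k : ℤ) (l : Lift E (toCx F) (F.ε ∘ₗ g) k) (i : ℕ) :
    Function.Injective (l.Hmap a (i + 1)) := by
  have hex : Function.Exact (LinearMap.ker g).subtype g := LinearMap.exact_subtype_ker_map g
  have hS := sesOf_shortExact (LinearMap.ker g).subtype g hex (Submodule.injective_subtype _) hg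
  have h1 : Subsingleton (HH a.toIdeal (sesOf (LinearMap.ker g).subtype g hex).X₁ (i + 1)) := by
    apply HH.subsingleton_of_isPowerTorsion a.toIdeal i (LinearMap.ker g)
    intro y
    obtain ⟨k, hk⟩ := hker y.1 y.2
    exact ⟨k, fun r hr => Subtype.ext (hk r hr)⟩
  have hinj := HH.map_g_injective a.toIdeal hS (i + 1) h1
  have key : ∀ x, cmpE F a (i + 1) (l.Hmap a (i + 1) x) =
      HH.map a.toIdeal (sesOf (LinearMap.ker g).subtype g hex).g (i + 1)
        (cmpE E a (i + 1) x) := fun x => cmpE_Hmap l a (i + 1) x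
  intro x y hxy
  apply (cmpE E a (i + 1)).injective
  apply hinj
  rw [← key, ← key, hxy]

/-- the induction hypothesis / conclusion at cohomological degree `i`. -/
def Good (i : ℕ) : Prop :=
  ∀ (M : Type u) [AddCommGroup M] [Module R M] [Module.Finite R M] (ℳ : ℤ → AddSubgroup M)
    [DirectSum.Decomposition ℳ] [SetLike.GradedSMul 𝒜 ℳ] (E : StarInjRes 𝒜 ℳ),
    (∀ n : ℤ, IsNoetherian (deg0 𝒜) (E.Hcomp a i n)) ∧
      ∃ r : ℤ, ∀ n : ℤ, r ≤ n → E.Hcomp a i n = ⊥

omit [IsNoetherianRing R] in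
theorem range_lsmul_isHomogeneous {t : ℤ} {x : R} (hx : x ∈ 𝒜 t) :
    (LinearMap.range (LinearMap.lsmul R N x)).IsHomogeneous 𝒩 := by
  rintro j _ ⟨m, rfl⟩
  obtain ⟨j', rfl⟩ : ∃ j', j = j' + t := ⟨j - t, by ring⟩
  refine ⟨((DirectSum.decompose 𝒩 m j' : 𝒩 j') : N), ?_⟩
  rw [LinearMap.lsmul_apply, LinearMap.lsmul_apply, decompose_smul_left 𝒜 𝒩 hx m j']

theorem step_regular (ha : a.toIdeal = Ideal.span (⋃ n ∈ Set.Ioi (0 : ℤ), (𝒜 n : Set R)))
    (i : ℕ) [Module.Finite R N] (F : StarInjRes 𝒜 𝒩) (t : ℕ) (ht : 0 < t) (x : R)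
    (hx : x ∈ 𝒜 (t : ℤ)) (hreg : IsSMulRegular N x) (IH : Good a i) :
    (∀ n : ℤ, IsNoetherian (deg0 𝒜) (F.Hcomp a (i + 1) n)) ∧
      ∃ r : ℤ, ∀ n : ℤ, r ≤ n → F.Hcomp a (i + 1) n = ⊥ := by
  classical
  have hxa : x ∈ a.toIdeal := by
    rw [ha]
    exact Ideal.subset_span (Set.mem_iUnion₂.2 ⟨(t : ℤ), by
      rw [Set.mem_Ioi]; exact_mod_cast ht, hx⟩)
  set P : Submodule R N := LinearMap.range (LinearMap.lsmul R N x) with hPdef
  have hP : P.IsHomogeneous 𝒩 := range_lsmul_isHomogeneous hx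
  letI : DirectSum.Decomposition (quotGr 𝒩 P) := (isInternal_quotGr 𝒩 P hP).chooseDecomposition
  obtain ⟨F''⟩ := Groth.Agent.S13215.result R 𝒜 (N ⧸ P) (quotGr 𝒩 P)
  have hf : IsGrHomDeg 𝒩 𝒩 (LinearMap.lsmul R N x) (t : ℤ) := by
    intro n m hm
    have h := SetLike.GradedSMul.smul_mem (A := 𝒜) (B := 𝒩) hx hm
    rw [vadd_eq_add, add_comm] at h
    exact h
  have hg : IsGrHomDeg 𝒩 (quotGr 𝒩 P) P.mkQ 0 := by
    intro n m hm
    rw [add_zero]
    exact mkQ_mem_quotGr 𝒩 P hm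
  have hex : Function.Exact (LinearMap.lsmul R N x) P.mkQ :=
    LinearMap.exact_map_mkQ_range (LinearMap.lsmul R N x)
  have hinj : Function.Injective (LinearMap.lsmul R N x) := hreg
  have hsurj : Function.Surjective P.mkQ := Submodule.mkQ_surjective P
  obtain ⟨lf⟩ := nonempty_lift (LinearMap.lsmul R N x) (t : ℤ) hf F F
  obtain ⟨lg⟩ := nonempty_lift P.mkQ 0 hg F F''
  obtain ⟨D, hD, -, -, -, -, -, h5, h6⟩ :=
    exists_grLES (LinearMap.lsmul R N x) P.mkQ (t : ℤ) 0 hf hg hinj hsurj hex F F F'' a lf lg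
  obtain ⟨hfin'', s, hs⟩ := IH (N ⧸ P) (quotGr 𝒩 P) F''
  letI := decH F'' a i
  letI := decH F a (i + 1)
  have hDdeg : IsGrHomDeg (F''.Hgr a i) (F.Hgr a (i + 1)) (D i) (-0 + -(t : ℤ)) :=
    fun n z hz => hD i n z hz
  -- exactness on pieces
  have key : ∀ n y, y ∈ F.Hcomp a (i + 1) n → x • y = 0 →
      ∃ z ∈ F''.Hcomp a i (n + t), D i z = y := by
    intro n y hy hxy
    obtain ⟨z, hz⟩ := h6 i y (by rw [Hmap_smul]; exact hxy)
    have hy' : y ∈ F.Hgr a (i + 1) ((n + t) + (-0 + -(t : ℤ))) := by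
      have : (n + t) + (-0 + -(t : ℤ)) = n := by ring
      rw [this]
      exact hy
    obtain ⟨z', hz', hz'y⟩ := exists_piece_preimage (F''.Hgr a i) (F.Hgr a (i + 1)) (D i)
      (-0 + -(t : ℤ)) hDdeg (n + t) y hy' z hz
    exact ⟨z', hz', hz'y⟩
  have hsmul : ∀ n y, y ∈ F.Hcomp a (i + 1) n → x • y ∈ F.Hcomp a (i + 1) (n + t) := by
    intro n y hy
    have := smul_mem_Hgr F a (i + 1) hx (h := y) (j := n) hy
    rw [add_comm (t : ℤ) n] at this
    exact this
  have inj : ∀ n, s ≤ n + t → ∀ y ∈ F.Hcomp a (i + 1) n, x • y = 0 → y = 0 := by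
    intro n hn y hy hxy
    obtain ⟨z, hz, rfl⟩ := key n y hy hxy
    rw [hs (n + t) hn] at hz
    rw [(Submodule.mem_bot _).1 hz, map_zero]
  have van : ∀ k : ℕ, ∀ n, s - t ≤ n → ∀ y ∈ F.Hcomp a (i + 1) n, x ^ k • y = 0 → y = 0 := by
    intro k
    induction k with
    | zero =>
      intro n _ y _ h0
      rwa [pow_zero, one_smul] at h0
    | succ k ih =>
      intro n hn y hy h0
      have h1 : x • y = 0 := by
        apply ih (n + t) (by omega) (x • y) (hsmul n y hy)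
        rw [← mul_smul, ← pow_succ]
        exact h0
      exact inj n (by omega) y hy h1
  have hvan : ∀ n, s - t ≤ n → F.Hcomp a (i + 1) n = ⊥ := by
    intro n hn
    rw [eq_bot_iff]
    intro y hy
    obtain ⟨k, hk⟩ := exists_pow_smul_eq_zero F a (i + 1) y hxa
    rw [Submodule.mem_bot]
    exact van k n hn y hy hk
  refine ⟨?_, s - t, hvan⟩
  have hfin : ∀ k : ℕ, ∀ n : ℤ, s - t ≤ n + k * t →
      IsNoetherian (deg0 𝒜) (F.Hcomp a (i + 1) n) := by
    intro k
    induction k with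
    | zero =>
      intro n hn
      rw [hvan n (by simpa using hn)]
      infer_instance
    | succ k ih =>
      intro n hn
      haveI h1 : IsNoetherian (deg0 𝒜) (F.Hcomp a (i + 1) (n + t)) := by
        apply ih (n + t)
        push_cast at hn ⊢
        linarith
      haveI h2 : IsNoetherian (deg0 𝒜) (F''.Hcomp a i (n + t)) := hfin'' (n + t)
      let D' : F''.Hcomp a i (n + t) →ₗ[deg0 𝒜] F.Hcomp a (i + 1) n :=
        ((D i).restrictScalars (deg0 𝒜)).restrict (fun z hz => by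
          have := hD i (n + t) z hz
          have e : (n + t) + (-0 + -(t : ℤ)) = n := by ring
          rw [e] at this
          exact this)
      let x' : F.Hcomp a (i + 1) n →ₗ[deg0 𝒜] F.Hcomp a (i + 1) (n + t) :=
        ((LinearMap.lsmul R (F.H a (i + 1)) x).restrictScalars (deg0 𝒜)).restrict
          (fun y hy => hsmul n y hy)
      refine isNoetherian_of_range_eq_ker D' x' ?_
      ext y
      constructor
      · rintro ⟨z, rfl⟩
        rw [LinearMap.mem_ker]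
        apply Subtype.ext
        show x • D i z.1 = 0
        have := h5 i z.1
        rwa [Hmap_smul] at this
      · intro hy
        rw [LinearMap.mem_ker] at hy
        have hxy : x • (y : F.H a (i + 1)) = 0 := congrArg Subtype.val hy
        obtain ⟨z, hz, hzy⟩ := key n y.1 y.2 hxy
        exact ⟨⟨z, hz⟩, Subtype.ext hzy⟩
  intro n
  obtain ⟨k, hk⟩ : ∃ k : ℕ, s - t ≤ n + k * t := by
    refine ⟨(s - t - n).toNat, ?_⟩
    have h1 : (s - t - n) ≤ ((s - t - n).toNat : ℤ) := Int.self_le_toNat _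
    have h2 : ((s - t - n).toNat : ℤ) ≤ ((s - t - n).toNat : ℤ) * t := by
      have : (1 : ℤ) ≤ t := by exact_mod_cast ht
      nlinarith [Int.natCast_nonneg (s - t - n).toNat]
    linarith
  exact hfin k n hk

end steps

section main

variable (a : HomogeneousIdeal 𝒜)

/-- **Brodmann–Sharp 16.1.5**: pieces of graded local cohomology w.r.t. the irrelevant ideal are
Noetherian over `R_0` and vanish in large degrees. -/
theorem good (ha : a.toIdeal = Ideal.span (⋃ n ∈ Set.Ioi (0 : ℤ), (𝒜 n : Set R))) :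
    ∀ i : ℕ, Good a i := by
  intro i
  induction i with
  | zero =>
    intro M _ _ _ ℳ _ _ E
    exact ⟨fun n => isNoetherian_Hcomp_zero a E n, eventually_Hcomp_zero_eq_bot a E ha⟩
  | succ i ih =>
    intro M _ _ _ ℳ _ _ E
    have hΓ : (gam a.toIdeal M).IsHomogeneous ℳ := Groth.Agent.S13225.gam_isHomogeneous 𝒜 ℳ a
    letI : DirectSum.Decomposition (quotGr ℳ (gam a.toIdeal M)) :=
      (isInternal_quotGr ℳ (gam a.toIdeal M) hΓ).chooseDecomposition
    obtain ⟨Ē⟩ := Groth.Agent.S13215.result R 𝒜 (M ⧸ gam a.toIdeal M)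
      (quotGr ℳ (gam a.toIdeal M))
    have hg : IsGrHomDeg ℳ (quotGr ℳ (gam a.toIdeal M)) (gam a.toIdeal M).mkQ 0 := by
      intro n m hm
      rw [add_zero]
      exact mkQ_mem_quotGr ℳ _ hm
    obtain ⟨lπ⟩ := nonempty_lift (gam a.toIdeal M).mkQ 0 hg E Ē
    have hΦinj : Function.Injective (lπ.Hmap a (i + 1)) :=
      Hmap_injective_succ a (gam a.toIdeal M).mkQ (Submodule.mkQ_surjective _)
        (fun m hm => by rwa [Submodule.ker_mkQ] at hm) E Ē 0 lπ i
    have hΦmem : ∀ n y, y ∈ E.Hcomp a (i + 1) n → lπ.Hmap a (i + 1) y ∈ Ē.Hcomp a (i + 1) n := by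
      intro n y hy
      have := lπ.Hmap_mem a (i + 1) n y hy
      rwa [add_zero] at this
    have htf : ∀ m : M ⧸ gam a.toIdeal M, (∀ r ∈ a.toIdeal, r • m = 0) → m = 0 := by
      intro m hm
      have h1 : m ∈ DRing.torsionSub a.toIdeal (M ⧸ DRing.torsionSub a.toIdeal M) :=
        ⟨1, fun r hr => hm r (by rwa [pow_one] at hr)⟩
      rw [Groth.Agent.Lib.Helper20.LCFinite.torsionSub_quotient_eq_bot] at h1
      exact (Submodule.mem_bot R).1 h1
    obtain ⟨t, ht, x, hx, hreg⟩ := exists_homogeneous_regular 𝒜 a.toIdeal ha htf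
    obtain ⟨hfinQ, r, hr⟩ := step_regular a ha i Ē t ht x hx hreg ih
    refine ⟨fun n => ?_, r, fun n hn => ?_⟩
    · haveI := hfinQ n
      let Φ' : E.Hcomp a (i + 1) n →ₗ[deg0 𝒜] Ē.Hcomp a (i + 1) n :=
        ((lπ.Hmap a (i + 1)).restrictScalars (deg0 𝒜)).restrict (hΦmem n)
      refine isNoetherian_of_injective Φ' ?_
      intro y y' hyy'
      apply Subtype.ext
      apply hΦinj
      exact congrArg Subtype.val hyy'
    · rw [eq_bot_iff]
      intro y hy
      have h1 := hΦmem n y hy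
      rw [hr n hn, Submodule.mem_bot] at h1
      rw [Submodule.mem_bot]
      apply hΦinj
      rw [h1, map_zero]

end main

end Groth.Agent.Lib.Helper20.GrFin2
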