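import Mathlib
import Groth.Prelude.Def_GrLC
import Groth.Agent.Lib.Helper20.GrFin2

/-!
# The end of graded local cohomology under regular quotients (a-invariant formula)  (helper20)
-/

set_option autoImplicit false
set_option linter.unusedSectionVars false
set_option linter.unusedVariables false
set_option linter.style.haveILetI false

universe u

open Pointwise CategoryTheory DirectSum GrLC Groth.Agent.Lib.Helper4.LC Groth.Agent.Lib.Helper20.GrLCBasic
  Groth.Agent.Lib.Helper20.GrLCQuot Groth.Agent.Lib.Helper20.GrRes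
  Groth.Agent.Lib.Helper20.GrLES Groth.Agent.Lib.Helper20.GrLES2
  Groth.Agent.Lib.Helper20.GrFin1 Groth.Agent.Lib.Helper20.GrFin2

namespace Groth.Agent.Lib.Helper20.GrAinv

section order

variable {A B : Type u} [AddCommGroup A] [AddCommGroup B]

theorem endDeg_congr (𝒩 : ℤ → AddSubgroup A) (𝒩' : ℤ → AddSubgroup B)
    (h : ∀ n, 𝒩 n ≠ ⊥ ↔ 𝒩' n ≠ ⊥) : endDeg 𝒩 = endDeg 𝒩' := by
  unfold endDeg
  apply le_antisymm
  · exact iSup₂_le fun n hn => le_iSup₂ (f := fun (n : ℤ) (_ : 𝒩' n ≠ ⊥) =>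
      ((n : WithTop ℤ) : WithBot (WithTop ℤ))) n ((h n).1 hn)
  · exact iSup₂_le fun n hn => le_iSup₂ (f := fun (n : ℤ) (_ : 𝒩 n ≠ ⊥) =>
      ((n : WithTop ℤ) : WithBot (WithTop ℤ))) n ((h n).2 hn)

theorem endDeg_eq_bot (𝒩 : ℤ → AddSubgroup A) (h : ∀ n, 𝒩 n = ⊥) : endDeg 𝒩 = ⊥ := by
  unfold endDeg
  rw [eq_bot_iff]
  exact iSup₂_le fun n hn => absurd (h n) hn

theorem endDeg_eq_add (𝒩 : ℤ → AddSubgroup A) (𝒩' : ℤ → AddSubgroup B) (e : ℤ)
    (h1 : ∀ j, 𝒩 j ≠ ⊥ → 𝒩' (j - e) ≠ ⊥)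
    (h2 : ∀ j', 𝒩' j' ≠ ⊥ → ∃ j, j' + e ≤ j ∧ 𝒩 j ≠ ⊥) :
    endDeg 𝒩 = endDeg 𝒩' + ((e : WithTop ℤ) : WithBot (WithTop ℤ)) := by
  apply le_antisymm
  · refine iSup₂_le fun j hj => ?_
    have h3 := le_endDeg 𝒩' (h1 j hj)
    calc ((j : WithTop ℤ) : WithBot (WithTop ℤ))
        = (((j - e : ℤ) : WithTop ℤ) : WithBot (WithTop ℤ)) +
            ((e : WithTop ℤ) : WithBot (WithTop ℤ)) := by
          rw [← WithBot.coe_add, ← WithTop.coe_add, sub_add_cancel]
      _ ≤ endDeg 𝒩' + ((e : WithTop ℤ) : WithBot (WithTop ℤ)) := by gcongr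
  · induction hv : endDeg 𝒩 using WithBot.recBotCoe with
    | bot =>
      have hall : ∀ j, 𝒩 j = ⊥ := by
        intro j
        by_contra hj
        have := le_endDeg 𝒩 hj
        rw [hv] at this
        exact absurd this (by simp)
      have hall' : ∀ j', 𝒩' j' = ⊥ := by
        intro j'
        by_contra hj'
        obtain ⟨j, -, hj⟩ := h2 j' hj'
        exact hj (hall j)
      rw [endDeg_eq_bot 𝒩' hall', WithBot.bot_add]
    | coe v =>
      induction v using WithTop.recTopCoe with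
      | top => exact le_top
      | coe b =>
        have hle : endDeg 𝒩' ≤ (((b - e : ℤ) : WithTop ℤ) : WithBot (WithTop ℤ)) := by
          refine iSup₂_le fun j' hj' => ?_
          obtain ⟨j, hjj', hj⟩ := h2 j' hj'
          have h3 := le_endDeg 𝒩 hj
          rw [hv] at h3
          have h4 : j ≤ b := by exact_mod_cast h3
          have h5 : j' ≤ b - e := by omega
          exact_mod_cast h5
        calc endDeg 𝒩' + ((e : WithTop ℤ) : WithBot (WithTop ℤ))
            ≤ (((b - e : ℤ) : WithTop ℤ) : WithBot (WithTop ℤ)) +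
              ((e : WithTop ℤ) : WithBot (WithTop ℤ)) := by gcongr
          _ = ((b : WithTop ℤ) : WithBot (WithTop ℤ)) := by
            rw [← WithBot.coe_add, ← WithTop.coe_add, sub_add_cancel]

end order

variable {R : Type u} [CommRing R] [IsNoetherianRing R] {𝒜 : ℤ → AddSubgroup R} [GradedRing 𝒜]

section stepA

variable (a : HomogeneousIdeal 𝒜)
  {M : Type u} [AddCommGroup M] [Module R M] {ℳ : ℤ → AddSubgroup M}
  [DirectSum.Decomposition ℳ] [SetLike.GradedSMul 𝒜 ℳ]
  {N : Type u} [AddCommGroup N] [Module R N] {𝒩 : ℤ → AddSubgroup N}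
  [DirectSum.Decomposition 𝒩] [SetLike.GradedSMul 𝒜 𝒩]

omit [IsNoetherianRing R] in
theorem exists_ne_zero_of_ne_bot {G : Type u} [AddCommGroup G] {K : AddSubgroup G} (h : K ≠ ⊥) :
    ∃ z ∈ K, z ≠ 0 := by
  by_contra hcon
  push Not at hcon
  apply h
  rw [eq_bot_iff]
  intro z hz
  rw [AddSubgroup.mem_bot]
  exact hcon z hz

omit [IsNoetherianRing R] in
theorem ne_bot_of_mem {G : Type u} [AddCommGroup G] {K : AddSubgroup G} {z : G} (hz : z ∈ K)
    (h0 : z ≠ 0) : K ≠ ⊥ := by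
  intro h
  rw [h, AddSubgroup.mem_bot] at hz
  exact h0 hz

theorem subsingleton_H_of_subsingleton [Subsingleton M] (E : StarInjRes 𝒜 ℳ) (i : ℕ) :
    Subsingleton (E.H a i) :=
  subsingleton_H_of_HH E a i (HH.subsingleton_of_subsingleton a.toIdeal M i)

omit [IsNoetherianRing R] in
theorem pow_smul_mem_Hgr (E : StarInjRes 𝒜 ℳ) (i : ℕ) {x : R} {e : ℤ} (hx : x ∈ 𝒜 e) (k : ℕ)
    {y : E.H a i} {j : ℤ} (hy : y ∈ E.Hgr a i j) : x ^ k • y ∈ E.Hgr a i (j + k * e) := by
  induction k with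
  | zero => simpa using hy
  | succ k ih =>
    have h1 := smul_mem_Hgr E a i hx ih
    rw [pow_succ', mul_smul]
    have e1 : e + (j + (k : ℤ) * e) = j + ((k + 1 : ℕ) : ℤ) * e := by push_cast; ring
    rw [e1] at h1
    exact h1

/-- **one regular quotient**: if `H^c_a(M) = 0`, `x ∈ a` homogeneous of degree `e` and `M`-regular,
then `end H^c_a(M/xM) = end H^{c+1}_a(M) + e`. -/
theorem endDeg_quot (hpos : ∀ n : ℤ, n < 0 → 𝒜 n = ⊥) (E : StarInjRes 𝒜 ℳ) (F : StarInjRes 𝒜 𝒩)
    (x : R) (e : ℤ) (hx : x ∈ 𝒜 e) (hxa : x ∈ a.toIdeal) (hreg : IsSMulRegular M x)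
    (π : M →ₗ[R] N) (hπs : Function.Surjective π) (hπg : IsGrHom ℳ 𝒩 π)
    (hker : LinearMap.ker π = LinearMap.range (LinearMap.lsmul R M x)) (c : ℕ)
    (hc : Subsingleton (E.H a c)) :
    endDeg (F.Hgr a c) = endDeg (E.Hgr a (c + 1)) + ((e : WithTop ℤ) : WithBot (WithTop ℤ)) := by
  classical
  by_cases hM : Subsingleton M
  · haveI : Subsingleton N := hπs.subsingleton
    haveI := subsingleton_H_of_subsingleton a E (c + 1)
    haveI := subsingleton_H_of_subsingleton a F c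
    rw [endDeg_eq_bot (F.Hgr a c) (fun n => Subsingleton.elim _ _),
      endDeg_eq_bot (E.Hgr a (c + 1)) (fun n => Subsingleton.elim _ _), WithBot.bot_add]
  rw [not_subsingleton_iff_nontrivial] at hM
  have he : 0 ≤ e := by
    by_contra hneg
    rw [not_le] at hneg
    have h4 : x ∈ (⊥ : AddSubgroup R) := (hpos e hneg).le hx
    have hx0 : x = 0 := (AddSubgroup.mem_bot).1 h4
    obtain ⟨m₁, m₂, hm⟩ := hM.exists_pair_ne
    apply hm
    apply hreg
    simp [hx0]
  have hf : IsGrHomDeg ℳ ℳ (LinearMap.lsmul R M x) e := by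
    intro n m hm
    have h := SetLike.GradedSMul.smul_mem (A := 𝒜) (B := ℳ) hx hm
    rw [vadd_eq_add, add_comm] at h
    exact h
  have hg : IsGrHomDeg ℳ 𝒩 π 0 := by
    intro n m hm
    rw [add_zero]
    exact hπg n m hm
  have hex : Function.Exact (LinearMap.lsmul R M x) π := by
    rw [LinearMap.exact_iff]
    exact hker
  have hinj : Function.Injective (LinearMap.lsmul R M x) := hreg
  obtain ⟨lf⟩ := nonempty_lift (LinearMap.lsmul R M x) e hf E E
  obtain ⟨lg⟩ := nonempty_lift π 0 hg E F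
  obtain ⟨D, hD, -, -, -, -, h3, h5, h6⟩ :=
    exists_grLES (LinearMap.lsmul R M x) π e 0 hf hg hinj hπs hex E E F a lf lg
  letI := decH F a c
  letI := decH E a (c + 1)
  have hDdeg : IsGrHomDeg (F.Hgr a c) (E.Hgr a (c + 1)) (D c) (-0 + -e) :=
    fun n z hz => hD c n z hz
  have hDinj : ∀ z, D c z = 0 → z = 0 := by
    intro z hz
    obtain ⟨y, rfl⟩ := h3 c z hz
    rw [Subsingleton.elim y 0, map_zero]
  apply endDeg_eq_add
  · intro j hj
    obtain ⟨z, hz, hz0⟩ := exists_ne_zero_of_ne_bot hj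
    have h1 : D c z ∈ E.Hgr a (c + 1) (j - e) := by
      have := hDdeg j z hz
      have e1 : j + (-0 + -e) = j - e := by ring
      rwa [e1] at this
    exact ne_bot_of_mem h1 (fun h0 => hz0 (hDinj z h0))
  · intro j' hj'
    obtain ⟨y, hy, hy0⟩ := exists_ne_zero_of_ne_bot hj'
    have hex' : ∃ k : ℕ, x ^ k • y = 0 := exists_pow_smul_eq_zero E a (c + 1) y hxa
    have hk := Nat.find_spec hex'
    have hkmin := fun k' (hk' : k' < Nat.find hex') => Nat.find_min hex' hk'
    have hkpos : 0 < Nat.find hex' := by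
      rcases Nat.eq_zero_or_pos (Nat.find hex') with h | h
      · rw [h, pow_zero, one_smul] at hk
        exact absurd hk hy0
      · exact h
    obtain ⟨k, hkk⟩ : ∃ k, Nat.find hex' = k + 1 := ⟨Nat.find hex' - 1, by omega⟩
    set y' := x ^ k • y with hy'
    have hy'0 : y' ≠ 0 := hkmin k (by omega)
    have hxy' : x • y' = 0 := by
      rw [hy', ← mul_smul, ← pow_succ', ← hkk]
      exact hk
    have hy'mem : y' ∈ E.Hgr a (c + 1) (j' + k * e) := pow_smul_mem_Hgr a E (c + 1) hx k hy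
    obtain ⟨z, hz⟩ := h6 c y' (by rw [Hmap_smul]; exact hxy')
    have hy'' : y' ∈ E.Hgr a (c + 1) ((j' + k * e + e) + (-0 + -e)) := by
      have e1 : (j' + k * e + e) + (-0 + -e) = j' + k * e := by ring
      rw [e1]
      exact hy'mem
    obtain ⟨z', hz', hz'y⟩ := exists_piece_preimage (F.Hgr a c) (E.Hgr a (c + 1)) (D c)
      (-0 + -e) hDdeg (j' + k * e + e) y' hy'' z hz
    refine ⟨j' + k * e + e, ?_, ne_bot_of_mem hz' ?_⟩
    · have : 0 ≤ (k : ℤ) * e := mul_nonneg (by positivity) he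
      omega
    · intro h0
      apply hy'0
      rw [← hz'y, h0, map_zero]

/-- vanishing propagates to the regular quotient, one degree lower. -/
theorem subsingleton_quot (E : StarInjRes 𝒜 ℳ) (F : StarInjRes 𝒜 𝒩)
    (x : R) (e : ℤ) (hx : x ∈ 𝒜 e) (hreg : IsSMulRegular M x)
    (π : M →ₗ[R] N) (hπs : Function.Surjective π) (hπg : IsGrHom ℳ 𝒩 π)
    (hker : LinearMap.ker π = LinearMap.range (LinearMap.lsmul R M x)) (c : ℕ)
    (hc : ∀ i < c + 1, Subsingleton (E.H a i)) : ∀ i < c, Subsingleton (F.H a i) := by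
  have hf : IsGrHomDeg ℳ ℳ (LinearMap.lsmul R M x) e := by
    intro n m hm
    have h := SetLike.GradedSMul.smul_mem (A := 𝒜) (B := ℳ) hx hm
    rw [vadd_eq_add, add_comm] at h
    exact h
  have hg : IsGrHomDeg ℳ 𝒩 π 0 := by
    intro n m hm
    rw [add_zero]
    exact hπg n m hm
  have hex : Function.Exact (LinearMap.lsmul R M x) π := by
    rw [LinearMap.exact_iff]
    exact hker
  have hinj : Function.Injective (LinearMap.lsmul R M x) := hreg
  obtain ⟨lf⟩ := nonempty_lift (LinearMap.lsmul R M x) e hf E E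
  obtain ⟨lg⟩ := nonempty_lift π 0 hg E F
  obtain ⟨D, -, -, -, -, -, h3, -, -⟩ :=
    exists_grLES (LinearMap.lsmul R M x) π e 0 hf hg hinj hπs hex E E F a lf lg
  intro i hi
  haveI := hc i (by omega)
  haveI := hc (i + 1) (by omega)
  refine subsingleton_of_forall_eq 0 (fun z => ?_)
  obtain ⟨y, rfl⟩ := h3 i z (Subsingleton.elim _ _)
  rw [Subsingleton.elim y 0, map_zero]

/-- a graded isomorphism induces equality of ends. -/
theorem endDeg_of_bijective (E : StarInjRes 𝒜 ℳ) (F : StarInjRes 𝒜 𝒩)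
    (π : M →ₗ[R] N) (hπb : Function.Bijective π) (hπg : IsGrHom ℳ 𝒩 π) (c : ℕ) :
    endDeg (F.Hgr a c) = endDeg (E.Hgr a c) := by
  classical
  have hg : IsGrHomDeg ℳ 𝒩 π 0 := by
    intro n m hm
    rw [add_zero]
    exact hπg n m hm
  obtain ⟨lg⟩ := nonempty_lift π 0 hg E F
  let eπ : M ≃ₗ[R] N := LinearEquiv.ofBijective π hπb
  have hbij : Function.Bijective (lg.Hmap a c) := by
    have key : ∀ y, cmpE F a c (lg.Hmap a c y) =
        HH.mapIso a.toIdeal eπ.toModuleIso c (cmpE E a c y) := fun y => cmpE_Hmap lg a c y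
    constructor
    · intro y y' hyy'
      apply (cmpE E a c).injective
      apply (HH.mapIso a.toIdeal eπ.toModuleIso c).injective
      rw [← key, ← key, hyy']
    · intro z
      obtain ⟨w, hw⟩ := (HH.mapIso a.toIdeal eπ.toModuleIso c).surjective (cmpE F a c z)
      refine ⟨(cmpE E a c).symm w, ?_⟩
      apply (cmpE F a c).injective
      rw [key, LinearEquiv.apply_symm_apply, hw]
  letI := decH F a c
  letI := decH E a c
  have hdeg : IsGrHomDeg (E.Hgr a c) (F.Hgr a c) (lg.Hmap a c) 0 :=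
    fun n y hy => lg.Hmap_mem a c n y hy
  apply endDeg_congr
  intro n
  constructor
  · intro hn
    obtain ⟨z, hz, hz0⟩ := exists_ne_zero_of_ne_bot hn
    obtain ⟨y, hy⟩ := hbij.2 z
    have hz' : z ∈ F.Hgr a c (n + 0) := by rwa [add_zero]
    obtain ⟨y', hy', hy'z⟩ := exists_piece_preimage (E.Hgr a c) (F.Hgr a c) (lg.Hmap a c) 0 hdeg
      n z hz' y hy
    refine ne_bot_of_mem hy' ?_
    intro h0
    apply hz0
    rw [← hy'z, h0, map_zero]
  · intro hn
    obtain ⟨y, hy, hy0⟩ := exists_ne_zero_of_ne_bot hn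
    have h1 := hdeg n y hy
    rw [add_zero] at h1
    refine ne_bot_of_mem h1 ?_
    intro h0
    apply hy0
    apply hbij.1
    rw [h0, map_zero]

end stepA

section induction

variable (a : HomogeneousIdeal 𝒜)

omit [IsNoetherianRing R] in
theorem smul_top_eq_range {M : Type u} [AddCommGroup M] [Module R M] (x : R) :
    (x • (⊤ : Submodule R M)) = LinearMap.range (LinearMap.lsmul R M x) := by
  ext m
  rw [Submodule.mem_smul_pointwise_iff_exists, LinearMap.mem_range]
  constructor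
  · rintro ⟨n, -, rfl⟩
    exact ⟨n, rfl⟩
  · rintro ⟨n, rfl⟩
    exact ⟨n, Submodule.mem_top, rfl⟩

/-- **the a-invariant formula for quotients by homogeneous regular sequences.** -/
theorem endDeg_regular_quotient (hpos : ∀ n : ℤ, n < 0 → 𝒜 n = ⊥) :
    ∀ (t : ℕ) (M : Type u) [AddCommGroup M] [Module R M] (ℳ : ℤ → AddSubgroup M)
      [DirectSum.Decomposition ℳ] [SetLike.GradedSMul 𝒜 ℳ] (E : StarInjRes 𝒜 ℳ) (c : ℕ)
      (_ : ∀ i < c, Subsingleton (E.H a i)) (_ : t ≤ c)
      (f : Fin t → R) (deg : Fin t → ℤ) (_ : ∀ i, f i ∈ 𝒜 (deg i)) (_ : ∀ i, f i ∈ a.toIdeal)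
      (_ : RingTheory.Sequence.IsWeaklyRegular M (List.ofFn f))
      (N : Type u) [AddCommGroup N] [Module R N] (𝒩 : ℤ → AddSubgroup N)
      [DirectSum.Decomposition 𝒩] [SetLike.GradedSMul 𝒜 𝒩] (π : M →ₗ[R] N)
      (_ : IsGrHom ℳ 𝒩 π) (_ : Function.Surjective π)
      (_ : LinearMap.ker π = Ideal.span (Set.range f) • (⊤ : Submodule R M))
      (F : StarInjRes 𝒜 𝒩),
      endDeg (F.Hgr a (c - t)) = endDeg (E.Hgr a c) +
        (((∑ i, deg i : ℤ) : WithTop ℤ) : WithBot (WithTop ℤ)) := by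
  intro t
  induction t with
  | zero =>
    intro M _ _ ℳ _ _ E c hvan htc f deg hfdeg hfa hreg N _ _ 𝒩 _ _ π hπg hπs hπk F
    have hker : LinearMap.ker π = ⊥ := by
      rw [hπk]
      have : Set.range f = ∅ := Set.range_eq_empty f
      rw [this, Ideal.span_empty, Submodule.bot_smul]
    have hbij : Function.Bijective π := ⟨LinearMap.ker_eq_bot.1 hker, hπs⟩
    rw [Nat.sub_zero, endDeg_of_bijective a E F π hbij hπg c]
    simp
  | succ t ih =>
    intro M _ _ ℳ _ _ E c hvan htc f deg hfdeg hfa hreg N _ _ 𝒩 _ _ π hπg hπs hπk F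
    classical
    obtain ⟨c', rfl⟩ : ∃ c', c = c' + 1 := ⟨c - 1, by omega⟩
    rw [List.ofFn_succ, RingTheory.Sequence.isWeaklyRegular_cons_iff] at hreg
    obtain ⟨hreg0, hregs⟩ := hreg
    set P : Submodule R M := (f 0) • (⊤ : Submodule R M) with hPdef
    have hPr : P = LinearMap.range (LinearMap.lsmul R M (f 0)) := smul_top_eq_range (f 0)
    have hP : P.IsHomogeneous ℳ := by
      rw [hPr]
      exact range_lsmul_isHomogeneous (hfdeg 0)
    letI : DirectSum.Decomposition (quotGr ℳ P) := (isInternal_quotGr ℳ P hP).chooseDecomposition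
    obtain ⟨E₁⟩ := Groth.Agent.S13215.result R 𝒜 (M ⧸ P) (quotGr ℳ P)
    have hker₁ : LinearMap.ker P.mkQ = LinearMap.range (LinearMap.lsmul R M (f 0)) := by
      rw [Submodule.ker_mkQ, hPr]
    have hA := endDeg_quot a hpos E E₁ (f 0) (deg 0) (hfdeg 0) (hfa 0) hreg0 P.mkQ
      (Submodule.mkQ_surjective P) (mkQ_isGrHom ℳ P) hker₁ c' (hvan c' (by omega))
    have hB := subsingleton_quot a E E₁ (f 0) (deg 0) (hfdeg 0) hreg0 P.mkQ
      (Submodule.mkQ_surjective P) (mkQ_isGrHom ℳ P) hker₁ c' hvan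
    -- the induced map
    have hPle : P ≤ LinearMap.ker π := by
      rw [hπk, hPdef]
      intro m hm
      obtain ⟨n, -, rfl⟩ := (Submodule.mem_smul_pointwise_iff_exists _ _ _).1 hm
      exact Submodule.smul_mem_smul (Ideal.subset_span ⟨0, rfl⟩) Submodule.mem_top
    let π' : (M ⧸ P) →ₗ[R] N := P.liftQ π hPle
    have hπ'g : IsGrHom (quotGr ℳ P) 𝒩 π' := by
      rintro g _ ⟨m, hm, rfl⟩
      exact hπg g m hm
    have hπ's : Function.Surjective π' := by
      intro n
      obtain ⟨m, rfl⟩ := hπs n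
      exact ⟨P.mkQ m, rfl⟩
    have hπ'k : LinearMap.ker π' =
        Ideal.span (Set.range (fun i : Fin t => f i.succ)) • (⊤ : Submodule R (M ⧸ P)) := by
      have h1 : LinearMap.ker π' = (LinearMap.ker π).map P.mkQ := Submodule.ker_liftQ P π hPle
      rw [h1, hπk, Submodule.map_smul'', Submodule.map_top, Submodule.range_mkQ]
      have h2 : Set.range f = insert (f 0) (Set.range (fun i : Fin t => f i.succ)) :=
        Fin.range_fin_succ f
      rw [h2, Ideal.span_insert, Submodule.sup_smul]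
      have h3 : Ideal.span {f 0} • (⊤ : Submodule R (M ⧸ P)) = ⊥ := by
        rw [eq_bot_iff, Submodule.smul_le]
        intro r hr n _
        obtain ⟨b, rfl⟩ := Ideal.mem_span_singleton'.1 hr
        obtain ⟨m, rfl⟩ := Submodule.mkQ_surjective P n
        rw [Submodule.mem_bot, ← map_smul, Submodule.mkQ_apply, Submodule.Quotient.mk_eq_zero,
          mul_smul, hPdef]
        exact Submodule.smul_mem _ b (Submodule.smul_mem_pointwise_smul m (f 0) ⊤
          Submodule.mem_top)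
      rw [h3, bot_sup_eq]
    have hIH := ih (M ⧸ P) (quotGr ℳ P) E₁ c' hB (by omega) (fun i : Fin t => f i.succ)
      (fun i : Fin t => deg i.succ) (fun i => hfdeg i.succ) (fun i => hfa i.succ) hregs
      N 𝒩 π' hπ'g hπ's hπ'k F
    have hidx : c' + 1 - (t + 1) = c' - t := by omega
    rw [hidx, hIH, hA, Fin.sum_univ_succ, add_assoc]
    congr 1

end induction

end Groth.Agent.Lib.Helper20.GrAinv
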