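import Mathlib
import Groth.Prelude.Def_GrLC
import Groth.Agent.Lib.Helper20.GrLES
import Groth.Agent.Lib.Helper20.GrLES2
import Groth.Agent.Lib.Helper20.GrFin2
import Groth.Agent.S13215

/-!
# Vanishing of single pieces of graded local cohomology: a toolkit
-/

set_option autoImplicit false
set_option linter.unusedSectionVars false
set_option linter.unusedVariables false
set_option linter.style.haveILetI false

universe u

open CategoryTheory GrLC Groth.Agent.Lib.Helper4.LC Groth.Agent.Lib.Helper20.GrLCBasic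
  Groth.Agent.Lib.Helper20.GrLCQuot Groth.Agent.Lib.Helper20.GrRes
  Groth.Agent.Lib.Helper20.GrLES Groth.Agent.Lib.Helper20.GrLES2
  Groth.Agent.Lib.Helper20.GrFin2

namespace Groth.Agent.Lib.Helper20.GrVan

variable {R : Type u} [CommRing R] [IsNoetherianRing R] {𝒜 : ℤ → AddSubgroup R} [GradedRing 𝒜]
  (a : HomogeneousIdeal 𝒜)

section defs

variable {M : Type u} [AddCommGroup M] [Module R M] (ℳ : ℤ → AddSubgroup M)
  [DirectSum.Decomposition ℳ] [SetLike.GradedSMul 𝒜 ℳ]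

/-- the piece of degree `e` of `H^q_a(M)` vanishes (for every *injective resolution). -/
def Van (q : ℕ) (e : ℤ) : Prop := ∀ E : StarInjRes 𝒜 ℳ, E.Hcomp a q e = ⊥

variable {ℳ}

/-- the maps induced by lifts of the identity are mutually inverse. -/
theorem Hmap_id_Hmap_id (E E₂ : StarInjRes 𝒜 ℳ)
    (l : Lift E₂ (toCx E) (E.ε ∘ₗ (LinearMap.id : M →ₗ[R] M)) 0)
    (l' : Lift E (toCx E₂) (E₂.ε ∘ₗ (LinearMap.id : M →ₗ[R] M)) 0) (q : ℕ) (z : E₂.H a q) :
    l'.Hmap a q (l.Hmap a q z) = z := by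
  apply (cmpE E₂ a q).injective
  rw [cmpE_Hmap, cmpE_Hmap]
  have : ModuleCat.ofHom (LinearMap.id : M →ₗ[R] M) = 𝟙 (ModuleCat.of R M) := rfl
  rw [this, HH.map_id, HH.map_id]

/-- independence of the resolution. -/
theorem van_of_Hcomp_eq_bot (E : StarInjRes 𝒜 ℳ) (q : ℕ) (e : ℤ) (h : E.Hcomp a q e = ⊥) :
    Van a ℳ q e := by
  intro E₂
  have hid : IsGrHomDeg ℳ ℳ (LinearMap.id : M →ₗ[R] M) 0 := by
    intro n m hm
    rw [add_zero]
    exact hm
  obtain ⟨l⟩ := nonempty_lift (LinearMap.id : M →ₗ[R] M) 0 hid E₂ E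
  obtain ⟨l'⟩ := nonempty_lift (LinearMap.id : M →ₗ[R] M) 0 hid E E₂
  rw [Submodule.eq_bot_iff]
  intro z hz
  have h1 : l.Hmap a q z ∈ E.Hcomp a q (e + 0) := l.Hmap_mem a q e z hz
  rw [add_zero, h] at h1
  rw [← Hmap_id_Hmap_id a E E₂ l l' q z, (Submodule.mem_bot _).1 h1, map_zero]

theorem van_iff (E : StarInjRes 𝒜 ℳ) (q : ℕ) (e : ℤ) : Van a ℳ q e ↔ E.Hcomp a q e = ⊥ :=
  ⟨fun h => h E, van_of_Hcomp_eq_bot a E q e⟩

variable (ℳ)

/-- vanishing from the ungraded module. -/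
theorem van_of_HH (q : ℕ) (e : ℤ) (h : Subsingleton (HH a.toIdeal (ModuleCat.of R M) q)) :
    Van a ℳ q e := by
  intro E
  haveI : Subsingleton (E.H a q) := subsingleton_H_of_HH E a q h
  rw [Submodule.eq_bot_iff]
  intro z _
  exact Subsingleton.elim _ _

/-- higher local cohomology of a torsion module vanishes. -/
theorem van_of_torsion (h : ∀ m : M, m ∈ GrLC.gam a.toIdeal M) (q : ℕ) (e : ℤ) :
    Van a ℳ (q + 1) e := by
  apply van_of_HH
  apply HH.subsingleton_of_isPowerTorsion a.toIdeal q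
  intro m
  exact h m

end defs

section les

variable {M' : Type u} [AddCommGroup M'] [Module R M'] {ℳ' : ℤ → AddSubgroup M'}
  [DirectSum.Decomposition ℳ'] [SetLike.GradedSMul 𝒜 ℳ']
  {M : Type u} [AddCommGroup M] [Module R M] {ℳ : ℤ → AddSubgroup M}
  [DirectSum.Decomposition ℳ] [SetLike.GradedSMul 𝒜 ℳ]
  {M'' : Type u} [AddCommGroup M''] [Module R M''] {ℳ'' : ℤ → AddSubgroup M''}
  [DirectSum.Decomposition ℳ''] [SetLike.GradedSMul 𝒜 ℳ'']
  (f : M' →ₗ[R] M) (g : M →ₗ[R] M'') (kf kg : ℤ)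
  (hf : IsGrHomDeg ℳ' ℳ f kf) (hg : IsGrHomDeg ℳ ℳ'' g kg)
  (hinj : Function.Injective f) (hsurj : Function.Surjective g) (hex : Function.Exact f g)

include hf hg hinj hsurj hex

/-- vanishing in the middle of a short exact sequence. -/
theorem van_mid (q : ℕ) (e : ℤ) (h1 : Van a ℳ' q (e - kf)) (h2 : Van a ℳ'' q (e + kg)) :
    Van a ℳ q e := by
  classical
  intro E
  obtain ⟨E'⟩ := Groth.Agent.S13215.result R 𝒜 M' ℳ'
  obtain ⟨E''⟩ := Groth.Agent.S13215.result R 𝒜 M'' ℳ''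
  obtain ⟨lf⟩ := nonempty_lift f kf hf E' E
  obtain ⟨lg⟩ := nonempty_lift g kg hg E E''
  obtain ⟨D, hD, -, -, h3, -, -, -, -⟩ :=
    exists_grLES f g kf kg hf hg hinj hsurj hex E' E E'' a lf lg
  letI := decH E' a q
  letI := decH E a q
  rw [Submodule.eq_bot_iff]
  intro z hz
  have hgz : lg.Hmap a q z = 0 := by
    have := lg.Hmap_mem a q e z hz
    rw [h2 E''] at this
    exact (Submodule.mem_bot _).1 this
  obtain ⟨x, hx⟩ := h3 q z hgz
  have hz' : z ∈ E.Hgr a q (e - kf + kf) := by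
    rw [sub_add_cancel]
    exact hz
  obtain ⟨x', hx', hx'z⟩ := exists_piece_preimage (E'.Hgr a q) (E.Hgr a q) (lf.Hmap a q) kf
    (fun n x hx => lf.Hmap_mem a q n x hx) (e - kf) z hz' x hx
  have : x' = 0 := by
    have h4 : x' ∈ E'.Hcomp a q (e - kf) := hx'
    rw [h1 E'] at h4
    exact (Submodule.mem_bot _).1 h4
  rw [← hx'z, this, map_zero]

/-- vanishing on the right of a short exact sequence. -/
theorem van_right (q : ℕ) (n : ℤ) (h1 : Van a ℳ q (n - kg))
    (h2 : Van a ℳ' (q + 1) (n - kg - kf)) : Van a ℳ'' q n := by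
  classical
  intro E''
  obtain ⟨E'⟩ := Groth.Agent.S13215.result R 𝒜 M' ℳ'
  obtain ⟨E⟩ := Groth.Agent.S13215.result R 𝒜 M ℳ
  obtain ⟨lf⟩ := nonempty_lift f kf hf E' E
  obtain ⟨lg⟩ := nonempty_lift g kg hg E E''
  obtain ⟨D, hD, -, -, -, -, h5, -, -⟩ :=
    exists_grLES f g kf kg hf hg hinj hsurj hex E' E E'' a lf lg
  letI := decH E a q
  letI := decH E'' a q
  rw [Submodule.eq_bot_iff]
  intro z hz
  have hDz : D q z = 0 := by
    have := hD q n z hz
    have e1 : n + (-kg + -kf) = n - kg - kf := by ring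
    rw [e1, h2 E'] at this
    exact (Submodule.mem_bot _).1 this
  obtain ⟨y, hy⟩ := h5 q z hDz
  have hz' : z ∈ E''.Hgr a q (n - kg + kg) := by
    rw [sub_add_cancel]
    exact hz
  obtain ⟨y', hy', hy'z⟩ := exists_piece_preimage (E.Hgr a q) (E''.Hgr a q) (lg.Hmap a q) kg
    (fun n x hx => lg.Hmap_mem a q n x hx) (n - kg) z hz' y hy
  have : y' = 0 := by
    have h4 : y' ∈ E.Hcomp a q (n - kg) := hy'
    rw [h1 E] at h4
    exact (Submodule.mem_bot _).1 h4
  rw [← hy'z, this, map_zero]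

/-- vanishing on the left of a short exact sequence. -/
theorem van_left (q : ℕ) (n : ℤ) (h1 : Van a ℳ (q + 1) (n + kf))
    (h2 : Van a ℳ'' q (n + kf + kg)) : Van a ℳ' (q + 1) n := by
  classical
  intro E'
  obtain ⟨E⟩ := Groth.Agent.S13215.result R 𝒜 M ℳ
  obtain ⟨E''⟩ := Groth.Agent.S13215.result R 𝒜 M'' ℳ''
  obtain ⟨lf⟩ := nonempty_lift f kf hf E' E
  obtain ⟨lg⟩ := nonempty_lift g kg hg E E''
  obtain ⟨D, hD, -, -, -, -, -, -, h7⟩ :=
    exists_grLES f g kf kg hf hg hinj hsurj hex E' E E'' a lf lg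
  letI := decH E'' a q
  letI := decH E' a (q + 1)
  rw [Submodule.eq_bot_iff]
  intro x hx
  have hfx : lf.Hmap a (q + 1) x = 0 := by
    have := lf.Hmap_mem a (q + 1) n x hx
    rw [h1 E] at this
    exact (Submodule.mem_bot _).1 this
  obtain ⟨z, hz⟩ := h7 q x hfx
  have hx' : x ∈ E'.Hgr a (q + 1) (n + kf + kg + (-kg + -kf)) := by
    have e1 : n + kf + kg + (-kg + -kf) = n := by ring
    rw [e1]
    exact hx
  obtain ⟨z', hz', hz'x⟩ := exists_piece_preimage (E''.Hgr a q) (E'.Hgr a (q + 1)) (D q)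
    (-kg + -kf) (fun n x hx => hD q n x hx) (n + kf + kg) x hx' z hz
  have : z' = 0 := by
    have h4 : z' ∈ E''.Hcomp a q (n + kf + kg) := hz'
    rw [h2 E''] at h4
    exact (Submodule.mem_bot _).1 h4
  rw [← hz'x, this, map_zero]

omit hg hsurj hex in
/-- vanishing on the left in degree zero. -/
theorem van_left_zero (n : ℤ) (h1 : Van a ℳ 0 (n + kf)) : Van a ℳ' 0 n := by
  classical
  intro E'
  obtain ⟨E⟩ := Groth.Agent.S13215.result R 𝒜 M ℳ
  obtain ⟨lf⟩ := nonempty_lift f kf hf E' E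
  have hinj0 : Function.Injective (lf.Hmap a 0) := by
    intro x y hxy
    apply (cmpE E' a 0).injective
    have hm : Mono (ModuleCat.ofHom f) := (ModuleCat.mono_iff_injective _).2 hinj
    have h1 : HH.map a.toIdeal (ModuleCat.ofHom f) 0 (cmpE E' a 0 x) =
        HH.map a.toIdeal (ModuleCat.ofHom f) 0 (cmpE E' a 0 y) := by
      rw [← cmpE_Hmap lf a 0 x, ← cmpE_Hmap lf a 0 y, hxy]
    have h2 := congrArg (HH0 a.toIdeal (ModuleCat.of R M)) h1
    rw [HH0_map, HH0_map] at h2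
    exact HH0_injective a.toIdeal _ (hinj h2)
  rw [Submodule.eq_bot_iff]
  intro x hx
  have hfx : lf.Hmap a 0 x = 0 := by
    have := lf.Hmap_mem a 0 n x hx
    rw [h1 E] at this
    exact (Submodule.mem_bot _).1 this
  exact hinj0 (hfx.trans (map_zero _).symm)

end les

end Groth.Agent.Lib.Helper20.GrVan
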