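import Mathlib
import Groth.Prelude.Def_GrLC
import Groth.Agent.Lib.Helper20.GrVan

/-!
# Products of graded modules, the zero graded module
-/

set_option autoImplicit false
set_option linter.unusedSectionVars false
set_option linter.unusedVariables false
set_option linter.style.haveILetI false

universe u

open CategoryTheory GrLC Groth.Agent.Lib.Helper4.LC Groth.Agent.Lib.Helper20.GrLCBasic
  Groth.Agent.Lib.Helper20.GrVan

namespace Groth.Agent.Lib.Helper20.GrProd

section family

variable {M : Type u} [AddCommGroup M] (ℳ : ℤ → AddSubgroup M)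
  {N : Type u} [AddCommGroup N] (𝒩 : ℤ → AddSubgroup N)

/-- the product grading. -/
def prodGr : ℤ → AddSubgroup (M × N) := fun e => (ℳ e).prod (𝒩 e)

lemma mem_prodGr {e : ℤ} {x : M × N} : x ∈ prodGr ℳ 𝒩 e ↔ x.1 ∈ ℳ e ∧ x.2 ∈ 𝒩 e :=
  AddSubgroup.mem_prod

/-- left inclusion of the pieces. -/
def inlHom (e : ℤ) : ↥(ℳ e) →+ ↥(prodGr ℳ 𝒩 e) where
  toFun y := ⟨(y.1, 0), (mem_prodGr ℳ 𝒩).2 ⟨y.2, zero_mem _⟩⟩
  map_zero' := rfl
  map_add' y y' := by
    apply Subtype.ext
    simp

/-- right inclusion of the pieces. -/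
def inrHom (e : ℤ) : ↥(𝒩 e) →+ ↥(prodGr ℳ 𝒩 e) where
  toFun y := ⟨(0, y.1), (mem_prodGr ℳ 𝒩).2 ⟨zero_mem _, y.2⟩⟩
  map_zero' := rfl
  map_add' y y' := by
    apply Subtype.ext
    simp

lemma coe_map_inl (y : DirectSum ℤ (fun e => ↥(ℳ e))) :
    DirectSum.coeAddMonoidHom (prodGr ℳ 𝒩) (DirectSum.map (inlHom ℳ 𝒩) y) =
      (DirectSum.coeAddMonoidHom ℳ y, 0) := by
  classical
  induction y using DirectSum.induction_on with
  | zero =>
    rw [map_zero, map_zero, map_zero]
    rfl
  | of i z =>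
    rw [DirectSum.map_of, DirectSum.coeAddMonoidHom_of, DirectSum.coeAddMonoidHom_of]
    rfl
  | add y y' h h' =>
    rw [map_add, map_add, map_add, h, h']
    simp

lemma coe_map_inr (y : DirectSum ℤ (fun e => ↥(𝒩 e))) :
    DirectSum.coeAddMonoidHom (prodGr ℳ 𝒩) (DirectSum.map (inrHom ℳ 𝒩) y) =
      (0, DirectSum.coeAddMonoidHom 𝒩 y) := by
  classical
  induction y using DirectSum.induction_on with
  | zero =>
    rw [map_zero, map_zero, map_zero]
    rfl
  | of i z =>
    rw [DirectSum.map_of, DirectSum.coeAddMonoidHom_of, DirectSum.coeAddMonoidHom_of]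
    rfl
  | add y y' h h' =>
    rw [map_add, map_add, map_add, h, h']
    simp

variable [DirectSum.Decomposition ℳ] [DirectSum.Decomposition 𝒩]

noncomputable instance prodDecomposition : DirectSum.Decomposition (prodGr ℳ 𝒩) where
  decompose' x := DirectSum.map (inlHom ℳ 𝒩) (DirectSum.decompose ℳ x.1) +
    DirectSum.map (inrHom ℳ 𝒩) (DirectSum.decompose 𝒩 x.2)
  left_inv x := by
    rw [map_add, coe_map_inl, coe_map_inr]
    have h1 : DirectSum.coeAddMonoidHom ℳ (DirectSum.decompose ℳ x.1) = x.1 :=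
      DirectSum.Decomposition.left_inv x.1
    have h2 : DirectSum.coeAddMonoidHom 𝒩 (DirectSum.decompose 𝒩 x.2) = x.2 :=
      DirectSum.Decomposition.left_inv x.2
    rw [h1, h2]
    simp
  right_inv y := by
    classical
    induction y using DirectSum.induction_on with
    | zero => simp
    | of i z =>
      beta_reduce
      rw [DirectSum.coeAddMonoidHom_of]
      have hz := (mem_prodGr ℳ 𝒩).1 z.2
      rw [DirectSum.decompose_of_mem ℳ hz.1, DirectSum.decompose_of_mem 𝒩 hz.2,
        DirectSum.map_of, DirectSum.map_of, ← map_add]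
      congr 1
      apply Subtype.ext
      show ((z : M × N).1, (0 : N)) + ((0 : M), (z : M × N).2) = (z : M × N)
      simp
    | add y y' h h' =>
      beta_reduce at h h' ⊢
      rw [map_add, Prod.fst_add, Prod.snd_add, DirectSum.decompose_add, DirectSum.decompose_add,
        map_add, map_add]
      conv_rhs => rw [← h, ← h']
      abel

end family

section modules

variable {R : Type u} [CommRing R] (𝒜 : ℤ → AddSubgroup R) [GradedRing 𝒜]
  {M : Type u} [AddCommGroup M] [Module R M] (ℳ : ℤ → AddSubgroup M)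
  {N : Type u} [AddCommGroup N] [Module R N] (𝒩 : ℤ → AddSubgroup N)

instance prodGradedSMul [SetLike.GradedSMul 𝒜 ℳ] [SetLike.GradedSMul 𝒜 𝒩] :
    SetLike.GradedSMul 𝒜 (prodGr ℳ 𝒩) where
  smul_mem := by
    intro i j r x hr hx
    have hx' := (mem_prodGr ℳ 𝒩).1 hx
    exact (mem_prodGr ℳ 𝒩).2 ⟨SetLike.GradedSMul.smul_mem (A := 𝒜) (B := ℳ) hr hx'.1,
      SetLike.GradedSMul.smul_mem (A := 𝒜) (B := 𝒩) hr hx'.2⟩

variable {𝒜}

/-- the product of two bundled graded modules. -/
noncomputable def prodGMod (X Y : GMod.{u} 𝒜) : GMod.{u} 𝒜 :=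
  { carrier := X.carrier × Y.carrier
    gr := prodGr X.gr Y.gr }

/-- the grading of the zero module. -/
def zeroGr : ℤ → AddSubgroup PUnit.{u + 1} := fun _ => ⊥

noncomputable instance zeroDecomposition : DirectSum.Decomposition zeroGr.{u} where
  decompose' _ := 0
  left_inv _ := Subsingleton.elim _ _
  right_inv y := by
    apply DFinsupp.ext
    intro i
    exact Subsingleton.elim _ _

instance zeroGradedSMul : SetLike.GradedSMul 𝒜 zeroGr.{u} where
  smul_mem := by
    intro i j r x _ _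
    have : r • x = 0 := Subsingleton.elim _ _
    rw [this]
    exact zero_mem _

variable (𝒜) in
/-- the zero graded module. -/
noncomputable def zeroGMod : GMod.{u} 𝒜 :=
  { carrier := PUnit.{u + 1}
    gr := zeroGr }

end modules

section van

variable {R : Type u} [CommRing R] [IsNoetherianRing R] {𝒜 : ℤ → AddSubgroup R} [GradedRing 𝒜]
  (a : HomogeneousIdeal 𝒜)
  {M : Type u} [AddCommGroup M] [Module R M] (ℳ : ℤ → AddSubgroup M)
  [DirectSum.Decomposition ℳ] [SetLike.GradedSMul 𝒜 ℳ]
  {N : Type u} [AddCommGroup N] [Module R N] (𝒩 : ℤ → AddSubgroup N)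
  [DirectSum.Decomposition 𝒩] [SetLike.GradedSMul 𝒜 𝒩]

/-- vanishing of a piece of the local cohomology of a product. -/
theorem van_prod (q : ℕ) (e : ℤ) (h1 : Van a ℳ q e) (h2 : Van a 𝒩 q e) :
    Van a (prodGr ℳ 𝒩) q e := by
  refine van_mid (ℳ' := ℳ) (ℳ := prodGr ℳ 𝒩) (ℳ'' := 𝒩) a (LinearMap.inl R M N)
    (LinearMap.snd R M N) 0 0 ?_ ?_ LinearMap.inl_injective
    LinearMap.snd_surjective ?_ q e ?_ ?_
  · intro n m hm
    rw [add_zero]
    exact (mem_prodGr ℳ 𝒩).2 ⟨hm, zero_mem _⟩
  · intro n x hx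
    rw [add_zero]
    exact ((mem_prodGr ℳ 𝒩).1 hx).2
  · intro x
    constructor
    · intro hx
      exact ⟨x.1, Prod.ext rfl hx.symm⟩
    · rintro ⟨m, rfl⟩
      rfl
  · rw [sub_zero]
    exact h1
  · rw [add_zero]
    exact h2

/-- a subsingleton module has no local cohomology. -/
theorem van_of_subsingleton [Subsingleton M] (q : ℕ) (e : ℤ) : Van a ℳ q e := by
  apply van_of_HH
  constructor
  intro x y
  have h0 : (𝟙 (ModuleCat.of R M)) = 0 := by
    ext m
    exact Subsingleton.elim _ _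
  have hx : x = 0 := by
    rw [← HH.map_id a.toIdeal q x, h0, HH.map_zero']
  have hy : y = 0 := by
    rw [← HH.map_id a.toIdeal q y, h0, HH.map_zero']
  rw [hx, hy]

end van

end Groth.Agent.Lib.Helper20.GrProd
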