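import Mathlib
import Groth.Prelude.Def_GrLC
import Groth.Agent.Lib.Helper20.GrProd

/-!
# The graded Koszul complex as an iterated cone
-/

set_option autoImplicit false
set_option linter.unusedSectionVars false
set_option linter.unusedVariables false
set_option linter.style.haveILetI false

universe u

open CategoryTheory GrLC Groth.Agent.Lib.Helper4.LC Groth.Agent.Lib.Helper20.GrLCBasic
  Groth.Agent.Lib.Helper20.GrVan Groth.Agent.Lib.Helper20.GrProd

namespace Groth.Agent.Lib.Helper20.GrKos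

variable {R : Type u} [CommRing R] {𝒜 : ℤ → AddSubgroup R} [GradedRing 𝒜]

/-- an augmented chain complex `… → X 1 → X 0 → X₀` of graded modules with differentials of degree
one. -/
structure ChCx (X₀ : GMod.{u} 𝒜) where
  /-- the terms -/
  X : ℕ → GMod.{u} 𝒜
  /-- the augmentation -/
  d0 : (X 0).carrier →ₗ[R] X₀.carrier
  /-- the differentials -/
  d : ∀ p, (X (p + 1)).carrier →ₗ[R] (X p).carrier
  d0_deg : IsGrHomDeg (X 0).gr X₀.gr d0 1
  d_deg : ∀ p, IsGrHomDeg (X (p + 1)).gr (X p).gr (d p) 1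
  d0_comp : ∀ z, d0 (d 0 z) = 0
  d_comp : ∀ p z, d p (d (p + 1) z) = 0

variable {X₀ : GMod.{u} 𝒜}

/-- the complex `0 → X₀`. -/
noncomputable def base (X₀ : GMod.{u} 𝒜) : ChCx X₀ where
  X _ := zeroGMod 𝒜
  d0 := 0
  d _ := 0
  d0_deg := fun n m _ => zero_mem _
  d_deg := fun p n m _ => zero_mem _
  d0_comp := fun z => rfl
  d_comp := fun p z => rfl

/-- the terms of the cone of multiplication by `x`. -/
noncomputable def coneX (C : ChCx X₀) : ℕ → GMod.{u} 𝒜
  | 0 => prodGMod (C.X 0) X₀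
  | p + 1 => prodGMod (C.X (p + 1)) (C.X p)

/-- the augmentation of the cone. -/
noncomputable def coneD0 (C : ChCx X₀) (x : R) : (coneX C 0).carrier →ₗ[R] X₀.carrier :=
  (C.d0).coprod (x • LinearMap.id)

/-- the differentials of the cone. -/
noncomputable def coneD (C : ChCx X₀) (x : R) :
    ∀ p, (coneX C (p + 1)).carrier →ₗ[R] (coneX C p).carrier
  | 0 => LinearMap.prod ((C.d 0).coprod (x • LinearMap.id))
      (-(C.d0 ∘ₗ LinearMap.snd R (C.X 1).carrier (C.X 0).carrier))
  | p + 1 => LinearMap.prod ((C.d (p + 1)).coprod (x • LinearMap.id))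
      (-(C.d p ∘ₗ LinearMap.snd R (C.X (p + 2)).carrier (C.X (p + 1)).carrier))

lemma coneD0_apply (C : ChCx X₀) (x : R) (a : (C.X 0).carrier) (b : X₀.carrier) :
    coneD0 C x ((a, b) : (C.X 0).carrier × X₀.carrier) = C.d0 a + x • b := by
  rfl

lemma coneD_zero_apply (C : ChCx X₀) (x : R) (a : (C.X 1).carrier) (b : (C.X 0).carrier) :
    coneD C x 0 ((a, b) : (C.X 1).carrier × (C.X 0).carrier) =
      ((C.d 0 a + x • b, -(C.d0 b)) : (C.X 0).carrier × X₀.carrier) := by
  rfl

lemma coneD_succ_apply (C : ChCx X₀) (x : R) (p : ℕ) (a : (C.X (p + 2)).carrier)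
    (b : (C.X (p + 1)).carrier) :
    coneD C x (p + 1) ((a, b) : (C.X (p + 2)).carrier × (C.X (p + 1)).carrier) =
      ((C.d (p + 1) a + x • b, -(C.d p b)) : (C.X (p + 1)).carrier × (C.X p).carrier) := by
  rfl

lemma smul_mem_succ {Y : GMod.{u} 𝒜} {x : R} (hx : x ∈ 𝒜 1) {n : ℤ} {b : Y.carrier}
    (hb : b ∈ Y.gr n) : x • b ∈ Y.gr (n + 1) := by
  have h := SetLike.GradedSMul.smul_mem (A := 𝒜) (B := Y.gr) hx hb
  rw [vadd_eq_add, add_comm] at h
  exact h

/-- the cone of multiplication by an element of degree one. -/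
noncomputable def cone (C : ChCx X₀) (x : R) (hx : x ∈ 𝒜 1) : ChCx X₀ where
  X := coneX C
  d0 := coneD0 C x
  d := coneD C x
  d0_deg := by
    rintro n ⟨a, b⟩ hm
    have hm' := (mem_prodGr (C.X 0).gr X₀.gr).1 hm
    rw [coneD0_apply]
    exact add_mem (C.d0_deg n a hm'.1) (smul_mem_succ hx hm'.2)
  d_deg := by
    intro p
    cases p with
    | zero =>
      rintro n ⟨a, b⟩ hm
      have hm' := (mem_prodGr (C.X 1).gr (C.X 0).gr).1 hm
      rw [coneD_zero_apply]
      exact (mem_prodGr (C.X 0).gr X₀.gr).2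
        ⟨add_mem (C.d_deg 0 n a hm'.1) (smul_mem_succ hx hm'.2), neg_mem (C.d0_deg n b hm'.2)⟩
    | succ p =>
      rintro n ⟨a, b⟩ hm
      have hm' := (mem_prodGr (C.X (p + 2)).gr (C.X (p + 1)).gr).1 hm
      rw [coneD_succ_apply]
      exact (mem_prodGr (C.X (p + 1)).gr (C.X p).gr).2
        ⟨add_mem (C.d_deg (p + 1) n a hm'.1) (smul_mem_succ hx hm'.2),
          neg_mem (C.d_deg p n b hm'.2)⟩
  d0_comp := by
    rintro ⟨a, b⟩
    rw [coneD_zero_apply, coneD0_apply, map_add, C.d0_comp, map_smul, smul_neg]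
    abel
  d_comp := by
    intro p
    cases p with
    | zero =>
      rintro ⟨a, b⟩
      rw [coneD_succ_apply, coneD_zero_apply, map_add, C.d_comp, map_smul, smul_neg, map_neg,
        C.d0_comp]
      apply Prod.ext
      · show (0 : (C.X 0).carrier) + x • C.d 0 b + -(x • C.d 0 b) = 0
        abel
      · show -(-(0 : X₀.carrier)) = 0
        simp
    | succ p =>
      rintro ⟨a, b⟩
      rw [coneD_succ_apply, coneD_succ_apply, map_add, C.d_comp, map_smul, smul_neg, map_neg,
        C.d_comp]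
      apply Prod.ext
      · show (0 : (C.X (p + 1)).carrier) + x • C.d (p + 1) b + -(x • C.d (p + 1) b) = 0
        abel
      · show -(-(0 : (C.X p).carrier)) = 0
        simp

/-- multiplication by `y` is null-homotopic on the augmented complex. -/
def HasHtpy (C : ChCx X₀) (y : R) : Prop :=
  ∃ (h0 : X₀.carrier →ₗ[R] (C.X 0).carrier)
    (h : ∀ p, (C.X p).carrier →ₗ[R] (C.X (p + 1)).carrier),
    (∀ z, C.d0 (h0 z) = y • z) ∧ (∀ z, C.d 0 (h 0 z) + h0 (C.d0 z) = y • z) ∧
    (∀ p z, C.d (p + 1) (h (p + 1) z) + h p (C.d p z) = y • z)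

lemma HasHtpy.smul_mem_range_d0 {C : ChCx X₀} {y : R} (hy : HasHtpy C y) (z : X₀.carrier) :
    y • z ∈ LinearMap.range C.d0 := by
  obtain ⟨h0, h, e0, e1, e2⟩ := hy
  exact ⟨h0 z, e0 z⟩

lemma HasHtpy.smul_mem_range_zero {C : ChCx X₀} {y : R} (hy : HasHtpy C y) (z : (C.X 0).carrier)
    (hz : C.d0 z = 0) : y • z ∈ LinearMap.range (C.d 0) := by
  obtain ⟨h0, h, e0, e1, e2⟩ := hy
  refine ⟨h 0 z, ?_⟩
  have := e1 z
  rw [hz, map_zero, add_zero] at this
  exact this

lemma HasHtpy.smul_mem_range_succ {C : ChCx X₀} {y : R} (hy : HasHtpy C y) (p : ℕ)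
    (z : (C.X (p + 1)).carrier) (hz : C.d p z = 0) : y • z ∈ LinearMap.range (C.d (p + 1)) := by
  obtain ⟨h0, h, e0, e1, e2⟩ := hy
  refine ⟨h (p + 1) z, ?_⟩
  have := e2 p z
  rw [hz, map_zero, add_zero] at this
  exact this

/-- the homotopy for `x` on the cone of `x`. -/
noncomputable def selfH (C : ChCx X₀) : ∀ p, (coneX C p).carrier →ₗ[R] (coneX C (p + 1)).carrier
  | 0 => (LinearMap.inr R (C.X 1).carrier (C.X 0).carrier) ∘ₗ
      (LinearMap.fst R (C.X 0).carrier X₀.carrier)
  | p + 1 => (LinearMap.inr R (C.X (p + 2)).carrier (C.X (p + 1)).carrier) ∘ₗ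
      (LinearMap.fst R (C.X (p + 1)).carrier (C.X p).carrier)

theorem cone_hasHtpy_self (C : ChCx X₀) (x : R) (hx : x ∈ 𝒜 1) : HasHtpy (cone C x hx) x := by
  refine ⟨LinearMap.inr R (C.X 0).carrier X₀.carrier, selfH C, ?_, ?_, ?_⟩
  · intro z
    show coneD0 C x ((0, z) : (C.X 0).carrier × X₀.carrier) = x • z
    rw [coneD0_apply, map_zero, zero_add]
  · rintro ⟨a, b⟩
    show (show (C.X 0).carrier × X₀.carrier from
        coneD C x 0 ((0, a) : (C.X 1).carrier × (C.X 0).carrier)) +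
      ((0, coneD0 C x ((a, b) : (C.X 0).carrier × X₀.carrier)) : (C.X 0).carrier × X₀.carrier) =
      x • ((a, b) : (C.X 0).carrier × X₀.carrier)
    rw [coneD_zero_apply, coneD0_apply, map_zero, zero_add]
    apply Prod.ext
    · show x • a + 0 = x • a
      rw [add_zero]
    · show -(C.d0 a) + (C.d0 a + x • b) = x • b
      abel
  · intro p
    cases p with
    | zero =>
      rintro ⟨a, b⟩
      show (show (C.X 1).carrier × (C.X 0).carrier from
          coneD C x 1 ((0, a) : (C.X 2).carrier × (C.X 1).carrier)) +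
        ((0, (coneD C x 0 ((a, b) : (C.X 1).carrier × (C.X 0).carrier)).1) :
          (C.X 1).carrier × (C.X 0).carrier) = x • ((a, b) : (C.X 1).carrier × (C.X 0).carrier)
      rw [coneD_succ_apply, coneD_zero_apply, map_zero]
      apply Prod.ext
      · show 0 + x • a + 0 = x • a
        rw [add_zero, zero_add]
      · show -(C.d 0 a) + (C.d 0 a + x • b) = x • b
        abel
    | succ p =>
      rintro ⟨a, b⟩
      show (show (C.X (p + 2)).carrier × (C.X (p + 1)).carrier from
          coneD C x (p + 2) ((0, a) : (C.X (p + 3)).carrier × (C.X (p + 2)).carrier)) +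
        ((0, (coneD C x (p + 1) ((a, b) : (C.X (p + 2)).carrier × (C.X (p + 1)).carrier)).1) :
          (C.X (p + 2)).carrier × (C.X (p + 1)).carrier) =
        x • ((a, b) : (C.X (p + 2)).carrier × (C.X (p + 1)).carrier)
      rw [coneD_succ_apply, coneD_succ_apply, map_zero, zero_add]
      apply Prod.ext
      · show x • a + 0 = x • a
        rw [add_zero]
      · show -(C.d (p + 1) a) + (C.d (p + 1) a + x • b) = x • b
        abel

/-- the homotopy on the cone induced by a homotopy on the complex. -/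
noncomputable def ofH (C : ChCx X₀) (h0 : X₀.carrier →ₗ[R] (C.X 0).carrier)
    (h : ∀ p, (C.X p).carrier →ₗ[R] (C.X (p + 1)).carrier) :
    ∀ p, (coneX C p).carrier →ₗ[R] (coneX C (p + 1)).carrier
  | 0 => LinearMap.prodMap (h 0) (-h0)
  | p + 1 => LinearMap.prodMap (h (p + 1)) (-(h p))

theorem cone_hasHtpy_of (C : ChCx X₀) (x : R) (hx : x ∈ 𝒜 1) (y : R) (hy : HasHtpy C y) :
    HasHtpy (cone C x hx) y := by
  obtain ⟨h0, h, e0, e1, e2⟩ := hy
  refine ⟨LinearMap.inl R (C.X 0).carrier X₀.carrier ∘ₗ h0, ofH C h0 h, ?_, ?_, ?_⟩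
  · intro z
    show coneD0 C x ((h0 z, 0) : (C.X 0).carrier × X₀.carrier) = y • z
    rw [coneD0_apply, smul_zero, add_zero, e0]
  · rintro ⟨a, b⟩
    show (show (C.X 0).carrier × X₀.carrier from
        coneD C x 0 ((h 0 a, -(h0 b)) : (C.X 1).carrier × (C.X 0).carrier)) +
      ((h0 (coneD0 C x ((a, b) : (C.X 0).carrier × X₀.carrier)), 0) :
        (C.X 0).carrier × X₀.carrier) = y • ((a, b) : (C.X 0).carrier × X₀.carrier)
    rw [coneD_zero_apply, coneD0_apply]
    apply Prod.ext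
    · show C.d 0 (h 0 a) + x • -(h0 b) + h0 (C.d0 a + x • b) = y • a
      rw [map_add, map_smul, smul_neg, ← e1 a]
      abel
    · show -(C.d0 (-(h0 b))) + 0 = y • b
      rw [map_neg, neg_neg, add_zero, e0]
  · intro p
    cases p with
    | zero =>
      rintro ⟨a, b⟩
      show (show (C.X 1).carrier × (C.X 0).carrier from
          coneD C x 1 ((h 1 a, -(h 0 b)) : (C.X 2).carrier × (C.X 1).carrier)) +
        ((h 0 (coneD C x 0 ((a, b) : (C.X 1).carrier × (C.X 0).carrier)).1,
          -(h0 (coneD C x 0 ((a, b) : (C.X 1).carrier × (C.X 0).carrier)).2)) :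
          (C.X 1).carrier × (C.X 0).carrier) = y • ((a, b) : (C.X 1).carrier × (C.X 0).carrier)
      rw [coneD_succ_apply, coneD_zero_apply]
      apply Prod.ext
      · show C.d 1 (h 1 a) + x • -(h 0 b) + h 0 (C.d 0 a + x • b) = y • a
        rw [map_add, map_smul, smul_neg, ← e2 0 a]
        abel
      · show -(C.d 0 (-(h 0 b))) + -(h0 (-(C.d0 b))) = y • b
        rw [map_neg, map_neg, neg_neg, neg_neg, e1]
    | succ p =>
      rintro ⟨a, b⟩
      show (show (C.X (p + 2)).carrier × (C.X (p + 1)).carrier from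
          coneD C x (p + 2) ((h (p + 2) a, -(h (p + 1) b)) :
          (C.X (p + 3)).carrier × (C.X (p + 2)).carrier)) +
        ((h (p + 1) (coneD C x (p + 1)
            ((a, b) : (C.X (p + 2)).carrier × (C.X (p + 1)).carrier)).1,
          -(h p (coneD C x (p + 1)
            ((a, b) : (C.X (p + 2)).carrier × (C.X (p + 1)).carrier)).2)) :
          (C.X (p + 2)).carrier × (C.X (p + 1)).carrier) =
        y • ((a, b) : (C.X (p + 2)).carrier × (C.X (p + 1)).carrier)
      rw [coneD_succ_apply, coneD_succ_apply]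
      apply Prod.ext
      · show C.d (p + 2) (h (p + 2) a) + x • -(h (p + 1) b) + h (p + 1) (C.d (p + 1) a + x • b) =
          y • a
        rw [map_add, map_smul, smul_neg, ← e2 (p + 1) a]
        abel
      · show -(C.d (p + 1) (-(h (p + 1) b))) + -(h p (-(C.d p b))) = y • b
        rw [map_neg, map_neg, neg_neg, neg_neg, e2]

/-- the Koszul complex of a list of elements of degree one, as an augmented complex over `X₀`. -/
noncomputable def kos (X₀ : GMod.{u} 𝒜) : List ↥(𝒜 1) → ChCx X₀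
  | [] => base X₀
  | x :: l => cone (kos X₀ l) x.1 x.2

theorem kos_hasHtpy (X₀ : GMod.{u} 𝒜) (l : List ↥(𝒜 1)) (x : ↥(𝒜 1)) (hx : x ∈ l) :
    HasHtpy (kos X₀ l) x.1 := by
  induction l with
  | nil => simp at hx
  | cons y l ih =>
    rcases List.mem_cons.1 hx with h | h
    · subst h
      exact cone_hasHtpy_self _ _ _
    · exact cone_hasHtpy_of _ _ _ _ (ih h)

theorem range_kos_d0_le (X₀ : GMod.{u} 𝒜) (l : List ↥(𝒜 1)) (I : Ideal R)
    (hI : ∀ x ∈ l, (x : R) ∈ I) :
    LinearMap.range (kos X₀ l).d0 ≤ I • (⊤ : Submodule R X₀.carrier) := by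
  induction l with
  | nil =>
    rintro _ ⟨z, rfl⟩
    exact zero_mem _
  | cons y l ih =>
    rintro _ ⟨⟨a, b⟩, rfl⟩
    show coneD0 (kos X₀ l) y.1 ((a, b) : ((kos X₀ l).X 0).carrier × X₀.carrier) ∈ _
    rw [coneD0_apply]
    refine add_mem (ih (fun x hx => hI x (List.mem_cons_of_mem _ hx)) ⟨a, rfl⟩) ?_
    exact Submodule.smul_mem_smul (hI y List.mem_cons_self) trivial

section inh

variable [IsNoetherianRing R] (a : HomogeneousIdeal 𝒜)

/-- vanishing of pieces of local cohomology is inherited from `X₀` by `Y`. -/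
def Inh (X₀ Y : GMod.{u} 𝒜) : Prop := ∀ q e, Van a X₀.gr q e → Van a Y.gr q e

theorem inh_prod {X₀ Y Y' : GMod.{u} 𝒜} (h : Inh a X₀ Y) (h' : Inh a X₀ Y') :
    Inh a X₀ (prodGMod Y Y') :=
  fun q e hv => van_prod a Y.gr Y'.gr q e (h q e hv) (h' q e hv)

theorem inh_zero (X₀ : GMod.{u} 𝒜) : Inh a X₀ (zeroGMod 𝒜) :=
  fun q e _ => van_of_subsingleton (M := PUnit.{u + 1}) a zeroGr q e

theorem kos_inh (X₀ : GMod.{u} 𝒜) (l : List ↥(𝒜 1)) : ∀ p, Inh a X₀ ((kos X₀ l).X p) := by
  induction l with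
  | nil => exact fun p => inh_zero a X₀
  | cons y l ih =>
    intro p
    cases p with
    | zero => exact inh_prod a (ih 0) (fun q e hv => hv)
    | succ p => exact inh_prod a (ih (p + 1)) (ih p)

end inh

end Groth.Agent.Lib.Helper20.GrKos
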