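import Mathlib
import Groth.Prelude.Def_GrLC
import Groth.Agent.Lib.Helper20.GrKos
import Groth.Agent.Lib.Helper4.LC5

/-!
# Chopping the graded Koszul complex: Castelnuovo–Mumford type results for graded local cohomology
-/

set_option autoImplicit false
set_option linter.unusedSectionVars false
set_option linter.unusedVariables false
set_option linter.style.haveILetI false

universe u

open CategoryTheory GrLC Groth.Agent.Lib.Helper4.LC Groth.Agent.Lib.Helper20.GrLCBasic
  Groth.Agent.Lib.Helper20.GrLCQuot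
  Groth.Agent.Lib.Helper20.GrVan Groth.Agent.Lib.Helper20.GrProd Groth.Agent.Lib.Helper20.GrKos

namespace Groth.Agent.Lib.Helper20.GrChop

variable {R : Type u} [CommRing R] [IsNoetherianRing R] {𝒜 : ℤ → AddSubgroup R} [GradedRing 𝒜]
  (a : HomogeneousIdeal 𝒜)

section hom

variable {M : Type u} [AddCommGroup M] [Module R M] (ℳ : ℤ → AddSubgroup M)
  [DirectSum.Decomposition ℳ] [SetLike.GradedSMul 𝒜 ℳ]
  {N : Type u} [AddCommGroup N] [Module R N] (𝒩 : ℤ → AddSubgroup N)
  [DirectSum.Decomposition 𝒩] [SetLike.GradedSMul 𝒜 𝒩]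
  (φ : M →ₗ[R] N) (k : ℤ) (hφ : IsGrHomDeg ℳ 𝒩 φ k)

include hφ in
omit [IsNoetherianRing R] [SetLike.GradedSMul 𝒜 ℳ] [SetLike.GradedSMul 𝒜 𝒩] in
theorem ker_isHomogeneous_deg : (LinearMap.ker φ).IsHomogeneous ℳ :=
  ker_isHomogeneous ℳ (shiftGr 𝒩 k) φ (fun n m hm => hφ n m hm)

include hφ in
omit [IsNoetherianRing R] [SetLike.GradedSMul 𝒜 ℳ] [SetLike.GradedSMul 𝒜 𝒩] in
theorem range_isHomogeneous_deg : (LinearMap.range φ).IsHomogeneous 𝒩 :=
  isHomogeneous_of_shift 𝒩 k _ (range_isHomogeneous ℳ (shiftGr 𝒩 k) φ (fun n m hm => hφ n m hm))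

include hφ in
/-- vanishing for the image of a homogeneous map. -/
theorem van_range [DirectSum.Decomposition (subGr ℳ (LinearMap.ker φ))]
    [DirectSum.Decomposition (subGr 𝒩 (LinearMap.range φ))] (q : ℕ) (n : ℤ)
    (h1 : Van a ℳ q (n - k)) (h2 : Van a (subGr ℳ (LinearMap.ker φ)) (q + 1) (n - k)) :
    Van a (subGr 𝒩 (LinearMap.range φ)) q n := by
  refine van_right (ℳ' := subGr ℳ (LinearMap.ker φ)) (ℳ := ℳ)
    (ℳ'' := subGr 𝒩 (LinearMap.range φ)) a (LinearMap.ker φ).subtype φ.rangeRestrict 0 k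
    ?_ ?_ (Submodule.injective_subtype _) φ.surjective_rangeRestrict ?_ q n h1 ?_
  · intro n m hm
    rw [add_zero]
    exact hm
  · intro n m hm
    exact hφ n m hm
  · rw [LinearMap.exact_iff, Submodule.range_subtype, LinearMap.ker_rangeRestrict]
  · rw [sub_zero]
    exact h2

end hom

section sub

variable {X : Type u} [AddCommGroup X] [Module R X] (𝓧 : ℤ → AddSubgroup X)
  [DirectSum.Decomposition 𝓧] [SetLike.GradedSMul 𝒜 𝓧]

/-- enlarging a homogeneous submodule by something torsion does not affect vanishing of higher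
local cohomology. -/
theorem van_of_le_of_torsion (N' N : Submodule R X) (hN' : N'.IsHomogeneous 𝓧)
    (hle : N' ≤ N) (htors : ∀ r ∈ a.toIdeal, ∀ z ∈ N, r • z ∈ N')
    [DirectSum.Decomposition (subGr 𝓧 N')] [DirectSum.Decomposition (subGr 𝓧 N)] (q : ℕ) (e : ℤ)
    (h : Van a (subGr 𝓧 N') (q + 1) e) : Van a (subGr 𝓧 N) (q + 1) e := by
  classical
  set P : Submodule R ↥N := N'.comap N.subtype with hPdef
  have hP : P.IsHomogeneous (subGr 𝓧 N) := by
    intro i z hz
    show ((DirectSum.decompose (subGr 𝓧 N) z i : subGr 𝓧 N i) : ↥N).1 ∈ N'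
    have h1 := decompose_map (subGr 𝓧 N) 𝓧 N.subtype (subtype_isGrHom 𝓧 N) z i
    rw [Submodule.subtype_apply, Submodule.subtype_apply] at h1
    rw [← h1]
    exact hN' i hz
  letI : DirectSum.Decomposition (quotGr (subGr 𝓧 N) P) :=
    (isInternal_quotGr (subGr 𝓧 N) P hP).chooseDecomposition
  refine van_mid (ℳ' := subGr 𝓧 N') (ℳ := subGr 𝓧 N) (ℳ'' := quotGr (subGr 𝓧 N) P) a
    (Submodule.inclusion hle) P.mkQ 0 0 ?_ ?_ (Submodule.inclusion_injective hle)
    (Submodule.mkQ_surjective P) ?_ (q + 1) e ?_ ?_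
  · intro n m hm
    rw [add_zero]
    exact hm
  · intro n m hm
    rw [add_zero]
    exact mkQ_isGrHom (subGr 𝓧 N) P n m hm
  · rw [LinearMap.exact_iff, Submodule.ker_mkQ, Submodule.range_inclusion]
  · rw [sub_zero]
    exact h
  · rw [add_zero]
    apply van_of_torsion
    intro m
    obtain ⟨z, rfl⟩ := Submodule.mkQ_surjective P m
    refine ⟨1, fun r hr => ?_⟩
    rw [pow_one] at hr
    rw [← map_smul, Submodule.mkQ_apply, Submodule.Quotient.mk_eq_zero]
    exact htors r hr z.1 z.2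

end sub

section chop

variable {X₀ : GMod.{u} 𝒜} (C : ChCx X₀)

omit [IsNoetherianRing R] in
/-- if the generators of `a` act null-homotopically, `a` kills the homology. -/
theorem smul_mem_of_hasHtpy (S : Set R) (hS : a.toIdeal = Ideal.span S)
    (hH : ∀ y ∈ S, HasHtpy C y) {Y : Type u} [AddCommGroup Y] [Module R Y] (Z B : Submodule R Y)
    (h : ∀ y ∈ S, ∀ z ∈ Z, y • z ∈ B) : ∀ r ∈ a.toIdeal, ∀ z ∈ Z, r • z ∈ B := by
  intro r hr z hz
  rw [hS] at hr
  induction hr using Submodule.span_induction with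
  | mem y hy => exact h y hy z hz
  | zero =>
    rw [zero_smul]
    exact zero_mem _
  | add x y _ _ hx hy =>
    rw [add_smul]
    exact add_mem hx hy
  | smul s x _ hx =>
    rw [smul_eq_mul, mul_smul]
    exact B.smul_mem s hx

/-- **the chopping lemma.** -/
theorem van_range_d0 (S : Set R) (hS : a.toIdeal = Ideal.span S)
    (hH : ∀ y ∈ S, HasHtpy C y) (c : ℕ)
    (hcd : ∀ q, c < q → ∀ N : ModuleCat.{u} R, Subsingleton (HH a.toIdeal N q)) (i : ℕ) (j : ℤ)
    (hX : ∀ p : ℕ, Van a (C.X p).gr (i + p) (j - p - 1))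
    [DirectSum.Decomposition (subGr X₀.gr (LinearMap.range C.d0))] :
    Van a (subGr X₀.gr (LinearMap.range C.d0)) i j := by
  classical
  letI instB : ∀ p, DirectSum.Decomposition (subGr (C.X p).gr (LinearMap.range (C.d p))) :=
    fun p => (isInternal_subGr _ _
      (range_isHomogeneous_deg (C.X (p + 1)).gr (C.X p).gr (C.d p) 1 (C.d_deg p))).chooseDecomposition
  letI instZ : ∀ p, DirectSum.Decomposition (subGr (C.X (p + 1)).gr (LinearMap.ker (C.d p))) :=
    fun p => (isInternal_subGr _ _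
      (ker_isHomogeneous_deg (C.X (p + 1)).gr (C.X p).gr (C.d p) 1 (C.d_deg p))).chooseDecomposition
  letI instZ0 : DirectSum.Decomposition (subGr (C.X 0).gr (LinearMap.ker C.d0)) :=
    (isInternal_subGr _ _
      (ker_isHomogeneous_deg (C.X 0).gr X₀.gr C.d0 1 C.d0_deg)).chooseDecomposition
  -- the step
  have step : ∀ p : ℕ,
      Van a (subGr (C.X (p + 1)).gr (LinearMap.range (C.d (p + 1)))) (i + p + 2) (j - p - 2) →
      Van a (subGr (C.X p).gr (LinearMap.range (C.d p))) (i + p + 1) (j - p - 1) := by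
    intro p hp
    have hle : LinearMap.range (C.d (p + 1)) ≤ LinearMap.ker (C.d p) := by
      rintro _ ⟨z, rfl⟩
      exact C.d_comp p z
    have hZ : Van a (subGr (C.X (p + 1)).gr (LinearMap.ker (C.d p))) (i + p + 2) (j - p - 2) :=
      van_of_le_of_torsion a (C.X (p + 1)).gr _ _
        (range_isHomogeneous_deg (C.X (p + 2)).gr (C.X (p + 1)).gr (C.d (p + 1)) 1
          (C.d_deg (p + 1))) hle
        (smul_mem_of_hasHtpy a C S hS hH _ _ (fun y hy z hz =>
          (hH y hy).smul_mem_range_succ p z hz)) (i + p + 1) _ hp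
    have h1 : Van a (C.X (p + 1)).gr (i + p + 1) (j - p - 1 - 1) := by
      have := hX (p + 1)
      have e : j - ((p + 1 : ℕ) : ℤ) - 1 = j - p - 1 - 1 := by push_cast; ring
      rw [e] at this
      exact this
    have e2 : j - p - 2 = j - p - 1 - 1 := by ring
    rw [e2] at hZ
    exact van_range a (C.X (p + 1)).gr (C.X p).gr (C.d p) 1 (C.d_deg p) (i + p + 1) (j - p - 1)
      h1 hZ
  -- descending induction
  have key : ∀ k p : ℕ, c < i + p + 1 + k →
      Van a (subGr (C.X p).gr (LinearMap.range (C.d p))) (i + p + 1) (j - p - 1) := by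
    intro k
    induction k with
    | zero =>
      intro p hp
      exact van_of_HH a _ _ _ (hcd _ hp _)
    | succ k ih =>
      intro p hp
      apply step p
      have := ih (p + 1) (by omega)
      have e : j - ((p + 1 : ℕ) : ℤ) - 1 = j - p - 2 := by push_cast; ring
      rw [e] at this
      exact this
  have h0 := key (c + 1) 0 (by omega)
  have hle0 : LinearMap.range (C.d 0) ≤ LinearMap.ker C.d0 := by
    rintro _ ⟨z, rfl⟩
    exact C.d0_comp z
  have hZ0 : Van a (subGr (C.X 0).gr (LinearMap.ker C.d0)) (i + 1) (j - 1) := by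
    have e : j - ((0 : ℕ) : ℤ) - 1 = j - 1 := by push_cast; ring
    rw [e] at h0
    exact van_of_le_of_torsion a (C.X 0).gr _ _
      (range_isHomogeneous_deg (C.X 1).gr (C.X 0).gr (C.d 0) 1 (C.d_deg 0)) hle0
      (smul_mem_of_hasHtpy a C S hS hH _ _ (fun y hy z hz =>
        (hH y hy).smul_mem_range_zero z hz)) i _ h0
  have h1 : Van a (C.X 0).gr i (j - 1) := by
    have := hX 0
    have e : j - ((0 : ℕ) : ℤ) - 1 = j - 1 := by push_cast; ring
    rw [e] at this
    exact this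
  exact van_range a (C.X 0).gr X₀.gr C.d0 1 C.d0_deg i j h1 hZ0

end chop

section mumford

variable {M : Type u} [AddCommGroup M] [Module R M] (ℳ : ℤ → AddSubgroup M)
  [DirectSum.Decomposition ℳ] [SetLike.GradedSMul 𝒜 ℳ]

/-- a homogeneous torsion element of degree `n` vanishes if `H^0_a(M)_n = 0`. -/
theorem eq_zero_of_van_zero {n : ℤ} (h : Van a ℳ 0 n) {m : M} (hm : m ∈ ℳ n)
    (ht : m ∈ GrLC.gam a.toIdeal M) : m = 0 := by
  obtain ⟨E⟩ := Groth.Agent.S13215.result R 𝒜 M ℳ
  have hz := Groth.Agent.Lib.Helper20.GrFin2.eps_mem_cocyc_zero a E m ht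
  have h1 : E.toH a 0 ⟨E.ε m, hz⟩ ∈ E.Hcomp a 0 n := ⟨⟨E.ε m, hz⟩, E.ε_grHom n m hm, rfl⟩
  rw [h E] at h1
  have h2 : E.toH a 0 ⟨E.ε m, hz⟩ = 0 := (Submodule.mem_bot _).1 h1
  rw [Submodule.mkQ_apply, Submodule.Quotient.mk_eq_zero] at h2
  have h3 : E.ε m ∈ E.cobdy a 0 := h2
  have h4 : E.ε m = 0 := (Submodule.mem_bot _).1 h3
  exact E.ε_injective (h4.trans (map_zero _).symm)

variable (l : List ↥(𝒜 1)) (hl : a.toIdeal = Ideal.span {r : R | ∃ x ∈ l, (x : R) = r})

include hl in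
theorem subsingleton_HH_of_length_lt (q : ℕ) (hq : l.length < q)
    (N : ModuleCat.{u} R) : Subsingleton (HH a.toIdeal N q) := by
  classical
  have h1 := HH.subsingleton_span_finset (l.map Subtype.val).toFinset N q
    (lt_of_le_of_lt ((List.toFinset_card_le _).trans (List.length_map _).le) hq)
  have h2 : (((l.map Subtype.val).toFinset : Finset R) : Set R) =
      {r : R | ∃ x ∈ l, (x : R) = r} := by
    ext r
    simp
  rw [h2, ← hl] at h1
  exact h1

include hl in
/-- `a • M` contains the image of the Koszul augmentation, and conversely multiplication by an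
element of `a` lands in this image. -/
theorem smul_mem_range_kos (X₀ : GMod.{u} 𝒜) (r : R) (hr : r ∈ a.toIdeal) (z : X₀.carrier) :
    r • z ∈ LinearMap.range (kos X₀ l).d0 := by
  refine smul_mem_of_hasHtpy a (kos X₀ l) _ hl ?_ ⊤ _ ?_ r hr z trivial
  · rintro y ⟨x, hx, rfl⟩
    exact kos_hasHtpy _ l x hx
  · rintro y ⟨x, hx, rfl⟩ z _
    exact (kos_hasHtpy _ l x hx).smul_mem_range_d0 z

include hl in
/-- **Mumford's theorem**: weak `d`-regularity implies weak `(d+1)`-regularity. -/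
theorem van_succ_of_weakly' (X₀ : GMod.{u} 𝒜) (d : ℤ)
    (h : ∀ q : ℕ, 0 < q → Van a X₀.gr q (d - q + 1)) :
    ∀ q : ℕ, 0 < q → Van a X₀.gr q (d - q + 2) := by
  classical
  intro i hi
  obtain ⟨C, hC⟩ : ∃ C : ChCx X₀, C = kos X₀ l := ⟨_, rfl⟩
  have hH : ∀ y ∈ {r : R | ∃ x ∈ l, (x : R) = r}, HasHtpy C y := by
    rintro y ⟨x, hx, rfl⟩
    rw [hC]
    exact kos_hasHtpy _ l x hx
  have hinh : ∀ p, Inh a X₀ (C.X p) := by
    rw [hC]
    exact kos_inh a X₀ l
  have hsm : ∀ r ∈ a.toIdeal, ∀ z : X₀.carrier, r • z ∈ LinearMap.range C.d0 := by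
    rw [hC]
    exact smul_mem_range_kos a l hl X₀
  let ℳ := X₀.gr
  have hB : (LinearMap.range C.d0).IsHomogeneous ℳ :=
    range_isHomogeneous_deg (C.X 0).gr X₀.gr C.d0 1 C.d0_deg
  letI : DirectSum.Decomposition (subGr ℳ (LinearMap.range C.d0)) :=
    (isInternal_subGr ℳ _ hB).chooseDecomposition
  letI : DirectSum.Decomposition (quotGr ℳ (LinearMap.range C.d0)) :=
    (isInternal_quotGr ℳ _ hB).chooseDecomposition
  have hvB : Van a (subGr ℳ (LinearMap.range C.d0)) i (d - i + 2) := by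
    refine van_range_d0 a C _ hl hH l.length
      (fun q hq N => subsingleton_HH_of_length_lt a l hl q hq N) i (d - i + 2) (fun p => ?_)
    · apply hinh p
      have := h (i + p) (by omega)
      have e : d - ((i + p : ℕ) : ℤ) + 1 = d - i + 2 - p - 1 := by push_cast; ring
      rw [e] at this
      exact this
  obtain ⟨i', rfl⟩ : ∃ i', i = i' + 1 := ⟨i - 1, by omega⟩
  refine van_mid (ℳ' := subGr ℳ (LinearMap.range C.d0)) (ℳ := ℳ)
    (ℳ'' := quotGr ℳ (LinearMap.range C.d0)) a (LinearMap.range C.d0).subtype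
    (LinearMap.range C.d0).mkQ 0 0 ?_ ?_ (Submodule.injective_subtype _)
    (Submodule.mkQ_surjective _) ?_ (i' + 1) _ ?_ ?_
  · intro n m hm
    rw [add_zero]
    exact hm
  · intro n m hm
    rw [add_zero]
    exact mkQ_isGrHom ℳ _ n m hm
  · rw [LinearMap.exact_iff, Submodule.ker_mkQ, Submodule.range_subtype]
  · rw [sub_zero]
    exact hvB
  · apply van_of_torsion
    intro m
    obtain ⟨z, rfl⟩ := Submodule.mkQ_surjective _ m
    refine ⟨1, fun r hr => ?_⟩
    rw [pow_one] at hr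
    rw [← map_smul, Submodule.mkQ_apply, Submodule.Quotient.mk_eq_zero]
    exact hsm r hr z

include hl in
/-- **Mumford's theorem**: weak `d`-regularity implies weak `(d+1)`-regularity. -/
theorem van_succ_of_weakly (d : ℤ) (h : ∀ q : ℕ, 0 < q → Van a ℳ q (d - q + 1)) :
    ∀ q : ℕ, 0 < q → Van a ℳ q (d - q + 2) :=
  van_succ_of_weakly' a l hl (GMod.of 𝒜 M ℳ) d h

include hl in
/-- weak `d`-regularity implies weak `(d+k)`-regularity. -/
theorem van_add_of_weakly (d : ℤ) (h : ∀ q : ℕ, 0 < q → Van a ℳ q (d - q + 1)) (k : ℕ) :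
    ∀ q : ℕ, 0 < q → Van a ℳ q (d + k - q + 1) := by
  induction k with
  | zero =>
    intro q hq
    have := h q hq
    simpa using this
  | succ k ih =>
    intro q hq
    have := van_succ_of_weakly a ℳ l hl (d + k) ih q hq
    have e : d + ((k + 1 : ℕ) : ℤ) - q + 1 = d + k - q + 2 := by push_cast; ring
    rw [e]
    exact this

include hl in
/-- weak `d`-regularity implies vanishing of `H^q_a(M)_e` for all `e > d - q`, `q > 0`. -/
theorem van_of_weakly (d : ℤ) (h : ∀ q : ℕ, 0 < q → Van a ℳ q (d - q + 1)) (q : ℕ) (hq : 0 < q)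
    (e : ℤ) (he : d - q < e) : Van a ℳ q e := by
  obtain ⟨k, hk⟩ : ∃ k : ℕ, e = d + k - q + 1 := ⟨(e - d + q - 1).toNat, by
    rw [Int.toNat_of_nonneg (by omega)]
    ring⟩
  rw [hk]
  exact van_add_of_weakly a ℳ l hl d h k q hq

include hl in
/-- **generation in low degrees**: if `H^q_a(M)_{j-q} = 0` for all `q`, then `M_j ⊆ a M`. -/
theorem mem_smul_top_of_van' (X₀ : GMod.{u} 𝒜) (j : ℤ) (h0 : Van a X₀.gr 0 j)
    (h : ∀ q : ℕ, 0 < q → Van a X₀.gr q (j - q)) (z : X₀.carrier) (hz : z ∈ X₀.gr j) :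
    z ∈ a.toIdeal • (⊤ : Submodule R X₀.carrier) := by
  classical
  obtain ⟨C, hC⟩ : ∃ C : ChCx X₀, C = kos X₀ l := ⟨_, rfl⟩
  have hH : ∀ y ∈ {r : R | ∃ x ∈ l, (x : R) = r}, HasHtpy C y := by
    rintro y ⟨x, hx, rfl⟩
    rw [hC]
    exact kos_hasHtpy _ l x hx
  have hinh : ∀ p, Inh a X₀ (C.X p) := by
    rw [hC]
    exact kos_inh a X₀ l
  have hsm : ∀ r ∈ a.toIdeal, ∀ z : X₀.carrier, r • z ∈ LinearMap.range C.d0 := by
    rw [hC]
    exact smul_mem_range_kos a l hl X₀
  have hle : LinearMap.range C.d0 ≤ a.toIdeal • (⊤ : Submodule R X₀.carrier) := by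
    rw [hC]
    refine range_kos_d0_le X₀ l a.toIdeal (fun x hx => ?_)
    rw [hl]
    exact Ideal.subset_span ⟨x, hx, rfl⟩
  let ℳ := X₀.gr
  have hB : (LinearMap.range C.d0).IsHomogeneous ℳ :=
    range_isHomogeneous_deg (C.X 0).gr X₀.gr C.d0 1 C.d0_deg
  letI : DirectSum.Decomposition (subGr ℳ (LinearMap.range C.d0)) :=
    (isInternal_subGr ℳ _ hB).chooseDecomposition
  letI : DirectSum.Decomposition (quotGr ℳ (LinearMap.range C.d0)) :=
    (isInternal_quotGr ℳ _ hB).chooseDecomposition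
  have hvB : Van a (subGr ℳ (LinearMap.range C.d0)) 1 j := by
    refine van_range_d0 a C _ hl hH l.length
      (fun q hq N => subsingleton_HH_of_length_lt a l hl q hq N) 1 j (fun p => ?_)
    · apply hinh p
      have := h (1 + p) (by omega)
      have e : j - ((1 + p : ℕ) : ℤ) = j - p - 1 := by push_cast; ring
      rw [e] at this
      exact this
  have hvQ : Van a (quotGr ℳ (LinearMap.range C.d0)) 0 j := by
    refine van_right (ℳ' := subGr ℳ (LinearMap.range C.d0)) (ℳ := ℳ)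
      (ℳ'' := quotGr ℳ (LinearMap.range C.d0)) a (LinearMap.range C.d0).subtype
      (LinearMap.range C.d0).mkQ 0 0 ?_ ?_ (Submodule.injective_subtype _)
      (Submodule.mkQ_surjective _) ?_ 0 j ?_ ?_
    · intro n m hm
      rw [add_zero]
      exact hm
    · intro n m hm
      rw [add_zero]
      exact mkQ_isGrHom ℳ _ n m hm
    · rw [LinearMap.exact_iff, Submodule.ker_mkQ, Submodule.range_subtype]
    · rw [sub_zero]
      exact h0
    · rw [sub_zero, sub_zero]
      exact hvB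
  have hzq : (LinearMap.range C.d0).mkQ z = 0 := by
    refine eq_zero_of_van_zero a (quotGr ℳ (LinearMap.range C.d0)) hvQ
      (mkQ_mem_quotGr ℳ _ hz) ⟨1, fun r hr => ?_⟩
    rw [pow_one] at hr
    rw [← map_smul, Submodule.mkQ_apply, Submodule.Quotient.mk_eq_zero]
    exact hsm r hr z
  rw [Submodule.mkQ_apply, Submodule.Quotient.mk_eq_zero] at hzq
  exact hle hzq

include hl in
/-- **generation in low degrees**: if `H^q_a(M)_{j-q} = 0` for all `q`, then `M_j ⊆ a M`. -/
theorem mem_smul_top_of_van (j : ℤ) (h0 : Van a ℳ 0 j)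
    (h : ∀ q : ℕ, 0 < q → Van a ℳ q (j - q)) (z : M) (hz : z ∈ ℳ j) :
    z ∈ a.toIdeal • (⊤ : Submodule R M) :=
  mem_smul_top_of_van' a l hl (GMod.of 𝒜 M ℳ) j h0 h z hz

end mumford

end Groth.Agent.Lib.Helper20.GrChop
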