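import Mathlib
import Groth.Prelude.Def_GrLC
import Groth.Agent.Lib.Helper20.GrProd
import Groth.Agent.Lib.Helper20.GrLCExt

/-!
# Finite products of graded modules with different gradings; graded free modules
-/

set_option autoImplicit false
set_option linter.unusedSectionVars false
set_option linter.unusedVariables false
set_option linter.style.haveILetI false

universe u

open CategoryTheory GrLC Groth.Agent.Lib.Helper4.LC Groth.Agent.Lib.Helper20.GrLCBasic
  Groth.Agent.Lib.Helper20.GrRes Groth.Agent.Lib.Helper20.GrLES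
  Groth.Agent.Lib.Helper20.GrVan Groth.Agent.Lib.Helper20.GrProd

namespace Groth.Agent.Lib.Helper20.GrFreeMod

section family

variable {ι : Type} [Fintype ι] [DecidableEq ι] {M : Type u} [AddCommGroup M]
  (ℳ : ι → ℤ → AddSubgroup M)

/-- the product grading on `ι → M`, the `b`-th factor being graded by `ℳ b`. -/
def piGr : ℤ → AddSubgroup (ι → M) := fun e =>
  { carrier := {v | ∀ b, v b ∈ ℳ b e}
    zero_mem' := fun b => zero_mem _
    add_mem' := fun hv hw b => add_mem (hv b) (hw b)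
    neg_mem' := fun hv b => neg_mem (hv b) }

lemma mem_piGr {e : ℤ} {v : ι → M} : v ∈ piGr ℳ e ↔ ∀ b, v b ∈ ℳ b e := Iff.rfl

lemma single_mem (b : ι) {e : ℤ} {y : M} (hy : y ∈ ℳ b e) : Pi.single b y ∈ piGr ℳ e := by
  intro b'
  by_cases h : b' = b
  · subst h
    rw [Pi.single_eq_same]
    exact hy
  · rw [Pi.single_eq_of_ne h]
    exact zero_mem _

/-- inclusion of the pieces of the `b`-th factor. -/
def singleHom (b : ι) (e : ℤ) : ↥(ℳ b e) →+ ↥(piGr ℳ e) where
  toFun y := ⟨Pi.single b y.1, single_mem ℳ b y.2⟩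
  map_zero' := by
    apply Subtype.ext
    simp
  map_add' y y' := by
    apply Subtype.ext
    simp [Pi.single_add]

lemma coe_map_single (b : ι) (y : DirectSum ℤ (fun e => ↥(ℳ b e))) :
    DirectSum.coeAddMonoidHom (piGr ℳ) (DirectSum.map (singleHom ℳ b) y) =
      Pi.single b (DirectSum.coeAddMonoidHom (ℳ b) y) := by
  classical
  induction y using DirectSum.induction_on with
  | zero =>
    rw [map_zero, map_zero, map_zero, Pi.single_zero]
  | of i z =>
    rw [DirectSum.map_of, DirectSum.coeAddMonoidHom_of, DirectSum.coeAddMonoidHom_of]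
    rfl
  | add y y' h h' =>
    rw [map_add, map_add, map_add, h, h', Pi.single_add]

variable [∀ b, DirectSum.Decomposition (ℳ b)]

noncomputable instance piDecomposition : DirectSum.Decomposition (piGr ℳ) where
  decompose' v := ∑ b, DirectSum.map (singleHom ℳ b) (DirectSum.decompose (ℳ b) (v b))
  left_inv v := by
    rw [map_sum]
    have : ∀ b, DirectSum.coeAddMonoidHom (piGr ℳ)
        (DirectSum.map (singleHom ℳ b) (DirectSum.decompose (ℳ b) (v b))) = Pi.single b (v b) := by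
      intro b
      rw [coe_map_single]
      congr 1
      exact DirectSum.Decomposition.left_inv (v b)
    rw [Finset.sum_congr rfl (fun b _ => this b)]
    exact Finset.univ_sum_single v
  right_inv y := by
    classical
    induction y using DirectSum.induction_on with
    | zero =>
      beta_reduce
      rw [map_zero]
      refine Finset.sum_eq_zero fun b _ => ?_
      rw [Pi.zero_apply, DirectSum.decompose_zero, map_zero]
    | of i z =>
      beta_reduce
      rw [DirectSum.coeAddMonoidHom_of]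
      have hz : ∀ b, (z : ι → M) b ∈ ℳ b i := z.2
      have : ∀ b, DirectSum.map (singleHom ℳ b) (DirectSum.decompose (ℳ b) ((z : ι → M) b)) =
          DirectSum.of (fun e => ↥(piGr ℳ e)) i (singleHom ℳ b i ⟨(z : ι → M) b, hz b⟩) := by
        intro b
        rw [DirectSum.decompose_of_mem (ℳ b) (hz b), DirectSum.map_of]
      rw [Finset.sum_congr rfl (fun b _ => this b), ← map_sum]
      congr 1
      apply Subtype.ext
      rw [AddSubgroup.val_finset_sum]
      exact Finset.univ_sum_single (z : ι → M)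
    | add y y' h h' =>
      beta_reduce at h h' ⊢
      rw [map_add]
      conv_rhs => rw [← h, ← h']
      rw [← Finset.sum_add_distrib]
      refine Finset.sum_congr rfl fun b _ => ?_
      rw [Pi.add_apply, DirectSum.decompose_add, map_add]

end family

section modules

variable {R : Type u} [CommRing R] (𝒜 : ℤ → AddSubgroup R) [GradedRing 𝒜]
  {ι : Type} [Fintype ι] [DecidableEq ι] {M : Type u} [AddCommGroup M] [Module R M]
  (ℳ : ι → ℤ → AddSubgroup M)

instance piGradedSMul [∀ b, SetLike.GradedSMul 𝒜 (ℳ b)] : SetLike.GradedSMul 𝒜 (piGr ℳ) where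
  smul_mem := by
    intro i j r v hr hv b
    exact SetLike.GradedSMul.smul_mem (A := 𝒜) (B := ℳ b) hr (hv b)

end modules

section van

variable {R : Type u} [CommRing R] [IsNoetherianRing R] {𝒜 : ℤ → AddSubgroup R} [GradedRing 𝒜]
  (a : HomogeneousIdeal 𝒜)

omit [IsNoetherianRing R] in
lemma HH_map_add (I : Ideal R) {M M' : ModuleCat.{u} R} (f g : M ⟶ M') (i : ℕ) (x : HH I M i) :
    HH.map I (f + g) i x = HH.map I f i x + HH.map I g i x := by
  obtain ⟨n, y, rfl⟩ := HH.exists_of I M i x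
  rw [HH.map_of, HH.map_of, HH.map_of, Abelian.Ext.mk₀_add, Abelian.Ext.comp_add, map_add]

omit [IsNoetherianRing R] in
lemma HH_map_sum (I : Ideal R) {M M' : ModuleCat.{u} R} {ι : Type} (s : Finset ι)
    (f : ι → (M ⟶ M')) (i : ℕ) (x : HH I M i) :
    HH.map I (∑ b ∈ s, f b) i x = ∑ b ∈ s, HH.map I (f b) i x := by
  classical
  induction s using Finset.induction_on with
  | empty => rw [Finset.sum_empty, Finset.sum_empty, HH.map_zero']
  | insert b s hb ih => rw [Finset.sum_insert hb, Finset.sum_insert hb, HH_map_add, ih]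

variable {ι : Type} [Fintype ι] [DecidableEq ι] {M : Type u} [AddCommGroup M] [Module R M]
  (ℳ : ι → ℤ → AddSubgroup M) [∀ b, DirectSum.Decomposition (ℳ b)]
  [∀ b, SetLike.GradedSMul 𝒜 (ℳ b)]

/-- vanishing of a piece of the local cohomology of a finite product. -/
theorem van_pi (q : ℕ) (e : ℤ) (h : ∀ b, Van a (ℳ b) q e) : Van a (piGr ℳ) q e := by
  classical
  intro E
  have hE : ∀ b, Nonempty (StarInjRes 𝒜 (ℳ b)) := fun b => Groth.Agent.S13215.result R 𝒜 M (ℳ b)
  let Eb : ∀ b, StarInjRes 𝒜 (ℳ b) := fun b => (hE b).some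
  have hπ : ∀ b, IsGrHomDeg (piGr ℳ) (ℳ b) (LinearMap.proj b : (ι → M) →ₗ[R] M) 0 := by
    intro b n v hv
    rw [add_zero]
    exact hv b
  have hι : ∀ b, IsGrHomDeg (ℳ b) (piGr ℳ) (LinearMap.single R (fun _ : ι => M) b) 0 := by
    intro b n y hy
    rw [add_zero]
    exact single_mem ℳ b hy
  have hlπ : ∀ b, Nonempty (Lift E (toCx (Eb b))
      ((Eb b).ε ∘ₗ (LinearMap.proj b : (ι → M) →ₗ[R] M)) 0) :=
    fun b => nonempty_lift _ 0 (hπ b) E (Eb b)
  have hlι : ∀ b, Nonempty (Lift (Eb b) (toCx E)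
      (E.ε ∘ₗ (LinearMap.single R (fun _ : ι => M) b)) 0) :=
    fun b => nonempty_lift _ 0 (hι b) (Eb b) E
  let lπ : ∀ b, Lift E (toCx (Eb b))
      ((Eb b).ε ∘ₗ (LinearMap.proj b : (ι → M) →ₗ[R] M)) 0 := fun b => (hlπ b).some
  let lι : ∀ b, Lift (Eb b) (toCx E)
      (E.ε ∘ₗ (LinearMap.single R (fun _ : ι => M) b)) 0 := fun b => (hlι b).some
  rw [Submodule.eq_bot_iff]
  intro z hz
  have hsum : z = ∑ b, (lι b).Hmap a q ((lπ b).Hmap a q z) := by
    apply (cmpE E a q).injective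
    rw [map_sum]
    have : ∀ b, cmpE E a q ((lι b).Hmap a q ((lπ b).Hmap a q z)) =
        HH.map a.toIdeal (ModuleCat.ofHom (LinearMap.proj b : (ι → M) →ₗ[R] M) ≫
          ModuleCat.ofHom (LinearMap.single R (fun _ : ι => M) b)) q (cmpE E a q z) := by
      intro b
      rw [cmpE_Hmap, cmpE_Hmap, HH.map_comp]
    rw [Finset.sum_congr rfl (fun b _ => this b), ← HH_map_sum]
    have hid : (∑ b, (ModuleCat.ofHom (LinearMap.proj b : (ι → M) →ₗ[R] M) ≫
          ModuleCat.ofHom (LinearMap.single R (fun _ : ι => M) b))) =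
        𝟙 (ModuleCat.of R (ι → M)) := by
      apply ModuleCat.hom_ext
      apply LinearMap.ext
      intro v
      rw [ModuleCat.hom_sum]
      simp only [ModuleCat.hom_comp, ModuleCat.hom_ofHom, ModuleCat.hom_id, LinearMap.id_coe,
        id_eq, LinearMap.coe_sum, Finset.sum_apply, LinearMap.comp_apply, LinearMap.proj_apply,
        LinearMap.single_apply]
      exact Finset.univ_sum_single v
    rw [hid, HH.map_id]
  rw [hsum]
  refine Finset.sum_eq_zero fun b _ => ?_
  have h1 : (lπ b).Hmap a q z ∈ (Eb b).Hcomp a q (e + 0) := (lπ b).Hmap_mem a q e z hz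
  rw [add_zero, h b (Eb b)] at h1
  rw [(Submodule.mem_bot _).1 h1, map_zero]

end van

section more

variable {R : Type u} [CommRing R] [IsNoetherianRing R] {𝒜 : ℤ → AddSubgroup R} [GradedRing 𝒜]
  (a : HomogeneousIdeal 𝒜)
  {M : Type u} [AddCommGroup M] [Module R M] (ℳ : ℤ → AddSubgroup M)
  [DirectSum.Decomposition ℳ] [SetLike.GradedSMul 𝒜 ℳ]
  {N : Type u} [AddCommGroup N] [Module R N] (𝒩 : ℤ → AddSubgroup N)
  [DirectSum.Decomposition 𝒩] [SetLike.GradedSMul 𝒜 𝒩]

/-- vanishing is transported along bijective homogeneous maps. -/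
theorem van_of_bijective (φ : M →ₗ[R] N) (hφ : Function.Bijective φ) (k : ℤ)
    (hdeg : IsGrHomDeg ℳ 𝒩 φ k) (q : ℕ) (n : ℤ) (h : Van a ℳ q (n - k)) : Van a 𝒩 q n := by
  refine van_right (ℳ' := zeroGr.{u}) (ℳ := ℳ) (ℳ'' := 𝒩) a (0 : PUnit.{u + 1} →ₗ[R] M) φ 0 k
    ?_ hdeg ?_ hφ.2 ?_ q n h ?_
  · intro n m _
    exact zero_mem _
  · intro x y _
    exact Subsingleton.elim _ _
  · rw [LinearMap.exact_iff, LinearMap.range_zero]
    exact LinearMap.ker_eq_bot.2 hφ.1
  · exact van_of_subsingleton (M := PUnit.{u + 1}) a zeroGr (q + 1) _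

omit [IsNoetherianRing R] in
/-- elements of `H^0_a(M)_e` come from torsion elements of `M_e`. -/
theorem exists_of_mem_Hcomp_zero (E : StarInjRes 𝒜 ℳ) (e : ℤ) (z : E.H a 0)
    (hz : z ∈ E.Hcomp a 0 e) :
    ∃ m : M, m ∈ ℳ e ∧ m ∈ GrLC.gam a.toIdeal M ∧ ∀ hm : E.ε m ∈ E.cocyc a 0,
      E.toH a 0 ⟨E.ε m, hm⟩ = z := by
  obtain ⟨w, hw, rfl⟩ := hz
  obtain ⟨m, hm, hmw⟩ := Groth.Agent.Lib.Helper20.GrFin2.exists_of_mem_cocyc_zero a E w
  refine ⟨m, ?_, hm, fun hm' => ?_⟩
  · apply Groth.Agent.Lib.Helper20.GrLCQuot.mem_of_map_mem ℳ (E.X 0).gr E.ε E.ε_grHom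
      E.ε_injective
    rw [hmw]
    exact hw
  · congr 1
    exact Subtype.ext hmw

omit [IsNoetherianRing R] in
theorem van_zero_of_forall (e : ℤ)
    (h : ∀ m : M, m ∈ ℳ e → m ∈ GrLC.gam a.toIdeal M → m = 0) : Van a ℳ 0 e := by
  intro E
  rw [Submodule.eq_bot_iff]
  intro z hz
  obtain ⟨m, hm, hmt, hmz⟩ := exists_of_mem_Hcomp_zero a ℳ E e z hz
  have h0 := h m hm hmt
  subst h0
  have hz0 : E.ε (0 : M) ∈ E.cocyc a 0 := by
    rw [map_zero]
    exact zero_mem _
  rw [← hmz hz0]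
  have : (⟨E.ε (0 : M), hz0⟩ : E.cocyc a 0) = 0 := Subtype.ext (map_zero _)
  rw [this, map_zero]

omit [IsNoetherianRing R] in
/-- `H^0_a(M)_e = 0` if `M_e = 0`. -/
theorem van_zero_of_piece_eq_bot (e : ℤ) (h : ℳ e = ⊥) : Van a ℳ 0 e := by
  apply van_zero_of_forall
  intro m hm _
  rw [h] at hm
  exact (AddSubgroup.mem_bot).1 hm

omit [IsNoetherianRing R] in
/-- `H^0_a(M) = 0` if some element of `a` is a nonzerodivisor on `M`. -/
theorem van_zero_of_injective (x : R) (hx : x ∈ a.toIdeal) (hinj : ∀ m : M, x • m = 0 → m = 0)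
    (e : ℤ) : Van a ℳ 0 e := by
  apply van_zero_of_forall
  intro m _ hmt
  obtain ⟨k, hk⟩ := hmt
  have h1 : x ^ k • m = 0 := hk _ (Ideal.pow_mem_pow hx k)
  clear hk
  induction k with
  | zero => rwa [pow_zero, one_smul] at h1
  | succ k ih =>
    apply ih
    apply hinj
    rw [smul_smul, ← pow_succ']
    exact h1

variable (𝒜) in
/-- the grading of the free module with basis vectors in degrees `deg b`. -/
def freeGr {ι : Type} [Fintype ι] [DecidableEq ι] (deg : ι → ℤ) : ℤ → AddSubgroup (ι → R) :=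
  piGr (fun b => shiftGr 𝒜 (-deg b))

omit [IsNoetherianRing R] in
lemma mem_freeGr {ι : Type} [Fintype ι] [DecidableEq ι] (deg : ι → ℤ) {e : ℤ} {v : ι → R} :
    v ∈ freeGr 𝒜 deg e ↔ ∀ b, v b ∈ 𝒜 (e + -deg b) := Iff.rfl

noncomputable instance freeDecomposition {ι : Type} [Fintype ι] [DecidableEq ι] (deg : ι → ℤ) :
    DirectSum.Decomposition (freeGr 𝒜 deg) :=
  piDecomposition (fun b => shiftGr 𝒜 (-deg b))

instance freeGradedSMul {ι : Type} [Fintype ι] [DecidableEq ι] (deg : ι → ℤ) :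
    SetLike.GradedSMul 𝒜 (freeGr 𝒜 deg) :=
  piGradedSMul 𝒜 (fun b => shiftGr 𝒜 (-deg b))

variable (𝒜) in
/-- the bundled graded free module. -/
noncomputable def freeGMod {ι : Type} [Fintype ι] [DecidableEq ι] (deg : ι → ℤ) : GMod.{u} 𝒜 :=
  { carrier := ι → R
    gr := freeGr 𝒜 deg }

/-- vanishing for graded free modules. -/
theorem van_free {ι : Type} [Fintype ι] [DecidableEq ι] (deg : ι → ℤ) (q : ℕ) (e : ℤ)
    (h : ∀ b, Van a 𝒜 q (e - deg b)) : Van a (freeGr 𝒜 deg) q e := by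
  apply van_pi
  intro b
  refine van_of_bijective a 𝒜 (shiftGr 𝒜 (-deg b)) LinearMap.id Function.bijective_id (deg b)
    ?_ q e (h b)
  intro n m hm
  show m ∈ 𝒜 (n + deg b + -deg b)
  rw [add_neg_cancel_right]
  exact hm

end more

end Groth.Agent.Lib.Helper20.GrFreeMod
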