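import Mathlib
import Groth.Prelude.Def_GrLC
import Groth.Agent.Lib.Helper20.GrLES
import Groth.Agent.Lib.Helper20.GrLES2
import Groth.Agent.Lib.Helper20.GrFin2
import Groth.Agent.Lib.Helper20.GrAinv
import Groth.Agent.S13215

/-!
# Weak regularity passes to quotients by quasi-regular linear forms
-/

set_option autoImplicit false
set_option linter.unusedSectionVars false
set_option linter.unusedVariables false

universe u

open CategoryTheory GrLC Groth.Agent.Lib.Helper4.LC Groth.Agent.Lib.Helper20.GrLCBasic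
  Groth.Agent.Lib.Helper20.GrLCQuot Groth.Agent.Lib.Helper20.GrRes
  Groth.Agent.Lib.Helper20.GrLES Groth.Agent.Lib.Helper20.GrLES2
  Groth.Agent.Lib.Helper20.GrFin2

namespace Groth.Agent.Lib.Helper20.GrWeakReg

variable {R : Type u} [CommRing R] [IsNoetherianRing R] {𝒜 : ℤ → AddSubgroup R} [GradedRing 𝒜]
  (a : HomogeneousIdeal 𝒜)

section surj

variable {M : Type u} [AddCommGroup M] [Module R M] {ℳ : ℤ → AddSubgroup M}
  [DirectSum.Decomposition ℳ] [SetLike.GradedSMul 𝒜 ℳ]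

/-- if the kernel `K` of a homogeneous surjection `M → M̄` is `a`-torsion, vanishing of a piece of
`H^j_a(M)` implies vanishing of the same piece of `H^j_a(M̄)`. -/
theorem Hcomp_quotient_eq_bot_of_torsion (K : Submodule R M) (hK : K.IsHomogeneous ℳ)
    (hKtors : ∀ m ∈ K, m ∈ GrLC.gam a.toIdeal M)
    {Mb : Type u} [AddCommGroup Mb] [Module R Mb] {ℳb : ℤ → AddSubgroup Mb}
    [DirectSum.Decomposition ℳb] [SetLike.GradedSMul 𝒜 ℳb] (q : M →ₗ[R] Mb)
    (hq : IsGrHom ℳ ℳb q) (hqs : Function.Surjective q) (hqk : LinearMap.ker q = K)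
    (E : StarInjRes 𝒜 ℳ) (Eb : StarInjRes 𝒜 ℳb) (j : ℕ) (n : ℤ)
    (h : E.Hcomp a j n = ⊥) : Eb.Hcomp a j n = ⊥ := by
  classical
  letI : DirectSum.Decomposition (subGr ℳ K) := (isInternal_subGr ℳ K hK).chooseDecomposition
  obtain ⟨EK⟩ := Groth.Agent.S13215.result R 𝒜 ↥K (subGr ℳ K)
  have hf : IsGrHomDeg (subGr ℳ K) ℳ K.subtype 0 := by
    intro n m hm
    rw [add_zero]
    exact hm
  have hg : IsGrHomDeg ℳ ℳb q 0 := by
    intro n m hm
    rw [add_zero]
    exact hq n m hm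
  have hex : Function.Exact K.subtype q := by
    rw [LinearMap.exact_iff, hqk, Submodule.range_subtype]
  obtain ⟨lf⟩ := nonempty_lift K.subtype 0 hf EK E
  obtain ⟨lg⟩ := nonempty_lift q 0 hg E Eb
  obtain ⟨D, hD, -, -, -, -, h3, -, -⟩ :=
    exists_grLES K.subtype q 0 0 hf hg (Submodule.injective_subtype K) hqs hex EK E Eb a lf lg
  -- `H^{j+1}_a(K) = 0`
  have hKpt : LocCoh.IsPowerTorsion a.toIdeal ↥K := by
    intro m
    obtain ⟨k, hk⟩ := hKtors m.1 m.2
    exact ⟨k, fun r hr => Subtype.ext (hk r hr)⟩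
  haveI : Subsingleton (EK.H a (j + 1)) :=
    subsingleton_H_of_HH EK a (j + 1) (HH.subsingleton_of_isPowerTorsion a.toIdeal j ↥K hKpt)
  letI := decH E a j
  letI := decH Eb a j
  rw [Submodule.eq_bot_iff]
  intro z hz
  have hz' : z ∈ Eb.Hgr a j (n + 0) := by
    rw [add_zero]
    exact hz
  obtain ⟨y, hy⟩ := h3 j z (Subsingleton.elim _ _)
  obtain ⟨y', hy', hy'z⟩ := exists_piece_preimage (E.Hgr a j) (Eb.Hgr a j) (lg.Hmap a j) 0
    (fun n x hx => lg.Hmap_mem a j n x hx) n z hz' y hy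
  have : y' = 0 := by
    have h1 : y' ∈ E.Hcomp a j n := hy'
    rw [h] at h1
    exact (Submodule.mem_bot _).1 h1
  rw [← hy'z, this, map_zero]

end surj

section main

variable {M : Type u} [AddCommGroup M] [Module R M] {ℳ : ℤ → AddSubgroup M}
  [DirectSum.Decomposition ℳ] [SetLike.GradedSMul 𝒜 ℳ]
  {N : Type u} [AddCommGroup N] [Module R N] {𝒩 : ℤ → AddSubgroup N}
  [DirectSum.Decomposition 𝒩] [SetLike.GradedSMul 𝒜 𝒩]

/-- **weak regularity passes to the quotient by a quasi-regular linear form.** -/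
theorem Hcomp_quotient_eq_bot_of_weaklyRegular (x : R) (hx : x ∈ 𝒜 1)
    (hKtors : ∀ m : M, x • m = 0 → m ∈ GrLC.gam a.toIdeal M)
    (π : M →ₗ[R] N) (hπ : Function.Surjective π) (hπg : IsGrHom ℳ 𝒩 π)
    (hker : LinearMap.ker π = LinearMap.range (LinearMap.lsmul R M x))
    (E : StarInjRes 𝒜 ℳ) (E' : StarInjRes 𝒜 𝒩) (d : ℤ)
    (hM : ∀ i : ℕ, 0 < i → E.Hcomp a i (d - (i : ℤ) + 1) = ⊥) (i : ℕ) (hi : 0 < i) :
    E'.Hcomp a i (d - (i : ℤ) + 1) = ⊥ := by
  classical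
  set K : Submodule R M := LinearMap.ker (LinearMap.lsmul R M x) with hKdef
  have hxgr : IsGrHom ℳ (shiftGr ℳ 1) (LinearMap.lsmul R M x) := by
    intro n m hm
    have h := SetLike.GradedSMul.smul_mem (A := 𝒜) (B := ℳ) hx hm
    rw [vadd_eq_add, add_comm] at h
    exact h
  have hK : K.IsHomogeneous ℳ := ker_isHomogeneous ℳ (shiftGr ℳ 1) (LinearMap.lsmul R M x) hxgr
  letI : DirectSum.Decomposition (quotGr ℳ K) := (isInternal_quotGr ℳ K hK).chooseDecomposition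
  obtain ⟨Eb⟩ := Groth.Agent.S13215.result R 𝒜 (M ⧸ K) (quotGr ℳ K)
  -- step A
  have hA : Eb.Hcomp a (i + 1) (d - ((i + 1 : ℕ) : ℤ) + 1) = ⊥ :=
    Hcomp_quotient_eq_bot_of_torsion a K hK (fun m hm => hKtors m hm) K.mkQ (mkQ_isGrHom ℳ K)
      (Submodule.mkQ_surjective K) (Submodule.ker_mkQ K) E Eb (i + 1) _ (hM (i + 1) (by omega))
  -- the second short exact sequence
  let fb : (M ⧸ K) →ₗ[R] M := K.liftQ (LinearMap.lsmul R M x) le_rfl
  have hfb : IsGrHomDeg (quotGr ℳ K) ℳ fb 1 := by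
    rintro n _ ⟨m, hm, rfl⟩
    exact hxgr n m hm
  have hfbinj : Function.Injective fb := by
    rw [← LinearMap.ker_eq_bot]
    exact Submodule.ker_liftQ_eq_bot _ _ _ le_rfl
  have hg : IsGrHomDeg ℳ 𝒩 π 0 := by
    intro n m hm
    rw [add_zero]
    exact hπg n m hm
  have hex : Function.Exact fb π := by
    rw [LinearMap.exact_iff, hker]
    exact (Submodule.range_liftQ K (LinearMap.lsmul R M x) le_rfl).symm
  obtain ⟨lf⟩ := nonempty_lift fb 1 hfb Eb E
  obtain ⟨lg⟩ := nonempty_lift π 0 hg E E'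
  obtain ⟨D, hD, -, -, -, -, h3, -, -⟩ :=
    exists_grLES fb π 1 0 hfb hg hfbinj hπ hex Eb E E' a lf lg
  letI := decH E a i
  letI := decH E' a i
  rw [Submodule.eq_bot_iff]
  intro z hz
  have hDz : D i z = 0 := by
    have h1 := hD i _ z hz
    have e1 : d - (i : ℤ) + 1 + (-0 + -1) = d - ((i + 1 : ℕ) : ℤ) + 1 := by
      push_cast
      ring
    rw [e1, hA] at h1
    exact (Submodule.mem_bot _).1 h1
  obtain ⟨y, hy⟩ := h3 i z hDz
  have hz' : z ∈ E'.Hgr a i (d - (i : ℤ) + 1 + 0) := by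
    rw [add_zero]
    exact hz
  obtain ⟨y', hy', hy'z⟩ := exists_piece_preimage (E.Hgr a i) (E'.Hgr a i) (lg.Hmap a i) 0
    (fun n x hx => lg.Hmap_mem a i n x hx) _ z hz' y hy
  have : y' = 0 := by
    have h1 : y' ∈ E.Hcomp a i (d - (i : ℤ) + 1) := hy'
    rw [hM i hi] at h1
    exact (Submodule.mem_bot _).1 h1
  rw [← hy'z, this, map_zero]

end main

end Groth.Agent.Lib.Helper20.GrWeakReg
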