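import Mathlib
import Groth.Prelude.Def_GrLC
import Groth.Agent.Lib.Helper20.GrChop
import Groth.Agent.Lib.Helper20.GrWeakReg

/-!
# `d`-regularity (in the local cohomology sense) and quotients by quasi-regular linear forms
-/

set_option autoImplicit false
set_option linter.unusedSectionVars false
set_option linter.unusedVariables false
set_option linter.style.haveILetI false

universe u

open CategoryTheory GrLC Groth.Agent.Lib.Helper4.LC Groth.Agent.Lib.Helper20.GrLCBasic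
  Groth.Agent.Lib.Helper20.GrLCQuot Groth.Agent.Lib.Helper20.GrRes
  Groth.Agent.Lib.Helper20.GrLES Groth.Agent.Lib.Helper20.GrLES2
  Groth.Agent.Lib.Helper20.GrFin2
  Groth.Agent.Lib.Helper20.GrVan Groth.Agent.Lib.Helper20.GrProd Groth.Agent.Lib.Helper20.GrKos
  Groth.Agent.Lib.Helper20.GrChop

namespace Groth.Agent.Lib.Helper20.GrReg1

section endDeg

variable {N : Type u} [AddCommGroup N] (𝒩 : ℤ → AddSubgroup N)

theorem endDeg_le_iff (d : ℤ) :
    endDeg 𝒩 ≤ ((d : WithTop ℤ) : WithBot (WithTop ℤ)) ↔ ∀ n : ℤ, d < n → 𝒩 n = ⊥ := by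
  constructor
  · intro h n hn
    apply eq_bot_of_endDeg_lt
    refine lt_of_le_of_lt h ?_
    exact_mod_cast hn
  · intro h
    refine iSup₂_le fun n hn => ?_
    have : n ≤ d := by
      by_contra hlt
      exact hn (h n (by omega))
    exact_mod_cast this

end endDeg

variable {R : Type u} [CommRing R] [IsNoetherianRing R] {𝒜 : ℤ → AddSubgroup R} [GradedRing 𝒜]
  (a : HomogeneousIdeal 𝒜)

section main

variable {M : Type u} [AddCommGroup M] [Module R M] {ℳ : ℤ → AddSubgroup M}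
  [DirectSum.Decomposition ℳ] [SetLike.GradedSMul 𝒜 ℳ]
  {N : Type u} [AddCommGroup N] [Module R N] {𝒩 : ℤ → AddSubgroup N}
  [DirectSum.Decomposition 𝒩] [SetLike.GradedSMul 𝒜 𝒩]
  (l : List ↥(𝒜 1)) (hl : a.toIdeal = Ideal.span {r : R | ∃ x ∈ l, (x : R) = r})
  (x : R) (hx : x ∈ 𝒜 1) (hxa : x ∈ a.toIdeal)
  (hKtors : ∀ m : M, x • m = 0 → m ∈ GrLC.gam a.toIdeal M)
  (π : M →ₗ[R] N) (hπ : Function.Surjective π) (hπg : IsGrHom ℳ 𝒩 π)
  (hker : LinearMap.ker π = LinearMap.range (LinearMap.lsmul R M x))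

include hl hx hKtors hπ hπg hker in
/-- if `M` is `d`-regular then `H^0_a(M/xM)` vanishes above `d`. -/
theorem van_zero_quotient (d : ℤ) (hM : ∀ i : ℕ, 0 < i → Van a ℳ i (d - i + 1)) (e : ℤ)
    (he : d < e) (h0 : Van a ℳ 0 e) : Van a 𝒩 0 e := by
  classical
  set K : Submodule R M := LinearMap.ker (LinearMap.lsmul R M x) with hKdef
  have hxgr : IsGrHom ℳ (shiftGr ℳ 1) (LinearMap.lsmul R M x) := by
    intro n m hm
    have h := SetLike.GradedSMul.smul_mem (A := 𝒜) (B := ℳ) hx hm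
    rw [vadd_eq_add, add_comm] at h
    exact h
  have hK : K.IsHomogeneous ℳ := ker_isHomogeneous ℳ (shiftGr ℳ 1) (LinearMap.lsmul R M x) hxgr
  letI : DirectSum.Decomposition (quotGr ℳ K) := (isInternal_quotGr ℳ K hK).chooseDecomposition
  letI : DirectSum.Decomposition (subGr ℳ K) := (isInternal_subGr ℳ K hK).chooseDecomposition
  let fb : (M ⧸ K) →ₗ[R] M := K.liftQ (LinearMap.lsmul R M x) le_rfl
  have hfb : IsGrHomDeg (quotGr ℳ K) ℳ fb 1 := by
    rintro n _ ⟨m, hm, rfl⟩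
    exact hxgr n m hm
  have hfbinj : Function.Injective fb := by
    rw [← LinearMap.ker_eq_bot]
    exact Submodule.ker_liftQ_eq_bot _ _ _ le_rfl
  have hg : IsGrHomDeg ℳ 𝒩 π 0 := by
    intro n m hm
    rw [add_zero]
    exact hπg n m hm
  have hex : Function.Exact fb π := by
    rw [LinearMap.exact_iff, hker]
    exact (Submodule.range_liftQ K (LinearMap.lsmul R M x) le_rfl).symm
  -- `H^1(M/K)_{e-1} = 0`
  have h1 : Van a (quotGr ℳ K) 1 (e - 1) := by
    refine van_right (ℳ' := subGr ℳ K) (ℳ := ℳ) (ℳ'' := quotGr ℳ K) a K.subtype K.mkQ 0 0 ?_ ?_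
      (Submodule.injective_subtype K) (Submodule.mkQ_surjective K) ?_ 1 (e - 1) ?_ ?_
    · intro n m hm
      rw [add_zero]
      exact hm
    · intro n m hm
      rw [add_zero]
      exact mkQ_isGrHom ℳ K n m hm
    · rw [LinearMap.exact_iff, Submodule.ker_mkQ, Submodule.range_subtype]
    · rw [sub_zero]
      exact van_of_weakly a ℳ l hl d hM 1 one_pos (e - 1) (by push_cast; omega)
    · apply van_of_torsion
      intro m
      obtain ⟨k, hk⟩ := hKtors m.1 m.2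
      exact ⟨k, fun r hr => Subtype.ext (hk r hr)⟩
  refine van_right (ℳ' := quotGr ℳ K) (ℳ := ℳ) (ℳ'' := 𝒩) a fb π 1 0 hfb hg hfbinj hπ hex 0 e ?_ ?_
  · rw [sub_zero]
    exact h0
  · rw [sub_zero]
    exact h1

include hl hx hxa hKtors hπ hπg hker in
/-- if `M/xM` is `d`-regular, then `M` is weakly `d`-regular. -/
theorem van_of_quotient (d : ℤ) (hN0 : ∀ e : ℤ, d < e → Van a 𝒩 0 e)
    (hN : ∀ i : ℕ, 0 < i → Van a 𝒩 i (d - i + 1)) (i : ℕ) (hi : 0 < i) (e : ℤ)
    (he : d - i + 1 ≤ e) : Van a ℳ i e := by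
  classical
  set K : Submodule R M := LinearMap.ker (LinearMap.lsmul R M x) with hKdef
  have hxgr : IsGrHom ℳ (shiftGr ℳ 1) (LinearMap.lsmul R M x) := by
    intro n m hm
    have h := SetLike.GradedSMul.smul_mem (A := 𝒜) (B := ℳ) hx hm
    rw [vadd_eq_add, add_comm] at h
    exact h
  have hK : K.IsHomogeneous ℳ := ker_isHomogeneous ℳ (shiftGr ℳ 1) (LinearMap.lsmul R M x) hxgr
  letI : DirectSum.Decomposition (quotGr ℳ K) := (isInternal_quotGr ℳ K hK).chooseDecomposition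
  letI : DirectSum.Decomposition (subGr ℳ K) := (isInternal_subGr ℳ K hK).chooseDecomposition
  let fb : (M ⧸ K) →ₗ[R] M := K.liftQ (LinearMap.lsmul R M x) le_rfl
  have hfb : IsGrHomDeg (quotGr ℳ K) ℳ fb 1 := by
    rintro n _ ⟨m, hm, rfl⟩
    exact hxgr n m hm
  have hfbinj : Function.Injective fb := by
    rw [← LinearMap.ker_eq_bot]
    exact Submodule.ker_liftQ_eq_bot _ _ _ le_rfl
  have hg : IsGrHomDeg ℳ 𝒩 π 0 := by
    intro n m hm
    rw [add_zero]
    exact hπg n m hm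
  have hex : Function.Exact fb π := by
    rw [LinearMap.exact_iff, hker]
    exact (Submodule.range_liftQ K (LinearMap.lsmul R M x) le_rfl).symm
  have hsub : IsGrHomDeg (subGr ℳ K) ℳ K.subtype 0 := by
    intro n m hm
    rw [add_zero]
    exact hm
  have hmk : IsGrHomDeg ℳ (quotGr ℳ K) K.mkQ 0 := by
    intro n m hm
    rw [add_zero]
    exact mkQ_isGrHom ℳ K n m hm
  have hexK : Function.Exact K.subtype K.mkQ := by
    rw [LinearMap.exact_iff, Submodule.ker_mkQ, Submodule.range_subtype]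
  -- `N` is fully `d`-regular
  have hNfull : ∀ (q : ℕ) (n : ℤ), d - q < n → Van a 𝒩 q n := by
    intro q n hn
    rcases Nat.eq_zero_or_pos q with h | h
    · subst h
      exact hN0 n (by push_cast at hn; omega)
    · exact van_of_weakly a 𝒩 l hl d hN q h n hn
  intro E
  obtain ⟨EK⟩ := Groth.Agent.S13215.result R 𝒜 ↥K (subGr ℳ K)
  obtain ⟨Eb⟩ := Groth.Agent.S13215.result R 𝒜 (M ⧸ K) (quotGr ℳ K)
  obtain ⟨E'⟩ := Groth.Agent.S13215.result R 𝒜 N 𝒩
  obtain ⟨lsub⟩ := nonempty_lift K.subtype 0 hsub EK E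
  obtain ⟨lq⟩ := nonempty_lift K.mkQ 0 hmk E Eb
  obtain ⟨lfb⟩ := nonempty_lift fb 1 hfb Eb E
  obtain ⟨lπ⟩ := nonempty_lift π 0 hg E E'
  obtain ⟨D₁, hD₁, -, -, h3₁, -, -, -, -⟩ :=
    exists_grLES K.subtype K.mkQ 0 0 hsub hmk (Submodule.injective_subtype K)
      (Submodule.mkQ_surjective K) hexK EK E Eb a lsub lq
  obtain ⟨D₂, hD₂, -, -, -, -, -, -, h7₂⟩ :=
    exists_grLES fb π 1 0 hfb hg hfbinj hπ hex Eb E E' a lfb lπ
  obtain ⟨i', rfl⟩ : ∃ i', i = i' + 1 := ⟨i - 1, by omega⟩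
  -- `H^{i}(K) = 0`
  have hKpt : LocCoh.IsPowerTorsion a.toIdeal ↥K := by
    intro m
    obtain ⟨k, hk⟩ := hKtors m.1 m.2
    exact ⟨k, fun r hr => Subtype.ext (hk r hr)⟩
  haveI : Subsingleton (EK.H a (i' + 1)) :=
    subsingleton_H_of_HH EK a (i' + 1) (HH.subsingleton_of_isPowerTorsion a.toIdeal i' ↥K hKpt)
  -- multiplication by `x` is injective on the relevant pieces
  have hcomp : ∀ z : E.H a (i' + 1), lfb.Hmap a (i' + 1) (lq.Hmap a (i' + 1) z) = x • z := by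
    intro z
    apply (cmpE E a (i' + 1)).injective
    rw [cmpE_Hmap, cmpE_Hmap, map_smul, HH.smul_eq_map, ← HH.map_comp]
    congr 1
  have hinj : ∀ (n : ℤ), d - ((i' + 1 : ℕ) : ℤ) + 1 ≤ n → ∀ z ∈ E.Hcomp a (i' + 1) n,
      x • z = 0 → z = 0 := by
    intro n hn z hz hxz
    letI := decH E' a i'
    letI := decH Eb a (i' + 1)
    have hzb : lq.Hmap a (i' + 1) z ∈ Eb.Hcomp a (i' + 1) (n + 0) := lq.Hmap_mem a (i' + 1) n z hz
    have h1 : lfb.Hmap a (i' + 1) (lq.Hmap a (i' + 1) z) = 0 := by rw [hcomp, hxz]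
    obtain ⟨w, hw⟩ := h7₂ i' _ h1
    have hzb' : lq.Hmap a (i' + 1) z ∈ Eb.Hgr a (i' + 1) (n + 1 + (-0 + -1)) := by
      have e1 : n + 1 + (-0 + -1 : ℤ) = n + 0 := by ring
      rw [e1]
      exact hzb
    obtain ⟨w', hw', hw'z⟩ := exists_piece_preimage (E'.Hgr a i') (Eb.Hgr a (i' + 1)) (D₂ i')
      (-0 + -1) (fun n x hx => hD₂ i' n x hx) (n + 1) _ hzb' w hw
    have hw0 : w' = 0 := by
      have h4 : w' ∈ E'.Hcomp a i' (n + 1) := hw'
      rw [hNfull i' (n + 1) (by push_cast at hn ⊢; omega) E'] at h4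
      exact (Submodule.mem_bot _).1 h4
    have hzb0 : lq.Hmap a (i' + 1) z = 0 := by rw [← hw'z, hw0, map_zero]
    obtain ⟨y, hy⟩ := h3₁ (i' + 1) z hzb0
    rw [← hy, Subsingleton.elim y 0, map_zero]
  have key : ∀ (k : ℕ) (n : ℤ), d - ((i' + 1 : ℕ) : ℤ) + 1 ≤ n → ∀ z ∈ E.Hcomp a (i' + 1) n,
      x ^ k • z = 0 → z = 0 := by
    intro k
    induction k with
    | zero =>
      intro n _ z _ hz0
      rwa [pow_zero, one_smul] at hz0
    | succ k ih =>
      intro n hn z hz hz0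
      have hxz : x • z ∈ E.Hcomp a (i' + 1) (1 + n) := smul_mem_Hgr E a (i' + 1) hx hz
      have h2 : x ^ k • (x • z) = 0 := by
        rw [smul_smul, ← pow_succ]
        exact hz0
      exact hinj n hn z hz (ih (1 + n) (by omega) _ hxz h2)
  rw [Submodule.eq_bot_iff]
  intro z hz
  obtain ⟨k, hk⟩ := exists_pow_smul_eq_zero E a (i' + 1) z hxa
  exact key k e he z hz hk

end main

end Groth.Agent.Lib.Helper20.GrReg1
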