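import Mathlib
import Groth.Prelude.Def_GrLC
import Groth.Agent.Lib.Helper20.GrChop
import Groth.Agent.Lib.Helper20.GrFreeMod
import Groth.Agent.Lib.Helper20.GrReg1

/-!
# Regularity at and above a level; generation in degrees up to the regularity
-/

set_option autoImplicit false
set_option linter.unusedSectionVars false
set_option linter.unusedVariables false
set_option linter.style.haveILetI false

universe u

open Pointwise CategoryTheory GrLC Groth.Agent.Lib.Helper4.LC Groth.Agent.Lib.Helper20.GrLCBasic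
  Groth.Agent.Lib.Helper20.GrLCQuot
  Groth.Agent.Lib.Helper20.GrVan Groth.Agent.Lib.Helper20.GrProd Groth.Agent.Lib.Helper20.GrKos
  Groth.Agent.Lib.Helper20.GrChop Groth.Agent.Lib.Helper20.GrFreeMod

namespace Groth.Agent.Lib.Helper20.GrChop2

variable {R : Type u} [CommRing R] [IsNoetherianRing R] {𝒜 : ℤ → AddSubgroup R} [GradedRing 𝒜]
  (a : HomogeneousIdeal 𝒜)

/-- a finite list of generators of degree one. -/
theorem exists_list (hhom : a.toIdeal = Ideal.span ((𝒜 1 : AddSubgroup R) : Set R)) :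
    ∃ l : List ↥(𝒜 1), a.toIdeal = Ideal.span {r : R | ∃ x ∈ l, (x : R) = r} := by
  classical
  have hfg : (Submodule.span R ((𝒜 1 : AddSubgroup R) : Set R)).FG := by
    have := (IsNoetherian.noetherian a.toIdeal : a.toIdeal.FG)
    rw [hhom] at this
    exact this
  obtain ⟨T, hT, hspan⟩ := (Submodule.fg_span_iff_fg_span_finset_subset _).1 hfg
  refine ⟨T.attach.toList.map (fun t => ⟨t.1, hT t.2⟩), ?_⟩
  have hset : {r : R | ∃ x ∈ T.attach.toList.map (fun t => (⟨t.1, hT t.2⟩ : ↥(𝒜 1))),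
      (x : R) = r} = (T : Set R) := by
    ext r
    constructor
    · rintro ⟨x, hx, rfl⟩
      obtain ⟨t, -, rfl⟩ := List.mem_map.1 hx
      exact t.2
    · intro hr
      exact ⟨⟨r, hT hr⟩, List.mem_map.2 ⟨⟨r, hr⟩, Finset.mem_toList.2 (Finset.mem_attach _ _), rfl⟩,
        rfl⟩
  rw [hset, hhom]
  exact hspan

section level

variable (l : List ↥(𝒜 1)) (hl : a.toIdeal = Ideal.span {r : R | ∃ x ∈ l, (x : R) = r})

include hl in
/-- regularity at and above level `lv`: one step. -/
theorem van_succ_of_level' (X₀ : GMod.{u} 𝒜) (lv : ℕ) (hlv : 1 ≤ lv) (d : ℤ)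
    (h : ∀ q : ℕ, lv ≤ q → Van a X₀.gr q (d - q + 1)) :
    ∀ q : ℕ, lv ≤ q → Van a X₀.gr q (d - q + 2) := by
  classical
  intro i hi
  obtain ⟨C, hC⟩ : ∃ C : ChCx X₀, C = kos X₀ l := ⟨_, rfl⟩
  have hH : ∀ y ∈ {r : R | ∃ x ∈ l, (x : R) = r}, HasHtpy C y := by
    rintro y ⟨x, hx, rfl⟩
    rw [hC]
    exact kos_hasHtpy _ l x hx
  have hinh : ∀ p, Inh a X₀ (C.X p) := by
    rw [hC]
    exact kos_inh a X₀ l
  have hsm : ∀ r ∈ a.toIdeal, ∀ z : X₀.carrier, r • z ∈ LinearMap.range C.d0 := by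
    rw [hC]
    exact smul_mem_range_kos a l hl X₀
  let ℳ := X₀.gr
  have hB : (LinearMap.range C.d0).IsHomogeneous ℳ :=
    range_isHomogeneous_deg (C.X 0).gr X₀.gr C.d0 1 C.d0_deg
  letI : DirectSum.Decomposition (subGr ℳ (LinearMap.range C.d0)) :=
    (isInternal_subGr ℳ _ hB).chooseDecomposition
  letI : DirectSum.Decomposition (quotGr ℳ (LinearMap.range C.d0)) :=
    (isInternal_quotGr ℳ _ hB).chooseDecomposition
  have hvB : Van a (subGr ℳ (LinearMap.range C.d0)) i (d - i + 2) := by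
    refine van_range_d0 a C _ hl hH l.length
      (fun q hq N => subsingleton_HH_of_length_lt a l hl q hq N) i (d - i + 2) (fun p => ?_)
    · apply hinh p
      have := h (i + p) (by omega)
      have e : d - ((i + p : ℕ) : ℤ) + 1 = d - i + 2 - p - 1 := by push_cast; ring
      rw [e] at this
      exact this
  obtain ⟨i', rfl⟩ : ∃ i', i = i' + 1 := ⟨i - 1, by omega⟩
  refine van_mid (ℳ' := subGr ℳ (LinearMap.range C.d0)) (ℳ := ℳ)
    (ℳ'' := quotGr ℳ (LinearMap.range C.d0)) a (LinearMap.range C.d0).subtype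
    (LinearMap.range C.d0).mkQ 0 0 ?_ ?_ (Submodule.injective_subtype _)
    (Submodule.mkQ_surjective _) ?_ (i' + 1) _ ?_ ?_
  · intro n m hm
    rw [add_zero]
    exact hm
  · intro n m hm
    rw [add_zero]
    exact mkQ_isGrHom ℳ _ n m hm
  · rw [LinearMap.exact_iff, Submodule.ker_mkQ, Submodule.range_subtype]
  · rw [sub_zero]
    exact hvB
  · apply van_of_torsion
    intro m
    obtain ⟨z, rfl⟩ := Submodule.mkQ_surjective _ m
    refine ⟨1, fun r hr => ?_⟩
    rw [pow_one] at hr
    rw [← map_smul, Submodule.mkQ_apply, Submodule.Quotient.mk_eq_zero]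
    exact hsm r hr z

variable {M : Type u} [AddCommGroup M] [Module R M] (ℳ : ℤ → AddSubgroup M)
  [DirectSum.Decomposition ℳ] [SetLike.GradedSMul 𝒜 ℳ]

include hl in
theorem van_add_of_level (lv : ℕ) (hlv : 1 ≤ lv) (d : ℤ)
    (h : ∀ q : ℕ, lv ≤ q → Van a ℳ q (d - q + 1)) (k : ℕ) :
    ∀ q : ℕ, lv ≤ q → Van a ℳ q (d + k - q + 1) := by
  induction k with
  | zero =>
    intro q hq
    have := h q hq
    simpa using this
  | succ k ih =>
    intro q hq
    have := van_succ_of_level' a l hl (GMod.of 𝒜 M ℳ) lv hlv (d + k) ih q hq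
    have e : d + ((k + 1 : ℕ) : ℤ) - q + 1 = d + k - q + 2 := by push_cast; ring
    rw [e]
    exact this

include hl in
/-- regularity at and above level `lv`. -/
theorem van_of_level (lv : ℕ) (hlv : 1 ≤ lv) (d : ℤ)
    (h : ∀ q : ℕ, lv ≤ q → Van a ℳ q (d - q + 1)) (q : ℕ) (hq : lv ≤ q)
    (e : ℤ) (he : d - q < e) : Van a ℳ q e := by
  obtain ⟨k, hk⟩ : ∃ k : ℕ, e = d + k - q + 1 := ⟨(e - d + q - 1).toNat, by
    rw [Int.toNat_of_nonneg (by omega)]
    ring⟩
  rw [hk]
  exact van_add_of_level a l hl ℳ lv hlv d h k q hq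

end level

section generation

variable {M : Type u} [AddCommGroup M] [Module R M] (ℳ : ℤ → AddSubgroup M)
  [DirectSum.Decomposition ℳ] [SetLike.GradedSMul 𝒜 ℳ]
  (hpos : ∀ n : ℤ, n < 0 → 𝒜 n = ⊥)

include hpos in
/-- a finitely generated graded module over a positively graded ring is bounded below. -/
theorem exists_lower_bound [Module.Finite R M] : ∃ n₀ : ℤ, ∀ n : ℤ, n < n₀ → ℳ n = ⊥ := by
  classical
  obtain ⟨T, hT, hspan⟩ := Groth.Agent.Lib.Helper20.GrLCExt.exists_homogeneous_generators (R := R) ℳ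
  let deg : M → ℤ := fun x => if hx : ∃ g, x ∈ ℳ g then hx.choose else 0
  have hdeg : ∀ x ∈ T, x ∈ ℳ (deg x) := by
    intro x hx
    have h1 := hT x hx
    simp only [deg, dif_pos h1]
    exact h1.choose_spec
  obtain ⟨D', hD'⟩ := (T.image (fun x => -deg x)).exists_le
  obtain ⟨D, hD⟩ : ∃ D : ℤ, ∀ t ∈ T, D ≤ deg t := ⟨-D', fun t ht => by
    have := hD' _ (Finset.mem_image_of_mem (fun x => -deg x) ht)
    omega⟩
  refine ⟨D, fun n hn => ?_⟩
  rw [eq_bot_iff]
  intro x hx
  rw [AddSubgroup.mem_bot]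
  have hxs : x ∈ Submodule.span R (T : Set M) := by rw [hspan]; trivial
  obtain ⟨f, -, hsum⟩ := Submodule.mem_span_finset.1 hxs
  rw [← DirectSum.decompose_of_mem_same ℳ hx, ← hsum, DirectSum.decompose_sum,
    DFinsupp.finset_sum_apply, AddSubmonoidClass.coe_finset_sum]
  refine Finset.sum_eq_zero fun t ht => ?_
  have hdt : D ≤ deg t := hD t ht
  obtain ⟨e, he⟩ : ∃ e, n = e + deg t := ⟨n - deg t, by ring⟩
  subst he
  rw [decompose_smul_right 𝒜 ℳ (hdeg t ht) (f t) e]
  have h4 : ((DirectSum.decompose 𝒜 (f t) e : 𝒜 e) : R) ∈ (⊥ : AddSubgroup R) :=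
    (hpos e (by omega)).le (SetLike.coe_mem _)
  rw [(AddSubgroup.mem_bot).1 h4, zero_smul]

include hpos in
/-- **generation in degrees up to the regularity.** -/
theorem mem_span_of_reg2 [Module.Finite R M]
    (hhom : a.toIdeal = Ideal.span ((𝒜 1 : AddSubgroup R) : Set R)) (d : ℤ)
    (h : ∀ (q : ℕ) (e : ℤ), d - q < e → Van a ℳ q e) :
    ∀ (j : ℤ) (z : M), z ∈ ℳ j →
      z ∈ Submodule.span R (⋃ (n : ℤ) (_ : n ≤ d), (ℳ n : Set M)) := by
  classical
  obtain ⟨l, hl⟩ := exists_list a hhom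
  obtain ⟨n₀, hn₀⟩ := exists_lower_bound ℳ hpos
  set N : Submodule R M := Submodule.span R (⋃ (n : ℤ) (_ : n ≤ d), (ℳ n : Set M)) with hN
  have key : ∀ (k : ℕ) (j : ℤ), j < n₀ + k → ∀ z ∈ ℳ j, z ∈ N := by
    intro k
    induction k with
    | zero =>
      intro j hj z hz
      rw [hn₀ j (by simpa using hj)] at hz
      rw [(AddSubgroup.mem_bot).1 hz]
      exact zero_mem _
    | succ k ih =>
      intro j hj z hz
      by_cases hjd : j ≤ d
      · exact Submodule.subset_span (Set.mem_iUnion₂.2 ⟨j, hjd, hz⟩)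
      · push_neg at hjd
        have hza : z ∈ a.toIdeal • (⊤ : Submodule R M) :=
          mem_smul_top_of_van a ℳ l hl j (h 0 j (by simpa using hjd))
            (fun q _ => h q _ (by omega)) z hz
        rw [hhom, ← Submodule.span_univ, Submodule.span_smul_span] at hza
        -- all components of `z` in degrees `≤ j` lie in `N`
        have hP : ∀ w ∈ Submodule.span R (((𝒜 1 : AddSubgroup R) : Set R) • (Set.univ : Set M)),
            ∀ j' : ℤ, j' ≤ j → ((DirectSum.decompose ℳ w j' : ℳ j') : M) ∈ N := by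
          intro w hw
          induction hw using Submodule.span_induction with
          | mem w hw =>
            obtain ⟨c, hc, m, -, rfl⟩ := hw
            intro j' hj'
            have e1 : j' = (j' - 1) + 1 := by ring
            rw [e1, decompose_smul_left 𝒜 ℳ hc m (j' - 1)]
            exact N.smul_mem c (ih (j' - 1) (by push_cast at hj; omega) _ (SetLike.coe_mem _))
          | zero =>
            intro j' _
            rw [DirectSum.decompose_zero, DirectSum.zero_apply, AddSubgroup.coe_zero]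
            exact zero_mem _
          | add x y _ _ hx hy =>
            intro j' hj'
            rw [DirectSum.decompose_add, DirectSum.add_apply, AddSubgroup.coe_add]
            exact add_mem (hx j' hj') (hy j' hj')
          | smul r x _ hx =>
            intro j' hj'
            induction r using DirectSum.Decomposition.inductionOn 𝒜 with
            | zero =>
              rw [zero_smul, DirectSum.decompose_zero, DirectSum.zero_apply, AddSubgroup.coe_zero]
              exact zero_mem _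
            | @homogeneous i r =>
              by_cases hi : i < 0
              · have h4 : (r : R) ∈ (⊥ : AddSubgroup R) := (hpos i hi).le r.2
                rw [(AddSubgroup.mem_bot).1 h4, zero_smul, DirectSum.decompose_zero,
                  DirectSum.zero_apply, AddSubgroup.coe_zero]
                exact zero_mem _
              · have e1 : j' = (j' - i) + i := by ring
                rw [e1, decompose_smul_left 𝒜 ℳ r.2 x (j' - i)]
                exact N.smul_mem _ (hx (j' - i) (by omega))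
            | add r r' hr hr' =>
              rw [add_smul, DirectSum.decompose_add, DirectSum.add_apply, AddSubgroup.coe_add]
              exact add_mem hr hr'
        have := hP z hza j le_rfl
        rwa [DirectSum.decompose_of_mem_same ℳ hz] at this
  intro j z hz
  obtain ⟨k, hk⟩ : ∃ k : ℕ, j < n₀ + k := ⟨(j - n₀ + 1).toNat, by
    have := Int.self_le_toNat (j - n₀ + 1)
    omega⟩
  exact key k j hk z hz

omit [IsNoetherianRing R] [SetLike.GradedSMul 𝒜 ℳ] [GradedRing 𝒜] in
lemma eq_top_of_homogeneous_mem (N : Submodule R M) (h : ∀ (j : ℤ) (z : M), z ∈ ℳ j → z ∈ N) :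
    N = ⊤ := by
  classical
  rw [eq_top_iff]
  intro x _
  rw [← DirectSum.sum_support_decompose ℳ x]
  exact sum_mem fun i _ => h i _ (SetLike.coe_mem _)

lemma wb_cases (x : WithBot (WithTop ℤ)) :
    x = ⊥ ∨ x = ((⊤ : WithTop ℤ) : WithBot (WithTop ℤ)) ∨
      ∃ d : ℤ, x = ((d : WithTop ℤ) : WithBot (WithTop ℤ)) := by
  induction x using WithBot.recBotCoe with
  | bot => exact Or.inl rfl
  | coe x =>
    induction x using WithTop.recTopCoe with
    | top => exact Or.inr (Or.inl rfl)
    | coe d => exact Or.inr (Or.inr ⟨d, rfl⟩)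

lemma add_coe_le_iff (x : WithBot (WithTop ℤ)) (i d : ℤ) :
    x + ((i : WithTop ℤ) : WithBot (WithTop ℤ)) ≤ ((d : WithTop ℤ) : WithBot (WithTop ℤ)) ↔
      x ≤ (((d - i : ℤ) : WithTop ℤ) : WithBot (WithTop ℤ)) := by
  rcases wb_cases x with rfl | rfl | ⟨n, rfl⟩
  · simp
  · constructor
    · intro h
      rw [← WithBot.coe_add, WithBot.coe_le_coe, WithTop.top_add] at h
      simp at h
    · intro h
      rw [WithBot.coe_le_coe] at h
      simp at h
  · rw [← WithBot.coe_add, ← WithTop.coe_add, WithBot.coe_le_coe, WithBot.coe_le_coe,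
      WithTop.coe_le_coe, WithTop.coe_le_coe]
    omega

omit [IsNoetherianRing R] in
lemma van_of_endDeg_add_le (E : StarInjRes 𝒜 ℳ) (q : ℕ) (d : ℤ)
    (h : GrLC.endDeg (E.Hgr a q) + (((q : ℤ) : WithTop ℤ) : WithBot (WithTop ℤ)) ≤
      ((d : WithTop ℤ) : WithBot (WithTop ℤ))) (e : ℤ) (he : d - q < e) :
    E.Hcomp a q e = ⊥ := by
  rw [add_coe_le_iff, Groth.Agent.Lib.Helper20.GrReg1.endDeg_le_iff] at h
  have h1 := h e he
  rw [Submodule.eq_bot_iff]
  intro z hz
  have : z ∈ E.Hgr a q e := hz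
  rw [h1] at this
  exact (AddSubgroup.mem_bot).1 this

include hpos in
/-- **a finitely generated graded module is generated in degrees up to its regularity.** -/
theorem span_eq_top_of_le_reg [Module.Finite R M] [Nontrivial M]
    (hhom : a.toIdeal = Ideal.span ((𝒜 1 : AddSubgroup R) : Set R)) (E : StarInjRes 𝒜 ℳ) :
    Submodule.span R (⋃ (n : ℤ) (_ : ((n : WithTop ℤ) : WithBot (WithTop ℤ)) ≤
      ⨆ i : ℕ, GrLC.endDeg (E.Hgr a i) + ((i : ℤ) : WithTop ℤ)), (ℳ n : Set M)) = ⊤ := by
  classical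
  set ρ : WithBot (WithTop ℤ) := ⨆ i : ℕ, GrLC.endDeg (E.Hgr a i) + ((i : ℤ) : WithTop ℤ) with hρ
  have hle : ∀ i : ℕ, GrLC.endDeg (E.Hgr a i) + (((i : ℤ) : WithTop ℤ) : WithBot (WithTop ℤ)) ≤ ρ :=
    fun i => le_iSup (fun i : ℕ => GrLC.endDeg (E.Hgr a i) + (((i : ℤ) : WithTop ℤ) :
      WithBot (WithTop ℤ))) i
  rcases wb_cases ρ with h | h | ⟨d, h⟩
  · -- impossible: all local cohomology vanishes
    exfalso
    rw [h] at hle
    have hvan : ∀ (d : ℤ) (q : ℕ) (e : ℤ), d - q < e → Van a ℳ q e := by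
      intro d q e he
      apply van_of_Hcomp_eq_bot a E
      exact van_of_endDeg_add_le a ℳ E q d ((hle q).trans bot_le) e he
    obtain ⟨n₀, hn₀⟩ := exists_lower_bound ℳ hpos
    have hall : ∀ (j : ℤ) (z : M), z ∈ ℳ j → z = 0 := by
      intro j z hz
      have h1 := mem_span_of_reg2 a ℳ hpos hhom (n₀ - 1) (hvan (n₀ - 1)) j z hz
      have h2 : Submodule.span R (⋃ (n : ℤ) (_ : n ≤ n₀ - 1), (ℳ n : Set M)) = ⊥ := by
        rw [Submodule.span_eq_bot]
        intro x hx
        obtain ⟨n, hn, hx⟩ := Set.mem_iUnion₂.1 hx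
        have hx' : x ∈ ℳ n := hx
        rw [hn₀ n (by omega)] at hx'
        exact (AddSubgroup.mem_bot).1 hx'
      rw [h2] at h1
      exact (Submodule.mem_bot R).1 h1
    obtain ⟨x, hx⟩ := exists_ne (0 : M)
    apply hx
    rw [← DirectSum.sum_support_decompose ℳ x]
    exact Finset.sum_eq_zero fun i _ => hall i _ (SetLike.coe_mem _)
  · apply eq_top_of_homogeneous_mem ℳ
    intro j z hz
    refine Submodule.subset_span (Set.mem_iUnion₂.2 ⟨j, ?_, hz⟩)
    rw [h]
    exact WithBot.coe_le_coe.2 le_top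
  · apply eq_top_of_homogeneous_mem ℳ
    intro j z hz
    rw [h] at hle
    have hvan : ∀ (q : ℕ) (e : ℤ), d - q < e → Van a ℳ q e := by
      intro q e he
      apply van_of_Hcomp_eq_bot a E
      exact van_of_endDeg_add_le a ℳ E q d (hle q) e he
    have h1 := mem_span_of_reg2 a ℳ hpos hhom d hvan j z hz
    refine Submodule.span_mono ?_ h1
    intro x hx
    obtain ⟨n, hn, hx⟩ := Set.mem_iUnion₂.1 hx
    refine Set.mem_iUnion₂.2 ⟨n, ?_, hx⟩
    rw [h]
    exact_mod_cast hn

end generation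

end Groth.Agent.Lib.Helper20.GrChop2
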