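import Mathlib
import Groth.Prelude.Def_GrLC
import Groth.Agent.Lib.Helper20.GrCoarse

/-!
# Coarsening of gradings along an arbitrary map of index sets
-/

set_option autoImplicit false
set_option linter.unusedSectionVars false
set_option linter.unusedVariables false

universe u

open GrLC Groth.Agent.Lib.Helper20.GrLCBasic

namespace Groth.Agent.Lib.Helper20.GrCoarseF

variable {ι κ : Type} [DecidableEq ι] [DecidableEq κ] (f : ι → κ)

section co

variable {M : Type u} [AddCommGroup M] (ℳ : ι → AddSubgroup M)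

/-- the coarsened family. -/
def coF : κ → AddSubgroup M := fun h => ⨆ g ∈ f ⁻¹' {h}, ℳ g

lemma le_coF (g : ι) : ℳ g ≤ coF f ℳ (f g) :=
  le_iSup₂_of_le (f := fun g' (_ : g' ∈ f ⁻¹' {f g}) => ℳ g') g rfl le_rfl

lemma le_coF' {g : ι} {h : κ} (hg : f g = h) : ℳ g ≤ coF f ℳ h := by
  subst hg
  exact le_coF f ℳ g

lemma coF_induction {h : κ} {p : M → Prop} {x : M} (hx : x ∈ coF f ℳ h)
    (hp : ∀ g, f g = h → ∀ y ∈ ℳ g, p y) (h0 : p 0) (hadd : ∀ y z, p y → p z → p (y + z)) :
    p x := by
  refine AddSubgroup.iSup_induction (C := p) _ hx (fun g y hy => ?_) h0 hadd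
  refine AddSubgroup.iSup_induction (C := p) _ hy (fun hg z hz => ?_) h0 hadd
  exact hp g hg z hz

variable [DirectSum.Decomposition ℳ]

/-- the decomposition map of the coarsened family. -/
noncomputable def coFDecompose : M →+ DirectSum κ (fun h => coF f ℳ h) :=
  (DirectSum.toAddMonoid fun g =>
    (DirectSum.of (fun h => coF f ℳ h) (f g)).comp (AddSubgroup.inclusion (le_coF f ℳ g))).comp
    (DirectSum.decomposeAddEquiv ℳ).toAddMonoidHom

lemma coFDecompose_of_mem {g : ι} {x : M} (hx : x ∈ ℳ g) :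
    coFDecompose f ℳ x = DirectSum.of (fun h => coF f ℳ h) (f g) ⟨x, le_coF f ℳ g hx⟩ := by
  unfold coFDecompose
  simp only [AddMonoidHom.coe_comp, Function.comp_apply, AddEquiv.toAddMonoidHom_eq_coe,
    AddMonoidHom.coe_coe, DirectSum.decomposeAddEquiv_apply]
  rw [DirectSum.decompose_of_mem ℳ hx, DirectSum.toAddMonoid_of]
  rfl

/-- the coarsened family is a decomposition. -/
@[reducible] noncomputable def coFDecomposition : DirectSum.Decomposition (coF f ℳ) :=
  DirectSum.Decomposition.ofAddHom (coF f ℳ) (coFDecompose f ℳ)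
    (by
      ext x
      refine DirectSum.Decomposition.inductionOn ℳ (motive := fun x =>
        ((DirectSum.coeAddMonoidHom (coF f ℳ)).comp (coFDecompose f ℳ)) x = x) ?_ ?_ ?_ x
      · simp
      · intro g m
        rw [AddMonoidHom.comp_apply, coFDecompose_of_mem f ℳ m.2, DirectSum.coeAddMonoidHom_of]
      · intro m m' hm hm'
        rw [map_add, hm, hm'])
    (by
      refine DirectSum.addHom_ext' fun h => AddMonoidHom.ext fun ⟨x, hx⟩ => ?_
      simp only [AddMonoidHom.coe_comp, Function.comp_apply, DirectSum.coeAddMonoidHom_of,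
        AddMonoidHom.id_apply]
      suffices hh : ∃ hy : x ∈ coF f ℳ h,
          coFDecompose f ℳ x = DirectSum.of (fun h => coF f ℳ h) h ⟨x, hy⟩ from hh.2
      refine coF_induction f ℳ (p := fun y => ∃ hy : y ∈ coF f ℳ h,
        coFDecompose f ℳ y = DirectSum.of (fun h => coF f ℳ h) h ⟨y, hy⟩) hx ?_ ?_ ?_
      · intro g hg y hy
        subst hg
        exact ⟨le_coF f ℳ g hy, coFDecompose_of_mem f ℳ hy⟩
      · refine ⟨zero_mem _, ?_⟩
        rw [map_zero]
        exact (map_zero (DirectSum.of (fun h => coF f ℳ h) h)).symm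
      · rintro y z ⟨hy, hy'⟩ ⟨hz, hz'⟩
        refine ⟨add_mem hy hz, ?_⟩
        rw [map_add, hy', hz', ← map_add]
        rfl)

end co

end Groth.Agent.Lib.Helper20.GrCoarseF
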