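import Mathlib
import Groth.Prelude.Def_GrLC
import Groth.Agent.Lib.Helper20.ResCmp
import Groth.Agent.Lib.Helper20.LCIndep2

/-!
# Restriction of scalars of acyclic resolutions, and retracts
-/

set_option autoImplicit false
set_option linter.unusedSectionVars false
set_option linter.unusedVariables false

universe u

open CategoryTheory Groth.Agent.Lib.Helper4.LC Groth.Agent.Lib.Helper20.LCAcyclic
  Groth.Agent.Lib.Helper20.ResCmp

namespace Groth.Agent.Lib.Helper20.ResRestrict

section restrict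

variable {R0 : Type u} [CommRing R0] [IsNoetherianRing R0] {R : Type u} [CommRing R]
  [IsNoetherianRing R] [Algebra R0 R] (I0 : Ideal R0) {J : Ideal R}
  (hJ : I0.map (algebraMap R0 R) = J)
  {M : Type u} [AddCommGroup M] [Module R M] [Module R0 M] [IsScalarTower R0 R M]
  (E : Res J M) [∀ n, Module R0 (E.X n)] [∀ n, IsScalarTower R0 R (E.X n)]

include hJ in
omit [IsNoetherianRing R0] [IsNoetherianRing R] in
lemma mem_gam_iff {N : Type u} [AddCommGroup N] [Module R N] [Module R0 N]
    [IsScalarTower R0 R N] (x : N) : x ∈ GrLC.gam J N ↔ x ∈ GrLC.gam I0 N := by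
  subst hJ
  exact LCIndep2.mem_gam_map_iff R I0 x

/-- restriction of scalars of an acyclic resolution along `R0 → R`, for `J = I0 R`. -/
def restrict : Res I0 M where
  X := E.X
  d n := (E.d n).restrictScalars R0
  ε := E.ε.restrictScalars R0
  ε_injective := E.ε_injective
  exact_zero := by
    ext x
    exact SetLike.ext_iff.1 E.exact_zero x
  exact_succ n := by
    ext x
    exact SetLike.ext_iff.1 (E.exact_succ n) x
  acyclic n k := by
    subst hJ
    obtain ⟨φ, -⟩ := LCIndep2.exists_addEquiv R I0 (E.X n) (k + 1)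
    have := E.acyclic n k
    exact φ.symm.toEquiv.subsingleton

lemma mem_cocyc_iff (i : ℕ) (x : E.X i) :
    x ∈ (restrict I0 hJ E).cocyc i ↔ x ∈ E.cocyc i := by
  change (x ∈ GrLC.gam I0 (E.X i) ∧ x ∈ LinearMap.ker ((E.d i).restrictScalars R0)) ↔
    (x ∈ GrLC.gam J (E.X i) ∧ x ∈ LinearMap.ker (E.d i))
  rw [mem_gam_iff I0 hJ x]
  exact Iff.rfl

lemma mem_cobdy_iff (i : ℕ) (x : E.X i) :
    x ∈ (restrict I0 hJ E).cobdy i ↔ x ∈ E.cobdy i := by
  cases i with
  | zero => exact Iff.rfl
  | succ n =>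
    change x ∈ (GrLC.gam I0 (E.X n)).map ((E.d n).restrictScalars R0) ↔
      x ∈ (GrLC.gam J (E.X n)).map (E.d n)
    simp only [Submodule.mem_map]
    constructor
    · rintro ⟨y, hy, rfl⟩
      exact ⟨y, (mem_gam_iff I0 hJ y).2 hy, rfl⟩
    · rintro ⟨y, hy, rfl⟩
      exact ⟨y, (mem_gam_iff I0 hJ y).1 hy, rfl⟩

/-- the comparison of cocycles. -/
def restrictCocyc (i : ℕ) : ↥((restrict I0 hJ E).cocyc i) →ₗ[R0] ↥(E.cocyc i) where
  toFun z := ⟨z.1, (mem_cocyc_iff I0 hJ E i z.1).1 z.2⟩
  map_add' _ _ := rfl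
  map_smul' _ _ := rfl

/-- the comparison of the cohomology modules. -/
def restrictH (i : ℕ) : (restrict I0 hJ E).H i →ₗ[R0] E.H i :=
  Submodule.liftQ _ (((E.toH i).restrictScalars R0) ∘ₗ restrictCocyc I0 hJ E i) (by
    intro z hz
    rw [LinearMap.mem_ker]
    change E.toH i (restrictCocyc I0 hJ E i z) = 0
    rw [Submodule.mkQ_apply, Submodule.Quotient.mk_eq_zero, Submodule.mem_comap]
    exact (mem_cobdy_iff I0 hJ E i z.1).1 hz)

lemma restrictH_toH (i : ℕ) (z : (restrict I0 hJ E).cocyc i) :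
    restrictH I0 hJ E i ((restrict I0 hJ E).toH i z) = E.toH i (restrictCocyc I0 hJ E i z) := rfl

lemma restrictH_bijective (i : ℕ) : Function.Bijective (restrictH I0 hJ E i) := by
  constructor
  · rw [← LinearMap.ker_eq_bot, LinearMap.ker_eq_bot']
    intro x hx
    obtain ⟨z, rfl⟩ := Submodule.mkQ_surjective _ x
    rw [restrictH_toH, Submodule.mkQ_apply, Submodule.Quotient.mk_eq_zero,
      Submodule.mem_comap] at hx
    rw [Submodule.mkQ_apply, Submodule.Quotient.mk_eq_zero, Submodule.mem_comap]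
    exact (mem_cobdy_iff I0 hJ E i z.1).2 hx
  · intro y
    obtain ⟨⟨z, hz⟩, rfl⟩ := Submodule.mkQ_surjective _ y
    exact ⟨(restrict I0 hJ E).toH i ⟨z, (mem_cocyc_iff I0 hJ E i z).2 hz⟩, rfl⟩

end restrict

section retract

variable {S : Type u} [CommRing S] {J : Ideal S}
  {N M : Type u} [AddCommGroup N] [Module S N] [AddCommGroup M] [Module S M]
  (incl : N →ₗ[S] M) (proj : M →ₗ[S] N) (hpi : ∀ x, proj (incl x) = x)
  (E : Res J M) (c : ResHom E E (incl ∘ₗ proj))

/-- the map from the local cohomology of a retract to the cohomology of the resolution. -/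
noncomputable def retractMap (i : ℕ) : HH J (ModuleCat.of S N) i →ₗ[S] E.H i :=
  (cmp i E).symm.toLinearMap ∘ₗ HH.map J (ModuleCat.ofHom incl) i

include hpi in
lemma retractMap_injective (i : ℕ) : Function.Injective (retractMap incl E i) := by
  intro x y hxy
  have h1 : HH.map J (ModuleCat.ofHom incl) i x = HH.map J (ModuleCat.ofHom incl) i y :=
    (cmp i E).symm.injective hxy
  have h2 := congrArg (HH.map J (ModuleCat.ofHom proj) i) h1
  rw [← HH.map_comp, ← HH.map_comp] at h2
  have h3 : ModuleCat.ofHom incl ≫ ModuleCat.ofHom proj = 𝟙 (ModuleCat.of S N) := by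
    ext x
    exact hpi x
  rw [h3, HH.map_id, HH.map_id] at h2
  exact h2

include hpi c in
lemma range_retractMap (i : ℕ) :
    LinearMap.range (retractMap incl E i) = LinearMap.range (c.Hmap i) := by
  have hcomp : ModuleCat.ofHom (incl ∘ₗ proj) = ModuleCat.ofHom proj ≫ ModuleCat.ofHom incl := rfl
  apply le_antisymm
  · rintro _ ⟨y, rfl⟩
    refine ⟨retractMap incl E i y, ?_⟩
    apply (cmp i E).injective
    rw [cmp_Hmap i c]
    change HH.map J _ i ((cmp i E) ((cmp i E).symm (HH.map J (ModuleCat.ofHom incl) i y))) =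
      (cmp i E) ((cmp i E).symm (HH.map J (ModuleCat.ofHom incl) i y))
    rw [LinearEquiv.apply_symm_apply, hcomp, HH.map_comp, ← HH.map_comp J (ModuleCat.ofHom incl)]
    have h3 : ModuleCat.ofHom incl ≫ ModuleCat.ofHom proj = 𝟙 (ModuleCat.of S N) := by
      ext x
      exact hpi x
    rw [h3, HH.map_id]
  · rintro _ ⟨x, rfl⟩
    refine ⟨HH.map J (ModuleCat.ofHom proj) i (cmp i E x), ?_⟩
    apply (cmp i E).injective
    rw [cmp_Hmap i c]
    change (cmp i E) ((cmp i E).symm _) = _
    rw [LinearEquiv.apply_symm_apply, hcomp, HH.map_comp]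

end retract

end Groth.Agent.Lib.Helper20.ResRestrict
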