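import Mathlib
import Groth.Prelude.Def_GrLC
import Groth.Prelude.Def_Wider
import Groth.Agent.Lib.Helper20.GrRes
import Groth.Agent.Lib.Helper20.GrLES
import Groth.Agent.Lib.Helper20.GrFin1
import Groth.Agent.Lib.Helper20.ResRestrict

/-!
# Pieces of graded local cohomology for ideals generated in degree zero
-/

set_option autoImplicit false
set_option linter.unusedSectionVars false
set_option linter.unusedVariables false

universe u

open CategoryTheory GrLC Groth.Agent.Lib.Helper4.LC Groth.Agent.Lib.Helper20.GrLCBasic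
  Groth.Agent.Lib.Helper20.ResCmp Groth.Agent.Lib.Helper20.GrRes
  Groth.Agent.Lib.Helper20.ResRestrict

namespace Groth.Agent.Lib.Helper20.GrPiece

variable {ι : Type} [AddCommGroup ι] [DecidableEq ι] {R : Type u} [CommRing R]
  (𝒜 : ι → AddSubgroup R) [GradedRing 𝒜]

/-- the degree-zero subring of a Noetherian graded ring is Noetherian. -/
theorem isNoetherianRing_deg0 [IsNoetherianRing R] : IsNoetherianRing (deg0 𝒜) := by
  have h := Groth.Agent.Lib.Helper20.GrFin1.isNoetherian_comp 𝒜 𝒜 (0 : ι)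
  let e : (comp 𝒜 𝒜 (0 : ι)) ≃ₗ[deg0 𝒜] (deg0 𝒜) :=
    { toFun := fun x => ⟨x.1, x.2⟩
      invFun := fun r => ⟨r.1, r.2⟩
      map_add' := fun _ _ => rfl
      map_smul' := fun _ _ => rfl
      left_inv := fun _ => rfl
      right_inv := fun _ => rfl }
  exact isNoetherian_of_linearEquiv e

variable {𝒜}

/-- the contraction of a homogeneous ideal to the degree-zero subring. -/
abbrev a0 (a : HomogeneousIdeal 𝒜) : Ideal (deg0 𝒜) := a.toIdeal.comap (deg0 𝒜).subtype

lemma map_a0 (a : HomogeneousIdeal 𝒜)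
    (ha : a.toIdeal = Ideal.span ((a : Set R) ∩ (𝒜 0 : AddSubgroup R))) :
    (a0 a).map (algebraMap (deg0 𝒜) R) = a.toIdeal := by
  apply le_antisymm
  · rw [Ideal.map_le_iff_le_comap]
    intro r hr
    exact hr
  · conv_lhs => rw [ha]
    rw [Ideal.span_le]
    rintro x ⟨hxa, hx0⟩
    have : x = algebraMap (deg0 𝒜) R ⟨x, hx0⟩ := rfl
    rw [this]
    exact Ideal.mem_map_of_mem _ hxa

section proj

variable {L : Type u} [AddCommGroup L] [Module R L] (𝓛 : ι → AddSubgroup L)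
  [DirectSum.Decomposition 𝓛] [SetLike.GradedSMul 𝒜 𝓛]

/-- the projection to the piece of degree `h`, linear over the degree-zero subring. -/
noncomputable def projL (h : ι) : L →ₗ[deg0 𝒜] L where
  toFun x := ((DirectSum.decompose 𝓛 x h : 𝓛 h) : L)
  map_add' x y := by
    rw [DirectSum.decompose_add, DirectSum.add_apply, AddSubgroup.coe_add]
  map_smul' r x := by
    have h1 := decompose_smul_left 𝒜 𝓛 r.2 x h
    rw [add_zero] at h1
    exact h1

lemma projL_apply (h : ι) (x : L) :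
    projL (𝒜 := 𝒜) 𝓛 h x = ((DirectSum.decompose 𝓛 x h : 𝓛 h) : L) := rfl

lemma projL_mem (h : ι) (x : L) : projL (𝒜 := 𝒜) 𝓛 h x ∈ 𝓛 h := SetLike.coe_mem _

lemma projL_of_mem {h : ι} {x : L} (hx : x ∈ 𝓛 h) : projL (𝒜 := 𝒜) 𝓛 h x = x := by
  rw [projL_apply, DirectSum.decompose_of_mem_same 𝓛 hx]

/-- the projection onto the piece. -/
noncomputable def projC (h : ι) : L →ₗ[deg0 𝒜] comp 𝒜 𝓛 h :=
  (projL (𝒜 := 𝒜) 𝓛 h).codRestrict (comp 𝒜 𝓛 h) (fun x => projL_mem 𝓛 h x)

lemma projC_subtype (h : ι) (x : comp 𝒜 𝓛 h) : projC 𝓛 h ((comp 𝒜 𝓛 h).subtype x) = x := by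
  apply Subtype.ext
  exact projL_of_mem 𝓛 x.2

end proj

section main

variable [IsNoetherianRing R] {M : Type u} [AddCommGroup M] [Module R M] {ℳ : ι → AddSubgroup M}
  [DirectSum.Decomposition ℳ] [SetLike.GradedSMul 𝒜 ℳ]
  (a : HomogeneousIdeal 𝒜) (ha : a.toIdeal = Ideal.span ((a : Set R) ∩ (𝒜 0 : AddSubgroup R)))
  (E : StarInjRes 𝒜 ℳ)

/-- the resolution `E` restricted to the degree-zero subring. -/
noncomputable def res0 : @Res (deg0 𝒜) _ (a0 a) M _ _ :=
  haveI := isNoetherianRing_deg0 𝒜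
  restrict (a0 a) (map_a0 a ha) (toRes E a)

/-- the chain endomorphism of `res0` given by the projection to degree `h`. -/
noncomputable def projHom (h : ι) :
    ResHom (res0 a ha E) (res0 a ha E) ((comp 𝒜 ℳ h).subtype ∘ₗ projC ℳ h) where
  φ j := (projL (𝒜 := 𝒜) (E.X j).gr h : (E.X j).carrier →ₗ[deg0 𝒜] (E.X j).carrier)
  comm_ε m := (decompose_map ℳ (E.X 0).gr E.ε E.ε_grHom m h)
  comm_d j x := (decompose_map (E.X j).gr (E.X (j + 1)).gr (E.d j) (E.d_grHom j) x h)

/-- the map from the local cohomology of the piece into graded local cohomology. -/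
noncomputable def pieceMap (i : ℕ) (h : ι) :
    HH (a0 a) (ModuleCat.of (deg0 𝒜) (comp 𝒜 ℳ h)) i →ₗ[deg0 𝒜] E.H a i :=
  haveI := isNoetherianRing_deg0 𝒜
  (restrictH (a0 a) (map_a0 a ha) (toRes E a) i) ∘ₗ
    retractMap (comp 𝒜 ℳ h).subtype (res0 a ha E) i

lemma pieceMap_injective (i : ℕ) (h : ι) : Function.Injective (pieceMap a ha E i h) := by
  haveI := isNoetherianRing_deg0 𝒜
  exact (restrictH_bijective (a0 a) (map_a0 a ha) (toRes E a) i).1.comp
    (retractMap_injective (comp 𝒜 ℳ h).subtype (projC ℳ h) (projC_subtype ℳ h) (res0 a ha E) i)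

lemma range_pieceMap (i : ℕ) (h : ι) :
    LinearMap.range (pieceMap a ha E i h) = E.Hcomp a i h := by
  haveI := isNoetherianRing_deg0 𝒜
  have hr := range_retractMap (comp 𝒜 ℳ h).subtype (projC ℳ h) (projC_subtype ℳ h)
    (res0 a ha E) (projHom a ha E h) i
  apply le_antisymm
  · rintro _ ⟨y, rfl⟩
    have hy : retractMap (comp 𝒜 ℳ h).subtype (res0 a ha E) i y ∈
        LinearMap.range ((projHom a ha E h).Hmap i) := by
      rw [← hr]
      exact LinearMap.mem_range_self _ y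
    obtain ⟨x, hx⟩ := hy
    obtain ⟨z, rfl⟩ := Submodule.mkQ_surjective _ x
    change restrictH (a0 a) (map_a0 a ha) (toRes E a) i
      (retractMap (comp 𝒜 ℳ h).subtype (res0 a ha E) i y) ∈ _
    rw [← hx]
    exact ⟨restrictCocyc (a0 a) (map_a0 a ha) (toRes E a) i ((projHom a ha E h).cocycMap i z),
      projL_mem (𝒜 := 𝒜) (E.X i).gr h _, rfl⟩
  · rintro _ ⟨z, hz, rfl⟩
    let z' : (res0 a ha E).cocyc i :=
      ⟨z.1, (mem_cocyc_iff (a0 a) (map_a0 a ha) (toRes E a) i z.1).2 z.2⟩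
    have h1 : (res0 a ha E).toH i z' ∈ LinearMap.range ((projHom a ha E h).Hmap i) := by
      refine ⟨(res0 a ha E).toH i z', ?_⟩
      rw [ResHom.Hmap_toH]
      congr 1
      apply Subtype.ext
      exact projL_of_mem (𝒜 := 𝒜) (E.X i).gr hz
    rw [← hr] at h1
    obtain ⟨y, hy⟩ := h1
    refine ⟨y, ?_⟩
    change restrictH (a0 a) (map_a0 a ha) (toRes E a) i
      (retractMap (comp 𝒜 ℳ h).subtype (res0 a ha E) i y) = _
    rw [hy]
    rfl

include ha in
/-- **pieces of graded local cohomology with respect to an ideal generated in degree zero.** -/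
theorem nonempty_Hcomp_equiv (i : ℕ) (h : ι) :
    Nonempty (E.Hcomp a i h ≃ₗ[deg0 𝒜] LocCoh.H (a0 a) i (comp 𝒜 ℳ h)) := by
  let e1 := LinearEquiv.ofInjective (pieceMap a ha E i h) (pieceMap_injective a ha E i h)
  let e2 := LinearEquiv.ofEq _ _ (range_pieceMap a ha E i h)
  let e3 := lcEquiv (a0 a) (ModuleCat.of (deg0 𝒜) (comp 𝒜 ℳ h)) i
  exact ⟨((e3.trans e1).trans e2).symm⟩

end main

end Groth.Agent.Lib.Helper20.GrPiece
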