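import Mathlib
import Groth.Prelude.Def_GrLC
import Groth.Agent.Lib.Helper20.GrCoarseF
import Groth.Agent.Lib.Helper20.GrPiece
import Groth.Agent.Lib.Helper20.GrLES2

/-!
# Graded local cohomology and Veronese subrings
-/

set_option autoImplicit false
set_option linter.unusedSectionVars false
set_option linter.unusedVariables false

universe u

open CategoryTheory GrLC Groth.Agent.Lib.Helper4.LC Groth.Agent.Lib.Helper20.GrLCBasic
  Groth.Agent.Lib.Helper20.ResCmp Groth.Agent.Lib.Helper20.GrRes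
  Groth.Agent.Lib.Helper20.ResRestrict Groth.Agent.Lib.Helper20.GrCoarseF
  Groth.Agent.Lib.Helper20.GrCoarse

namespace Groth.Agent.Lib.Helper20.GrVeronese

/-- the floor of division by `q`. -/
def fl (q : ℕ) : ℤ → ℤ := fun n => n / (q : ℤ)

lemma fl_mul (q : ℕ) (hq : 0 < q) (j : ℤ) : fl q (j * q) = j := by
  unfold fl
  exact Int.mul_ediv_cancel j (by exact_mod_cast hq.ne')

lemma fl_mul_add (q : ℕ) (hq : 0 < q) (i n : ℤ) : fl q (i * q + n) = i + fl q n := by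
  unfold fl
  rw [add_comm, Int.add_mul_ediv_right _ _ (by exact_mod_cast hq.ne'), add_comm]

section vproj

variable {X : Type u} [AddCommGroup X] (𝒳 : ℤ → AddSubgroup X) [DirectSum.Decomposition 𝒳]
  (q : ℕ)

/-- the projection onto the degrees divisible by `q`. -/
noncomputable def vproj : X →+ X :=
  (DirectSum.toAddMonoid (fun n : ℤ =>
    if (q : ℤ) ∣ n then (𝒳 n).subtype else (0 : 𝒳 n →+ X))).comp
    (DirectSum.decomposeAddEquiv 𝒳).toAddMonoidHom

lemma vproj_of_mem {n : ℤ} {x : X} (hx : x ∈ 𝒳 n) :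
    vproj 𝒳 q x = if (q : ℤ) ∣ n then x else 0 := by
  unfold vproj
  simp only [AddMonoidHom.coe_comp, Function.comp_apply, AddEquiv.toAddMonoidHom_eq_coe,
    AddMonoidHom.coe_coe, DirectSum.decomposeAddEquiv_apply]
  rw [DirectSum.decompose_of_mem 𝒳 hx, DirectSum.toAddMonoid_of]
  split_ifs <;> rfl

lemma vproj_of_mem_dvd {n : ℤ} {x : X} (hx : x ∈ 𝒳 n) (hn : (q : ℤ) ∣ n) : vproj 𝒳 q x = x := by
  rw [vproj_of_mem 𝒳 q hx, if_pos hn]

lemma vproj_of_mem_not_dvd {n : ℤ} {x : X} (hx : x ∈ 𝒳 n) (hn : ¬ (q : ℤ) ∣ n) :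
    vproj 𝒳 q x = 0 := by
  rw [vproj_of_mem 𝒳 q hx, if_neg hn]

lemma vproj_mem_of_mem {n : ℤ} {x : X} (hx : x ∈ 𝒳 n) : vproj 𝒳 q x ∈ 𝒳 n := by
  rw [vproj_of_mem 𝒳 q hx]
  split_ifs
  · exact hx
  · exact zero_mem _

lemma vproj_idem (x : X) : vproj 𝒳 q (vproj 𝒳 q x) = vproj 𝒳 q x := by
  induction x using DirectSum.Decomposition.inductionOn 𝒳 with
  | zero => simp
  | @homogeneous n m =>
    by_cases hn : (q : ℤ) ∣ n
    · rw [vproj_of_mem_dvd 𝒳 q m.2 hn, vproj_of_mem_dvd 𝒳 q m.2 hn]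
    · rw [vproj_of_mem_not_dvd 𝒳 q m.2 hn, map_zero]
  | add m m' h h' => rw [map_add, map_add, h, h']

/-- the projection commutes with additive maps preserving degrees. -/
lemma vproj_map {Y : Type u} [AddCommGroup Y] (𝒴 : ℤ → AddSubgroup Y) [DirectSum.Decomposition 𝒴]
    (T : X →+ Y) (hT : ∀ n x, x ∈ 𝒳 n → T x ∈ 𝒴 n) (x : X) :
    vproj 𝒴 q (T x) = T (vproj 𝒳 q x) := by
  induction x using DirectSum.Decomposition.inductionOn 𝒳 with
  | zero => simp
  | @homogeneous n m =>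
    rw [vproj_of_mem 𝒴 q (hT n m m.2), vproj_of_mem 𝒳 q m.2]
    split_ifs
    · rfl
    · rw [map_zero]
  | add m m' h h' => rw [map_add, map_add, map_add, h, h', map_add]

omit [DirectSum.Decomposition 𝒳] in
/-- degree-preserving additive maps preserve the regraded pieces. -/
lemma coF_map {Y : Type u} [AddCommGroup Y] (𝒴 : ℤ → AddSubgroup Y)
    (T : X →+ Y) (hT : ∀ n x, x ∈ 𝒳 n → T x ∈ 𝒴 n) (j : ℤ) (x : X)
    (hx : x ∈ coF (fl q) 𝒳 j) : T x ∈ coF (fl q) 𝒴 j := by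
  refine coF_induction (fl q) 𝒳 (p := fun x => T x ∈ coF (fl q) 𝒴 j) hx ?_ ?_ ?_
  · intro n hn y hy
    exact le_coF' (fl q) 𝒴 hn (hT n y hy)
  · rw [map_zero]
    exact zero_mem _
  · intro y z hy hz
    rw [map_add]
    exact add_mem hy hz

end vproj

section retract2

variable {S : Type u} [CommRing S] {J : Ideal S}
  {N M : Type u} [AddCommGroup N] [Module S N] [AddCommGroup M] [Module S M]
  (incl : N →ₗ[S] M) (proj : M →ₗ[S] N) (hpi : ∀ x, proj (incl x) = x)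
  (E : Res J M) (c : ResHom E E (incl ∘ₗ proj)) (F : Res J N) (c' : ResHom E F proj)

include hpi c in
/-- the lift of the retraction is injective on the image of the idempotent. -/
lemma Hmap_injOn_range (i : ℕ) (x : E.H i) (hx : x ∈ LinearMap.range (c.Hmap i))
    (h0 : c'.Hmap i x = 0) : x = 0 := by
  rw [← range_retractMap incl proj hpi E c i] at hx
  obtain ⟨y, rfl⟩ := hx
  have h1 := cmp_Hmap i c' (retractMap incl E i y)
  rw [h0, map_zero] at h1
  change 0 = HH.map J _ i ((cmp i E) ((cmp i E).symm (HH.map J (ModuleCat.ofHom incl) i y))) at h1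
  rw [LinearEquiv.apply_symm_apply, ← HH.map_comp] at h1
  have h3 : ModuleCat.ofHom incl ≫ ModuleCat.ofHom proj = 𝟙 (ModuleCat.of S N) := by
    ext x
    exact hpi x
  rw [h3, HH.map_id] at h1
  rw [← h1, map_zero]

include hpi in
/-- the lift of the retraction is surjective on cohomology. -/
lemma Hmap_surjective (i : ℕ) : Function.Surjective (c'.Hmap i) := by
  intro y'
  refine ⟨retractMap incl E i (cmp i F y'), ?_⟩
  apply (cmp i F).injective
  rw [cmp_Hmap i c']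
  change HH.map J _ i ((cmp i E) ((cmp i E).symm (HH.map J (ModuleCat.ofHom incl) i _))) = _
  rw [LinearEquiv.apply_symm_apply, ← HH.map_comp]
  have h3 : ModuleCat.ofHom incl ≫ ModuleCat.ofHom proj = 𝟙 (ModuleCat.of S N) := by
    ext x
    exact hpi x
  rw [h3, HH.map_id]

include hpi c in
/-- the lift of the retraction absorbs the idempotent. -/
lemma Hmap_comp_Hmap (i : ℕ) (x : E.H i) : c'.Hmap i (c.Hmap i x) = c'.Hmap i x := by
  apply (cmp i F).injective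
  rw [cmp_Hmap i c', cmp_Hmap i c, cmp_Hmap i c']
  have hcomp : ModuleCat.ofHom (incl ∘ₗ proj) = ModuleCat.ofHom proj ≫ ModuleCat.ofHom incl := rfl
  rw [hcomp, ← HH.map_comp]
  have h3 : (ModuleCat.ofHom proj ≫ ModuleCat.ofHom incl) ≫ ModuleCat.ofHom proj =
      ModuleCat.ofHom proj := by
    ext x
    exact hpi _
  rw [h3]

end retract2

section samegam

variable {ι : Type} [AddCommGroup ι] [DecidableEq ι] {R : Type u} [CommRing R]
  {𝒜 : ι → AddSubgroup R} [GradedRing 𝒜]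
  {M : Type u} [AddCommGroup M] [Module R M] {ℳ : ι → AddSubgroup M}
  [DirectSum.Decomposition ℳ] [SetLike.GradedSMul 𝒜 ℳ] (E : StarInjRes 𝒜 ℳ)
  (a b : HomogeneousIdeal 𝒜)
  (hgam : ∀ n, GrLC.gam a.toIdeal (E.X n).carrier = GrLC.gam b.toIdeal (E.X n).carrier)

include hgam in
lemma cocyc_eq (i : ℕ) : E.cocyc a i = E.cocyc b i := by
  unfold StarInjRes.cocyc
  rw [hgam i]

include hgam in
lemma cobdy_eq (i : ℕ) : E.cobdy a i = E.cobdy b i := by
  cases i with
  | zero => rfl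
  | succ n =>
    change (GrLC.gam a.toIdeal (E.X n).carrier).map (E.d n) =
      (GrLC.gam b.toIdeal (E.X n).carrier).map (E.d n)
    rw [hgam n]

/-- graded local cohomology only depends on the torsion functor. -/
noncomputable def sameGamEquiv (i : ℕ) : E.H a i ≃ₗ[R] E.H b i :=
  Submodule.Quotient.equiv _ _ (LinearEquiv.ofEq _ _ (cocyc_eq E a b hgam i)) (by
    ext ⟨z, hz⟩
    simp only [Submodule.mem_map, Submodule.mem_comap, Submodule.subtype_apply]
    constructor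
    · rintro ⟨⟨y, hy⟩, hy', hyz⟩
      have : y = z := congrArg Subtype.val hyz
      subst this
      rw [← cobdy_eq E a b hgam i]
      exact hy'
    · intro hz'
      refine ⟨⟨z, by rw [cocyc_eq E a b hgam i]; exact hz⟩, ?_, rfl⟩
      rw [cobdy_eq E a b hgam i]
      exact hz')

lemma sameGamEquiv_toH (i : ℕ) (z : E.cocyc a i) :
    sameGamEquiv E a b hgam i (E.toH a i z) =
      E.toH b i ⟨z.1, by rw [← cocyc_eq E a b hgam i]; exact z.2⟩ := rfl

end samegam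

section ring

variable {R R' : Type u} [CommRing R] [CommRing R'] (𝒜 : ℤ → AddSubgroup R) [GradedRing 𝒜]
  (𝒜' : ℤ → AddSubgroup R') [GradedRing 𝒜'] (φ : R' →+* R) (q : ℕ) (hq : 0 < q)
  (hdeg : ∀ j : ℤ, (𝒜' j).map (φ : R' →+ R) = 𝒜 (j * q))

include hdeg in
lemma φ_mem {i : ℤ} {r : R'} (hr : r ∈ 𝒜' i) : φ r ∈ 𝒜 (i * q) := by
  rw [← hdeg i]
  exact ⟨r, hr, rfl⟩

section modules

variable {X : Type u} [AddCommGroup X] [Module R X] (𝒳 : ℤ → AddSubgroup X)
  [DirectSum.Decomposition 𝒳] [SetLike.GradedSMul 𝒜 𝒳]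

include hdeg in
/-- the projection onto degrees divisible by `q` is linear over the Veronese subring. -/
lemma vproj_smul (r : R') (x : X) : vproj 𝒳 q (φ r • x) = φ r • vproj 𝒳 q x := by
  induction r using DirectSum.Decomposition.inductionOn 𝒜' with
  | zero => simp
  | @homogeneous i r =>
    have hr : φ r ∈ 𝒜 (i * q) := φ_mem 𝒜 𝒜' φ q hdeg r.2
    induction x using DirectSum.Decomposition.inductionOn 𝒳 with
    | zero => simp
    | @homogeneous n m =>
      have hm : φ r • (m : X) ∈ 𝒳 (i * q + n) := SetLike.GradedSMul.smul_mem hr m.2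
      by_cases hn : (q : ℤ) ∣ n
      · rw [vproj_of_mem_dvd 𝒳 q hm ((Int.dvd_add_right (dvd_mul_left _ _)).2 hn),
          vproj_of_mem_dvd 𝒳 q m.2 hn]
      · rw [vproj_of_mem_not_dvd 𝒳 q hm (fun h => hn ((Int.dvd_add_right (dvd_mul_left _ _)).1 h)),
          vproj_of_mem_not_dvd 𝒳 q m.2 hn, smul_zero]
    | add m m' h h' => rw [smul_add, map_add, map_add, h, h', smul_add]
  | add r r' h h' => rw [map_add, add_smul, map_add, h, h', add_smul]

include hdeg hq in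
/-- the regraded module is graded over the Veronese ring. -/
lemma coF_gradedSMul [Module R' X] (hsm : ∀ (r : R') (x : X), r • x = φ r • x) :
    SetLike.GradedSMul 𝒜' (coF (fl q) 𝒳) := by
  refine ⟨fun {i j} {r x} hr hx => ?_⟩
  rw [vadd_eq_add, hsm]
  have hr' : φ r ∈ 𝒜 (i * q) := φ_mem 𝒜 𝒜' φ q hdeg hr
  refine coF_induction (fl q) 𝒳 (p := fun x => φ r • x ∈ coF (fl q) 𝒳 (i + j)) hx ?_ ?_ ?_
  · intro n hn y hy
    have hm : φ r • y ∈ 𝒳 (i * q + n) := SetLike.GradedSMul.smul_mem hr' hy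
    exact le_coF' (fl q) 𝒳 (by rw [fl_mul_add q hq, hn]) hm
  · rw [smul_zero]
    exact zero_mem _
  · intro y z hy hz
    rw [smul_add]
    exact add_mem hy hz

end modules

section noeth

include hdeg in
lemma vproj_mem_range (r : R) : vproj 𝒜 q r ∈ Set.range φ := by
  induction r using DirectSum.Decomposition.inductionOn 𝒜 with
  | zero => exact ⟨0, by simp⟩
  | @homogeneous n m =>
    by_cases hn : (q : ℤ) ∣ n
    · rw [vproj_of_mem_dvd 𝒜 q m.2 hn]
      obtain ⟨j, rfl⟩ := hn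
      have hm : (m : R) ∈ 𝒜 (j * q) := by
        rw [mul_comm]
        exact m.2
      rw [← hdeg j] at hm
      obtain ⟨r', -, hr'⟩ := hm
      exact ⟨r', hr'⟩
    · rw [vproj_of_mem_not_dvd 𝒜 q m.2 hn]
      exact ⟨0, map_zero φ⟩
  | add m m' h h' =>
    obtain ⟨a, ha⟩ := h
    obtain ⟨b, hb⟩ := h'
    exact ⟨a + b, by rw [map_add, map_add, ha, hb]⟩

include hdeg in
lemma vproj_φ (r : R') : vproj 𝒜 q (φ r) = φ r := by
  induction r using DirectSum.Decomposition.inductionOn 𝒜' with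
  | zero => simp
  | @homogeneous i r =>
    exact vproj_of_mem_dvd 𝒜 q (φ_mem 𝒜 𝒜' φ q hdeg r.2) (dvd_mul_left _ _)
  | add r r' h h' => rw [map_add, map_add, h, h']

include hdeg in
lemma comap_map_eq (hφ : Function.Injective φ) (I : Ideal R') : (I.map φ).comap φ = I := by
  apply le_antisymm _ Ideal.le_comap_map
  intro x hx
  have hx' : φ x ∈ I.map φ := hx
  have key : ∀ z ∈ I.map φ, ∀ r : R, vproj 𝒜 q (r * z) ∈ φ '' (I : Set R') := by
    intro z hz
    refine Submodule.span_induction (p := fun z _ => ∀ r : R, vproj 𝒜 q (r * z) ∈ φ '' (I : Set R'))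
      ?_ ?_ ?_ ?_ hz
    · rintro _ ⟨i, hi, rfl⟩ r
      have h1 : vproj 𝒜 q (r * φ i) = φ i * vproj 𝒜 q r := by
        rw [mul_comm]
        exact vproj_smul 𝒜 𝒜' φ q hdeg 𝒜 i r
      obtain ⟨s, hs⟩ := vproj_mem_range 𝒜 𝒜' φ q hdeg r
      rw [h1, ← hs, ← map_mul]
      exact ⟨i * s, I.mul_mem_right s hi, rfl⟩
    · intro r
      rw [mul_zero, map_zero]
      exact ⟨0, I.zero_mem, map_zero φ⟩
    · intro y z _ _ hy hz r
      obtain ⟨a, ha, ha'⟩ := hy r
      obtain ⟨b, hb, hb'⟩ := hz r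
      rw [mul_add, map_add]
      exact ⟨a + b, I.add_mem ha hb, by rw [map_add, ha', hb']⟩
    · intro c z _ hz r
      rw [smul_eq_mul, ← mul_assoc]
      exact hz (r * c)
  obtain ⟨y, hy, hy'⟩ := key _ hx' 1
  rw [one_mul, vproj_φ 𝒜 𝒜' φ q hdeg] at hy'
  rw [← hφ hy']
  exact hy

include hdeg in
/-- the Veronese ring of a Noetherian graded ring is Noetherian. -/
theorem isNoetherianRing_veronese [IsNoetherianRing R] (hφ : Function.Injective φ) :
    IsNoetherianRing R' := by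
  have hinj : Function.Injective (Ideal.map φ : Ideal R' → Ideal R) := by
    intro I J hIJ
    rw [← comap_map_eq 𝒜 𝒜' φ q hdeg hφ I, ← comap_map_eq 𝒜 𝒜' φ q hdeg hφ J, hIJ]
  have hmono : StrictMono (Ideal.map φ : Ideal R' → Ideal R) :=
    Monotone.strictMono_of_injective (fun _ _ h => Ideal.map_mono h) hinj
  have : WellFoundedGT (Ideal R) := (isNoetherian_iff' (R := R) (M := R)).1 inferInstance
  exact (isNoetherian_iff' (R := R') (M := R')).2 hmono.wellFoundedGT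

end noeth

section retraction

variable {M : Type u} [AddCommGroup M] [Module R M] (ℳ : ℤ → AddSubgroup M)
  [DirectSum.Decomposition ℳ] [SetLike.GradedSMul 𝒜 ℳ]
  [Module R' M] (hsm : ∀ (r : R') (x : M), r • x = φ r • x)
  {M' : Type u} [AddCommGroup M'] [Module R' M'] (ℳ' : ℤ → AddSubgroup M')
  [DirectSum.Decomposition ℳ'] [SetLike.GradedSMul 𝒜' ℳ']
  (g : M' →ₛₗ[φ] M) (hg : Function.Injective g)
  (hgdeg : ∀ j : ℤ, (ℳ' j).map (g : M' →+ M) = ℳ (j * q))

include hsm in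
/-- the semilinear map `g` as a linear map over the Veronese ring. -/
def gL : M' →ₗ[R'] M where
  toFun := g
  map_add' := g.map_add
  map_smul' r x := by
    rw [hsm]
    exact g.map_smulₛₗ r x

include hsm hdeg in
/-- the projection onto degrees divisible by `q`, linear over the Veronese ring. -/
noncomputable def vprojL : M →ₗ[R'] M where
  toFun := vproj ℳ q
  map_add' := map_add _
  map_smul' r x := by
    rw [hsm, hsm]
    exact vproj_smul 𝒜 𝒜' φ q hdeg ℳ r x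

include hgdeg in
lemma g_mem {j : ℤ} {y : M'} (hy : y ∈ ℳ' j) : g y ∈ ℳ (j * q) := by
  rw [← hgdeg j]
  exact ⟨y, hy, rfl⟩

include hgdeg in
lemma vproj_g (y : M') : vproj ℳ q (g y) = g y := by
  induction y using DirectSum.Decomposition.inductionOn ℳ' with
  | zero => simp
  | @homogeneous i y =>
    exact vproj_of_mem_dvd ℳ q (g_mem φ q ℳ ℳ' g hgdeg y.2) (dvd_mul_left _ _)
  | add y y' h h' => rw [map_add, map_add, h, h']

include hgdeg in
lemma vproj_mem_range_g (x : M) : vproj ℳ q x ∈ Set.range g := by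
  induction x using DirectSum.Decomposition.inductionOn ℳ with
  | zero => exact ⟨0, by simp⟩
  | @homogeneous n m =>
    by_cases hn : (q : ℤ) ∣ n
    · rw [vproj_of_mem_dvd ℳ q m.2 hn]
      obtain ⟨j, rfl⟩ := hn
      have hm : (m : M) ∈ ℳ (j * q) := by
        rw [mul_comm]
        exact m.2
      rw [← hgdeg j] at hm
      obtain ⟨y, -, hy⟩ := hm
      exact ⟨y, hy⟩
    · rw [vproj_of_mem_not_dvd ℳ q m.2 hn]
      exact ⟨0, map_zero g⟩
  | add m m' h h' =>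
    obtain ⟨a, ha⟩ := h
    obtain ⟨b, hb⟩ := h'
    exact ⟨a + b, by rw [map_add, map_add, ha, hb]⟩

/-- the retraction of `g`. -/
noncomputable def retr : M →ₗ[R'] M' :=
  (LinearEquiv.ofInjective (gL φ hsm g) hg).symm.toLinearMap ∘ₗ
    (vprojL 𝒜 𝒜' φ q hdeg ℳ hsm).codRestrict (LinearMap.range (gL φ hsm g))
      (fun x => vproj_mem_range_g φ q ℳ ℳ' g hgdeg x)

lemma g_retr (x : M) : g (retr 𝒜 𝒜' φ q hdeg ℳ hsm ℳ' g hg hgdeg x) = vproj ℳ q x := by
  have h := LinearEquiv.apply_symm_apply (LinearEquiv.ofInjective (gL φ hsm g) hg)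
    ((vprojL 𝒜 𝒜' φ q hdeg ℳ hsm).codRestrict (LinearMap.range (gL φ hsm g))
      (fun x => vproj_mem_range_g φ q ℳ ℳ' g hgdeg x) x)
  exact congrArg Subtype.val h

lemma retr_g (y : M') : retr 𝒜 𝒜' φ q hdeg ℳ hsm ℳ' g hg hgdeg (g y) = y := by
  apply hg
  rw [g_retr, vproj_g φ q ℳ ℳ' g hgdeg]

include hq in
lemma retr_isGrHom : IsGrHom (coF (fl q) ℳ) ℳ' (retr 𝒜 𝒜' φ q hdeg ℳ hsm ℳ' g hg hgdeg) := by
  intro j x hx
  refine coF_induction (fl q) ℳ
    (p := fun x => retr 𝒜 𝒜' φ q hdeg ℳ hsm ℳ' g hg hgdeg x ∈ ℳ' j) hx ?_ ?_ ?_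
  · intro n hn y hy
    by_cases hd : (q : ℤ) ∣ n
    · obtain ⟨c, rfl⟩ := hd
      have hc : j = c := by
        rw [← hn, mul_comm, fl_mul q hq]
      have hy' : y ∈ ℳ (c * q) := by
        rw [mul_comm]
        exact hy
      rw [← hgdeg c] at hy'
      obtain ⟨y', hy'1, rfl⟩ := hy'
      change retr 𝒜 𝒜' φ q hdeg ℳ hsm ℳ' g hg hgdeg (g y') ∈ ℳ' j
      rw [retr_g, hc]
      exact hy'1
    · have h0 : retr 𝒜 𝒜' φ q hdeg ℳ hsm ℳ' g hg hgdeg y = 0 := by
        apply hg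
        rw [g_retr, vproj_of_mem_not_dvd ℳ q hy hd, map_zero]
      rw [h0]
      exact zero_mem _
  · rw [map_zero]
    exact zero_mem _
  · intro y z hy hz
    rw [map_add]
    exact add_mem hy hz

end retraction

section WE

/-- regrading of a bundled graded module, as a graded module over the Veronese ring. -/
@[reducible] noncomputable def WG (X : GMod.{u} 𝒜) : GMod.{u} 𝒜' :=
  letI : Module R' X.carrier := Module.compHom X.carrier φ
  letI := coFDecomposition (fl q) X.gr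
  haveI : SetLike.GradedSMul 𝒜' (coF (fl q) X.gr) :=
    coF_gradedSMul 𝒜 𝒜' φ q hq hdeg X.gr (fun _ _ => rfl)
  { carrier := X.carrier, gr := coF (fl q) X.gr }

variable {M : Type u} [AddCommGroup M] [Module R M] (ℳ : ℤ → AddSubgroup M)
  [DirectSum.Decomposition ℳ] [SetLike.GradedSMul 𝒜 ℳ]
  [Module R' M] (hsm : ∀ (r : R') (x : M), r • x = φ r • x)

/-- the regraded resolution, an exact complex of graded modules over the Veronese ring. -/
noncomputable def WE (E : StarInjRes 𝒜 ℳ) : ExRes 𝒜' (coF (fl q) ℳ) where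
  X n := WG 𝒜 𝒜' φ q hq hdeg (E.X n)
  d n :=
    { toFun := E.d n
      map_add' := (E.d n).map_add
      map_smul' := fun r x => (E.d n).map_smul (φ r) x }
  ε :=
    { toFun := E.ε
      map_add' := E.ε.map_add
      map_smul' := fun r x => by
        rw [hsm]
        exact E.ε.map_smul (φ r) x }
  d_grHom n := fun j x hx =>
    coF_map (E.X n).gr q (E.X (n + 1)).gr (E.d n).toAddMonoidHom (E.d_grHom n) j x hx
  ε_grHom := fun j x hx => coF_map ℳ q (E.X 0).gr E.ε.toAddMonoidHom E.ε_grHom j x hx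
  ε_injective := E.ε_injective
  exact_zero := by
    ext x
    exact SetLike.ext_iff.1 E.exact_zero x
  exact_succ n := by
    ext x
    exact SetLike.ext_iff.1 (E.exact_succ n) x

end WE

section ideal

variable (m : HomogeneousIdeal 𝒜)
  (hmsp : m.toIdeal = Ideal.span (⋃ n ∈ Set.Ioi (0 : ℤ), (𝒜 n : Set R)))
  (m' : HomogeneousIdeal 𝒜')
  (hm'sp : m'.toIdeal = Ideal.span (⋃ j ∈ Set.Ioi (0 : ℤ), (𝒜' j : Set R')))

include hdeg hm'sp in
lemma map_isHomogeneous : (m'.toIdeal.map φ).IsHomogeneous 𝒜 := by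
  rw [hm'sp, Ideal.map_span]
  apply Ideal.homogeneous_span
  rintro _ ⟨r, hr, rfl⟩
  simp only [Set.mem_iUnion] at hr
  obtain ⟨j, _, hr⟩ := hr
  exact ⟨j * q, φ_mem 𝒜 𝒜' φ q hdeg hr⟩

/-- the extension of the irrelevant ideal of the Veronese ring, as a homogeneous ideal. -/
def aV : HomogeneousIdeal 𝒜 := ⟨m'.toIdeal.map φ, map_isHomogeneous 𝒜 𝒜' φ q hdeg m' hm'sp⟩

include hq hmsp in
lemma aV_le : (aV 𝒜 𝒜' φ q hdeg m' hm'sp).toIdeal ≤ m.toIdeal := by
  change m'.toIdeal.map φ ≤ m.toIdeal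
  rw [Ideal.map_le_iff_le_comap]
  conv_lhs => rw [hm'sp]
  rw [Ideal.span_le]
  intro r hr
  simp only [Set.mem_iUnion] at hr
  obtain ⟨j, hj, hr⟩ := hr
  change φ r ∈ m.toIdeal
  rw [hmsp]
  apply Ideal.subset_span
  simp only [Set.mem_iUnion]
  refine ⟨j * q, ?_, φ_mem 𝒜 𝒜' φ q hdeg hr⟩
  have hj' : 0 < j := hj
  have : (0 : ℤ) < q := by exact_mod_cast hq
  exact mul_pos hj' this

include hmsp in
lemma le_radical_aV : m.toIdeal ≤ (aV 𝒜 𝒜' φ q hdeg m' hm'sp).toIdeal.radical := by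
  conv_lhs => rw [hmsp]
  rw [Ideal.span_le]
  intro x hx
  simp only [Set.mem_iUnion] at hx
  obtain ⟨n, hn, hx⟩ := hx
  refine ⟨q, ?_⟩
  have h1 : x ^ q ∈ 𝒜 (q • n) := SetLike.pow_mem_graded q hx
  have h2 : q • n = n * q := by
    rw [nsmul_eq_mul, mul_comm]
  rw [h2, ← hdeg n] at h1
  obtain ⟨r, hr, hr'⟩ := h1
  change x ^ q ∈ m'.toIdeal.map φ
  have hr'' : φ r = x ^ q := hr'
  rw [← hr'']
  apply Ideal.mem_map_of_mem
  rw [hm'sp]
  apply Ideal.subset_span
  simp only [Set.mem_iUnion]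
  exact ⟨n, hn, hr⟩

end ideal

section gam

variable {A : Type u} [CommRing A]

lemma gam_le_of_pow_le {I J : Ideal A} {k : ℕ} (h : J ^ k ≤ I) (N : Type u) [AddCommGroup N]
    [Module A N] : GrLC.gam I N ≤ GrLC.gam J N := by
  rintro x ⟨n, hn⟩
  refine ⟨k * n, fun r hr => hn r ?_⟩
  rw [pow_mul] at hr
  exact Ideal.pow_right_mono h n hr

end gam

include hq hdeg in
lemma gam_aV_eq [IsNoetherianRing R] (m : HomogeneousIdeal 𝒜)
    (hmsp : m.toIdeal = Ideal.span (⋃ n ∈ Set.Ioi (0 : ℤ), (𝒜 n : Set R)))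
    (m' : HomogeneousIdeal 𝒜')
    (hm'sp : m'.toIdeal = Ideal.span (⋃ j ∈ Set.Ioi (0 : ℤ), (𝒜' j : Set R')))
    (N : Type u) [AddCommGroup N] [Module R N] :
    GrLC.gam m.toIdeal N = GrLC.gam (aV 𝒜 𝒜' φ q hdeg m' hm'sp).toIdeal N := by
  apply le_antisymm
  · apply gam_le_of_pow_le (k := 1)
    rw [pow_one]
    exact aV_le 𝒜 𝒜' φ q hq hdeg m hmsp m' hm'sp
  · obtain ⟨k, hk⟩ := Ideal.exists_pow_le_of_le_radical_of_fg_radical
      (le_radical_aV 𝒜 𝒜' φ q hdeg m hmsp m' hm'sp) (IsNoetherian.noetherian _)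
    exact gam_le_of_pow_le hk N

end ring

section samegam2

variable {ι : Type} [AddCommGroup ι] [DecidableEq ι] {R : Type u} [CommRing R]
  {𝒜 : ι → AddSubgroup R} [GradedRing 𝒜]
  {M : Type u} [AddCommGroup M] [Module R M] {ℳ : ι → AddSubgroup M}
  [DirectSum.Decomposition ℳ] [SetLike.GradedSMul 𝒜 ℳ] (E : StarInjRes 𝒜 ℳ)
  (a b : HomogeneousIdeal 𝒜)
  (hgam : ∀ n, GrLC.gam a.toIdeal (E.X n).carrier = GrLC.gam b.toIdeal (E.X n).carrier)

include hgam in
lemma finrank_Hcomp_sameGam (i : ℕ) (n : ι) :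
    Module.finrank (deg0 𝒜) (E.Hcomp a i n) = Module.finrank (deg0 𝒜) (E.Hcomp b i n) := by
  let e : E.H a i ≃ₗ[deg0 𝒜] E.H b i := (sameGamEquiv E a b hgam i).restrictScalars (deg0 𝒜)
  have hmap : (E.Hcomp a i n).map e.toLinearMap = E.Hcomp b i n := by
    ext y
    constructor
    · rintro ⟨_, ⟨z, hz, rfl⟩, rfl⟩
      exact ⟨⟨z.1, by rw [← cocyc_eq E a b hgam i]; exact z.2⟩, hz, rfl⟩
    · rintro ⟨z, hz, rfl⟩
      exact ⟨E.toH a i ⟨z.1, by rw [cocyc_eq E a b hgam i]; exact z.2⟩,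
        ⟨⟨z.1, by rw [cocyc_eq E a b hgam i]; exact z.2⟩, hz, rfl⟩, rfl⟩
  exact (LinearEquiv.ofSubmodules e _ _ hmap).finrank_eq

end samegam2

section main

variable {R R' : Type u} [CommRing R] [IsNoetherianRing R] [CommRing R']
  (𝒜 : ℤ → AddSubgroup R) [GradedRing 𝒜]
  (𝒜' : ℤ → AddSubgroup R') [GradedRing 𝒜'] (φ : R' →+* R) (hφ : Function.Injective φ)
  (q : ℕ) (hq : 0 < q)
  (hdeg : ∀ j : ℤ, (𝒜' j).map (φ : R' →+ R) = 𝒜 (j * q))
  (m : HomogeneousIdeal 𝒜)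
  (hmsp : m.toIdeal = Ideal.span (⋃ n ∈ Set.Ioi (0 : ℤ), (𝒜 n : Set R)))
  (m' : HomogeneousIdeal 𝒜')
  (hm'sp : m'.toIdeal = Ideal.span (⋃ j ∈ Set.Ioi (0 : ℤ), (𝒜' j : Set R')))
  {M : Type u} [AddCommGroup M] [Module R M] (ℳ : ℤ → AddSubgroup M)
  [DirectSum.Decomposition ℳ] [SetLike.GradedSMul 𝒜 ℳ] (E : StarInjRes 𝒜 ℳ)
  {M' : Type u} [AddCommGroup M'] [Module R' M'] (ℳ' : ℤ → AddSubgroup M')
  [DirectSum.Decomposition ℳ'] [SetLike.GradedSMul 𝒜' ℳ']
  (g : M' →ₛₗ[φ] M) (hg : Function.Injective g)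
  (hgdeg : ∀ j : ℤ, (ℳ' j).map (g : M' →+ M) = ℳ (j * q))
  (F : StarInjRes 𝒜' ℳ') (p : ℕ)

include hφ hq hg hgdeg in
set_option linter.style.haveILetI false in
set_option maxHeartbeats 1000000 in
theorem finrank_Hcomp_aV (j : ℤ) : Module.finrank (deg0 𝒜') (F.Hcomp m' p j) =
    Module.finrank (deg0 𝒜) (E.Hcomp (aV 𝒜 𝒜' φ q hdeg m' hm'sp) p (j * q)) := by
  letI : Algebra R' R := φ.toAlgebra
  haveI : IsNoetherianRing R' := isNoetherianRing_veronese 𝒜 𝒜' φ q hdeg hφ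
  letI : Module R' M := Module.compHom M φ
  have hsm : ∀ (r : R') (x : M), r • x = φ r • x := fun _ _ => rfl
  haveI : IsScalarTower R' R M := IsScalarTower.of_algebraMap_smul (fun r x => rfl)
  let aV' := aV 𝒜 𝒜' φ q hdeg m' hm'sp
  have hJ : m'.toIdeal.map (algebraMap R' R) = aV'.toIdeal := rfl
  let Er := toRes E aV'
  letI instX : ∀ n, Module R' (E.X n).carrier := fun n => Module.compHom (E.X n).carrier φ
  letI : ∀ n, Module R' (Er.X n) := instX
  haveI instT : ∀ n, IsScalarTower R' R (E.X n).carrier := fun n =>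
    IsScalarTower.of_algebraMap_smul (fun r x => rfl)
  haveI : ∀ n, IsScalarTower R' R (Er.X n) := instT
  let Er0 := restrict m'.toIdeal hJ Er
  let π := retr 𝒜 𝒜' φ q hdeg ℳ hsm ℳ' g hg hgdeg
  let incl := gL φ hsm g
  have hpi : ∀ x, π (incl x) = x := retr_g 𝒜 𝒜' φ q hdeg ℳ hsm ℳ' g hg hgdeg
  -- the idempotent chain map
  let c : ResHom Er0 Er0 (incl ∘ₗ π) :=
    { φ := fun j => (vprojL 𝒜 𝒜' φ q hdeg (E.X j).gr (fun _ _ => rfl) :
        (E.X j).carrier →ₗ[R'] (E.X j).carrier)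
      comm_ε := fun x => by
        change vproj (E.X 0).gr q (E.ε x) = E.ε (g (π x))
        rw [g_retr]
        exact vproj_map ℳ q (E.X 0).gr E.ε.toAddMonoidHom E.ε_grHom x
      comm_d := fun j x =>
        vproj_map (E.X j).gr q (E.X (j + 1)).gr (E.d j).toAddMonoidHom (E.d_grHom j) x }
  -- the lift of the retraction
  letI decW := coFDecomposition (fl q) ℳ
  haveI gsW : SetLike.GradedSMul 𝒜' (coF (fl q) ℳ) := coF_gradedSMul 𝒜 𝒜' φ q hq hdeg ℳ hsm
  obtain ⟨l⟩ := exists_exLift (WE 𝒜 𝒜' φ q hq hdeg ℳ hsm E) (toCx F) (F.ε ∘ₗ π)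
    (fun j x hx => F.ε_grHom j _ (retr_isGrHom 𝒜 𝒜' φ q hq hdeg ℳ hsm ℳ' g hg hgdeg j x hx))
    (fun x => by
      have : F.ε (π x) ∈ LinearMap.ker (F.d 0) := by
        rw [F.exact_zero]
        exact LinearMap.mem_range_self _ _
      exact this)
  let c' : ResHom Er0 (toRes F m') π :=
    { φ := l.φ
      comm_ε := l.comm_ε
      comm_d := l.comm_d }
  let rHe : Er0.H p ≃ₗ[R'] E.H aV' p :=
    LinearEquiv.ofBijective (restrictH m'.toIdeal hJ Er p) (restrictH_bijective m'.toIdeal hJ Er p)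
  let Θ : E.H aV' p →ₗ[R'] F.H m' p := (c'.Hmap p) ∘ₗ rHe.symm.toLinearMap
  let C : E.H aV' p →ₗ[R'] E.H aV' p := rHe.toLinearMap ∘ₗ (c.Hmap p) ∘ₗ rHe.symm.toLinearMap
  -- computation on classes
  have hsymm : ∀ (z : E.cocyc aV' p), rHe.symm (E.toH aV' p z) =
      Er0.toH p ⟨z.1, (mem_cocyc_iff m'.toIdeal hJ Er p z.1).2 z.2⟩ := by
    intro z
    exact (LinearEquiv.symm_apply_eq rHe).2 rfl
  have hΘ : ∀ (z : E.cocyc aV' p), ∃ hz : l.φ p z.1 ∈ F.cocyc m' p,
      Θ (E.toH aV' p z) = F.toH m' p ⟨l.φ p z.1, hz⟩ := by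
    intro z
    refine ⟨(c'.cocycMap p ⟨z.1, (mem_cocyc_iff m'.toIdeal hJ Er p z.1).2 z.2⟩).2, ?_⟩
    change c'.Hmap p (rHe.symm (E.toH aV' p z)) = _
    rw [hsymm]
    rfl
  have hC : ∀ (z : E.cocyc aV' p), ∃ hz : vproj (E.X p).gr q z.1 ∈ E.cocyc aV' p,
      C (E.toH aV' p z) = E.toH aV' p ⟨vproj (E.X p).gr q z.1, hz⟩ := by
    intro z
    refine ⟨(restrictCocyc m'.toIdeal hJ Er p
      (c.cocycMap p ⟨z.1, (mem_cocyc_iff m'.toIdeal hJ Er p z.1).2 z.2⟩)).2, ?_⟩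
    change rHe (c.Hmap p (rHe.symm (E.toH aV' p z))) = _
    rw [hsymm]
    rfl
  have hΘC : ∀ x, Θ (C x) = Θ x := by
    intro x
    change c'.Hmap p (rHe.symm (rHe (c.Hmap p (rHe.symm x)))) = c'.Hmap p (rHe.symm x)
    rw [LinearEquiv.symm_apply_apply]
    exact Hmap_comp_Hmap incl π hpi Er0 c (toRes F m') c' p _
  -- gradings
  letI decE := Groth.Agent.Lib.Helper20.GrLES2.decH E aV' p
  letI decF := Groth.Agent.Lib.Helper20.GrLES2.decH F m' p
  letI decEc := coFDecomposition (fl q) (E.Hgr aV' p)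
  have hΘgr : IsGrHom (coF (fl q) (E.Hgr aV' p)) (F.Hgr m' p) Θ := by
    intro j' x hx
    refine coF_induction (fl q) (E.Hgr aV' p) (p := fun x => Θ x ∈ F.Hgr m' p j') hx ?_ ?_ ?_
    · rintro n hn _ ⟨z, hz, rfl⟩
      obtain ⟨hz', hΘz⟩ := hΘ z
      rw [hΘz]
      exact ⟨⟨l.φ p z.1, hz'⟩, l.deg p j' _ (le_coF' (fl q) (E.X p).gr hn hz), rfl⟩
    · rw [map_zero]
      exact zero_mem _
    · intro y z hy hz
      rw [map_add]
      exact add_mem hy hz
  have hCgr : ∀ u ∈ coF (fl q) (E.Hgr aV' p) j, C u ∈ E.Hgr aV' p (j * q) := by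
    intro u hu
    refine coF_induction (fl q) (E.Hgr aV' p) (p := fun u => C u ∈ E.Hgr aV' p (j * q)) hu
      ?_ ?_ ?_
    · rintro n hn _ ⟨z, hz, rfl⟩
      obtain ⟨hz', hCz⟩ := hC z
      rw [hCz]
      refine ⟨⟨_, hz'⟩, ?_, rfl⟩
      change vproj (E.X p).gr q z.1 ∈ (E.X p).gr (j * q)
      by_cases hd : (q : ℤ) ∣ n
      · rw [vproj_of_mem_dvd _ q hz hd]
        obtain ⟨c0, rfl⟩ := hd
        have hjc : j = c0 := by
          rw [← hn, mul_comm, fl_mul q hq]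
        rw [hjc, mul_comm]
        exact hz
      · rw [vproj_of_mem_not_dvd _ q hz hd]
        exact zero_mem _
    · rw [map_zero]
      exact zero_mem _
    · intro y z hy hz
      rw [map_add]
      exact add_mem hy hz
  have hS : ∀ y' ∈ F.Hgr m' p j, ∃ x ∈ E.Hgr aV' p (j * q), Θ x = y' := by
    intro y' hy'
    obtain ⟨x0, hx0⟩ := Hmap_surjective incl π hpi Er0 (toRes F m') c' p y'
    have hx : Θ (rHe x0) = y' := by
      change c'.Hmap p (rHe.symm (rHe x0)) = y'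
      rw [LinearEquiv.symm_apply_apply, hx0]
    have h1 := decompose_map (coF (fl q) (E.Hgr aV' p)) (F.Hgr m' p) Θ hΘgr (rHe x0) j
    rw [hx, DirectSum.decompose_of_mem_same _ hy'] at h1
    refine ⟨C _, hCgr _ (SetLike.coe_mem (DirectSum.decompose (coF (fl q) (E.Hgr aV' p))
      (rHe x0) j)), ?_⟩
    rw [hΘC]
    exact h1.symm
  have hI : ∀ x ∈ E.Hgr aV' p (j * q), Θ x = 0 → x = 0 := by
    rintro _ ⟨z, hz, rfl⟩ h0
    have h1 : rHe.symm (E.toH aV' p z) ∈ LinearMap.range (c.Hmap p) := by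
      refine ⟨rHe.symm (E.toH aV' p z), ?_⟩
      rw [hsymm]
      change Er0.toH p (c.cocycMap p _) = _
      congr 1
      apply Subtype.ext
      exact vproj_of_mem_dvd (E.X p).gr q hz (dvd_mul_left _ _)
    have h2 := Hmap_injOn_range incl π hpi Er0 c (toRes F m') c' p _ h1 h0
    have h3 := congrArg rHe h2
    rwa [LinearEquiv.apply_symm_apply, map_zero] at h3
  -- the semilinear bijection
  have hfl : fl q (j * q) = j := fl_mul q hq j
  have hmem : ∀ x : E.Hcomp aV' p (j * q), Θ x.1 ∈ F.Hcomp m' p j := fun x =>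
    hΘgr j x.1 (le_coF' (fl q) (E.Hgr aV' p) hfl x.2)
  let T : E.Hcomp aV' p (j * q) →+ F.Hcomp m' p j :=
    { toFun := fun x => ⟨Θ x.1, hmem x⟩
      map_zero' := Subtype.ext (map_zero Θ)
      map_add' := fun x y => Subtype.ext (map_add Θ x.1 y.1) }
  have hTbij : Function.Bijective T := by
    constructor
    · rw [injective_iff_map_eq_zero]
      intro x hx
      apply Subtype.ext
      exact hI x.1 x.2 (congrArg Subtype.val hx)
    · rintro ⟨y', hy'⟩
      obtain ⟨x, hx, hxy⟩ := hS y' hy'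
      exact ⟨⟨x, hx⟩, Subtype.ext hxy⟩
  let Te : E.Hcomp aV' p (j * q) ≃+ F.Hcomp m' p j := AddEquiv.ofBijective T hTbij
  let i0 : deg0 𝒜' → deg0 𝒜 := fun r => ⟨φ r, by
    have h := φ_mem 𝒜 𝒜' φ q hdeg r.2
    rw [zero_mul] at h
    exact h⟩
  have hi0 : Function.Bijective i0 := by
    constructor
    · intro r s hrs
      apply Subtype.ext
      exact hφ (congrArg Subtype.val hrs)
    · rintro ⟨s, hs⟩
      have hs' : s ∈ 𝒜 (0 * q) := by
        rw [zero_mul]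
        exact hs
      rw [← hdeg 0] at hs'
      obtain ⟨r, hr, hrs⟩ := hs'
      exact ⟨⟨r, hr⟩, Subtype.ext hrs⟩
  have hTsmul : ∀ (r : deg0 𝒜') (x : E.Hcomp aV' p (j * q)), Te (i0 r • x) = r • Te x := by
    intro r x
    apply Subtype.ext
    change Θ ((φ (r : R')) • x.1) = (r : R') • Θ x.1
    rw [← map_smul]
    rfl
  have hrank := rank_eq_of_equiv_equiv i0 Te.symm hi0 (fun r y => by
    apply Te.injective
    rw [AddEquiv.apply_symm_apply, hTsmul, AddEquiv.apply_symm_apply])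
  unfold Module.finrank
  rw [hrank]

include hφ hq hdeg hmsp hm'sp hg hgdeg in
/-- **graded local cohomology commutes with Veronese submodules (dimension count).** -/
theorem finrank_Hcomp_veronese (j : ℤ) : Module.finrank (deg0 𝒜') (F.Hcomp m' p j) =
    Module.finrank (deg0 𝒜) (E.Hcomp m p (j * q)) := by
  rw [finrank_Hcomp_aV 𝒜 𝒜' φ hφ q hq hdeg m' hm'sp ℳ E ℳ' g hg hgdeg F p j]
  exact (finrank_Hcomp_sameGam E m (aV 𝒜 𝒜' φ q hdeg m' hm'sp)
    (fun n => gam_aV_eq 𝒜 𝒜' φ q hq hdeg m hmsp m' hm'sp (E.X n).carrier) p (j * q)).symm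

end main

end Groth.Agent.Lib.Helper20.GrVeronese
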