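import Mathlib
import Groth.Prelude.Def_GrLC
import Groth.Prelude.Def_GrSyz
import Groth.Agent.Lib.Helper20.GrVeronese
import Groth.Agent.Lib.Helper20.GrVan
import Groth.Agent.Lib.Helper20.GrArtin
import Groth.Agent.Lib.Helper20.GrHeight2

/-!
# Radical invariance of graded local cohomology; the irrelevant ideal of a `*`local ring with
Artinian degree-zero part (helper20)
-/

set_option autoImplicit false
set_option linter.unusedSectionVars false
set_option linter.unusedVariables false

universe u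

open DirectSum GrLC Groth.Agent.Lib.Helper20.GrVan Groth.Agent.Lib.Helper20.GrVeronese

namespace Groth.Agent.Lib.Helper20.GrIrrelRad

section congr

variable {R : Type u} [CommRing R] [IsNoetherianRing R] {𝒜 : ℤ → AddSubgroup R} [GradedRing 𝒜]
  {M : Type u} [AddCommGroup M] [Module R M] (ℳ : ℤ → AddSubgroup M)
  [DirectSum.Decomposition ℳ] [SetLike.GradedSMul 𝒜 ℳ]
  (a b : HomogeneousIdeal 𝒜)
  (hgam : ∀ (X : Type u) [AddCommGroup X] [Module R X],
    GrLC.gam a.toIdeal X = GrLC.gam b.toIdeal X)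

include hgam in
theorem Hcomp_eq_bot_of_sameGam (E : StarInjRes 𝒜 ℳ) (i : ℕ) (n : ℤ) (h : E.Hcomp a i n = ⊥) :
    E.Hcomp b i n = ⊥ := by
  have hg : ∀ k, GrLC.gam a.toIdeal (E.X k).carrier = GrLC.gam b.toIdeal (E.X k).carrier :=
    fun k => hgam _
  rw [Submodule.eq_bot_iff]
  rintro y ⟨z, hz, rfl⟩
  let z' : E.cocyc a i := ⟨z.1, by rw [cocyc_eq E a b hg i]; exact z.2⟩
  have h1 : E.toH a i z' ∈ E.Hcomp a i n := ⟨z', hz, rfl⟩
  rw [h, Submodule.mem_bot] at h1
  have h2 := congrArg (sameGamEquiv E a b hg i) h1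
  rw [sameGamEquiv_toH, map_zero] at h2
  exact h2

include hgam in
/-- vanishing of a piece of graded local cohomology only depends on the torsion functor. -/
theorem van_of_sameGam (q : ℕ) (e : ℤ) (h : Van a ℳ q e) : Van b ℳ q e := by
  intro E
  exact Hcomp_eq_bot_of_sameGam ℳ a b hgam E q e (h E)

end congr

section irrel

variable {R : Type u} [CommRing R] (𝒜 : ℤ → AddSubgroup R) [GradedRing 𝒜]
  (hpos : ∀ n : ℤ, n < 0 → 𝒜 n = ⊥)

include hpos in
/-- modulo the irrelevant ideal every element is congruent to its degree-zero component. -/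
theorem sub_decompose_zero_mem_irrel (x : R) :
    x - ((decompose 𝒜 x 0 : 𝒜 0) : R) ∈ (GrSyz.irrel 𝒜).toIdeal := by
  classical
  induction x using DirectSum.Decomposition.inductionOn 𝒜 with
  | zero =>
    rw [decompose_zero, DirectSum.zero_apply, AddSubgroup.coe_zero, sub_zero]
    exact zero_mem _
  | @homogeneous k x =>
    by_cases hk : k = 0
    · subst hk
      rw [decompose_of_mem_same 𝒜 x.2, sub_self]
      exact zero_mem _
    · rw [decompose_of_mem_ne 𝒜 x.2 hk, sub_zero]
      rcases lt_or_gt_of_ne hk with h | h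
      · have h4 : (x : R) ∈ (⊥ : AddSubgroup R) := (hpos k h).le x.2
        rw [(AddSubgroup.mem_bot).1 h4]
        exact zero_mem _
      · exact Ideal.subset_span ⟨k, h, x.2⟩
  | add x y hx hy =>
    have : x + y - ((decompose 𝒜 (x + y) 0 : 𝒜 0) : R) =
        (x - ((decompose 𝒜 x 0 : 𝒜 0) : R)) + (y - ((decompose 𝒜 y 0 : 𝒜 0) : R)) := by
      rw [decompose_add, DirectSum.add_apply, AddSubgroup.coe_add]
      ring
    rw [this]
    exact add_mem hx hy

variable [IsNoetherianRing R] (m : HomogeneousIdeal 𝒜) (hm : IsStarLocal 𝒜 m)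

include hm in
/-- degree-zero elements of the `*`maximal ideal are nilpotent when `R_0` is Artinian. -/
theorem isNilpotent_of_mem [IsArtinianRing (deg0 𝒜)] (x : R) (hx0 : x ∈ 𝒜 0)
    (hxm : x ∈ m.toIdeal) : IsNilpotent x := by
  classical
  let x' : deg0 𝒜 := ⟨x, hx0⟩
  obtain ⟨n, y, hy⟩ := IsArtinian.exists_pow_succ_smul_dvd x' (1 : deg0 𝒜)
  have h1 : x ^ (n + 1) * (y : R) = x ^ n := by
    have := congrArg (Subtype.val) hy
    simpa [x'] using this
  have hu0 : (1 - x * (y : R)) ∈ 𝒜 0 := by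
    refine sub_mem (SetLike.GradedOne.one_mem (A := 𝒜)) ?_
    have := SetLike.GradedMul.mul_mem (A := 𝒜) hx0 (show (y : R) ∈ 𝒜 0 from y.2)
    rwa [add_zero] at this
  let su : HomogeneousIdeal 𝒜 := ⟨Ideal.span {1 - x * (y : R)},
    Ideal.homogeneous_span 𝒜 {1 - x * (y : R)} (by
      intro z hz
      rw [Set.mem_singleton_iff] at hz
      subst hz
      exact ⟨0, hu0⟩)⟩
  have hsu : su = ⊤ := by
    by_contra hne
    have hle := GrHeight2.le_of_isStarLocal 𝒜 m hm su hne
    have hum : (1 - x * (y : R)) ∈ m.toIdeal := hle (Ideal.subset_span (Set.mem_singleton _))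
    have h1m : (1 : R) ∈ m.toIdeal := by
      have := add_mem hum (m.toIdeal.mul_mem_right (y : R) hxm)
      rwa [sub_add_cancel] at this
    exact hm.1.1 (HomogeneousIdeal.toIdeal_injective ((Ideal.eq_top_iff_one _).2 h1m))
  have hunit : IsUnit (1 - x * (y : R)) := by
    have : Ideal.span {1 - x * (y : R)} = ⊤ := congrArg HomogeneousIdeal.toIdeal hsu
    exact Ideal.span_singleton_eq_top.1 this
  refine ⟨n, ?_⟩
  have h2 : x ^ n * (1 - x * (y : R)) = 0 := by
    rw [mul_sub, mul_one, ← mul_assoc, ← pow_succ, h1, sub_self]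
  exact (hunit.mul_left_eq_zero).1 h2

include hpos hm in
theorem le_radical_irrel [IsArtinianRing (deg0 𝒜)] :
    m.toIdeal ≤ (GrSyz.irrel 𝒜).toIdeal.radical := by
  intro x hx
  have h0 : ((decompose 𝒜 x 0 : 𝒜 0) : R) ∈ m.toIdeal := m.isHomogeneous 0 hx
  have h1 := sub_decompose_zero_mem_irrel 𝒜 hpos x
  have h2 := isNilpotent_of_mem 𝒜 m hm _ (SetLike.coe_mem _) h0
  have h3 : ((decompose 𝒜 x 0 : 𝒜 0) : R) ∈ (GrSyz.irrel 𝒜).toIdeal.radical := by
    obtain ⟨n, hn⟩ := h2
    exact ⟨n, by rw [hn]; exact zero_mem _⟩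
  have := add_mem h3 (Ideal.le_radical h1)
  rwa [add_sub_cancel] at this

include hpos hm in
theorem irrel_le : (GrSyz.irrel 𝒜).toIdeal ≤ m.toIdeal := by
  apply Ideal.span_le.2
  rintro r ⟨n, hn, hr⟩
  exact GrArtin.mem_of_pos 𝒜 hpos m hm.1 hn hr

include hpos hm in
/-- for a `*`local positively graded ring with Artinian degree-zero part, the `*`maximal ideal and the
irrelevant ideal have the same torsion functor. -/
theorem gam_eq_irrel [IsArtinianRing (deg0 𝒜)] (X : Type u) [AddCommGroup X] [Module R X] :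
    GrLC.gam m.toIdeal X = GrLC.gam (GrSyz.irrel 𝒜).toIdeal X := by
  apply le_antisymm
  · apply gam_le_of_pow_le (k := 1)
    rw [pow_one]
    exact irrel_le 𝒜 hpos m hm
  · obtain ⟨k, hk⟩ := Ideal.exists_pow_le_of_le_radical_of_fg (le_radical_irrel 𝒜 hpos m hm)
      (IsNoetherian.noetherian _)
    exact gam_le_of_pow_le hk X

end irrel

end Groth.Agent.Lib.Helper20.GrIrrelRad
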