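import Mathlib

/-!
# Lengths as rational numbers and the Euler characteristic of a long exact sequence (helper20)
-/

set_option autoImplicit false
set_option linter.unusedSectionVars false
set_option linter.unusedVariables false

universe u v

namespace Groth.Agent.Lib.Helper20.LenEuler

variable (S : Type v) [Ring S]

/-- the length as a rational number (zero if infinite). -/
noncomputable def len (X : Type u) [AddCommGroup X] [Module S X] : ℚ :=
  ((Module.length S X).toNat : ℚ)

variable {S}

theorem len_eq_add_of_exact {N M P : Type u} [AddCommGroup N] [Module S N] [AddCommGroup M]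
    [Module S M] [AddCommGroup P] [Module S P] (f : N →ₗ[S] M) (g : M →ₗ[S] P)
    (hf : Function.Injective f) (hg : Function.Surjective g) (hex : Function.Exact f g)
    (hfin : Module.length S M ≠ ⊤) : len S M = len S N + len S P := by
  have h := Module.length_eq_add_of_exact f g hf hg hex
  have hN : Module.length S N ≠ ⊤ := fun h' => hfin (by rw [h, h']; simp)
  have hP : Module.length S P ≠ ⊤ := fun h' => hfin (by rw [h, h']; simp)
  unfold len
  rw [h, ENat.toNat_add hN hP]
  push_cast
  rfl

theorem length_ne_top_of_injective {N M : Type u} [AddCommGroup N] [Module S N] [AddCommGroup M]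
    [Module S M] (f : N →ₗ[S] M) (hf : Function.Injective f) (hfin : Module.length S M ≠ ⊤) :
    Module.length S N ≠ ⊤ := by
  intro h
  apply hfin
  have := Module.length_le_of_injective f hf
  rw [h, top_le_iff] at this
  exact this

theorem length_ne_top_of_surjective {N M : Type u} [AddCommGroup N] [Module S N] [AddCommGroup M]
    [Module S M] (f : M →ₗ[S] N) (hf : Function.Surjective f) (hfin : Module.length S M ≠ ⊤) :
    Module.length S N ≠ ⊤ := by
  intro h
  apply hfin
  have := Module.length_le_of_surjective f hf
  rw [h, top_le_iff] at this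
  exact this

theorem len_congr {X Y : Type u} [AddCommGroup X] [Module S X] [AddCommGroup Y] [Module S Y]
    (e : X ≃ₗ[S] Y) : len S X = len S Y := by
  unfold len
  rw [e.length_eq]

theorem len_of_subsingleton (X : Type u) [AddCommGroup X] [Module S X] [Subsingleton X] :
    len S X = 0 := by
  unfold len
  rw [Module.length_eq_zero]
  simp

theorem len_ker_add_range {X Y : Type u} [AddCommGroup X] [Module S X] [AddCommGroup Y]
    [Module S Y] (φ : X →ₗ[S] Y) (hfin : Module.length S X ≠ ⊤) :
    len S X = len S (LinearMap.ker φ) + len S (LinearMap.range φ) := by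
  apply len_eq_add_of_exact (LinearMap.ker φ).subtype φ.rangeRestrict
    (Submodule.injective_subtype _) φ.surjective_rangeRestrict ?_ hfin
  rw [LinearMap.exact_iff, LinearMap.ker_rangeRestrict, Submodule.range_subtype]

theorem len_range_eq_ker {X Y Z : Type u} [AddCommGroup X] [Module S X] [AddCommGroup Y]
    [Module S Y] [AddCommGroup Z] [Module S Z] (φ : X →ₗ[S] Y) (ψ : Y →ₗ[S] Z)
    (hex : Function.Exact φ ψ) : len S (LinearMap.range φ) = len S (LinearMap.ker ψ) := by
  have h := LinearMap.exact_iff.1 hex
  exact (congrArg (fun N : Submodule S Y => len S N) h).symm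

/-- **Euler characteristic of a long exact sequence** `0 → A₀ → B₀ → C₀ → A₁ → B₁ → ⋯`. -/
theorem euler {A B C : ℕ → Type u} [∀ i, AddCommGroup (A i)] [∀ i, Module S (A i)]
    [∀ i, AddCommGroup (B i)] [∀ i, Module S (B i)] [∀ i, AddCommGroup (C i)]
    [∀ i, Module S (C i)]
    (f : ∀ i, A i →ₗ[S] B i) (g : ∀ i, B i →ₗ[S] C i) (δ : ∀ i, C i →ₗ[S] A (i + 1))
    (hA : ∀ i, Module.length S (A i) ≠ ⊤) (hB : ∀ i, Module.length S (B i) ≠ ⊤)
    (hC : ∀ i, Module.length S (C i) ≠ ⊤)
    (hf0 : Function.Injective (f 0))
    (h1 : ∀ i, Function.Exact (f i) (g i)) (h2 : ∀ i, Function.Exact (g i) (δ i))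
    (h3 : ∀ i, Function.Exact (δ i) (f (i + 1))) (k : ℕ) :
    ∑ i ∈ Finset.range k, (-1 : ℚ) ^ i * (len S (A i) - len S (B i) + len S (C i)) =
      - (-1 : ℚ) ^ k * len S (LinearMap.ker (f k)) := by
  have hstep : ∀ i, len S (A i) - len S (B i) + len S (C i) =
      len S (LinearMap.ker (f i)) + len S (LinearMap.ker (f (i + 1))) := by
    intro i
    rw [len_ker_add_range (f i) (hA i), len_ker_add_range (g i) (hB i),
      len_ker_add_range (δ i) (hC i), len_range_eq_ker _ _ (h1 i), len_range_eq_ker _ _ (h2 i),
      len_range_eq_ker _ _ (h3 i)]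
    ring
  induction k with
  | zero =>
    haveI : Subsingleton (LinearMap.ker (f 0)) := by
      rw [LinearMap.ker_eq_bot.2 hf0]
      infer_instance
    rw [Finset.sum_range_zero, len_of_subsingleton]
    ring
  | succ k ih =>
    rw [Finset.sum_range_succ, ih, hstep k, pow_succ]
    ring

end Groth.Agent.Lib.Helper20.LenEuler
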