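import Mathlib
import Groth.Prelude.Def_GrLC
import Groth.Agent.Lib.Helper20.GrLES
import Groth.Agent.Lib.Helper20.GrLES2
import Groth.Agent.Lib.Helper20.GrFin2
import Groth.Agent.Lib.Helper20.LenEuler

/-!
# Additivity of the Euler characteristic of pieces of graded local cohomology and of the Hilbert
function along short exact sequences (helper20)
-/

set_option autoImplicit false
set_option linter.unusedSectionVars false
set_option linter.unusedVariables false
set_option linter.style.haveILetI false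

universe u

open CategoryTheory DirectSum GrLC Groth.Agent.Lib.Helper4.LC Groth.Agent.Lib.Helper20.GrLCBasic
  Groth.Agent.Lib.Helper20.GrLCQuot Groth.Agent.Lib.Helper20.GrRes
  Groth.Agent.Lib.Helper20.GrLES Groth.Agent.Lib.Helper20.GrLES2
  Groth.Agent.Lib.Helper20.GrFin2 Groth.Agent.Lib.Helper20.LenEuler

namespace Groth.Agent.Lib.Helper20.GrEulerLES

variable {R : Type u} [CommRing R] [IsNoetherianRing R] {𝒜 : ℤ → AddSubgroup R} [GradedRing 𝒜]

section chi

variable {M : Type u} [AddCommGroup M] [Module R M] {ℳ : ℤ → AddSubgroup M}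
  [DirectSum.Decomposition ℳ] [SetLike.GradedSMul 𝒜 ℳ]

/-- the Euler characteristic of the degree-`n` pieces of graded local cohomology. -/
noncomputable def chi (a : HomogeneousIdeal 𝒜) (E : StarInjRes 𝒜 ℳ) (n : ℤ) (B : ℕ) : ℚ :=
  ∑ i ∈ Finset.range B, (-1 : ℚ) ^ i * len (deg0 𝒜) (E.Hcomp a i n)

end chi

section les

variable {M' : Type u} [AddCommGroup M'] [Module R M'] {ℳ' : ℤ → AddSubgroup M'}
  [DirectSum.Decomposition ℳ'] [SetLike.GradedSMul 𝒜 ℳ']
  {M : Type u} [AddCommGroup M] [Module R M] {ℳ : ℤ → AddSubgroup M}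
  [DirectSum.Decomposition ℳ] [SetLike.GradedSMul 𝒜 ℳ]
  {M'' : Type u} [AddCommGroup M''] [Module R M''] {ℳ'' : ℤ → AddSubgroup M''}
  [DirectSum.Decomposition ℳ''] [SetLike.GradedSMul 𝒜 ℳ'']
  (f : M' →ₗ[R] M) (g : M →ₗ[R] M'') (kf kg : ℤ)
  (hf : IsGrHomDeg ℳ' ℳ f kf) (hg : IsGrHomDeg ℳ ℳ'' g kg)
  (hinj : Function.Injective f) (hsurj : Function.Surjective g) (hex : Function.Exact f g)
  (E' : StarInjRes 𝒜 ℳ') (E : StarInjRes 𝒜 ℳ) (E'' : StarInjRes 𝒜 ℳ'')
  (a : HomogeneousIdeal 𝒜)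

include hf hg hinj hsurj hex in
/-- **additivity of the Euler characteristic** of pieces of graded local cohomology. -/
theorem chi_add (n' n n'' : ℤ) (hn : n' + kf = n) (hn'' : n + kg = n'') (B : ℕ)
    (hfin' : ∀ i, Module.length (deg0 𝒜) (E'.Hcomp a i n') ≠ ⊤)
    (hfin : ∀ i, Module.length (deg0 𝒜) (E.Hcomp a i n) ≠ ⊤)
    (hfin'' : ∀ i, Module.length (deg0 𝒜) (E''.Hcomp a i n'') ≠ ⊤)
    (hB : E'.Hcomp a B n' = ⊥) :
    chi a E n B = chi a E' n' B + chi a E'' n'' B := by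
  classical
  obtain ⟨lf⟩ := nonempty_lift f kf hf E' E
  obtain ⟨lg⟩ := nonempty_lift g kg hg E E''
  obtain ⟨D, hD, h0, h1, h2, h3, h4, h5, h6⟩ :=
    exists_grLES f g kf kg hf hg hinj hsurj hex E' E E'' a lf lg
  have hnD : n'' + (-kg + -kf) = n' := by rw [← hn'', ← hn]; ring
  -- the restricted maps
  let fi : ∀ i, E'.Hcomp a i n' →ₗ[deg0 𝒜] E.Hcomp a i n := fun i =>
    ((lf.Hmap a i).restrictScalars (deg0 𝒜)).restrict (fun x hx => by
      have := lf.Hmap_mem a i n' x hx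
      rwa [hn] at this)
  let gi : ∀ i, E.Hcomp a i n →ₗ[deg0 𝒜] E''.Hcomp a i n'' := fun i =>
    ((lg.Hmap a i).restrictScalars (deg0 𝒜)).restrict (fun x hx => by
      have := lg.Hmap_mem a i n x hx
      rwa [hn''] at this)
  let δi : ∀ i, E''.Hcomp a i n'' →ₗ[deg0 𝒜] E'.Hcomp a (i + 1) n' := fun i =>
    ((D i).restrictScalars (deg0 𝒜)).restrict (fun x hx => by
      have := hD i n'' x hx
      rwa [hnD] at this)
  have hfi : ∀ i (x : E'.Hcomp a i n'), ((fi i x : E.Hcomp a i n) : E.H a i) = lf.Hmap a i x.1 :=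
    fun i x => rfl
  have hgi : ∀ i (x : E.Hcomp a i n), ((gi i x : E''.Hcomp a i n'') : E''.H a i) =
      lg.Hmap a i x.1 := fun i x => rfl
  have hδi : ∀ i (x : E''.Hcomp a i n''), ((δi i x : E'.Hcomp a (i + 1) n') : E'.H a (i + 1)) =
      D i x.1 := fun i x => rfl
  have hf0 : Function.Injective (fi 0) := by
    intro x y hxy
    apply Subtype.ext
    apply h0
    rw [← hfi, ← hfi, hxy]
  have e1 : ∀ i, Function.Exact (fi i) (gi i) := by
    intro i y
    constructor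
    · intro hy
      have hy0 : lg.Hmap a i y.1 = 0 := by
        rw [← hgi, hy]
        rfl
      obtain ⟨x, hx⟩ := h2 i y.1 hy0
      letI := decH E' a i
      letI := decH E a i
      have hdeg : IsGrHomDeg (E'.Hgr a i) (E.Hgr a i) (lf.Hmap a i) kf :=
        fun k z hz => lf.Hmap_mem a i k z hz
      have hy' : y.1 ∈ E.Hgr a i (n' + kf) := by
        rw [hn]
        exact y.2
      obtain ⟨x', hx', hx'y⟩ := exists_piece_preimage (E'.Hgr a i) (E.Hgr a i) (lf.Hmap a i) kf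
        hdeg n' y.1 hy' x hx
      exact ⟨⟨x', hx'⟩, Subtype.ext hx'y⟩
    · rintro ⟨x, rfl⟩
      apply Subtype.ext
      rw [hgi, hfi, h1]
      rfl
  have e2 : ∀ i, Function.Exact (gi i) (δi i) := by
    intro i y
    constructor
    · intro hy
      have hy0 : D i y.1 = 0 := by
        rw [← hδi, hy]
        rfl
      obtain ⟨x, hx⟩ := h4 i y.1 hy0
      letI := decH E a i
      letI := decH E'' a i
      have hdeg : IsGrHomDeg (E.Hgr a i) (E''.Hgr a i) (lg.Hmap a i) kg :=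
        fun k z hz => lg.Hmap_mem a i k z hz
      have hy' : y.1 ∈ E''.Hgr a i (n + kg) := by
        rw [hn'']
        exact y.2
      obtain ⟨x', hx', hx'y⟩ := exists_piece_preimage (E.Hgr a i) (E''.Hgr a i) (lg.Hmap a i) kg
        hdeg n y.1 hy' x hx
      exact ⟨⟨x', hx'⟩, Subtype.ext hx'y⟩
    · rintro ⟨x, rfl⟩
      apply Subtype.ext
      rw [hδi, hgi, h3]
      rfl
  have e3 : ∀ i, Function.Exact (δi i) (fi (i + 1)) := by
    intro i y
    constructor
    · intro hy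
      have hy0 : lf.Hmap a (i + 1) y.1 = 0 := by
        rw [← hfi, hy]
        rfl
      obtain ⟨x, hx⟩ := h6 i y.1 hy0
      letI := decH E'' a i
      letI := decH E' a (i + 1)
      have hdeg : IsGrHomDeg (E''.Hgr a i) (E'.Hgr a (i + 1)) (D i) (-kg + -kf) :=
        fun k z hz => hD i k z hz
      have hy' : y.1 ∈ E'.Hgr a (i + 1) (n'' + (-kg + -kf)) := by
        rw [hnD]
        exact y.2
      obtain ⟨x', hx', hx'y⟩ := exists_piece_preimage (E''.Hgr a i) (E'.Hgr a (i + 1)) (D i)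
        (-kg + -kf) hdeg n'' y.1 hy' x hx
      exact ⟨⟨x', hx'⟩, Subtype.ext hx'y⟩
    · rintro ⟨x, rfl⟩
      apply Subtype.ext
      rw [hfi, hδi, h5]
      rfl
  have heul := euler fi gi δi hfin' hfin hfin'' hf0 e1 e2 e3 B
  haveI : Subsingleton (LinearMap.ker (fi B)) := by
    constructor
    intro x y
    apply Subtype.ext
    apply Subtype.ext
    have hz : ∀ z : E'.H a B, z ∈ E'.Hcomp a B n' → z = 0 := by
      intro z hz
      rw [hB] at hz
      exact (Submodule.mem_bot _).1 hz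
    rw [hz _ x.1.2, hz _ y.1.2]
  rw [len_of_subsingleton, mul_zero] at heul
  unfold chi
  have hsplit : ∑ i ∈ Finset.range B, (-1 : ℚ) ^ i *
      (len (deg0 𝒜) (E'.Hcomp a i n') - len (deg0 𝒜) (E.Hcomp a i n) +
        len (deg0 𝒜) (E''.Hcomp a i n'')) =
      ∑ i ∈ Finset.range B, (-1 : ℚ) ^ i * len (deg0 𝒜) (E'.Hcomp a i n') -
      ∑ i ∈ Finset.range B, (-1 : ℚ) ^ i * len (deg0 𝒜) (E.Hcomp a i n) +
      ∑ i ∈ Finset.range B, (-1 : ℚ) ^ i * len (deg0 𝒜) (E''.Hcomp a i n'') := by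
    rw [← Finset.sum_sub_distrib, ← Finset.sum_add_distrib]
    apply Finset.sum_congr rfl
    intro i _
    ring
  rw [hsplit] at heul
  linarith

end les

section hilb

variable {M' : Type u} [AddCommGroup M'] [Module R M'] {ℳ' : ℤ → AddSubgroup M'}
  [DirectSum.Decomposition ℳ'] [SetLike.GradedSMul 𝒜 ℳ']
  {M : Type u} [AddCommGroup M] [Module R M] {ℳ : ℤ → AddSubgroup M}
  [DirectSum.Decomposition ℳ] [SetLike.GradedSMul 𝒜 ℳ]
  {M'' : Type u} [AddCommGroup M''] [Module R M''] {ℳ'' : ℤ → AddSubgroup M''}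
  [DirectSum.Decomposition ℳ''] [SetLike.GradedSMul 𝒜 ℳ'']
  (f : M' →ₗ[R] M) (g : M →ₗ[R] M'') (kf kg : ℤ)
  (hf : IsGrHomDeg ℳ' ℳ f kf) (hg : IsGrHomDeg ℳ ℳ'' g kg)
  (hinj : Function.Injective f) (hsurj : Function.Surjective g) (hex : Function.Exact f g)

include hf hg hinj hsurj hex in
omit [IsNoetherianRing R] in
/-- **additivity of the Hilbert function.** -/
theorem hilb_add (n' n n'' : ℤ) (hn : n' + kf = n) (hn'' : n + kg = n'')
    (hfin : Module.length (deg0 𝒜) (comp 𝒜 ℳ n) ≠ ⊤) :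
    len (deg0 𝒜) (comp 𝒜 ℳ n) =
      len (deg0 𝒜) (comp 𝒜 ℳ' n') + len (deg0 𝒜) (comp 𝒜 ℳ'' n'') := by
  classical
  let fi : comp 𝒜 ℳ' n' →ₗ[deg0 𝒜] comp 𝒜 ℳ n :=
    (f.restrictScalars (deg0 𝒜)).restrict (fun x hx => by
      have := hf n' x hx
      rwa [hn] at this)
  let gi : comp 𝒜 ℳ n →ₗ[deg0 𝒜] comp 𝒜 ℳ'' n'' :=
    (g.restrictScalars (deg0 𝒜)).restrict (fun x hx => by
      have := hg n x hx
      rwa [hn''] at this)
  have hfi : ∀ x : comp 𝒜 ℳ' n', ((fi x : comp 𝒜 ℳ n) : M) = f x.1 := fun x => rfl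
  have hgi : ∀ x : comp 𝒜 ℳ n, ((gi x : comp 𝒜 ℳ'' n'') : M'') = g x.1 := fun x => rfl
  apply len_eq_add_of_exact fi gi ?_ ?_ ?_ hfin
  · intro x y hxy
    apply Subtype.ext
    apply hinj
    rw [← hfi, ← hfi, hxy]
  · intro y
    have hy' : y.1 ∈ ℳ'' (n + kg) := by
      rw [hn'']
      exact y.2
    obtain ⟨x, hx, hxy⟩ := exists_homogeneous_preimage ℳ ℳ'' g kg hg hsurj n y.1 hy'
    exact ⟨⟨x, hx⟩, Subtype.ext hxy⟩
  · intro y
    constructor
    · intro hy
      have hy0 : g y.1 = 0 := by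
        rw [← hgi, hy]
        rfl
      obtain ⟨x, hx⟩ := (hex y.1).1 hy0
      have hy' : y.1 ∈ ℳ (n' + kf) := by
        rw [hn]
        exact y.2
      obtain ⟨x', hx', hx'y⟩ := exists_piece_preimage ℳ' ℳ f kf hf n' y.1 hy' x hx
      exact ⟨⟨x', hx'⟩, Subtype.ext hx'y⟩
    · rintro ⟨x, rfl⟩
      apply Subtype.ext
      rw [hgi, hfi]
      exact (hex _).2 ⟨_, rfl⟩

end hilb

end Groth.Agent.Lib.Helper20.GrEulerLES
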