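import Mathlib
import Groth.Prelude.Def_GrLC
import Groth.Agent.Lib.Helper20.GrEulerLES
import Groth.Agent.Lib.Helper20.GrChop
import Groth.Agent.Lib.Helper20.GrVan
import Groth.Agent.S13215

/-!
# The Serre–Grothendieck formula: Hilbert function minus the Euler characteristic of graded local
cohomology is a polynomial (helper20)
-/

set_option autoImplicit false
set_option linter.unusedSectionVars false
set_option linter.unusedVariables false
set_option linter.style.haveILetI false

universe u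

open CategoryTheory DirectSum GrLC Groth.Agent.Lib.Helper4.LC Groth.Agent.Lib.Helper20.GrLCBasic
  Groth.Agent.Lib.Helper20.GrLCQuot Groth.Agent.Lib.Helper20.GrRes
  Groth.Agent.Lib.Helper20.GrLES Groth.Agent.Lib.Helper20.GrLES2
  Groth.Agent.Lib.Helper20.GrFin1
  Groth.Agent.Lib.Helper20.GrFin2 Groth.Agent.Lib.Helper20.LenEuler
  Groth.Agent.Lib.Helper20.GrEulerLES Groth.Agent.Lib.Helper20.GrVan

namespace Groth.Agent.Lib.Helper20.GrSerre

section poly

open Polynomial

/-- discrete antiderivative of a rational polynomial. -/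
theorem exists_antidiff (P : ℚ[X]) :
    ∃ Q : ℚ[X], ∀ x : ℚ, Q.eval x - Q.eval (x - 1) = P.eval x := by
  induction P using Polynomial.induction_on' with
  | add p q hp hq =>
    obtain ⟨Qp, hQp⟩ := hp
    obtain ⟨Qq, hQq⟩ := hq
    exact ⟨Qp + Qq, fun x => by rw [eval_add, eval_add, eval_add, ← hQp, ← hQq]; ring⟩
  | monomial n a =>
    refine ⟨C (a / ((n : ℚ) + 1)) * (Polynomial.bernoulli (n + 1)).comp (X + 1), fun x => ?_⟩
    have h1 := Polynomial.bernoulli_eval_one_add (n + 1) x
    rw [Nat.add_sub_cancel] at h1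
    push_cast at h1
    simp only [eval_mul, eval_C, eval_comp, eval_add, eval_X, eval_one, eval_monomial]
    rw [sub_add_cancel, add_comm x 1, h1]
    have : ((n : ℚ) + 1) ≠ 0 := by positivity
    field_simp
    ring

/-- a function on `ℤ` whose backward difference is a polynomial is a polynomial. -/
theorem exists_poly_of_diff (g : ℤ → ℚ) (P : ℚ[X])
    (h : ∀ n : ℤ, g n - g (n - 1) = P.eval (n : ℚ)) :
    ∃ Q : ℚ[X], ∀ n : ℤ, g n = Q.eval (n : ℚ) := by
  obtain ⟨Q, hQ⟩ := exists_antidiff P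
  have hstep : ∀ n : ℤ, g n - Q.eval (n : ℚ) = g (n - 1) - Q.eval ((n - 1 : ℤ) : ℚ) := by
    intro n
    have h1 := h n
    have h2 := hQ (n : ℚ)
    push_cast
    linarith
  have hconst : ∀ n : ℤ, g n - Q.eval (n : ℚ) = g 0 - Q.eval ((0 : ℤ) : ℚ) := by
    intro n
    induction n using Int.induction_on with
    | zero => rfl
    | succ k ih =>
      have := hstep ((k : ℤ) + 1)
      rw [add_sub_cancel_right] at this
      rw [this, ih]
    | pred k ih =>
      have := hstep (-(k : ℤ))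
      rw [← ih, this]
  refine ⟨Q + C (g 0 - Q.eval ((0 : ℤ) : ℚ)), fun n => ?_⟩
  rw [eval_add, eval_C]
  linarith [hconst n]

end poly

variable {R : Type u} [CommRing R] [IsNoetherianRing R] {𝒜 : ℤ → AddSubgroup R} [GradedRing 𝒜]

section fin

variable {M : Type u} [AddCommGroup M] [Module R M] (ℳ : ℤ → AddSubgroup M)
  [DirectSum.Decomposition ℳ] [SetLike.GradedSMul 𝒜 ℳ]

theorem length_comp_ne_top [IsArtinianRing (deg0 𝒜)] [Module.Finite R M] (n : ℤ) :
    Module.length (deg0 𝒜) (comp 𝒜 ℳ n) ≠ ⊤ := by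
  haveI : IsNoetherian R M := isNoetherian_of_isNoetherianRing_of_finite R M
  haveI := isNoetherian_comp 𝒜 ℳ n
  exact Module.length_ne_top

variable {ℳ}

theorem length_Hcomp_ne_top [IsArtinianRing (deg0 𝒜)] [Module.Finite R M]
    (a : HomogeneousIdeal 𝒜)
    (ha : a.toIdeal = Ideal.span (⋃ n ∈ Set.Ioi (0 : ℤ), (𝒜 n : Set R)))
    (E : StarInjRes 𝒜 ℳ) (i : ℕ) (n : ℤ) :
    Module.length (deg0 𝒜) (E.Hcomp a i n) ≠ ⊤ := by
  haveI := (good a ha i M ℳ E).1 n
  exact Module.length_ne_top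

end fin

section base

variable {M : Type u} [AddCommGroup M] [Module R M] {ℳ : ℤ → AddSubgroup M}
  [DirectSum.Decomposition ℳ] [SetLike.GradedSMul 𝒜 ℳ]
  (a : HomogeneousIdeal 𝒜) (E : StarInjRes 𝒜 ℳ)

/-- for a module killed by `a`, `H^0_a(M)_n ≅ M_n`. -/
theorem len_Hcomp_zero_of_torsion (htors : ∀ m : M, m ∈ gam a.toIdeal M) (n : ℤ) :
    len (deg0 𝒜) (E.Hcomp a 0 n) = len (deg0 𝒜) (comp 𝒜 ℳ n) := by
  classical
  let Φ : comp 𝒜 ℳ n →ₗ[deg0 𝒜] E.Hcomp a 0 n :=
    { toFun := fun y => ⟨E.toH a 0 ⟨E.ε y.1, eps_mem_cocyc_zero a E y.1 (htors y.1)⟩,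
        ⟨_, E.ε_grHom n y.1 y.2, rfl⟩⟩
      map_add' := by
        intro y y'
        apply Subtype.ext
        show E.toH a 0 _ = E.toH a 0 _ + E.toH a 0 _
        rw [← map_add]
        congr 1
        apply Subtype.ext
        exact map_add E.ε y.1 y'.1
      map_smul' := by
        intro r y
        apply Subtype.ext
        show E.toH a 0 _ = (r : R) • E.toH a 0 _
        rw [← map_smul]
        congr 1
        apply Subtype.ext
        exact map_smul E.ε (r : R) y.1 }
  have hΦ : ∀ y : comp 𝒜 ℳ n, ((Φ y : E.Hcomp a 0 n) : E.H a 0) =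
      E.toH a 0 ⟨E.ε y.1, eps_mem_cocyc_zero a E y.1 (htors y.1)⟩ := fun y => rfl
  have hinj : Function.Injective Φ := by
    rw [← LinearMap.ker_eq_bot, LinearMap.ker_eq_bot']
    intro y hy
    have h1 : E.toH a 0 ⟨E.ε y.1, eps_mem_cocyc_zero a E y.1 (htors y.1)⟩ = 0 := by
      rw [← hΦ, hy]
      rfl
    rw [Submodule.mkQ_apply, Submodule.Quotient.mk_eq_zero] at h1
    have h2 : E.ε y.1 ∈ E.cobdy a 0 := h1
    have h3 : E.ε y.1 = 0 := (Submodule.mem_bot R).1 h2
    apply Subtype.ext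
    apply E.ε_injective
    rw [h3]
    exact (map_zero E.ε).symm
  have hsurj : Function.Surjective Φ := by
    rintro ⟨_, z, hz, rfl⟩
    obtain ⟨m, hm, hmz⟩ := exists_of_mem_cocyc_zero a E z
    have hmn : m ∈ ℳ n := by
      apply mem_of_map_mem ℳ (E.X 0).gr E.ε E.ε_grHom E.ε_injective
      rw [hmz]
      exact hz
    refine ⟨⟨m, hmn⟩, ?_⟩
    apply Subtype.ext
    show E.toH a 0 _ = E.toH a 0 z
    congr 1
    exact Subtype.ext hmz
  exact (len_congr (LinearEquiv.ofBijective Φ ⟨hinj, hsurj⟩)).symm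

/-- the formula for modules killed by a power of `a`. -/
theorem chi_of_torsion (htors : ∀ m : M, m ∈ gam a.toIdeal M) (n : ℤ) (B : ℕ) (hB1 : 1 ≤ B) :
    chi a E n B = len (deg0 𝒜) (comp 𝒜 ℳ n) := by
  obtain ⟨B', rfl⟩ : ∃ B', B = B' + 1 := ⟨B - 1, by omega⟩
  unfold chi
  rw [Finset.sum_range_succ', pow_zero, one_mul, len_Hcomp_zero_of_torsion a E htors n]
  have : ∀ i ∈ Finset.range B', (-1 : ℚ) ^ (i + 1) * len (deg0 𝒜) (E.Hcomp a (i + 1) n) = 0 := by
    intro i _
    have hv := van_of_torsion a ℳ htors i n E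
    haveI : Subsingleton (E.Hcomp a (i + 1) n) := by
      rw [hv]
      infer_instance
    rw [len_of_subsingleton, mul_zero]
  rw [Finset.sum_eq_zero this, zero_add]

end base

section main

variable (a : HomogeneousIdeal 𝒜)
  (ha : a.toIdeal = Ideal.span (⋃ n ∈ Set.Ioi (0 : ℤ), (𝒜 n : Set R)))
  [IsArtinianRing (deg0 𝒜)] (B : ℕ) (hB1 : 1 ≤ B)
  (hB : ∀ N : ModuleCat.{u} R, Subsingleton (HH a.toIdeal N B))

/-- the inductive claim. -/
def Claim (l₁ : List ↥(𝒜 1)) : Prop :=
  ∀ (M : Type u) [AddCommGroup M] [Module R M] [Module.Finite R M] (ℳ : ℤ → AddSubgroup M)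
    [DirectSum.Decomposition ℳ] [SetLike.GradedSMul 𝒜 ℳ] (E : StarInjRes 𝒜 ℳ),
    a.toIdeal ≤ Ideal.span {r : R | ∃ y ∈ l₁, (y : R) = r} ⊔ Module.annihilator R M →
    ∃ P : Polynomial ℚ, ∀ n : ℤ, len (deg0 𝒜) (comp 𝒜 ℳ n) - chi a E n B = P.eval (n : ℚ)

omit [IsNoetherianRing R] [IsArtinianRing (deg0 𝒜)] in
theorem le_of_cons {M N : Type u} [AddCommGroup M] [Module R M] [AddCommGroup N] [Module R N]
    (x : ↥(𝒜 1)) (l₁ : List ↥(𝒜 1)) (hxN : ∀ y : N, (x : R) • y = 0)
    (hMN : Module.annihilator R M ≤ Module.annihilator R N)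
    (hM : a.toIdeal ≤ Ideal.span {r : R | ∃ y ∈ x :: l₁, (y : R) = r} ⊔ Module.annihilator R M) :
    a.toIdeal ≤ Ideal.span {r : R | ∃ y ∈ l₁, (y : R) = r} ⊔ Module.annihilator R N := by
  refine hM.trans ?_
  have hset : {r : R | ∃ y ∈ x :: l₁, (y : R) = r} =
      insert (x : R) {r : R | ∃ y ∈ l₁, (y : R) = r} := by
    ext r
    simp only [List.mem_cons, Set.mem_insert_iff]
    constructor
    · rintro ⟨y, hy | hy, rfl⟩
      · left
        rw [hy]
      · right
        exact ⟨y, hy, rfl⟩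
    · rintro (h | ⟨y, hy, rfl⟩)
      · exact ⟨x, Or.inl rfl, h.symm⟩
      · exact ⟨y, Or.inr hy, rfl⟩
  rw [hset, Ideal.span_insert]
  apply sup_le
  · apply sup_le
    · rw [Ideal.span_le]
      intro r hr
      rw [Set.mem_singleton_iff] at hr
      subst hr
      apply Ideal.mem_sup_right
      rw [Module.mem_annihilator]
      exact hxN
    · exact le_sup_left
  · exact hMN.trans le_sup_right

include ha hB1 hB in
theorem claim (l₁ : List ↥(𝒜 1)) : Claim a B l₁ := by
  classical
  have hvan : ∀ (N : Type u) [AddCommGroup N] [Module R N] (𝒩 : ℤ → AddSubgroup N)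
      [DirectSum.Decomposition 𝒩] [SetLike.GradedSMul 𝒜 𝒩] (F : StarInjRes 𝒜 𝒩) (n : ℤ),
      F.Hcomp a B n = ⊥ := by
    intro N _ _ 𝒩 _ _ F n
    haveI : Subsingleton (F.H a B) := subsingleton_H_of_HH F a B (hB _)
    rw [Submodule.eq_bot_iff]
    intro z _
    exact Subsingleton.elim _ _
  induction l₁ with
  | nil =>
    intro M _ _ _ ℳ _ _ E hM
    refine ⟨0, fun n => ?_⟩
    have htors : ∀ m : M, m ∈ gam a.toIdeal M := by
      intro m
      refine ⟨1, fun r hr => ?_⟩
      rw [pow_one] at hr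
      have h1 := hM hr
      have hempty : {r : R | ∃ y ∈ ([] : List ↥(𝒜 1)), (y : R) = r} = ∅ := by
        ext r
        simp
      rw [hempty, Ideal.span_empty, bot_sup_eq, Module.mem_annihilator] at h1
      exact h1 m
    rw [chi_of_torsion a E htors n B hB1, sub_self, Polynomial.eval_zero]
  | cons x l₁ ih =>
    intro M _ _ _ ℳ _ _ E hM
    haveI : IsNoetherian R M := isNoetherian_of_isNoetherianRing_of_finite R M
    have hφdeg : IsGrHomDeg ℳ ℳ (LinearMap.lsmul R M (x : R)) 1 := by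
      intro n m hm
      have h := SetLike.GradedSMul.smul_mem (A := 𝒜) (B := ℳ) x.2 hm
      rw [vadd_eq_add, add_comm] at h
      exact h
    have hK : (LinearMap.ker (LinearMap.lsmul R M (x : R))).IsHomogeneous ℳ :=
      GrChop.ker_isHomogeneous_deg ℳ ℳ _ 1 hφdeg
    have hIm : (LinearMap.range (LinearMap.lsmul R M (x : R))).IsHomogeneous ℳ :=
      range_lsmul_isHomogeneous x.2
    letI : DirectSum.Decomposition (subGr ℳ (LinearMap.ker (LinearMap.lsmul R M (x : R)))) :=
      (isInternal_subGr ℳ _ hK).chooseDecomposition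
    letI : DirectSum.Decomposition (subGr ℳ (LinearMap.range (LinearMap.lsmul R M (x : R)))) :=
      (isInternal_subGr ℳ _ hIm).chooseDecomposition
    letI : DirectSum.Decomposition (quotGr ℳ (LinearMap.range (LinearMap.lsmul R M (x : R)))) :=
      (isInternal_quotGr ℳ _ hIm).chooseDecomposition
    obtain ⟨EK⟩ := Groth.Agent.S13215.result R 𝒜 _
      (subGr ℳ (LinearMap.ker (LinearMap.lsmul R M (x : R))))
    obtain ⟨EIm⟩ := Groth.Agent.S13215.result R 𝒜 _
      (subGr ℳ (LinearMap.range (LinearMap.lsmul R M (x : R))))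
    obtain ⟨EC⟩ := Groth.Agent.S13215.result R 𝒜 _
      (quotGr ℳ (LinearMap.range (LinearMap.lsmul R M (x : R))))
    -- induction hypotheses
    obtain ⟨PK, hPK⟩ := ih _ _ EK (le_of_cons a x l₁ (by
      intro y
      apply Subtype.ext
      exact y.2) (by
      intro r hr
      rw [Module.mem_annihilator] at hr ⊢
      intro y
      apply Subtype.ext
      exact hr y.1) hM)
    obtain ⟨PC, hPC⟩ := ih _ _ EC (le_of_cons a x l₁ (by
      intro y
      obtain ⟨m, rfl⟩ := Submodule.mkQ_surjective _ y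
      rw [← map_smul, Submodule.mkQ_apply, Submodule.Quotient.mk_eq_zero]
      exact ⟨m, rfl⟩) (by
      intro r hr
      rw [Module.mem_annihilator] at hr ⊢
      intro y
      obtain ⟨m, rfl⟩ := Submodule.mkQ_surjective _ y
      rw [← map_smul, hr m, map_zero]) hM)
    -- the two short exact sequences
    have hf1 : IsGrHomDeg (subGr ℳ (LinearMap.ker (LinearMap.lsmul R M (x : R)))) ℳ
        (LinearMap.ker (LinearMap.lsmul R M (x : R))).subtype 0 := by
      intro n m hm
      rw [add_zero]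
      exact hm
    have hg1 : IsGrHomDeg ℳ (subGr ℳ (LinearMap.range (LinearMap.lsmul R M (x : R))))
        (LinearMap.lsmul R M (x : R)).rangeRestrict 1 := by
      intro n m hm
      exact hφdeg n m hm
    have hex1 : Function.Exact (LinearMap.ker (LinearMap.lsmul R M (x : R))).subtype
        (LinearMap.lsmul R M (x : R)).rangeRestrict := by
      rw [LinearMap.exact_iff, Submodule.range_subtype, LinearMap.ker_rangeRestrict]
    have hf2 : IsGrHomDeg (subGr ℳ (LinearMap.range (LinearMap.lsmul R M (x : R)))) ℳ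
        (LinearMap.range (LinearMap.lsmul R M (x : R))).subtype 0 := by
      intro n m hm
      rw [add_zero]
      exact hm
    have hg2 : IsGrHomDeg ℳ (quotGr ℳ (LinearMap.range (LinearMap.lsmul R M (x : R))))
        (LinearMap.range (LinearMap.lsmul R M (x : R))).mkQ 0 := by
      intro n m hm
      rw [add_zero]
      exact mkQ_mem_quotGr ℳ _ hm
    have hex2 : Function.Exact (LinearMap.range (LinearMap.lsmul R M (x : R))).subtype
        (LinearMap.range (LinearMap.lsmul R M (x : R))).mkQ := by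
      rw [LinearMap.exact_iff, Submodule.range_subtype, Submodule.ker_mkQ]
    have s1χ : ∀ n : ℤ, chi a E n B = chi a EK n B + chi a EIm (n + 1) B := fun n =>
      chi_add _ _ 0 1 hf1 hg1 (Submodule.injective_subtype _)
        (LinearMap.surjective_rangeRestrict _) hex1 EK E EIm a n n (n + 1) (add_zero n) rfl B
        (fun i => length_Hcomp_ne_top a ha EK i n) (fun i => length_Hcomp_ne_top a ha E i n)
        (fun i => length_Hcomp_ne_top a ha EIm i (n + 1)) (hvan _ _ EK n)
    have s1h : ∀ n : ℤ, len (deg0 𝒜) (comp 𝒜 ℳ n) =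
        len (deg0 𝒜) (comp 𝒜 (subGr ℳ (LinearMap.ker (LinearMap.lsmul R M (x : R)))) n) +
        len (deg0 𝒜) (comp 𝒜 (subGr ℳ (LinearMap.range (LinearMap.lsmul R M (x : R))))
          (n + 1)) := fun n =>
      hilb_add _ _ 0 1 hf1 hg1 (Submodule.injective_subtype _)
        (LinearMap.surjective_rangeRestrict _) hex1 n n (n + 1) (add_zero n) rfl
        (length_comp_ne_top ℳ n)
    have s2χ : ∀ n : ℤ, chi a E n B = chi a EIm n B + chi a EC n B := fun n =>
      chi_add _ _ 0 0 hf2 hg2 (Submodule.injective_subtype _)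
        (Submodule.mkQ_surjective _) hex2 EIm E EC a n n n (add_zero n) (add_zero n) B
        (fun i => length_Hcomp_ne_top a ha EIm i n) (fun i => length_Hcomp_ne_top a ha E i n)
        (fun i => length_Hcomp_ne_top a ha EC i n) (hvan _ _ EIm n)
    have s2h : ∀ n : ℤ, len (deg0 𝒜) (comp 𝒜 ℳ n) =
        len (deg0 𝒜) (comp 𝒜 (subGr ℳ (LinearMap.range (LinearMap.lsmul R M (x : R)))) n) +
        len (deg0 𝒜) (comp 𝒜 (quotGr ℳ (LinearMap.range (LinearMap.lsmul R M (x : R))))
          n) := fun n =>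
      hilb_add _ _ 0 0 hf2 hg2 (Submodule.injective_subtype _)
        (Submodule.mkQ_surjective _) hex2 n n n (add_zero n) (add_zero n)
        (length_comp_ne_top ℳ n)
    apply exists_poly_of_diff (fun n => len (deg0 𝒜) (comp 𝒜 ℳ n) - chi a E n B)
      (PC - PK.comp (Polynomial.X - 1))
    intro n
    have e1 := s1χ (n - 1)
    have e2 := s1h (n - 1)
    have e3 := s2χ n
    have e4 := s2h n
    have e5 := hPK (n - 1)
    have e6 := hPC n
    rw [sub_add_cancel] at e1 e2
    simp only [Polynomial.eval_sub, Polynomial.eval_comp, Polynomial.eval_X, Polynomial.eval_one]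
    push_cast at e5
    linarith

end main

end Groth.Agent.Lib.Helper20.GrSerre
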