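import Mathlib
import Groth.Prelude.Def_GrLC
import Groth.Agent.Lib.Helper20.GrSerre
import Groth.Agent.Lib.Helper20.GrChop2
import Groth.Agent.Lib.Helper20.GrIrrelRad

/-!
# The Serre–Grothendieck formula (helper20)
-/

set_option autoImplicit false
set_option linter.unusedSectionVars false
set_option linter.unusedVariables false
set_option linter.style.haveILetI false

universe u

open CategoryTheory DirectSum GrLC Groth.Agent.Lib.Helper4.LC Groth.Agent.Lib.Helper20.GrLCBasic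
  Groth.Agent.Lib.Helper20.GrLCQuot Groth.Agent.Lib.Helper20.GrRes
  Groth.Agent.Lib.Helper20.GrLES Groth.Agent.Lib.Helper20.GrLES2
  Groth.Agent.Lib.Helper20.GrFin1
  Groth.Agent.Lib.Helper20.GrFin2 Groth.Agent.Lib.Helper20.LenEuler
  Groth.Agent.Lib.Helper20.GrEulerLES Groth.Agent.Lib.Helper20.GrVan
  Groth.Agent.Lib.Helper20.GrSerre Groth.Agent.Lib.Helper20.GrVeronese

namespace Groth.Agent.Lib.Helper20.GrSerre2

variable {R : Type u} [CommRing R] [IsNoetherianRing R] {𝒜 : ℤ → AddSubgroup R} [GradedRing 𝒜]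
  {M : Type u} [AddCommGroup M] [Module R M] {ℳ : ℤ → AddSubgroup M}
  [DirectSum.Decomposition ℳ] [SetLike.GradedSMul 𝒜 ℳ]

section samegam

variable (E : StarInjRes 𝒜 ℳ) (a b : HomogeneousIdeal 𝒜)
  (hgam : ∀ (X : Type u) [AddCommGroup X] [Module R X],
    GrLC.gam a.toIdeal X = GrLC.gam b.toIdeal X)

include hgam in
omit [IsNoetherianRing R] in
theorem len_Hcomp_sameGam (i : ℕ) (n : ℤ) :
    len (deg0 𝒜) (E.Hcomp a i n) = len (deg0 𝒜) (E.Hcomp b i n) := by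
  have hg : ∀ k, GrLC.gam a.toIdeal (E.X k).carrier = GrLC.gam b.toIdeal (E.X k).carrier :=
    fun k => hgam _
  let e : E.H a i ≃ₗ[deg0 𝒜] E.H b i := (sameGamEquiv E a b hg i).restrictScalars (deg0 𝒜)
  have hmap : (E.Hcomp a i n).map e.toLinearMap = E.Hcomp b i n := by
    ext y
    constructor
    · rintro ⟨_, ⟨z, hz, rfl⟩, rfl⟩
      exact ⟨⟨z.1, by rw [← cocyc_eq E a b hg i]; exact z.2⟩, hz, rfl⟩
    · rintro ⟨z, hz, rfl⟩
      exact ⟨E.toH a i ⟨z.1, by rw [cocyc_eq E a b hg i]; exact z.2⟩,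
        ⟨⟨z.1, by rw [cocyc_eq E a b hg i]; exact z.2⟩, hz, rfl⟩, rfl⟩
  exact len_congr (LinearEquiv.ofSubmodules e _ _ hmap)

end samegam

section serre

variable (a : HomogeneousIdeal 𝒜)
  (ha : a.toIdeal = Ideal.span (⋃ n ∈ Set.Ioi (0 : ℤ), (𝒜 n : Set R)))
  (hhom : a.toIdeal = Ideal.span ((𝒜 1 : AddSubgroup R) : Set R))
  [IsArtinianRing (deg0 𝒜)] (B : ℕ) (hB1 : 1 ≤ B)
  (hB : ∀ N : ModuleCat.{u} R, Subsingleton (HH a.toIdeal N B))

include ha in
/-- the Euler characteristic vanishes in large degrees. -/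
theorem chi_eventually_zero [Module.Finite R M] (E : StarInjRes 𝒜 ℳ) :
    ∃ N : ℤ, ∀ n : ℤ, N ≤ n → chi a E n B = 0 := by
  classical
  have h : ∀ i : ℕ, ∃ r : ℤ, ∀ n : ℤ, r ≤ n → E.Hcomp a i n = ⊥ := fun i =>
    (good a ha i M ℳ E).2
  choose r hr using h
  refine ⟨(((Finset.range B).sup (fun i => (r i).toNat) : ℕ) : ℤ), fun n hn => ?_⟩
  unfold chi
  apply Finset.sum_eq_zero
  intro i hi
  have hle : r i ≤ n := by
    have h1 : (r i).toNat ≤ (Finset.range B).sup (fun i => (r i).toNat) :=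
      Finset.le_sup (f := fun i => (r i).toNat) hi
    have h2 : r i ≤ ((r i).toNat : ℤ) := Int.self_le_toNat _
    have h3 : ((r i).toNat : ℤ) ≤ (((Finset.range B).sup (fun i => (r i).toNat) : ℕ) : ℤ) := by
      exact_mod_cast h1
    linarith
  haveI : Subsingleton (E.Hcomp a i n) := by
    rw [hr i n hle]
    infer_instance
  rw [len_of_subsingleton, mul_zero]

include ha hhom hB1 hB in
/-- **Serre's formula** for the irrelevant ideal of a standard graded ring with Artinian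
degree-zero part. -/
theorem serre_irrel [Module.Finite R M] (E : StarInjRes 𝒜 ℳ) (P : Polynomial ℚ)
    (hP : ∃ N : ℤ, ∀ n : ℤ, N ≤ n → P.eval (n : ℚ) = len (deg0 𝒜) (comp 𝒜 ℳ n)) (n : ℤ) :
    len (deg0 𝒜) (comp 𝒜 ℳ n) - P.eval (n : ℚ) = chi a E n B := by
  classical
  obtain ⟨l, hl⟩ := GrChop2.exists_list a hhom
  obtain ⟨P₀, hP₀⟩ := claim a ha B hB1 hB l M ℳ E (by
    rw [← hl]
    exact le_sup_left)
  obtain ⟨N₁, hN₁⟩ := hP
  obtain ⟨N₂, hN₂⟩ := chi_eventually_zero a ha B E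
  have heq : P₀ = P := by
    apply Polynomial.eq_of_infinite_eval_eq
    apply Set.infinite_of_injective_forall_mem (f := fun k : ℕ => (((N₁ ⊔ N₂) + (k : ℤ) : ℤ) : ℚ))
    · intro k k' hkk'
      have h1 : ((N₁ ⊔ N₂) + (k : ℤ) : ℤ) = (N₁ ⊔ N₂) + (k' : ℤ) := by
        have h0 : (((N₁ ⊔ N₂) + (k : ℤ) : ℤ) : ℚ) = (((N₁ ⊔ N₂) + (k' : ℤ) : ℤ) : ℚ) := hkk'
        exact_mod_cast h0
      have h2 : (k : ℤ) = k' := by linarith
      exact_mod_cast h2
    · intro k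
      have hs1 : N₁ ≤ N₁ ⊔ N₂ := le_sup_left
      have hs2 : N₂ ≤ N₁ ⊔ N₂ := le_sup_right
      have hk1 : N₁ ≤ (N₁ ⊔ N₂) + (k : ℤ) := by omega
      have hk2 : N₂ ≤ (N₁ ⊔ N₂) + (k : ℤ) := by omega
      show P₀.eval _ = P.eval _
      rw [← hP₀, hN₁ _ hk1, hN₂ _ hk2, sub_zero]
  have := hP₀ n
  rw [heq] at this
  linarith

end serre

end Groth.Agent.Lib.Helper20.GrSerre2
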