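import Mathlib
import Groth.Prelude.Def_GrLC
import Groth.Agent.Lib.Helper20.GrSerre2
import Groth.Agent.Lib.Helper20.GrArtin
import Groth.Agent.Lib.Helper20.GrAinv
import Groth.Agent.S13215
import Groth.Agent.S13225

/-!
# The degree of the Hilbert polynomial is smaller than the dimension (helper20)

For a finitely generated graded module `M` over a standard graded Noetherian ring with Artinian
degree-zero part, the Hilbert polynomial of `M` has degree `< dim M`.
-/

set_option autoImplicit false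
set_option linter.unusedSectionVars false
set_option linter.unusedVariables false
set_option linter.style.haveILetI false

universe u

open CategoryTheory DirectSum GrLC Groth.Agent.Lib.Helper4.LC Groth.Agent.Lib.Helper20.GrLCBasic
  Groth.Agent.Lib.Helper20.GrLCQuot Groth.Agent.Lib.Helper20.GrRes
  Groth.Agent.Lib.Helper20.GrLES Groth.Agent.Lib.Helper20.GrLES2
  Groth.Agent.Lib.Helper20.GrFin1
  Groth.Agent.Lib.Helper20.GrFin2 Groth.Agent.Lib.Helper20.LenEuler
  Groth.Agent.Lib.Helper20.GrEulerLES Groth.Agent.Lib.Helper20.GrVan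
  Groth.Agent.Lib.Helper20.GrSerre Groth.Agent.Lib.Helper20.GrSerre2

namespace Groth.Agent.Lib.Helper20.GrHilbDeg

open Pointwise

section poly

open Polynomial

theorem eval_add_mul_of_comp (q : ℚ) (P : ℚ[X]) (h : P = P.comp (X - C q)) (n : ℕ) :
    P.eval ((n : ℚ) * q) = P.eval 0 := by
  induction n with
  | zero => simp
  | succ n ih =>
    conv_lhs => rw [h, eval_comp, eval_sub, eval_X, eval_C]
    push_cast
    rw [show ((n : ℚ) + 1) * q - q = (n : ℚ) * q by ring]
    exact ih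

/-- if the `q`-difference of `P` has degree `< d` then `P` has degree `< d + 1`. -/
theorem degree_lt_of_diff (q : ℚ) (hq : q ≠ 0) : ∀ (d : ℕ) (P : ℚ[X]),
    (P - P.comp (X - C q)).degree < (d : WithBot ℕ) → P.degree < ((d + 1 : ℕ) : WithBot ℕ) := by
  intro d
  induction d with
  | zero =>
    intro P h
    have h0 : P - P.comp (X - C q) = 0 := by
      rw [← degree_eq_bot]
      have : (P - P.comp (X - C q)).degree < (0 : WithBot ℕ) := by exact_mod_cast h
      exact (Nat.WithBot.lt_zero_iff).1 this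
    have hP : P = P.comp (X - C q) := sub_eq_zero.1 h0
    have hconst : P = C (P.eval 0) := by
      apply Polynomial.eq_of_infinite_eval_eq
      apply Set.infinite_of_injective_forall_mem (f := fun n : ℕ => (n : ℚ) * q)
      · intro n n' hnn'
        have : (n : ℚ) = n' := mul_right_cancel₀ hq hnn'
        exact_mod_cast this
      · intro n
        show P.eval _ = (C (P.eval 0)).eval _
        rw [eval_C]
        exact eval_add_mul_of_comp q P hP n
    rw [hconst]
    calc (C (P.eval 0)).degree ≤ 0 := degree_C_le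
      _ < ((0 + 1 : ℕ) : WithBot ℕ) := by norm_num
  | succ d ih =>
    intro P h
    have hder : derivative (P - P.comp (X - C q)) =
        derivative P - (derivative P).comp (X - C q) := by
      rw [derivative_sub, derivative_comp, derivative_sub, derivative_X, derivative_C, sub_zero,
        one_mul]
    have h1 : (derivative P - (derivative P).comp (X - C q)).degree < (d : WithBot ℕ) := by
      rw [← hder]
      by_cases h0 : P - P.comp (X - C q) = 0
      · rw [h0, derivative_zero, degree_zero]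
        exact WithBot.bot_lt_coe _
      · have h2 := degree_derivative_lt h0
        rw [degree_eq_natDegree h0] at h h2
        have h3 : (P - P.comp (X - C q)).natDegree < d + 1 := by exact_mod_cast h
        have h4 : ((P - P.comp (X - C q)).natDegree : WithBot ℕ) ≤ (d : WithBot ℕ) := by
          exact_mod_cast Nat.lt_succ_iff.1 h3
        exact lt_of_lt_of_le h2 h4
    have h4 := ih (derivative P) h1
    by_cases hn : P.natDegree = 0
    · have : P.degree ≤ 0 := by
        calc P.degree ≤ (P.natDegree : WithBot ℕ) := degree_le_natDegree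
          _ = 0 := by rw [hn]; rfl
      exact lt_of_le_of_lt this (by exact_mod_cast Nat.succ_pos _)
    · have h5 := Polynomial.degree_derivative (p := P) hn
      rw [h5] at h4
      have h6 : P.natDegree - 1 < d + 1 := by exact_mod_cast h4
      have h7 : P.natDegree < d + 1 + 1 := by omega
      calc P.degree ≤ (P.natDegree : WithBot ℕ) := degree_le_natDegree
        _ < ((d + 1 + 1 : ℕ) : WithBot ℕ) := by exact_mod_cast h7

end poly

variable {R : Type u} [CommRing R] [IsNoetherianRing R] {𝒜 : ℤ → AddSubgroup R} [GradedRing 𝒜]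

section hp

variable (𝒜)
variable {M : Type u} [AddCommGroup M] [Module R M] (ℳ : ℤ → AddSubgroup M)
  [DirectSum.Decomposition ℳ] [SetLike.GradedSMul 𝒜 ℳ]

/-- `P` is the Hilbert polynomial of the graded module `M`. -/
def IsHP (P : Polynomial ℚ) : Prop :=
  ∃ N : ℤ, ∀ n : ℤ, N ≤ n → P.eval (n : ℚ) = len (deg0 𝒜) (comp 𝒜 ℳ n)

variable {𝒜 ℳ}

omit [IsNoetherianRing R] in
theorem eq_of_eventually_eq (P Q : Polynomial ℚ) (N : ℤ)
    (h : ∀ n : ℤ, N ≤ n → P.eval (n : ℚ) = Q.eval (n : ℚ)) : P = Q := by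
  apply Polynomial.eq_of_infinite_eval_eq
  apply Set.infinite_of_injective_forall_mem (f := fun k : ℕ => ((N + (k : ℤ) : ℤ) : ℚ))
  · intro k k' hkk'
    have h1 : (N + (k : ℤ) : ℤ) = N + (k' : ℤ) := by
      have h0 : ((N + (k : ℤ) : ℤ) : ℚ) = ((N + (k' : ℤ) : ℤ) : ℚ) := hkk'
      exact_mod_cast h0
    have h2 : (k : ℤ) = k' := by linarith
    exact_mod_cast h2
  · intro k
    exact h _ (by omega)

omit [IsNoetherianRing R] in
theorem IsHP.unique {P Q : Polynomial ℚ} (hP : IsHP 𝒜 ℳ P) (hQ : IsHP 𝒜 ℳ Q) : P = Q := by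
  obtain ⟨N₁, h₁⟩ := hP
  obtain ⟨N₂, h₂⟩ := hQ
  apply eq_of_eventually_eq P Q (N₁ ⊔ N₂)
  intro n hn
  rw [h₁ n (le_trans le_sup_left hn), h₂ n (le_trans le_sup_right hn)]

omit [IsNoetherianRing R] in
theorem isHP_zero_of_eventually_bot (n₀ : ℤ) (h : ∀ n : ℤ, n₀ ≤ n → ℳ n = ⊥) :
    IsHP 𝒜 ℳ 0 := by
  refine ⟨n₀, fun n hn => ?_⟩
  haveI : Subsingleton (comp 𝒜 ℳ n) := by
    constructor
    intro x y
    apply Subtype.ext
    have hx : (x : M) ∈ ℳ n := x.2
    have hy : (y : M) ∈ ℳ n := y.2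
    rw [h n hn, AddSubgroup.mem_bot] at hx hy
    rw [hx, hy]
  rw [len_of_subsingleton, Polynomial.eval_zero]

end hp

section main

variable (a : HomogeneousIdeal 𝒜)
  (ha : a.toIdeal = Ideal.span (⋃ n ∈ Set.Ioi (0 : ℤ), (𝒜 n : Set R)))
  (hhom : a.toIdeal = Ideal.span ((𝒜 1 : AddSubgroup R) : Set R))
  [IsArtinianRing (deg0 𝒜)] (hpos : ∀ n : ℤ, n < 0 → 𝒜 n = ⊥)

include ha hhom in
/-- existence of the Hilbert polynomial. -/
theorem exists_isHP {M : Type u} [AddCommGroup M] [Module R M] [Module.Finite R M]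
    (ℳ : ℤ → AddSubgroup M) [DirectSum.Decomposition ℳ] [SetLike.GradedSMul 𝒜 ℳ] :
    ∃ P : Polynomial ℚ, IsHP 𝒜 ℳ P := by
  classical
  obtain ⟨E⟩ := Groth.Agent.S13215.result R 𝒜 M ℳ
  obtain ⟨l, hl⟩ := GrChop2.exists_list a hhom
  have hB : ∀ N : ModuleCat.{u} R, Subsingleton (HH a.toIdeal N (l.length + 1)) := fun N =>
    GrChop.subsingleton_HH_of_length_lt a l hl (l.length + 1) (Nat.lt_succ_self _) N
  obtain ⟨P₀, hP₀⟩ := claim a ha (l.length + 1) (by omega) hB l M ℳ E (by
    rw [← hl]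
    exact le_sup_left)
  obtain ⟨N₂, hN₂⟩ := chi_eventually_zero a ha (l.length + 1) E
  refine ⟨P₀, N₂, fun n hn => ?_⟩
  rw [← hP₀ n, hN₂ n hn, sub_zero]

include hpos in
omit [IsArtinianRing (deg0 𝒜)] in
/-- a module of dimension `≤ 0` vanishes in large degrees. -/
theorem eventually_bot_of_supportDim_le_zero {M : Type u} [AddCommGroup M] [Module R M]
    [Module.Finite R M] (ℳ : ℤ → AddSubgroup M) [DirectSum.Decomposition ℳ]
    [SetLike.GradedSMul 𝒜 ℳ] (hdim : Module.supportDim R M ≤ 0) :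
    ∃ n₀ : ℤ, ∀ n : ℤ, n₀ ≤ n → ℳ n = ⊥ := by
  rw [Module.supportDim_eq_ringKrullDim_quotient_annihilator] at hdim
  haveI : Ring.KrullDimLE 0 (R ⧸ Module.annihilator R M) := by
    rw [Ring.krullDimLE_iff]
    exact hdim
  haveI : IsArtinianRing (R ⧸ Module.annihilator R M) :=
    IsNoetherianRing.isArtinianRing_of_krullDimLE_zero
  letI : Module (R ⧸ Module.annihilator R M) M := Module.quotientAnnihilator
  haveI : IsScalarTower R (R ⧸ Module.annihilator R M) M :=
    (Module.isTorsionBySet_annihilator R M).isScalarTower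
  haveI : Module.Finite (R ⧸ Module.annihilator R M) M :=
    Module.Finite.of_restrictScalars_finite R _ M
  haveI : IsArtinian (R ⧸ Module.annihilator R M) M := inferInstance
  haveI : IsArtinian R M :=
    isArtinian_of_surjective_algebraMap (R := R ⧸ Module.annihilator R M)
      (Ideal.Quotient.mk_surjective)
  exact GrArtin.eventually_bot_of_isArtinian 𝒜 ℳ hpos

end main

section steps

variable (a : HomogeneousIdeal 𝒜)
  (ha : a.toIdeal = Ideal.span (⋃ n ∈ Set.Ioi (0 : ℤ), (𝒜 n : Set R)))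
  (hhom : a.toIdeal = Ideal.span ((𝒜 1 : AddSubgroup R) : Set R))
  [IsArtinianRing (deg0 𝒜)] (hpos : ∀ n : ℤ, n < 0 → 𝒜 n = ⊥)
  {M : Type u} [AddCommGroup M] [Module R M] [Module.Finite R M]
  (ℳ : ℤ → AddSubgroup M) [DirectSum.Decomposition ℳ] [SetLike.GradedSMul 𝒜 ℳ]

include ha in
/-- passing to the quotient by the torsion does not change the Hilbert polynomial. -/
theorem isHP_quot_gam [DirectSum.Decomposition (quotGr ℳ (gam a.toIdeal M))]
    (P : Polynomial ℚ) (hP : IsHP 𝒜 ℳ P) : IsHP 𝒜 (quotGr ℳ (gam a.toIdeal M)) P := by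
  classical
  haveI : IsNoetherian R M := isNoetherian_of_isNoetherianRing_of_finite R M
  have hΓ : (gam a.toIdeal M).IsHomogeneous ℳ := Groth.Agent.S13225.gam_isHomogeneous 𝒜 ℳ a
  letI : DirectSum.Decomposition (subGr ℳ (gam a.toIdeal M)) :=
    (isInternal_subGr ℳ (gam a.toIdeal M) hΓ).chooseDecomposition
  obtain ⟨k, hk⟩ := exists_pow_annihilates a.toIdeal ↥(gam a.toIdeal M) (by
    intro y
    obtain ⟨k, hk⟩ := y.2
    exact ⟨k, fun r hr => Subtype.ext (hk r hr)⟩)
  obtain ⟨n₀, hn₀⟩ := eventually_bot_of_pow_smul 𝒜 (subGr ℳ (gam a.toIdeal M)) a.toIdeal ha k hk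
  obtain ⟨N, hN⟩ := hP
  refine ⟨N ⊔ n₀, fun n hn => ?_⟩
  have hf : IsGrHomDeg (subGr ℳ (gam a.toIdeal M)) ℳ (gam a.toIdeal M).subtype 0 := by
    intro g m hm
    rw [add_zero]
    exact hm
  have hg : IsGrHomDeg ℳ (quotGr ℳ (gam a.toIdeal M)) (gam a.toIdeal M).mkQ 0 := by
    intro g m hm
    rw [add_zero]
    exact mkQ_mem_quotGr ℳ _ hm
  have hadd := hilb_add (gam a.toIdeal M).subtype (gam a.toIdeal M).mkQ 0 0 hf hg
    (Submodule.injective_subtype _) (Submodule.mkQ_surjective _)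
    (LinearMap.exact_subtype_mkQ _) n n n (add_zero n) (add_zero n) (length_comp_ne_top (𝒜 := 𝒜) ℳ n)
  haveI : Subsingleton (comp 𝒜 (subGr ℳ (gam a.toIdeal M)) n) := by
    constructor
    intro x y
    apply Subtype.ext
    have hx : (x : ↥(gam a.toIdeal M)) ∈ subGr ℳ (gam a.toIdeal M) n := x.2
    have hy : (y : ↥(gam a.toIdeal M)) ∈ subGr ℳ (gam a.toIdeal M) n := y.2
    rw [hn₀ n (le_trans le_sup_right hn), AddSubgroup.mem_bot] at hx hy
    rw [hx, hy]
  rw [len_of_subsingleton (comp 𝒜 (subGr ℳ (gam a.toIdeal M)) n), zero_add] at hadd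
  rw [hN n (le_trans le_sup_left hn), hadd]

/-- the difference equation for a homogeneous regular element. -/
theorem isHP_diff (x : R) (t : ℤ) (hx : x ∈ 𝒜 t) (hreg : IsSMulRegular M x)
    [DirectSum.Decomposition (quotGr ℳ (x • (⊤ : Submodule R M)))]
    (P P'' : Polynomial ℚ) (hP : IsHP 𝒜 ℳ P)
    (hP'' : IsHP 𝒜 (quotGr ℳ (x • (⊤ : Submodule R M))) P'') :
    P - P.comp (Polynomial.X - Polynomial.C (t : ℚ)) = P'' := by
  classical
  obtain ⟨N₁, h₁⟩ := hP
  obtain ⟨N₂, h₂⟩ := hP''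
  apply eq_of_eventually_eq _ _ ((N₁ + t) ⊔ N₁ ⊔ N₂)
  intro n hn
  have hn1 : N₁ + t ≤ n := le_trans (le_trans le_sup_left le_sup_left) hn
  have hn2 : N₁ ≤ n := le_trans (le_trans le_sup_right le_sup_left) hn
  have hn3 : N₂ ≤ n := le_trans le_sup_right hn
  have hf : IsGrHomDeg ℳ ℳ (LinearMap.lsmul R M x) t := by
    intro g m hm
    have h := SetLike.GradedSMul.smul_mem (A := 𝒜) (B := ℳ) hx hm
    rw [vadd_eq_add, add_comm] at h
    exact h
  have hg : IsGrHomDeg ℳ (quotGr ℳ (x • (⊤ : Submodule R M)))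
      (x • (⊤ : Submodule R M)).mkQ 0 := by
    intro g m hm
    rw [add_zero]
    exact mkQ_mem_quotGr ℳ _ hm
  have hex : Function.Exact (LinearMap.lsmul R M x) (x • (⊤ : Submodule R M)).mkQ := by
    rw [LinearMap.exact_iff, Submodule.ker_mkQ, GrAinv.smul_top_eq_range]
  have hadd := hilb_add (LinearMap.lsmul R M x) (x • (⊤ : Submodule R M)).mkQ t 0 hf hg
    hreg (Submodule.mkQ_surjective _) hex (n - t) n n (by ring) (add_zero n)
    (length_comp_ne_top (𝒜 := 𝒜) ℳ n)
  rw [Polynomial.eval_sub, Polynomial.eval_comp, Polynomial.eval_sub, Polynomial.eval_X,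
    Polynomial.eval_C, h₂ n hn3, h₁ n hn2]
  have h3 := h₁ (n - t) (by omega)
  push_cast at h3
  rw [h3, hadd]
  ring

end steps

section induction

variable (a : HomogeneousIdeal 𝒜)
  (ha : a.toIdeal = Ideal.span (⋃ n ∈ Set.Ioi (0 : ℤ), (𝒜 n : Set R)))
  (hhom : a.toIdeal = Ideal.span ((𝒜 1 : AddSubgroup R) : Set R))
  [IsArtinianRing (deg0 𝒜)] (hpos : ∀ n : ℤ, n < 0 → 𝒜 n = ⊥)

theorem le_of_add_one_le (s : WithBot ℕ∞) (d : ℕ)
    (h : s + 1 ≤ ((d + 1 : ℕ) : WithBot ℕ∞)) : s ≤ ((d : ℕ) : WithBot ℕ∞) := by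
  induction s using WithBot.recBotCoe with
  | bot => exact bot_le
  | coe e =>
    induction e using ENat.recTopCoe with
    | top =>
      exfalso
      have h' : ((⊤ : ℕ∞) : WithBot ℕ∞) ≤ (((d + 1 : ℕ) : ℕ∞) : WithBot ℕ∞) := by
        have : ((⊤ : ℕ∞) : WithBot ℕ∞) + 1 = ((⊤ : ℕ∞) : WithBot ℕ∞) := by
          rw [← WithBot.coe_one, ← WithBot.coe_add, top_add]
        rw [this] at h
        exact h
      rw [WithBot.coe_le_coe, top_le_iff] at h'
      exact ENat.coe_ne_top _ h'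
    | coe n =>
      have h' : (((n + 1 : ℕ) : ℕ∞) : WithBot ℕ∞) ≤ (((d + 1 : ℕ) : ℕ∞) : WithBot ℕ∞) := by
        push_cast
        exact h
      rw [WithBot.coe_le_coe, Nat.cast_le] at h'
      have : n ≤ d := by omega
      have h2 : ((n : ℕ∞) : WithBot ℕ∞) ≤ ((d : ℕ∞) : WithBot ℕ∞) := by
        rw [WithBot.coe_le_coe, Nat.cast_le]
        exact this
      exact h2

include ha hhom hpos in
/-- **the degree of the Hilbert polynomial is smaller than the dimension.** -/
theorem degree_lt : ∀ (d : ℕ) (M : Type u) [AddCommGroup M] [Module R M] [Module.Finite R M]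
    (ℳ : ℤ → AddSubgroup M) [DirectSum.Decomposition ℳ] [SetLike.GradedSMul 𝒜 ℳ]
    (P : Polynomial ℚ), Module.supportDim R M ≤ ((d : ℕ) : WithBot ℕ∞) → IsHP 𝒜 ℳ P →
    P.degree < ((d : ℕ) : WithBot ℕ) := by
  intro d
  induction d with
  | zero =>
    intro M _ _ _ ℳ _ _ P hdim hP
    obtain ⟨n₀, hn₀⟩ := eventually_bot_of_supportDim_le_zero hpos ℳ (by simpa using hdim)
    have h0 := isHP_zero_of_eventually_bot (𝒜 := 𝒜) (ℳ := ℳ) n₀ hn₀
    rw [hP.unique h0, Polynomial.degree_zero]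
    exact WithBot.bot_lt_coe _
  | succ d ih =>
    intro M _ _ _ ℳ _ _ P hdim hP
    classical
    have hΓ : (gam a.toIdeal M).IsHomogeneous ℳ := Groth.Agent.S13225.gam_isHomogeneous 𝒜 ℳ a
    letI : DirectSum.Decomposition (quotGr ℳ (gam a.toIdeal M)) :=
      (isInternal_quotGr ℳ (gam a.toIdeal M) hΓ).chooseDecomposition
    have hPq := isHP_quot_gam a ha ℳ P hP
    have hdimq : Module.supportDim R (M ⧸ gam a.toIdeal M) ≤ ((d + 1 : ℕ) : WithBot ℕ∞) :=
      (Module.supportDim_le_of_surjective (gam a.toIdeal M).mkQ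
        (Submodule.mkQ_surjective _)).trans hdim
    have htf : ∀ m : M ⧸ gam a.toIdeal M, (∀ r ∈ a.toIdeal, r • m = 0) → m = 0 := by
      intro m hm
      have h1 : m ∈ DRing.torsionSub a.toIdeal (M ⧸ DRing.torsionSub a.toIdeal M) :=
        ⟨1, fun r hr => hm r (by rwa [pow_one] at hr)⟩
      rw [Groth.Agent.Lib.Helper20.LCFinite.torsionSub_quotient_eq_bot] at h1
      exact (Submodule.mem_bot R).1 h1
    obtain ⟨t, ht, x, hx, hreg⟩ := exists_homogeneous_regular 𝒜 a.toIdeal ha htf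
    have hPr : (x • (⊤ : Submodule R (M ⧸ gam a.toIdeal M))) =
        LinearMap.range (LinearMap.lsmul R (M ⧸ gam a.toIdeal M) x) :=
      GrAinv.smul_top_eq_range x
    have hPh : (x • (⊤ : Submodule R (M ⧸ gam a.toIdeal M))).IsHomogeneous
        (quotGr ℳ (gam a.toIdeal M)) := by
      rw [hPr]
      exact range_lsmul_isHomogeneous hx
    letI : DirectSum.Decomposition (quotGr (quotGr ℳ (gam a.toIdeal M))
        (x • (⊤ : Submodule R (M ⧸ gam a.toIdeal M)))) :=
      (isInternal_quotGr _ _ hPh).chooseDecomposition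
    obtain ⟨P'', hP''⟩ := exists_isHP a ha hhom (quotGr (quotGr ℳ (gam a.toIdeal M))
        (x • (⊤ : Submodule R (M ⧸ gam a.toIdeal M))))
    have hdim'' : Module.supportDim R
        ((M ⧸ gam a.toIdeal M) ⧸ (x • (⊤ : Submodule R (M ⧸ gam a.toIdeal M)))) ≤
        ((d : ℕ) : WithBot ℕ∞) := by
      apply le_of_add_one_le
      refine le_trans
        (Module.supportDim_quotSMulTop_succ_le_of_notMem_minimalPrimes (x := x) ?_) hdimq
      intro p hp hxp
      have hass := Module.associatedPrimes.minimalPrimes_annihilator_subset_associatedPrimes R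
        (M ⧸ gam a.toIdeal M) hp
      have hx' : x ∈ ({r : R | IsSMulRegular (M ⧸ gam a.toIdeal M) r})ᶜ := by
        rw [← biUnion_associatedPrimes_eq_compl_regular R (M ⧸ gam a.toIdeal M)]
        exact Set.mem_iUnion₂.2 ⟨p, hass, hxp⟩
      exact hx' hreg
    have hdeg'' : P''.degree < ((d : ℕ) : WithBot ℕ) :=
      ih _ (GrLCQuot.quotGr (GrLCQuot.quotGr ℳ (gam a.toIdeal M))
        (x • (⊤ : Submodule R (M ⧸ gam a.toIdeal M)))) P'' hdim'' hP''
    have hdiff := isHP_diff (quotGr ℳ (gam a.toIdeal M)) x (t : ℤ) hx hreg P P'' hPq hP''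
    have htq : ((t : ℤ) : ℚ) ≠ 0 := by
      have : (t : ℚ) ≠ 0 := by exact_mod_cast ht.ne'
      exact_mod_cast this
    apply degree_lt_of_diff ((t : ℤ) : ℚ) htq d P
    rw [hdiff]
    exact hdeg''

end induction

end Groth.Agent.Lib.Helper20.GrHilbDeg
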