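import Mathlib
import Groth.Prelude.Def_GrLC
import Groth.Agent.Lib.Helper20.GrHilbDeg
import Groth.Agent.Lib.Helper20.GrReg1
import Groth.Agent.Lib.Helper20.GrHeight2
import Groth.Agent.Lib.Helper20.DepthMaxLoc
import Groth.Agent.S17770
import Groth.Agent.Lib.Helper22.GrHilb

/-!
# The a-invariant of a Cohen–Macaulay standard graded ring and its Hilbert function (helper20)
-/

set_option autoImplicit false
set_option linter.unusedSectionVars false
set_option linter.unusedVariables false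
set_option linter.style.haveILetI false

universe u

open DirectSum GrLC Groth.Agent.Lib.Helper20.LenEuler Groth.Agent.Lib.Helper20.GrHilbDeg
  Groth.Agent.Lib.Helper20.GrVan Groth.Agent.Lib.Helper20.GrVeronese

namespace Groth.Agent.Lib.Helper20.GrAinvPoly

variable {R : Type u} [CommRing R] [LocCoh.IsCohenMacaulayRing R] (𝒜 : ℤ → AddSubgroup R)
  [GradedRing 𝒜] (hpos : ∀ n : ℤ, n < 0 → 𝒜 n = ⊥)
  (hstd : Ideal.span (⋃ n ∈ Set.Ioi (0 : ℤ), (𝒜 n : Set R)) =
    Ideal.span ((𝒜 1 : AddSubgroup R) : Set R))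
  [IsArtinianRing (deg0 𝒜)] (m : HomogeneousIdeal 𝒜) (hm : IsStarLocal 𝒜 m)
  (r : ℕ) (hr : ringKrullDim R = r) (I : StarInjRes 𝒜 𝒜)

omit [LocCoh.IsCohenMacaulayRing R] [IsArtinianRing (deg0 𝒜)] in
/-- the graded pieces of local cohomology only depend on the torsion functor. -/
theorem nonempty_Hcomp_equiv_sameGam {M : Type u} [AddCommGroup M] [Module R M]
    {ℳ : ℤ → AddSubgroup M} [DirectSum.Decomposition ℳ] [SetLike.GradedSMul 𝒜 ℳ]
    (E : StarInjRes 𝒜 ℳ) (a b : HomogeneousIdeal 𝒜)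
    (hgam : ∀ (X : Type u) [AddCommGroup X] [Module R X],
      GrLC.gam a.toIdeal X = GrLC.gam b.toIdeal X) (i : ℕ) (n : ℤ) :
    Nonempty (E.Hcomp a i n ≃ₗ[deg0 𝒜] E.Hcomp b i n) := by
  have hg : ∀ k, GrLC.gam a.toIdeal (E.X k).carrier = GrLC.gam b.toIdeal (E.X k).carrier :=
    fun k => hgam _
  let e : E.H a i ≃ₗ[deg0 𝒜] E.H b i :=
    (sameGamEquiv E a b hg i).restrictScalars (deg0 𝒜)
  have hmap : (E.Hcomp a i n).map e.toLinearMap = E.Hcomp b i n := by
    ext y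
    constructor
    · rintro ⟨_, ⟨z, hz, rfl⟩, rfl⟩
      exact ⟨⟨z.1, by rw [← cocyc_eq E a b hg i]; exact z.2⟩, hz, rfl⟩
    · rintro ⟨z, hz, rfl⟩
      exact ⟨E.toH a i ⟨z.1, by rw [cocyc_eq E a b hg i]; exact z.2⟩,
        ⟨⟨z.1, by rw [cocyc_eq E a b hg i]; exact z.2⟩, hz, rfl⟩, rfl⟩
  exact ⟨LinearEquiv.ofSubmodules e _ _ hmap⟩

include hpos hm hr in
/-- Cohen–Macaulay vanishing below the dimension. -/
theorem Hcomp_eq_bot_of_lt (i : ℕ) (hi : i < r) (n : ℤ) : I.Hcomp m i n = ⊥ := by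
  classical
  have hmax : m.toIdeal.IsMaximal :=
    Groth.Agent.Lib.Helper20.GrArtin.isMaximal_of_isCoatom 𝒜 hpos m hm.1
  have hdim := Groth.Agent.Lib.Helper20.GrHeight2.ringKrullDim_eq_height 𝒜 m hm hpos
  rw [hr] at hdim
  have hht : m.toIdeal.height = ((r : ℕ) : ℕ∞) := by
    have : ((m.toIdeal.height : ℕ∞) : WithBot ℕ∞) = (((r : ℕ) : ℕ∞) : WithBot ℕ∞) := by
      rw [← hdim]
      rfl
    exact_mod_cast this
  have hv : Van m 𝒜 i n := by
    apply Groth.Agent.Lib.Helper20.GrVan.van_of_HH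
    exact Groth.Agent.Lib.Helper20.DepthMaxLoc.HH.subsingleton_of_lt_height m.toIdeal i (by
      rw [hht]
      exact_mod_cast hi)
  exact hv I

include hpos hstd hm hr in
/-- **Serre's formula for a Cohen–Macaulay ring**: only the top cohomology contributes. -/
theorem serre_cm (P : Polynomial ℚ) (hP : IsHP 𝒜 𝒜 P) (n : ℤ) :
    len (deg0 𝒜) (comp 𝒜 𝒜 n) - P.eval (n : ℚ) =
      (-1 : ℚ) ^ r * len (deg0 𝒜) (I.Hcomp m r n) := by
  classical
  have key := Groth.Agent.S17770.result R 𝒜 hpos hstd m hm r hr R 𝒜 I P hP n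
  rw [Finset.sum_range_succ] at key
  have hzero : ∑ i ∈ Finset.range r, (-1 : ℚ) ^ i *
      ((Module.length (deg0 𝒜) (I.Hcomp m i n)).toNat : ℚ) = 0 := by
    apply Finset.sum_eq_zero
    intro i hi
    have hb := Hcomp_eq_bot_of_lt 𝒜 hpos m hm r hr I i (Finset.mem_range.1 hi) n
    haveI : Subsingleton (I.Hcomp m i n) := by
      rw [hb]
      infer_instance
    have h0 : Module.length (deg0 𝒜) (I.Hcomp m i n) = 0 := Module.length_eq_zero
    rw [h0]
    simp
  rw [hzero, zero_add] at key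
  exact key

include hpos hstd hm hr in
/-- if the a-invariant is at most `-r`, the Hilbert function agrees with the Hilbert polynomial in
degrees `> -r`. -/
theorem eq_of_endDeg_le (P : Polynomial ℚ) (hP : IsHP 𝒜 𝒜 P)
    (hend : endDeg (I.Hgr m r) ≤ (((-(r : ℤ) : ℤ) : WithTop ℤ) : WithBot (WithTop ℤ)))
    (n : ℤ) (hn : -(r : ℤ) < n) : len (deg0 𝒜) (comp 𝒜 𝒜 n) = P.eval (n : ℚ) := by
  have h1 := serre_cm 𝒜 hpos hstd m hm r hr I P hP n
  have h2 : I.Hgr m r n = ⊥ :=
    (Groth.Agent.Lib.Helper20.GrReg1.endDeg_le_iff (I.Hgr m r) (-(r : ℤ))).1 hend n hn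
  haveI : Subsingleton (I.Hcomp m r n) := by
    constructor
    intro x y
    apply Subtype.ext
    have hx : (x : I.H m r) ∈ I.Hgr m r n := x.2
    have hy : (y : I.H m r) ∈ I.Hgr m r n := y.2
    rw [h2, AddSubgroup.mem_bot] at hx hy
    rw [hx, hy]
  rw [len_of_subsingleton (I.Hcomp m r n), mul_zero] at h1
  linarith

include hpos hstd hm hr in
/-- conversely, if the Hilbert function agrees with the Hilbert polynomial in degrees `> -r`, the
a-invariant is at most `-r`. -/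
theorem endDeg_le_of_eq (P : Polynomial ℚ) (hP : IsHP 𝒜 𝒜 P)
    (h : ∀ n : ℤ, -(r : ℤ) < n → len (deg0 𝒜) (comp 𝒜 𝒜 n) = P.eval (n : ℚ)) :
    endDeg (I.Hgr m r) ≤ (((-(r : ℤ) : ℤ) : WithTop ℤ) : WithBot (WithTop ℤ)) := by
  rw [Groth.Agent.Lib.Helper20.GrReg1.endDeg_le_iff]
  intro n hn
  have h1 := serre_cm 𝒜 hpos hstd m hm r hr I P hP n
  rw [h n hn, sub_self] at h1
  have h2 : len (deg0 𝒜) (I.Hcomp m r n) = 0 := by
    have h3 : ((-1 : ℚ) ^ r) ≠ 0 := pow_ne_zero _ (by norm_num)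
    rcases mul_eq_zero.1 h1.symm with h4 | h4
    · exact absurd h4 h3
    · exact h4
  have hfin : Module.length (deg0 𝒜) (I.Hcomp m r n) ≠ ⊤ := by
    have ha : (GrSyz.irrel 𝒜).toIdeal = Ideal.span (⋃ n ∈ Set.Ioi (0 : ℤ), (𝒜 n : Set R)) := by
      change Ideal.span {r : R | ∃ n : ℤ, 0 < n ∧ r ∈ 𝒜 n} = _
      congr 1
      ext r
      simp only [Set.mem_ofPred_eq, Set.mem_iUnion, Set.mem_Ioi, SetLike.mem_coe, exists_prop]
    have h5 := Groth.Agent.Lib.Helper20.GrSerre.length_Hcomp_ne_top (GrSyz.irrel 𝒜) ha I r n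
    obtain ⟨e⟩ := nonempty_Hcomp_equiv_sameGam 𝒜 I m (GrSyz.irrel 𝒜)
      (fun X _ _ => Groth.Agent.Lib.Helper20.GrIrrelRad.gam_eq_irrel 𝒜 hpos m hm X) r n
    rw [e.length_eq]
    exact h5
  have h7 : Module.length (deg0 𝒜) (I.Hcomp m r n) = 0 := by
    unfold len at h2
    have h8 : (Module.length (deg0 𝒜) (I.Hcomp m r n)).toNat = 0 := by exact_mod_cast h2
    rcases (ENat.toNat_eq_zero).1 h8 with h9 | h9
    · exact h9
    · exact absurd h9 hfin
  have h10 : Subsingleton (I.Hcomp m r n) := Module.length_eq_zero_iff.1 h7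
  rw [eq_bot_iff]
  intro z hz
  rw [AddSubgroup.mem_bot]
  have := Subsingleton.elim (⟨z, hz⟩ : I.Hcomp m r n) 0
  exact congrArg Subtype.val this

section field

variable (h0 : IsField (deg0 𝒜))

omit [LocCoh.IsCohenMacaulayRing R] [IsArtinianRing (deg0 𝒜)] in
include h0 in
theorem len_comp_zero : len (deg0 𝒜) (comp 𝒜 𝒜 0) = 1 := by
  letI : Field (deg0 𝒜) := h0.toField
  let e : comp 𝒜 𝒜 0 ≃ₗ[deg0 𝒜] deg0 𝒜 :=
    { toFun := fun x => ⟨x.1, x.2⟩
      invFun := fun y => ⟨y.1, y.2⟩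
      left_inv := fun x => rfl
      right_inv := fun y => rfl
      map_add' := fun x y => rfl
      map_smul' := fun c x => rfl }
  unfold len
  rw [e.length_eq, Module.length_eq_finrank, Module.finrank_self]
  simp

omit [LocCoh.IsCohenMacaulayRing R] [IsArtinianRing (deg0 𝒜)] in
include h0 in
/-- a spanning family of the right size for the degree-one piece. -/
theorem exists_spanning (hfin : Module.length (deg0 𝒜) (comp 𝒜 𝒜 1) ≠ ⊤)
    (hlen : len (deg0 𝒜) (comp 𝒜 𝒜 1) = (r : ℚ)) :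
    ∃ ℓ : Fin r → R, (∀ i, ℓ i ∈ 𝒜 1) ∧
      ∀ y ∈ 𝒜 1, ∃ c : Fin r → deg0 𝒜, y = ∑ i, (c i : R) * ℓ i := by
  classical
  letI : Field (deg0 𝒜) := h0.toField
  have h1 : Module.length (deg0 𝒜) (comp 𝒜 𝒜 1) = (r : ℕ∞) := by
    unfold len at hlen
    have h2 : (Module.length (deg0 𝒜) (comp 𝒜 𝒜 1)).toNat = r := by exact_mod_cast hlen
    rw [← h2, ENat.coe_toNat hfin]
  haveI : Module.Finite (deg0 𝒜) (comp 𝒜 𝒜 1) := by
    have h3 : IsFiniteLength (deg0 𝒜) (comp 𝒜 𝒜 1) := Module.length_ne_top_iff.1 hfin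
    haveI := (isFiniteLength_iff_isNoetherian_isArtinian.1 h3).1
    infer_instance
  have hfr : Module.finrank (deg0 𝒜) (comp 𝒜 𝒜 1) = r := by
    rw [Module.length_eq_finrank] at h1
    exact_mod_cast h1
  let b := Module.finBasisOfFinrankEq (deg0 𝒜) (comp 𝒜 𝒜 1) hfr
  refine ⟨fun i => ((b i : comp 𝒜 𝒜 1) : R), fun i => (b i).2, fun y hy => ?_⟩
  have hy' : y ∈ comp 𝒜 𝒜 1 := hy
  refine ⟨fun i => b.repr ⟨y, hy'⟩ i, ?_⟩
  have h4 := b.sum_repr ⟨y, hy'⟩
  have h5 : ((∑ i, b.repr ⟨y, hy'⟩ i • b i : comp 𝒜 𝒜 1) : R) = y := congrArg Subtype.val h4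
  refine h5.symm.trans ?_
  rw [Submodule.coe_sum]
  rfl

include hpos hstd hm hr h0 in
/-- if the a-invariant is at most `-r` then `R_1` has length `r`. -/
theorem len_one_eq
    (hend : endDeg (I.Hgr m r) ≤ (((-(r : ℤ) : ℤ) : WithTop ℤ) : WithBot (WithTop ℤ))) :
    len (deg0 𝒜) (comp 𝒜 𝒜 1) = (r : ℚ) := by
  classical
  have ha : (GrSyz.irrel 𝒜).toIdeal = Ideal.span (⋃ n ∈ Set.Ioi (0 : ℤ), (𝒜 n : Set R)) := by
    change Ideal.span {r : R | ∃ n : ℤ, 0 < n ∧ r ∈ 𝒜 n} = _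
    congr 1
    ext r
    simp only [Set.mem_ofPred_eq, Set.mem_iUnion, Set.mem_Ioi, SetLike.mem_coe, exists_prop]
  have hhom : (GrSyz.irrel 𝒜).toIdeal = Ideal.span ((𝒜 1 : AddSubgroup R) : Set R) := by
    rw [ha, hstd]
  obtain ⟨P, hP⟩ := exists_isHP (GrSyz.irrel 𝒜) ha hhom 𝒜
  have hdeg : P.degree < ((r : ℕ) : WithBot ℕ) :=
    degree_lt (GrSyz.irrel 𝒜) ha hhom hpos r R 𝒜 P (by
      rw [Module.supportDim_self_eq_ringKrullDim, hr]) hP
  have heq := eq_of_endDeg_le 𝒜 hpos hstd m hm r hr I P hP hend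
  cases r with
  | zero =>
    have hP0 : P = 0 := by
      rw [← Polynomial.degree_eq_bot]
      have : P.degree < (0 : WithBot ℕ) := by exact_mod_cast hdeg
      exact (Nat.WithBot.lt_zero_iff).1 this
    rw [heq 1 (by norm_num), hP0, Polynomial.eval_zero]
    norm_num
  | succ r' =>
    have hQdeg : (Groth.Agent.Lib.Helper22.GrHilb.Qpoly r').natDegree ≤ r' := by
      unfold Groth.Agent.Lib.Helper22.GrHilb.Qpoly
      refine (Polynomial.natDegree_C_mul_le _ _).trans ?_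
      rw [Polynomial.natDegree_comp, ascPochhammer_natDegree]
      have : (Polynomial.X + 1 : Polynomial ℚ).natDegree = 1 := by
        rw [← Polynomial.C_1]
        exact Polynomial.natDegree_X_add_C 1
      rw [this, mul_one]
    have hT : P - Groth.Agent.Lib.Helper22.GrHilb.Qpoly r' = 0 := by
      apply Polynomial.eq_zero_of_natDegree_lt_card_of_eval_eq_zero _
        (f := fun j : Fin (r' + 1) => ((-(j.val : ℤ) : ℤ) : ℚ))
      · intro j j' hjj'
        have h1 : (-(j.val : ℤ) : ℤ) = -(j'.val : ℤ) := by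
          have h2 : ((-(j.val : ℤ) : ℤ) : ℚ) = ((-(j'.val : ℤ) : ℤ) : ℚ) := hjj'
          exact_mod_cast h2
        apply Fin.ext
        omega
      · intro j
        obtain ⟨n, hn⟩ : ∃ n : ℤ, n = -(j.val : ℤ) := ⟨_, rfl⟩
        have hj2 := j.2
        show Polynomial.eval ((-(j.val : ℤ) : ℤ) : ℚ) _ = 0
        rw [← hn]
        rw [Polynomial.eval_sub, ← heq n (by push_cast; omega),
          Groth.Agent.Lib.Helper22.GrHilb.Qpoly_eval r' n (by omega)]
        by_cases hn0 : n = 0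
        · subst hn0
          simp only [le_refl, if_true, Int.toNat_zero, add_zero, Nat.choose_self, Nat.cast_one]
          rw [len_comp_zero 𝒜 h0, sub_self]
        · have hneg : ¬ (0 : ℤ) ≤ n := by omega
          rw [if_neg hneg, sub_zero]
          haveI : Subsingleton (comp 𝒜 𝒜 n) := by
            constructor
            intro x y
            apply Subtype.ext
            have hx : (x : R) ∈ 𝒜 n := x.2
            have hy : (y : R) ∈ 𝒜 n := y.2
            rw [hpos _ (by omega), AddSubgroup.mem_bot] at hx hy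
            rw [hx, hy]
          exact len_of_subsingleton _
      · rw [Fintype.card_fin]
        have h1 : P.natDegree < r' + 1 := by
          by_cases hP0 : P = 0
          · rw [hP0, Polynomial.natDegree_zero]
            omega
          · rw [Polynomial.degree_eq_natDegree hP0] at hdeg
            exact_mod_cast hdeg
        exact lt_of_le_of_lt (Polynomial.natDegree_sub_le _ _) (by
          rw [max_lt_iff]
          exact ⟨h1, by omega⟩)
    have hPQ : P = Groth.Agent.Lib.Helper22.GrHilb.Qpoly r' := sub_eq_zero.1 hT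
    rw [heq 1 (by push_cast; omega), hPQ]
    have := Groth.Agent.Lib.Helper22.GrHilb.Qpoly_eval r' 1 (by omega)
    rw [if_pos (by norm_num)] at this
    push_cast at this ⊢
    rw [this, Nat.choose_succ_self_right]
    push_cast
    ring

end field

end Groth.Agent.Lib.Helper20.GrAinvPoly
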