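import Mathlib
import Groth.Prelude.Def_GrLC
import Groth.Agent.Lib.Helper20.GrLCBasic
import Groth.Agent.Lib.Helper20.GrArtin

/-!
# A standard graded ring over a field which is abstractly a polynomial ring in `r` variables has
its degree-one piece spanned by `r` elements (helper20)
-/

set_option autoImplicit false
set_option linter.unusedSectionVars false
set_option linter.unusedVariables false
set_option linter.style.haveILetI false

universe u

open DirectSum GrLC Groth.Agent.Lib.Helper20.GrLCBasic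

namespace Groth.Agent.Lib.Helper20.GrPolyAbs

section poly

theorem sub_C_eval_mem {k : Type*} [CommRing k] {σ : Type*} (a : σ → k) (p : MvPolynomial σ k) :
    p - MvPolynomial.C (MvPolynomial.eval a p) ∈ Ideal.span (Set.range fun i =>
      (MvPolynomial.X i - MvPolynomial.C (a i) : MvPolynomial σ k)) := by
  induction p using MvPolynomial.induction_on with
  | C c => simp
  | add p q hp hq =>
    have : p + q - MvPolynomial.C (MvPolynomial.eval a (p + q)) =
        (p - MvPolynomial.C (MvPolynomial.eval a p)) +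
          (q - MvPolynomial.C (MvPolynomial.eval a q)) := by
      rw [map_add, map_add]
      ring
    rw [this]
    exact add_mem hp hq
  | mul_X p i hp =>
    have : p * MvPolynomial.X i - MvPolynomial.C (MvPolynomial.eval a (p * MvPolynomial.X i)) =
        (p - MvPolynomial.C (MvPolynomial.eval a p)) * MvPolynomial.X i +
          MvPolynomial.C (MvPolynomial.eval a p) *
            (MvPolynomial.X i - MvPolynomial.C (a i)) := by
      rw [map_mul, MvPolynomial.eval_X, map_mul]
      ring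
    rw [this]
    exact add_mem (Ideal.mul_mem_right _ _ hp)
      (Ideal.mul_mem_left _ _ (Ideal.subset_span ⟨i, rfl⟩))

end poly

variable {R : Type u} [CommRing R] (𝒜 : ℤ → AddSubgroup R) [GradedRing 𝒜]
  (hpos : ∀ n : ℤ, n < 0 → 𝒜 n = ⊥)

include hpos in
/-- the degree-one component of a product with an element without constant term. -/
theorem decompose_mul_one (s μ : R) (hμ0 : ((decompose 𝒜 μ 0 : 𝒜 0) : R) = 0) :
    ((decompose 𝒜 (s * μ) 1 : 𝒜 1) : R) =
      ((decompose 𝒜 s 0 : 𝒜 0) : R) * ((decompose 𝒜 μ 1 : 𝒜 1) : R) := by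
  classical
  have hneg : ∀ (x : R) (n : ℤ), n < 0 → ((decompose 𝒜 x n : 𝒜 n) : R) = 0 := by
    intro x n hn
    have h4 : ((decompose 𝒜 x n : 𝒜 n) : R) ∈ (⊥ : AddSubgroup R) :=
      (hpos n hn).le (SetLike.coe_mem _)
    exact (AddSubgroup.mem_bot).1 h4
  have hcast : ∀ (x : R) (i j : ℤ), i = j →
      ((decompose 𝒜 x i : 𝒜 i) : R) = ((decompose 𝒜 x j : 𝒜 j) : R) := by
    intro x i j h
    subst h
    rfl
  conv_lhs => rw [← DirectSum.sum_support_decompose 𝒜 μ, Finset.mul_sum, decompose_sum,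
    DFinsupp.finsetSum_apply, AddSubmonoidClass.coe_finsetSum]
  have hterm : ∀ n : ℤ, ((decompose 𝒜 (s * ((decompose 𝒜 μ n : 𝒜 n) : R)) 1 : 𝒜 1) : R) =
      ((decompose 𝒜 s (1 - n) : 𝒜 (1 - n)) : R) * ((decompose 𝒜 μ n : 𝒜 n) : R) := by
    intro n
    have h1 := decompose_smul_right 𝒜 𝒜 (SetLike.coe_mem (decompose 𝒜 μ n)) s (1 - n)
    have h2 : (1 - n) + n = 1 := by ring
    rw [smul_eq_mul, smul_eq_mul] at h1
    rw [hcast _ 1 ((1 - n) + n) h2.symm]
    exact h1
  rw [Finset.sum_eq_single (1 : ℤ)]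
  · rw [hterm 1, hcast s (1 - 1) 0 (by norm_num)]
  · intro n _ hn1
    rw [hterm n]
    rcases lt_trichotomy n 0 with h | h | h
    · rw [hneg μ n h, mul_zero]
    · subst h
      rw [hμ0, mul_zero]
    · rw [hneg s (1 - n) (by omega), zero_mul]
  · intro h1
    rw [hterm 1]
    have : ((decompose 𝒜 μ 1 : 𝒜 1) : R) = 0 := by
      have := DFinsupp.notMem_support_iff.1 h1
      rw [this]
      rfl
    rw [this, mul_zero]

section main

variable (h0 : IsField (deg0 𝒜)) (m : HomogeneousIdeal 𝒜) (hm : IsStarLocal 𝒜 m)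
  (hmsp : m.toIdeal = Ideal.span (⋃ n ∈ Set.Ioi (0 : ℤ), (𝒜 n : Set R)))
  {r : ℕ} (e : R ≃+* MvPolynomial (Fin r) (deg0 𝒜))

include h0 hm in
/-- elements of `m` have no constant term. -/
theorem decompose_zero_of_mem (μ : R) (hμ : μ ∈ m.toIdeal) :
    ((decompose 𝒜 μ 0 : 𝒜 0) : R) = 0 := by
  by_contra hne
  have h1 : ((decompose 𝒜 μ 0 : 𝒜 0) : R) ∈ m.toIdeal := m.isHomogeneous 0 hμ
  let y : deg0 𝒜 := ⟨((decompose 𝒜 μ 0 : 𝒜 0) : R), SetLike.coe_mem _⟩
  have hy : y ≠ 0 := fun h => hne (congrArg Subtype.val h)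
  obtain ⟨z, hz⟩ := h0.mul_inv_cancel hy
  have h2 : ((y * z : deg0 𝒜) : R) = 1 := by rw [hz]; rfl
  apply hm.1.1
  apply HomogeneousIdeal.toIdeal_injective
  rw [HomogeneousIdeal.toIdeal_top, Ideal.eq_top_iff_one, ← h2]
  exact m.toIdeal.mul_mem_right _ h1

include h0 in
theorem exists_C_eq (c : deg0 𝒜) : ∃ a : deg0 𝒜, e (c : R) = MvPolynomial.C a := by
  classical
  letI : Field (deg0 𝒜) := h0.toField
  by_cases hc : c = 0
  · refine ⟨0, ?_⟩
    rw [hc]
    simp
  · have hu : IsUnit c := isUnit_iff_ne_zero.2 hc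
    have hu2 : IsUnit (c : R) := hu.map (deg0 𝒜).subtype
    have hu3 : IsUnit (e (c : R)) := hu2.map e
    obtain ⟨a, -, ha⟩ := MvPolynomial.isUnit_iff_eq_C_of_isReduced.1 hu3
    exact ⟨a, ha⟩

include hpos h0 hm hmsp e in
/-- **an abstract polynomial ring structure bounds the number of linear generators.** -/
theorem exists_spanning_of_ringEquiv :
    ∃ ℓ : Fin r → R, (∀ i, ℓ i ∈ 𝒜 1) ∧
      ∀ y ∈ 𝒜 1, ∃ c : Fin r → deg0 𝒜, y = ∑ i, (c i : R) * ℓ i := by
  classical
  letI : Field (deg0 𝒜) := h0.toField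
  -- the images of the variables, their constant terms
  let x : Fin r → R := fun i => e.symm (MvPolynomial.X i)
  let c : Fin r → deg0 𝒜 := fun i => ⟨((decompose 𝒜 (x i) 0 : 𝒜 0) : R), SetLike.coe_mem _⟩
  let μ : Fin r → R := fun i => x i - (c i : R)
  have hμ : ∀ i, μ i ∈ m.toIdeal := fun i =>
    Groth.Agent.Lib.Helper20.GrArtin.sub_decompose_zero_mem 𝒜 hpos m hm.1 (x i)
  choose a ha using fun i => exists_C_eq 𝒜 h0 e (c i)
  have heμ : ∀ i, e (μ i) = MvPolynomial.X i - MvPolynomial.C (a i) := by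
    intro i
    show e (x i - (c i : R)) = _
    rw [map_sub, ha i]
    show e (e.symm (MvPolynomial.X i)) - _ = _
    rw [RingEquiv.apply_symm_apply]
  -- every element of `m` is a combination of the `μ i`
  have hcomb : ∀ z ∈ m.toIdeal, ∃ s : Fin r → R, z = ∑ i, s i * μ i := by
    intro z hz
    have h1 := sub_C_eval_mem a (e z)
    obtain ⟨q, hq⟩ := (Ideal.mem_span_range_iff_exists_fun).1 h1
    have h2 : z - e.symm (MvPolynomial.C (MvPolynomial.eval a (e z))) =
        ∑ i, e.symm (q i) * μ i := by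
      apply e.injective
      rw [map_sub, RingEquiv.apply_symm_apply, ← hq, map_sum]
      refine Finset.sum_congr rfl fun i _ => ?_
      rw [map_mul, RingEquiv.apply_symm_apply, heμ i]
    have h3 : e.symm (MvPolynomial.C (MvPolynomial.eval a (e z))) ∈ m.toIdeal := by
      have h4 : z - e.symm (MvPolynomial.C (MvPolynomial.eval a (e z))) ∈ m.toIdeal := by
        rw [h2]
        exact Ideal.sum_mem _ fun i _ => Ideal.mul_mem_left _ _ (hμ i)
      have h5 := m.toIdeal.sub_mem hz h4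
      rwa [sub_sub_cancel] at h5
    have ht : MvPolynomial.eval a (e z) = 0 := by
      by_contra hne
      have hu : IsUnit (MvPolynomial.eval a (e z)) := isUnit_iff_ne_zero.2 hne
      have hu2 : IsUnit (MvPolynomial.C (σ := Fin r) (MvPolynomial.eval a (e z))) :=
        hu.map MvPolynomial.C
      have hu3 : IsUnit (e.symm (MvPolynomial.C (MvPolynomial.eval a (e z)))) := hu2.map e.symm
      apply hm.1.1
      apply HomogeneousIdeal.toIdeal_injective
      rw [HomogeneousIdeal.toIdeal_top]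
      exact Ideal.eq_top_of_isUnit_mem _ h3 hu3
    rw [ht, map_zero, map_zero, sub_zero] at h2
    exact ⟨fun i => e.symm (q i), h2⟩
  refine ⟨fun i => ((decompose 𝒜 (μ i) 1 : 𝒜 1) : R), fun i => SetLike.coe_mem _, ?_⟩
  intro y hy
  have hym : y ∈ m.toIdeal := by
    rw [hmsp]
    exact Ideal.subset_span (Set.mem_iUnion₂.2 ⟨1, by norm_num, hy⟩)
  obtain ⟨s, hs⟩ := hcomb y hym
  refine ⟨fun i => ⟨((decompose 𝒜 (s i) 0 : 𝒜 0) : R), SetLike.coe_mem _⟩, ?_⟩
  have h1 : y = ((decompose 𝒜 y 1 : 𝒜 1) : R) := by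
    rw [decompose_of_mem_same 𝒜 hy]
  rw [h1, hs, decompose_sum, DFinsupp.finsetSum_apply, AddSubmonoidClass.coe_finsetSum]
  refine Finset.sum_congr rfl fun i _ => ?_
  rw [decompose_mul_one 𝒜 hpos (s i) (μ i) (decompose_zero_of_mem 𝒜 h0 m hm (μ i) (hμ i))]

end main

end Groth.Agent.Lib.Helper20.GrPolyAbs
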