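import Mathlib
import Groth.Prelude.Def_GrLC

/-!
# Converting gradings by arbitrary `SetLike` families into gradings by additive subgroups
-/

set_option autoImplicit false
set_option linter.unusedSectionVars false
set_option linter.unusedVariables false

universe u

open GrLC

namespace Groth.Agent.Lib.Helper20.GrConv

variable {ι : Type} [AddCommGroup ι] [DecidableEq ι]

section family

variable {X : Type u} [AddCommGroup X] {τ : Type u} [SetLike τ X] [AddSubgroupClass τ X]
  (𝒳 : ι → τ)

/-- the family of underlying additive subgroups. -/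
def toAS : ι → AddSubgroup X := fun g => AddSubgroup.ofClass (𝒳 g)

lemma mem_toAS {g : ι} {x : X} : x ∈ toAS 𝒳 g ↔ x ∈ 𝒳 g := Iff.rfl

/-- the identification of the pieces. -/
def pieceHom (g : ι) : ↥(𝒳 g) →+ ↥(toAS 𝒳 g) where
  toFun y := ⟨y.1, y.2⟩
  map_zero' := rfl
  map_add' _ _ := rfl

variable [DirectSum.Decomposition 𝒳]

/-- the decomposition of the family of underlying additive subgroups. -/
noncomputable instance toASDecomposition : DirectSum.Decomposition (toAS 𝒳) where
  decompose' x := DirectSum.map (pieceHom 𝒳) (DirectSum.decompose 𝒳 x)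
  left_inv x := by
    have key : ∀ y : DirectSum ι (fun g => ↥(𝒳 g)),
        DirectSum.coeAddMonoidHom (toAS 𝒳) (DirectSum.map (pieceHom 𝒳) y) =
          DirectSum.coeAddMonoidHom 𝒳 y := by
      intro y
      induction y using DirectSum.induction_on with
      | zero => simp
      | of i z =>
        rw [DirectSum.map_of, DirectSum.coeAddMonoidHom_of, DirectSum.coeAddMonoidHom_of]
        rfl
      | add y y' h h' => rw [map_add, map_add, map_add, h, h']
    rw [key]
    exact DirectSum.Decomposition.left_inv x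
  right_inv y := by
    induction y using DirectSum.induction_on with
    | zero => simp
    | of i z =>
      beta_reduce
      rw [DirectSum.coeAddMonoidHom_of]
      have hz : (z : X) ∈ 𝒳 i := z.2
      rw [DirectSum.decompose_of_mem 𝒳 hz, DirectSum.map_of]
      rfl
    | add y y' h h' =>
      beta_reduce at h h' ⊢
      rw [map_add, DirectSum.decompose_add, map_add, h, h']

lemma decompose_toAS (x : X) (g : ι) :
    ((DirectSum.decompose (toAS 𝒳) x g : toAS 𝒳 g) : X) = ((DirectSum.decompose 𝒳 x g : 𝒳 g) : X) := by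
  change ((DirectSum.map (pieceHom 𝒳) (DirectSum.decompose 𝒳 x) g : toAS 𝒳 g) : X) = _
  rw [DirectSum.map_apply]
  rfl

end family

section ring

variable {R : Type u} [CommRing R] {σ' : Type u} [SetLike σ' R] [AddSubgroupClass σ' R]
  (𝒜 : ι → σ') [GradedRing 𝒜]

/-- the graded ring structure on the family of underlying additive subgroups. -/
noncomputable instance toASGradedRing : GradedRing (toAS 𝒜) where
  one_mem := SetLike.GradedOne.one_mem (A := 𝒜)
  mul_mem := fun _ _ _ _ hi hj => SetLike.GradedMul.mul_mem (A := 𝒜) hi hj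
  toDecomposition := toASDecomposition 𝒜

section modules

variable {M : Type u} [AddCommGroup M] [Module R M] {τ : Type u} [SetLike τ M]
  [AddSubgroupClass τ M] (ℳ : ι → τ)

instance toASGradedSMul [SetLike.GradedSMul 𝒜 ℳ] : SetLike.GradedSMul (toAS 𝒜) (toAS ℳ) where
  smul_mem := by
    intro i j a b hi hj
    exact SetLike.GradedSMul.smul_mem (A := 𝒜) (B := ℳ) hi hj

/-- a family of subgroups graded over `𝒜` is graded over the converted ring. -/
lemma gradedSMul_toAS (𝒳 : ι → AddSubgroup M) [SetLike.GradedSMul 𝒜 𝒳] :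
    SetLike.GradedSMul (toAS 𝒜) 𝒳 where
  smul_mem := by
    intro i j a b hi hj
    exact SetLike.GradedSMul.smul_mem (A := 𝒜) (B := 𝒳) hi hj

/-- and conversely. -/
lemma gradedSMul_of_toAS (𝒳 : ι → AddSubgroup M) [SetLike.GradedSMul (toAS 𝒜) 𝒳] :
    SetLike.GradedSMul 𝒜 𝒳 where
  smul_mem := by
    intro i j a b hi hj
    exact SetLike.GradedSMul.smul_mem (A := toAS 𝒜) (B := 𝒳) hi hj

end modules

/-- conversion of bundled graded modules. -/
noncomputable def gmodTo (X : GMod.{u} 𝒜) : GMod.{u} (toAS 𝒜) :=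
  haveI := gradedSMul_toAS 𝒜 X.gr
  { carrier := X.carrier, gr := X.gr }

/-- conversion of bundled graded modules, backwards. -/
noncomputable def gmodOf (Y : GMod.{u} (toAS 𝒜)) : GMod.{u} 𝒜 :=
  haveI := gradedSMul_of_toAS 𝒜 Y.gr
  { carrier := Y.carrier, gr := Y.gr }

lemma isStarInj_toAS {X : Type u} [AddCommGroup X] [Module R X] (𝒳 : ι → AddSubgroup X)
    [DirectSum.Decomposition 𝒳] [SetLike.GradedSMul 𝒜 𝒳] (h : IsStarInj 𝒜 𝒳) :
    haveI := gradedSMul_toAS 𝒜 𝒳
    IsStarInj (toAS 𝒜) 𝒳 := by
  intro A B f hf hinj g hg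
  exact h (gmodOf 𝒜 A) (gmodOf 𝒜 B) f hf hinj g hg

variable {M : Type u} [AddCommGroup M] [Module R M] {τ : Type u} [SetLike τ M]
  [AddSubgroupClass τ M] (ℳ : ι → τ) [DirectSum.Decomposition ℳ] [SetLike.GradedSMul 𝒜 ℳ]

/-- conversion of *injective resolutions. -/
noncomputable def resTo (E : StarInjRes 𝒜 ℳ) : StarInjRes (toAS 𝒜) (toAS ℳ) where
  X n := gmodTo 𝒜 (E.X n)
  d := E.d
  ε := E.ε
  d_grHom := E.d_grHom
  ε_grHom := fun g m hm => E.ε_grHom g m hm
  ε_injective := E.ε_injective
  exact_zero := E.exact_zero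
  exact_succ := E.exact_succ
  starInj n := isStarInj_toAS 𝒜 (E.X n).gr (E.starInj n)

/-- conversion of homogeneous ideals. -/
noncomputable def idealTo (a : HomogeneousIdeal 𝒜) : HomogeneousIdeal (toAS 𝒜) :=
  ⟨a.toIdeal, fun i r hr => by
    rw [decompose_toAS]
    exact a.isHomogeneous i hr⟩

lemma Hcomp_eq_bot_iff (E : StarInjRes 𝒜 ℳ) (a : HomogeneousIdeal 𝒜) (i : ℕ) (n : ι) :
    (resTo 𝒜 ℳ E).Hcomp (idealTo 𝒜 a) i n = ⊥ ↔ E.Hcomp a i n = ⊥ := by
  constructor
  · intro h
    rw [Submodule.eq_bot_iff] at h ⊢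
    intro x hx
    exact h x hx
  · intro h
    rw [Submodule.eq_bot_iff] at h ⊢
    intro x hx
    exact h x hx

end ring

end Groth.Agent.Lib.Helper20.GrConv
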