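import Mathlib
import Groth.Prelude.Def_GrLC
import Groth.Prelude.Def_GrSyz
import Groth.Agent.Lib.Helper20.GrWeakReg
import Groth.Agent.Lib.Helper20.GrConv
import Groth.Agent.Lib.Helper20.GrArtin

/-!
# Weak regularity passes to quotients by quasi-regular linear forms: the polynomial ring case
-/

set_option autoImplicit false
set_option linter.unusedSectionVars false
set_option linter.unusedVariables false

universe u

open Pointwise CategoryTheory GrLC Groth.Agent.Lib.Helper20.GrLCBasic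
  Groth.Agent.Lib.Helper20.GrLCQuot Groth.Agent.Lib.Helper20.GrPos
  Groth.Agent.Lib.Helper20.GrArtin Groth.Agent.Lib.Helper20.GrConv

namespace Groth.Agent.Lib.Helper20.GrWeakReg2

section pos

variable {R : Type u} [CommRing R] (𝒜 : ℤ → AddSubgroup R) [GradedRing 𝒜]
  {M : Type u} [AddCommGroup M] [Module R M] (ℳ : ℤ → AddSubgroup M)
  [DirectSum.Decomposition ℳ] [SetLike.GradedSMul 𝒜 ℳ]

/-- a product of `k` homogeneous elements of positive degree is homogeneous of degree `≥ k`. -/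
theorem exists_deg_of_mem_pow {k : ℕ} {c : R}
    (hc : c ∈ ({r : R | ∃ n : ℤ, 0 < n ∧ r ∈ 𝒜 n} : Set R) ^ k) :
    ∃ n : ℤ, (k : ℤ) ≤ n ∧ c ∈ 𝒜 n := by
  induction k generalizing c with
  | zero =>
    rw [pow_zero, Set.mem_one] at hc
    subst hc
    exact ⟨0, le_rfl, SetLike.GradedOne.one_mem (A := 𝒜)⟩
  | succ k ih =>
    rw [pow_succ] at hc
    obtain ⟨a, ha, b, ⟨n, hn, hb⟩, rfl⟩ := Set.mem_mul.1 hc
    obtain ⟨l, hl, hal⟩ := ih ha
    refine ⟨l + n, by push_cast; omega, SetLike.GradedMul.mul_mem (A := 𝒜) hal hb⟩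

include 𝒜 in
/-- a graded module vanishing in large degrees is torsion for the irrelevant ideal. -/
theorem mem_gam_of_eventually_bot (a : Ideal R)
    (ha : a = Ideal.span {r : R | ∃ n : ℤ, 0 < n ∧ r ∈ 𝒜 n}) (n₀ : ℤ)
    (h : ∀ n : ℤ, n₀ ≤ n → ℳ n = ⊥) (m : M) : m ∈ GrLC.gam a M := by
  classical
  induction m using DirectSum.Decomposition.inductionOn ℳ with
  | zero => exact zero_mem _
  | @homogeneous j m =>
    refine ⟨(n₀ - j).toNat, fun c hc => ?_⟩
    have hc' : c ∈ Submodule.span R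
        (({r : R | ∃ n : ℤ, 0 < n ∧ r ∈ 𝒜 n} : Set R) ^ (n₀ - j).toNat) := by
      have := Submodule.span_pow (R := R) ({r : R | ∃ n : ℤ, 0 < n ∧ r ∈ 𝒜 n} : Set R)
        (n₀ - j).toNat
      rw [← this]
      rw [ha] at hc
      exact hc
    refine Submodule.span_induction (p := fun c _ => c • (m : M) = 0) ?_ ?_ ?_ ?_ hc'
    · intro c hcmem
      obtain ⟨l, hl, hcl⟩ := exists_deg_of_mem_pow 𝒜 hcmem
      have hcm : c • (m : M) ∈ ℳ (l + j) :=
        SetLike.GradedSMul.smul_mem (A := 𝒜) (B := ℳ) hcl m.2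
      rw [h _ (by have := Int.self_le_toNat (n₀ - j); omega), AddSubgroup.mem_bot] at hcm
      exact hcm
    · rw [zero_smul]
    · intro x y _ _ hx hy
      rw [add_smul, hx, hy, add_zero]
    · intro r x _ hx
      rw [smul_eq_mul, mul_smul, hx, smul_zero]
  | add m m' hm hm' => exact add_mem hm hm'

include 𝒜 ℳ in
/-- elements killed by a quasi-regular linear form are torsion for the irrelevant ideal. -/
theorem mem_gam_of_isFiniteLength (hpos : ∀ n : ℤ, n < 0 → 𝒜 n = ⊥) (a : Ideal R)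
    (ha : a = Ideal.span {r : R | ∃ n : ℤ, 0 < n ∧ r ∈ 𝒜 n}) (x : R) (hx : x ∈ 𝒜 1)
    (hq : IsFiniteLength R ↥(Submodule.torsionBy R M x)) (m : M) (hm : x • m = 0) :
    m ∈ GrLC.gam a M := by
  classical
  set K : Submodule R M := Submodule.torsionBy R M x with hKdef
  have hxgr : IsGrHom ℳ (shiftGr ℳ 1) (LinearMap.lsmul R M x) := by
    intro n m hm
    have h := SetLike.GradedSMul.smul_mem (A := 𝒜) (B := ℳ) hx hm
    rw [vadd_eq_add, add_comm] at h
    exact h
  have hKker : K = LinearMap.ker (LinearMap.lsmul R M x) := by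
    ext y
    rw [hKdef, Submodule.mem_torsionBy_iff, LinearMap.mem_ker]
    rfl
  have hK : K.IsHomogeneous ℳ := by
    rw [hKker]
    exact ker_isHomogeneous ℳ (shiftGr ℳ 1) (LinearMap.lsmul R M x) hxgr
  letI : DirectSum.Decomposition (subGr ℳ K) := (isInternal_subGr ℳ K hK).chooseDecomposition
  haveI : IsArtinian R ↥K := (isFiniteLength_iff_isNoetherian_isArtinian.1 hq).2
  obtain ⟨n₀, hn₀⟩ := eventually_bot_of_isArtinian 𝒜 (subGr ℳ K) hpos
  have hmK : m ∈ K := by
    rw [hKdef, Submodule.mem_torsionBy_iff]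
    exact hm
  obtain ⟨k, hk⟩ := mem_gam_of_eventually_bot 𝒜 (subGr ℳ K) a ha n₀ hn₀ ⟨m, hmK⟩
  refine ⟨k, fun r hr => ?_⟩
  have := congrArg Subtype.val (hk r hr)
  exact this

end pos

section std

/-- the standard grading of a polynomial ring vanishes in negative degrees. -/
theorem stdGr_eq_bot (k : Type u) [CommRing k] (σ : Type) (n : ℤ) (hn : n < 0)
    (p : MvPolynomial σ k) (hp : p ∈ GrSyz.stdGr k σ n) : p = 0 := by
  classical
  rw [GrSyz.mem_stdGr_iff] at hp
  ext d
  rw [MvPolynomial.coeff_zero]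
  by_contra hd
  have h1 := hp hd
  have h2 : (0 : ℤ) ≤ Finsupp.weight (fun _ : σ => (1 : ℤ)) d := by
    rw [Finsupp.weight_apply]
    exact Finset.sum_nonneg fun i _ => by positivity
  omega

end std

end Groth.Agent.Lib.Helper20.GrWeakReg2
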