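import Mathlib
import Groth.Prelude.Def_GrLC
import Groth.Prelude.Def_GrSyz
import Groth.Agent.Lib.Helper20.GrLCBasic
import Groth.Agent.Lib.Helper20.LenEuler
import Groth.Agent.Lib.Helper20.GrWeakReg2

/-!
# A standard graded ring whose degree-one piece is spanned by `r` elements is a quotient of the
polynomial ring in `r` variables (helper20)
-/

set_option autoImplicit false
set_option linter.unusedSectionVars false
set_option linter.unusedVariables false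
set_option linter.style.haveILetI false

universe u

open DirectSum GrLC Groth.Agent.Lib.Helper20.GrLCBasic Groth.Agent.Lib.Helper20.LenEuler

namespace Groth.Agent.Lib.Helper20.GrPolyIso

variable {R : Type u} [CommRing R] (𝒜 : ℤ → AddSubgroup R) [GradedRing 𝒜] {r : ℕ}
  (ℓ : Fin r → R)

/-- the evaluation map. -/
noncomputable def phi : MvPolynomial (Fin r) (deg0 𝒜) →ₐ[deg0 𝒜] R := MvPolynomial.aeval ℓ

omit [GradedRing 𝒜] in
theorem weight_one' (d : Fin r →₀ ℕ) :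
    Finsupp.weight (fun _ : Fin r => (1 : ℤ)) d = ((∑ i, d i : ℕ) : ℤ) := by
  rw [Finsupp.weight_apply, Finsupp.sum_fintype _ _ (by simp)]
  simp

section mem

variable (hℓ : ∀ i, ℓ i ∈ 𝒜 1)

include hℓ in
theorem phi_monomial_mem (d : Fin r →₀ ℕ) (c : deg0 𝒜) :
    phi 𝒜 ℓ (MvPolynomial.monomial d c) ∈ 𝒜 ((∑ i, d i : ℕ) : ℤ) := by
  classical
  unfold phi
  rw [MvPolynomial.aeval_monomial]
  have h1 : (algebraMap (deg0 𝒜) R c) ∈ 𝒜 0 := c.2
  have h2 : (d.prod fun i e => ℓ i ^ e) ∈ 𝒜 ((∑ i, d i : ℕ) : ℤ) := by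
    rw [Finsupp.prod_fintype _ _ (by intro i; exact pow_zero _)]
    have h3 := SetLike.prod_mem_graded (A := 𝒜) (i := fun j : Fin r => ((d j : ℕ) : ℤ))
      (g := fun j => ℓ j ^ d j) (F := Finset.univ) (fun j _ => by
        have h4 := SetLike.pow_mem_graded (A := 𝒜) (d j) (hℓ j)
        rw [nsmul_eq_mul, mul_one] at h4
        exact h4)
    push_cast
    exact h3
  have h5 := SetLike.GradedMul.mul_mem (A := 𝒜) h1 h2
  rwa [zero_add] at h5

include hℓ in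
/-- `phi` preserves degrees. -/
theorem phi_mem (n : ℤ) (f : MvPolynomial (Fin r) (deg0 𝒜))
    (hf : f ∈ GrSyz.stdGr (deg0 𝒜) (Fin r) n) : phi 𝒜 ℓ f ∈ 𝒜 n := by
  classical
  rw [← MvPolynomial.support_sum_monomial_coeff f, map_sum]
  refine sum_mem fun d hd => ?_
  have hcoef : MvPolynomial.coeff d f ≠ 0 := MvPolynomial.mem_support_iff.1 hd
  have hw : Finsupp.weight (fun _ : Fin r => (1 : ℤ)) d = n :=
    ((GrSyz.mem_stdGr_iff (deg0 𝒜) (Fin r) n f).1 hf) hcoef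
  rw [weight_one'] at hw
  rw [← hw]
  exact phi_monomial_mem 𝒜 ℓ hℓ d _

end mem

section surj

variable (hpos : ∀ n : ℤ, n < 0 → 𝒜 n = ⊥)
  (hstd : Ideal.span (⋃ n ∈ Set.Ioi (0 : ℤ), (𝒜 n : Set R)) =
    Ideal.span ((𝒜 1 : AddSubgroup R) : Set R))
  (hspan : ∀ y ∈ 𝒜 1, ∃ c : Fin r → deg0 𝒜, y = ∑ i, (c i : R) * ℓ i)

include hspan in
theorem exists_preimage_one (y : R) (hy : y ∈ 𝒜 1) :
    ∃ f ∈ GrSyz.stdGr (deg0 𝒜) (Fin r) 1, phi 𝒜 ℓ f = y := by
  classical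
  obtain ⟨c, hc⟩ := hspan y hy
  refine ⟨∑ i, MvPolynomial.C (c i) * MvPolynomial.X i, ?_, ?_⟩
  · refine sum_mem fun i _ => ?_
    rw [GrSyz.mem_stdGr_iff]
    have h1 := MvPolynomial.isWeightedHomogeneous_C (R := deg0 𝒜) (fun _ : Fin r => (1 : ℤ)) (c i)
    have h2 := MvPolynomial.isWeightedHomogeneous_X (deg0 𝒜) (fun _ : Fin r => (1 : ℤ)) i
    have h3 := h1.mul h2
    rwa [zero_add] at h3
  · unfold phi
    rw [map_sum, hc]
    refine Finset.sum_congr rfl fun i _ => ?_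
    rw [map_mul, MvPolynomial.aeval_C, MvPolynomial.aeval_X]
    rfl

include hstd hspan in
theorem exists_preimage : ∀ (n : ℕ) (y : R), y ∈ 𝒜 (n : ℤ) →
    ∃ f ∈ GrSyz.stdGr (deg0 𝒜) (Fin r) (n : ℤ), phi 𝒜 ℓ f = y := by
  classical
  intro n
  induction n with
  | zero =>
    intro y hy
    refine ⟨MvPolynomial.C ⟨y, hy⟩, ?_, ?_⟩
    · rw [GrSyz.mem_stdGr_iff]
      exact MvPolynomial.isWeightedHomogeneous_C _ _
    · unfold phi
      rw [MvPolynomial.aeval_C]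
      rfl
  | succ n ih =>
    intro y hy
    have hy' : y ∈ Ideal.span ((𝒜 1 : AddSubgroup R) : Set R) := by
      rw [← hstd]
      apply Ideal.subset_span
      exact Set.mem_iUnion₂.2 ⟨((n + 1 : ℕ) : ℤ), by
        rw [Set.mem_Ioi]; exact_mod_cast Nat.succ_pos n, hy⟩
    obtain ⟨N, s, z, hsum⟩ := (Submodule.mem_span_set').1 hy'
    have hz : ∀ j, ((z j : ((𝒜 1 : AddSubgroup R) : Set R)) : R) ∈ 𝒜 1 := fun j => (z j).2
    have hy2 : y = ∑ j, ((decompose 𝒜 (s j) (n : ℤ) : 𝒜 (n : ℤ)) : R) * (z j : R) := by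
      have h1 : y = ((decompose 𝒜 y ((n : ℤ) + 1) : 𝒜 ((n : ℤ) + 1)) : R) := by
        rw [decompose_of_mem_same 𝒜 (by push_cast at hy; exact hy)]
      rw [h1, ← hsum, decompose_sum, DFinsupp.finsetSum_apply, AddSubmonoidClass.coe_finsetSum]
      refine Finset.sum_congr rfl fun j _ => ?_
      rw [decompose_smul_right 𝒜 𝒜 (hz j) (s j) (n : ℤ)]
      rfl
    choose g hg hgφ using fun j => ih _ (SetLike.coe_mem (decompose 𝒜 (s j) (n : ℤ)))
    choose w hw hwφ using fun j => exists_preimage_one 𝒜 ℓ hspan _ (hz j)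
    refine ⟨∑ j, g j * w j, ?_, ?_⟩
    · refine sum_mem fun j _ => ?_
      have := SetLike.GradedMul.mul_mem (A := GrSyz.stdGr (deg0 𝒜) (Fin r)) (hg j) (hw j)
      push_cast
      exact this
    · rw [map_sum, hy2]
      refine Finset.sum_congr rfl fun j _ => ?_
      rw [map_mul, hgφ j, hwφ j]

include hpos hstd hspan in
theorem phi_surjective : Function.Surjective (phi 𝒜 ℓ) := by
  classical
  intro y
  rw [← DirectSum.sum_support_decompose 𝒜 y]
  have : ∀ i : ℤ, ∃ f, phi 𝒜 ℓ f = ((decompose 𝒜 y i : 𝒜 i) : R) := by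
    intro i
    by_cases hi : i < 0
    · refine ⟨0, ?_⟩
      have h4 : ((decompose 𝒜 y i : 𝒜 i) : R) ∈ (⊥ : AddSubgroup R) :=
        (hpos i hi).le (SetLike.coe_mem _)
      rw [(AddSubgroup.mem_bot).1 h4, map_zero]
    · obtain ⟨N, rfl⟩ := Int.eq_ofNat_of_zero_le (not_lt.1 hi)
      obtain ⟨f, -, hf⟩ := exists_preimage 𝒜 ℓ hstd hspan N _ (SetLike.coe_mem (decompose 𝒜 y N))
      exact ⟨f, hf⟩
  choose f hf using this
  refine ⟨∑ i ∈ (decompose 𝒜 y).support, f i, ?_⟩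
  rw [map_sum]
  exact Finset.sum_congr rfl fun i _ => hf i

end surj

section inj

variable (h0 : IsField (deg0 𝒜))

include h0 in
/-- over a degree-zero field, a surjection from the polynomial ring in `dim R` variables is
injective. -/
theorem phi_injective (hsurj : Function.Surjective (phi 𝒜 ℓ))
    (hr : ringKrullDim R = ((r : ℕ) : WithBot ℕ∞)) : Function.Injective (phi 𝒜 ℓ) := by
  classical
  letI : Field (deg0 𝒜) := h0.toField
  rw [injective_iff_map_eq_zero]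
  intro f hf
  by_contra hne
  have hdimA : ringKrullDim (MvPolynomial (Fin r) (deg0 𝒜)) = ((r : ℕ) : WithBot ℕ∞) := by
    rw [MvPolynomial.ringKrullDim_of_isNoetherianRing, ringKrullDim_eq_zero_of_field, zero_add,
      Nat.card_eq_fintype_card, Fintype.card_fin]
  have hnzd : f ∈ nonZeroDivisors (MvPolynomial (Fin r) (deg0 𝒜)) :=
    mem_nonZeroDivisors_of_ne_zero hne
  have h1 := ringKrullDim_quotient_succ_le_of_nonZeroDivisor hnzd
  let ψ : (MvPolynomial (Fin r) (deg0 𝒜) ⧸ Ideal.span {f}) →+* R :=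
    Ideal.Quotient.lift (Ideal.span {f}) (phi 𝒜 ℓ).toRingHom (by
      intro a ha
      obtain ⟨b, rfl⟩ := Ideal.mem_span_singleton'.1 ha
      show phi 𝒜 ℓ (b * f) = 0
      rw [map_mul, hf, mul_zero])
  have hψ : Function.Surjective ψ := by
    intro y
    obtain ⟨g, rfl⟩ := hsurj y
    exact ⟨Ideal.Quotient.mk _ g, rfl⟩
  have h2 := ringKrullDim_le_of_surjective
    (R := MvPolynomial (Fin r) (deg0 𝒜) ⧸ Ideal.span {f}) (S := R) ψ hψ
  rw [hr] at h2
  rw [hdimA] at h1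
  have h3 : ((r : ℕ) : WithBot ℕ∞) + 1 ≤ ((r : ℕ) : WithBot ℕ∞) :=
    le_trans (add_le_add_left h2 1) h1
  have h4 : r + 1 ≤ r := by exact_mod_cast h3
  omega

variable (hℓ : ∀ i, ℓ i ∈ 𝒜 1) (hpos : ∀ n : ℤ, n < 0 → 𝒜 n = ⊥)
  (hstd : Ideal.span (⋃ n ∈ Set.Ioi (0 : ℤ), (𝒜 n : Set R)) =
    Ideal.span ((𝒜 1 : AddSubgroup R) : Set R))
  (hspan : ∀ y ∈ 𝒜 1, ∃ c : Fin r → deg0 𝒜, y = ∑ i, (c i : R) * ℓ i)

include hℓ hpos hstd hspan in
/-- the graded pieces correspond. -/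
theorem nonempty_equiv (hinj : Function.Injective (phi 𝒜 ℓ)) (n : ℤ) :
    Nonempty (GrSyz.stdGr (deg0 𝒜) (Fin r) n ≃ₗ[deg0 𝒜] comp 𝒜 𝒜 n) := by
  classical
  let φn : GrSyz.stdGr (deg0 𝒜) (Fin r) n →ₗ[deg0 𝒜] comp 𝒜 𝒜 n :=
    ((phi 𝒜 ℓ).toLinearMap).restrict (p := GrSyz.stdGr (deg0 𝒜) (Fin r) n) (q := comp 𝒜 𝒜 n)
      (fun f hf => phi_mem 𝒜 ℓ hℓ n f hf)
  refine ⟨LinearEquiv.ofBijective φn ⟨?_, ?_⟩⟩
  · intro f g hfg
    apply Subtype.ext
    apply hinj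
    exact congrArg Subtype.val hfg
  · intro y
    by_cases hn : n < 0
    · refine ⟨0, ?_⟩
      apply Subtype.ext
      have hy : (y : R) ∈ 𝒜 n := y.2
      rw [hpos n hn, AddSubgroup.mem_bot] at hy
      rw [hy, map_zero]
      rfl
    · obtain ⟨N, rfl⟩ := Int.eq_ofNat_of_zero_le (not_lt.1 hn)
      obtain ⟨f, hf, hfy⟩ := exists_preimage 𝒜 ℓ hstd hspan N y.1 y.2
      exact ⟨⟨f, hf⟩, Subtype.ext hfy⟩

end inj

end Groth.Agent.Lib.Helper20.GrPolyIso
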