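import Mathlib
import Groth.Prelude.Def_GrLC
import Groth.Agent.Lib.Helper20.GrAinvPoly
import Groth.Agent.Lib.Helper20.GrPolyIso
import Groth.Agent.Lib.Helper20.GrPolyAbs
import Groth.Agent.Lib.Helper22.GrHilb
import Groth.Agent.S17771

/-!
# a(R) = -dim R iff R is a polynomial ring (Cohen–Macaulay standard graded over a field) (helper20)
-/

set_option autoImplicit false
set_option linter.unusedSectionVars false
set_option linter.unusedVariables false
set_option linter.style.haveILetI false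

universe u

open DirectSum GrLC Groth.Agent.Lib.Helper20.LenEuler Groth.Agent.Lib.Helper20.GrHilbDeg
  Groth.Agent.Lib.Helper20.GrAinvPoly Groth.Agent.Lib.Helper20.GrPolyIso

namespace Groth.Agent.Lib.Helper20.GrAinvPoly2

/-- the Hilbert polynomial of the polynomial ring in `r` variables. -/
noncomputable def Pr : ℕ → Polynomial ℚ
  | 0 => 0
  | (r' + 1) => Groth.Agent.Lib.Helper22.GrHilb.Qpoly r'

variable {R : Type u} [CommRing R] (𝒜 : ℤ → AddSubgroup R)
  [GradedRing 𝒜] (hpos : ∀ n : ℤ, n < 0 → 𝒜 n = ⊥)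
  (hstd : Ideal.span (⋃ n ∈ Set.Ioi (0 : ℤ), (𝒜 n : Set R)) =
    Ideal.span ((𝒜 1 : AddSubgroup R) : Set R))
  (h0 : IsField (deg0 𝒜)) {r : ℕ} (hr : ringKrullDim R = r)
  (ℓ : Fin r → R) (hℓ : ∀ i, ℓ i ∈ 𝒜 1)
  (hspan : ∀ y ∈ 𝒜 1, ∃ c : Fin r → deg0 𝒜, y = ∑ i, (c i : R) * ℓ i)

include hpos hstd h0 hr hℓ hspan in
/-- the Hilbert function of a ring with `r = dim R` linear generators over a field. -/
theorem len_eq_of_spanning (n : ℤ) (hn : -(r : ℤ) < n) :
    len (deg0 𝒜) (comp 𝒜 𝒜 n) = (Pr r).eval (n : ℚ) := by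
  classical
  letI : Field (deg0 𝒜) := h0.toField
  cases r with
  | zero =>
    have h1 : (𝒜 1 : AddSubgroup R) = ⊥ := by
      rw [eq_bot_iff]
      intro y hy
      obtain ⟨c, hc⟩ := hspan y hy
      rw [AddSubgroup.mem_bot, hc]
      simp
    have h2 : 𝒜 n = ⊥ := by
      rw [eq_bot_iff]
      intro y hy
      have h3 : y ∈ Ideal.span (⋃ n ∈ Set.Ioi (0 : ℤ), (𝒜 n : Set R)) :=
        Ideal.subset_span (Set.mem_iUnion₂.2 ⟨n, by
          rw [Set.mem_Ioi]
          push_cast at hn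
          omega, hy⟩)
      rw [hstd, h1] at h3
      have h4 : Ideal.span (((⊥ : AddSubgroup R) : Set R)) = (⊥ : Ideal R) := by
        rw [Ideal.span_eq_bot]
        intro x hx
        exact (AddSubgroup.mem_bot).1 hx
      rw [h4] at h3
      exact (AddSubgroup.mem_bot).2 ((Submodule.mem_bot R).1 h3)
    haveI : Subsingleton (comp 𝒜 𝒜 n) := by
      constructor
      intro x y
      apply Subtype.ext
      have hx : (x : R) ∈ 𝒜 n := x.2
      have hy : (y : R) ∈ 𝒜 n := y.2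
      rw [h2, AddSubgroup.mem_bot] at hx hy
      rw [hx, hy]
    rw [len_of_subsingleton]
    show (0 : ℚ) = (0 : Polynomial ℚ).eval _
    rw [Polynomial.eval_zero]
  | succ r' =>
    have hsurj := phi_surjective 𝒜 ℓ hpos hstd hspan
    have hinj := phi_injective 𝒜 ℓ h0 hsurj hr
    obtain ⟨e⟩ := nonempty_equiv 𝒜 ℓ hℓ hpos hstd hspan hinj n
    rw [← len_congr e]
    haveI := Groth.Agent.Lib.Helper22.GrHilb.finiteDimensional_stdGr (deg0 𝒜) r' n
    have h1 : len (deg0 𝒜) (GrSyz.stdGr (deg0 𝒜) (Fin (r' + 1)) n) =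
        (Module.finrank (deg0 𝒜) (GrSyz.stdGr (deg0 𝒜) (Fin (r' + 1)) n) : ℚ) := by
      unfold len
      rw [Module.length_eq_finrank]
      simp
    rw [h1, Groth.Agent.Lib.Helper22.GrHilb.finrank_stdGr (deg0 𝒜) r' n]
    show _ = (Groth.Agent.Lib.Helper22.GrHilb.Qpoly r').eval _
    rw [Groth.Agent.Lib.Helper22.GrHilb.Qpoly_eval r' n (by push_cast at hn; omega)]
    split_ifs <;> simp

include hpos hstd h0 hr hℓ hspan in
theorem isHP_Pr : IsHP 𝒜 𝒜 (Pr r) :=
  ⟨1, fun n hn => (len_eq_of_spanning 𝒜 hpos hstd h0 hr ℓ hℓ hspan n (by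
    have : (0 : ℤ) ≤ (r : ℤ) := Int.natCast_nonneg r
    omega)).symm⟩

end Groth.Agent.Lib.Helper20.GrAinvPoly2
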