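import Mathlib
import Groth.Prelude.Def_GrLC
import Groth.Agent.Lib.Helper20.GrHilbDeg
import Groth.Agent.Lib.Helper20.GrHeight2
import Groth.Agent.Lib.Helper20.GrChop2
import Groth.Agent.S12525
import Groth.Agent.Lib.Helper20.GrWeakReg2

/-!
# Linear regular sequences over a `*`local ring with infinite residue field, and generation in
degrees up to the regularity (helper20)
-/

set_option autoImplicit false
set_option linter.unusedSectionVars false
set_option linter.unusedVariables false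
set_option linter.style.haveILetI false

universe u

open DirectSum GrLC Groth.Agent.Lib.Helper20.GrLCBasic Groth.Agent.Lib.Helper20.GrLCQuot
  Groth.Agent.Lib.Helper20.GrVan Groth.Agent.Lib.Helper20.GrHilbDeg

namespace Groth.Agent.Lib.Helper20.GrRegLin

open Pointwise

section localRing

variable {R : Type u} [CommRing R] [IsNoetherianRing R] (𝒜 : ℤ → AddSubgroup R) [GradedRing 𝒜]
  (hpos : ∀ n : ℤ, n < 0 → 𝒜 n = ⊥) (m : HomogeneousIdeal 𝒜) (hm : IsStarLocal 𝒜 m)

include hm in
/-- degree-zero elements outside the `*`maximal ideal are units of `R_0`. -/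
theorem isUnit_of_notMem (c : 𝒜 0) (hc : (c : R) ∉ m.toIdeal) : IsUnit c := by
  classical
  let J : HomogeneousIdeal 𝒜 := ⟨Ideal.span {(c : R)}, Ideal.homogeneous_span 𝒜 _ (by
    intro x hx
    rw [Set.mem_singleton_iff] at hx
    rw [hx]
    exact ⟨0, c.2⟩)⟩
  have hJ : J = ⊤ := by
    by_contra hne
    have hle := Groth.Agent.Lib.Helper20.GrHeight2.le_of_isStarLocal 𝒜 m hm J hne
    apply hc
    exact hle (Ideal.subset_span rfl)
  have h1 : (1 : R) ∈ Ideal.span {(c : R)} := by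
    have : J.toIdeal = ⊤ := by rw [hJ]; rfl
    have h2 : Ideal.span {(c : R)} = ⊤ := this
    rw [h2]
    trivial
  obtain ⟨b, hb⟩ := Ideal.mem_span_singleton'.1 h1
  -- the degree zero component of `b` is the inverse
  have h3 : ((decompose 𝒜 (b * (c : R)) (0 + 0) : 𝒜 (0 + 0)) : R) =
      ((decompose 𝒜 b 0 : 𝒜 0) : R) * (c : R) := by
    have := decompose_smul_right 𝒜 𝒜 c.2 b 0
    rw [smul_eq_mul, smul_eq_mul] at this
    exact this
  have h4 : ((decompose 𝒜 b 0 : 𝒜 0) : R) * (c : R) = 1 := by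
    rw [← h3, hb]
    have h5 : ((decompose 𝒜 (1 : R) (0 + 0) : 𝒜 (0 + 0)) : R) =
        ((decompose 𝒜 (1 : R) 0 : 𝒜 0) : R) := by
      congr 1 <;> simp
    rw [h5, decompose_of_mem_same 𝒜 (SetLike.GradedOne.one_mem (A := 𝒜))]
  refine isUnit_iff_exists_inv'.2 ⟨decompose 𝒜 b 0, ?_⟩
  apply Subtype.ext
  exact h4

include hm in
theorem isLocalRing_zero : IsLocalRing (𝒜 0) := by
  haveI : Nontrivial (𝒜 0) := by
    refine ⟨⟨0, 1, fun h => ?_⟩⟩
    have h1 : (0 : R) = 1 := congrArg Subtype.val h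
    apply hm.1.1
    apply HomogeneousIdeal.toIdeal_injective
    rw [HomogeneousIdeal.toIdeal_top, Ideal.eq_top_iff_one, ← h1]
    exact zero_mem _
  apply IsLocalRing.of_isUnit_or_isUnit_one_sub_self
  intro c
  by_cases hc : (c : R) ∈ m.toIdeal
  · right
    apply isUnit_of_notMem 𝒜 m hm
    intro h1
    apply hm.1.1
    apply HomogeneousIdeal.toIdeal_injective
    rw [HomogeneousIdeal.toIdeal_top, Ideal.eq_top_iff_one]
    have h2 : ((1 - c : 𝒜 0) : R) = 1 - (c : R) := rfl
    rw [h2] at h1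
    have := m.toIdeal.add_mem h1 hc
    rwa [sub_add_cancel] at this
  · left
    exact isUnit_of_notMem 𝒜 m hm c hc

include hpos hm in
theorem infinite_residueField [IsLocalRing (𝒜 0)] (hinf : Infinite (R ⧸ m.toIdeal)) :
    Infinite (IsLocalRing.ResidueField (𝒜 0)) := by
  classical
  let ψ : 𝒜 0 →+* R ⧸ m.toIdeal := (Ideal.Quotient.mk m.toIdeal).comp (algebraMap (𝒜 0) R)
  have hψ : ∀ c ∈ IsLocalRing.maximalIdeal (𝒜 0), ψ c = 0 := by
    intro c hc
    show Ideal.Quotient.mk m.toIdeal (c : R) = 0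
    rw [Ideal.Quotient.eq_zero_iff_mem]
    by_contra hne
    exact (IsLocalRing.mem_maximalIdeal c).1 hc (isUnit_of_notMem 𝒜 m hm c hne)
  let Ψ : IsLocalRing.ResidueField (𝒜 0) →+* R ⧸ m.toIdeal :=
    Ideal.Quotient.lift (IsLocalRing.maximalIdeal (𝒜 0)) ψ hψ
  have hΨ : Function.Surjective Ψ := by
    intro y
    obtain ⟨x, rfl⟩ := Ideal.Quotient.mk_surjective y
    refine ⟨Ideal.Quotient.mk _ (decompose 𝒜 x 0), ?_⟩
    show Ideal.Quotient.mk m.toIdeal ((decompose 𝒜 x 0 : 𝒜 0) : R) = Ideal.Quotient.mk m.toIdeal x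
    rw [Ideal.Quotient.eq]
    have := Groth.Agent.Lib.Helper20.GrArtin.sub_decompose_zero_mem 𝒜 hpos m hm.1 x
    have h2 := m.toIdeal.neg_mem this
    rwa [neg_sub] at h2
  exact Infinite.of_surjective Ψ hΨ

end localRing

section claim

variable {R : Type u} [CommRing R] [IsNoetherianRing R] {𝒜 : ℤ → AddSubgroup R} [GradedRing 𝒜]
  [IsLocalRing (𝒜 0)] [Infinite (IsLocalRing.ResidueField (𝒜 0))]
  (hpos : ∀ n : ℤ, n < 0 → 𝒜 n = ⊥) (a : HomogeneousIdeal 𝒜)
  (ha : a.toIdeal = Ideal.span (⋃ n ∈ Set.Ioi (0 : ℤ), (𝒜 n : Set R)))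
  (hhom : a.toIdeal = Ideal.span ((𝒜 1 : AddSubgroup R) : Set R))

omit [IsLocalRing (𝒜 0)] [Infinite (IsLocalRing.ResidueField (𝒜 0))] in
/-- a module without `H^0` has no torsion. -/
theorem eq_zero_of_mem_gam {M : Type u} [AddCommGroup M] [Module R M] (ℳ : ℤ → AddSubgroup M)
    [DirectSum.Decomposition ℳ] [SetLike.GradedSMul 𝒜 ℳ] (E : StarInjRes 𝒜 ℳ)
    (h0 : Subsingleton (E.H a 0)) (z : M) (hz : z ∈ gam a.toIdeal M) : z = 0 := by
  classical
  have hΓ : (gam a.toIdeal M).IsHomogeneous ℳ := Groth.Agent.S13225.gam_isHomogeneous 𝒜 ℳ a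
  rw [← DirectSum.sum_support_decompose ℳ z]
  refine Finset.sum_eq_zero fun n _ => ?_
  have hv : Van a ℳ 0 n := by
    apply van_of_Hcomp_eq_bot a E 0 n
    rw [Submodule.eq_bot_iff]
    intro y _
    exact Subsingleton.elim _ _
  exact Groth.Agent.Lib.Helper20.GrChop.eq_zero_of_van_zero a ℳ hv (SetLike.coe_mem _) (hΓ n hz)

include hhom in
/-- a homogeneous linear nonzerodivisor on a module without torsion. -/
theorem exists_linear_regular {M : Type u} [AddCommGroup M] [Module R M] [Module.Finite R M]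
    (htf : ∀ z : M, z ∈ gam a.toIdeal M → z = 0) :
    ∃ x : R, x ∈ 𝒜 1 ∧ x ∈ a.toIdeal ∧ IsSMulRegular M x := by
  classical
  have hfin : (associatedPrimes R M).Finite := associatedPrimes.finite R M
  let S : Finset (Ideal R) := hfin.toFinset
  let b : Fin S.card → Ideal R := fun i => (S.equivFin.symm i : Ideal R)
  have ha' : Ideal.span ((a.toIdeal : Set R) ∩ (𝒜 1 : Set R)) = a.toIdeal := by
    apply le_antisymm
    · rw [Ideal.span_le]
      exact fun x hx => hx.1
    · conv_lhs => rw [hhom]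
      rw [Ideal.span_le]
      intro x hx
      refine Ideal.subset_span ⟨?_, hx⟩
      rw [hhom]
      exact Ideal.subset_span hx
  have hb : ∀ i, ¬ a.toIdeal ≤ b i := by
    intro i hle
    have hP : b i ∈ associatedPrimes R M := hfin.mem_toFinset.1 (S.equivFin.symm i).2
    obtain ⟨hprime, z, hz⟩ := isAssociatedPrime_iff.1 hP
    have hz0 : z = 0 := by
      apply htf
      refine ⟨1, fun r hr => ?_⟩
      rw [pow_one] at hr
      have : r ∈ b i := hle hr
      rw [hz, Submodule.mem_colon_singleton, Submodule.mem_bot] at this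
      exact this
    subst hz0
    apply hprime.ne_top
    rw [hz, eq_top_iff]
    intro r _
    rw [Submodule.mem_colon_singleton, smul_zero]
    exact Submodule.zero_mem _
  obtain ⟨x, hx1, hxa, hxb⟩ := Groth.Agent.S12525.result R 𝒜 a.toIdeal ha' S.card b hb
  refine ⟨x, hx1, hxa, ?_⟩
  by_contra hreg
  have h1 : x ∈ ({r : R | IsSMulRegular M r})ᶜ := hreg
  rw [← biUnion_associatedPrimes_eq_compl_regular R M] at h1
  obtain ⟨P, hP, hxP⟩ := Set.mem_iUnion₂.1 h1
  have hPS : P ∈ S := hfin.mem_toFinset.2 hP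
  apply hxb (S.equivFin ⟨P, hPS⟩)
  show x ∈ ((S.equivFin.symm (S.equivFin ⟨P, hPS⟩) : S) : Ideal R)
  rw [Equiv.symm_apply_apply]
  exact hxP

omit [IsLocalRing (𝒜 0)] [Infinite (IsLocalRing.ResidueField (𝒜 0))] [IsNoetherianRing R] in
theorem Hcomp_eq_bot_of_Hgr {M : Type u} [AddCommGroup M] [Module R M] {ℳ : ℤ → AddSubgroup M}
    [DirectSum.Decomposition ℳ] [SetLike.GradedSMul 𝒜 ℳ] (E : StarInjRes 𝒜 ℳ) (i : ℕ) (n : ℤ)
    (h : E.Hgr a i n = ⊥) : E.Hcomp a i n = ⊥ := by
  rw [Submodule.eq_bot_iff]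
  intro y hy
  have : y ∈ E.Hgr a i n := hy
  rw [h] at this
  exact (AddSubgroup.mem_bot).1 this

include hpos ha hhom in
/-- **generation up to the regularity by a linear system of parameters**: a graded module of
dimension `≤ t` whose local cohomology is concentrated in degree `t` with end `≤ c - t` satisfies
`M_n ⊆ (x_1, …, x_t) M` for `n > c`, for suitable linear forms `x_i`. -/
theorem claim : ∀ (t : ℕ) (M : Type u) [AddCommGroup M] [Module R M] [Module.Finite R M]
    (ℳ : ℤ → AddSubgroup M) [DirectSum.Decomposition ℳ] [SetLike.GradedSMul 𝒜 ℳ]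
    (E : StarInjRes 𝒜 ℳ) (c : ℤ),
    (∀ i < t, Subsingleton (E.H a i)) → Module.supportDim R M ≤ ((t : ℕ) : WithBot ℕ∞) →
    endDeg (E.Hgr a t) ≤ (((c - (t : ℤ) : ℤ) : WithTop ℤ) : WithBot (WithTop ℤ)) →
    ∃ x : Fin t → R, (∀ i, x i ∈ 𝒜 1) ∧
      ∀ n : ℤ, c < n → ∀ z ∈ ℳ n, z ∈ Ideal.span (Set.range x) • (⊤ : Submodule R M) := by
  classical
  have ha'' : a.toIdeal = Ideal.span {r : R | ∃ n : ℤ, 0 < n ∧ r ∈ 𝒜 n} := by
    rw [ha]
    congr 1
    ext r
    simp only [Set.mem_ofPred_eq, Set.mem_iUnion, Set.mem_Ioi, SetLike.mem_coe, exists_prop]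
  intro t
  induction t with
  | zero =>
    intro M _ _ _ ℳ _ _ E c hvan hdim hend
    obtain ⟨n₀, hn₀⟩ := eventually_bot_of_supportDim_le_zero hpos ℳ (by simpa using hdim)
    refine ⟨Fin.elim0, fun i => i.elim0, fun n hn z hz => ?_⟩
    have hz0 : z = 0 := by
      have hv : Van a ℳ 0 n := by
        apply van_of_Hcomp_eq_bot a E 0 n
        apply Hcomp_eq_bot_of_Hgr
        have h1 : c - ((0 : ℕ) : ℤ) = c := by simp
        rw [h1] at hend
        exact (Groth.Agent.Lib.Helper20.GrReg1.endDeg_le_iff (E.Hgr a 0) c).1 hend n hn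
      exact Groth.Agent.Lib.Helper20.GrChop.eq_zero_of_van_zero a ℳ hv hz
        (Groth.Agent.Lib.Helper20.GrWeakReg2.mem_gam_of_eventually_bot 𝒜 ℳ a.toIdeal ha'' n₀ hn₀ z)
    rw [hz0]
    exact zero_mem _
  | succ t ih =>
    intro M _ _ _ ℳ _ _ E c hvan hdim hend
    have htf : ∀ z : M, z ∈ gam a.toIdeal M → z = 0 :=
      fun z hz => eq_zero_of_mem_gam a ℳ E (hvan 0 (Nat.succ_pos t)) z hz
    obtain ⟨x, hx1, hxa, hreg⟩ := exists_linear_regular a hhom htf
    have hPr : (x • (⊤ : Submodule R M)) = LinearMap.range (LinearMap.lsmul R M x) :=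
      Groth.Agent.Lib.Helper20.GrAinv.smul_top_eq_range x
    have hPh : (x • (⊤ : Submodule R M)).IsHomogeneous ℳ := by
      rw [hPr]
      exact Groth.Agent.Lib.Helper20.GrFin2.range_lsmul_isHomogeneous hx1
    letI : DirectSum.Decomposition (GrLCQuot.quotGr ℳ (x • (⊤ : Submodule R M))) :=
      (isInternal_quotGr _ _ hPh).chooseDecomposition
    obtain ⟨F⟩ := Groth.Agent.S13215.result R 𝒜 (M ⧸ (x • (⊤ : Submodule R M)))
      (GrLCQuot.quotGr ℳ (x • (⊤ : Submodule R M)))
    have hker : LinearMap.ker (x • (⊤ : Submodule R M)).mkQ =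
        LinearMap.range (LinearMap.lsmul R M x) := by
      rw [Submodule.ker_mkQ, hPr]
    have hvan' : ∀ i < t, Subsingleton (F.H a i) :=
      Groth.Agent.Lib.Helper20.GrAinv.subsingleton_quot a E F x 1 hx1 hreg
        (x • (⊤ : Submodule R M)).mkQ (Submodule.mkQ_surjective _) (mkQ_isGrHom ℳ _) hker t hvan
    have hdim' : Module.supportDim R (M ⧸ (x • (⊤ : Submodule R M))) ≤
        ((t : ℕ) : WithBot ℕ∞) := by
      apply le_of_add_one_le
      refine le_trans
        (Module.supportDim_quotSMulTop_succ_le_of_notMem_minimalPrimes (x := x) ?_) hdim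
      intro p hp hxp
      have hass := Module.associatedPrimes.minimalPrimes_annihilator_subset_associatedPrimes R M hp
      have hx' : x ∈ ({r : R | IsSMulRegular M r})ᶜ := by
        rw [← biUnion_associatedPrimes_eq_compl_regular R M]
        exact Set.mem_iUnion₂.2 ⟨p, hass, hxp⟩
      exact hx' hreg
    have hend' : endDeg (F.Hgr a t) ≤
        (((c - (t : ℤ) : ℤ) : WithTop ℤ) : WithBot (WithTop ℤ)) := by
      rw [Groth.Agent.Lib.Helper20.GrAinv.endDeg_quot a hpos E F x 1 hx1 hxa hreg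
        (x • (⊤ : Submodule R M)).mkQ (Submodule.mkQ_surjective _) (mkQ_isGrHom ℳ _) hker t
        (hvan t (Nat.lt_succ_self t))]
      rw [Groth.Agent.Lib.Helper20.GrChop2.add_coe_le_iff]
      have h1 : c - (t : ℤ) - 1 = c - ((t + 1 : ℕ) : ℤ) := by push_cast; ring
      rw [h1]
      exact hend
    obtain ⟨x', hx', hgen⟩ := ih (M ⧸ (x • (⊤ : Submodule R M)))
      (GrLCQuot.quotGr ℳ (x • (⊤ : Submodule R M))) F c hvan' hdim' hend'
    refine ⟨Fin.cons x x', ?_, ?_⟩
    · intro i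
      refine Fin.cases ?_ (fun j => ?_) i
      · simpa using hx1
      · simpa using hx' j
    · intro n hn z hz
      have h1 := hgen n hn ((x • (⊤ : Submodule R M)).mkQ z) (mkQ_mem_quotGr ℳ _ hz)
      have h2 : Ideal.span (Set.range x') • (⊤ : Submodule R (M ⧸ (x • (⊤ : Submodule R M)))) =
          (Ideal.span (Set.range x') • (⊤ : Submodule R M)).map
            (x • (⊤ : Submodule R M)).mkQ := by
        rw [Submodule.map_smul'', Submodule.map_top, Submodule.range_mkQ]
      rw [h2] at h1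
      obtain ⟨w, hw, hwz⟩ := h1
      have hle1 : Ideal.span (Set.range x') • (⊤ : Submodule R M) ≤
          Ideal.span (Set.range (Fin.cons x x' : Fin (t + 1) → R)) • (⊤ : Submodule R M) := by
        apply Submodule.smul_mono_left
        apply Ideal.span_mono
        rintro _ ⟨j, rfl⟩
        exact ⟨j.succ, by simp⟩
      have hle2 : (x • (⊤ : Submodule R M)) ≤
          Ideal.span (Set.range (Fin.cons x x' : Fin (t + 1) → R)) • (⊤ : Submodule R M) := by
        intro y hy
        obtain ⟨y', -, rfl⟩ := (Submodule.mem_smul_pointwise_iff_exists _ _ _).1 hy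
        exact Submodule.smul_mem_smul (Ideal.subset_span ⟨0, by simp⟩) Submodule.mem_top
      have h3 : z - w ∈ (x • (⊤ : Submodule R M)) := by
        rw [← Submodule.ker_mkQ (x • (⊤ : Submodule R M)), LinearMap.mem_ker, map_sub, hwz,
          sub_self]
      have h4 := add_mem (hle2 h3) (hle1 hw)
      rwa [sub_add_cancel] at h4

end claim

end Groth.Agent.Lib.Helper20.GrRegLin
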