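import Mathlib
import Groth.Prelude.Def_GrLC
import Groth.Agent.Lib.Helper20.GrAinvPoly2
import Groth.Agent.Lib.Helper20.GrRegLin

/-!
# a(R) = -d implies R = R_0[T_1, …, T_d] (Artinian local base, infinite residue field) (helper20)
-/

set_option autoImplicit false
set_option linter.unusedSectionVars false
set_option linter.unusedVariables false
set_option linter.style.haveILetI false

universe u

open DirectSum GrLC Groth.Agent.Lib.Helper20.LenEuler Groth.Agent.Lib.Helper20.GrHilbDeg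
  Groth.Agent.Lib.Helper20.GrAinvPoly Groth.Agent.Lib.Helper20.GrPolyIso
  Groth.Agent.Lib.Helper20.GrAinvPoly2 Groth.Agent.Lib.Helper20.GrLCBasic

namespace Groth.Agent.Lib.Helper20.GrAinvPoly3

section general

theorem injective_of_surjective_of_length_eq {S : Type*} [Ring S] {X Y : Type*} [AddCommGroup X]
    [Module S X] [AddCommGroup Y] [Module S Y] (f : X →ₗ[S] Y) (hf : Function.Surjective f)
    (hY : Module.length S Y ≠ ⊤) (h : Module.length S X = Module.length S Y) :
    Function.Injective f := by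
  have h1 := Module.length_eq_add_of_exact (LinearMap.ker f).subtype f
    (Submodule.injective_subtype _) hf (LinearMap.exact_subtype_ker_map f)
  rw [h] at h1
  have h2 : Module.length S (LinearMap.ker f) = 0 := by
    have h3 : Module.length S (LinearMap.ker f) + Module.length S Y = 0 + Module.length S Y := by
      rw [zero_add]
      exact h1.symm
    exact WithTop.add_right_cancel hY h3
  have h4 : Subsingleton (LinearMap.ker f) := Module.length_eq_zero_iff.1 h2
  rw [← LinearMap.ker_eq_bot, Submodule.eq_bot_iff]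
  intro x hx
  have := Subsingleton.elim (⟨x, hx⟩ : LinearMap.ker f) 0
  exact congrArg Subtype.val this

/-- the length of a piece of the standard graded polynomial ring. -/
theorem length_stdGr (k : Type u) [CommRing k] (r' : ℕ) (n : ℤ) :
    Module.length k (GrSyz.stdGr k (Fin (r' + 1)) n) =
      ((if 0 ≤ n then Nat.choose (r' + n.toNat) r' else 0 : ℕ) : ℕ∞) * Module.length k k := by
  classical
  unfold GrSyz.stdGr
  rw [MvPolynomial.weightedHomogeneousSubmodule_eq_finsupp_supported,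
    Groth.Agent.Lib.Helper22.GrHilb.setOf_weight_eq]
  by_cases h : 0 ≤ n
  · rw [if_pos h, if_pos h]
    rw [(AddMonoidAlgebra.supportedEquivFinsupp
      (((Finset.univ : Finset (Fin (r' + 1))).finsuppAntidiag n.toNat : Finset _) :
        Set (Fin (r' + 1) →₀ ℕ))).length_eq, Module.length_finsupp]
    congr 1
    rw [ENat.card_coe_set_eq, Set.encard_coe_eq_coe_finsetCard,
      Finset.card_finsuppAntidiag_nat_eq_choose]
    simp only [Finset.card_univ, Fintype.card_fin]
    rw [show r' + 1 + n.toNat - 1 = r' + n.toNat by omega, Nat.choose_symm_add]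
  · rw [if_neg h, if_neg h]
    rw [(AddMonoidAlgebra.supportedEquivFinsupp (∅ : Set (Fin (r' + 1) →₀ ℕ))).length_eq,
      Module.length_finsupp]
    simp

end general

section hilb

variable {R : Type u} [CommRing R] [LocCoh.IsCohenMacaulayRing R] (𝒜 : ℤ → AddSubgroup R)
  [GradedRing 𝒜] (hpos : ∀ n : ℤ, n < 0 → 𝒜 n = ⊥)
  (hstd : Ideal.span (⋃ n ∈ Set.Ioi (0 : ℤ), (𝒜 n : Set R)) =
    Ideal.span ((𝒜 1 : AddSubgroup R) : Set R))
  [IsArtinianRing (deg0 𝒜)] (m : HomogeneousIdeal 𝒜) (hm : IsStarLocal 𝒜 m)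
  (r : ℕ) (hr : ringKrullDim R = r) (I : StarInjRes 𝒜 𝒜)

include hpos hstd hm hr in
/-- if the a-invariant is at most `-r` then the Hilbert function is that of a polynomial ring over
`R_0`. -/
theorem len_eq_mul
    (hend : endDeg (I.Hgr m r) ≤ (((-(r : ℤ) : ℤ) : WithTop ℤ) : WithBot (WithTop ℤ)))
    (n : ℤ) (hn : -(r : ℤ) < n) :
    len (deg0 𝒜) (comp 𝒜 𝒜 n) = len (deg0 𝒜) (comp 𝒜 𝒜 0) * (Pr r).eval (n : ℚ) := by
  classical
  have ha : (GrSyz.irrel 𝒜).toIdeal = Ideal.span (⋃ n ∈ Set.Ioi (0 : ℤ), (𝒜 n : Set R)) := by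
    change Ideal.span {r : R | ∃ n : ℤ, 0 < n ∧ r ∈ 𝒜 n} = _
    congr 1
    ext r
    simp only [Set.mem_ofPred_eq, Set.mem_iUnion, Set.mem_Ioi, SetLike.mem_coe, exists_prop]
  have hhom : (GrSyz.irrel 𝒜).toIdeal = Ideal.span ((𝒜 1 : AddSubgroup R) : Set R) := by
    rw [ha, hstd]
  obtain ⟨P, hP⟩ := exists_isHP (GrSyz.irrel 𝒜) ha hhom 𝒜
  have hdeg : P.degree < ((r : ℕ) : WithBot ℕ) :=
    degree_lt (GrSyz.irrel 𝒜) ha hhom hpos r R 𝒜 P (by
      rw [Module.supportDim_self_eq_ringKrullDim, hr]) hP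
  have heq := eq_of_endDeg_le 𝒜 hpos hstd m hm r hr I P hP hend
  cases r with
  | zero =>
    have hP0 : P = 0 := by
      rw [← Polynomial.degree_eq_bot]
      have : P.degree < (0 : WithBot ℕ) := by exact_mod_cast hdeg
      exact (Nat.WithBot.lt_zero_iff).1 this
    rw [heq n hn, hP0, Polynomial.eval_zero]
    show (0 : ℚ) = _ * (0 : Polynomial ℚ).eval _
    rw [Polynomial.eval_zero, mul_zero]
  | succ r' =>
    set lam : ℚ := len (deg0 𝒜) (comp 𝒜 𝒜 0) with hlam
    have hQdeg : (Groth.Agent.Lib.Helper22.GrHilb.Qpoly r').natDegree ≤ r' := by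
      unfold Groth.Agent.Lib.Helper22.GrHilb.Qpoly
      refine (Polynomial.natDegree_C_mul_le _ _).trans ?_
      rw [Polynomial.natDegree_comp, ascPochhammer_natDegree]
      have : (Polynomial.X + 1 : Polynomial ℚ).natDegree = 1 := by
        rw [← Polynomial.C_1]
        exact Polynomial.natDegree_X_add_C 1
      rw [this, mul_one]
    have hT : P - Polynomial.C lam * Groth.Agent.Lib.Helper22.GrHilb.Qpoly r' = 0 := by
      apply Polynomial.eq_zero_of_natDegree_lt_card_of_eval_eq_zero _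
        (f := fun j : Fin (r' + 1) => ((-(j.val : ℤ) : ℤ) : ℚ))
      · intro j j' hjj'
        have h1 : (-(j.val : ℤ) : ℤ) = -(j'.val : ℤ) := by
          have h2 : ((-(j.val : ℤ) : ℤ) : ℚ) = ((-(j'.val : ℤ) : ℤ) : ℚ) := hjj'
          exact_mod_cast h2
        apply Fin.ext
        omega
      · intro j
        obtain ⟨n, hn⟩ : ∃ n : ℤ, n = -(j.val : ℤ) := ⟨_, rfl⟩
        have hj2 := j.2
        show Polynomial.eval ((-(j.val : ℤ) : ℤ) : ℚ) _ = 0
        rw [← hn]
        rw [Polynomial.eval_sub, Polynomial.eval_mul, Polynomial.eval_C,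
          ← heq n (by push_cast; omega),
          Groth.Agent.Lib.Helper22.GrHilb.Qpoly_eval r' n (by omega)]
        by_cases hn0 : n = 0
        · subst hn0
          simp only [le_refl, if_true, Int.toNat_zero, add_zero, Nat.choose_self, Nat.cast_one]
          rw [mul_one, sub_self]
        · have hneg : ¬ (0 : ℤ) ≤ n := by omega
          rw [if_neg hneg, mul_zero, sub_zero]
          haveI : Subsingleton (comp 𝒜 𝒜 n) := by
            constructor
            intro x y
            apply Subtype.ext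
            have hx : (x : R) ∈ 𝒜 n := x.2
            have hy : (y : R) ∈ 𝒜 n := y.2
            rw [hpos _ (by omega), AddSubgroup.mem_bot] at hx hy
            rw [hx, hy]
          exact len_of_subsingleton _
      · rw [Fintype.card_fin]
        have h1 : P.natDegree < r' + 1 := by
          by_cases hP0 : P = 0
          · rw [hP0, Polynomial.natDegree_zero]
            omega
          · rw [Polynomial.degree_eq_natDegree hP0] at hdeg
            exact_mod_cast hdeg
        exact lt_of_le_of_lt (Polynomial.natDegree_sub_le _ _) (by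
          rw [max_lt_iff]
          exact ⟨h1, lt_of_le_of_lt (Polynomial.natDegree_C_mul_le _ _) (by omega)⟩)
    have hPQ : P = Polynomial.C lam * Groth.Agent.Lib.Helper22.GrHilb.Qpoly r' :=
      sub_eq_zero.1 hT
    rw [heq n hn, hPQ, Polynomial.eval_mul, Polynomial.eval_C]
    rfl

end hilb

section inj

variable {R : Type u} [CommRing R] (𝒜 : ℤ → AddSubgroup R) [GradedRing 𝒜] {r : ℕ}
  (ℓ : Fin r → R) (hℓ : ∀ i, ℓ i ∈ 𝒜 1)

include hℓ in
/-- `phi` commutes with taking homogeneous components. -/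
theorem decompose_phi (p : MvPolynomial (Fin r) (deg0 𝒜)) (n : ℤ) :
    ((decompose 𝒜 (phi 𝒜 ℓ p) n : 𝒜 n) : R) =
      phi 𝒜 ℓ ((decompose (GrSyz.stdGr (deg0 𝒜) (Fin r)) p n :
        GrSyz.stdGr (deg0 𝒜) (Fin r) n) : MvPolynomial (Fin r) (deg0 𝒜)) := by
  classical
  induction p using DirectSum.Decomposition.inductionOn (GrSyz.stdGr (deg0 𝒜) (Fin r)) with
  | zero => simp
  | @homogeneous j q =>
    have hq := phi_mem 𝒜 ℓ hℓ j q.1 q.2
    by_cases hjn : j = n
    · subst hjn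
      rw [decompose_of_mem_same 𝒜 hq, decompose_coe, DirectSum.of_eq_same]
    · rw [decompose_of_mem_ne 𝒜 hq hjn, decompose_coe, DirectSum.of_eq_of_ne _ _ _ (Ne.symm hjn)]
      simp
  | add p q hp hq =>
    rw [map_add, decompose_add, decompose_add, DirectSum.add_apply, DirectSum.add_apply,
      AddSubgroup.coe_add, Submodule.coe_add, map_add, hp, hq]

include hℓ in
/-- injectivity can be checked on homogeneous polynomials. -/
theorem phi_injective_of_pieces
    (h : ∀ (n : ℤ) (f : MvPolynomial (Fin r) (deg0 𝒜)), f ∈ GrSyz.stdGr (deg0 𝒜) (Fin r) n →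
      phi 𝒜 ℓ f = 0 → f = 0) : Function.Injective (phi 𝒜 ℓ) := by
  classical
  rw [injective_iff_map_eq_zero]
  intro p hp
  rw [← DirectSum.sum_support_decompose (GrSyz.stdGr (deg0 𝒜) (Fin r)) p]
  refine Finset.sum_eq_zero fun n _ => ?_
  apply h n _ (SetLike.coe_mem _)
  rw [← decompose_phi 𝒜 ℓ hℓ p n, hp, decompose_zero]
  rfl

end inj

section main

variable {R : Type u} [CommRing R] [LocCoh.IsCohenMacaulayRing R] (𝒜 : ℤ → AddSubgroup R)
  [GradedRing 𝒜] (hpos : ∀ n : ℤ, n < 0 → 𝒜 n = ⊥)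
  (hstd : Ideal.span (⋃ n ∈ Set.Ioi (0 : ℤ), (𝒜 n : Set R)) =
    Ideal.span ((𝒜 1 : AddSubgroup R) : Set R))
  [IsArtinianRing (deg0 𝒜)] (m : HomogeneousIdeal 𝒜) (hm : IsStarLocal 𝒜 m)
  (d : ℕ) (hd : ringKrullDim R = d) (I : StarInjRes 𝒜 𝒜)

include hpos hstd hm hd in
/-- linear generators of the irrelevant ideal from `a(R) ≤ -d`. -/
theorem exists_linear_generators (hinf : Infinite (R ⧸ m.toIdeal))
    (hend : endDeg (I.Hgr m d) ≤ (((-(d : ℤ) : ℤ) : WithTop ℤ) : WithBot (WithTop ℤ))) :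
    ∃ x : Fin d → R, (∀ i, x i ∈ 𝒜 1) ∧
      ∀ y ∈ 𝒜 1, ∃ c : Fin d → deg0 𝒜, y = ∑ i, (c i : R) * x i := by
  classical
  haveI : IsLocalRing (𝒜 0) := Groth.Agent.Lib.Helper20.GrRegLin.isLocalRing_zero 𝒜 m hm
  haveI : Infinite (IsLocalRing.ResidueField (𝒜 0)) :=
    Groth.Agent.Lib.Helper20.GrRegLin.infinite_residueField 𝒜 hpos m hm hinf
  have ha : (GrSyz.irrel 𝒜).toIdeal = Ideal.span (⋃ n ∈ Set.Ioi (0 : ℤ), (𝒜 n : Set R)) := by
    change Ideal.span {r : R | ∃ n : ℤ, 0 < n ∧ r ∈ 𝒜 n} = _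
    congr 1
    ext r
    simp only [Set.mem_ofPred_eq, Set.mem_iUnion, Set.mem_Ioi, SetLike.mem_coe, exists_prop]
  have hhom : (GrSyz.irrel 𝒜).toIdeal = Ideal.span ((𝒜 1 : AddSubgroup R) : Set R) := by
    rw [ha, hstd]
  have hgam : ∀ (X : Type u) [AddCommGroup X] [Module R X],
      GrLC.gam m.toIdeal X = GrLC.gam (GrSyz.irrel 𝒜).toIdeal X :=
    fun X _ _ => Groth.Agent.Lib.Helper20.GrIrrelRad.gam_eq_irrel 𝒜 hpos m hm X
  -- vanishing below `d`
  have hvan : ∀ i < d, Subsingleton (I.H (GrSyz.irrel 𝒜) i) := by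
    intro i hi
    have hmax : m.toIdeal.IsMaximal :=
      Groth.Agent.Lib.Helper20.GrArtin.isMaximal_of_isCoatom 𝒜 hpos m hm.1
    have hdim := Groth.Agent.Lib.Helper20.GrHeight2.ringKrullDim_eq_height 𝒜 m hm hpos
    rw [hd] at hdim
    have hht : m.toIdeal.height = ((d : ℕ) : ℕ∞) := by
      have : ((m.toIdeal.height : ℕ∞) : WithBot ℕ∞) = (((d : ℕ) : ℕ∞) : WithBot ℕ∞) := by
        rw [← hdim]
        rfl
      exact_mod_cast this
    haveI : Subsingleton (I.H m i) :=
      Groth.Agent.Lib.Helper20.GrLES2.subsingleton_H_of_HH I m i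
        (Groth.Agent.Lib.Helper20.DepthMaxLoc.HH.subsingleton_of_lt_height m.toIdeal i (by
          rw [hht]
          exact_mod_cast hi))
    exact (Groth.Agent.Lib.Helper20.GrVeronese.sameGamEquiv I m (GrSyz.irrel 𝒜)
      (fun k => hgam _) i).symm.toEquiv.subsingleton
  have hend' : endDeg (I.Hgr (GrSyz.irrel 𝒜) d) ≤
      ((((0 : ℤ) - (d : ℤ) : ℤ) : WithTop ℤ) : WithBot (WithTop ℤ)) := by
    rw [Groth.Agent.Lib.Helper20.GrReg1.endDeg_le_iff]
    intro n hn
    have h1 : I.Hgr m d n = ⊥ :=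
      (Groth.Agent.Lib.Helper20.GrReg1.endDeg_le_iff (I.Hgr m d) (-(d : ℤ))).1 hend n (by omega)
    have h2 : I.Hcomp m d n = ⊥ :=
      Groth.Agent.Lib.Helper20.GrRegLin.Hcomp_eq_bot_of_Hgr m I d n h1
    have h3 := Groth.Agent.Lib.Helper20.GrIrrelRad.Hcomp_eq_bot_of_sameGam 𝒜 m (GrSyz.irrel 𝒜)
      hgam I d n h2
    rw [eq_bot_iff]
    intro z hz
    have : z ∈ I.Hcomp (GrSyz.irrel 𝒜) d n := hz
    rw [h3] at this
    exact (AddSubgroup.mem_bot).2 ((Submodule.mem_bot _).1 this)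
  obtain ⟨x, hx1, hgen⟩ := Groth.Agent.Lib.Helper20.GrRegLin.claim hpos (GrSyz.irrel 𝒜) ha hhom d R
    𝒜 I 0 hvan (by rw [Module.supportDim_self_eq_ringKrullDim, hd]) hend'
  refine ⟨x, hx1, fun y hy => ?_⟩
  have h1 := hgen 1 (by norm_num) y hy
  rw [smul_eq_mul, Ideal.mul_top] at h1
  obtain ⟨s, hs⟩ := (Ideal.mem_span_range_iff_exists_fun).1 h1
  refine ⟨fun i => ⟨((decompose 𝒜 (s i) 0 : 𝒜 0) : R), SetLike.coe_mem _⟩, ?_⟩
  have h2 : y = ((decompose 𝒜 y (0 + 1) : 𝒜 (0 + 1)) : R) := by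
    have h3 : ((decompose 𝒜 y (0 + 1) : 𝒜 (0 + 1)) : R) = ((decompose 𝒜 y 1 : 𝒜 1) : R) := by
      congr 1 <;> simp
    rw [h3, decompose_of_mem_same 𝒜 hy]
  rw [h2, ← hs, decompose_sum, DFinsupp.finsetSum_apply, AddSubmonoidClass.coe_finsetSum]
  refine Finset.sum_congr rfl fun i _ => ?_
  have h4 := decompose_smul_right 𝒜 𝒜 (hx1 i) (s i) 0
  rw [smul_eq_mul, smul_eq_mul] at h4
  exact h4

include hpos hstd hm hd in
/-- **a(R) = -d forces R to be a polynomial ring over R_0.** -/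
theorem exists_algEquiv (hinf : Infinite (R ⧸ m.toIdeal))
    (hend : endDeg (I.Hgr m d) ≤ (((-(d : ℤ) : ℤ) : WithTop ℤ) : WithBot (WithTop ℤ))) :
    ∃ e : MvPolynomial (Fin d) (deg0 𝒜) ≃ₐ[deg0 𝒜] R, ∀ t : Fin d, e (MvPolynomial.X t) ∈ 𝒜 1 := by
  classical
  obtain ⟨x, hx1, hspan⟩ := exists_linear_generators 𝒜 hpos hstd m hm d hd I hinf hend
  have hsurj := phi_surjective 𝒜 x hpos hstd hspan
  have hinj : Function.Injective (phi 𝒜 x) := by
    cases d with
    | zero =>
      rw [injective_iff_map_eq_zero]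
      intro p hp
      obtain ⟨c, rfl⟩ := MvPolynomial.C_surjective (R := deg0 𝒜) (Fin 0) p
      have h1 : phi 𝒜 x (MvPolynomial.C c) = (c : R) := by
        unfold phi
        rw [MvPolynomial.aeval_C]
        rfl
      rw [h1] at hp
      have : c = 0 := Subtype.ext hp
      rw [this, map_zero]
    | succ r' =>
      apply phi_injective_of_pieces 𝒜 x hx1
      intro n f hf hφ
      by_cases hn : n < 0
      · exact Groth.Agent.Lib.Helper20.GrWeakReg2.stdGr_eq_bot (deg0 𝒜) (Fin (r' + 1)) n hn f hf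
      · have hn0 : 0 ≤ n := not_lt.1 hn
        let φn : GrSyz.stdGr (deg0 𝒜) (Fin (r' + 1)) n →ₗ[deg0 𝒜] comp 𝒜 𝒜 n :=
          ((phi 𝒜 x).toLinearMap).restrict (p := GrSyz.stdGr (deg0 𝒜) (Fin (r' + 1)) n)
            (q := comp 𝒜 𝒜 n) (fun f hf => phi_mem 𝒜 x hx1 n f hf)
        have hφn : Function.Surjective φn := by
          intro y
          obtain ⟨N, rfl⟩ := Int.eq_ofNat_of_zero_le hn0
          obtain ⟨g, hg, hgy⟩ := exists_preimage 𝒜 x hstd hspan N y.1 y.2
          exact ⟨⟨g, hg⟩, Subtype.ext hgy⟩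
        have hfinY : Module.length (deg0 𝒜) (comp 𝒜 𝒜 n) ≠ ⊤ :=
          Groth.Agent.Lib.Helper20.GrSerre.length_comp_ne_top (𝒜 := 𝒜) 𝒜 n
        have hfink : Module.length (deg0 𝒜) (deg0 𝒜) ≠ ⊤ :=
          Module.length_ne_top_iff.2
            (isFiniteLength_iff_isNoetherian_isArtinian.2 ⟨inferInstance, inferInstance⟩)
        let e0 : comp 𝒜 𝒜 0 ≃ₗ[deg0 𝒜] deg0 𝒜 :=
          { toFun := fun x => ⟨x.1, x.2⟩
            invFun := fun y => ⟨y.1, y.2⟩
            left_inv := fun x => rfl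
            right_inv := fun y => rfl
            map_add' := fun x y => rfl
            map_smul' := fun c x => rfl }
        have hlen := len_eq_mul 𝒜 hpos hstd m hm (r' + 1) hd I hend n (by push_cast; omega)
        have hQ : (Pr (r' + 1)).eval (n : ℚ) = ((Nat.choose (r' + n.toNat) r' : ℕ) : ℚ) := by
          show (Groth.Agent.Lib.Helper22.GrHilb.Qpoly r').eval _ = _
          rw [Groth.Agent.Lib.Helper22.GrHilb.Qpoly_eval r' n (by omega), if_pos hn0]
        rw [hQ] at hlen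
        unfold len at hlen
        rw [e0.length_eq] at hlen
        have hnat : (Module.length (deg0 𝒜) (comp 𝒜 𝒜 n)).toNat =
            (Module.length (deg0 𝒜) (deg0 𝒜)).toNat * Nat.choose (r' + n.toNat) r' := by
          exact_mod_cast hlen
        have hLeq : Module.length (deg0 𝒜) (GrSyz.stdGr (deg0 𝒜) (Fin (r' + 1)) n) =
            Module.length (deg0 𝒜) (comp 𝒜 𝒜 n) := by
          rw [length_stdGr, if_pos hn0, ← ENat.coe_toNat hfinY, hnat]
          push_cast
          rw [ENat.coe_toNat hfink, mul_comm]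
        have hinjn := injective_of_surjective_of_length_eq φn hφn hfinY hLeq
        have h0 : φn ⟨f, hf⟩ = 0 := Subtype.ext hφ
        have h1 := hinjn (h0.trans (map_zero φn).symm)
        exact congrArg Subtype.val h1
  refine ⟨AlgEquiv.ofBijective (phi 𝒜 x) ⟨hinj, hsurj⟩, fun t => ?_⟩
  show phi 𝒜 x (MvPolynomial.X t) ∈ 𝒜 1
  unfold phi
  rw [MvPolynomial.aeval_X]
  exact hx1 t

end main

end Groth.Agent.Lib.Helper20.GrAinvPoly3
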