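import Mathlib
import Groth.Prelude.Def_GrLC
import Groth.Agent.Lib.Helper20.GrPos
import Groth.Agent.Lib.Helper20.GrArtin
import Groth.Agent.Lib.Helper12.DimFT2

/-!
# Positively graded Noetherian rings over a field: finite type, `ht R_+ = dim R` (helper20)
-/

set_option autoImplicit false
set_option linter.unusedSectionVars false
set_option linter.unusedVariables false

universe u

open DirectSum GrLC Groth.Agent.Lib.Helper20.GrLCBasic Groth.Agent.Lib.Helper20.GrPos

namespace Groth.Agent.Lib.Helper20.GrCMDepth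

variable {R : Type u} [CommRing R] (𝒜 : ℤ → AddSubgroup R) [GradedRing 𝒜]

/-- a Noetherian positively `ℤ`-graded ring is of finite type over its degree-zero part. -/
theorem finiteType_deg0 [IsNoetherianRing R] (hpos : ∀ n : ℤ, n < 0 → 𝒜 n = ⊥) :
    Algebra.FiniteType (deg0 𝒜) R := by
  classical
  have hfg : (Submodule.span R (⋃ n ∈ Set.Ioi (0 : ℤ), (𝒜 n : Set R))).FG :=
    IsNoetherian.noetherian _
  obtain ⟨T, hTG, hspan⟩ := (Submodule.fg_span_iff_fg_span_finset_subset _).1 hfg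
  have hTdeg : ∀ t ∈ T, ∃ n : ℤ, 0 < n ∧ t ∈ 𝒜 n := by
    intro t ht
    obtain ⟨n, hn, htn⟩ := Set.mem_iUnion₂.1 (hTG ht)
    exact ⟨n, hn, htn⟩
  let B := Algebra.adjoin (deg0 𝒜) (T : Set R)
  have key : ∀ n : ℕ, ∀ d : ℤ, d ≤ n → ∀ r ∈ 𝒜 d, r ∈ B := by
    intro n
    induction n with
    | zero =>
      intro d hd r hr
      rcases lt_or_eq_of_le hd with h | h
      · have h4 : r ∈ (⊥ : AddSubgroup R) := (hpos d (by exact_mod_cast h)).le hr
        rw [(AddSubgroup.mem_bot).1 h4]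
        exact Subalgebra.zero_mem _
      · have h0 : d = 0 := by exact_mod_cast h
        subst h0
        exact Subalgebra.algebraMap_mem B (⟨r, hr⟩ : deg0 𝒜)
    | succ n ih =>
      intro d hd r hr
      rcases lt_or_eq_of_le hd with h | h
      · exact ih d (by push_cast at h; omega) r hr
      · have hdpos : 0 < d := by rw [h]; push_cast; omega
        have hra : r ∈ Submodule.span R (T : Set R) := by
          rw [← hspan]
          exact Submodule.subset_span (Set.mem_iUnion₂.2 ⟨d, hdpos, hr⟩)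
        obtain ⟨f, -, hsum⟩ := Submodule.mem_span_finset.1 hra
        have hrd : r = ((decompose 𝒜 r d : 𝒜 d) : R) := (decompose_of_mem_same 𝒜 hr).symm
        rw [hrd, ← hsum, decompose_sum, DFinsupp.finsetSum_apply,
          AddSubmonoidClass.coe_finsetSum]
        refine Subalgebra.sum_mem _ fun t ht => ?_
        obtain ⟨e, hepos, hte⟩ := hTdeg t ht
        obtain ⟨e', he'⟩ : ∃ e', d = e' + e := ⟨d - e, by ring⟩
        rw [he', decompose_smul_right 𝒜 𝒜 hte (f t) e', smul_eq_mul]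
        refine Subalgebra.mul_mem _ ?_ (Algebra.subset_adjoin ht)
        exact ih e' (by push_cast at h; omega) _ (SetLike.coe_mem _)
  refine ⟨⟨T, ?_⟩⟩
  rw [eq_top_iff]
  rintro r -
  rw [← DirectSum.sum_support_decompose 𝒜 r]
  refine Subalgebra.sum_mem _ fun i _ => ?_
  exact key i.toNat i (Int.self_le_toNat i) _ (SetLike.coe_mem _)

/-- minimal primes over a homogeneous ideal are homogeneous. -/
lemma isHomogeneous_of_mem_minimalPrimes {J : Ideal R} (hJ : J.IsHomogeneous 𝒜) {P : Ideal R}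
    (hP : P ∈ J.minimalPrimes) : P.IsHomogeneous 𝒜 := by
  have hPp : P.IsPrime := hP.1.1
  have hcore : (P.homogeneousCore 𝒜).toIdeal.IsPrime := Ideal.IsPrime.homogeneousCore hPp
  have hle : J ≤ (P.homogeneousCore 𝒜).toIdeal :=
    hJ.toIdeal_homogeneousCore_eq_self.symm.trans_le (Ideal.homogeneousCore_mono _ hP.1.2)
  have h1 := hP.2 ⟨hcore, hle⟩ (Ideal.toIdeal_homogeneousCore_le 𝒜 P)
  have heq : (P.homogeneousCore 𝒜).toIdeal = P :=
    le_antisymm (Ideal.toIdeal_homogeneousCore_le 𝒜 P) h1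
  rw [← heq]
  exact (P.homogeneousCore 𝒜).isHomogeneous

/-- over a degree-zero field, a proper homogeneous ideal of a positively graded ring lies in the
irrelevant ideal. -/
lemma le_irrelevant (hpos : ∀ n : ℤ, n < 0 → 𝒜 n = ⊥) (h0 : IsField (deg0 𝒜))
    (J : Ideal R) (hJ : J.IsHomogeneous 𝒜) (hne : J ≠ ⊤) :
    J ≤ Ideal.span (⋃ n ∈ Set.Ioi (0 : ℤ), (𝒜 n : Set R)) := by
  classical
  intro x hx
  rw [← DirectSum.sum_support_decompose 𝒜 x]
  refine Ideal.sum_mem _ fun i _ => ?_
  have hxi : ((decompose 𝒜 x i : 𝒜 i) : R) ∈ J := hJ i hx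
  rcases lt_trichotomy i 0 with h | h | h
  · have h4 : ((decompose 𝒜 x i : 𝒜 i) : R) ∈ (⊥ : AddSubgroup R) :=
      (hpos i h).le (SetLike.coe_mem _)
    rw [(AddSubgroup.mem_bot).1 h4]
    exact zero_mem _
  · subst h
    by_cases hz : ((decompose 𝒜 x 0 : 𝒜 0) : R) = 0
    · rw [hz]; exact zero_mem _
    · exfalso
      apply hne
      let y : deg0 𝒜 := ⟨((decompose 𝒜 x 0 : 𝒜 0) : R), SetLike.coe_mem _⟩
      have hy : y ≠ 0 := fun h => hz (congrArg Subtype.val h)
      obtain ⟨z, hz'⟩ := h0.mul_inv_cancel hy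
      rw [Ideal.eq_top_iff_one]
      have h1 : ((y * z : deg0 𝒜) : R) = 1 := by rw [hz']; rfl
      rw [← h1]
      exact J.mul_mem_right _ hxi
  · exact Ideal.subset_span (Set.mem_iUnion₂.2 ⟨i, h, SetLike.coe_mem _⟩)

/-- the height of the irrelevant ideal of a Noetherian positively graded ring over a field is the
dimension of the ring. -/
theorem height_irrelevant [IsNoetherianRing R] (hpos : ∀ n : ℤ, n < 0 → 𝒜 n = ⊥)
    (h0 : IsField (deg0 𝒜)) (m : Ideal R)
    (hm : m = Ideal.span (⋃ n ∈ Set.Ioi (0 : ℤ), (𝒜 n : Set R))) [hmax : m.IsMaximal] :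
    (m.height : WithBot ℕ∞) = ringKrullDim R := by
  letI : Field (deg0 𝒜) := h0.toField
  haveI : Algebra.FiniteType (deg0 𝒜) R := finiteType_deg0 𝒜 hpos
  haveI hmp : m.IsPrime := hmax.isPrime
  apply le_antisymm
  · exact Ideal.height_le_ringKrullDim_of_ne_top hmp.ne_top
  · apply Groth.Agent.Lib.Helper12.DimFT2.ringKrullDim_le_of_minimalPrimes
    intro P hP hPp
    have hhom : P.IsHomogeneous 𝒜 :=
      isHomogeneous_of_mem_minimalPrimes 𝒜 (Ideal.IsHomogeneous.bot 𝒜) hP
    have hPm : P ≤ m := by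
      rw [hm]
      exact le_irrelevant 𝒜 hpos h0 P hhom hPp.ne_top
    have h1 := Groth.Agent.Lib.Helper12.DimFT2.ringKrullDim_quotient_le_height_add_coheight
      (deg0 𝒜) R P ⟨m, hmp⟩ hPm
    have hco : Order.coheight (⟨m, hmp⟩ : PrimeSpectrum R) = 0 := by
      rw [Order.coheight_eq_zero]
      intro z hz
      have h2 : m ≤ z.asIdeal := hz
      have h3 : z.asIdeal = m := (hmax.eq_of_le z.2.ne_top h2).symm
      exact le_of_eq (PrimeSpectrum.ext h3)
    rw [hco, add_zero, ← PrimeSpectrum.height_eq_orderHeight] at h1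
    exact h1

end Groth.Agent.Lib.Helper20.GrCMDepth
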