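import Mathlib
import Groth.Prelude.Def_GrLC
import Groth.Prelude.Def_Wider
import Groth.Agent.Lib.Helper20.GrStarHull
import Groth.Agent.Lib.Helper20.GrLCCompare
import Groth.Agent.Lib.Helper20.LCFlat
import Groth.Agent.Lib.Helper4.Matlis
import Groth.Agent.Lib.Helper4.LD3

/-!
# From a *canonical module to a canonical module of the localisation at a maximal graded ideal
(helper20)
-/

set_option autoImplicit false
set_option linter.unusedSectionVars false
set_option linter.unusedVariables false
universe u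

namespace Groth.Agent.Lib.Helper20.GrCanonBridge

open Groth.Agent.Lib.Helper4.LC TensorProduct
open CategoryTheory

section torsion

variable {R : Type u} [CommRing R] (m : Ideal R) [hm : m.IsMaximal]
  {N : Type u} [AddCommGroup N] [Module R N]

theorem exists_mul_add_eq_one (s : R) (hs : s ∉ m) (n : ℕ) :
    ∃ t c : R, c ∈ m ^ n ∧ t * s + c = 1 := by
  have h1 : Ideal.span {s} ⊔ m = ⊤ := by
    obtain ⟨y, i, hi, hyi⟩ := hm.exists_inv hs
    rw [Ideal.eq_top_iff_one, ← hyi]
    exact Ideal.add_mem _ (Ideal.mem_sup_left (Ideal.mul_mem_left _ y (Ideal.mem_span_singleton_self s)))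
      (Ideal.mem_sup_right hi)
  have h2 : Ideal.span {s} ⊔ m ^ n = ⊤ := Ideal.sup_pow_eq_top h1
  have h3 : (1 : R) ∈ Ideal.span {s} ⊔ m ^ n := by rw [h2]; trivial
  obtain ⟨a, ha, c, hc, hac⟩ := Submodule.mem_sup.mp h3
  obtain ⟨t, rfl⟩ := Ideal.mem_span_singleton'.mp ha
  exact ⟨t, c, hc, hac⟩

theorem smul_bijective_of_torsion (htors : ∀ x : N, ∃ n, ∀ r ∈ m ^ n, r • x = 0) (s : R)
    (hs : s ∉ m) : Function.Bijective (fun x : N => s • x) := by
  constructor
  · intro x y hxy
    have hxy' : s • (x - y) = 0 := by rw [smul_sub]; exact sub_eq_zero.mpr hxy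
    obtain ⟨n, hn⟩ := htors (x - y)
    obtain ⟨t, c, hc, htc⟩ := exists_mul_add_eq_one m s hs n
    have : x - y = 0 := by
      calc x - y = (t * s + c) • (x - y) := by rw [htc, one_smul]
        _ = 0 := by rw [add_smul, mul_smul, hxy', smul_zero, hn c hc, add_zero]
    exact sub_eq_zero.mp this
  · intro y
    obtain ⟨n, hn⟩ := htors y
    obtain ⟨t, c, hc, htc⟩ := exists_mul_add_eq_one m s hs n
    refine ⟨t • y, ?_⟩
    show s • t • y = y
    calc s • t • y = (t * s + c) • y := by rw [add_smul, hn c hc, add_zero, mul_smul, smul_comm]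
      _ = y := by rw [htc, one_smul]

theorem isLocalizedModule_id_of_torsion (htors : ∀ x : N, ∃ n, ∀ r ∈ m ^ n, r • x = 0) :
    IsLocalizedModule m.primeCompl (LinearMap.id : N →ₗ[R] N) where
  map_units s := by
    rw [Module.End.isUnit_iff]
    exact smul_bijective_of_torsion m htors s.1 s.2
  surj y := ⟨(y, 1), one_smul _ _⟩
  exists_of_eq h := ⟨1, congr_arg _ h⟩

/-- The localisation map of a power-torsion module at a maximal ideal is an isomorphism. -/
noncomputable def locEquiv (htors : ∀ x : N, ∃ n, ∀ r ∈ m ^ n, r • x = 0) :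
    N ≃ₗ[R] LocalizedModule m.primeCompl N :=
  haveI := isLocalizedModule_id_of_torsion m htors
  IsLocalizedModule.linearEquiv m.primeCompl (LinearMap.id : N →ₗ[R] N)
    (LocalizedModule.mkLinearMap m.primeCompl N)

theorem locEquiv_apply (htors : ∀ x : N, ∃ n, ∀ r ∈ m ^ n, r • x = 0) (x : N) :
    locEquiv m htors x = LocalizedModule.mkLinearMap m.primeCompl N x := by
  haveI := isLocalizedModule_id_of_torsion m htors
  exact IsLocalizedModule.linearEquiv_apply m.primeCompl (LinearMap.id : N →ₗ[R] N)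
    (LocalizedModule.mkLinearMap m.primeCompl N) x

/-- Same for the tensor product model. -/
noncomputable def tensorEquiv (htors : ∀ x : N, ∃ n, ∀ r ∈ m ^ n, r • x = 0) :
    N ≃ₗ[R] Localization.AtPrime m ⊗[R] N :=
  haveI := isLocalizedModule_id_of_torsion m htors
  IsLocalizedModule.linearEquiv m.primeCompl (LinearMap.id : N →ₗ[R] N)
    (TensorProduct.mk R (Localization.AtPrime m) N 1)

end torsion

section hull

open IsLocalRing

variable {R : Type u} [CommRing R] [IsNoetherianRing R] (m : Ideal R) [hm : m.IsMaximal]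
  {E : Type u} [AddCommGroup E] [Module R E]

local notation "A" => Localization.AtPrime m
local notation "S" => m.primeCompl

/-- A module over the localisation which is injective over `R` is injective over the localisation. -/
theorem injective_of_injective_restrict (Q : Type u) [AddCommGroup Q] [Module R Q] [Module A Q]
    [IsScalarTower R A Q] (hQ : Module.Injective R Q) : Module.Injective A Q := by
  apply Module.Baer.injective
  intro I g
  obtain ⟨h, hh⟩ := hQ.out ((I.subtype).restrictScalars R) I.injective_subtype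
    (g.restrictScalars R)
  refine ⟨h.extendScalarsOfIsLocalization S A, fun x hx => ?_⟩
  rw [LinearMap.extendScalarsOfIsLocalization_apply']
  exact hh ⟨x, hx⟩

theorem maximalIdeal_pow_smul_eq_zero (Q : Type u) [AddCommGroup Q] [Module R Q] [Module A Q]
    [IsScalarTower R A Q] (y : Q) (n : ℕ) (hy : ∀ r ∈ m ^ n, r • y = 0) :
    ∀ a ∈ maximalIdeal A ^ n, a • y = 0 := by
  intro a ha
  rw [← Localization.AtPrime.map_eq_maximalIdeal, ← Ideal.map_pow, Ideal.map] at ha
  refine Submodule.span_induction ?_ ?_ ?_ ?_ ha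
  · rintro _ ⟨r, hr, rfl⟩
    rw [algebraMap_smul]
    exact hy r hr
  · exact zero_smul _ _
  · intro a b _ _ ha hb
    rw [add_smul, ha, hb, add_zero]
  · intro c a _ ha
    rw [smul_eq_mul, mul_smul, ha, smul_zero]

variable (e : (R ⧸ m) →ₗ[R] E) (hinj : Module.Injective R E)
  (hess : ∀ x : E, x ≠ 0 → ∃ c : R, c • x ≠ 0 ∧ c • x ∈ LinearMap.range e)
  (he : Function.Injective e)

include hess in
theorem torsion_of_ess (x : E) : ∃ n, ∀ r ∈ m ^ n, r • x = 0 :=
  Groth.Agent.Lib.Helper20.GrStarHull.exists_pow_smul_eq_zero m e hess x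

include hess in
/-- The socle of an essential extension of `R ⧸ m` is the image. -/
theorem socle_le_range (x : E) (hx : ∀ r ∈ m, r • x = 0) : ∃ b : R, x = b • e 1 := by
  by_cases hx0 : x = 0
  · exact ⟨0, by rw [hx0, zero_smul]⟩
  obtain ⟨c, hc0, ⟨q, hq⟩⟩ := hess x hx0
  have hcm : c ∉ m := fun h => hc0 (hx c h)
  obtain ⟨t, i, hi, hti⟩ := hm.exists_inv hcm
  obtain ⟨q', rfl⟩ := Ideal.Quotient.mk_surjective q
  refine ⟨t * q', ?_⟩
  have h1 : Ideal.Quotient.mk m q' = q' • (1 : R ⧸ m) := by
    rw [Algebra.smul_def, mul_one]; rfl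
  calc x = (t * c + i) • x := by rw [hti, one_smul]
    _ = t • (c • x) := by rw [add_smul, hx i hi, add_zero, mul_smul]
    _ = (t * q') • e 1 := by rw [← hq, h1, map_smul, mul_smul]

include hinj hess he in
/-- The localisation of the injective hull of `R ⧸ m` at `m` is the injective hull of the residue
field of `R_m`. -/
theorem exists_isInjectiveHull_localized :
    ∃ f : ResidueField A →ₗ[A] LocalizedModule S E, InjHull.IsInjectiveHull f := by
  have htors := torsion_of_ess m e hess
  let ψ := locEquiv m htors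
  rw [Groth.Agent.Lib.Helper4.Matlis.exists_isInjectiveHull_iff]
  refine ⟨?_, ?_, ?_⟩
  · apply injective_of_injective_restrict m
    exact (Module.Baer.of_equiv ψ (Module.Baer.of_injective hinj)).injective
  · intro y
    obtain ⟨x, rfl⟩ := ψ.surjective y
    obtain ⟨n, hn⟩ := htors x
    refine ⟨n, maximalIdeal_pow_smul_eq_zero m _ (ψ x) n ?_⟩
    intro r hr
    rw [← map_smul, hn r hr, map_zero]
  · have hx0 : ψ (e 1) ≠ 0 := by
      intro h0
      have h1 : e 1 = 0 := ψ.injective (h0.trans (map_zero ψ).symm)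
      have h2 : (1 : R ⧸ m) = 0 := he (h1.trans (map_zero e).symm)
      have : (1 : R) ∈ m := Ideal.Quotient.eq_zero_iff_mem.mp h2
      exact hm.ne_top ((Ideal.eq_top_iff_one m).mpr this)
    have hsoc : ∀ r ∈ m, r • e 1 = 0 := by
      intro r hr
      rw [← map_smul, Groth.Agent.Lib.Helper20.GrStarHull.smul_quot_eq_zero m hr, map_zero]
    refine Groth.Agent.Lib.Helper4.Matlis.isSimpleModule_hom_of_socle (ψ (e 1)) hx0 ?_ ?_
    · intro b hb
      have := maximalIdeal_pow_smul_eq_zero m _ (ψ (e 1)) 1 (by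
        intro r hr
        rw [pow_one] at hr
        rw [← map_smul, hsoc r hr, map_zero]) b (by rwa [pow_one])
      exact this
    · intro y hy
      obtain ⟨x, rfl⟩ := ψ.surjective y
      have hx : ∀ r ∈ m, r • x = 0 := by
        intro r hr
        apply ψ.injective
        rw [map_smul, map_zero, ← algebraMap_smul A r (ψ x)]
        apply hy
        rw [← Localization.AtPrime.map_eq_maximalIdeal]
        exact Ideal.mem_map_of_mem _ hr
      obtain ⟨b, hb⟩ := socle_le_range m e hess x hx
      refine ⟨algebraMap R A b, ?_⟩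
      rw [hb, map_smul, algebraMap_smul]

end hull

section homs

open IsLocalRing

variable {R : Type u} [CommRing R] [IsNoetherianRing R] (m : Ideal R) [hm : m.IsMaximal]

local notation "A" => Localization.AtPrime m
local notation "S" => m.primeCompl

/-- `Hom_{R_m}(C_m, Q) ≃ Hom_R(C, Q)` for an `R_m`-module `Q`. -/
noncomputable def homLocEquiv (C Q : Type u) [AddCommGroup C] [Module R C] [AddCommGroup Q]
    [Module R Q] [Module A Q] [IsScalarTower R A Q] :
    (LocalizedModule S C →ₗ[A] Q) ≃ₗ[A] (C →ₗ[R] Q) :=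
  (LinearEquiv.congrLeft Q A (LocalizedModule.equivTensorProduct S C)).trans
    (LinearMap.liftBaseChangeEquiv A).symm

/-- The top local cohomology at a maximal ideal, localised. -/
theorem nonempty_HH_equiv (n : ℕ) :
    Nonempty (A ⊗[R] HH m (ModuleCat.of R R) n ≃ₗ[A]
      LocCoh.H (maximalIdeal A) n A) := by
  obtain ⟨e5⟩ := Groth.Agent.Lib.Helper20.LCFlat.nonempty_baseChange_equiv A m n R
  let iso : ModuleCat.of A (A ⊗[R] R) ≅ ModuleCat.of A A :=
    (TensorProduct.AlgebraTensorModule.rid R A A).toModuleIso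
  have e6 := HH.mapIso (m.map (algebraMap R A)) iso n
  have hJ : m.map (algebraMap R A) = maximalIdeal A := Localization.AtPrime.map_eq_maximalIdeal
  rw [hJ] at e5 e6
  exact ⟨(e5.trans e6).trans (lcEquiv (maximalIdeal A) (ModuleCat.of A A) n).symm⟩

/-- **Bridge**: if `Hom_R(C, E) ≃ H^n_m(R)` with `E` the injective hull of `R ⧸ m`, `m` maximal, then
`C_m` is a canonical module of `R_m` in the local sense. -/
theorem exists_local_canonical {E : Type u} [AddCommGroup E] [Module R E]
    (e : (R ⧸ m) →ₗ[R] E) (hinj : Module.Injective R E)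
    (hess : ∀ x : E, x ≠ 0 → ∃ c : R, c • x ≠ 0 ∧ c • x ∈ LinearMap.range e)
    (he : Function.Injective e) (C : Type u) [AddCommGroup C] [Module R C] (n : ℕ)
    (φ : (C →ₗ[R] E) ≃ₗ[R] HH m (ModuleCat.of R R) n) :
    ∃ f : ResidueField A →ₗ[A] LocalizedModule S E, InjHull.IsInjectiveHull f ∧
      Nonempty ((LocalizedModule S C →ₗ[A] LocalizedModule S E) ≃ₗ[A]
        LocCoh.H (maximalIdeal A) n A) := by
  obtain ⟨f, hf⟩ := exists_isInjectiveHull_localized m e hinj hess he
  refine ⟨f, hf, ?_⟩
  have htors := torsion_of_ess m e hess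
  let ψ := locEquiv m htors
  have htorsH : ∀ x : HH m (ModuleCat.of R R) n, ∃ k, ∀ r ∈ m ^ k, r • x = 0 :=
    isPowerTorsion_HH m (ModuleCat.of R R) n
  obtain ⟨e7⟩ := nonempty_HH_equiv m n
  let e1 := homLocEquiv m C (LocalizedModule S E)
  let e2 : (C →ₗ[R] LocalizedModule S E) ≃ₗ[R] (C →ₗ[R] E) := LinearEquiv.congrRight ψ.symm
  let e4 := tensorEquiv m htorsH
  let mid : (C →ₗ[R] LocalizedModule S E) ≃ₗ[R] A ⊗[R] HH m (ModuleCat.of R R) n :=
    (e2.trans φ).trans e4
  exact ⟨(e1.trans (mid.extendScalarsOfIsLocalization S A)).trans e7⟩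

end homs

section graded

open IsLocalRing

variable {ι : Type} [AddCommGroup ι] [DecidableEq ι] {R : Type u} [CommRing R] [IsNoetherianRing R]
  (𝒜 : ι → AddSubgroup R) [GradedRing 𝒜] (m : HomogeneousIdeal 𝒜) [hm : m.toIdeal.IsMaximal]
  {E : Type u} [AddCommGroup E] [Module R E] (𝓔 : ι → AddSubgroup E) [DirectSum.Decomposition 𝓔]
  [SetLike.GradedSMul 𝒜 𝓔]

/-- **Graded bridge**: a *canonical module of a graded ring with maximal graded ideal `m` localises
to a canonical module of `R_m`. -/
theorem exists_local_canonical_of_graded (e : (R ⧸ m.toIdeal) →ₗ[R] E)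
    (he : GrLC.IsStarInjHull 𝒜 (GrLC.quotGr 𝒜 m) 𝓔 e) (I : GrLC.StarInjRes 𝒜 𝒜)
    (C : Type u) [AddCommGroup C] [Module R C] (n : ℕ)
    (φ : (C →ₗ[R] E) ≃ₗ[R] I.H m n) :
    ∃ f : ResidueField (Localization.AtPrime m.toIdeal) →ₗ[Localization.AtPrime m.toIdeal]
        LocalizedModule m.toIdeal.primeCompl E, InjHull.IsInjectiveHull f ∧
      Nonempty ((LocalizedModule m.toIdeal.primeCompl C →ₗ[Localization.AtPrime m.toIdeal]
        LocalizedModule m.toIdeal.primeCompl E) ≃ₗ[Localization.AtPrime m.toIdeal]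
        LocCoh.H (maximalIdeal (Localization.AtPrime m.toIdeal)) n
          (Localization.AtPrime m.toIdeal)) := by
  obtain ⟨eH⟩ := Groth.Agent.Lib.Helper20.GrLCCompare.nonempty_H_equiv_HH 𝒜 𝒜 I m n
  exact exists_local_canonical m.toIdeal e
    (Groth.Agent.Lib.Helper20.GrStarHull.injective_of_isStarInjHull 𝒜 m 𝓔 e he)
    (Groth.Agent.Lib.Helper20.GrStarHull.exists_smul_mem_range 𝒜 m 𝓔 e he) he.injective C n
    (φ.trans eH)

end graded

end Groth.Agent.Lib.Helper20.GrCanonBridge
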