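import Mathlib
import Groth.Prelude.Def_GrLC
import Groth.Agent.Lib.Helper20.GrLCBasic
import Groth.Agent.Lib.Helper20.GrLCExt

/-!
# Homogeneous parts of a linear map between graded modules (helper20)

For a finitely generated graded module `C`, every linear map `C → E'` is a finite sum of
homogeneous maps; a homogeneous isomorphism from `Hom(C, E')` (graded by degree of maps) onto a
graded module has a homogeneous inverse.
-/

set_option autoImplicit false
set_option linter.unusedSectionVars false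
set_option linter.unusedVariables false
set_option linter.style.haveILetI false

universe u

open DirectSum GrLC Groth.Agent.Lib.Helper20.GrLCBasic Groth.Agent.Lib.Helper20.GrLCExt

namespace Groth.Agent.Lib.Helper20.GrDual

section homPart

variable {R : Type u} [CommRing R] (𝒜 : ℤ → AddSubgroup R) [GradedRing 𝒜]
  {C E' : Type u} [AddCommGroup C] [Module R C] [AddCommGroup E'] [Module R E']
  (𝒞 : ℤ → AddSubgroup C) (𝓔 : ℤ → AddSubgroup E')
  [DirectSum.Decomposition 𝒞] [SetLike.GradedSMul 𝒜 𝒞]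
  [DirectSum.Decomposition 𝓔] [SetLike.GradedSMul 𝒜 𝓔]

/-- on the piece of degree `i`: `x ↦ (f x)_{i+e}`. -/
noncomputable def pieceMap (f : C →ₗ[R] E') (e i : ℤ) : 𝒞 i →+ E' where
  toFun x := ((decompose 𝓔 (f x) (i + e) : 𝓔 (i + e)) : E')
  map_zero' := by simp
  map_add' x y := by simp [decompose_add]

/-- the homogeneous part of degree `e` of a linear map, as an additive map. -/
noncomputable def partAdd (f : C →ₗ[R] E') (e : ℤ) : C →+ E' :=
  (DirectSum.toAddMonoid (fun i => pieceMap 𝒞 𝓔 f e i)).comp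
    (decomposeAddEquiv 𝒞).toAddMonoidHom

theorem partAdd_of_mem (f : C →ₗ[R] E') (e : ℤ) {i : ℤ} {c : C} (hc : c ∈ 𝒞 i) :
    partAdd 𝒞 𝓔 f e c = ((decompose 𝓔 (f c) (i + e) : 𝓔 (i + e)) : E') := by
  unfold partAdd
  change DirectSum.toAddMonoid (fun i => pieceMap 𝒞 𝓔 f e i) (decompose 𝒞 c) = _
  rw [decompose_of_mem 𝒞 hc, DirectSum.toAddMonoid_of]
  rfl

include 𝒜 in
theorem partAdd_smul (f : C →ₗ[R] E') (e : ℤ) (r : R) (c : C) :
    partAdd 𝒞 𝓔 f e (r • c) = r • partAdd 𝒞 𝓔 f e c := by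
  classical
  induction r using DirectSum.Decomposition.inductionOn 𝒜 with
  | zero => rw [zero_smul, map_zero, zero_smul]
  | @homogeneous d r =>
    induction c using DirectSum.Decomposition.inductionOn 𝒞 with
    | zero => rw [smul_zero, map_zero, smul_zero]
    | @homogeneous i c =>
      have hrc : (r : R) • (c : C) ∈ 𝒞 (d + i) :=
        SetLike.GradedSMul.smul_mem (A := 𝒜) (B := 𝒞) r.2 c.2
      rw [partAdd_of_mem 𝒞 𝓔 f e hrc, partAdd_of_mem 𝒞 𝓔 f e c.2, map_smul]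
      have h1 := decompose_smul_left 𝒜 𝓔 r.2 (f (c : C)) (i + e)
      have hidx : d + i + e = i + e + d := by ring
      rw [hidx]
      exact h1
    | add c c' h h' => rw [smul_add, map_add, map_add, h, h', smul_add]
  | add r r' h h' => rw [add_smul, map_add, h, h', add_smul]

/-- the homogeneous part of degree `e` of a linear map. -/
noncomputable def homPart (f : C →ₗ[R] E') (e : ℤ) : C →ₗ[R] E' where
  toFun := partAdd 𝒞 𝓔 f e
  map_add' := map_add _
  map_smul' := partAdd_smul 𝒜 𝒞 𝓔 f e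

theorem homPart_of_mem (f : C →ₗ[R] E') (e : ℤ) {i : ℤ} {c : C} (hc : c ∈ 𝒞 i) :
    homPart 𝒜 𝒞 𝓔 f e c = ((decompose 𝓔 (f c) (i + e) : 𝓔 (i + e)) : E') :=
  partAdd_of_mem 𝒞 𝓔 f e hc

theorem homPart_mem (f : C →ₗ[R] E') (e : ℤ) : homPart 𝒜 𝒞 𝓔 f e ∈ homDeg 𝒜 𝒞 𝓔 e := by
  intro i c hc
  rw [homPart_of_mem 𝒜 𝒞 𝓔 f e hc]
  exact SetLike.coe_mem _

/-- **a linear map out of a finitely generated graded module is a finite sum of homogeneous
maps.** -/
theorem exists_sum_homPart [IsNoetherianRing R] [Module.Finite R C] (f : C →ₗ[R] E') :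
    ∃ T : Finset ℤ, f = ∑ e ∈ T, homPart 𝒜 𝒞 𝓔 f e := by
  classical
  obtain ⟨G, hG, hspan⟩ := exists_homogeneous_generators (R := R) 𝒞
  choose! δ hδ using hG
  refine ⟨G.biUnion (fun x => (decompose 𝓔 (f x)).support.image (fun j => j - δ x)), ?_⟩
  apply LinearMap.ext_on hspan
  intro x hx
  have hxG : x ∈ G := hx
  rw [LinearMap.sum_apply]
  have h1 : ∀ e, homPart 𝒜 𝒞 𝓔 f e x = ((decompose 𝓔 (f x) (δ x + e) : 𝓔 (δ x + e)) : E') :=
    fun e => homPart_of_mem 𝒜 𝒞 𝓔 f e (hδ x hxG)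
  simp only [h1]
  conv_lhs => rw [← DirectSum.sum_support_decompose 𝓔 (f x)]
  let emb : ℤ ↪ ℤ := ⟨fun e => δ x + e, fun a b h => add_left_cancel h⟩
  have h2 : ∑ e ∈ G.biUnion (fun x => (decompose 𝓔 (f x)).support.image (fun j => j - δ x)),
      ((decompose 𝓔 (f x) (δ x + e) : 𝓔 (δ x + e)) : E') =
      ∑ j ∈ (G.biUnion (fun x => (decompose 𝓔 (f x)).support.image (fun j => j - δ x))).map emb,
        ((decompose 𝓔 (f x) j : 𝓔 j) : E') := by
    rw [Finset.sum_map]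
    rfl
  rw [h2]
  apply Finset.sum_subset
  · intro j hj
    rw [Finset.mem_map]
    refine ⟨j - δ x, ?_, ?_⟩
    · rw [Finset.mem_biUnion]
      exact ⟨x, hxG, Finset.mem_image.2 ⟨j, hj, rfl⟩⟩
    · change δ x + (j - δ x) = j
      ring
  · intro j _ hj
    rw [DFinsupp.notMem_support_iff] at hj
    rw [hj]
    rfl

end homPart

section inverse

variable {R : Type u} [CommRing R] (𝒜 : ℤ → AddSubgroup R) [GradedRing 𝒜]
  {C E' H : Type u} [AddCommGroup C] [Module R C] [AddCommGroup E'] [Module R E']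
  [AddCommGroup H] [Module R H]
  (𝒞 : ℤ → AddSubgroup C) (𝓔 : ℤ → AddSubgroup E') (ℋ : ℤ → AddSubgroup H)
  [DirectSum.Decomposition 𝒞] [SetLike.GradedSMul 𝒜 𝒞]
  [DirectSum.Decomposition 𝓔] [SetLike.GradedSMul 𝒜 𝓔]
  [DirectSum.Decomposition ℋ]
  [IsNoetherianRing R] [Module.Finite R C]
  (Φ : (C →ₗ[R] E') ≃ₗ[R] H)
  (hΦ : IsGrHom (fun d => (homDeg 𝒜 𝒞 𝓔 d).toAddSubgroup) ℋ Φ.toLinearMap)

include hΦ in
/-- **a homogeneous bijection from `Hom(C, E')` has a homogeneous inverse.** -/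
theorem mem_homDeg_of_map_mem {f : C →ₗ[R] E'} {d : ℤ} (hf : Φ f ∈ ℋ d) :
    f ∈ homDeg 𝒜 𝒞 𝓔 d := by
  classical
  obtain ⟨T, hT⟩ := exists_sum_homPart 𝒜 𝒞 𝓔 f
  have hmem : ∀ e, Φ (homPart 𝒜 𝒞 𝓔 f e) ∈ ℋ e := fun e =>
    hΦ e _ (homPart_mem 𝒜 𝒞 𝓔 f e)
  have hzero : ∀ e ∈ T, e ≠ d → homPart 𝒜 𝒞 𝓔 f e = 0 := by
    intro e he hed
    apply Φ.injective
    rw [map_zero]
    have h1 : ((decompose ℋ (Φ f) e : ℋ e) : H) = Φ (homPart 𝒜 𝒞 𝓔 f e) := by
      conv_lhs => rw [hT, map_sum, decompose_sum, DFinsupp.finsetSum_apply,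
        AddSubgroup.val_finsetSum]
      rw [Finset.sum_eq_single e]
      · rw [decompose_of_mem_same ℋ (hmem e)]
      · intro e' _ hne
        rw [decompose_of_mem_ne ℋ (hmem e') hne]
      · intro h
        exact absurd he h
    rw [← h1, decompose_of_mem_ne ℋ hf (Ne.symm hed)]
  rw [hT]
  refine Submodule.sum_mem _ fun e he => ?_
  by_cases hed : e = d
  · rw [hed]
    exact homPart_mem 𝒜 𝒞 𝓔 f d
  · rw [hzero e he hed]
    exact Submodule.zero_mem _

include hΦ in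
theorem symm_mem_homDeg {h : H} {d : ℤ} (hh : h ∈ ℋ d) : Φ.symm h ∈ homDeg 𝒜 𝒞 𝓔 d := by
  apply mem_homDeg_of_map_mem 𝒜 𝒞 𝓔 ℋ Φ hΦ
  rw [Φ.apply_symm_apply]
  exact hh

end inverse

end Groth.Agent.Lib.Helper20.GrDual
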