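import Mathlib
import Groth.Prelude.Def_GrLC
import Groth.Agent.Lib.Helper20.GrLCBasic
import Groth.Agent.Lib.Helper20.GrLCQuot
import Groth.Agent.Lib.Helper20.GrLES2
import Groth.Agent.Lib.Helper20.GrReg1

/-!
# The a-invariant from the shift of the canonical module (helper20)

If the canonical module `C` of a positively graded ring is `R(−a)` (via a bijection `R → C`
homogeneous of degree `a`), then `H^n_m(R)` is a shift of `*E(R/m)` and its end is `−a`.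
-/

set_option autoImplicit false
set_option linter.unusedSectionVars false
set_option linter.unusedVariables false
set_option linter.style.haveILetI false

universe u

open DirectSum GrLC

namespace Groth.Agent.Lib.Helper20.GrCanonShift

open Groth.Agent.Lib.Helper20.GrLCBasic Groth.Agent.Lib.Helper20.GrLCQuot
  Groth.Agent.Lib.Helper20.GrLES2 Groth.Agent.Lib.Helper20.GrReg1

variable {R : Type u} [CommRing R] (𝒜 : ℤ → AddSubgroup R) [GradedRing 𝒜]
  (hpos : ∀ n : ℤ, n < 0 → 𝒜 n = ⊥) (m : HomogeneousIdeal 𝒜)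
  (hmpos : ∀ n : ℤ, 0 < n → ∀ x : R, x ∈ 𝒜 n → x ∈ m.toIdeal) (hmne : m.toIdeal ≠ ⊤)
  {E' : Type u} [AddCommGroup E'] [Module R E'] (𝓔 : ℤ → AddSubgroup E')
  [DirectSum.Decomposition 𝓔] [SetLike.GradedSMul 𝒜 𝓔]
  (e : (R ⧸ m.toIdeal) →ₗ[R] E') (he : IsStarInjHull 𝒜 (quotGr 𝒜 m) 𝓔 e)

section hull

include hpos hmpos he in
/-- the image of `R/m` lies in degree `0`. -/
theorem range_le_zero (c : R ⧸ m.toIdeal) : e c ∈ 𝓔 0 := by
  classical
  obtain ⟨r, rfl⟩ := Ideal.Quotient.mk_surjective c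
  have h0 : Ideal.Quotient.mk m.toIdeal r =
      Ideal.Quotient.mk m.toIdeal ((decompose 𝒜 r 0 : 𝒜 0) : R) := by
    rw [Ideal.Quotient.eq]
    have hr : r - ((decompose 𝒜 r 0 : 𝒜 0) : R) =
        ∑ i ∈ (decompose 𝒜 r).support.erase 0, ((decompose 𝒜 r i : 𝒜 i) : R) := by
      by_cases h0s : (0 : ℤ) ∈ (decompose 𝒜 r).support
      · rw [sub_eq_iff_eq_add, Finset.sum_erase_add _ _ h0s, DirectSum.sum_support_decompose]
      · rw [Finset.erase_eq_of_notMem h0s, DirectSum.sum_support_decompose]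
        rw [DFinsupp.notMem_support_iff] at h0s
        rw [h0s]
        simp
    rw [hr]
    refine Ideal.sum_mem _ fun i hi => ?_
    have hi0 : i ≠ 0 := Finset.ne_of_mem_erase hi
    rcases lt_or_gt_of_ne hi0 with hlt | hgt
    · have : ((decompose 𝒜 r i : 𝒜 i) : R) ∈ (⊥ : AddSubgroup R) :=
        (hpos i hlt).le (SetLike.coe_mem _)
      rw [(AddSubgroup.mem_bot).1 this]
      exact Ideal.zero_mem _
    · exact hmpos i hgt _ (SetLike.coe_mem _)
  rw [h0]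
  exact he.grHom 0 _ ⟨_, SetLike.coe_mem (decompose 𝒜 r 0), rfl⟩

include hpos hmpos he in
/-- `*E(R/m)` vanishes in positive degrees. -/
theorem hull_eq_bot_of_pos (j : ℤ) (hj : 0 < j) : 𝓔 j = ⊥ := by
  classical
  rw [eq_bot_iff]
  intro x hx
  rw [AddSubgroup.mem_bot]
  by_contra hx0
  have hP : (Submodule.span R {x}).IsHomogeneous 𝓔 := by
    intro i y hy
    obtain ⟨r, rfl⟩ := Submodule.mem_span_singleton.1 hy
    obtain ⟨t, rfl⟩ : ∃ t, i = t + j := ⟨i - j, by ring⟩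
    rw [decompose_smul_right 𝒜 𝓔 hx r t]
    exact Submodule.smul_mem _ _ (Submodule.mem_span_singleton_self x)
  have hne : Submodule.span R {x} ≠ ⊥ := by
    intro h
    apply hx0
    have : x ∈ Submodule.span R {x} := Submodule.mem_span_singleton_self x
    rw [h] at this
    exact (Submodule.mem_bot R).1 this
  have hmeet := he.essential _ hP hne
  obtain ⟨y, hy, hy0⟩ := Submodule.exists_mem_ne_zero_of_ne_bot hmeet
  obtain ⟨hy1, c, hc⟩ := hy
  obtain ⟨r, hr⟩ := Submodule.mem_span_singleton.1 hy1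
  apply hy0
  have hy0' : y ∈ 𝓔 0 := hc ▸ range_le_zero 𝒜 hpos m hmpos 𝓔 e he c
  have h1 : ((decompose 𝓔 y 0 : 𝓔 0) : E') = y := decompose_of_mem_same 𝓔 hy0'
  rw [← h1, ← hr]
  have h2 := decompose_smul_right 𝒜 𝓔 hx r (-j)
  rw [neg_add_cancel] at h2
  rw [h2]
  have : ((decompose 𝒜 r (-j) : 𝒜 (-j)) : R) ∈ (⊥ : AddSubgroup R) :=
    (hpos (-j) (by omega)).le (SetLike.coe_mem _)
  rw [(AddSubgroup.mem_bot).1 this, zero_smul]

include hmne he in
/-- `*E(R/m)` is nonzero in degree `0`. -/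
theorem hull_zero_ne_bot (h0 : ∀ c : R ⧸ m.toIdeal, e c ∈ 𝓔 0) : 𝓔 0 ≠ ⊥ := by
  intro h
  have h1 : e 1 ∈ (⊥ : AddSubgroup E') := h ▸ h0 1
  rw [AddSubgroup.mem_bot] at h1
  have h2 : (1 : R ⧸ m.toIdeal) = 0 := he.injective (by rw [h1, map_zero])
  apply hmne
  rw [Ideal.eq_top_iff_one, ← Ideal.Quotient.eq_zero_iff_mem]
  exact h2

end hull

section shift

variable {C : Type u} [AddCommGroup C] [Module R C] (𝒞 : ℤ → AddSubgroup C)
  [DirectSum.Decomposition 𝒞] [SetLike.GradedSMul 𝒜 𝒞]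
  (I : StarInjRes 𝒜 𝒜) (n : ℕ) (φ : (C →ₗ[R] E') ≃ₗ[R] I.H m n)
  (hφ : IsGrHom (fun d => (homDeg 𝒜 𝒞 𝓔 d).toAddSubgroup) (I.Hgr m n) φ.toLinearMap)
  (a : ℤ) (f : R →ₗ[R] C) (hf : Function.Bijective f) (hfa : IsGrHomDeg 𝒜 𝒞 f a)

include hfa in
/-- the inverse of a homogeneous bijection is homogeneous. -/
theorem symm_mem {g : ℤ} {c : C} (hc : c ∈ 𝒞 g) :
    (LinearEquiv.ofBijective f hf).symm c ∈ 𝒜 (g - a) := by
  have hgr : IsGrHom 𝒜 (shiftGr 𝒞 a) f := hfa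
  refine mem_of_map_mem 𝒜 (shiftGr 𝒞 a) f hgr hf.1 ?_
  have h1 : f ((LinearEquiv.ofBijective f hf).symm c) = c :=
    (LinearEquiv.ofBijective f hf).apply_symm_apply c
  rw [h1]
  show c ∈ 𝒞 (g - a + a)
  rw [sub_add_cancel]
  exact hc

/-- `E' ≃ Hom(C, E')` induced by `R ≃ C`. -/
noncomputable def Psi : E' ≃ₗ[R] (C →ₗ[R] E') :=
  (LinearMap.ringLmapEquivSelf R R E').symm ≪≫ₗ
    ((LinearEquiv.ofBijective f hf).arrowCongr (LinearEquiv.refl R E'))

theorem Psi_apply (x : E') (c : C) :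
    Psi f hf x c = (LinearEquiv.ofBijective f hf).symm c • x := by
  unfold Psi
  simp [LinearEquiv.arrowCongr_apply, LinearMap.ringLmapEquivSelf_symm_apply]

/-- `E' ≃ H^n_m(R)`. -/
noncomputable def Theta : E' ≃ₗ[R] I.H m n := Psi f hf ≪≫ₗ φ

include hφ hfa in
theorem Theta_mem {j : ℤ} {x : E'} (hx : x ∈ 𝓔 j) :
    Theta 𝒜 m I n φ f hf x ∈ I.Hgr m n (j - a) := by
  refine hφ (j - a) (Psi f hf x) ?_
  intro g c hc
  rw [Psi_apply]
  have h1 := symm_mem 𝒜 𝒞 a f hf hfa hc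
  have h2 := SetLike.GradedSMul.smul_mem (A := 𝒜) (B := 𝓔) h1 hx
  rw [vadd_eq_add] at h2
  have : g - a + j = g + (j - a) := by ring
  rw [this] at h2
  exact h2

include hφ hfa hf in
/-- the pieces of `H^n_m(R)` and of `E'` correspond. -/
theorem Hgr_ne_bot_iff (d : ℤ) : I.Hgr m n d ≠ ⊥ ↔ 𝓔 (d + a) ≠ ⊥ := by
  letI := decH I m n
  constructor
  · intro h
    obtain ⟨y, hy, hy0⟩ := Groth.Agent.Lib.Helper20.GrAinv.exists_ne_zero_of_ne_bot h
    have hgr : IsGrHom 𝓔 (shiftGr (I.Hgr m n) (-a)) (Theta 𝒜 m I n φ f hf).toLinearMap := by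
      intro j x hx
      show Theta 𝒜 m I n φ f hf x ∈ I.Hgr m n (j + -a)
      rw [← sub_eq_add_neg]
      exact Theta_mem 𝒜 m 𝓔 𝒞 I n φ hφ a f hf hfa hx
    have hmem : (Theta 𝒜 m I n φ f hf).symm y ∈ 𝓔 (d + a) := by
      refine mem_of_map_mem 𝓔 (shiftGr (I.Hgr m n) (-a)) _ hgr (Theta 𝒜 m I n φ f hf).injective ?_
      show (Theta 𝒜 m I n φ f hf) ((Theta 𝒜 m I n φ f hf).symm y) ∈ I.Hgr m n (d + a + -a)
      rw [LinearEquiv.apply_symm_apply, add_neg_cancel_right]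
      exact hy
    intro hbot
    rw [hbot, AddSubgroup.mem_bot] at hmem
    apply hy0
    have := congrArg (Theta 𝒜 m I n φ f hf) hmem
    rwa [LinearEquiv.apply_symm_apply, map_zero] at this
  · intro h
    obtain ⟨x, hx, hx0⟩ := Groth.Agent.Lib.Helper20.GrAinv.exists_ne_zero_of_ne_bot h
    have hmem := Theta_mem 𝒜 m 𝓔 𝒞 I n φ hφ a f hf hfa hx
    rw [add_sub_cancel_right] at hmem
    intro hbot
    rw [hbot, AddSubgroup.mem_bot] at hmem
    exact hx0 ((Theta 𝒜 m I n φ f hf).injective (by rw [hmem, map_zero]))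

include hpos hmpos hmne he hφ hfa hf in
/-- **the a-invariant is minus the shift of the canonical module.** -/
theorem endDeg_eq_neg :
    endDeg (I.Hgr m n) = (((-a : ℤ) : WithTop ℤ) : WithBot (WithTop ℤ)) := by
  apply le_antisymm
  · rw [endDeg_le_iff]
    intro d hd
    by_contra hne
    have h1 := (Hgr_ne_bot_iff 𝒜 m 𝓔 𝒞 I n φ hφ a f hf hfa d).1 hne
    exact h1 (hull_eq_bot_of_pos 𝒜 hpos m hmpos 𝓔 e he (d + a) (by omega))
  · apply le_endDeg
    rw [Hgr_ne_bot_iff 𝒜 m 𝓔 𝒞 I n φ hφ a f hf hfa, neg_add_cancel]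
    exact hull_zero_ne_bot 𝒜 m hmne 𝓔 e he (range_le_zero 𝒜 hpos m hmpos 𝓔 e he)

end shift

end Groth.Agent.Lib.Helper20.GrCanonShift
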