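import Mathlib
import Groth.Prelude.Def_GrLC
import Groth.Agent.Lib.Helper20.GrLCBasic
import Groth.Agent.Lib.Helper20.GrLCQuot
import Groth.Agent.Lib.Helper20.GrLCExt
import Groth.Agent.Lib.Helper20.GrFieldLocal
import Groth.Agent.Lib.Helper20.GrCanonShift
import Groth.Agent.Lib.Helper20.GrFin1

/-!
# The `*`injective envelope of the residue field of a graded ring over a field: duality of the
graded pieces (helper20)

`dim_k *E(k)_{-d} = dim_k R_d`.
-/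

set_option autoImplicit false
set_option linter.unusedSectionVars false
set_option linter.unusedVariables false
set_option linter.style.haveILetI false

universe u

open DirectSum GrLC Groth.Agent.Lib.Helper20.GrLCBasic Groth.Agent.Lib.Helper20.GrLCQuot
  Groth.Agent.Lib.Helper20.GrLCExt Groth.Agent.Lib.Helper20.GrFieldLocal
  Groth.Agent.Lib.Helper20.GrCanonShift

namespace Groth.Agent.Lib.Helper20.GrHullDual

variable {R : Type u} [CommRing R] (𝒜 : ℤ → AddSubgroup R) [GradedRing 𝒜]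
  (hpos : ∀ n : ℤ, n < 0 → 𝒜 n = ⊥) (h0 : IsField (deg0 𝒜))
  (m : HomogeneousIdeal 𝒜)
  (hmsp : m.toIdeal = Ideal.span (⋃ n ∈ Set.Ioi (0 : ℤ), (𝒜 n : Set R)))
  {E' : Type u} [AddCommGroup E'] [Module R E'] (𝓔 : ℤ → AddSubgroup E')
  [DirectSum.Decomposition 𝓔] [SetLike.GradedSMul 𝒜 𝓔]
  (e : (R ⧸ m.toIdeal) →ₗ[R] E') (he : IsStarInjHull 𝒜 (quotGr 𝒜 m) 𝓔 e)

include hpos hmsp he in
theorem range_le_zero' (c : R ⧸ m.toIdeal) : e c ∈ 𝓔 0 :=
  range_le_zero 𝒜 hpos m (fun n hn x hx => mem_of_pos 𝒜 m hmsp hn hx) 𝓔 e he c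

include hpos hmsp he in
/-- left non-degeneracy: a nonzero homogeneous element of the envelope is carried into the socle by
a homogeneous ring element of the opposite degree. -/
theorem exists_smul_ne_zero {j : ℤ} {x : E'} (hx : x ∈ 𝓔 j) (hx0 : x ≠ 0) :
    ∃ r ∈ 𝒜 (-j), r • x ≠ 0 ∧ r • x ∈ LinearMap.range e := by
  classical
  have hP : (Submodule.span R {x}).IsHomogeneous 𝓔 := span_singleton_isHomogeneous 𝒜 𝓔 hx
  have hne : Submodule.span R {x} ≠ ⊥ := by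
    rw [Ne, Submodule.span_singleton_eq_bot]
    exact hx0
  obtain ⟨y, hy, hy0⟩ := Submodule.exists_mem_ne_zero_of_ne_bot (he.essential _ hP hne)
  obtain ⟨hy1, c, hc⟩ := hy
  obtain ⟨r, hr⟩ := Submodule.mem_span_singleton.1 hy1
  have hy0' : y ∈ 𝓔 0 := hc ▸ range_le_zero' 𝒜 hpos m hmsp 𝓔 e he c
  have h1 : ((decompose 𝓔 y 0 : 𝓔 0) : E') = y := decompose_of_mem_same 𝓔 hy0'
  have h2 := decompose_smul_right 𝒜 𝓔 hx r (-j)
  rw [neg_add_cancel, hr, h1] at h2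
  refine ⟨((decompose 𝒜 r (-j) : 𝒜 (-j)) : R), SetLike.coe_mem _, ?_, ?_⟩
  · rw [← h2]
    exact hy0
  · rw [← h2]
    exact ⟨c, hc⟩

include hpos h0 hmsp he in
/-- the degree-zero piece of the envelope is the image of the residue field. -/
theorem mem_range_of_mem_zero {x : E'} (hx : x ∈ 𝓔 0) : x ∈ LinearMap.range e := by
  by_cases hx0 : x = 0
  · rw [hx0]
    exact zero_mem _
  · obtain ⟨r, hr, hrx, c, hc⟩ := exists_smul_ne_zero 𝒜 hpos m hmsp 𝓔 e he hx hx0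
    rw [neg_zero] at hr
    have hr0 : (⟨r, hr⟩ : deg0 𝒜) ≠ 0 := by
      intro h
      apply hrx
      have : r = 0 := congrArg Subtype.val h
      rw [this, zero_smul]
    obtain ⟨b, hb⟩ := h0.mul_inv_cancel hr0
    have hb' : r * (b : R) = 1 := congrArg Subtype.val hb
    refine ⟨(b : R) • c, ?_⟩
    rw [map_smul, hc, ← mul_smul, mul_comm, hb', one_smul]

include hpos h0 hmsp he in
/-- right non-degeneracy: a nonzero homogeneous ring element acts nontrivially on the piece of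
opposite degree of the envelope. -/
theorem exists_smul_ne_zero' {d : ℤ} {r : R} (hr : r ∈ 𝒜 d) (hr0 : r ≠ 0) :
    ∃ x ∈ 𝓔 (-d), r • x ≠ 0 := by
  let μ : R →ₗ[R] R := LinearMap.toSpanSingleton R R r
  have hμ : ∀ s, μ s = s * r := fun s => rfl
  have hμgr : IsGrHom 𝒜 (shiftGr 𝒜 d) μ := by
    intro i s hs
    exact SetLike.GradedMul.mul_mem hs hr
  have hJ : (LinearMap.ker μ).IsHomogeneous 𝒜 := ker_isHomogeneous 𝒜 (shiftGr 𝒜 d) μ hμgr
  have hJne : (⟨LinearMap.ker μ, hJ⟩ : HomogeneousIdeal 𝒜) ≠ ⊤ := by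
    intro h
    have h1 : (1 : R) ∈ LinearMap.ker μ := by
      have h2 : LinearMap.ker μ = ⊤ := congrArg HomogeneousIdeal.toIdeal h
      rw [h2]
      exact Submodule.mem_top
    rw [LinearMap.mem_ker, hμ, one_mul] at h1
    exact hr0 h1
  have hJm : LinearMap.ker μ ≤ m.toIdeal := le_of_ne_top 𝒜 hpos h0 m hmsp _ hJne
  let A : GMod.{u} 𝒜 := quotGMod (GMod.of 𝒜 R 𝒜) (LinearMap.ker μ) hJ
  let B : GMod.{u} 𝒜 := shiftGMod 𝒜 (GMod.of 𝒜 R 𝒜) d
  let ν : (R ⧸ LinearMap.ker μ) →ₗ[R] R := (LinearMap.ker μ).liftQ μ le_rfl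
  have hνinj : Function.Injective ν := by
    rw [← LinearMap.ker_eq_bot]
    exact Submodule.ker_liftQ_eq_bot _ _ _ le_rfl
  have hνgr : IsGrHom A.gr B.gr ν := by
    rintro i _ ⟨s, hs, rfl⟩
    exact hμgr i s hs
  let π : (R ⧸ LinearMap.ker μ) →ₗ[R] (R ⧸ m.toIdeal) :=
    Submodule.mapQ (LinearMap.ker μ) m.toIdeal LinearMap.id (fun s hs => hJm hs)
  let g : (R ⧸ LinearMap.ker μ) →ₗ[R] E' := e ∘ₗ π
  have hg : IsGrHom A.gr 𝓔 g := by
    rintro i _ ⟨s, hs, rfl⟩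
    exact he.grHom i _ ⟨s, hs, rfl⟩
  obtain ⟨h₀, hh, hcomp⟩ := he.starInj A B ν hνgr hνinj g hg
  let h : R →ₗ[R] E' := h₀
  have hh' : ∀ (i : ℤ) (s : R), s ∈ 𝒜 (i + d) → h s ∈ 𝓔 i := fun i s hs => hh i s hs
  have h1 : (1 : R) ∈ 𝒜 (-d + d) := by
    rw [neg_add_cancel]
    exact SetLike.GradedOne.one_mem (A := 𝒜)
  refine ⟨h 1, hh' (-d) 1 h1, ?_⟩
  have h2 : ν ((LinearMap.ker μ).mkQ 1) = r := by
    change μ 1 = r
    rw [hμ, one_mul]
  have h3 : r • h 1 = e (Ideal.Quotient.mk m.toIdeal 1) := by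
    have h4 : h (r • (1 : R)) = r • h 1 := map_smul h r 1
    rw [← h4, smul_eq_mul, mul_one]
    have h5 : h (ν ((LinearMap.ker μ).mkQ 1)) = g ((LinearMap.ker μ).mkQ 1) :=
      LinearMap.congr_fun hcomp ((LinearMap.ker μ).mkQ 1)
    rw [h2] at h5
    rw [h5]
    rfl
  rw [h3]
  intro h6
  have h7 : Ideal.Quotient.mk m.toIdeal 1 = 0 := he.injective (by rw [h6, map_zero])
  rw [Ideal.Quotient.eq_zero_iff_mem] at h7
  exact ne_top 𝒜 hpos h0 m hmsp ((Ideal.eq_top_iff_one _).2 h7)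

end Groth.Agent.Lib.Helper20.GrHullDual
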