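import Mathlib
import Groth.Prelude.Def_GrLC
import Groth.Agent.Lib.Helper20.GrHullDual

/-!
# `dim_k *E(k)_{-d} = dim_k R_d` (helper20)
-/

set_option autoImplicit false
set_option linter.unusedSectionVars false
set_option linter.unusedVariables false
set_option linter.style.haveILetI false

universe u

open DirectSum GrLC Groth.Agent.Lib.Helper20.GrLCBasic Groth.Agent.Lib.Helper20.GrLCQuot
  Groth.Agent.Lib.Helper20.GrFieldLocal Groth.Agent.Lib.Helper20.GrHullDual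

namespace Groth.Agent.Lib.Helper20.GrHullDual

variable {R : Type u} [CommRing R] (𝒜 : ℤ → AddSubgroup R) [GradedRing 𝒜]
  {E' : Type u} [AddCommGroup E'] [Module R E'] (𝓔 : ℤ → AddSubgroup E')
  [DirectSum.Decomposition 𝓔] [SetLike.GradedSMul 𝒜 𝓔]

lemma smul_mem_zero {d : ℤ} {r : R} (hr : r ∈ 𝒜 d) {x : E'} (hx : x ∈ 𝓔 (-d)) :
    r • x ∈ 𝓔 0 := by
  have h := SetLike.GradedSMul.smul_mem (A := 𝒜) (B := 𝓔) hr hx
  rwa [vadd_eq_add, add_neg_cancel] at h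

/-- the pairing `E'_{-d} → Hom(R_d, E'_0)`. -/
noncomputable def pairL (d : ℤ) :
    (comp 𝒜 𝓔 (-d)) →ₗ[deg0 𝒜] ((comp 𝒜 𝒜 d) →ₗ[deg0 𝒜] (comp 𝒜 𝓔 0)) where
  toFun x :=
    { toFun := fun r => ⟨(r : R) • (x : E'), smul_mem_zero 𝒜 𝓔 r.2 x.2⟩
      map_add' := fun r s => Subtype.ext (add_smul (r : R) (s : R) (x : E'))
      map_smul' := fun c r => Subtype.ext (by
        change (((c : R) * (r : R)) • (x : E')) = (c : R) • ((r : R) • (x : E'))
        rw [mul_smul]) }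
  map_add' x y := by
    apply LinearMap.ext
    intro r
    exact Subtype.ext (smul_add (r : R) (x : E') (y : E'))
  map_smul' c x := by
    apply LinearMap.ext
    intro r
    apply Subtype.ext
    change (r : R) • ((c : R) • (x : E')) = (c : R) • ((r : R) • (x : E'))
    rw [smul_comm]

/-- the pairing `R_d → Hom(E'_{-d}, E'_0)`. -/
noncomputable def pairR (d : ℤ) :
    (comp 𝒜 𝒜 d) →ₗ[deg0 𝒜] ((comp 𝒜 𝓔 (-d)) →ₗ[deg0 𝒜] (comp 𝒜 𝓔 0)) where
  toFun r :=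
    { toFun := fun x => ⟨(r : R) • (x : E'), smul_mem_zero 𝒜 𝓔 r.2 x.2⟩
      map_add' := fun x y => Subtype.ext (smul_add (r : R) (x : E') (y : E'))
      map_smul' := fun c x => Subtype.ext (by
        change (r : R) • ((c : R) • (x : E')) = (c : R) • ((r : R) • (x : E'))
        rw [smul_comm]) }
  map_add' r s := by
    apply LinearMap.ext
    intro x
    exact Subtype.ext (add_smul (r : R) (s : R) (x : E'))
  map_smul' c r := by
    apply LinearMap.ext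
    intro x
    apply Subtype.ext
    change (((c : R) * (r : R)) • (x : E')) = (c : R) • ((r : R) • (x : E'))
    rw [mul_smul]

variable [IsNoetherianRing R]
  (hpos : ∀ n : ℤ, n < 0 → 𝒜 n = ⊥) (h0 : IsField (deg0 𝒜))
  (m : HomogeneousIdeal 𝒜)
  (hmsp : m.toIdeal = Ideal.span (⋃ n ∈ Set.Ioi (0 : ℤ), (𝒜 n : Set R)))
  (e : (R ⧸ m.toIdeal) →ₗ[R] E') (he : IsStarInjHull 𝒜 (quotGr 𝒜 m) 𝓔 e)

include hpos h0 hmsp he in
/-- the degree-zero piece of the envelope is spanned over `R_0` by the image of `1`. -/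
theorem exists_smul_eq_of_mem_zero {w : E'} (hw : w ∈ 𝓔 0) : ∃ c ∈ 𝒜 0, w = c • e 1 := by
  obtain ⟨c, hc⟩ := mem_range_of_mem_zero 𝒜 hpos h0 m hmsp 𝓔 e he hw
  obtain ⟨r, rfl⟩ := Ideal.Quotient.mk_surjective c
  have hm' := Groth.Agent.Lib.Helper20.GrArtin.sub_decompose_zero_mem 𝒜 hpos m
    (isStarLocal 𝒜 hpos h0 m hmsp).1 r
  refine ⟨((decompose 𝒜 r 0 : 𝒜 0) : R), SetLike.coe_mem _, ?_⟩
  rw [← hc, ← map_smul]
  congr 1
  have h1 : Ideal.Quotient.mk m.toIdeal r =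
      Ideal.Quotient.mk m.toIdeal ((decompose 𝒜 r 0 : 𝒜 0) : R) := by
    rw [Ideal.Quotient.eq]
    exact hm'
  rw [h1]
  change _ = Ideal.Quotient.mk m.toIdeal (((decompose 𝒜 r 0 : 𝒜 0) : R) * 1)
  rw [mul_one]

include hpos h0 hmsp he in
/-- the degree-zero piece of the envelope is one-dimensional. -/
theorem finrank_comp_zero :
    letI : Field (deg0 𝒜) := h0.toField
    Module.finrank (deg0 𝒜) (comp 𝒜 𝓔 0) = 1 := by
  letI : Field (deg0 𝒜) := h0.toField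
  have hε0 : e 1 ≠ 0 := by
    intro h6
    have h7 : (1 : R ⧸ m.toIdeal) = 0 := he.injective (by rw [h6, map_zero])
    have h8 : Ideal.Quotient.mk m.toIdeal 1 = 0 := h7
    rw [Ideal.Quotient.eq_zero_iff_mem] at h8
    exact ne_top 𝒜 hpos h0 m hmsp ((Ideal.eq_top_iff_one _).2 h8)
  let ε : comp 𝒜 𝓔 0 := ⟨e 1, range_le_zero' 𝒜 hpos m hmsp 𝓔 e he 1⟩
  have hεne : ε ≠ 0 := fun h => hε0 (congrArg Subtype.val h)
  rw [finrank_eq_one_iff_of_nonzero' ε hεne]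
  rintro ⟨w, hw⟩
  obtain ⟨c, hc⟩ := mem_range_of_mem_zero 𝒜 hpos h0 m hmsp 𝓔 e he hw
  obtain ⟨r, rfl⟩ := Ideal.Quotient.mk_surjective c
  have hm' := Groth.Agent.Lib.Helper20.GrArtin.sub_decompose_zero_mem 𝒜 hpos m
    (isStarLocal 𝒜 hpos h0 m hmsp).1 r
  refine ⟨⟨((decompose 𝒜 r 0 : 𝒜 0) : R), SetLike.coe_mem _⟩, ?_⟩
  apply Subtype.ext
  change ((decompose 𝒜 r 0 : 𝒜 0) : R) • e 1 = w
  rw [← hc, ← map_smul]
  congr 1
  have h1 : Ideal.Quotient.mk m.toIdeal r =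
      Ideal.Quotient.mk m.toIdeal ((decompose 𝒜 r 0 : 𝒜 0) : R) := by
    rw [Ideal.Quotient.eq]
    exact hm'
  rw [h1]
  change Ideal.Quotient.mk m.toIdeal (((decompose 𝒜 r 0 : 𝒜 0) : R) * 1) = _
  rw [mul_one]

include hpos h0 hmsp he in
/-- the graded pieces of the envelope are finite dimensional. -/
theorem finite_comp_neg (d : ℤ) : Module.Finite (deg0 𝒜) (comp 𝒜 𝓔 (-d)) := by
  letI : Field (deg0 𝒜) := h0.toField
  haveI : IsNoetherian R R := inferInstance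
  haveI hV : IsNoetherian (deg0 𝒜) (comp 𝒜 𝒜 d) :=
    Groth.Agent.Lib.Helper20.GrFin1.isNoetherian_comp 𝒜 𝒜 d
  haveI : Module.Finite (deg0 𝒜) (comp 𝒜 𝒜 d) := Module.IsNoetherian.finite _ _
  have hL : Module.finrank (deg0 𝒜) (comp 𝒜 𝓔 0) = 1 :=
    finrank_comp_zero 𝒜 𝓔 hpos h0 m hmsp e he
  haveI : Module.Finite (deg0 𝒜) (comp 𝒜 𝓔 0) := Module.finite_of_finrank_eq_succ hL
  have hinjL : Function.Injective (pairL 𝒜 𝓔 d) := by
    rw [injective_iff_map_eq_zero]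
    intro x hx
    by_contra hx0
    have hx0' : (x : E') ≠ 0 := fun h => hx0 (Subtype.ext h)
    obtain ⟨r, hr, hrx, -⟩ := exists_smul_ne_zero 𝒜 hpos m hmsp 𝓔 e he x.2 hx0'
    rw [neg_neg] at hr
    apply hrx
    have h1 := LinearMap.congr_fun hx (⟨r, hr⟩ : comp 𝒜 𝒜 d)
    exact congrArg Subtype.val h1
  exact Module.Finite.of_injective (pairL 𝒜 𝓔 d) hinjL

include hpos h0 hmsp he in
/-- **the graded pieces of the envelope are dual to those of the ring.** -/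
theorem finrank_comp_neg (d : ℤ) :
    Module.finrank (deg0 𝒜) (comp 𝒜 𝓔 (-d)) = Module.finrank (deg0 𝒜) (comp 𝒜 𝒜 d) := by
  letI : Field (deg0 𝒜) := h0.toField
  haveI : IsNoetherian R R := inferInstance
  haveI hV : IsNoetherian (deg0 𝒜) (comp 𝒜 𝒜 d) :=
    Groth.Agent.Lib.Helper20.GrFin1.isNoetherian_comp 𝒜 𝒜 d
  haveI : Module.Finite (deg0 𝒜) (comp 𝒜 𝒜 d) := Module.IsNoetherian.finite _ _
  have hL : Module.finrank (deg0 𝒜) (comp 𝒜 𝓔 0) = 1 :=
    finrank_comp_zero 𝒜 𝓔 hpos h0 m hmsp e he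
  haveI : Module.Finite (deg0 𝒜) (comp 𝒜 𝓔 0) := Module.finite_of_finrank_eq_succ hL
  have hinjL : Function.Injective (pairL 𝒜 𝓔 d) := by
    rw [injective_iff_map_eq_zero]
    intro x hx
    by_contra hx0
    have hx0' : (x : E') ≠ 0 := fun h => hx0 (Subtype.ext h)
    obtain ⟨r, hr, hrx, -⟩ := exists_smul_ne_zero 𝒜 hpos m hmsp 𝓔 e he x.2 hx0'
    rw [neg_neg] at hr
    apply hrx
    have h1 := LinearMap.congr_fun hx (⟨r, hr⟩ : comp 𝒜 𝒜 d)
    exact congrArg Subtype.val h1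
  haveI : Module.Finite (deg0 𝒜) (comp 𝒜 𝓔 (-d)) :=
    Module.Finite.of_injective (pairL 𝒜 𝓔 d) hinjL
  have hinjR : Function.Injective (pairR 𝒜 𝓔 d) := by
    rw [injective_iff_map_eq_zero]
    intro r hr
    by_contra hr0
    have hr0' : (r : R) ≠ 0 := fun h => hr0 (Subtype.ext h)
    obtain ⟨x, hx, hrx⟩ := exists_smul_ne_zero' 𝒜 hpos h0 m hmsp 𝓔 e he r.2 hr0'
    apply hrx
    have h1 := LinearMap.congr_fun hr (⟨x, hx⟩ : comp 𝒜 𝓔 (-d))
    exact congrArg Subtype.val h1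
  have h1 := LinearMap.finrank_le_finrank_of_injective hinjL
  have h2 := LinearMap.finrank_le_finrank_of_injective hinjR
  rw [Module.finrank_linearMap, hL, mul_one] at h1 h2
  exact le_antisymm h1 h2

end Groth.Agent.Lib.Helper20.GrHullDual
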