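import Mathlib
import Groth.Prelude.Def_GrLC
import Groth.Agent.Lib.Helper20.GrDual1
import Groth.Agent.Lib.Helper20.GrHullDual2

/-!
# Graded Matlis duality over a field, piecewise (helper20)

`R` Noetherian, positively graded with `R_0` a field, `E'` the `*`injective envelope of the residue
field, `C` a finitely generated graded module and `Φ : Hom(C, E') ≃ H` a homogeneous isomorphism.
Then the pairing `C_j × H_{-j} → E'_0` is perfect.
-/

set_option autoImplicit false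
set_option linter.unusedSectionVars false
set_option linter.unusedVariables false
set_option linter.style.haveILetI false

universe u

open DirectSum GrLC Groth.Agent.Lib.Helper20.GrLCBasic Groth.Agent.Lib.Helper20.GrLCQuot
  Groth.Agent.Lib.Helper20.GrLCExt Groth.Agent.Lib.Helper20.GrFieldLocal
  Groth.Agent.Lib.Helper20.GrHullDual

namespace Groth.Agent.Lib.Helper20.GrDual

variable {R : Type u} [CommRing R] [IsNoetherianRing R] (𝒜 : ℤ → AddSubgroup R) [GradedRing 𝒜]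
  (hpos : ∀ n : ℤ, n < 0 → 𝒜 n = ⊥) (h0 : IsField (deg0 𝒜))
  (m : HomogeneousIdeal 𝒜)
  (hmsp : m.toIdeal = Ideal.span (⋃ n ∈ Set.Ioi (0 : ℤ), (𝒜 n : Set R)))
  {E' : Type u} [AddCommGroup E'] [Module R E'] (𝓔 : ℤ → AddSubgroup E')
  [DirectSum.Decomposition 𝓔] [SetLike.GradedSMul 𝒜 𝓔]
  (e : (R ⧸ m.toIdeal) →ₗ[R] E') (he : IsStarInjHull 𝒜 (quotGr 𝒜 m) 𝓔 e)
  {C : Type u} [AddCommGroup C] [Module R C] (𝒞 : ℤ → AddSubgroup C)
  [DirectSum.Decomposition 𝒞] [SetLike.GradedSMul 𝒜 𝒞]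

include hpos h0 hmsp he in
/-- a nonzero homogeneous element is detected by a homogeneous map into the envelope. -/
theorem exists_hom_ne_zero {i : ℤ} {c : C} (hc : c ∈ 𝒞 i) (hc0 : c ≠ 0) :
    ∃ f : C →ₗ[R] E', f ∈ homDeg 𝒜 𝒞 𝓔 (-i) ∧ f c ≠ 0 := by
  let μ : R →ₗ[R] C := LinearMap.toSpanSingleton R C c
  have hμ : ∀ s, μ s = s • c := fun s => rfl
  have hμgr : IsGrHom 𝒜 (shiftGr 𝒞 i) μ := by
    intro j s hs
    exact SetLike.GradedSMul.smul_mem (A := 𝒜) (B := 𝒞) hs hc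
  have hJ : (LinearMap.ker μ).IsHomogeneous 𝒜 := ker_isHomogeneous 𝒜 (shiftGr 𝒞 i) μ hμgr
  have hJne : (⟨LinearMap.ker μ, hJ⟩ : HomogeneousIdeal 𝒜) ≠ ⊤ := by
    intro h
    have h1 : (1 : R) ∈ LinearMap.ker μ := by
      have h2 : LinearMap.ker μ = ⊤ := congrArg HomogeneousIdeal.toIdeal h
      rw [h2]
      exact Submodule.mem_top
    rw [LinearMap.mem_ker, hμ, one_smul] at h1
    exact hc0 h1
  have hJm : LinearMap.ker μ ≤ m.toIdeal := le_of_ne_top 𝒜 hpos h0 m hmsp _ hJne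
  let A : GMod.{u} 𝒜 := quotGMod (GMod.of 𝒜 R 𝒜) (LinearMap.ker μ) hJ
  let B : GMod.{u} 𝒜 := shiftGMod 𝒜 (GMod.of 𝒜 C 𝒞) i
  let ν : (R ⧸ LinearMap.ker μ) →ₗ[R] C := (LinearMap.ker μ).liftQ μ le_rfl
  have hνinj : Function.Injective ν := by
    rw [← LinearMap.ker_eq_bot]
    exact Submodule.ker_liftQ_eq_bot _ _ _ le_rfl
  have hνgr : IsGrHom A.gr B.gr ν := by
    rintro j _ ⟨s, hs, rfl⟩
    exact hμgr j s hs
  let π : (R ⧸ LinearMap.ker μ) →ₗ[R] (R ⧸ m.toIdeal) :=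
    Submodule.mapQ (LinearMap.ker μ) m.toIdeal LinearMap.id (fun s hs => hJm hs)
  let g : (R ⧸ LinearMap.ker μ) →ₗ[R] E' := e ∘ₗ π
  have hg : IsGrHom A.gr 𝓔 g := by
    rintro j _ ⟨s, hs, rfl⟩
    exact he.grHom j _ ⟨s, hs, rfl⟩
  obtain ⟨h₀, hh, hcomp⟩ := he.starInj A B ν hνgr hνinj g hg
  let h : C →ₗ[R] E' := h₀
  refine ⟨h, ?_, ?_⟩
  · intro l x hx
    refine hh (l + -i) x ?_
    change x ∈ 𝒞 (l + -i + i)
    rwa [neg_add_cancel_right]
  · have h2 : ν ((LinearMap.ker μ).mkQ 1) = c := by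
      change μ 1 = c
      rw [hμ, one_smul]
    have h5 : h (ν ((LinearMap.ker μ).mkQ 1)) = g ((LinearMap.ker μ).mkQ 1) :=
      LinearMap.congr_fun hcomp ((LinearMap.ker μ).mkQ 1)
    rw [h2] at h5
    rw [h5]
    change e (Ideal.Quotient.mk m.toIdeal 1) ≠ 0
    intro h6
    have h7 : Ideal.Quotient.mk m.toIdeal 1 = 0 := he.injective (by rw [h6, map_zero])
    rw [Ideal.Quotient.eq_zero_iff_mem] at h7
    exact ne_top 𝒜 hpos h0 m hmsp ((Ideal.eq_top_iff_one _).2 h7)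

include hpos hmsp he in
/-- a nonzero homogeneous map into the envelope is detected on the piece of opposite degree. -/
theorem exists_ne_zero_of_hom_ne_zero {j : ℤ} {f : C →ₗ[R] E'} (hf : f ∈ homDeg 𝒜 𝒞 𝓔 j)
    (hf0 : f ≠ 0) : ∃ c ∈ 𝒞 (-j), f c ≠ 0 := by
  classical
  have h1 : ∃ x, f x ≠ 0 := by
    by_contra hcon
    push Not at hcon
    exact hf0 (LinearMap.ext hcon)
  obtain ⟨x, hx⟩ := h1
  have h2 : ∃ l, f ((decompose 𝒞 x l : 𝒞 l) : C) ≠ 0 := by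
    by_contra hcon
    push Not at hcon
    apply hx
    rw [← DirectSum.sum_support_decompose 𝒞 x, map_sum]
    exact Finset.sum_eq_zero fun l _ => hcon l
  obtain ⟨l, hl⟩ := h2
  have hmem : f ((decompose 𝒞 x l : 𝒞 l) : C) ∈ 𝓔 (l + j) := hf l _ (SetLike.coe_mem _)
  obtain ⟨r, hr, hrx, -⟩ := exists_smul_ne_zero 𝒜 hpos m hmsp 𝓔 e he hmem hl
  refine ⟨r • ((decompose 𝒞 x l : 𝒞 l) : C), ?_, ?_⟩
  · have := SetLike.GradedSMul.smul_mem (A := 𝒜) (B := 𝒞) hr (SetLike.coe_mem (decompose 𝒞 x l))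
    rw [vadd_eq_add] at this
    have hidx : -(l + j) + l = -j := by ring
    rwa [hidx] at this
  · rw [map_smul]
    exact hrx

end Groth.Agent.Lib.Helper20.GrDual
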