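import Mathlib
import Groth.Prelude.Def_GrLC
import Groth.Agent.Lib.Helper20.GrDual2
import Groth.Agent.Lib.Helper20.GrFin1

/-!
# Graded Matlis duality over a field: the perfect pairing `C_j × H_{-j} → E'_0` (helper20)
-/

set_option autoImplicit false
set_option linter.unusedSectionVars false
set_option linter.unusedVariables false
set_option linter.style.haveILetI false

universe u

open DirectSum GrLC Groth.Agent.Lib.Helper20.GrLCBasic Groth.Agent.Lib.Helper20.GrLCQuot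
  Groth.Agent.Lib.Helper20.GrLCExt Groth.Agent.Lib.Helper20.GrFieldLocal
  Groth.Agent.Lib.Helper20.GrHullDual

namespace Groth.Agent.Lib.Helper20.GrDual

variable {R : Type u} [CommRing R] [IsNoetherianRing R] (𝒜 : ℤ → AddSubgroup R) [GradedRing 𝒜]
  (hpos : ∀ n : ℤ, n < 0 → 𝒜 n = ⊥) (h0 : IsField (deg0 𝒜))
  (m : HomogeneousIdeal 𝒜)
  (hmsp : m.toIdeal = Ideal.span (⋃ n ∈ Set.Ioi (0 : ℤ), (𝒜 n : Set R)))
  {E' : Type u} [AddCommGroup E'] [Module R E'] (𝓔 : ℤ → AddSubgroup E')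
  [DirectSum.Decomposition 𝓔] [SetLike.GradedSMul 𝒜 𝓔]
  (e : (R ⧸ m.toIdeal) →ₗ[R] E') (he : IsStarInjHull 𝒜 (quotGr 𝒜 m) 𝓔 e)
  {C : Type u} [AddCommGroup C] [Module R C] (𝒞 : ℤ → AddSubgroup C)
  [DirectSum.Decomposition 𝒞] [SetLike.GradedSMul 𝒜 𝒞] [Module.Finite R C]
  {H : Type u} [AddCommGroup H] [Module R H] (ℋ : ℤ → AddSubgroup H)
  [DirectSum.Decomposition ℋ] [SetLike.GradedSMul 𝒜 ℋ]
  (Φ : (C →ₗ[R] E') ≃ₗ[R] H)
  (hΦ : IsGrHom (fun d => (homDeg 𝒜 𝒞 𝓔 d).toAddSubgroup) ℋ Φ.toLinearMap)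

include hΦ in
theorem pair_mem {j : ℤ} {c : C} (hc : c ∈ 𝒞 j) {h : H} (hh : h ∈ ℋ (-j)) :
    Φ.symm h c ∈ 𝓔 0 := by
  have := symm_mem_homDeg 𝒜 𝒞 𝓔 ℋ Φ hΦ hh j c hc
  rwa [add_neg_cancel] at this

/-- the pairing, as a map from `C_j`. -/
noncomputable def pairV (j : ℤ) :
    comp 𝒜 𝒞 j →ₗ[deg0 𝒜] (comp 𝒜 ℋ (-j) →ₗ[deg0 𝒜] comp 𝒜 𝓔 0) where
  toFun c :=
    { toFun := fun h => ⟨Φ.symm h.1 c.1, pair_mem 𝒜 𝓔 𝒞 ℋ Φ hΦ c.2 h.2⟩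
      map_add' := fun h h' => Subtype.ext (by
        change Φ.symm (h.1 + h'.1) c.1 = Φ.symm h.1 c.1 + Φ.symm h'.1 c.1
        rw [map_add, LinearMap.add_apply])
      map_smul' := fun a h => Subtype.ext (by
        change Φ.symm ((a : R) • h.1) c.1 = (a : R) • Φ.symm h.1 c.1
        rw [map_smul, LinearMap.smul_apply]) }
  map_add' c c' := by
    apply LinearMap.ext
    intro h
    apply Subtype.ext
    change Φ.symm h.1 (c.1 + c'.1) = Φ.symm h.1 c.1 + Φ.symm h.1 c'.1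
    rw [map_add]
  map_smul' a c := by
    apply LinearMap.ext
    intro h
    apply Subtype.ext
    change Φ.symm h.1 ((a : R) • c.1) = (a : R) • Φ.symm h.1 c.1
    rw [map_smul]

/-- the pairing, as a map from `H_{-j}`. -/
noncomputable def pairW (j : ℤ) :
    comp 𝒜 ℋ (-j) →ₗ[deg0 𝒜] (comp 𝒜 𝒞 j →ₗ[deg0 𝒜] comp 𝒜 𝓔 0) where
  toFun h :=
    { toFun := fun c => ⟨Φ.symm h.1 c.1, pair_mem 𝒜 𝓔 𝒞 ℋ Φ hΦ c.2 h.2⟩
      map_add' := fun c c' => Subtype.ext (by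
        change Φ.symm h.1 (c.1 + c'.1) = Φ.symm h.1 c.1 + Φ.symm h.1 c'.1
        rw [map_add])
      map_smul' := fun a c => Subtype.ext (by
        change Φ.symm h.1 ((a : R) • c.1) = (a : R) • Φ.symm h.1 c.1
        rw [map_smul]) }
  map_add' h h' := by
    apply LinearMap.ext
    intro c
    apply Subtype.ext
    change Φ.symm (h.1 + h'.1) c.1 = Φ.symm h.1 c.1 + Φ.symm h'.1 c.1
    rw [map_add, LinearMap.add_apply]
  map_smul' a h := by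
    apply LinearMap.ext
    intro c
    apply Subtype.ext
    change Φ.symm ((a : R) • h.1) c.1 = (a : R) • Φ.symm h.1 c.1
    rw [map_smul, LinearMap.smul_apply]

theorem pairV_apply (j : ℤ) (c : comp 𝒜 𝒞 j) (h : comp 𝒜 ℋ (-j)) :
    ((pairV 𝒜 𝓔 𝒞 ℋ Φ hΦ j c h : comp 𝒜 𝓔 0) : E') = Φ.symm h.1 c.1 := rfl

include hpos h0 hmsp he in
theorem pairV_injective (j : ℤ) : Function.Injective (pairV 𝒜 𝓔 𝒞 ℋ Φ hΦ j) := by
  rw [injective_iff_map_eq_zero]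
  intro c hc
  by_contra hc0
  have hc0' : (c : C) ≠ 0 := fun h => hc0 (Subtype.ext h)
  obtain ⟨f, hf, hfc⟩ := exists_hom_ne_zero 𝒜 hpos h0 m hmsp 𝓔 e he 𝒞 c.2 hc0'
  apply hfc
  have h1 := LinearMap.congr_fun hc (⟨Φ f, hΦ (-j) f hf⟩ : comp 𝒜 ℋ (-j))
  have h2 := congrArg Subtype.val h1
  rw [pairV_apply] at h2
  change Φ.symm (Φ f) c.1 = 0 at h2
  rwa [Φ.symm_apply_apply] at h2

include hpos hmsp he in
theorem pairW_injective (j : ℤ) : Function.Injective (pairW 𝒜 𝓔 𝒞 ℋ Φ hΦ j) := by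
  rw [injective_iff_map_eq_zero]
  intro h hh
  by_contra hh0
  have hf0 : Φ.symm h.1 ≠ 0 := by
    intro h1
    apply hh0
    apply Subtype.ext
    have := congrArg Φ h1
    rwa [Φ.apply_symm_apply, map_zero] at this
  obtain ⟨c, hc, hfc⟩ := exists_ne_zero_of_hom_ne_zero 𝒜 hpos m hmsp 𝓔 e he 𝒞
    (symm_mem_homDeg 𝒜 𝒞 𝓔 ℋ Φ hΦ h.2) hf0
  rw [neg_neg] at hc
  apply hfc
  have h1 := LinearMap.congr_fun hh (⟨c, hc⟩ : comp 𝒜 𝒞 j)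
  exact congrArg Subtype.val h1

include hpos h0 hmsp he Φ hΦ in
/-- the pieces of `C` and `H` in opposite degrees have the same dimension. -/
theorem finrank_H_eq (j : ℤ) :
    Module.finrank (deg0 𝒜) (comp 𝒜 ℋ (-j)) = Module.finrank (deg0 𝒜) (comp 𝒜 𝒞 j) := by
  letI : Field (deg0 𝒜) := h0.toField
  haveI : IsNoetherian R C := isNoetherian_of_isNoetherianRing_of_finite R C
  haveI hV : IsNoetherian (deg0 𝒜) (comp 𝒜 𝒞 j) :=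
    Groth.Agent.Lib.Helper20.GrFin1.isNoetherian_comp 𝒜 𝒞 j
  haveI : Module.Finite (deg0 𝒜) (comp 𝒜 𝒞 j) := Module.IsNoetherian.finite _ _
  have hL : Module.finrank (deg0 𝒜) (comp 𝒜 𝓔 0) = 1 :=
    finrank_comp_zero 𝒜 𝓔 hpos h0 m hmsp e he
  haveI : Module.Finite (deg0 𝒜) (comp 𝒜 𝓔 0) := Module.finite_of_finrank_eq_succ hL
  have hiW := pairW_injective 𝒜 hpos m hmsp 𝓔 e he 𝒞 ℋ Φ hΦ j
  haveI : Module.Finite (deg0 𝒜) (comp 𝒜 ℋ (-j)) :=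
    Module.Finite.of_injective (pairW 𝒜 𝓔 𝒞 ℋ Φ hΦ j) hiW
  have h1 := LinearMap.finrank_le_finrank_of_injective hiW
  have h2 := LinearMap.finrank_le_finrank_of_injective
    (pairV_injective 𝒜 hpos h0 m hmsp 𝓔 e he 𝒞 ℋ Φ hΦ j)
  rw [Module.finrank_linearMap, hL, mul_one] at h1 h2
  exact le_antisymm h1 h2

include hpos h0 hmsp he in
/-- **every functional on `H_{-j}` is represented by an element of `C_j`.** -/
theorem pairV_surjective (j : ℤ) : Function.Surjective (pairV 𝒜 𝓔 𝒞 ℋ Φ hΦ j) := by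
  letI : Field (deg0 𝒜) := h0.toField
  haveI : IsNoetherian R C := isNoetherian_of_isNoetherianRing_of_finite R C
  haveI hV : IsNoetherian (deg0 𝒜) (comp 𝒜 𝒞 j) :=
    Groth.Agent.Lib.Helper20.GrFin1.isNoetherian_comp 𝒜 𝒞 j
  haveI : Module.Finite (deg0 𝒜) (comp 𝒜 𝒞 j) := Module.IsNoetherian.finite _ _
  have hL : Module.finrank (deg0 𝒜) (comp 𝒜 𝓔 0) = 1 :=
    finrank_comp_zero 𝒜 𝓔 hpos h0 m hmsp e he
  haveI : Module.Finite (deg0 𝒜) (comp 𝒜 𝓔 0) := Module.finite_of_finrank_eq_succ hL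
  have hiW := pairW_injective 𝒜 hpos m hmsp 𝓔 e he 𝒞 ℋ Φ hΦ j
  haveI : Module.Finite (deg0 𝒜) (comp 𝒜 ℋ (-j)) :=
    Module.Finite.of_injective (pairW 𝒜 𝓔 𝒞 ℋ Φ hΦ j) hiW
  have hiV := pairV_injective 𝒜 hpos h0 m hmsp 𝓔 e he 𝒞 ℋ Φ hΦ j
  have hfr : Module.finrank (deg0 𝒜) (comp 𝒜 𝒞 j) =
      Module.finrank (deg0 𝒜) (comp 𝒜 ℋ (-j) →ₗ[deg0 𝒜] comp 𝒜 𝓔 0) := by
    rw [Module.finrank_linearMap, hL, mul_one,
      finrank_H_eq 𝒜 hpos h0 m hmsp 𝓔 e he 𝒞 ℋ Φ hΦ j]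
  have h1 : Module.finrank (deg0 𝒜) (LinearMap.range (pairV 𝒜 𝓔 𝒞 ℋ Φ hΦ j)) =
      Module.finrank (deg0 𝒜) (comp 𝒜 𝒞 j) := LinearMap.finrank_range_of_inj hiV
  have h3 : Module.finrank (deg0 𝒜) (LinearMap.range (pairV 𝒜 𝓔 𝒞 ℋ Φ hΦ j)) =
      Module.finrank (deg0 𝒜) (comp 𝒜 ℋ (-j) →ₗ[deg0 𝒜] comp 𝒜 𝓔 0) := by rw [h1, hfr]
  have h2 : LinearMap.range (pairV 𝒜 𝓔 𝒞 ℋ Φ hΦ j) = ⊤ :=
    Submodule.eq_top_of_finrank_eq (K := deg0 𝒜)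
      (V := (comp 𝒜 ℋ (-j) →ₗ[deg0 𝒜] comp 𝒜 𝓔 0)) h3
  exact LinearMap.range_eq_top.1 h2

end Groth.Agent.Lib.Helper20.GrDual
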