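import Groth.Agent.Lib.Helper20.LCTopSurj

/-!
# Top local cohomology: `H^d_I(M) = J · H^d_I(M)` when `H^d_I(M/JM) = 0`, `d ≥ dim R` (helper20)
-/

set_option autoImplicit false
set_option linter.style.haveILetI false
set_option linter.unusedSectionVars false
set_option maxHeartbeats 400000

open CategoryTheory Limits Opposite Abelian

universe u

namespace Groth.Agent.Lib.Helper20.LCTopSurj2

open Groth.Agent.Lib.Helper4.LC Groth.Agent.Lib.Helper20.LCTopSurj

variable {R : Type u} [CommRing R] (I J : Ideal R) [IsNoetherianRing R]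

/-- For `dim R ≤ d`, if `H^d_I(M/JM) = 0` then `H^d_I(M) = J · H^d_I(M)`. -/
theorem mem_smul_top₂ (d : ℕ) (hd : ringKrullDim R ≤ d)
    (M : Type u) [AddCommGroup M] [Module R M] (P : Submodule R M)
    (hP : P = (J • ⊤ : Submodule R M))
    (hQ : Subsingleton (HH I (ModuleCat.of R (M ⧸ P)) d))
    (h : HH I (ModuleCat.of R M) d) :
    h ∈ (J • ⊤ : Submodule R (HH I (ModuleCat.of R M) d)) := by
  classical
  obtain ⟨s, hs⟩ := (IsNoetherian.noetherian J : J.FG)
  let φ : (s → M) →ₗ[R] M := ∑ x : s, (x : R) • LinearMap.proj (R := R) (φ := fun _ : s => M) x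
  have hφ : ∀ v : s → M, φ v = ∑ x : s, (x : R) • v x := by
    intro v
    simp [φ]
  have hsP : ∀ x ∈ s, ∀ m : M, x • m ∈ LinearMap.range φ := by
    intro x hx m
    refine ⟨Pi.single (⟨x, hx⟩ : s) m, ?_⟩
    rw [hφ]
    rw [Finset.sum_eq_single (⟨x, hx⟩ : s)]
    · simp
    · intro b _ hb
      rw [Pi.single_eq_of_ne hb, smul_zero]
    · intro hb
      exact absurd (Finset.mem_univ _) hb
  have hrange : LinearMap.range φ = P := by
    rw [hP]
    apply le_antisymm
    · rintro _ ⟨v, rfl⟩
      rw [hφ]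
      refine Submodule.sum_mem _ fun x _ => ?_
      refine Submodule.smul_mem_smul ?_ Submodule.mem_top
      rw [← hs]
      exact Submodule.subset_span x.2
    · rw [Submodule.smul_le]
      intro a ha m _
      rw [← hs] at ha
      refine Submodule.span_induction (p := fun a _ => a • m ∈ LinearMap.range φ) ?_ ?_ ?_ ?_ ha
      · intro x hx
        exact hsP x hx m
      · rw [zero_smul]; exact zero_mem _
      · intro x y _ _ hx hy
        rw [add_smul]; exact add_mem hx hy
      · intro c x _ hx
        rw [smul_eq_mul, mul_smul]; exact Submodule.smul_mem _ c hx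
  subst hrange
  have hex1 : Function.Exact (LinearMap.ker φ).subtype φ.rangeRestrict := by
    rw [LinearMap.exact_iff, LinearMap.ker_rangeRestrict, Submodule.range_subtype]
  have hS1 := sesOf_shortExact (LinearMap.ker φ).subtype φ.rangeRestrict hex1
    (Submodule.injective_subtype _) φ.surjective_rangeRestrict
  have hex2 : Function.Exact (LinearMap.range φ).subtype (LinearMap.range φ).mkQ :=
    LinearMap.exact_subtype_mkQ _
  have hS2 := sesOf_shortExact (LinearMap.range φ).subtype (LinearMap.range φ).mkQ hex2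
    (Submodule.injective_subtype _) (Submodule.mkQ_surjective _)
  have hK : Subsingleton
      (HH I (sesOf (LinearMap.ker φ).subtype φ.rangeRestrict hex1).X₁ (d + 1)) :=
    HH.subsingleton_of_ringKrullDim_lt I _ (d + 1)
      (lt_of_le_of_lt hd (by exact_mod_cast Nat.lt_succ_self d))
  have hQ' : Subsingleton
      (HH I (sesOf (LinearMap.range φ).subtype (LinearMap.range φ).mkQ hex2).X₃ d) := hQ
  have s1 := HH.map_g_surjective I hS1 d hK
  have s2 := HH.map_f_surjective I hS2 d hQ'
  have hcomp : (sesOf (LinearMap.ker φ).subtype φ.rangeRestrict hex1).g ≫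
      (sesOf (LinearMap.range φ).subtype (LinearMap.range φ).mkQ hex2).f =
      ∑ x : s, (x : R) • (ModuleCat.ofHom (LinearMap.proj (R := R) (φ := fun _ : s => M) x) :
        ModuleCat.of R (s → M) ⟶ ModuleCat.of R M) := by
    apply ModuleCat.hom_ext
    apply LinearMap.ext
    intro v
    change φ v = _
    rw [hφ]
    simp
  obtain ⟨w, hw⟩ := s2 h
  obtain ⟨v, hv⟩ := s1 w
  have : h = HH.map I ((sesOf (LinearMap.ker φ).subtype φ.rangeRestrict hex1).g ≫
      (sesOf (LinearMap.range φ).subtype (LinearMap.range φ).mkQ hex2).f) d v := by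
    rw [HH.map_comp, hv, hw]
  rw [this, hcomp, LCTopSurj.map_sum]
  refine Submodule.sum_mem _ fun x _ => ?_
  rw [map_smul_hom]
  refine Submodule.smul_mem_smul ?_ Submodule.mem_top
  rw [← hs]
  exact Submodule.subset_span x.2

/-- `H^d_I(R) = J · H^d_I(R)` when `dim R/J < d` and `dim R ≤ d`. -/
theorem mem_smul_top_ring (d : ℕ) (hd : ringKrullDim R ≤ d)
    (hJ : ringKrullDim (R ⧸ J) < (d : WithBot ℕ∞))
    (h : HH I (ModuleCat.of R R) d) :
    h ∈ (J • ⊤ : Submodule R (HH I (ModuleCat.of R R) d)) := by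
  apply mem_smul_top₂ I J d hd R J (by rw [smul_eq_mul, Ideal.mul_top])
  apply HH.subsingleton_of_supportDim_lt
  have h1 := Module.supportDim_quotient_eq_ringKrullDim J
  change Module.supportDim R (R ⧸ J) < _
  rw [h1]
  exact hJ

end Groth.Agent.Lib.Helper20.LCTopSurj2
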