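import Mathlib
import Groth.Prelude.Def_GrLC
import Groth.Agent.Lib.Helper20.GrDual3
import Groth.Agent.Lib.Helper20.GrLES2
import Groth.Agent.Lib.Helper20.LCTopSurj2
import Groth.Agent.Lib.Helper20.GrAinv

/-!
# `dim_k (K_R)_j ≥ 2` for `j > -a(R)` (helper20)

For a standard graded ring `R` over a field of dimension `n ≥ 2`, the top local cohomology
`H = H^n_m(R)` satisfies `J · H = H` for every ideal `J` with `dim R/J < n`; applied to ideals
generated by hyperplanes of `R_1`, this gives `dim_k H_{i-1} ≥ 2` whenever `H_i ≠ 0`.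
-/

set_option autoImplicit false
set_option linter.unusedSectionVars false
set_option linter.unusedVariables false
set_option linter.style.haveILetI false

universe u

open DirectSum GrLC Groth.Agent.Lib.Helper20.GrLCBasic Groth.Agent.Lib.Helper20.GrLES
  Groth.Agent.Lib.Helper20.GrLES2 Groth.Agent.Lib.Helper20.GrDual

namespace Groth.Agent.Lib.Helper20.GrCanonDim

section transport

variable {R : Type u} [CommRing R] [IsNoetherianRing R] {𝒜 : ℤ → AddSubgroup R} [GradedRing 𝒜]

/-- `H^d_a(R) = J · H^d_a(R)` for `d ≥ dim R`, `d > dim R/J`, for graded local cohomology. -/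
theorem mem_smul_top_H₂ (E : StarInjRes 𝒜 𝒜) (a : HomogeneousIdeal 𝒜) (J : Ideal R) (d : ℕ)
    (hd : ringKrullDim R ≤ d) (hJ : ringKrullDim (R ⧸ J) < (d : WithBot ℕ∞)) (h : E.H a d) :
    h ∈ (J • ⊤ : Submodule R (E.H a d)) := by
  have h2 := Groth.Agent.Lib.Helper20.LCTopSurj2.mem_smul_top_ring a.toIdeal J d hd hJ
    (cmpE E a d h)
  have h3 : (cmpE E a d).symm (cmpE E a d h) ∈
      Submodule.map ((cmpE E a d).symm : _ →ₗ[R] E.H a d)
        (J • ⊤ : Submodule R (Groth.Agent.Lib.Helper4.LC.HH a.toIdeal (ModuleCat.of R R) d)) :=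
    Submodule.mem_map_of_mem h2
  rw [Submodule.map_smul'', LinearEquiv.symm_apply_apply] at h3
  exact Submodule.smul_mono le_rfl le_top h3

end transport

section closure

variable {R : Type u} [CommRing R] (𝒜 : ℤ → AddSubgroup R) [GradedRing 𝒜]
  {H : Type u} [AddCommGroup H] [Module R H] (ℋ : ℤ → AddSubgroup H)
  [DirectSum.Decomposition ℋ] [SetLike.GradedSMul 𝒜 ℋ]

/-- a homogeneous element of `span(S) · H` with `S ⊆ R_1` is a sum of products `v • h'` with
`v ∈ S` and `h'` homogeneous of degree one less. -/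
theorem mem_closure_of_mem_smul_top (S : Set R) (hS : ∀ s ∈ S, s ∈ 𝒜 1) (j : ℤ) (h : H)
    (hh : h ∈ ℋ (j + 1)) (hmem : h ∈ (Ideal.span S • ⊤ : Submodule R H)) :
    h ∈ AddSubgroup.closure {x : H | ∃ v ∈ S, ∃ h' ∈ ℋ j, x = v • h'} := by
  classical
  set T := AddSubgroup.closure {x : H | ∃ v ∈ S, ∃ h' ∈ ℋ j, x = v • h'} with hT
  have key : ∀ r ∈ Ideal.span S, ∀ x : H,
      ((decompose ℋ (r • x) (j + 1) : ℋ (j + 1)) : H) ∈ T := by
    intro r hr
    refine Submodule.span_induction
      (p := fun r _ => ∀ x : H, ((decompose ℋ (r • x) (j + 1) : ℋ (j + 1)) : H) ∈ T)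
      ?_ ?_ ?_ ?_ hr
    · intro s hs x
      rw [decompose_smul_left 𝒜 ℋ (hS s hs) x j]
      exact AddSubgroup.subset_closure ⟨s, hs, _, SetLike.coe_mem _, rfl⟩
    · intro x
      rw [zero_smul, decompose_zero, DirectSum.zero_apply, ZeroMemClass.coe_zero]
      exact zero_mem _
    · intro r r' _ _ hr hr' x
      rw [add_smul, decompose_add, DirectSum.add_apply, AddSubgroup.coe_add]
      exact add_mem (hr x) (hr' x)
    · intro c r _ hr x
      rw [smul_eq_mul, mul_comm, mul_smul]
      exact hr (c • x)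
  have key2 : ∀ y ∈ (Ideal.span S • ⊤ : Submodule R H),
      ((decompose ℋ y (j + 1) : ℋ (j + 1)) : H) ∈ T := by
    intro y hy
    refine Submodule.smul_induction_on hy ?_ ?_
    · intro r hr x _
      exact key r hr x
    · intro x y hx hy
      rw [decompose_add, DirectSum.add_apply, AddSubgroup.coe_add]
      exact add_mem hx hy
  have := key2 h hmem
  rwa [decompose_of_mem_same ℋ hh] at this

end closure

section std

variable {R : Type u} [CommRing R] (𝒜 : ℤ → AddSubgroup R) [GradedRing 𝒜]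
  (hpos : ∀ n : ℤ, n < 0 → 𝒜 n = ⊥)
  (hstd : Ideal.span (⋃ n ∈ Set.Ioi (0 : ℤ), (𝒜 n : Set R)) =
    Ideal.span ((𝒜 1 : AddSubgroup R) : Set R))

include hpos hstd in
/-- a standard graded ring is generated by `R_1` over `R_0`. -/
theorem adjoin_one_eq_top :
    Algebra.adjoin (deg0 𝒜) ((𝒜 1 : AddSubgroup R) : Set R) = ⊤ := by
  classical
  set B := Algebra.adjoin (deg0 𝒜) ((𝒜 1 : AddSubgroup R) : Set R) with hB
  have key : ∀ n : ℕ, ∀ d : ℤ, d ≤ n → ∀ r ∈ 𝒜 d, r ∈ B := by
    intro n
    induction n with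
    | zero =>
      intro d hd r hr
      rcases lt_or_eq_of_le hd with h | h
      · have h4 : r ∈ (⊥ : AddSubgroup R) := (hpos d (by exact_mod_cast h)).le hr
        rw [(AddSubgroup.mem_bot).1 h4]
        exact Subalgebra.zero_mem _
      · have h0 : d = 0 := by exact_mod_cast h
        subst h0
        exact Subalgebra.algebraMap_mem B (⟨r, hr⟩ : deg0 𝒜)
    | succ n ih =>
      intro d hd r hr
      rcases lt_or_eq_of_le hd with h | h
      · exact ih d (by push_cast at h; omega) r hr
      · have hdpos : 0 < d := by rw [h]; push_cast; omega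
        have hra : r ∈ Ideal.span ((𝒜 1 : AddSubgroup R) : Set R) := by
          rw [← hstd]
          exact Ideal.subset_span (Set.mem_iUnion₂.2 ⟨d, hdpos, hr⟩)
        have key2 : ∀ y ∈ Ideal.span ((𝒜 1 : AddSubgroup R) : Set R), ∀ b : R,
            ((decompose 𝒜 (b * y) d : 𝒜 d) : R) ∈ B := by
          intro y hy
          refine Submodule.span_induction
            (p := fun y _ => ∀ b : R, ((decompose 𝒜 (b * y) d : 𝒜 d) : R) ∈ B) ?_ ?_ ?_ ?_ hy
          · intro t ht b
            obtain ⟨e', he'⟩ : ∃ e', d = e' + 1 := ⟨d - 1, by ring⟩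
            rw [he', ← smul_eq_mul, decompose_smul_right 𝒜 𝒜 ht b e', smul_eq_mul]
            refine Subalgebra.mul_mem _ ?_ (Algebra.subset_adjoin ht)
            exact ih e' (by push_cast at h; omega) _ (SetLike.coe_mem _)
          · intro b
            rw [mul_zero, decompose_zero, DirectSum.zero_apply, ZeroMemClass.coe_zero]
            exact Subalgebra.zero_mem _
          · intro y z _ _ hy hz b
            rw [mul_add, decompose_add, DirectSum.add_apply, AddSubgroup.coe_add]
            exact Subalgebra.add_mem _ (hy b) (hz b)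
          · intro a y _ hy b
            rw [smul_eq_mul, ← mul_assoc]
            exact hy (b * a)
        have := key2 r hra 1
        rwa [one_mul, decompose_of_mem_same 𝒜 hr] at this
  rw [eq_top_iff]
  rintro r -
  rw [← DirectSum.sum_support_decompose 𝒜 r]
  refine Subalgebra.sum_mem _ fun i _ => ?_
  exact key i.toNat i (Int.self_le_toNat i) _ (SetLike.coe_mem _)

include hpos hstd in
/-- the quotient of a standard graded ring over a field by the ideal generated by a hyperplane of
`R_1` has dimension at most one. -/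
theorem ringKrullDim_quot_le_one (h0 : IsField (deg0 𝒜)) (S : Set R) (ℓ : R)
    (hgen : ∀ r ∈ 𝒜 1, ∃ c : deg0 𝒜, r - (c : R) * ℓ ∈ Ideal.span S) :
    ringKrullDim (R ⧸ Ideal.span S) ≤ 1 := by
  haveI : IsNoetherianRing (deg0 𝒜) := by
    letI : Field (deg0 𝒜) := h0.toField
    infer_instance
  set J := Ideal.span S with hJ
  let ψ : Polynomial (deg0 𝒜) →ₐ[deg0 𝒜] (R ⧸ J) := Polynomial.aeval (Ideal.Quotient.mk J ℓ)
  have hsurj : Function.Surjective ψ := by
    rw [← AlgHom.range_eq_top]
    have h1 : (Algebra.adjoin (deg0 𝒜) ((𝒜 1 : AddSubgroup R) : Set R)).map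
        (Ideal.Quotient.mkₐ (deg0 𝒜) J) = ⊤ := by
      rw [adjoin_one_eq_top 𝒜 hpos hstd, Algebra.map_top, AlgHom.range_eq_top]
      exact Ideal.Quotient.mkₐ_surjective _ _
    rw [eq_top_iff, ← h1, AlgHom.map_adjoin, Algebra.adjoin_le_iff]
    rintro _ ⟨r, hr, rfl⟩
    obtain ⟨c, hc⟩ := hgen r hr
    refine ⟨Polynomial.C c * Polynomial.X, ?_⟩
    change ψ (Polynomial.C c * Polynomial.X) = Ideal.Quotient.mk J r
    rw [map_mul, Polynomial.aeval_C, Polynomial.aeval_X]
    have h2 : algebraMap (deg0 𝒜) (R ⧸ J) c = Ideal.Quotient.mk J (c : R) := rfl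
    rw [h2, ← map_mul, eq_comm, Ideal.Quotient.eq]
    exact hc
  calc ringKrullDim (R ⧸ J) ≤ ringKrullDim (Polynomial (deg0 𝒜)) :=
        ringKrullDim_le_of_surjective ψ.toRingHom hsurj
    _ = ringKrullDim (deg0 𝒜) + 1 := Polynomial.ringKrullDim_of_isNoetherianRing
    _ = 1 := by rw [ringKrullDim_eq_zero_of_isField h0, zero_add]

end std

end Groth.Agent.Lib.Helper20.GrCanonDim
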