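import Mathlib
import Groth.Prelude.Def_GrLC
import Groth.Agent.Lib.Helper20.GrCanonDim

/-!
# `dim_k (K_R)_j ≥ 2` for `j > -a(R)`, II (helper20)
-/

set_option autoImplicit false
set_option linter.unusedSectionVars false
set_option linter.unusedVariables false
set_option linter.style.haveILetI false

universe u

open DirectSum GrLC Groth.Agent.Lib.Helper20.GrLCBasic Groth.Agent.Lib.Helper20.GrLES
  Groth.Agent.Lib.Helper20.GrLES2 Groth.Agent.Lib.Helper20.GrDual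
  Groth.Agent.Lib.Helper20.GrCanonDim

namespace Groth.Agent.Lib.Helper20.GrCanonDim2

section linalg

variable {R : Type u} [CommRing R] (𝒜 : ℤ → AddSubgroup R) [GradedRing 𝒜]
  (hpos : ∀ n : ℤ, n < 0 → 𝒜 n = ⊥) (h0 : IsField (deg0 𝒜))
  (hstd : Ideal.span (⋃ n ∈ Set.Ioi (0 : ℤ), (𝒜 n : Set R)) =
    Ideal.span ((𝒜 1 : AddSubgroup R) : Set R))
  {H : Type u} [AddCommGroup H] [Module R H] (ℋ : ℤ → AddSubgroup H)
  [DirectSum.Decomposition ℋ] [SetLike.GradedSMul 𝒜 ℋ]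

include hpos h0 hstd in
/-- if `J · H = H` for every ideal `J` with `dim R/J ≤ 1`, then `H_{j+1} ≠ 0` forces
`dim_k H_j ≥ 2`. -/
theorem two_le_finrank
    (hP : ∀ J : Ideal R, ringKrullDim (R ⧸ J) ≤ 1 → ∀ h : H, h ∈ (J • ⊤ : Submodule R H))
    (j : ℤ) (hne : ℋ (j + 1) ≠ ⊥) (hfin : Module.Finite (deg0 𝒜) (comp 𝒜 ℋ j)) :
    2 ≤ Module.finrank (deg0 𝒜) (comp 𝒜 ℋ j) := by
  classical
  letI : Field (deg0 𝒜) := h0.toField
  by_contra hlt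
  have hle : Module.finrank (deg0 𝒜) (comp 𝒜 ℋ j) ≤ 1 := by omega
  obtain ⟨η, hη⟩ := finrank_le_one_iff.1 hle
  obtain ⟨y, hy, hy0⟩ := Groth.Agent.Lib.Helper20.GrAinv.exists_ne_zero_of_ne_bot hne
  have hy0' : (⟨y, hy⟩ : comp 𝒜 ℋ (j + 1)) ≠ 0 := fun h => hy0 (congrArg Subtype.val h)
  obtain ⟨lam, hlam⟩ := Module.Projective.exists_dual_ne_zero (deg0 𝒜) hy0'
  have hmem : ∀ r ∈ 𝒜 1, r • (η : H) ∈ ℋ (j + 1) := by
    intro r hr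
    have := SetLike.GradedSMul.smul_mem (A := 𝒜) (B := ℋ) hr η.2
    rw [vadd_eq_add, add_comm] at this
    exact this
  let μ : comp 𝒜 𝒜 1 →ₗ[deg0 𝒜] comp 𝒜 ℋ (j + 1) :=
    { toFun := fun r => ⟨(r : R) • (η : H), hmem r.1 r.2⟩
      map_add' := fun r r' => Subtype.ext (add_smul (r : R) (r' : R) (η : H))
      map_smul' := fun a r => Subtype.ext (mul_smul (a : R) (r : R) (η : H)) }
  let g : comp 𝒜 𝒜 1 →ₗ[deg0 𝒜] deg0 𝒜 := lam ∘ₗ μ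
  let S : Set R := {r | ∃ hr : r ∈ 𝒜 1, g ⟨r, hr⟩ = 0}
  have hS1 : ∀ s ∈ S, s ∈ 𝒜 1 := fun s hs => hs.1
  obtain ⟨ℓ, hℓ⟩ : ∃ ℓ : R, ∀ r ∈ 𝒜 1, ∃ c : deg0 𝒜, r - (c : R) * ℓ ∈ Ideal.span S := by
    by_cases hex : ∃ ℓ : comp 𝒜 𝒜 1, g ℓ ≠ 0
    · obtain ⟨ℓ, hℓ⟩ := hex
      refine ⟨ℓ.1, fun r hr => ⟨g ⟨r, hr⟩ / g ℓ, Ideal.subset_span ?_⟩⟩
      have hmem1 : r - ((g ⟨r, hr⟩ / g ℓ : deg0 𝒜) : R) * ℓ.1 ∈ 𝒜 1 :=
        ((⟨r, hr⟩ : comp 𝒜 𝒜 1) - (g ⟨r, hr⟩ / g ℓ) • ℓ).2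
      refine ⟨hmem1, ?_⟩
      have : (⟨r - ((g ⟨r, hr⟩ / g ℓ : deg0 𝒜) : R) * ℓ.1, hmem1⟩ : comp 𝒜 𝒜 1) =
          (⟨r, hr⟩ : comp 𝒜 𝒜 1) - (g ⟨r, hr⟩ / g ℓ) • ℓ := rfl
      rw [this, map_sub, map_smul, smul_eq_mul, div_mul_cancel₀ _ hℓ, sub_self]
    · push_neg at hex
      refine ⟨0, fun r hr => ⟨0, Ideal.subset_span ?_⟩⟩
      rw [mul_zero, sub_zero]
      exact ⟨hr, hex ⟨r, hr⟩⟩
  have hdim := ringKrullDim_quot_le_one 𝒜 hpos hstd h0 S ℓ hℓ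
  have hyJ := hP (Ideal.span S) hdim y
  have hycl := mem_closure_of_mem_smul_top 𝒜 ℋ S hS1 j y hy hyJ
  let K : AddSubgroup H := (LinearMap.ker lam).toAddSubgroup.map
    (comp 𝒜 ℋ (j + 1)).subtype.toAddMonoidHom
  have hK : AddSubgroup.closure {x : H | ∃ v ∈ S, ∃ h' ∈ ℋ j, x = v • h'} ≤ K := by
    rw [AddSubgroup.closure_le]
    rintro _ ⟨v, ⟨hv1, hv⟩, h', hh', rfl⟩
    obtain ⟨c, hc⟩ := hη ⟨h', hh'⟩
    have hc' : (c : R) • (η : H) = h' := congrArg Subtype.val hc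
    refine ⟨μ (c • ⟨v, hv1⟩), ?_, ?_⟩
    · change lam (μ (c • ⟨v, hv1⟩)) = 0
      rw [map_smul, map_smul]
      change c • g ⟨v, hv1⟩ = 0
      rw [hv, smul_zero]
    · change ((c : R) * v) • (η : H) = v • h'
      rw [← hc', mul_comm, mul_smul]
  obtain ⟨z, hz, hzy⟩ := hK hycl
  have hzy' : z = ⟨y, hy⟩ := Subtype.ext hzy
  rw [hzy'] at hz
  exact hlam hz

end linalg

section final

open Groth.Agent.Lib.Helper20.GrFieldLocal Groth.Agent.Lib.Helper20.GrHullDual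

theorem two_le_finrank_canonical (R : Type u) [CommRing R] [IsNoetherianRing R]
    (𝒜 : ℤ → AddSubgroup R) [GradedRing 𝒜] (hpos : ∀ n : ℤ, n < 0 → 𝒜 n = ⊥)
    (h0 : IsField (GrLC.deg0 𝒜)) (m : HomogeneousIdeal 𝒜)
    (hmsp : m.toIdeal = Ideal.span (⋃ n ∈ Set.Ioi (0 : ℤ), (𝒜 n : Set R)))
    (hstd : Ideal.span (⋃ n ∈ Set.Ioi (0 : ℤ), (𝒜 n : Set R)) =
      Ideal.span ((𝒜 1 : AddSubgroup R) : Set R))
    (n : ℕ) (hn : ringKrullDim R = n) (h2 : 2 ≤ n) (I : GrLC.StarInjRes 𝒜 𝒜) (a : ℤ)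
    (ha : GrLC.endDeg (I.Hgr m n) = ((a : WithTop ℤ) : WithBot (WithTop ℤ)))
    (E' : Type u) [AddCommGroup E'] [Module R E'] (𝓔 : ℤ → AddSubgroup E')
    [DirectSum.Decomposition 𝓔] [SetLike.GradedSMul 𝒜 𝓔] (e : (R ⧸ m.toIdeal) →ₗ[R] E')
    (he : GrLC.IsStarInjHull 𝒜 (GrLC.quotGr 𝒜 m) 𝓔 e)
    (C : Type u) [AddCommGroup C] [Module R C] (𝒞 : ℤ → AddSubgroup C)
    [DirectSum.Decomposition 𝒞] [SetLike.GradedSMul 𝒜 𝒞]
    (hC : GrLC.IsStarCanonical 𝒜 𝒞 𝓔 m n I) (j : ℤ) (hj : -a < j) :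
    2 ≤ Module.finrank (GrLC.deg0 𝒜) (GrLC.comp 𝒜 𝒞 j) := by
  classical
  obtain ⟨hfin, Φ, hΦ⟩ := hC
  haveI := hfin
  letI := Groth.Agent.Lib.Helper20.GrLES2.decH I m n
  letI : Field (deg0 𝒜) := h0.toField
  rw [← finrank_H_eq 𝒜 hpos h0 m hmsp 𝓔 e he 𝒞 (I.Hgr m n) Φ hΦ j]
  -- finite-dimensionality of the pieces of `H`
  have hfinH : ∀ i : ℤ, Module.Finite (deg0 𝒜) (comp 𝒜 (I.Hgr m n) i) := by
    intro i
    haveI : IsNoetherian R C := isNoetherian_of_isNoetherianRing_of_finite R C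
    haveI hV : IsNoetherian (deg0 𝒜) (comp 𝒜 𝒞 (-i)) :=
      Groth.Agent.Lib.Helper20.GrFin1.isNoetherian_comp 𝒜 𝒞 (-i)
    haveI : Module.Finite (deg0 𝒜) (comp 𝒜 𝒞 (-i)) := Module.IsNoetherian.finite _ _
    have hL : Module.finrank (deg0 𝒜) (comp 𝒜 𝓔 0) = 1 :=
      finrank_comp_zero 𝒜 𝓔 hpos h0 m hmsp e he
    haveI : Module.Finite (deg0 𝒜) (comp 𝒜 𝓔 0) := Module.finite_of_finrank_eq_succ hL
    have hiW := pairW_injective 𝒜 hpos m hmsp 𝓔 e he 𝒞 (I.Hgr m n) Φ hΦ (-i)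
    have := Module.Finite.of_injective (pairW 𝒜 𝓔 𝒞 (I.Hgr m n) Φ hΦ (-i)) hiW
    rwa [neg_neg] at this
  -- `J · H = H`
  have hP : ∀ J : Ideal R, ringKrullDim (R ⧸ J) ≤ 1 → ∀ h : I.H m n,
      h ∈ (J • ⊤ : Submodule R (I.H m n)) := by
    intro J hJ h
    refine mem_smul_top_H₂ I m J n hn.le (lt_of_le_of_lt hJ ?_) h
    exact_mod_cast (by omega : 1 < n)
  have hbase : I.Hgr m n a ≠ ⊥ := ne_bot_of_endDeg_eq (I.Hgr m n) ha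
  have key : ∀ k : ℕ, 2 ≤ Module.finrank (deg0 𝒜) (comp 𝒜 (I.Hgr m n) (a - 1 - k)) := by
    intro k
    induction k with
    | zero =>
      apply two_le_finrank 𝒜 hpos h0 hstd (I.Hgr m n) hP _ _ (hfinH _)
      have : a - 1 - ((0 : ℕ) : ℤ) + 1 = a := by push_cast; ring
      rw [this]
      exact hbase
    | succ k ih =>
      apply two_le_finrank 𝒜 hpos h0 hstd (I.Hgr m n) hP _ _ (hfinH _)
      have : a - 1 - ((k + 1 : ℕ) : ℤ) + 1 = a - 1 - k := by push_cast; ring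
      rw [this]
      intro hbot
      have hsub : Subsingleton (comp 𝒜 (I.Hgr m n) (a - 1 - k)) := by
        refine ⟨fun x y => Subtype.ext ?_⟩
        have hx : (x : I.H m n) ∈ (⊥ : AddSubgroup (I.H m n)) := hbot ▸ x.2
        have hy : (y : I.H m n) ∈ (⊥ : AddSubgroup (I.H m n)) := hbot ▸ y.2
        rw [(AddSubgroup.mem_bot).1 hx, (AddSubgroup.mem_bot).1 hy]
      have := Module.finrank_zero_of_subsingleton (R := deg0 𝒜)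
        (M := comp 𝒜 (I.Hgr m n) (a - 1 - k))
      omega
  have hidx : -j = a - 1 - ((a - 1 - (-j)).toNat : ℤ) := by
    have : 0 ≤ a - 1 - (-j) := by omega
    rw [Int.toNat_of_nonneg this]
    ring
  rw [hidx]
  exact key _

end final

end Groth.Agent.Lib.Helper20.GrCanonDim2
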