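import Mathlib
import Groth.Prelude.Def_GrLC
import Groth.Prelude.Def_GrLC2
import Groth.Agent.Lib.Helper20.GrCanonBridge
import Groth.Agent.Lib.Helper20.CanonType
import Groth.Agent.Lib.Helper20.GrHeight2
import Groth.Agent.Lib.Helper4.StalkDual

/-!
# Type of the *canonical module of a graded Cohen–Macaulay ring over a field (helper20)
-/

set_option autoImplicit false
set_option linter.unusedSectionVars false
set_option linter.unusedVariables false
set_option linter.style.haveILetI false
universe u

namespace Groth.Agent.Lib.Helper20.GrCanonType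

open CategoryTheory Abelian IsLocalRing TensorProduct
open Groth.Agent.Lib.Helper4.LC Groth.Agent.Lib.Helper4
open Groth.Agent.Lib.Helper20.GrCanonBridge Groth.Agent.Lib.Helper20.CanonType

section length

variable {R : Type u} [CommRing R] (m : Ideal R) [hm : m.IsMaximal]
  (C : Type u) [AddCommGroup C] [Module R C] [Module.Finite R C]

local notation "A" => Localization.AtPrime m
local notation "S" => m.primeCompl

/-- `R ⧸ m ≃ R_m ⧸ 𝔪` as `R`-modules. -/
noncomputable def residueEquiv : (R ⧸ m) ≃ₗ[R] (A ⧸ maximalIdeal A) :=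
  { (IsLocalization.AtPrime.equivQuotMaximalIdeal m A).toAddEquiv with
    map_smul' := by
      intro r x
      obtain ⟨x', rfl⟩ := Ideal.Quotient.mk_surjective x
      have h1 : r • Ideal.Quotient.mk m x' = Ideal.Quotient.mk m (r * x') := rfl
      show (IsLocalization.AtPrime.equivQuotMaximalIdeal m A) (r • Ideal.Quotient.mk m x') =
        r • (IsLocalization.AtPrime.equivQuotMaximalIdeal m A) (Ideal.Quotient.mk m x')
      rw [h1, IsLocalization.AtPrime.equivQuotMaximalIdeal_apply_mk,
        IsLocalization.AtPrime.equivQuotMaximalIdeal_apply_mk, map_mul, map_mul, Algebra.smul_def]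
      rfl }

theorem algebraMap_residue_surjective :
    Function.Surjective (algebraMap R (A ⧸ maximalIdeal A)) := by
  intro y
  obtain ⟨x, rfl⟩ := (IsLocalization.AtPrime.equivQuotMaximalIdeal m A).surjective y
  obtain ⟨x', rfl⟩ := Ideal.Quotient.mk_surjective x
  exact ⟨x', rfl⟩

/-- The length of `C_m / 𝔪 C_m` over `R_m` is the dimension of `(R ⧸ m) ⊗ C`. -/
theorem length_quot_eq_finrank :
    Module.length A (LocalizedModule S C ⧸
      (maximalIdeal A • (⊤ : Submodule A (LocalizedModule S C)))) =
      (Module.finrank (R ⧸ m) ((R ⧸ m) ⊗[R] C) : ℕ∞) := by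
  let κ := A ⧸ maximalIdeal A
  have s1 := (TensorProduct.quotTensorEquivQuotSMul (LocalizedModule S C) (maximalIdeal A)).symm
  have s2 : κ ⊗[A] LocalizedModule S C ≃ₗ[A] κ ⊗[A] (A ⊗[R] C) :=
    TensorProduct.congr (LinearEquiv.refl A κ) (LocalizedModule.equivTensorProduct S C)
  have s3 : κ ⊗[A] (A ⊗[R] C) ≃ₗ[A] κ ⊗[R] C :=
    TensorProduct.AlgebraTensorModule.cancelBaseChange R A A κ C
  rw [((s1.trans s2).trans s3).length_eq]
  have h4 : Module.length A (κ ⊗[R] C) = Module.length κ (κ ⊗[R] C) :=
    Module.length_eq_of_surjective Ideal.Quotient.mk_surjective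
  have h5 : Module.length R (κ ⊗[R] C) = Module.length κ (κ ⊗[R] C) :=
    Module.length_eq_of_surjective (algebraMap_residue_surjective m)
  have s6 : κ ⊗[R] C ≃ₗ[R] (R ⧸ m) ⊗[R] C :=
    TensorProduct.congr (residueEquiv m).symm (LinearEquiv.refl R C)
  have h7 : Module.length R ((R ⧸ m) ⊗[R] C) = Module.length (R ⧸ m) ((R ⧸ m) ⊗[R] C) :=
    Module.length_eq_of_surjective Ideal.Quotient.mk_surjective
  letI : Field (R ⧸ m) := Ideal.Quotient.field m
  rw [h4, ← h5, s6.length_eq, h7]
  exact Module.length_eq_finrank (R ⧸ m) ((R ⧸ m) ⊗[R] C)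

end length

end Groth.Agent.Lib.Helper20.GrCanonType
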