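import Mathlib
import Groth.Prelude.Def_GrLC
import Groth.Agent.Lib.Helper20.GrLCBasic
import Groth.Agent.Lib.Helper20.GrLCQuot
import Groth.Agent.Lib.Helper20.GrLCCofree
import Groth.Agent.Lib.Helper20.GrLCHull

/-!
# Existence of minimal `*`injective resolutions (helper20)
-/

set_option autoImplicit false
set_option linter.unusedSectionVars false
set_option linter.unusedVariables false

universe u

open GrLC Groth.Agent.Lib.Helper20.GrLCBasic Groth.Agent.Lib.Helper20.GrLCQuot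
  Groth.Agent.Lib.Helper20.GrLCCofree Groth.Agent.Lib.Helper20.GrLCHull

namespace Groth.Agent.Lib.Helper20.GrMinRes

section build

variable {ι : Type} [AddCommGroup ι] [DecidableEq ι] {R : Type u} [CommRing R]
  (𝒜 : ι → AddSubgroup R) [GradedRing 𝒜]

/-- A chosen `*`injective envelope of `C`. -/
noncomputable def EE (C : GrLC.GMod.{u} 𝒜) : GrLC.GMod.{u} 𝒜 :=
  (exists_starInjHull 𝒜 C.gr).choose

/-- The chosen embedding. -/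
noncomputable def ii (C : GrLC.GMod.{u} 𝒜) : C.carrier →ₗ[R] (EE 𝒜 C).carrier :=
  (exists_starInjHull 𝒜 C.gr).choose_spec.choose

theorem ii_spec (C : GrLC.GMod.{u} 𝒜) : GrLC.IsStarInjHull 𝒜 C.gr (EE 𝒜 C).gr (ii 𝒜 C) :=
  (exists_starInjHull 𝒜 C.gr).choose_spec.choose_spec

/-- The cokernel of the chosen embedding. -/
noncomputable def QQ (C : GrLC.GMod.{u} 𝒜) : GrLC.GMod.{u} 𝒜 :=
  quotGMod (EE 𝒜 C) (LinearMap.range (ii 𝒜 C))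
    (range_isHomogeneous C.gr (EE 𝒜 C).gr (ii 𝒜 C) (ii_spec 𝒜 C).grHom)

/-- The projection to the cokernel. -/
noncomputable def pp (C : GrLC.GMod.{u} 𝒜) : (EE 𝒜 C).carrier →ₗ[R] (QQ 𝒜 C).carrier :=
  (LinearMap.range (ii 𝒜 C)).mkQ

theorem pp_grHom (C : GrLC.GMod.{u} 𝒜) : GrLC.IsGrHom (EE 𝒜 C).gr (QQ 𝒜 C).gr (pp 𝒜 C) :=
  mkQ_isGrHom (EE 𝒜 C).gr (LinearMap.range (ii 𝒜 C))

theorem pp_surjective (C : GrLC.GMod.{u} 𝒜) : Function.Surjective (pp 𝒜 C) :=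
  Submodule.mkQ_surjective _

theorem ker_pp (C : GrLC.GMod.{u} 𝒜) : LinearMap.ker (pp 𝒜 C) = LinearMap.range (ii 𝒜 C) :=
  Submodule.ker_mkQ _

/-- The differential. -/
noncomputable def dd (C : GrLC.GMod.{u} 𝒜) : (EE 𝒜 C).carrier →ₗ[R] (EE 𝒜 (QQ 𝒜 C)).carrier :=
  (ii 𝒜 (QQ 𝒜 C)) ∘ₗ (pp 𝒜 C)

theorem ker_dd (C : GrLC.GMod.{u} 𝒜) : LinearMap.ker (dd 𝒜 C) = LinearMap.range (ii 𝒜 C) := by
  rw [dd, LinearMap.ker_comp_of_ker_eq_bot _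
    (LinearMap.ker_eq_bot.mpr (ii_spec 𝒜 (QQ 𝒜 C)).injective), ker_pp]

theorem range_dd (C : GrLC.GMod.{u} 𝒜) :
    LinearMap.range (dd 𝒜 C) = LinearMap.range (ii 𝒜 (QQ 𝒜 C)) := by
  rw [dd, LinearMap.range_comp_of_range_eq_top _ (LinearMap.range_eq_top.mpr (pp_surjective 𝒜 C))]

theorem dd_grHom (C : GrLC.GMod.{u} 𝒜) :
    GrLC.IsGrHom (EE 𝒜 C).gr (EE 𝒜 (QQ 𝒜 C)).gr (dd 𝒜 C) := by
  intro g m hm
  exact (ii_spec 𝒜 (QQ 𝒜 C)).grHom g _ (pp_grHom 𝒜 C g m hm)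

/-- The successive cokernels. -/
noncomputable def CC (C₀ : GrLC.GMod.{u} 𝒜) : ℕ → GrLC.GMod.{u} 𝒜
  | 0 => C₀
  | n + 1 => QQ 𝒜 (CC C₀ n)

end build

variable {ι : Type} [AddCommGroup ι] [DecidableEq ι] {R : Type u} [CommRing R]
  (𝒜 : ι → AddSubgroup R) [GradedRing 𝒜]
  {M : Type u} [AddCommGroup M] [Module R M] (ℳ : ι → AddSubgroup M)
  [DirectSum.Decomposition ℳ] [SetLike.GradedSMul 𝒜 ℳ]

/-- the minimal `*`injective resolution built from `*`injective envelopes. -/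
noncomputable def minRes : GrLC.StarInjRes 𝒜 ℳ where
  X := fun n => EE 𝒜 (CC 𝒜 (GrLC.GMod.of 𝒜 M ℳ) n)
  d := fun n => dd 𝒜 (CC 𝒜 (GrLC.GMod.of 𝒜 M ℳ) n)
  ε := ii 𝒜 (GrLC.GMod.of 𝒜 M ℳ)
  d_grHom := fun n => dd_grHom 𝒜 _
  ε_grHom := (ii_spec 𝒜 (GrLC.GMod.of 𝒜 M ℳ)).grHom
  ε_injective := (ii_spec 𝒜 (GrLC.GMod.of 𝒜 M ℳ)).injective
  exact_zero := ker_dd 𝒜 _
  exact_succ := fun n => (ker_dd 𝒜 (CC 𝒜 (GrLC.GMod.of 𝒜 M ℳ) (n + 1))).trans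
    (range_dd 𝒜 (CC 𝒜 (GrLC.GMod.of 𝒜 M ℳ) n)).symm
  starInj := fun n => (ii_spec 𝒜 _).starInj

theorem minRes_min0 : ∀ P : Submodule R ((minRes 𝒜 ℳ).X 0).carrier,
    P.IsHomogeneous ((minRes 𝒜 ℳ).X 0).gr → P ≠ ⊥ → P ⊓ LinearMap.range (minRes 𝒜 ℳ).ε ≠ ⊥ :=
  (ii_spec 𝒜 (GrLC.GMod.of 𝒜 M ℳ)).essential

theorem minRes_min : ∀ (n : ℕ) (P : Submodule R ((minRes 𝒜 ℳ).X (n + 1)).carrier),
    P.IsHomogeneous ((minRes 𝒜 ℳ).X (n + 1)).gr → P ≠ ⊥ →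
      P ⊓ LinearMap.range ((minRes 𝒜 ℳ).d n) ≠ ⊥ := by
  intro n P hP hP0
  have h := (ii_spec 𝒜 (CC 𝒜 (GrLC.GMod.of 𝒜 M ℳ) (n + 1))).essential P hP hP0
  have hr : LinearMap.range ((minRes 𝒜 ℳ).d n) =
      LinearMap.range (ii 𝒜 (CC 𝒜 (GrLC.GMod.of 𝒜 M ℳ) (n + 1))) :=
    range_dd 𝒜 (CC 𝒜 (GrLC.GMod.of 𝒜 M ℳ) n)
  rw [hr]
  exact h

/-- **existence of minimal `*`injective resolutions.** -/
theorem exists_minimal : ∃ E : GrLC.StarInjRes 𝒜 ℳ,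
    (∀ P : Submodule R (E.X 0).carrier, P.IsHomogeneous (E.X 0).gr → P ≠ ⊥ →
      P ⊓ LinearMap.range E.ε ≠ ⊥) ∧
    (∀ (n : ℕ) (P : Submodule R (E.X (n + 1)).carrier), P.IsHomogeneous (E.X (n + 1)).gr →
      P ≠ ⊥ → P ⊓ LinearMap.range (E.d n) ≠ ⊥) :=
  ⟨minRes 𝒜 ℳ, minRes_min0 𝒜 ℳ, minRes_min 𝒜 ℳ⟩

end Groth.Agent.Lib.Helper20.GrMinRes
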