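import Mathlib
import Groth.Prelude.Def_GrLC
import Groth.Prelude.Def_GrLC2
import Groth.Agent.Lib.Helper20.GrStarLocalBass
import Groth.Agent.Lib.Helper20.GrMinRes
import Groth.Agent.Lib.Helper20.GorBassNum
import Groth.Agent.Lib.Helper20.GrCoarse
import Groth.Agent.Lib.Helper20.GrLCExt
import Groth.Agent.S13214
import Groth.Agent.S13220
import Groth.Agent.S13223
import Groth.Agent.S13225

/-!
# The top graded local cohomology of a Gorenstein `*`local ring (helper20)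
-/

set_option autoImplicit false
set_option linter.unusedSectionVars false
set_option linter.unusedVariables false
set_option linter.style.haveILetI false

universe u

open GrLC Groth.Agent.Lib.Helper20.GrLCBasic Groth.Agent.Lib.Helper20.GrLCQuot
  Groth.Agent.Lib.Helper20.GrLCExt Groth.Agent.Lib.Helper20.GrStarLocalBass

namespace Groth.Agent.Lib.Helper20.GrGorTop

section indep

variable {ι : Type} [AddCommGroup ι] [DecidableEq ι] {R : Type u} [CommRing R] [IsNoetherianRing R]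
  (𝒜 : ι → AddSubgroup R) [GradedRing 𝒜]
  {M : Type u} [AddCommGroup M] [Module R M] (ℳ : ι → AddSubgroup M)
  [DirectSum.Decomposition ℳ] [SetLike.GradedSMul 𝒜 ℳ]

lemma iSup_id_eq {N : Type u} [AddCommGroup N] (𝒩 : ι → AddSubgroup N) (h : ι) :
    𝒩 h = ⨆ g ∈ (AddMonoidHom.id ι) ⁻¹' {h}, 𝒩 g := by
  apply le_antisymm
  · exact le_iSup₂_of_le (f := fun g (_ : g ∈ (AddMonoidHom.id ι) ⁻¹' {h}) => 𝒩 g) h rfl le_rfl
  · refine iSup₂_le fun g hg => ?_
    have : g = h := hg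
    rw [this]

/-- **graded local cohomology does not depend on the `*`injective resolution.** -/
theorem exists_equiv_of_res (a : HomogeneousIdeal 𝒜) (I E : GrLC.StarInjRes 𝒜 ℳ) (i : ℕ) :
    ∃ ψ : I.H a i ≃ₗ[R] E.H a i, GrLC.IsGrHom (I.Hgr a i) (E.Hgr a i) ψ.toLinearMap := by
  obtain ⟨ψ, hψ⟩ := Groth.Agent.Lib.Helper20.GrCoarse.exists_equiv_coarsening (AddMonoidHom.id ι)
    𝒜 𝒜 (iSup_id_eq 𝒜) ℳ ℳ (iSup_id_eq ℳ) a a rfl I E i
  refine ⟨ψ, fun g x hx => hψ g x ?_⟩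
  change x ∈ ⨆ g' ∈ (AddMonoidHom.id ι) ⁻¹' {g}, I.Hgr a i g'
  rw [← iSup_id_eq (I.Hgr a i) g]
  exact hx

end indep

section concentrated

variable {ι : Type} [AddCommGroup ι] [DecidableEq ι] {R : Type u} [CommRing R]
  {𝒜 : ι → AddSubgroup R} [GradedRing 𝒜]
  {M : Type u} [AddCommGroup M] [Module R M] {ℳ : ι → AddSubgroup M}
  [DirectSum.Decomposition ℳ] [SetLike.GradedSMul 𝒜 ℳ] (E : GrLC.StarInjRes 𝒜 ℳ)
  (a : HomogeneousIdeal 𝒜) (n : ℕ)
  (hlo : ∀ k, k + 1 = n → GrLC.gam a.toIdeal (E.X k).carrier = ⊥)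
  (hhi : GrLC.gam a.toIdeal (E.X (n + 1)).carrier = ⊥)

include hhi in
theorem cocyc_eq : E.cocyc a n = GrLC.gam a.toIdeal (E.X n).carrier := by
  apply le_antisymm inf_le_left
  intro x hx
  refine ⟨hx, ?_⟩
  have h1 : E.d n x ∈ GrLC.gam a.toIdeal (E.X (n + 1)).carrier := by
    obtain ⟨k, hk⟩ := hx
    exact ⟨k, fun r hr => by rw [← map_smul, hk r hr, map_zero]⟩
  rw [hhi] at h1
  exact h1

include hlo in
theorem cobdy_eq : E.cobdy a n = ⊥ := by
  cases n with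
  | zero => rfl
  | succ k =>
    change (GrLC.gam a.toIdeal (E.X k).carrier).map (E.d k) = ⊥
    rw [hlo k rfl, Submodule.map_bot]

/-- if `Γ_a` of the neighbouring terms vanishes, `H^n_a` is `Γ_a(X_n)`. -/
noncomputable def HEquiv : E.H a n ≃ₗ[R] ↥(GrLC.gam a.toIdeal (E.X n).carrier) :=
  (Submodule.quotEquivOfEqBot _ (by
    rw [cobdy_eq E a n hlo, Submodule.comap_bot, Submodule.ker_subtype])).trans
    (LinearEquiv.ofEq _ _ (cocyc_eq E a n hhi))

theorem HEquiv_mem (g : ι) (x : E.H a n) (hx : x ∈ E.Hgr a n g) :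
    ((HEquiv E a n hlo hhi x : ↥(GrLC.gam a.toIdeal (E.X n).carrier)) : (E.X n).carrier) ∈
      (E.X n).gr g := by
  obtain ⟨z, hz, rfl⟩ := hx
  exact hz

end concentrated

section shift

variable {ι : Type} [AddCommGroup ι] [DecidableEq ι] {R : Type u} [CommRing R]
  (𝒜 : ι → AddSubgroup R) [GradedRing 𝒜]
  {M : Type u} [AddCommGroup M] [Module R M] (ℳ : ι → AddSubgroup M)
  {E : Type u} [AddCommGroup E] [Module R E] (𝓔 : ι → AddSubgroup E) [DirectSum.Decomposition 𝓔]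
  [SetLike.GradedSMul 𝒜 𝓔]

/-- unshifting the source of a `*`injective envelope shifts the target. -/
theorem isStarInjHull_shift (g₀ : ι) (f : M →ₗ[R] E)
    (h : GrLC.IsStarInjHull 𝒜 (fun j => ℳ (j - g₀)) 𝓔 f) :
    GrLC.IsStarInjHull 𝒜 ℳ (shiftGr 𝓔 g₀) f where
  injective := h.injective
  grHom := by
    intro j x hx
    have h1 : x ∈ (fun j => ℳ (j - g₀)) (j + g₀) := by
      change x ∈ ℳ (j + g₀ - g₀)
      rw [add_sub_cancel_right]
      exact hx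
    exact h.grHom (j + g₀) x h1
  essential := fun P hP hP0 => h.essential P (isHomogeneous_of_shift 𝓔 g₀ P hP) hP0
  starInj := isStarInj_shift 𝒜 𝓔 h.starInj g₀

end shift

section uniq

variable {ι : Type} [AddCommGroup ι] [DecidableEq ι] [Module.Free ℤ ι] [Module.Finite ℤ ι]
  {R : Type u} [CommRing R] [IsNoetherianRing R]
  (𝒜 : ι → AddSubgroup R) [GradedRing 𝒜] (m : HomogeneousIdeal 𝒜)
  {E₁ : Type u} [AddCommGroup E₁] [Module R E₁] (𝓔₁ : ι → AddSubgroup E₁)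
  [DirectSum.Decomposition 𝓔₁] [SetLike.GradedSMul 𝒜 𝓔₁]
  {E₂ : Type u} [AddCommGroup E₂] [Module R E₂] (𝓔₂ : ι → AddSubgroup E₂)
  [DirectSum.Decomposition 𝓔₂] [SetLike.GradedSMul 𝒜 𝓔₂]

/-- uniqueness of the `*`injective envelope of `R/m`. -/
theorem exists_equiv_of_hulls (f₁ : (R ⧸ m.toIdeal) →ₗ[R] E₁) (f₂ : (R ⧸ m.toIdeal) →ₗ[R] E₂)
    (h₁ : GrLC.IsStarInjHull 𝒜 (GrLC.quotGr 𝒜 m) 𝓔₁ f₁)
    (h₂ : GrLC.IsStarInjHull 𝒜 (GrLC.quotGr 𝒜 m) 𝓔₂ f₂) :
    ∃ β : E₁ ≃ₗ[R] E₂, GrLC.IsGrHom 𝓔₁ 𝓔₂ β.toLinearMap ∧ β.toLinearMap ∘ₗ f₁ = f₂ := by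
  letI : DirectSum.Decomposition (GrLC.quotGr 𝒜 m) :=
    (isInternal_quotGr 𝒜 (m.toIdeal : Submodule R R) m.isHomogeneous).chooseDecomposition
  letI : SetLike.GradedSMul 𝒜 (GrLC.quotGr 𝒜 m) :=
    quotGr_gradedSMul (𝒜 := 𝒜) (𝓧 := 𝒜) (P := (m.toIdeal : Submodule R R))
  exact Groth.Agent.S13214.result R 𝒜 (R ⧸ m.toIdeal) (GrLC.quotGr 𝒜 m) E₁ 𝓔₁ E₂ 𝓔₂ f₁ f₂ h₁ h₂

end uniq

section gam

variable {ι : Type} [AddCommGroup ι] [DecidableEq ι] [Module.Free ℤ ι] [Module.Finite ℤ ι]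
  {R : Type u} [CommRing R] [IsNoetherianRing R]
  (𝒜 : ι → AddSubgroup R) [GradedRing 𝒜] (m : HomogeneousIdeal 𝒜) (hm : IsStarLocal 𝒜 m)
  [hmp : m.toIdeal.IsPrime]

include hm in
/-- `Γ_m` of a graded module with `μ^0(m, -) = 0` vanishes. -/
theorem gam_eq_bot_of_bassNum (F : GrLC.GMod.{u} 𝒜)
    (hb : GrLC.bassNum m.toIdeal F.carrier 0 = 0) : GrLC.gam m.toIdeal F.carrier = ⊥ := by
  by_contra hne
  obtain ⟨g₀, y, -, -, -, hann⟩ := exists_ann_eq 𝒜 m hm F.gr (GrLC.gam m.toIdeal F.carrier)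
    (Groth.Agent.S13225.gam_isHomogeneous 𝒜 F.gr m) le_rfl hne
  exact bassNum_zero_ne_zero_of_ann m.toIdeal y hann hb

include hm in
/-- `Γ_m` of a `*`injective module with `μ^0(m, -) = 1` is a shifted `*`injective envelope of
`R/m`. -/
theorem exists_hull_range_eq_gam (F : GrLC.GMod.{u} 𝒜) (hF : GrLC.IsStarInj 𝒜 F.gr)
    (hb : GrLC.bassNum m.toIdeal F.carrier 0 = 1) :
    ∃ (g₀ : ι) (X : GrLC.GMod.{u} 𝒜) (f : (R ⧸ m.toIdeal) →ₗ[R] X.carrier)
      (ψ : X.carrier →ₗ[R] F.carrier),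
      GrLC.IsStarInjHull 𝒜 (fun j : ι => GrLC.quotGr 𝒜 m (j - g₀)) X.gr f ∧
        Function.Injective ψ ∧ GrLC.IsGrHom X.gr F.gr ψ ∧
        LinearMap.range ψ = GrLC.gam m.toIdeal F.carrier := by
  have hT : (GrLC.gam m.toIdeal F.carrier).IsHomogeneous F.gr :=
    Groth.Agent.S13225.gam_isHomogeneous 𝒜 F.gr m
  obtain ⟨x, hx0, hx⟩ := exists_ne_zero_of_bassNum_ne_zero m.toIdeal (X := F.carrier)
    (by rw [hb]; exact one_ne_zero)
  have hTne : GrLC.gam m.toIdeal F.carrier ≠ ⊥ := by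
    intro h
    apply hx0
    have hxT : x ∈ GrLC.gam m.toIdeal F.carrier :=
      ⟨1, fun r hr => hx r (by rwa [pow_one] at hr)⟩
    rw [h] at hxT
    exact hxT
  obtain ⟨g₀, y, hyT, hyg, hy0, hann⟩ := exists_ann_eq 𝒜 m hm F.gr _ hT le_rfl hTne
  obtain ⟨X, f, ψ, Q, hhull, hψinj, hψgr, hψf, hQ, hcompl⟩ :=
    Groth.Agent.S13223.result R 𝒜 F.carrier F.gr hF m g₀ y hyg hann
  refine ⟨g₀, X, f, ψ, hhull, hψinj, hψgr, ?_⟩
  have htors : GrLC.gam m.toIdeal X.carrier = ⊤ :=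
    Groth.Agent.S13220.result R 𝒜 m X.carrier (shiftGr X.gr g₀) f
      (isStarInjHull_shift 𝒜 (GrLC.quotGr 𝒜 m) X.gr g₀ f hhull)
  have hdisj : ∀ v : F.carrier, v ∈ LinearMap.range ψ → v ∈ Q → v = 0 := by
    intro v h1 h2
    have : v ∈ LinearMap.range ψ ⊓ Q := ⟨h1, h2⟩
    rw [hcompl.inf_eq_bot] at this
    exact this
  apply le_antisymm
  · rintro _ ⟨x', rfl⟩
    have hx' : x' ∈ GrLC.gam m.toIdeal X.carrier := by
      rw [htors]
      exact Submodule.mem_top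
    obtain ⟨k, hk⟩ := hx'
    exact ⟨k, fun r hr => by rw [← map_smul, hk r hr, map_zero]⟩
  · intro t ht
    have htop : t ∈ LinearMap.range ψ ⊔ Q := by
      rw [hcompl.sup_eq_top]
      exact Submodule.mem_top
    obtain ⟨a, ha, b, hbQ, hab⟩ := Submodule.mem_sup.1 htop
    have hbT : b ∈ GrLC.gam m.toIdeal F.carrier := by
      obtain ⟨k, hk⟩ := ht
      refine ⟨k, fun r hr => ?_⟩
      have h1 : r • a + r • b = 0 := by rw [← smul_add, hab, hk r hr]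
      apply hdisj
      · have h2 : r • b = -(r • a) := eq_neg_of_add_eq_zero_right h1
        rw [h2]
        exact Submodule.neg_mem _ (Submodule.smul_mem _ _ ha)
      · exact Submodule.smul_mem _ _ hbQ
    have hN : GrLC.gam m.toIdeal F.carrier ⊓ Q = ⊥ := by
      by_contra hne
      obtain ⟨g₁, z, hzN, hzg, hz0, hzann⟩ := exists_ann_eq 𝒜 m hm F.gr
        (GrLC.gam m.toIdeal F.carrier ⊓ Q) (fun i v hv => ⟨hT i hv.1, hQ i hv.2⟩) inf_le_left hne
      have hzm : ∀ r ∈ m.toIdeal, r • z = 0 := by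
        intro r hr
        rw [← hzann, Submodule.mem_annihilator_span_singleton] at hr
        exact hr
      obtain ⟨s, r, hs, hsr⟩ := exists_smul_eq_smul_of_bassNum_eq_one m.toIdeal hb y hann z hzm
      have h0 : s • z = 0 := by
        apply hdisj
        · rw [hsr, ← hψf, ← map_smul]
          exact LinearMap.mem_range_self _ _
        · exact Submodule.smul_mem _ _ hzN.2
      apply hs
      rw [← hzann, Submodule.mem_annihilator_span_singleton]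
      exact h0
    have hb0 : b = 0 := by
      have : b ∈ GrLC.gam m.toIdeal F.carrier ⊓ Q := ⟨hbT, hbQ⟩
      rw [hN] at this
      exact this
    rw [← hab, hb0, add_zero]
    exact ha

end gam

end Groth.Agent.Lib.Helper20.GrGorTop
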