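import Mathlib
import Groth.Prelude.Def_GrLC
import Groth.Prelude.Def_GrLC2
import Groth.Agent.Lib.Helper20.GrGorTop

/-!
# Bass numbers from concentrated graded local cohomology (helper20)

If the graded local cohomology `H^i_m(M)` vanishes for `i ≠ n` and `H^n_m(M)` is `*`injective, then
`μ^i(m, M) = 0` for `i ≠ n`.
-/

set_option autoImplicit false
set_option linter.unusedSectionVars false
set_option linter.unusedVariables false
set_option linter.style.haveILetI false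

universe u

open GrLC Groth.Agent.Lib.Helper20.GrLCBasic Groth.Agent.Lib.Helper20.GrLCQuot
  Groth.Agent.Lib.Helper20.GrStarLocalBass Groth.Agent.Lib.Helper20.GrMinResCount
  Groth.Agent.Lib.Helper20.GrGorTop

namespace Groth.Agent.Lib.Helper20.GrConcentrated

section steps

variable {ι : Type} [AddCommGroup ι] [DecidableEq ι] {R : Type u} [CommRing R] [IsNoetherianRing R]
  (𝒜 : ι → AddSubgroup R) [GradedRing 𝒜]
  {M : Type u} [AddCommGroup M] [Module R M] {ℳ : ι → AddSubgroup M}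
  [DirectSum.Decomposition ℳ] [SetLike.GradedSMul 𝒜 ℳ] (E : GrLC.StarInjRes 𝒜 ℳ)
  (hmin0 : ∀ P : Submodule R (E.X 0).carrier, P.IsHomogeneous (E.X 0).gr → P ≠ ⊥ →
    P ⊓ LinearMap.range E.ε ≠ ⊥)
  (hmin : ∀ (n : ℕ) (P : Submodule R (E.X (n + 1)).carrier), P.IsHomogeneous (E.X (n + 1)).gr →
    P ≠ ⊥ → P ⊓ LinearMap.range (E.d n) ≠ ⊥)
  (a : HomogeneousIdeal 𝒜)

include hmin0 hmin in
/-- the cycles are essential (ungraded form). -/
lemma exists_smul_mem_Zs (j : ℕ) (x : (E.X j).carrier) (hx : x ≠ 0) :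
    ∃ c : R, c • x ≠ 0 ∧ c • x ∈ LinearMap.ker (E.d j) := by
  rw [ker_d 𝒜 E j]
  exact exists_smul_mem_of_starEss 𝒜 (E.X j).gr (Zs 𝒜 E j) (Zs_isHomogeneous 𝒜 E j)
    (Zs_ess 𝒜 E hmin0 hmin j) x hx

include hmin0 hmin in
/-- if there are no coboundaries and `H^i` vanishes then `Γ_a(X_i) = 0`. -/
lemma gam_eq_bot_of_H (i : ℕ) (hcob : E.cobdy a i = ⊥) (hH : Subsingleton (E.H a i)) :
    GrLC.gam a.toIdeal (E.X i).carrier = ⊥ := by
  have hcoc : E.cocyc a i = ⊥ := by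
    rw [eq_bot_iff]
    intro z hz
    have h1 : E.toH a i ⟨z, hz⟩ = 0 := Subsingleton.elim _ _
    have h2 : (⟨z, hz⟩ : E.cocyc a i) ∈ (E.cobdy a i).comap (E.cocyc a i).subtype :=
      (Submodule.Quotient.mk_eq_zero _).1 h1
    rw [hcob] at h2
    exact h2
  rw [eq_bot_iff]
  intro x hx
  by_contra hx0
  obtain ⟨c, hc0, hc⟩ := exists_smul_mem_Zs 𝒜 E hmin0 hmin i x hx0
  have h3 : c • x ∈ E.cocyc a i := ⟨Submodule.smul_mem _ _ hx, hc⟩
  rw [hcoc] at h3
  exact hc0 h3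

lemma cobdy_succ_eq_bot (i : ℕ)
    (h : GrLC.gam a.toIdeal (E.X i).carrier ≤ LinearMap.ker (E.d i)) :
    E.cobdy a (i + 1) = ⊥ := by
  change (GrLC.gam a.toIdeal (E.X i).carrier).map (E.d i) = ⊥
  exact LinearMap.le_ker_iff_map.1 h

include hmin0 hmin in
theorem gam_eq_bot_below (n : ℕ) (hH : ∀ i, i < n → Subsingleton (E.H a i)) :
    ∀ i, i < n → GrLC.gam a.toIdeal (E.X i).carrier = ⊥ := by
  intro i
  induction i using Nat.strong_induction_on with
  | _ i ih =>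
    intro hi
    cases i with
    | zero => exact gam_eq_bot_of_H 𝒜 E hmin0 hmin a 0 rfl (hH 0 hi)
    | succ k =>
      have hk := ih k (Nat.lt_succ_self k) (by omega)
      exact gam_eq_bot_of_H 𝒜 E hmin0 hmin a (k + 1)
        (cobdy_succ_eq_bot 𝒜 E a k (by rw [hk]; exact bot_le)) (hH (k + 1) hi)

include hmin0 hmin in
theorem gam_eq_bot_above (n : ℕ)
    (hn : GrLC.gam a.toIdeal (E.X n).carrier ≤ LinearMap.ker (E.d n))
    (hH : ∀ i, n < i → Subsingleton (E.H a i)) :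
    ∀ i, n < i → GrLC.gam a.toIdeal (E.X i).carrier = ⊥ := by
  intro i
  induction i with
  | zero => intro h; omega
  | succ k ih =>
    intro hk
    rcases Nat.lt_or_ge n k with h | h
    · have hk' := ih h
      exact gam_eq_bot_of_H 𝒜 E hmin0 hmin a (k + 1)
        (cobdy_succ_eq_bot 𝒜 E a k (by rw [hk']; exact bot_le)) (hH (k + 1) hk)
    · have hkn : k = n := by omega
      subst hkn
      exact gam_eq_bot_of_H 𝒜 E hmin0 hmin a (k + 1) (cobdy_succ_eq_bot 𝒜 E a k hn) (hH (k + 1) hk)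

include hmin0 hmin in
/-- if `H^n` is `*`injective and there are no coboundaries in degree `n`, then `Γ_a(X_n)` consists
of cycles. -/
theorem gam_le_ker_of_starInj (n : ℕ) (hcob : E.cobdy a n = ⊥)
    (X : GrLC.GMod.{u} 𝒜) (θ : E.H a n ≃ₗ[R] X.carrier) (hX : GrLC.IsStarInj 𝒜 X.gr)
    (hθ : GrLC.IsGrHom (E.Hgr a n) X.gr θ.toLinearMap) :
    GrLC.gam a.toIdeal (E.X n).carrier ≤ LinearMap.ker (E.d n) := by
  have hG : (GrLC.gam a.toIdeal (E.X n).carrier).IsHomogeneous (E.X n).gr :=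
    Groth.Agent.S13225.gam_isHomogeneous 𝒜 (E.X n).gr a
  have hC : (E.cocyc a n).IsHomogeneous (E.X n).gr := by
    intro g x hx
    exact ⟨hG g hx.1, ker_isHomogeneous (E.X n).gr (E.X (n + 1)).gr (E.d n) (E.d_grHom n) g hx.2⟩
  let GC : GrLC.GMod.{u} 𝒜 := subGMod (E.X n) (E.cocyc a n) hC
  let GG : GrLC.GMod.{u} 𝒜 := subGMod (E.X n) (GrLC.gam a.toIdeal (E.X n).carrier) hG
  have hle : E.cocyc a n ≤ GrLC.gam a.toIdeal (E.X n).carrier := inf_le_left
  let jj : ↥(E.cocyc a n) →ₗ[R] ↥(GrLC.gam a.toIdeal (E.X n).carrier) := Submodule.inclusion hle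
  let j : GC.carrier →ₗ[R] GG.carrier := jj
  have hj : GrLC.IsGrHom GC.gr GG.gr j := fun g x hx => hx
  have hjinj : Function.Injective j := Submodule.inclusion_injective _
  let g : GC.carrier →ₗ[R] X.carrier := θ.toLinearMap ∘ₗ E.toH a n
  have hg : GrLC.IsGrHom GC.gr X.gr g := by
    intro k z hz
    exact hθ k _ ⟨z, hz, rfl⟩
  obtain ⟨h₀, hh, hcomp⟩ := hX GC GG j hj hjinj g hg
  let h : ↥(GrLC.gam a.toIdeal (E.X n).carrier) →ₗ[R] X.carrier := h₀
  have hcomp' : ∀ z : E.cocyc a n,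
      h (jj z) = θ (E.toH a n z) := fun z =>
    LinearMap.congr_fun hcomp z
  -- `h` is injective
  have hinj : ∀ x : ↥(GrLC.gam a.toIdeal (E.X n).carrier), h x = 0 → x = 0 := by
    intro x hx
    by_contra hx0
    have hx0' : (x : (E.X n).carrier) ≠ 0 := fun h0 => hx0 (Subtype.ext h0)
    obtain ⟨c, hc0, hc⟩ := exists_smul_mem_Zs 𝒜 E hmin0 hmin n x.1 hx0'
    have hcz : c • x.1 ∈ E.cocyc a n := ⟨Submodule.smul_mem _ _ x.2, hc⟩
    have h1 : jj ⟨c • x.1, hcz⟩ = c • x :=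
      Subtype.ext rfl
    have h2 : θ (E.toH a n ⟨c • x.1, hcz⟩) = 0 := by
      rw [← hcomp', h1, map_smul, hx, smul_zero]
    have h3 : E.toH a n ⟨c • x.1, hcz⟩ = 0 := by
      have := θ.injective (h2.trans (map_zero θ).symm)
      exact this
    have h4 : (⟨c • x.1, hcz⟩ : E.cocyc a n) ∈ (E.cobdy a n).comap (E.cocyc a n).subtype :=
      (Submodule.Quotient.mk_eq_zero _).1 h3
    rw [hcob] at h4
    exact hc0 h4
  intro x hx
  obtain ⟨w, hw⟩ := θ.surjective (h ⟨x, hx⟩)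
  obtain ⟨z, rfl⟩ := Submodule.mkQ_surjective _ w
  have h5 : h (jj z) = h ⟨x, hx⟩ := by
    rw [hcomp']
    exact hw
  have h6 : jj z - ⟨x, hx⟩ = 0 :=
    hinj _ (by rw [map_sub, h5, sub_self])
  have h7 : (z : (E.X n).carrier) = x := by
    have := congrArg Subtype.val (sub_eq_zero.1 h6)
    exact this
  rw [← h7]
  exact z.2.2

end steps

section bass

variable {ι : Type} [AddCommGroup ι] [DecidableEq ι] {R : Type u} [CommRing R] [IsNoetherianRing R]
  (𝒜 : ι → AddSubgroup R) [GradedRing 𝒜]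
  {M : Type u} [AddCommGroup M] [Module R M] (ℳ : ι → AddSubgroup M)
  [DirectSum.Decomposition ℳ] [SetLike.GradedSMul 𝒜 ℳ]
  (m : HomogeneousIdeal 𝒜) [hmp : m.toIdeal.IsPrime]

/-- `Γ_m(X) = 0` forces `μ^0(m, X) = 0`. -/
lemma bassNum_zero_of_gam_eq_bot (X : Type u) [AddCommGroup X] [Module R X]
    (h : GrLC.gam m.toIdeal X = ⊥) : GrLC.bassNum m.toIdeal X 0 = 0 := by
  by_contra hne
  obtain ⟨x, hx0, hx⟩ := exists_ne_zero_of_bassNum_ne_zero m.toIdeal (X := X) hne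
  have hxT : x ∈ GrLC.gam m.toIdeal X := ⟨1, fun r hr => hx r (by rwa [pow_one] at hr)⟩
  rw [h] at hxT
  exact hx0 hxT

/-- **vanishing of graded local cohomology below `n` gives vanishing of Bass numbers below `n`.** -/
theorem bassNum_eq_zero_below (n : ℕ) (I : GrLC.StarInjRes 𝒜 ℳ)
    (hH : ∀ i, i < n → Subsingleton (I.H m i)) :
    ∀ i, i < n → GrLC.bassNum m.toIdeal M i = 0 := by
  obtain ⟨E, hmin0, hmin⟩ := Groth.Agent.Lib.Helper20.GrMinRes.exists_minimal 𝒜 ℳ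
  have hH' : ∀ i, i < n → Subsingleton (E.H m i) := by
    intro i hi
    obtain ⟨ψ, -⟩ := exists_equiv_of_res 𝒜 ℳ m E I i
    haveI := hH i hi
    exact ψ.toEquiv.subsingleton
  intro i hi
  rw [← bassNum_X_zero 𝒜 E hmin0 hmin m.toIdeal m.isHomogeneous i]
  exact bassNum_zero_of_gam_eq_bot 𝒜 m _ (gam_eq_bot_below 𝒜 E hmin0 hmin m n hH' i hi)

/-- **concentration of graded local cohomology in one degree with a `*`injective value gives
vanishing of Bass numbers in the other degrees.** -/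
theorem bassNum_eq_zero_of_concentrated (n : ℕ) (I : GrLC.StarInjRes 𝒜 ℳ)
    (hH : ∀ i, i ≠ n → Subsingleton (I.H m i))
    (X : GrLC.GMod.{u} 𝒜) (θ : I.H m n ≃ₗ[R] X.carrier) (hX : GrLC.IsStarInj 𝒜 X.gr)
    (hθ : GrLC.IsGrHom (I.Hgr m n) X.gr θ.toLinearMap) :
    ∀ i, i ≠ n → GrLC.bassNum m.toIdeal M i = 0 := by
  obtain ⟨E, hmin0, hmin⟩ := Groth.Agent.Lib.Helper20.GrMinRes.exists_minimal 𝒜 ℳ
  have hH' : ∀ i, i ≠ n → Subsingleton (E.H m i) := by
    intro i hi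
    obtain ⟨ψ, -⟩ := exists_equiv_of_res 𝒜 ℳ m E I i
    haveI := hH i hi
    exact ψ.toEquiv.subsingleton
  obtain ⟨ψ, hψ⟩ := exists_equiv_of_res 𝒜 ℳ m E I n
  have hlow := gam_eq_bot_below 𝒜 E hmin0 hmin m n (fun i hi => hH' i (by omega))
  have hcob : E.cobdy m n = ⊥ := by
    cases n with
    | zero => rfl
    | succ k => exact cobdy_succ_eq_bot 𝒜 E m k (by rw [hlow k (Nat.lt_succ_self k)]; exact bot_le)
  have hle := gam_le_ker_of_starInj 𝒜 E hmin0 hmin m n hcob X (ψ.trans θ) hX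
    (fun g x hx => hθ g _ (hψ g x hx))
  have hhigh := gam_eq_bot_above 𝒜 E hmin0 hmin m n hle (fun i hi => hH' i (by omega))
  intro i hi
  rw [← bassNum_X_zero 𝒜 E hmin0 hmin m.toIdeal m.isHomogeneous i]
  apply bassNum_zero_of_gam_eq_bot 𝒜 m
  rcases Nat.lt_or_gt_of_ne hi with h | h
  · exact hlow i h
  · exact hhigh i h

end bass

end Groth.Agent.Lib.Helper20.GrConcentrated
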