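import Mathlib
import Groth.Prelude.Def_GrLC
import Groth.Agent.Lib.Helper20.GrConv

/-!
# More conversions between `SetLike` gradings and gradings by additive subgroups (helper20)
-/

set_option autoImplicit false
set_option linter.unusedSectionVars false
set_option linter.unusedVariables false
set_option linter.style.haveILetI false

universe u

open GrLC

namespace Groth.Agent.Lib.Helper20.GrConv

variable {ι : Type} [AddCommGroup ι] [DecidableEq ι]
  {R : Type u} [CommRing R] {σ' : Type u} [SetLike σ' R] [AddSubgroupClass σ' R]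
  (𝒜 : ι → σ') [GradedRing 𝒜]

/-- conversion of homogeneous ideals, backwards. -/
noncomputable def idealOf (b : HomogeneousIdeal (toAS 𝒜)) : HomogeneousIdeal 𝒜 :=
  ⟨b.toIdeal, fun i r hr => by
    rw [← decompose_toAS]
    exact b.isHomogeneous i hr⟩

theorem idealTo_toIdeal (a : HomogeneousIdeal 𝒜) : (idealTo 𝒜 a).toIdeal = a.toIdeal := rfl

theorem idealOf_toIdeal (b : HomogeneousIdeal (toAS 𝒜)) : (idealOf 𝒜 b).toIdeal = b.toIdeal := rfl

theorem idealOf_idealTo (a : HomogeneousIdeal 𝒜) : idealOf 𝒜 (idealTo 𝒜 a) = a :=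
  HomogeneousIdeal.toIdeal_injective rfl

theorem idealTo_idealOf (b : HomogeneousIdeal (toAS 𝒜)) : idealTo 𝒜 (idealOf 𝒜 b) = b :=
  HomogeneousIdeal.toIdeal_injective rfl

/-- the order isomorphism between the lattices of homogeneous ideals. -/
noncomputable def idealEquiv : HomogeneousIdeal 𝒜 ≃o HomogeneousIdeal (toAS 𝒜) where
  toFun := idealTo 𝒜
  invFun := idealOf 𝒜
  left_inv := idealOf_idealTo 𝒜
  right_inv := idealTo_idealOf 𝒜
  map_rel_iff' := Iff.rfl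

theorem isStarLocal_toAS (m : HomogeneousIdeal 𝒜) (hm : IsStarLocal 𝒜 m) :
    IsStarLocal (toAS 𝒜) (idealTo 𝒜 m) := by
  refine ⟨((idealEquiv 𝒜).isCoatom_iff m).2 hm.1, fun n hn => ?_⟩
  have h1 : IsCoatom (idealOf 𝒜 n) := by
    rw [← (idealEquiv 𝒜).isCoatom_iff]
    show IsCoatom (idealTo 𝒜 (idealOf 𝒜 n))
    rw [idealTo_idealOf]
    exact hn
  have h2 := hm.2 _ h1
  rw [← idealTo_idealOf 𝒜 n, h2]

section hull

variable {E' : Type u} [AddCommGroup E'] [Module R E'] (𝓔 : ι → AddSubgroup E')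
  [DirectSum.Decomposition 𝓔] [SetLike.GradedSMul 𝒜 𝓔] (m : HomogeneousIdeal 𝒜)

theorem isStarInjHull_toAS (e : (R ⧸ m.toIdeal) →ₗ[R] E')
    (he : IsStarInjHull 𝒜 (quotGr 𝒜 m) 𝓔 e) :
    haveI := gradedSMul_toAS 𝒜 𝓔
    IsStarInjHull (toAS 𝒜) (quotGr (toAS 𝒜) (idealTo 𝒜 m)) 𝓔 e := by
  haveI := gradedSMul_toAS 𝒜 𝓔
  refine { injective := he.injective, grHom := ?_, essential := he.essential,
           starInj := isStarInj_toAS 𝒜 𝓔 he.starInj }
  rintro g _ ⟨r, hr, rfl⟩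
  exact he.grHom g _ ⟨r, hr, rfl⟩

variable {C : Type u} [AddCommGroup C] [Module R C] (𝒞 : ι → AddSubgroup C)
  [DirectSum.Decomposition 𝒞] [SetLike.GradedSMul 𝒜 𝒞]

theorem isStarCanonical_toAS (n : ℕ) (I : StarInjRes 𝒜 𝒜)
    (hC : IsStarCanonical 𝒜 𝒞 𝓔 m n I) :
    haveI := gradedSMul_toAS 𝒜 𝓔
    haveI := gradedSMul_toAS 𝒜 𝒞
    IsStarCanonical (toAS 𝒜) 𝒞 𝓔 (idealTo 𝒜 m) n (resTo 𝒜 𝒜 I) := by
  haveI := gradedSMul_toAS 𝒜 𝓔
  haveI := gradedSMul_toAS 𝒜 𝒞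
  obtain ⟨hfin, φ, hφ⟩ := hC
  refine ⟨hfin, φ, ?_⟩
  intro d g hg
  exact hφ d g hg

end hull

end Groth.Agent.Lib.Helper20.GrConv
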