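import Mathlib
import Groth.Prelude.Def_GrLC
import Groth.Agent.Lib.Helper20.GrVeronese
import Groth.Agent.Lib.Helper20.GrFieldLocal

/-!
# Ring-level facts about a Veronese subring (helper20)
-/

set_option autoImplicit false
set_option linter.unusedSectionVars false
set_option linter.unusedVariables false
set_option linter.style.haveILetI false

universe u

open DirectSum GrLC Groth.Agent.Lib.Helper20.GrLCBasic Groth.Agent.Lib.Helper20.GrVeronese
  Groth.Agent.Lib.Helper20.GrFieldLocal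

namespace Groth.Agent.Lib.Helper20.GrVerRing

variable {R R' : Type u} [CommRing R] [CommRing R'] (𝒜 : ℤ → AddSubgroup R) [GradedRing 𝒜]
  (𝒜' : ℤ → AddSubgroup R') [GradedRing 𝒜'] (φ : R' →+* R) (hφ : Function.Injective φ)
  (q : ℕ) (hq : 0 < q) (hdeg : ∀ j : ℤ, (𝒜' j).map (φ : R' →+ R) = 𝒜 (j * q))

include hφ hq hdeg in
theorem hpos' (hpos : ∀ n : ℤ, n < 0 → 𝒜 n = ⊥) : ∀ j : ℤ, j < 0 → 𝒜' j = ⊥ := by
  intro j hj
  rw [eq_bot_iff]
  intro x hx
  have h1 := φ_mem 𝒜 𝒜' φ q hdeg hx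
  have hq' : (0 : ℤ) < q := by exact_mod_cast hq
  rw [hpos (j * q) (mul_neg_of_neg_of_pos hj hq')] at h1
  rw [AddSubgroup.mem_bot] at h1 ⊢
  exact hφ (h1.trans (map_zero φ).symm)

include hdeg in
/-- every element of `R_{jq}` comes from `R'_j`. -/
theorem exists_of_mem {j : ℤ} {r : R} (hr : r ∈ 𝒜 (j * q)) : ∃ r' ∈ 𝒜' j, φ r' = r := by
  rw [← hdeg j] at hr
  obtain ⟨r', hr', h⟩ := hr
  exact ⟨r', hr', h⟩

/-- the map `R'_0 → R_0`. -/
def i0 : deg0 𝒜' →+* deg0 𝒜 where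
  toFun r := ⟨φ r, by
    have h := φ_mem 𝒜 𝒜' φ q hdeg r.2
    rw [zero_mul] at h
    exact h⟩
  map_one' := Subtype.ext (map_one φ)
  map_mul' x y := Subtype.ext (map_mul φ (x : R') (y : R'))
  map_zero' := Subtype.ext (map_zero φ)
  map_add' x y := Subtype.ext (map_add φ (x : R') (y : R'))

include hφ in
theorem i0_bijective : Function.Bijective (i0 𝒜 𝒜' φ q hdeg) := by
  constructor
  · intro r s hrs
    apply Subtype.ext
    exact hφ (congrArg Subtype.val hrs)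
  · rintro ⟨s, hs⟩
    have hs' : s ∈ 𝒜 (0 * q) := by
      rw [zero_mul]
      exact hs
    obtain ⟨r, hr, hrs⟩ := exists_of_mem 𝒜 𝒜' φ q hdeg hs'
    exact ⟨⟨r, hr⟩, Subtype.ext hrs⟩

include hφ hdeg in
theorem isField_deg0' (h0 : IsField (deg0 𝒜)) : IsField (deg0 𝒜') :=
  MulEquiv.isField h0
    (RingEquiv.ofBijective (i0 𝒜 𝒜' φ q hdeg) (i0_bijective 𝒜 𝒜' φ hφ q hdeg)).toMulEquiv

/-- the irrelevant ideal of the Veronese subring. -/
def mV : HomogeneousIdeal 𝒜' :=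
  ⟨Ideal.span (⋃ j ∈ Set.Ioi (0 : ℤ), (𝒜' j : Set R')), by
    apply Ideal.homogeneous_span
    intro x hx
    simp only [Set.mem_iUnion, Set.mem_Ioi] at hx
    obtain ⟨i, _, hxi⟩ := hx
    exact ⟨i, hxi⟩⟩

theorem mV_toIdeal : (mV 𝒜').toIdeal = Ideal.span (⋃ j ∈ Set.Ioi (0 : ℤ), (𝒜' j : Set R')) := rfl

include hφ hdeg in
/-- `dim_{k'} R'_d = dim_k R_{dq}`. -/
theorem finrank_comp_veronese (d : ℤ) :
    Module.finrank (deg0 𝒜') (comp 𝒜' 𝒜' d) = Module.finrank (deg0 𝒜) (comp 𝒜 𝒜 (d * q)) := by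
  let T : comp 𝒜' 𝒜' d →+ comp 𝒜 𝒜 (d * q) :=
    { toFun := fun x => ⟨φ x.1, φ_mem 𝒜 𝒜' φ q hdeg x.2⟩
      map_zero' := Subtype.ext (map_zero φ)
      map_add' := fun x y => Subtype.ext (map_add φ x.1 y.1) }
  have hT : Function.Bijective T := by
    constructor
    · intro x y hxy
      apply Subtype.ext
      exact hφ (congrArg Subtype.val hxy)
    · rintro ⟨s, hs⟩
      obtain ⟨r, hr, hrs⟩ := exists_of_mem 𝒜 𝒜' φ q hdeg hs
      exact ⟨⟨r, hr⟩, Subtype.ext hrs⟩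
  have hrank := rank_eq_of_equiv_equiv (i0 𝒜 𝒜' φ q hdeg) (AddEquiv.ofBijective T hT)
    (i0_bijective 𝒜 𝒜' φ hφ q hdeg) (fun r x => by
      apply Subtype.ext
      exact map_mul φ (r : R') (x : R'))
  unfold Module.finrank
  rw [hrank]

end Groth.Agent.Lib.Helper20.GrVerRing
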