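import Mathlib
import Groth.Prelude.Def_GrLC
import Groth.Agent.Lib.Helper20.GrDual3
import Groth.Agent.Lib.Helper20.GrVerRing

/-!
# Graded duality and Veronese subrings (helper20)

Given perfect pairings `C × H → E'` over `R` and `C' × H' → E''` over the Veronese subring `R'`,
and a comparison `Θ : H → H'` identifying `H_{jq}` with `H'_j`, there is a semilinear injection
`C' → C` identifying `C'_j` with `C_{jq}`.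
-/

set_option autoImplicit false
set_option linter.unusedSectionVars false
set_option linter.unusedVariables false
set_option linter.style.haveILetI false

universe u

open DirectSum GrLC Groth.Agent.Lib.Helper20.GrLCBasic Groth.Agent.Lib.Helper20.GrLCQuot
  Groth.Agent.Lib.Helper20.GrFieldLocal Groth.Agent.Lib.Helper20.GrHullDual
  Groth.Agent.Lib.Helper20.GrVeronese Groth.Agent.Lib.Helper20.GrVerRing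
  Groth.Agent.Lib.Helper20.GrDual

namespace Groth.Agent.Lib.Helper20.GrDualVer

section tau

variable {R : Type u} [CommRing R] [IsNoetherianRing R] (𝒜 : ℤ → AddSubgroup R) [GradedRing 𝒜]
  (hpos : ∀ n : ℤ, n < 0 → 𝒜 n = ⊥) (h0 : IsField (deg0 𝒜))
  (m : HomogeneousIdeal 𝒜)
  (hmsp : m.toIdeal = Ideal.span (⋃ n ∈ Set.Ioi (0 : ℤ), (𝒜 n : Set R)))
  {E' : Type u} [AddCommGroup E'] [Module R E'] (𝓔 : ℤ → AddSubgroup E')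
  [DirectSum.Decomposition 𝓔] [SetLike.GradedSMul 𝒜 𝓔]
  (e : (R ⧸ m.toIdeal) →ₗ[R] E') (he : IsStarInjHull 𝒜 (quotGr 𝒜 m) 𝓔 e)

include hpos h0 hmsp he in
/-- the degree-zero piece of the envelope is free of rank one over `R_0`. -/
theorem exists_coord : ∃ u : deg0 𝒜 ≃ₗ[deg0 𝒜] comp 𝒜 𝓔 0, True := by
  letI : Field (deg0 𝒜) := h0.toField
  have hε0 : e 1 ≠ 0 := by
    intro h6
    have h7 : (1 : R ⧸ m.toIdeal) = 0 := he.injective (by rw [h6, map_zero])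
    have h8 : Ideal.Quotient.mk m.toIdeal 1 = 0 := h7
    rw [Ideal.Quotient.eq_zero_iff_mem] at h8
    exact ne_top 𝒜 hpos h0 m hmsp ((Ideal.eq_top_iff_one _).2 h8)
  let ε : comp 𝒜 𝓔 0 := ⟨e 1, range_le_zero' 𝒜 hpos m hmsp 𝓔 e he 1⟩
  have hεne : ε ≠ 0 := fun h => hε0 (congrArg Subtype.val h)
  let u₀ : deg0 𝒜 →ₗ[deg0 𝒜] comp 𝒜 𝓔 0 := LinearMap.toSpanSingleton (deg0 𝒜) _ ε
  have hu₀ : ∀ a, u₀ a = a • ε := fun a => rfl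
  have hbij : Function.Bijective u₀ := by
    constructor
    · rw [injective_iff_map_eq_zero]
      intro a ha
      rw [hu₀] at ha
      by_contra ha0
      obtain ⟨b, hb⟩ := h0.mul_inv_cancel ha0
      apply hεne
      have : ε = (b * a) • ε := by rw [mul_comm, hb, one_smul]
      rw [this, mul_smul, ha, smul_zero]
    · rintro ⟨w, hw⟩
      obtain ⟨c, hc, rfl⟩ := exists_smul_eq_of_mem_zero 𝒜 𝓔 hpos h0 m hmsp e he hw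
      exact ⟨⟨c, hc⟩, Subtype.ext rfl⟩
  exact ⟨LinearEquiv.ofBijective u₀ hbij, trivial⟩

end tau

section main

variable {R : Type u} [CommRing R] [IsNoetherianRing R] (𝒜 : ℤ → AddSubgroup R) [GradedRing 𝒜]
  (hpos : ∀ n : ℤ, n < 0 → 𝒜 n = ⊥) (h0 : IsField (deg0 𝒜))
  (m : HomogeneousIdeal 𝒜)
  (hmsp : m.toIdeal = Ideal.span (⋃ n ∈ Set.Ioi (0 : ℤ), (𝒜 n : Set R)))
  {E' : Type u} [AddCommGroup E'] [Module R E'] (𝓔 : ℤ → AddSubgroup E')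
  [DirectSum.Decomposition 𝓔] [SetLike.GradedSMul 𝒜 𝓔]
  (e : (R ⧸ m.toIdeal) →ₗ[R] E') (he : IsStarInjHull 𝒜 (quotGr 𝒜 m) 𝓔 e)
  {C : Type u} [AddCommGroup C] [Module R C] (𝒞 : ℤ → AddSubgroup C)
  [DirectSum.Decomposition 𝒞] [SetLike.GradedSMul 𝒜 𝒞] [Module.Finite R C]
  {H : Type u} [AddCommGroup H] [Module R H] (ℋ : ℤ → AddSubgroup H)
  [DirectSum.Decomposition ℋ] [SetLike.GradedSMul 𝒜 ℋ]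
  (Φ : (C →ₗ[R] E') ≃ₗ[R] H)
  (hΦ : IsGrHom (fun d => (homDeg 𝒜 𝒞 𝓔 d).toAddSubgroup) ℋ Φ.toLinearMap)
  (q : ℕ) (hq : 0 < q)
  {R' : Type u} [CommRing R'] [IsNoetherianRing R'] (𝒜' : ℤ → AddSubgroup R') [GradedRing 𝒜']
  (φ : R' →+* R) (hφ : Function.Injective φ)
  (hdeg : ∀ j : ℤ, (𝒜' j).map (φ : R' →+ R) = 𝒜 (j * q))
  (hpos' : ∀ n : ℤ, n < 0 → 𝒜' n = ⊥) (h0' : IsField (deg0 𝒜'))
  (m' : HomogeneousIdeal 𝒜')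
  (hm'sp : m'.toIdeal = Ideal.span (⋃ n ∈ Set.Ioi (0 : ℤ), (𝒜' n : Set R')))
  {E'' : Type u} [AddCommGroup E''] [Module R' E''] (𝓔' : ℤ → AddSubgroup E'')
  [DirectSum.Decomposition 𝓔'] [SetLike.GradedSMul 𝒜' 𝓔']
  (e' : (R' ⧸ m'.toIdeal) →ₗ[R'] E'') (he' : IsStarInjHull 𝒜' (quotGr 𝒜' m') 𝓔' e')
  {C' : Type u} [AddCommGroup C'] [Module R' C'] (𝒞' : ℤ → AddSubgroup C')
  [DirectSum.Decomposition 𝒞'] [SetLike.GradedSMul 𝒜' 𝒞'] [Module.Finite R' C']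
  {H' : Type u} [AddCommGroup H'] [Module R' H'] (ℋ' : ℤ → AddSubgroup H')
  [DirectSum.Decomposition ℋ'] [SetLike.GradedSMul 𝒜' ℋ']
  (Φ' : (C' →ₗ[R'] E'') ≃ₗ[R'] H')
  (hΦ' : IsGrHom (fun d => (homDeg 𝒜' 𝒞' 𝓔' d).toAddSubgroup) ℋ' Φ'.toLinearMap)
  (Θ : H →+ H')
  (hΘ1 : ∀ (r : R') (x : H), Θ (φ r • x) = r • Θ x)
  (hΘ2 : ∀ (n : ℤ) (x : H), x ∈ ℋ n → Θ x ∈ ℋ' (fl q n))
  (hΘ3 : ∀ (j : ℤ) (x : H), x ∈ ℋ (j * q) → Θ x = 0 → x = 0)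
  (hΘ4 : ∀ (j : ℤ) (y : H'), y ∈ ℋ' j → ∃ x ∈ ℋ (j * q), Θ x = y)
  (τ : comp 𝒜' 𝓔' 0 →+ comp 𝒜 𝓔 0)
  (hτ1 : ∀ (a : deg0 𝒜') (w : comp 𝒜' 𝓔' 0), τ (a • w) = i0 𝒜 𝒜' φ q hdeg a • τ w)
  (hτ2 : Function.Injective τ)

include hq hΘ2 in
theorem Θ_mem (j : ℤ) (h : comp 𝒜 ℋ (-(j * q))) : Θ h.1 ∈ comp 𝒜' ℋ' (-j) := by
  have hidx : -(j * (q : ℤ)) = (-j) * q := by ring
  have h1 : h.1 ∈ ℋ ((-j) * q) := by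
    rw [← hidx]
    exact h.2
  have := hΘ2 _ h.1 h1
  rwa [fl_mul q hq] at this

/-- the functional on `H_{-jq}` attached to an element of `C'_j`. -/
noncomputable def ellMap (j : ℤ) (c' : comp 𝒜' 𝒞' j) :
    comp 𝒜 ℋ (-(j * q)) →ₗ[deg0 𝒜] comp 𝒜 𝓔 0 where
  toFun h := τ (pairV 𝒜' 𝓔' 𝒞' ℋ' Φ' hΦ' j c' ⟨Θ h.1, Θ_mem 𝒜 ℋ q hq 𝒜' ℋ' Θ hΘ2 j h⟩)
  map_add' h h' := by
    rw [← map_add τ, ← map_add]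
    congr 2
    apply Subtype.ext
    exact map_add Θ h.1 h'.1
  map_smul' a h := by
    obtain ⟨a', rfl⟩ := (i0_bijective 𝒜 𝒜' φ hφ q hdeg).2 a
    rw [RingHom.id_apply, ← hτ1, ← map_smul]
    congr 2
    apply Subtype.ext
    exact hΘ1 (a' : R') h.1

theorem ellMap_apply (j : ℤ) (c' : comp 𝒜' 𝒞' j) (h : comp 𝒜 ℋ (-(j * q))) :
    ellMap 𝒜 𝓔 ℋ q hq 𝒜' φ hφ hdeg 𝓔' 𝒞' ℋ' Φ' hΦ' Θ hΘ1 hΘ2 τ hτ1 j c' h =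
      τ (pairV 𝒜' 𝓔' 𝒞' ℋ' Φ' hΦ' j c' ⟨Θ h.1, Θ_mem 𝒜 ℋ q hq 𝒜' ℋ' Θ hΘ2 j h⟩) := rfl

include hpos h0 hmsp he in
/-- the pairing as an isomorphism `C_j ≃ Hom(H_{-j}, E'_0)`. -/
noncomputable def PV (j : ℤ) :
    comp 𝒜 𝒞 j ≃ₗ[deg0 𝒜] (comp 𝒜 ℋ (-j) →ₗ[deg0 𝒜] comp 𝒜 𝓔 0) :=
  LinearEquiv.ofBijective (pairV 𝒜 𝓔 𝒞 ℋ Φ hΦ j)
    ⟨pairV_injective 𝒜 hpos h0 m hmsp 𝓔 e he 𝒞 ℋ Φ hΦ j,
      pairV_surjective 𝒜 hpos h0 m hmsp 𝓔 e he 𝒞 ℋ Φ hΦ j⟩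

theorem PV_apply (j : ℤ) (c : comp 𝒜 𝒞 j) :
    PV 𝒜 hpos h0 m hmsp 𝓔 e he 𝒞 ℋ Φ hΦ j c = pairV 𝒜 𝓔 𝒞 ℋ Φ hΦ j c := rfl

theorem ellMap_add (j : ℤ) (c' c'' : comp 𝒜' 𝒞' j) :
    ellMap 𝒜 𝓔 ℋ q hq 𝒜' φ hφ hdeg 𝓔' 𝒞' ℋ' Φ' hΦ' Θ hΘ1 hΘ2 τ hτ1 j (c' + c'') =
      ellMap 𝒜 𝓔 ℋ q hq 𝒜' φ hφ hdeg 𝓔' 𝒞' ℋ' Φ' hΦ' Θ hΘ1 hΘ2 τ hτ1 j c' +
      ellMap 𝒜 𝓔 ℋ q hq 𝒜' φ hφ hdeg 𝓔' 𝒞' ℋ' Φ' hΦ' Θ hΘ1 hΘ2 τ hτ1 j c'' := by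
  apply LinearMap.ext
  intro h
  rw [LinearMap.add_apply, ellMap_apply, ellMap_apply, ellMap_apply, map_add,
    LinearMap.add_apply, map_add]

theorem ellMap_smul (j : ℤ) (a : deg0 𝒜') (c' : comp 𝒜' 𝒞' j) :
    ellMap 𝒜 𝓔 ℋ q hq 𝒜' φ hφ hdeg 𝓔' 𝒞' ℋ' Φ' hΦ' Θ hΘ1 hΘ2 τ hτ1 j (a • c') =
      i0 𝒜 𝒜' φ q hdeg a •
        ellMap 𝒜 𝓔 ℋ q hq 𝒜' φ hφ hdeg 𝓔' 𝒞' ℋ' Φ' hΦ' Θ hΘ1 hΘ2 τ hτ1 j c' := by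
  apply LinearMap.ext
  intro h
  rw [LinearMap.smul_apply, ellMap_apply, ellMap_apply, map_smul, LinearMap.smul_apply, hτ1]

/-- the map `C'_j → C_{jq}`. -/
noncomputable def Gmap (j : ℤ) : comp 𝒜' 𝒞' j →+ comp 𝒜 𝒞 (j * q) where
  toFun c' := (PV 𝒜 hpos h0 m hmsp 𝓔 e he 𝒞 ℋ Φ hΦ (j * q)).symm
    (ellMap 𝒜 𝓔 ℋ q hq 𝒜' φ hφ hdeg 𝓔' 𝒞' ℋ' Φ' hΦ' Θ hΘ1 hΘ2 τ hτ1 j c')
  map_zero' := by
    have h1 : ellMap 𝒜 𝓔 ℋ q hq 𝒜' φ hφ hdeg 𝓔' 𝒞' ℋ' Φ' hΦ' Θ hΘ1 hΘ2 τ hτ1 j 0 = 0 := by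
      apply LinearMap.ext
      intro h
      rw [ellMap_apply, map_zero, LinearMap.zero_apply, map_zero, LinearMap.zero_apply]
    rw [h1, map_zero]
  map_add' c' c'' := by
    rw [ellMap_add, map_add]

theorem pair_Gmap (j : ℤ) (c' : comp 𝒜' 𝒞' j) :
    pairV 𝒜 𝓔 𝒞 ℋ Φ hΦ (j * q)
      (Gmap 𝒜 hpos h0 m hmsp 𝓔 e he 𝒞 ℋ Φ hΦ q hq 𝒜' φ hφ hdeg 𝓔' 𝒞' ℋ' Φ' hΦ' Θ hΘ1 hΘ2 τ hτ1
        j c') =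
      ellMap 𝒜 𝓔 ℋ q hq 𝒜' φ hφ hdeg 𝓔' 𝒞' ℋ' Φ' hΦ' Θ hΘ1 hΘ2 τ hτ1 j c' :=
  (PV 𝒜 hpos h0 m hmsp 𝓔 e he 𝒞 ℋ Φ hΦ (j * q)).apply_symm_apply _

theorem Gmap_smul (j : ℤ) (a : deg0 𝒜') (c' : comp 𝒜' 𝒞' j) :
    Gmap 𝒜 hpos h0 m hmsp 𝓔 e he 𝒞 ℋ Φ hΦ q hq 𝒜' φ hφ hdeg 𝓔' 𝒞' ℋ' Φ' hΦ' Θ hΘ1 hΘ2 τ hτ1
        j (a • c') =
      i0 𝒜 𝒜' φ q hdeg a •
        Gmap 𝒜 hpos h0 m hmsp 𝓔 e he 𝒞 ℋ Φ hΦ q hq 𝒜' φ hφ hdeg 𝓔' 𝒞' ℋ' Φ' hΦ' Θ hΘ1 hΘ2 τ hτ1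
          j c' := by
  change (PV 𝒜 hpos h0 m hmsp 𝓔 e he 𝒞 ℋ Φ hΦ (j * q)).symm _ =
    _ • (PV 𝒜 hpos h0 m hmsp 𝓔 e he 𝒞 ℋ Φ hΦ (j * q)).symm _
  rw [ellMap_smul, map_smul]

include hpos' h0' hm'sp he' hτ2 hΘ4 in
theorem Gmap_injective (j : ℤ) : Function.Injective
    (Gmap 𝒜 hpos h0 m hmsp 𝓔 e he 𝒞 ℋ Φ hΦ q hq 𝒜' φ hφ hdeg 𝓔' 𝒞' ℋ' Φ' hΦ' Θ hΘ1 hΘ2 τ hτ1
      j) := by
  rw [injective_iff_map_eq_zero]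
  intro c' hc'
  have h1 := pair_Gmap 𝒜 hpos h0 m hmsp 𝓔 e he 𝒞 ℋ Φ hΦ q hq 𝒜' φ hφ hdeg 𝓔' 𝒞' ℋ' Φ' hΦ' Θ hΘ1
    hΘ2 τ hτ1 j c'
  rw [hc', map_zero] at h1
  apply pairV_injective 𝒜' hpos' h0' m' hm'sp 𝓔' e' he' 𝒞' ℋ' Φ' hΦ' j
  rw [map_zero]
  apply LinearMap.ext
  rintro ⟨y, hy⟩
  have hy' : y ∈ ℋ' (-j) := hy
  obtain ⟨x, hx, rfl⟩ := hΘ4 (-j) y hy'
  have hx' : x ∈ ℋ (-(j * q)) := by
    have hidx : -(j * (q : ℤ)) = (-j) * q := by ring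
    rw [hidx]
    exact hx
  have h2 := LinearMap.congr_fun h1 (⟨x, hx'⟩ : comp 𝒜 ℋ (-(j * q)))
  rw [LinearMap.zero_apply, ellMap_apply] at h2
  have h3 := hτ2 (h2.symm.trans (map_zero τ).symm)
  rw [LinearMap.zero_apply]
  exact h3

include hφ hq hdeg hΘ1 hΘ2 hΘ3 hΘ4 in
/-- the comparison map identifies dimensions. -/
theorem finrank_theta (j : ℤ) :
    Module.finrank (deg0 𝒜') (comp 𝒜' ℋ' j) = Module.finrank (deg0 𝒜) (comp 𝒜 ℋ (j * q)) := by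
  let T : comp 𝒜 ℋ (j * q) →+ comp 𝒜' ℋ' j :=
    { toFun := fun y => ⟨Θ y.1, by
        have := hΘ2 _ y.1 y.2
        rwa [fl_mul q hq] at this⟩
      map_zero' := Subtype.ext (map_zero Θ)
      map_add' := fun x y => Subtype.ext (map_add Θ x.1 y.1) }
  have hT : Function.Bijective T := by
    constructor
    · rw [injective_iff_map_eq_zero]
      intro y hy
      apply Subtype.ext
      exact hΘ3 j y.1 y.2 (congrArg Subtype.val hy)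
    · rintro ⟨x, hx⟩
      obtain ⟨y, hy, hyx⟩ := hΘ4 j x hx
      exact ⟨⟨y, hy⟩, Subtype.ext hyx⟩
  let Te := AddEquiv.ofBijective T hT
  have hTsmul : ∀ (r : deg0 𝒜') (y : comp 𝒜 ℋ (j * q)),
      Te (i0 𝒜 𝒜' φ q hdeg r • y) = r • Te y := by
    intro r y
    apply Subtype.ext
    exact hΘ1 (r : R') y.1
  have hrank := rank_eq_of_equiv_equiv (i0 𝒜 𝒜' φ q hdeg) Te.symm
    (i0_bijective 𝒜 𝒜' φ hφ q hdeg) (fun r y => by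
    apply Te.injective
    rw [AddEquiv.apply_symm_apply, hTsmul, AddEquiv.apply_symm_apply])
  unfold Module.finrank
  rw [hrank]

include hpos' h0' hm'sp he' hτ2 hΘ3 hΘ4 in
theorem Gmap_surjective (j : ℤ) : Function.Surjective
    (Gmap 𝒜 hpos h0 m hmsp 𝓔 e he 𝒞 ℋ Φ hΦ q hq 𝒜' φ hφ hdeg 𝓔' 𝒞' ℋ' Φ' hΦ' Θ hΘ1 hΘ2 τ hτ1
      j) := by
  letI : Field (deg0 𝒜) := h0.toField
  haveI : IsNoetherian R C := isNoetherian_of_isNoetherianRing_of_finite R C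
  haveI hV : IsNoetherian (deg0 𝒜) (comp 𝒜 𝒞 (j * q)) :=
    Groth.Agent.Lib.Helper20.GrFin1.isNoetherian_comp 𝒜 𝒞 (j * q)
  haveI : Module.Finite (deg0 𝒜) (comp 𝒜 𝒞 (j * q)) := Module.IsNoetherian.finite _ _
  set G := Gmap 𝒜 hpos h0 m hmsp 𝓔 e he 𝒞 ℋ Φ hΦ q hq 𝒜' φ hφ hdeg 𝓔' 𝒞' ℋ' Φ' hΦ' Θ hΘ1 hΘ2 τ
    hτ1 j with hG
  have hGinj : Function.Injective G := Gmap_injective 𝒜 hpos h0 m hmsp 𝓔 e he 𝒞 ℋ Φ hΦ q hq 𝒜' φ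
    hφ hdeg hpos' h0' m' hm'sp 𝓔' e' he' 𝒞' ℋ' Φ' hΦ' Θ hΘ1 hΘ2 hΘ4 τ hτ1 hτ2 j
  have hGsmul : ∀ (a : deg0 𝒜') (c' : comp 𝒜' 𝒞' j), G (a • c') = i0 𝒜 𝒜' φ q hdeg a • G c' :=
    Gmap_smul 𝒜 hpos h0 m hmsp 𝓔 e he 𝒞 ℋ Φ hΦ q hq 𝒜' φ hφ hdeg 𝓔' 𝒞' ℋ' Φ' hΦ' Θ hΘ1 hΘ2 τ
      hτ1 j
  let S : Submodule (deg0 𝒜) (comp 𝒜 𝒞 (j * q)) :=
    { carrier := Set.range G
      add_mem' := by
        rintro _ _ ⟨x, rfl⟩ ⟨y, rfl⟩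
        exact ⟨x + y, map_add G x y⟩
      zero_mem' := ⟨0, map_zero G⟩
      smul_mem' := by
        rintro a _ ⟨x, rfl⟩
        obtain ⟨a', rfl⟩ := (i0_bijective 𝒜 𝒜' φ hφ q hdeg).2 a
        exact ⟨a' • x, hGsmul a' x⟩ }
  let T : comp 𝒜' 𝒞' j →+ S :=
    { toFun := fun c' => ⟨G c', ⟨c', rfl⟩⟩
      map_zero' := Subtype.ext (map_zero G)
      map_add' := fun x y => Subtype.ext (map_add G x y) }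
  have hT : Function.Bijective T := by
    constructor
    · intro x y hxy
      exact hGinj (congrArg Subtype.val hxy)
    · rintro ⟨_, ⟨c', rfl⟩⟩
      exact ⟨c', rfl⟩
  have hrank := rank_eq_of_equiv_equiv (i0 𝒜 𝒜' φ q hdeg) (AddEquiv.ofBijective T hT)
    (i0_bijective 𝒜 𝒜' φ hφ q hdeg) (fun a c' => by
      apply Subtype.ext
      exact hGsmul a c')
  have hfr : Module.finrank (deg0 𝒜) S = Module.finrank (deg0 𝒜) (comp 𝒜 𝒞 (j * q)) := by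
    have h1 : Module.finrank (deg0 𝒜) S = Module.finrank (deg0 𝒜') (comp 𝒜' 𝒞' j) := by
      unfold Module.finrank
      rw [hrank]
    rw [h1, ← finrank_H_eq 𝒜' hpos' h0' m' hm'sp 𝓔' e' he' 𝒞' ℋ' Φ' hΦ' j,
      finrank_theta 𝒜 ℋ q hq 𝒜' φ hφ hdeg ℋ' Θ hΘ1 hΘ2 hΘ3 hΘ4 (-j),
      ← finrank_H_eq 𝒜 hpos h0 m hmsp 𝓔 e he 𝒞 ℋ Φ hΦ (j * q)]
    have hidx : -(j * (q : ℤ)) = (-j) * q := by ring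
    rw [hidx]
  have hS : S = ⊤ := Submodule.eq_top_of_finrank_eq hfr
  intro c
  have hc : c ∈ S := by
    rw [hS]
    exact Submodule.mem_top
  exact hc

end main

end Groth.Agent.Lib.Helper20.GrDualVer
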