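import Mathlib
import Groth.Prelude.Def_GrLC
import Groth.Agent.Lib.Helper20.GrDualVer

/-!
# Graded duality and Veronese subrings, II: the global semilinear map (helper20)
-/

set_option autoImplicit false
set_option linter.unusedSectionVars false
set_option linter.unusedVariables false
set_option linter.style.haveILetI false

universe u

open DirectSum GrLC Groth.Agent.Lib.Helper20.GrLCBasic Groth.Agent.Lib.Helper20.GrLCQuot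
  Groth.Agent.Lib.Helper20.GrFieldLocal Groth.Agent.Lib.Helper20.GrHullDual
  Groth.Agent.Lib.Helper20.GrVeronese Groth.Agent.Lib.Helper20.GrVerRing
  Groth.Agent.Lib.Helper20.GrDual Groth.Agent.Lib.Helper20.GrDualVer

namespace Groth.Agent.Lib.Helper20.GrDualVer2

section main

variable {R : Type u} [CommRing R] [IsNoetherianRing R] (𝒜 : ℤ → AddSubgroup R) [GradedRing 𝒜]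
  (hpos : ∀ n : ℤ, n < 0 → 𝒜 n = ⊥) (h0 : IsField (deg0 𝒜))
  (m : HomogeneousIdeal 𝒜)
  (hmsp : m.toIdeal = Ideal.span (⋃ n ∈ Set.Ioi (0 : ℤ), (𝒜 n : Set R)))
  {E' : Type u} [AddCommGroup E'] [Module R E'] (𝓔 : ℤ → AddSubgroup E')
  [DirectSum.Decomposition 𝓔] [SetLike.GradedSMul 𝒜 𝓔]
  (e : (R ⧸ m.toIdeal) →ₗ[R] E') (he : IsStarInjHull 𝒜 (quotGr 𝒜 m) 𝓔 e)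
  {C : Type u} [AddCommGroup C] [Module R C] (𝒞 : ℤ → AddSubgroup C)
  [DirectSum.Decomposition 𝒞] [SetLike.GradedSMul 𝒜 𝒞] [Module.Finite R C]
  {H : Type u} [AddCommGroup H] [Module R H] (ℋ : ℤ → AddSubgroup H)
  [DirectSum.Decomposition ℋ] [SetLike.GradedSMul 𝒜 ℋ]
  (Φ : (C →ₗ[R] E') ≃ₗ[R] H)
  (hΦ : IsGrHom (fun d => (homDeg 𝒜 𝒞 𝓔 d).toAddSubgroup) ℋ Φ.toLinearMap)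
  (q : ℕ) (hq : 0 < q)
  {R' : Type u} [CommRing R'] [IsNoetherianRing R'] (𝒜' : ℤ → AddSubgroup R') [GradedRing 𝒜']
  (φ : R' →+* R) (hφ : Function.Injective φ)
  (hdeg : ∀ j : ℤ, (𝒜' j).map (φ : R' →+ R) = 𝒜 (j * q))
  (hpos' : ∀ n : ℤ, n < 0 → 𝒜' n = ⊥) (h0' : IsField (deg0 𝒜'))
  (m' : HomogeneousIdeal 𝒜')
  (hm'sp : m'.toIdeal = Ideal.span (⋃ n ∈ Set.Ioi (0 : ℤ), (𝒜' n : Set R')))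
  {E'' : Type u} [AddCommGroup E''] [Module R' E''] (𝓔' : ℤ → AddSubgroup E'')
  [DirectSum.Decomposition 𝓔'] [SetLike.GradedSMul 𝒜' 𝓔']
  (e' : (R' ⧸ m'.toIdeal) →ₗ[R'] E'') (he' : IsStarInjHull 𝒜' (quotGr 𝒜' m') 𝓔' e')
  {C' : Type u} [AddCommGroup C'] [Module R' C'] (𝒞' : ℤ → AddSubgroup C')
  [DirectSum.Decomposition 𝒞'] [SetLike.GradedSMul 𝒜' 𝒞'] [Module.Finite R' C']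
  {H' : Type u} [AddCommGroup H'] [Module R' H'] (ℋ' : ℤ → AddSubgroup H')
  [DirectSum.Decomposition ℋ'] [SetLike.GradedSMul 𝒜' ℋ']
  (Φ' : (C' →ₗ[R'] E'') ≃ₗ[R'] H')
  (hΦ' : IsGrHom (fun d => (homDeg 𝒜' 𝒞' 𝓔' d).toAddSubgroup) ℋ' Φ'.toLinearMap)
  (Θ : H →+ H')
  (hΘ1 : ∀ (r : R') (x : H), Θ (φ r • x) = r • Θ x)
  (hΘ2 : ∀ (n : ℤ) (x : H), x ∈ ℋ n → Θ x ∈ ℋ' (fl q n))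
  (hΘ3 : ∀ (j : ℤ) (x : H), x ∈ ℋ (j * q) → Θ x = 0 → x = 0)
  (hΘ4 : ∀ (j : ℤ) (y : H'), y ∈ ℋ' j → ∃ x ∈ ℋ (j * q), Θ x = y)
  (τ : comp 𝒜' 𝓔' 0 →+ comp 𝒜 𝓔 0)
  (hτ1 : ∀ (a : deg0 𝒜') (w : comp 𝒜' 𝓔' 0), τ (a • w) = i0 𝒜 𝒜' φ q hdeg a • τ w)
  (hτ2 : Function.Injective τ)


/-- the global additive map `C' → C`. -/
noncomputable def gAdd : C' →+ C :=
  (DirectSum.toAddMonoid (fun j : ℤ => ((𝒞 (j * q)).subtype).comp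
    (Gmap 𝒜 hpos h0 m hmsp 𝓔 e he 𝒞 ℋ Φ hΦ q hq 𝒜' φ hφ hdeg 𝓔' 𝒞' ℋ' Φ' hΦ' Θ hΘ1 hΘ2 τ hτ1
      j))).comp (DirectSum.decomposeAddEquiv 𝒞').toAddMonoidHom

theorem gAdd_of_mem (j : ℤ) (c' : C') (hc' : c' ∈ 𝒞' j) :
    gAdd 𝒜 hpos h0 m hmsp 𝓔 e he 𝒞 ℋ Φ hΦ q hq 𝒜' φ hφ hdeg 𝓔' 𝒞' ℋ' Φ' hΦ' Θ hΘ1 hΘ2 τ hτ1 c' =
      ((Gmap 𝒜 hpos h0 m hmsp 𝓔 e he 𝒞 ℋ Φ hΦ q hq 𝒜' φ hφ hdeg 𝓔' 𝒞' ℋ' Φ' hΦ' Θ hΘ1 hΘ2 τ hτ1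
        j ⟨c', hc'⟩ : comp 𝒜 𝒞 (j * q)) : C) := by
  unfold gAdd
  rw [AddMonoidHom.comp_apply]
  change DirectSum.toAddMonoid _ (DirectSum.decompose 𝒞' c') = _
  rw [DirectSum.decompose_of_mem 𝒞' hc', DirectSum.toAddMonoid_of]
  rfl

theorem gAdd_mem (j : ℤ) (c' : C') (hc' : c' ∈ 𝒞' j) :
    gAdd 𝒜 hpos h0 m hmsp 𝓔 e he 𝒞 ℋ Φ hΦ q hq 𝒜' φ hφ hdeg 𝓔' 𝒞' ℋ' Φ' hΦ' Θ hΘ1 hΘ2 τ hτ1 c' ∈ 𝒞 (j * q) := by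
  rw [gAdd_of_mem 𝒜 hpos h0 m hmsp 𝓔 e he 𝒞 ℋ Φ hΦ q hq 𝒜' φ hφ hdeg 𝓔' 𝒞' ℋ' Φ' hΦ' Θ hΘ1 hΘ2 τ hτ1 j c' hc']
  exact (Gmap 𝒜 hpos h0 m hmsp 𝓔 e he 𝒞 ℋ Φ hΦ q hq 𝒜' φ hφ hdeg 𝓔' 𝒞' ℋ' Φ' hΦ' Θ hΘ1 hΘ2 τ hτ1 j ⟨c', hc'⟩).2

theorem pair_gAdd (j : ℤ) (c' : C') (hc' : c' ∈ 𝒞' j) (h : H) (hh : h ∈ ℋ (-(j * q)))
    (hmem : Φ'.symm (Θ h) c' ∈ 𝓔' 0) :
    Φ.symm h (gAdd 𝒜 hpos h0 m hmsp 𝓔 e he 𝒞 ℋ Φ hΦ q hq 𝒜' φ hφ hdeg 𝓔' 𝒞' ℋ' Φ' hΦ' Θ hΘ1 hΘ2 τ hτ1 c') = ((τ ⟨Φ'.symm (Θ h) c', hmem⟩ : comp 𝒜 𝓔 0) : E') := by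
  rw [gAdd_of_mem 𝒜 hpos h0 m hmsp 𝓔 e he 𝒞 ℋ Φ hΦ q hq 𝒜' φ hφ hdeg 𝓔' 𝒞' ℋ' Φ' hΦ' Θ hΘ1 hΘ2 τ hτ1 j c' hc']
  have h1 := pair_Gmap 𝒜 hpos h0 m hmsp 𝓔 e he 𝒞 ℋ Φ hΦ q hq 𝒜' φ hφ hdeg 𝓔' 𝒞' ℋ' Φ' hΦ' Θ hΘ1 hΘ2 τ hτ1 j ⟨c', hc'⟩
  have h2 := LinearMap.congr_fun h1 (⟨h, hh⟩ : comp 𝒜 ℋ (-(j * q)))
  have h3 := congrArg Subtype.val h2
  rw [pairV_apply, ellMap_apply] at h3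
  exact h3

include hq in
theorem gAdd_smul_of_mem (d j : ℤ) (r' : R') (hr' : r' ∈ 𝒜' d) (c' : C') (hc' : c' ∈ 𝒞' j) :
    gAdd 𝒜 hpos h0 m hmsp 𝓔 e he 𝒞 ℋ Φ hΦ q hq 𝒜' φ hφ hdeg 𝓔' 𝒞' ℋ' Φ' hΦ' Θ hΘ1 hΘ2 τ hτ1 (r' • c') = φ r' • gAdd 𝒜 hpos h0 m hmsp 𝓔 e he 𝒞 ℋ Φ hΦ q hq 𝒜' φ hφ hdeg 𝓔' 𝒞' ℋ' Φ' hΦ' Θ hΘ1 hΘ2 τ hτ1 c' := by
  have hrc : r' • c' ∈ 𝒞' (d + j) := SetLike.GradedSMul.smul_mem hr' hc'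
  have hφr : φ r' ∈ 𝒜 (d * q) := by
    rw [← hdeg]
    exact ⟨r', hr', rfl⟩
  have hL := gAdd_mem 𝒜 hpos h0 m hmsp 𝓔 e he 𝒞 ℋ Φ hΦ q hq 𝒜' φ hφ hdeg 𝓔' 𝒞' ℋ' Φ' hΦ' Θ hΘ1 hΘ2 τ hτ1 (d + j) (r' • c') hrc
  have hR : φ r' • gAdd 𝒜 hpos h0 m hmsp 𝓔 e he 𝒞 ℋ Φ hΦ q hq 𝒜' φ hφ hdeg 𝓔' 𝒞' ℋ' Φ' hΦ' Θ hΘ1 hΘ2 τ hτ1 c' ∈ 𝒞 ((d + j) * q) := by
    have := SetLike.GradedSMul.smul_mem hφr (gAdd_mem 𝒜 hpos h0 m hmsp 𝓔 e he 𝒞 ℋ Φ hΦ q hq 𝒜' φ hφ hdeg 𝓔' 𝒞' ℋ' Φ' hΦ' Θ hΘ1 hΘ2 τ hτ1 j c' hc')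
    rw [vadd_eq_add] at this
    rwa [add_mul]
  have key := pairV_injective 𝒜 hpos h0 m hmsp 𝓔 e he 𝒞 ℋ Φ hΦ ((d + j) * q)
  have hfin : (⟨_, hL⟩ : comp 𝒜 𝒞 ((d + j) * q)) = ⟨_, hR⟩ := by
    apply key
    apply LinearMap.ext
    rintro ⟨h, hh⟩
    apply Subtype.ext
    rw [pairV_apply, pairV_apply]
    change Φ.symm h (gAdd 𝒜 hpos h0 m hmsp 𝓔 e he 𝒞 ℋ Φ hΦ q hq 𝒜' φ hφ hdeg 𝓔' 𝒞' ℋ' Φ' hΦ' Θ hΘ1 hΘ2 τ hτ1 (r' • c')) = Φ.symm h (φ r' • gAdd 𝒜 hpos h0 m hmsp 𝓔 e he 𝒞 ℋ Φ hΦ q hq 𝒜' φ hφ hdeg 𝓔' 𝒞' ℋ' Φ' hΦ' Θ hΘ1 hΘ2 τ hτ1 c')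
    have hh' : h ∈ ℋ (-((d + j) * q)) := hh
    have hΘh : Θ h ∈ ℋ' (-(d + j)) := by
      have hidx : -((d + j) * (q : ℤ)) = (-(d + j)) * q := by ring
      rw [hidx] at hh'
      have := hΘ2 _ h hh'
      rwa [fl_mul q hq] at this
    have hm1 : Φ'.symm (Θ h) (r' • c') ∈ 𝓔' 0 := pair_mem 𝒜' 𝓔' 𝒞' ℋ' Φ' hΦ' hrc hΘh
    rw [pair_gAdd 𝒜 hpos h0 m hmsp 𝓔 e he 𝒞 ℋ Φ hΦ q hq 𝒜' φ hφ hdeg 𝓔' 𝒞' ℋ' Φ' hΦ' Θ hΘ1 hΘ2 τ hτ1 (d + j) (r' • c') hrc h hh' hm1]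
    have hrhs : Φ.symm h (φ r' • gAdd 𝒜 hpos h0 m hmsp 𝓔 e he 𝒞 ℋ Φ hΦ q hq 𝒜' φ hφ hdeg 𝓔' 𝒞' ℋ' Φ' hΦ' Θ hΘ1 hΘ2 τ hτ1 c') =
        Φ.symm (φ r' • h) (gAdd 𝒜 hpos h0 m hmsp 𝓔 e he 𝒞 ℋ Φ hΦ q hq 𝒜' φ hφ hdeg 𝓔' 𝒞' ℋ' Φ' hΦ' Θ hΘ1 hΘ2 τ hτ1 c') := by
      rw [map_smul, map_smul, LinearMap.smul_apply]
    rw [hrhs]
    have hh2 : φ r' • h ∈ ℋ (-(j * q)) := by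
      have := SetLike.GradedSMul.smul_mem hφr hh'
      rw [vadd_eq_add] at this
      have hidx : d * (q : ℤ) + -((d + j) * q) = -(j * q) := by ring
      rwa [hidx] at this
    have hΘh2 : Θ (φ r' • h) ∈ ℋ' (-j) := by
      have hidx : -(j * (q : ℤ)) = (-j) * q := by ring
      rw [hidx] at hh2
      have := hΘ2 _ _ hh2
      rwa [fl_mul q hq] at this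
    have hm2 : Φ'.symm (Θ (φ r' • h)) c' ∈ 𝓔' 0 := pair_mem 𝒜' 𝓔' 𝒞' ℋ' Φ' hΦ' hc' hΘh2
    rw [pair_gAdd 𝒜 hpos h0 m hmsp 𝓔 e he 𝒞 ℋ Φ hΦ q hq 𝒜' φ hφ hdeg 𝓔' 𝒞' ℋ' Φ' hΦ' Θ hΘ1 hΘ2 τ hτ1 j c' hc' (φ r' • h) hh2 hm2]
    have hval : Φ'.symm (Θ h) (r' • c') = Φ'.symm (Θ (φ r' • h)) c' := by
      rw [hΘ1, map_smul, map_smul, LinearMap.smul_apply]
    have hsub : (⟨Φ'.symm (Θ h) (r' • c'), hm1⟩ : comp 𝒜' 𝓔' 0) =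
        ⟨Φ'.symm (Θ (φ r' • h)) c', hm2⟩ := Subtype.ext hval
    rw [hsub]
  exact congrArg Subtype.val hfin

include hq in
theorem gAdd_smul (r' : R') (c' : C') :
    gAdd 𝒜 hpos h0 m hmsp 𝓔 e he 𝒞 ℋ Φ hΦ q hq 𝒜' φ hφ hdeg 𝓔' 𝒞' ℋ' Φ' hΦ' Θ hΘ1 hΘ2 τ hτ1 (r' • c') = φ r' • gAdd 𝒜 hpos h0 m hmsp 𝓔 e he 𝒞 ℋ Φ hΦ q hq 𝒜' φ hφ hdeg 𝓔' 𝒞' ℋ' Φ' hΦ' Θ hΘ1 hΘ2 τ hτ1 c' := by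
  refine DirectSum.Decomposition.inductionOn 𝒞' ?_ ?_ ?_ c'
  · rw [smul_zero, map_zero, smul_zero]
  · intro j x
    refine DirectSum.Decomposition.inductionOn 𝒜' ?_ ?_ ?_ r'
    · rw [zero_smul, map_zero, map_zero, zero_smul]
    · intro d y
      exact gAdd_smul_of_mem 𝒜 hpos h0 m hmsp 𝓔 e he 𝒞 ℋ Φ hΦ q hq 𝒜' φ hφ hdeg 𝓔' 𝒞' ℋ' Φ' hΦ' Θ hΘ1 hΘ2 τ hτ1 d j y.1 y.2 x.1 x.2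
    · intro y y' hy hy'
      rw [add_smul, map_add, hy, hy', map_add, add_smul]
  · intro x x' hx hx'
    rw [smul_add, map_add, hx, hx', map_add, smul_add]

include hq in
theorem decompose_gAdd (c' : C') (j : ℤ) :
    (decompose 𝒞 (gAdd 𝒜 hpos h0 m hmsp 𝓔 e he 𝒞 ℋ Φ hΦ q hq 𝒜' φ hφ hdeg 𝓔' 𝒞' ℋ' Φ' hΦ' Θ hΘ1 hΘ2 τ hτ1 c') (j * q) : C) = gAdd 𝒜 hpos h0 m hmsp 𝓔 e he 𝒞 ℋ Φ hΦ q hq 𝒜' φ hφ hdeg 𝓔' 𝒞' ℋ' Φ' hΦ' Θ hΘ1 hΘ2 τ hτ1 (decompose 𝒞' c' j : C') := by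
  refine DirectSum.Decomposition.inductionOn 𝒞' ?_ ?_ ?_ c'
  · rw [map_zero, decompose_zero, decompose_zero, DirectSum.zero_apply, DirectSum.zero_apply, ZeroMemClass.coe_zero,
      ZeroMemClass.coe_zero, map_zero]
  · intro i x
    by_cases hij : i = j
    · subst hij
      rw [decompose_of_mem_same 𝒞 (gAdd_mem 𝒜 hpos h0 m hmsp 𝓔 e he 𝒞 ℋ Φ hΦ q hq 𝒜' φ hφ hdeg 𝓔' 𝒞' ℋ' Φ' hΦ' Θ hΘ1 hΘ2 τ hτ1 i x.1 x.2), decompose_of_mem_same 𝒞' x.2]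
    · have hne : i * (q : ℤ) ≠ j * q := by
        intro h
        apply hij
        have hq' : (q : ℤ) ≠ 0 := by exact_mod_cast hq.ne'
        exact mul_right_cancel₀ hq' h
      rw [decompose_of_mem_ne 𝒞 (gAdd_mem 𝒜 hpos h0 m hmsp 𝓔 e he 𝒞 ℋ Φ hΦ q hq 𝒜' φ hφ hdeg 𝓔' 𝒞' ℋ' Φ' hΦ' Θ hΘ1 hΘ2 τ hτ1 i x.1 x.2) hne, decompose_of_mem_ne 𝒞' x.2 hij,
        map_zero]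
  · intro x x' hx hx'
    rw [map_add, decompose_add, decompose_add, DirectSum.add_apply, DirectSum.add_apply, AddSubgroup.coe_add,
      AddSubgroup.coe_add, map_add, hx, hx']

include hq hpos' h0' hm'sp he' hτ2 hΘ4 in
theorem gAdd_injective : Function.Injective (gAdd 𝒜 hpos h0 m hmsp 𝓔 e he 𝒞 ℋ Φ hΦ q hq 𝒜' φ hφ hdeg 𝓔' 𝒞' ℋ' Φ' hΦ' Θ hΘ1 hΘ2 τ hτ1) := by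
  classical
  rw [injective_iff_map_eq_zero]
  intro c' hc'
  have hz : ∀ j, (decompose 𝒞' c' j : C') = 0 := by
    intro j
    have h1 := decompose_gAdd 𝒜 hpos h0 m hmsp 𝓔 e he 𝒞 ℋ Φ hΦ q hq 𝒜' φ hφ hdeg 𝓔' 𝒞' ℋ' Φ' hΦ' Θ hΘ1 hΘ2 τ hτ1 c' j
    rw [hc', decompose_zero, DirectSum.zero_apply, ZeroMemClass.coe_zero] at h1
    rw [gAdd_of_mem 𝒜 hpos h0 m hmsp 𝓔 e he 𝒞 ℋ Φ hΦ q hq 𝒜' φ hφ hdeg 𝓔' 𝒞' ℋ' Φ' hΦ' Θ hΘ1 hΘ2 τ hτ1 j _ (decompose 𝒞' c' j).2] at h1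
    have h2 : Gmap 𝒜 hpos h0 m hmsp 𝓔 e he 𝒞 ℋ Φ hΦ q hq 𝒜' φ hφ hdeg 𝓔' 𝒞' ℋ' Φ' hΦ' Θ hΘ1 hΘ2 τ hτ1 j ⟨_, (decompose 𝒞' c' j).2⟩ = 0 := Subtype.ext h1.symm
    have h3 := Gmap_injective 𝒜 hpos h0 m hmsp 𝓔 e he 𝒞 ℋ Φ hΦ q hq 𝒜' φ hφ hdeg hpos' h0' m' hm'sp
      𝓔' e' he' 𝒞' ℋ' Φ' hΦ' Θ hΘ1 hΘ2 hΘ4 τ hτ1 hτ2 j (h2.trans (map_zero _).symm)
    exact congrArg Subtype.val h3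
  rw [← DirectSum.sum_support_decompose 𝒞' c']
  exact Finset.sum_eq_zero (fun j _ => hz j)

include hq hpos' h0' hm'sp he' hτ2 hΘ3 hΘ4 in
theorem map_gAdd (j : ℤ) : (𝒞' j).map (gAdd 𝒜 hpos h0 m hmsp 𝓔 e he 𝒞 ℋ Φ hΦ q hq 𝒜' φ hφ hdeg 𝓔' 𝒞' ℋ' Φ' hΦ' Θ hΘ1 hΘ2 τ hτ1) = 𝒞 (j * q) := by
  ext c
  constructor
  · rintro ⟨c', hc', rfl⟩
    exact gAdd_mem 𝒜 hpos h0 m hmsp 𝓔 e he 𝒞 ℋ Φ hΦ q hq 𝒜' φ hφ hdeg 𝓔' 𝒞' ℋ' Φ' hΦ' Θ hΘ1 hΘ2 τ hτ1 j c' hc'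
  · intro hc
    obtain ⟨c', hc'⟩ := Gmap_surjective 𝒜 hpos h0 m hmsp 𝓔 e he 𝒞 ℋ Φ hΦ q hq 𝒜' φ hφ hdeg hpos' h0'
      m' hm'sp 𝓔' e' he' 𝒞' ℋ' Φ' hΦ' Θ hΘ1 hΘ2 hΘ3 hΘ4 τ hτ1 hτ2 j ⟨c, hc⟩
    refine ⟨c'.1, c'.2, ?_⟩
    rw [gAdd_of_mem 𝒜 hpos h0 m hmsp 𝓔 e he 𝒞 ℋ Φ hΦ q hq 𝒜' φ hφ hdeg 𝓔' 𝒞' ℋ' Φ' hΦ' Θ hΘ1 hΘ2 τ hτ1 j c'.1 c'.2]
    exact congrArg Subtype.val hc'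

include hpos h0 hmsp he hΦ hq hφ hdeg hpos' h0' hm'sp he' hΦ' hΘ1 hΘ2 hΘ3 hΘ4 hτ1 hτ2 in
/-- **the semilinear comparison of duals.** -/
theorem exists_semilinear : ∃ g : C' →ₛₗ[φ] C, Function.Injective g ∧
    ∀ j : ℤ, (𝒞' j).map (g : C' →+ C) = 𝒞 (j * q) := by
  let g : C' →ₛₗ[φ] C :=
    { toFun := gAdd 𝒜 hpos h0 m hmsp 𝓔 e he 𝒞 ℋ Φ hΦ q hq 𝒜' φ hφ hdeg 𝓔' 𝒞' ℋ' Φ' hΦ' Θ hΘ1 hΘ2 τ hτ1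
      map_add' := map_add _
      map_smul' := gAdd_smul 𝒜 hpos h0 m hmsp 𝓔 e he 𝒞 ℋ Φ hΦ q hq 𝒜' φ hφ hdeg 𝓔' 𝒞' ℋ' Φ' hΦ' Θ hΘ1 hΘ2 τ hτ1 }
  refine ⟨g, ?_, ?_⟩
  · exact gAdd_injective 𝒜 hpos h0 m hmsp 𝓔 e he 𝒞 ℋ Φ hΦ q hq 𝒜' φ hφ hdeg hpos' h0' m' hm'sp
      𝓔' e' he' 𝒞' ℋ' Φ' hΦ' Θ hΘ1 hΘ2 hΘ4 τ hτ1 hτ2
  · intro j
    rw [← map_gAdd 𝒜 hpos h0 m hmsp 𝓔 e he 𝒞 ℋ Φ hΦ q hq 𝒜' φ hφ hdeg hpos' h0' m' hm'sp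
      𝓔' e' he' 𝒞' ℋ' Φ' hΦ' Θ hΘ1 hΘ2 hΘ3 hΘ4 τ hτ1 hτ2 j]
    rfl

end main

end Groth.Agent.Lib.Helper20.GrDualVer2
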