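import Mathlib
import Groth.Prelude.Def_GrLC
import Groth.Agent.Lib.Helper20.GrVeronese

/-!
# Graded local cohomology and Veronese subrings: the comparison map (helper20)
-/

set_option autoImplicit false
set_option linter.unusedSectionVars false
set_option linter.unusedVariables false

universe u

open CategoryTheory GrLC Groth.Agent.Lib.Helper4.LC Groth.Agent.Lib.Helper20.GrLCBasic
  Groth.Agent.Lib.Helper20.ResCmp Groth.Agent.Lib.Helper20.GrRes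
  Groth.Agent.Lib.Helper20.ResRestrict Groth.Agent.Lib.Helper20.GrCoarseF
  Groth.Agent.Lib.Helper20.GrCoarse Groth.Agent.Lib.Helper20.GrVeronese

namespace Groth.Agent.Lib.Helper20.GrVeronese2

section main

variable {R R' : Type u} [CommRing R] [IsNoetherianRing R] [CommRing R']
  (𝒜 : ℤ → AddSubgroup R) [GradedRing 𝒜]
  (𝒜' : ℤ → AddSubgroup R') [GradedRing 𝒜'] (φ : R' →+* R) (hφ : Function.Injective φ)
  (q : ℕ) (hq : 0 < q)
  (hdeg : ∀ j : ℤ, (𝒜' j).map (φ : R' →+ R) = 𝒜 (j * q))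
  (m : HomogeneousIdeal 𝒜)
  (hmsp : m.toIdeal = Ideal.span (⋃ n ∈ Set.Ioi (0 : ℤ), (𝒜 n : Set R)))
  (m' : HomogeneousIdeal 𝒜')
  (hm'sp : m'.toIdeal = Ideal.span (⋃ j ∈ Set.Ioi (0 : ℤ), (𝒜' j : Set R')))
  {M : Type u} [AddCommGroup M] [Module R M] (ℳ : ℤ → AddSubgroup M)
  [DirectSum.Decomposition ℳ] [SetLike.GradedSMul 𝒜 ℳ] (E : StarInjRes 𝒜 ℳ)
  {M' : Type u} [AddCommGroup M'] [Module R' M'] (ℳ' : ℤ → AddSubgroup M')
  [DirectSum.Decomposition ℳ'] [SetLike.GradedSMul 𝒜' ℳ']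
  (g : M' →ₛₗ[φ] M) (hg : Function.Injective g)
  (hgdeg : ∀ j : ℤ, (ℳ' j).map (g : M' →+ M) = ℳ (j * q))
  (F : StarInjRes 𝒜' ℳ') (p : ℕ)


include hφ hq hg hgdeg in
set_option linter.style.haveILetI false in
set_option maxHeartbeats 1000000 in
/-- the comparison map from `H^p_{m'R}(M)` to `H^p_{m'}(M')`. -/
theorem exists_veronese_map_aV :
    ∃ Θ : E.H (aV 𝒜 𝒜' φ q hdeg m' hm'sp) p →+ F.H m' p,
      (∀ (r : R') (x : E.H (aV 𝒜 𝒜' φ q hdeg m' hm'sp) p), Θ (φ r • x) = r • Θ x) ∧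
      (∀ (n : ℤ) (x : E.H (aV 𝒜 𝒜' φ q hdeg m' hm'sp) p),
        x ∈ E.Hgr (aV 𝒜 𝒜' φ q hdeg m' hm'sp) p n → Θ x ∈ F.Hgr m' p (fl q n)) ∧
      (∀ (j : ℤ) (x : E.H (aV 𝒜 𝒜' φ q hdeg m' hm'sp) p),
        x ∈ E.Hgr (aV 𝒜 𝒜' φ q hdeg m' hm'sp) p (j * q) → Θ x = 0 → x = 0) ∧
      (∀ (j : ℤ) (y : F.H m' p), y ∈ F.Hgr m' p j →
        ∃ x ∈ E.Hgr (aV 𝒜 𝒜' φ q hdeg m' hm'sp) p (j * q), Θ x = y) := by
  letI : Algebra R' R := φ.toAlgebra
  haveI : IsNoetherianRing R' := isNoetherianRing_veronese 𝒜 𝒜' φ q hdeg hφ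
  letI : Module R' M := Module.compHom M φ
  have hsm : ∀ (r : R') (x : M), r • x = φ r • x := fun _ _ => rfl
  haveI : IsScalarTower R' R M := IsScalarTower.of_algebraMap_smul (fun r x => rfl)
  let aV' := aV 𝒜 𝒜' φ q hdeg m' hm'sp
  have hJ : m'.toIdeal.map (algebraMap R' R) = aV'.toIdeal := rfl
  let Er := toRes E aV'
  letI instX : ∀ n, Module R' (E.X n).carrier := fun n => Module.compHom (E.X n).carrier φ
  letI : ∀ n, Module R' (Er.X n) := instX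
  haveI instT : ∀ n, IsScalarTower R' R (E.X n).carrier := fun n =>
    IsScalarTower.of_algebraMap_smul (fun r x => rfl)
  haveI : ∀ n, IsScalarTower R' R (Er.X n) := instT
  let Er0 := restrict m'.toIdeal hJ Er
  let π := retr 𝒜 𝒜' φ q hdeg ℳ hsm ℳ' g hg hgdeg
  let incl := gL φ hsm g
  have hpi : ∀ x, π (incl x) = x := retr_g 𝒜 𝒜' φ q hdeg ℳ hsm ℳ' g hg hgdeg
  -- the idempotent chain map
  let c : ResHom Er0 Er0 (incl ∘ₗ π) :=
    { φ := fun j => (vprojL 𝒜 𝒜' φ q hdeg (E.X j).gr (fun _ _ => rfl) :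
        (E.X j).carrier →ₗ[R'] (E.X j).carrier)
      comm_ε := fun x => by
        change vproj (E.X 0).gr q (E.ε x) = E.ε (g (π x))
        rw [g_retr]
        exact vproj_map ℳ q (E.X 0).gr E.ε.toAddMonoidHom E.ε_grHom x
      comm_d := fun j x =>
        vproj_map (E.X j).gr q (E.X (j + 1)).gr (E.d j).toAddMonoidHom (E.d_grHom j) x }
  -- the lift of the retraction
  letI decW := coFDecomposition (fl q) ℳ
  haveI gsW : SetLike.GradedSMul 𝒜' (coF (fl q) ℳ) := coF_gradedSMul 𝒜 𝒜' φ q hq hdeg ℳ hsm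
  obtain ⟨l⟩ := exists_exLift (WE 𝒜 𝒜' φ q hq hdeg ℳ hsm E) (toCx F) (F.ε ∘ₗ π)
    (fun j x hx => F.ε_grHom j _ (retr_isGrHom 𝒜 𝒜' φ q hq hdeg ℳ hsm ℳ' g hg hgdeg j x hx))
    (fun x => by
      have : F.ε (π x) ∈ LinearMap.ker (F.d 0) := by
        rw [F.exact_zero]
        exact LinearMap.mem_range_self _ _
      exact this)
  let c' : ResHom Er0 (toRes F m') π :=
    { φ := l.φ
      comm_ε := l.comm_ε
      comm_d := l.comm_d }
  let rHe : Er0.H p ≃ₗ[R'] E.H aV' p :=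
    LinearEquiv.ofBijective (restrictH m'.toIdeal hJ Er p) (restrictH_bijective m'.toIdeal hJ Er p)
  let Θ : E.H aV' p →ₗ[R'] F.H m' p := (c'.Hmap p) ∘ₗ rHe.symm.toLinearMap
  let C : E.H aV' p →ₗ[R'] E.H aV' p := rHe.toLinearMap ∘ₗ (c.Hmap p) ∘ₗ rHe.symm.toLinearMap
  -- computation on classes
  have hsymm : ∀ (z : E.cocyc aV' p), rHe.symm (E.toH aV' p z) =
      Er0.toH p ⟨z.1, (mem_cocyc_iff m'.toIdeal hJ Er p z.1).2 z.2⟩ := by
    intro z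
    exact (LinearEquiv.symm_apply_eq rHe).2 rfl
  have hΘ : ∀ (z : E.cocyc aV' p), ∃ hz : l.φ p z.1 ∈ F.cocyc m' p,
      Θ (E.toH aV' p z) = F.toH m' p ⟨l.φ p z.1, hz⟩ := by
    intro z
    refine ⟨(c'.cocycMap p ⟨z.1, (mem_cocyc_iff m'.toIdeal hJ Er p z.1).2 z.2⟩).2, ?_⟩
    change c'.Hmap p (rHe.symm (E.toH aV' p z)) = _
    rw [hsymm]
    rfl
  have hC : ∀ (z : E.cocyc aV' p), ∃ hz : vproj (E.X p).gr q z.1 ∈ E.cocyc aV' p,
      C (E.toH aV' p z) = E.toH aV' p ⟨vproj (E.X p).gr q z.1, hz⟩ := by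
    intro z
    refine ⟨(restrictCocyc m'.toIdeal hJ Er p
      (c.cocycMap p ⟨z.1, (mem_cocyc_iff m'.toIdeal hJ Er p z.1).2 z.2⟩)).2, ?_⟩
    change rHe (c.Hmap p (rHe.symm (E.toH aV' p z))) = _
    rw [hsymm]
    rfl
  have hΘC : ∀ x, Θ (C x) = Θ x := by
    intro x
    change c'.Hmap p (rHe.symm (rHe (c.Hmap p (rHe.symm x)))) = c'.Hmap p (rHe.symm x)
    rw [LinearEquiv.symm_apply_apply]
    exact Hmap_comp_Hmap incl π hpi Er0 c (toRes F m') c' p _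
  -- gradings
  letI decE := Groth.Agent.Lib.Helper20.GrLES2.decH E aV' p
  letI decF := Groth.Agent.Lib.Helper20.GrLES2.decH F m' p
  letI decEc := coFDecomposition (fl q) (E.Hgr aV' p)
  have hΘgr : IsGrHom (coF (fl q) (E.Hgr aV' p)) (F.Hgr m' p) Θ := by
    intro j' x hx
    refine coF_induction (fl q) (E.Hgr aV' p) (p := fun x => Θ x ∈ F.Hgr m' p j') hx ?_ ?_ ?_
    · rintro n hn _ ⟨z, hz, rfl⟩
      obtain ⟨hz', hΘz⟩ := hΘ z
      rw [hΘz]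
      exact ⟨⟨l.φ p z.1, hz'⟩, l.deg p j' _ (le_coF' (fl q) (E.X p).gr hn hz), rfl⟩
    · rw [map_zero]
      exact zero_mem _
    · intro y z hy hz
      rw [map_add]
      exact add_mem hy hz
  have hCgr : ∀ (j : ℤ), ∀ u ∈ coF (fl q) (E.Hgr aV' p) j, C u ∈ E.Hgr aV' p (j * q) := by
    intro j u hu
    refine coF_induction (fl q) (E.Hgr aV' p) (p := fun u => C u ∈ E.Hgr aV' p (j * q)) hu
      ?_ ?_ ?_
    · rintro n hn _ ⟨z, hz, rfl⟩
      obtain ⟨hz', hCz⟩ := hC z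
      rw [hCz]
      refine ⟨⟨_, hz'⟩, ?_, rfl⟩
      change vproj (E.X p).gr q z.1 ∈ (E.X p).gr (j * q)
      by_cases hd : (q : ℤ) ∣ n
      · rw [vproj_of_mem_dvd _ q hz hd]
        obtain ⟨c0, rfl⟩ := hd
        have hjc : j = c0 := by
          rw [← hn, mul_comm, fl_mul q hq]
        rw [hjc, mul_comm]
        exact hz
      · rw [vproj_of_mem_not_dvd _ q hz hd]
        exact zero_mem _
    · rw [map_zero]
      exact zero_mem _
    · intro y z hy hz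
      rw [map_add]
      exact add_mem hy hz
  have hS : ∀ (j : ℤ), ∀ y' ∈ F.Hgr m' p j, ∃ x ∈ E.Hgr aV' p (j * q), Θ x = y' := by
    intro j y' hy'
    obtain ⟨x0, hx0⟩ := Hmap_surjective incl π hpi Er0 (toRes F m') c' p y'
    have hx : Θ (rHe x0) = y' := by
      change c'.Hmap p (rHe.symm (rHe x0)) = y'
      rw [LinearEquiv.symm_apply_apply, hx0]
    have h1 := decompose_map (coF (fl q) (E.Hgr aV' p)) (F.Hgr m' p) Θ hΘgr (rHe x0) j
    rw [hx, DirectSum.decompose_of_mem_same _ hy'] at h1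
    refine ⟨C _, hCgr j _ (SetLike.coe_mem (DirectSum.decompose (coF (fl q) (E.Hgr aV' p))
      (rHe x0) j)), ?_⟩
    rw [hΘC]
    exact h1.symm
  have hI : ∀ (j : ℤ), ∀ x ∈ E.Hgr aV' p (j * q), Θ x = 0 → x = 0 := by
    rintro j _ ⟨z, hz, rfl⟩ h0
    have h1 : rHe.symm (E.toH aV' p z) ∈ LinearMap.range (c.Hmap p) := by
      refine ⟨rHe.symm (E.toH aV' p z), ?_⟩
      rw [hsymm]
      change Er0.toH p (c.cocycMap p _) = _
      congr 1
      apply Subtype.ext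
      exact vproj_of_mem_dvd (E.X p).gr q hz (dvd_mul_left _ _)
    have h2 := Hmap_injOn_range incl π hpi Er0 c (toRes F m') c' p _ h1 h0
    have h3 := congrArg rHe h2
    rwa [LinearEquiv.apply_symm_apply, map_zero] at h3
  refine ⟨Θ.toAddMonoidHom, ?_, ?_, ?_, ?_⟩
  · intro r x
    change Θ (φ r • x) = r • Θ x
    rw [← map_smul]
    rfl
  · intro n x hx
    exact hΘgr (fl q n) x (le_coF' (fl q) (E.Hgr aV' p) rfl hx)
  · intro j x hx h0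
    exact hI j x hx h0
  · intro j y hy
    exact hS j y hy

end main

section final

variable {R R' : Type u} [CommRing R] [IsNoetherianRing R] [CommRing R']
  (𝒜 : ℤ → AddSubgroup R) [GradedRing 𝒜]
  (𝒜' : ℤ → AddSubgroup R') [GradedRing 𝒜'] (φ : R' →+* R) (hφ : Function.Injective φ)
  (q : ℕ) (hq : 0 < q)
  (hdeg : ∀ j : ℤ, (𝒜' j).map (φ : R' →+ R) = 𝒜 (j * q))
  (m : HomogeneousIdeal 𝒜)
  (hmsp : m.toIdeal = Ideal.span (⋃ n ∈ Set.Ioi (0 : ℤ), (𝒜 n : Set R)))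
  (m' : HomogeneousIdeal 𝒜')
  (hm'sp : m'.toIdeal = Ideal.span (⋃ j ∈ Set.Ioi (0 : ℤ), (𝒜' j : Set R')))
  {M : Type u} [AddCommGroup M] [Module R M] (ℳ : ℤ → AddSubgroup M)
  [DirectSum.Decomposition ℳ] [SetLike.GradedSMul 𝒜 ℳ] (E : StarInjRes 𝒜 ℳ)
  {M' : Type u} [AddCommGroup M'] [Module R' M'] (ℳ' : ℤ → AddSubgroup M')
  [DirectSum.Decomposition ℳ'] [SetLike.GradedSMul 𝒜' ℳ']
  (g : M' →ₛₗ[φ] M) (hg : Function.Injective g)
  (hgdeg : ∀ j : ℤ, (ℳ' j).map (g : M' →+ M) = ℳ (j * q))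
  (F : StarInjRes 𝒜' ℳ') (p : ℕ)

include hφ hq hdeg hmsp hm'sp hg hgdeg in
/-- **the comparison map from `H^p_m(M)` to `H^p_{m'}(M^{(q)})`**: semilinear, carrying degree `n`
to degree `⌊n/q⌋`, and bijective from degree `jq` to degree `j`. -/
theorem exists_veronese_map :
    ∃ Θ : E.H m p →+ F.H m' p,
      (∀ (r : R') (x : E.H m p), Θ (φ r • x) = r • Θ x) ∧
      (∀ (n : ℤ) (x : E.H m p), x ∈ E.Hgr m p n → Θ x ∈ F.Hgr m' p (fl q n)) ∧
      (∀ (j : ℤ) (x : E.H m p), x ∈ E.Hgr m p (j * q) → Θ x = 0 → x = 0) ∧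
      (∀ (j : ℤ) (y : F.H m' p), y ∈ F.Hgr m' p j → ∃ x ∈ E.Hgr m p (j * q), Θ x = y) := by
  obtain ⟨Θ, h1, h2, h3, h4⟩ := exists_veronese_map_aV 𝒜 𝒜' φ hφ q hq hdeg m' hm'sp ℳ E ℳ' g hg
    hgdeg F p
  have hgam := fun n => gam_aV_eq 𝒜 𝒜' φ q hq hdeg m hmsp m' hm'sp (E.X n).carrier
  let e := sameGamEquiv E m (aV 𝒜 𝒜' φ q hdeg m' hm'sp) hgam p
  have he : ∀ (n : ℤ) (x : E.H m p), x ∈ E.Hgr m p n →
      e x ∈ E.Hgr (aV 𝒜 𝒜' φ q hdeg m' hm'sp) p n := by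
    rintro n _ ⟨z, hz, rfl⟩
    exact ⟨⟨z.1, by rw [← cocyc_eq E m _ hgam p]; exact z.2⟩, hz, rfl⟩
  have he' : ∀ (n : ℤ) (y : E.H (aV 𝒜 𝒜' φ q hdeg m' hm'sp) p),
      y ∈ E.Hgr (aV 𝒜 𝒜' φ q hdeg m' hm'sp) p n → e.symm y ∈ E.Hgr m p n := by
    rintro n _ ⟨z, hz, rfl⟩
    refine ⟨⟨z.1, by rw [cocyc_eq E m _ hgam p]; exact z.2⟩, hz, ?_⟩
    apply e.injective
    rw [LinearEquiv.apply_symm_apply]
    rfl
  refine ⟨Θ.comp e.toLinearMap.toAddMonoidHom, ?_, ?_, ?_, ?_⟩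
  · intro r x
    change Θ (e (φ r • x)) = r • Θ (e x)
    rw [map_smul, h1]
  · intro n x hx
    exact h2 n _ (he n x hx)
  · intro j x hx h0
    have := h3 j _ (he _ x hx) h0
    exact e.injective (this.trans (map_zero e).symm)
  · intro j y hy
    obtain ⟨x, hx, hxy⟩ := h4 j y hy
    refine ⟨e.symm x, he' _ x hx, ?_⟩
    change Θ (e (e.symm x)) = y
    rw [LinearEquiv.apply_symm_apply, hxy]

end final

end Groth.Agent.Lib.Helper20.GrVeronese2
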