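import Mathlib
import Groth.Prelude.Def_GrLC
import Groth.Agent.Lib.Helper20.GrVeronese2
import Groth.Agent.Lib.Helper20.GrVerRing
import Groth.Agent.Lib.Helper20.GrGorTop
import Groth.Agent.Lib.Helper20.GorBassNum
import Groth.Agent.Lib.Helper20.GrMinRes
import Groth.Agent.Lib.Helper20.GrHullDual2
import Groth.Agent.Lib.Helper20.GrAinv
import Groth.Agent.S13244

/-!
# Top local cohomology of a Veronese subring of a Gorenstein graded ring (helper20)
-/

set_option autoImplicit false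
set_option linter.unusedSectionVars false
set_option linter.unusedVariables false
set_option linter.style.haveILetI false

universe u

open DirectSum GrLC Groth.Agent.Lib.Helper20.GrLCBasic Groth.Agent.Lib.Helper20.GrLCQuot
  Groth.Agent.Lib.Helper20.GrVeronese Groth.Agent.Lib.Helper20.GrVeronese2
  Groth.Agent.Lib.Helper20.GrVerRing Groth.Agent.Lib.Helper20.GrGorTop
  Groth.Agent.Lib.Helper20.GrStarLocalBass Groth.Agent.Lib.Helper20.GrFieldLocal
  Groth.Agent.Lib.Helper20.GrHullDual Groth.Agent.Lib.Helper20.GrCanonShift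

namespace Groth.Agent.Lib.Helper20.GrVerTop

section vanish

variable {ι : Type} [AddCommGroup ι] [DecidableEq ι] [Module.Free ℤ ι] [Module.Finite ℤ ι]
  (R : Type u) [CommRing R] [LocCoh.IsGorensteinRing R] (𝒜 : ι → AddSubgroup R) [GradedRing 𝒜]
  (m : HomogeneousIdeal 𝒜) (hm : GrLC.IsStarLocal 𝒜 m) (n : ℕ) (hn : m.toIdeal.height = n)
  (I : GrLC.StarInjRes 𝒜 𝒜)

include hm hn in
/-- graded local cohomology of a Gorenstein `*`local ring vanishes outside degree `ht m`. -/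
theorem subsingleton_H_of_ne (p : ℕ) (hp : p ≠ n) : Subsingleton (I.H m p) := by
  haveI hmp : m.toIdeal.IsPrime := isPrime_of_isCoatom 𝒜 m hm.1
  obtain ⟨E, hmin0, hmin⟩ := Groth.Agent.Lib.Helper20.GrMinRes.exists_minimal 𝒜 𝒜
  have hb : GrLC.bassNum m.toIdeal (E.X p).carrier 0 = GrLC.bassNum m.toIdeal R p :=
    bassNum_X_zero 𝒜 E hmin0 hmin m.toIdeal m.isHomogeneous p
  have hgam : GrLC.gam m.toIdeal (E.X p).carrier = ⊥ :=
    gam_eq_bot_of_bassNum 𝒜 m hm (E.X p) (by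
      rw [hb]
      exact Groth.Agent.Lib.Helper20.GorBassNum.bassNum_eq_zero R m.toIdeal n hn p hp)
  obtain ⟨θ, -⟩ := exists_equiv_of_res 𝒜 𝒜 m I E p
  have hE : Subsingleton (E.H m p) := by
    have hz : ∀ x : E.H m p, x = 0 := by
      intro x
      obtain ⟨⟨z, hz⟩, rfl⟩ := Submodule.Quotient.mk_surjective _ x
      have hz0 : z = 0 := by
        have : z ∈ GrLC.gam m.toIdeal (E.X p).carrier := hz.1
        rw [hgam] at this
        exact this
      subst hz0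
      exact (Submodule.Quotient.mk_eq_zero _).2 (zero_mem _)
    exact ⟨fun x y => (hz x).trans (hz y).symm⟩
  exact θ.toEquiv.subsingleton

end vanish

section main

variable (R : Type u) [CommRing R] [LocCoh.IsGorensteinRing R] (𝒜 : ℤ → AddSubgroup R)
  [GradedRing 𝒜] (hpos : ∀ n : ℤ, n < 0 → 𝒜 n = ⊥) (h0 : IsField (GrLC.deg0 𝒜))
  (m : HomogeneousIdeal 𝒜) (hm : GrLC.IsStarLocal 𝒜 m)
  (hmsp : m.toIdeal = Ideal.span (⋃ n ∈ Set.Ioi (0 : ℤ), (𝒜 n : Set R)))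
  (n : ℕ) (hn : m.toIdeal.height = n) (I : GrLC.StarInjRes 𝒜 𝒜)
  {E' : Type u} [AddCommGroup E'] [Module R E'] (𝓔 : ℤ → AddSubgroup E')
  [DirectSum.Decomposition 𝓔] [SetLike.GradedSMul 𝒜 𝓔]
  (e : (R ⧸ m.toIdeal) →ₗ[R] E') (he : IsStarInjHull 𝒜 (quotGr 𝒜 m) 𝓔 e)
  (q : ℕ) (hq : 0 < q) {R' : Type u} [CommRing R'] (𝒜' : ℤ → AddSubgroup R') [GradedRing 𝒜']
  (φ : R' →+* R) (hφ : Function.Injective φ)
  (hdeg : ∀ j : ℤ, (𝒜' j).map (φ : R' →+ R) = 𝒜 (j * q))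
  (m' : HomogeneousIdeal 𝒜')
  (hm'sp : m'.toIdeal = Ideal.span (⋃ j ∈ Set.Ioi (0 : ℤ), (𝒜' j : Set R')))
  (F : GrLC.StarInjRes 𝒜' 𝒜')

/-- `φ` as a semilinear map. -/
def φL : R' →ₛₗ[φ] R where
  toFun := φ
  map_add' := map_add φ
  map_smul' r x := map_mul φ r x

include hφ hq hdeg hmsp hm'sp hm hn I in
/-- graded local cohomology of a Veronese subring of a Gorenstein ring vanishes outside degree
`n`. -/
theorem subsingleton_H_veronese (p : ℕ) (hp : p ≠ n) : Subsingleton (F.H m' p) := by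
  classical
  haveI : IsNoetherianRing R := inferInstance
  haveI := subsingleton_H_of_ne R 𝒜 m hm n hn I p hp
  obtain ⟨Θ, -, -, -, h4⟩ := exists_veronese_map 𝒜 𝒜' φ hφ q hq hdeg m hmsp m' hm'sp 𝒜 I 𝒜'
    (φL R φ) hφ hdeg F p
  letI := Groth.Agent.Lib.Helper20.GrLES2.decH F m' p
  have hz : ∀ y : F.H m' p, y = 0 := by
    intro y
    rw [← DirectSum.sum_support_decompose (F.Hgr m' p) y]
    apply Finset.sum_eq_zero
    intro j _
    obtain ⟨x, -, hx⟩ := h4 j _ (SetLike.coe_mem (decompose (F.Hgr m' p) y j))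
    rw [← hx, Subsingleton.elim x 0, map_zero]
  exact ⟨fun x y => (hz x).trans (hz y).symm⟩

include hpos h0 hφ hq hdeg hmsp hm'sp hm hn he in
/-- **the comparison between the `*`injective envelope of the residue field of `R` and the top
graded local cohomology of the Veronese subring.** -/
theorem exists_hull_comparison :
    ∃ (g₀ : ℤ) (Ψ : E' →+ F.H m' n),
      endDeg (I.Hgr m n) = (((-g₀ : ℤ) : WithTop ℤ) : WithBot (WithTop ℤ)) ∧
      (∀ (r : R') (y : E'), Ψ (φ r • y) = r • Ψ y) ∧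
      (∀ (j : ℤ) (y : E'), y ∈ 𝓔 (j * q + g₀) → Ψ y ∈ F.Hgr m' n j) ∧
      (∀ (j : ℤ) (y : E'), y ∈ 𝓔 (j * q + g₀) → Ψ y = 0 → y = 0) ∧
      (∀ (j : ℤ) (x : F.H m' n), x ∈ F.Hgr m' n j → ∃ y ∈ 𝓔 (j * q + g₀), Ψ y = x) := by
  classical
  haveI : IsNoetherianRing R := inferInstance
  obtain ⟨g₀, φ₀, hφ₀⟩ := Groth.Agent.S13244.result R 𝒜 m hm n hn I E' 𝓔 e he
  obtain ⟨Θ, h1, h2, h3, h4⟩ := exists_veronese_map 𝒜 𝒜' φ hφ q hq hdeg m hmsp m' hm'sp 𝒜 I 𝒜'
    (φL R φ) hφ hdeg F n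
  letI := Groth.Agent.Lib.Helper20.GrLES2.decH I m n
  have hgr : IsGrHom (I.Hgr m n) (shiftGr 𝓔 g₀) φ₀.toLinearMap := fun j x hx => hφ₀ j x hx
  have hsymm : ∀ (i : ℤ) (y : E'), y ∈ 𝓔 (i + g₀) → φ₀.symm y ∈ I.Hgr m n i := by
    intro i y hy
    refine mem_of_map_mem (I.Hgr m n) (shiftGr 𝓔 g₀) φ₀.toLinearMap hgr φ₀.injective ?_
    change φ₀ (φ₀.symm y) ∈ 𝓔 (i + g₀)
    rw [φ₀.apply_symm_apply]
    exact hy
  have hmne : m.toIdeal ≠ ⊤ := ne_top 𝒜 hpos h0 m hmsp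
  have hmpos : ∀ n : ℤ, 0 < n → ∀ x ∈ 𝒜 n, x ∈ m.toIdeal :=
    fun n hn x hx => mem_of_pos 𝒜 m hmsp hn hx
  refine ⟨g₀, Θ.comp φ₀.symm.toLinearMap.toAddMonoidHom, ?_, ?_, ?_, ?_, ?_⟩
  · -- the a-invariant
    apply le_antisymm
    · rw [Groth.Agent.Lib.Helper20.GrReg1.endDeg_le_iff]
      intro d hd
      by_contra hne
      obtain ⟨y, hy, hy0⟩ := Groth.Agent.Lib.Helper20.GrAinv.exists_ne_zero_of_ne_bot hne
      have h5 := hφ₀ d y hy
      rw [hull_eq_bot_of_pos 𝒜 hpos m hmpos 𝓔 e he (d + g₀) (by omega)] at h5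
      apply hy0
      apply φ₀.injective
      rw [map_zero]
      exact h5
    · apply Groth.Agent.Lib.Helper20.GrLES2.le_endDeg
      have h6 : e 1 ∈ 𝓔 (-g₀ + g₀) := by
        rw [neg_add_cancel]
        exact range_le_zero' 𝒜 hpos m hmsp 𝓔 e he 1
      have h7 := hsymm (-g₀) (e 1) h6
      refine Groth.Agent.Lib.Helper20.GrAinv.ne_bot_of_mem h7 ?_
      intro h8
      have h9 : e 1 = 0 := by
        have := congrArg φ₀ h8
        rwa [φ₀.apply_symm_apply, map_zero] at this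
      have h10 : (1 : R ⧸ m.toIdeal) = 0 := he.injective (by rw [h9, map_zero])
      have h11 : Ideal.Quotient.mk m.toIdeal 1 = 0 := h10
      rw [Ideal.Quotient.eq_zero_iff_mem] at h11
      exact hmne ((Ideal.eq_top_iff_one _).2 h11)
  · intro r y
    change Θ (φ₀.symm (φ r • y)) = r • Θ (φ₀.symm y)
    rw [map_smul, h1]
  · intro j y hy
    have := h2 (j * q) _ (hsymm (j * q) y hy)
    rwa [fl_mul q hq] at this
  · intro j y hy hy0
    have := h3 j _ (hsymm (j * q) y hy) hy0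
    have h5 := congrArg φ₀ this
    rwa [φ₀.apply_symm_apply, map_zero] at h5
  · intro j x hx
    obtain ⟨z, hz, hzx⟩ := h4 j x hx
    refine ⟨φ₀ z, hφ₀ _ z hz, ?_⟩
    change Θ (φ₀.symm (φ₀ z)) = x
    rw [φ₀.symm_apply_apply, hzx]

end main

end Groth.Agent.Lib.Helper20.GrVerTop
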