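import Mathlib
import Groth.Prelude.Def_GrLC
import Groth.Agent.Lib.Helper20.GrDualVer2
import Groth.Agent.Lib.Helper20.GrVerTop

/-!
# The canonical module of a Veronese subring (helper20)

`K_{R^{(q)}} = (K_R)^{(q)}`.
-/

set_option autoImplicit false
set_option linter.unusedSectionVars false
set_option linter.unusedVariables false
set_option linter.style.haveILetI false

universe u

open DirectSum GrLC Groth.Agent.Lib.Helper20.GrLCBasic Groth.Agent.Lib.Helper20.GrLCQuot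
  Groth.Agent.Lib.Helper20.GrFieldLocal Groth.Agent.Lib.Helper20.GrHullDual
  Groth.Agent.Lib.Helper20.GrVeronese Groth.Agent.Lib.Helper20.GrVerRing
  Groth.Agent.Lib.Helper20.GrDual Groth.Agent.Lib.Helper20.GrDualVer
  Groth.Agent.Lib.Helper20.GrDualVer2 Groth.Agent.Lib.Helper20.GrVeronese2
  Groth.Agent.Lib.Helper20.GrVerTop

namespace Groth.Agent.Lib.Helper20.GrDualVer3

theorem exists_semilinear_veronese (R : Type u) [CommRing R] [IsNoetherianRing R]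
    (𝒜 : ℤ → AddSubgroup R) [GradedRing 𝒜] (hpos : ∀ n : ℤ, n < 0 → 𝒜 n = ⊥)
    (h0 : IsField (GrLC.deg0 𝒜)) (m : HomogeneousIdeal 𝒜)
    (hmsp : m.toIdeal = Ideal.span (⋃ n ∈ Set.Ioi (0 : ℤ), (𝒜 n : Set R))) (n : ℕ)
    (I : GrLC.StarInjRes 𝒜 𝒜) (E' : Type u) [AddCommGroup E']
    [Module R E'] (𝓔 : ℤ → AddSubgroup E') [DirectSum.Decomposition 𝓔] [SetLike.GradedSMul 𝒜 𝓔]
    (e : (R ⧸ m.toIdeal) →ₗ[R] E') (he : GrLC.IsStarInjHull 𝒜 (GrLC.quotGr 𝒜 m) 𝓔 e)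
    (C : Type u) [AddCommGroup C] [Module R C] (𝒞 : ℤ → AddSubgroup C)
    [DirectSum.Decomposition 𝒞] [SetLike.GradedSMul 𝒜 𝒞]
    (hC : GrLC.IsStarCanonical 𝒜 𝒞 𝓔 m n I) (q : ℕ) (hq : 0 < q) (R' : Type u) [CommRing R']
    (𝒜' : ℤ → AddSubgroup R') [GradedRing 𝒜'] (φ : R' →+* R) (hφ : Function.Injective φ)
    (hdeg : ∀ j : ℤ, (𝒜' j).map (φ : R' →+ R) = 𝒜 (j * q)) (m' : HomogeneousIdeal 𝒜')
    (hm'sp : m'.toIdeal = Ideal.span (⋃ j ∈ Set.Ioi (0 : ℤ), (𝒜' j : Set R')))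
    (I' : GrLC.StarInjRes 𝒜' 𝒜') (E'' : Type u) [AddCommGroup E''] [Module R' E'']
    (𝓔'' : ℤ → AddSubgroup E'') [DirectSum.Decomposition 𝓔''] [SetLike.GradedSMul 𝒜' 𝓔'']
    (e' : (R' ⧸ m'.toIdeal) →ₗ[R'] E'')
    (he' : GrLC.IsStarInjHull 𝒜' (GrLC.quotGr 𝒜' m') 𝓔'' e') (C' : Type u) [AddCommGroup C']
    [Module R' C'] (𝒞' : ℤ → AddSubgroup C') [DirectSum.Decomposition 𝒞']
    [SetLike.GradedSMul 𝒜' 𝒞'] (hC' : GrLC.IsStarCanonical 𝒜' 𝒞' 𝓔'' m' n I') :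
    ∃ g : C' →ₛₗ[φ] C, Function.Injective g ∧
      ∀ j : ℤ, (𝒞' j).map (g : C' →+ C) = 𝒞 (j * q) := by
  classical
  haveI : IsNoetherianRing R' := isNoetherianRing_veronese 𝒜 𝒜' φ q hdeg hφ
  have hpos' := GrVerRing.hpos' 𝒜 𝒜' φ hφ q hq hdeg hpos
  have h0' := isField_deg0' 𝒜 𝒜' φ hφ q hdeg h0
  obtain ⟨hfin, Φ, hΦ⟩ := hC
  obtain ⟨hfin', Φ', hΦ'⟩ := hC'
  haveI := hfin
  haveI := hfin'
  obtain ⟨Θ, h1, h2, h3, h4⟩ := exists_veronese_map 𝒜 𝒜' φ hφ q hq hdeg m hmsp m' hm'sp 𝒜 I 𝒜'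
    (φL R φ) hφ hdeg I' n
  letI := Groth.Agent.Lib.Helper20.GrLES2.decH I m n
  letI := Groth.Agent.Lib.Helper20.GrLES2.decH I' m' n
  obtain ⟨u, -⟩ := exists_coord 𝒜 hpos h0 m hmsp 𝓔 e he
  obtain ⟨u', -⟩ := exists_coord 𝒜' hpos' h0' m' hm'sp 𝓔'' e' he'
  let τ : comp 𝒜' 𝓔'' 0 →+ comp 𝒜 𝓔 0 :=
    (u.toLinearMap.toAddMonoidHom).comp
      (((i0 𝒜 𝒜' φ q hdeg : deg0 𝒜' →+* deg0 𝒜) : deg0 𝒜' →+ deg0 𝒜).comp
        u'.symm.toLinearMap.toAddMonoidHom)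
  have hτ : ∀ w, τ w = u (i0 𝒜 𝒜' φ q hdeg (u'.symm w)) := fun w => rfl
  have hτ1 : ∀ (a : deg0 𝒜') (w : comp 𝒜' 𝓔'' 0), τ (a • w) = i0 𝒜 𝒜' φ q hdeg a • τ w := by
    intro a w
    rw [hτ, hτ, map_smul, smul_eq_mul, map_mul, ← smul_eq_mul, map_smul]
  have hτ2 : Function.Injective τ := by
    intro w w' hww
    rw [hτ, hτ] at hww
    exact u'.symm.injective ((i0_bijective 𝒜 𝒜' φ hφ q hdeg).1 (u.injective hww))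
  exact exists_semilinear 𝒜 hpos h0 m hmsp 𝓔 e he 𝒞 (I.Hgr m n) Φ hΦ q hq 𝒜' φ hφ hdeg hpos' h0'
    m' hm'sp 𝓔'' e' he' 𝒞' (I'.Hgr m' n) Φ' hΦ' Θ h1 h2 h3 h4 τ hτ1 hτ2

end Groth.Agent.Lib.Helper20.GrDualVer3
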