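import Mathlib
import Groth.Prelude.Def_GrLC
import Groth.Agent.Lib.Helper20.GrLCBasic
import Groth.Agent.Lib.Helper20.GrHeight2

/-!
# A graded module over a `*`local ring which is locally free of rank one at the `*`maximal ideal
is a shift of the ring (helper20)
-/

set_option autoImplicit false
set_option linter.unusedSectionVars false
set_option linter.unusedVariables false
set_option linter.style.haveILetI false

universe u

open DirectSum

namespace Groth.Agent.Lib.Helper20.GrGorCanon

open Groth.Agent.Lib.Helper20.GrLCBasic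

variable {R : Type u} [CommRing R] [IsNoetherianRing R] (𝒜 : ℤ → AddSubgroup R) [GradedRing 𝒜]
  (m : HomogeneousIdeal 𝒜) (hm : GrLC.IsStarLocal 𝒜 m)

section grloc

variable {X : Type u} [AddCommGroup X] [Module R X] (𝓧 : ℤ → AddSubgroup X)
  [DirectSum.Decomposition 𝓧] [SetLike.GradedSMul 𝒜 𝓧]

include hm in
/-- graded localization principle, elementwise. -/
theorem mem_of_smul_mem (N : Submodule R X)
    (hN : ∀ (i : ℤ) (x : X), x ∈ N → ((decompose 𝓧 x i : 𝓧 i) : X) ∈ N)
    {y : X} {g : ℤ} (hy : y ∈ 𝓧 g) {s : R} (hs : s ∉ m.toIdeal) (hsy : s • y ∈ N) : y ∈ N := by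
  classical
  let J : Ideal R :=
    { carrier := {r | r • y ∈ N}
      add_mem' := by
        intro a b ha hb
        show (a + b) • y ∈ N
        rw [add_smul]
        exact N.add_mem ha hb
      zero_mem' := by
        show (0 : R) • y ∈ N
        rw [zero_smul]
        exact N.zero_mem
      smul_mem' := by
        intro c a ha
        show (c • a) • y ∈ N
        rw [smul_eq_mul, mul_smul]
        exact N.smul_mem c ha }
  have hJ : J.IsHomogeneous 𝒜 := by
    intro i r hr
    show ((decompose 𝒜 r i : 𝒜 i) : R) • y ∈ N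
    rw [← decompose_smul_right 𝒜 𝓧 hy r i]
    exact hN _ _ hr
  by_contra hyN
  have hne : (⟨J, hJ⟩ : HomogeneousIdeal 𝒜) ≠ ⊤ := by
    intro h
    have h1 : J = ⊤ := congrArg HomogeneousIdeal.toIdeal h
    have h2 : (1 : R) ∈ J := by rw [h1]; trivial
    have h3 : (1 : R) • y ∈ N := h2
    rw [one_smul] at h3
    exact hyN h3
  have hle : J ≤ m.toIdeal :=
    Groth.Agent.Lib.Helper20.GrHeight2.le_of_isStarLocal 𝒜 m hm _ hne
  exact hs (hle hsy)

end grloc

section main

variable [hmp : m.toIdeal.IsPrime] {C : Type u} [AddCommGroup C] [Module R C]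
  (𝒞 : ℤ → AddSubgroup C) [DirectSum.Decomposition 𝒞] [SetLike.GradedSMul 𝒜 𝒞]

include hm in
/-- a graded module which is free of rank one at `m` is a shift of `R`. -/
theorem exists_homogeneous_iso
    (θ : LocalizedModule m.toIdeal.primeCompl C ≃ₗ[Localization.AtPrime m.toIdeal]
      Localization.AtPrime m.toIdeal) :
    ∃ (a : ℤ) (f : R →ₗ[R] C), Function.Bijective f ∧ GrLC.IsGrHomDeg 𝒜 𝒞 f a := by
  classical
  let l : C →ₗ[R] Localization.AtPrime m.toIdeal :=
    (θ.restrictScalars R).toLinearMap ∘ₗ LocalizedModule.mkLinearMap m.toIdeal.primeCompl C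
  haveI hl : IsLocalizedModule m.toIdeal.primeCompl l :=
    IsLocalizedModule.of_linearEquiv m.toIdeal.primeCompl _ (θ.restrictScalars R)
  have hlsmul : ∀ (r : R) (c : C), l (r • c) = algebraMap R (Localization.AtPrime m.toIdeal) r * l c := by
    intro r c
    rw [map_smul, Algebra.smul_def]
  -- a unit value
  obtain ⟨⟨c₀, s⟩, hcs⟩ := hl.surj 1
  have hu₀ : IsUnit (l c₀) := by
    have h1 : l c₀ = algebraMap R (Localization.AtPrime m.toIdeal) (s : R) := by
      have h2 : (s : R) • (1 : Localization.AtPrime m.toIdeal) = l c₀ := hcs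
      rw [← h2, Algebra.smul_def, mul_one]
    rw [h1]
    exact IsLocalization.map_units _ s
  -- a homogeneous component with a unit value
  obtain ⟨d, hd⟩ : ∃ d : ℤ, IsUnit (l ((decompose 𝒞 c₀ d : 𝒞 d) : C)) := by
    by_contra hcon
    push Not at hcon
    have hsum : l c₀ = ∑ i ∈ (decompose 𝒞 c₀).support, l ((decompose 𝒞 c₀ i : 𝒞 i) : C) := by
      conv_lhs => rw [← DirectSum.sum_support_decompose 𝒞 c₀]
      rw [map_sum]
    have hmem : l c₀ ∈ IsLocalRing.maximalIdeal (Localization.AtPrime m.toIdeal) := by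
      rw [hsum]
      exact Ideal.sum_mem _ fun i _ => (IsLocalRing.mem_maximalIdeal _).2 (hcon i)
    exact (IsLocalRing.mem_maximalIdeal _).1 hmem hu₀
  set c : C := ((decompose 𝒞 c₀ d : 𝒞 d) : C) with hcdef
  have hc : c ∈ 𝒞 d := SetLike.coe_mem _
  let f : R →ₗ[R] C := LinearMap.toSpanSingleton R C c
  have hf : ∀ x : R, f x = x • c := fun x => rfl
  have hfdeg : GrLC.IsGrHomDeg 𝒜 𝒞 f d := by
    intro g x hx
    exact SetLike.GradedSMul.smul_mem (A := 𝒜) (B := 𝒞) hx hc
  have hrange : ∀ (i : ℤ) (z : C), z ∈ LinearMap.range f →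
      ((decompose 𝒞 z i : 𝒞 i) : C) ∈ LinearMap.range f := by
    rintro i z ⟨x, rfl⟩
    obtain ⟨t, rfl⟩ : ∃ t, i = t + d := ⟨i - d, by ring⟩
    rw [hf, decompose_smul_right 𝒜 𝒞 hc x t]
    exact ⟨_, rfl⟩
  refine ⟨d, f, ⟨?_, ?_⟩, hfdeg⟩
  · -- injectivity
    rw [injective_iff_map_eq_zero]
    intro x hx
    rw [hf] at hx
    have hcomp : ∀ g : ℤ, ((decompose 𝒜 x g : 𝒜 g) : R) = 0 := by
      intro g
      have h1 : ((decompose 𝒜 x g : 𝒜 g) : R) • c = 0 := by
        rw [← decompose_smul_right 𝒜 𝒞 hc x g, hx, decompose_zero]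
        rfl
      have h2 : algebraMap R (Localization.AtPrime m.toIdeal) ((decompose 𝒜 x g : 𝒜 g) : R) = 0 := by
        have h3 := hlsmul ((decompose 𝒜 x g : 𝒜 g) : R) c
        rw [h1, map_zero] at h3
        exact (hd.mul_left_eq_zero).1 h3.symm
      obtain ⟨t, ht⟩ := (IsLocalization.map_eq_zero_iff m.toIdeal.primeCompl
        (Localization.AtPrime m.toIdeal) _).1 h2
      have h4 : ((decompose 𝒜 x g : 𝒜 g) : R) ∈ (⊥ : Submodule R R) :=
        mem_of_smul_mem 𝒜 m hm 𝒜 ⊥ (by
          intro i z hz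
          rw [(Submodule.mem_bot R).1 hz, decompose_zero]
          exact Submodule.zero_mem _) (SetLike.coe_mem (decompose 𝒜 x g)) t.2 (by
            rw [smul_eq_mul, ht]
            exact Submodule.zero_mem _)
      exact (Submodule.mem_bot R).1 h4
    rw [← DirectSum.sum_support_decompose 𝒜 x]
    exact Finset.sum_eq_zero fun g _ => hcomp g
  · -- surjectivity
    have hhomog : ∀ (g : ℤ) (y : C), y ∈ 𝒞 g → y ∈ LinearMap.range f := by
      intro g y hy
      obtain ⟨⟨r, t⟩, hrt⟩ := IsLocalization.mk'_surjective m.toIdeal.primeCompl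
        (l y * ((hd.unit⁻¹ : (Localization.AtPrime m.toIdeal)ˣ) : Localization.AtPrime m.toIdeal))
      have hrt' : IsLocalization.mk' (Localization.AtPrime m.toIdeal) r t = l y *
          ((hd.unit⁻¹ : (Localization.AtPrime m.toIdeal)ˣ) : Localization.AtPrime m.toIdeal) := hrt
      have hly : l y = IsLocalization.mk' (Localization.AtPrime m.toIdeal) r t * l c := by
        rw [hrt', mul_assoc, IsUnit.val_inv_mul, mul_one]
      have heq : l ((t : R) • y) = l (r • c) := by
        rw [hlsmul, hlsmul, hly, ← mul_assoc, IsLocalization.mk'_spec']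
      obtain ⟨w, hw⟩ := hl.exists_of_eq heq
      refine mem_of_smul_mem 𝒜 m hm 𝒞 (LinearMap.range f) hrange hy
        (s := (w : R) * (t : R)) ?_ ?_
      · intro hmem
        rcases hmp.mem_or_mem hmem with h | h
        · exact w.2 h
        · exact t.2 h
      · rw [mul_smul]
        have : (w : R) • (t : R) • y = (w : R) • r • c := hw
        rw [this, ← mul_smul]
        exact ⟨_, rfl⟩
    intro y
    induction y using DirectSum.Decomposition.inductionOn 𝒞 with
    | zero => exact ⟨0, map_zero f⟩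
    | @homogeneous i y => exact hhomog i y y.2
    | add a b ha hb => exact (LinearMap.range f).add_mem ha hb

end main

end Groth.Agent.Lib.Helper20.GrGorCanon
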