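import Mathlib
import Groth.Prelude.Def_GrLC
import Groth.Agent.Lib.Helper20.GrHullDual2
import Groth.Agent.Lib.Helper20.GrArtin

/-!
# Recognising the `*`injective envelope of the residue field (helper20)

Over a Noetherian positively graded ring with `R_0` a field: a graded module with one-dimensional
top piece, left non-degenerate pairing into the top piece, and pieces at least as large as those of
the ring is (a shift of) the `*`injective envelope of the residue field.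
-/

set_option autoImplicit false
set_option linter.unusedSectionVars false
set_option linter.unusedVariables false
set_option linter.style.haveILetI false

universe u

open DirectSum GrLC Groth.Agent.Lib.Helper20.GrLCBasic Groth.Agent.Lib.Helper20.GrLCQuot
  Groth.Agent.Lib.Helper20.GrLCExt
  Groth.Agent.Lib.Helper20.GrFieldLocal Groth.Agent.Lib.Helper20.GrHullDual

namespace Groth.Agent.Lib.Helper20.GrHullChar

variable {R : Type u} [CommRing R] [IsNoetherianRing R] (𝒜 : ℤ → AddSubgroup R) [GradedRing 𝒜]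
  (hpos : ∀ n : ℤ, n < 0 → 𝒜 n = ⊥) (h0 : IsField (deg0 𝒜))
  (m : HomogeneousIdeal 𝒜)
  (hmsp : m.toIdeal = Ideal.span (⋃ n ∈ Set.Ioi (0 : ℤ), (𝒜 n : Set R)))
  {E' : Type u} [AddCommGroup E'] [Module R E'] (𝓔 : ℤ → AddSubgroup E')
  [DirectSum.Decomposition 𝓔] [SetLike.GradedSMul 𝒜 𝓔]
  (e : (R ⧸ m.toIdeal) →ₗ[R] E') (he : IsStarInjHull 𝒜 (quotGr 𝒜 m) 𝓔 e)
  {X : Type u} [AddCommGroup X] [Module R X] (𝒳 : ℤ → AddSubgroup X)
  [DirectSum.Decomposition 𝒳] [SetLike.GradedSMul 𝒜 𝒳]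
  (s : ℤ) (u : X) (hu : u ∈ 𝒳 s) (hu0 : u ≠ 0)
  (htop : ∀ j, s < j → 𝒳 j = ⊥)
  (hone : ∀ x ∈ 𝒳 s, ∃ c ∈ 𝒜 0, x = c • u)
  (hnd : ∀ j, ∀ x ∈ 𝒳 j, x ≠ 0 → ∃ r ∈ 𝒜 (s - j), r • x ≠ 0)
  (hdim : ∀ d, Module.finrank (deg0 𝒜) (comp 𝒜 𝒜 d) ≤ Module.finrank (deg0 𝒜) (comp 𝒜 𝒳 (s - d)))

include htop hu hmsp in
lemma smul_top_eq_zero {r : R} (hr : r ∈ m.toIdeal) : r • u = 0 := by
  rw [hmsp] at hr
  refine Submodule.span_induction (p := fun r _ => r • u = 0) ?_ ?_ ?_ ?_ hr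
  · intro x hx
    simp only [Set.mem_iUnion, Set.mem_Ioi] at hx
    obtain ⟨i, hi, hxi⟩ := hx
    have h1 := SetLike.GradedSMul.smul_mem (A := 𝒜) (B := 𝒳) hxi hu
    rw [vadd_eq_add, htop (i + s) (by omega)] at h1
    exact h1
  · exact zero_smul _ _
  · intro x y _ _ hx hy
    rw [add_smul, hx, hy, add_zero]
  · intro a x _ hx
    rw [smul_eq_mul, mul_smul, hx, smul_zero]

include hpos h0 hmsp he hu hu0 htop hone hnd hdim in
set_option maxHeartbeats 1000000 in
/-- **recognition of (a shift of) the `*`injective envelope of the residue field.** -/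
theorem exists_equiv_hull : ∃ ψ : X ≃ₗ[R] E', ∀ j, ∀ x ∈ 𝒳 j, ψ x ∈ 𝓔 (j - s) := by
  classical
  letI : Field (deg0 𝒜) := h0.toField
  have hmloc := isStarLocal 𝒜 hpos h0 m hmsp
  have hmne : m.toIdeal ≠ ⊤ := ne_top 𝒜 hpos h0 m hmsp
  -- the socle map
  let μ : R →ₗ[R] X := LinearMap.toSpanSingleton R X u
  have hμ : ∀ r, μ r = r • u := fun r => rfl
  have hker : m.toIdeal ≤ LinearMap.ker μ := fun r hr =>
    smul_top_eq_zero 𝒜 m hmsp 𝒳 s u hu htop hr
  let ν : (R ⧸ m.toIdeal) →ₗ[R] X := Submodule.liftQ m.toIdeal μ hker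
  have hν : ∀ r : R, ν (Ideal.Quotient.mk m.toIdeal r) = r • u := fun r => rfl
  let A : GMod.{u} 𝒜 := quotGMod (GMod.of 𝒜 R 𝒜) m.toIdeal m.isHomogeneous
  let B : GMod.{u} 𝒜 := shiftGMod 𝒜 (GMod.of 𝒜 X 𝒳) s
  have key : ∀ (i : ℤ) (r : R), r ∈ 𝒜 i → r • u ∈ 𝒳 (i + s) := fun i r hr =>
    SetLike.GradedSMul.smul_mem (A := 𝒜) (B := 𝒳) hr hu
  have hνgr : IsGrHom A.gr B.gr ν := by
    rintro i _ ⟨r, hr, rfl⟩
    exact key i r hr
  have hunit : ∀ (Y : Type u) [AddCommGroup Y] [Module R Y], ∀ c ∈ 𝒜 0, c ≠ 0 →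
      ∀ y : Y, c • y = 0 → y = 0 := by
    intro Y _ _ c hc hc0 y hy
    have hc0' : (⟨c, hc⟩ : deg0 𝒜) ≠ 0 := fun h => hc0 (congrArg Subtype.val h)
    obtain ⟨b, hb⟩ := h0.mul_inv_cancel hc0'
    have hb' : c * (b : R) = 1 := congrArg Subtype.val hb
    have : y = ((b : R) * c) • y := by rw [mul_comm, hb', one_smul]
    rw [this, mul_smul, hy, smul_zero]
  have hνinj : Function.Injective ν := by
    rw [injective_iff_map_eq_zero]
    intro c hc
    obtain ⟨r, rfl⟩ := Ideal.Quotient.mk_surjective c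
    rw [hν] at hc
    have hm' := Groth.Agent.Lib.Helper20.GrArtin.sub_decompose_zero_mem 𝒜 hpos m hmloc.1 r
    have h1 : r • u = ((decompose 𝒜 r 0 : 𝒜 0) : R) • u := by
      have h2 := smul_top_eq_zero 𝒜 m hmsp 𝒳 s u hu htop hm'
      rw [sub_smul, sub_eq_zero] at h2
      exact h2
    rw [h1] at hc
    by_cases hc0 : ((decompose 𝒜 r 0 : 𝒜 0) : R) = 0
    · rw [Ideal.Quotient.eq_zero_iff_mem]
      rw [hc0, sub_zero] at hm'
      exact hm'
    · exact absurd (hunit X _ (SetLike.coe_mem _) hc0 u hc) hu0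
  have heg : IsGrHom A.gr 𝓔 e := he.grHom
  obtain ⟨h₀, hh, hcomp⟩ := he.starInj A B ν hνgr hνinj e heg
  let h : X →ₗ[R] E' := h₀
  have hh' : ∀ (j : ℤ) (x : X), x ∈ 𝒳 j → h x ∈ 𝓔 (j - s) := by
    intro j x hx
    refine hh (j - s) x ?_
    change x ∈ 𝒳 (j - s + s)
    rwa [sub_add_cancel]
  have hhu : h u = e 1 := by
    have h1 : h (ν (Ideal.Quotient.mk m.toIdeal 1)) = e (Ideal.Quotient.mk m.toIdeal 1) :=
      LinearMap.congr_fun hcomp _
    rw [hν, one_smul] at h1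
    exact h1
  have he1 : e 1 ≠ 0 := by
    intro h6
    have h7 : (1 : R ⧸ m.toIdeal) = 0 := he.injective (by rw [h6, map_zero])
    have h8 : Ideal.Quotient.mk m.toIdeal 1 = 0 := h7
    rw [Ideal.Quotient.eq_zero_iff_mem] at h8
    exact hmne ((Ideal.eq_top_iff_one _).2 h8)
  -- injectivity on homogeneous elements
  have hinjhom : ∀ j, ∀ x ∈ 𝒳 j, h x = 0 → x = 0 := by
    intro j x hx hx0
    by_contra hne
    obtain ⟨r, hr, hrx⟩ := hnd j x hx hne
    have h1 : r • x ∈ 𝒳 s := by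
      have := SetLike.GradedSMul.smul_mem (A := 𝒜) (B := 𝒳) hr hx
      rwa [vadd_eq_add, sub_add_cancel] at this
    obtain ⟨c, hc, hcu⟩ := hone _ h1
    have hc0 : c ≠ 0 := by
      intro h
      rw [h, zero_smul] at hcu
      exact hrx hcu
    have h2 : h (r • x) = 0 := by rw [map_smul, hx0, smul_zero]
    rw [hcu, map_smul, hhu] at h2
    exact he1 (hunit E' c hc hc0 _ h2)
  have hhgr : IsGrHom (shiftGr 𝒳 s) 𝓔 h := fun j x hx => hh j x hx
  have hinj : Function.Injective h := by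
    rw [injective_iff_map_eq_zero]
    intro x hx
    have hK : (LinearMap.ker h).IsHomogeneous (shiftGr 𝒳 s) :=
      ker_isHomogeneous (shiftGr 𝒳 s) 𝓔 h hhgr
    have hz : ∀ j, ((decompose (shiftGr 𝒳 s) x j : shiftGr 𝒳 s j) : X) = 0 := by
      intro j
      have h1 := hK j (show x ∈ LinearMap.ker h from hx)
      exact hinjhom (j + s) _ (SetLike.coe_mem (decompose (shiftGr 𝒳 s) x j)) h1
    rw [← DirectSum.sum_support_decompose (shiftGr 𝒳 s) x]
    exact Finset.sum_eq_zero (fun j _ => hz j)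
  -- surjectivity by dimension count
  have hsurjhom : ∀ d : ℤ, ∀ y ∈ 𝓔 (-d), ∃ x, h x = y := by
    intro d y hy
    haveI hfin : Module.Finite (deg0 𝒜) (comp 𝒜 𝓔 (-d)) :=
      finite_comp_neg 𝒜 𝓔 hpos h0 m hmsp e he d
    have hfr := finrank_comp_neg 𝒜 𝓔 hpos h0 m hmsp e he d
    let T : (comp 𝒜 𝒳 (s - d)) →ₗ[deg0 𝒜] (comp 𝒜 𝓔 (-d)) :=
      { toFun := fun x => ⟨h x.1, by
          have := hh' (s - d) x.1 x.2
          rwa [show s - d - s = -d by ring] at this⟩
        map_add' := fun x y => Subtype.ext (map_add h x.1 y.1)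
        map_smul' := fun c x => Subtype.ext (map_smul h (c : R) x.1) }
    have hTinj : Function.Injective T := by
      intro x y hxy
      apply Subtype.ext
      exact hinj (congrArg Subtype.val hxy)
    haveI : Module.Finite (deg0 𝒜) (comp 𝒜 𝒳 (s - d)) := Module.Finite.of_injective T hTinj
    have h1 : Module.finrank (deg0 𝒜) (LinearMap.range T) =
        Module.finrank (deg0 𝒜) (comp 𝒜 𝒳 (s - d)) := LinearMap.finrank_range_of_inj hTinj
    have h2 : LinearMap.range T = ⊤ := by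
      apply Submodule.eq_top_of_finrank_eq
      apply le_antisymm (Submodule.finrank_le _)
      rw [h1, hfr]
      exact hdim d
    have h3 : (⟨y, hy⟩ : comp 𝒜 𝓔 (-d)) ∈ LinearMap.range T := by
      rw [h2]
      exact Submodule.mem_top
    obtain ⟨x, hx⟩ := h3
    exact ⟨x.1, congrArg Subtype.val hx⟩
  have hsurj : Function.Surjective h := by
    intro y
    rw [← DirectSum.sum_support_decompose 𝓔 y]
    have : ∀ j, ∃ x, h x = ((decompose 𝓔 y j : 𝓔 j) : E') := by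
      intro j
      have hj : ((decompose 𝓔 y j : 𝓔 j) : E') ∈ 𝓔 (-(-j)) := by
        rw [neg_neg]
        exact SetLike.coe_mem _
      exact hsurjhom (-j) _ hj
    choose x hx using this
    refine ⟨∑ j ∈ (decompose 𝓔 y).support, x j, ?_⟩
    rw [map_sum]
    exact Finset.sum_congr rfl (fun j _ => hx j)
  exact ⟨LinearEquiv.ofBijective h ⟨hinj, hsurj⟩, fun j x hx => hh' j x hx⟩

end Groth.Agent.Lib.Helper20.GrHullChar
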