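import Mathlib
import Groth.Prelude.Def_GrLC
import Groth.Agent.Lib.Helper20.GrDual2
import Groth.Agent.Lib.Helper20.GrHullChar

/-!
# A cyclicity criterion for the graded dual (helper20)

`R` a standard graded Noetherian ring over a field, `E'` the `*`injective envelope of the residue
field, `X` a graded module and `ρ : X → E'` a homogeneous map.  If `Hom(X, E')` is generated by `ρ`
in the degrees congruent to `deg ρ` modulo `q`, if `ρ` has zero annihilator, and if the powers of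
the irrelevant ideal contain regular pairs acting surjectively on `X`, then `ρ` generates
`Hom(X, E')` and is injective.
-/

set_option autoImplicit false
set_option linter.unusedSectionVars false
set_option linter.unusedVariables false
set_option linter.style.haveILetI false

universe u

open DirectSum GrLC Groth.Agent.Lib.Helper20.GrLCBasic Groth.Agent.Lib.Helper20.GrLCQuot
  Groth.Agent.Lib.Helper20.GrLCExt Groth.Agent.Lib.Helper20.GrFieldLocal
  Groth.Agent.Lib.Helper20.GrHullDual Groth.Agent.Lib.Helper20.GrDual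

namespace Groth.Agent.Lib.Helper20.GrGorVer1

section algebra

variable {R : Type u} [CommRing R] {K : Type u} [AddCommGroup K] [Module R K]

/-- the depth-two extension argument. -/
theorem exists_smul_eq_of_regular_pair (ρ ξ : K) (hρ : ∀ c : R, c • ρ = 0 → c = 0) (x y : R)
    (hy : ∀ a b : R, y * a = x * b → ∃ c, a = x * c)
    (hxK : ∀ ζ : K, x • ζ = 0 → ζ = 0)
    (φx φy : R) (h1 : x • ξ = φx • ρ) (h2 : y • ξ = φy • ρ) : ∃ c : R, ξ = c • ρ := by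
  have h3 : (y * φx - x * φy) • ρ = 0 := by
    rw [sub_smul, mul_smul, mul_smul, ← h1, ← h2, smul_comm, sub_self]
  have h4 := hρ _ h3
  obtain ⟨c, hc⟩ := hy φx φy (sub_eq_zero.1 h4)
  refine ⟨c, ?_⟩
  have h5 : x • (ξ - c • ρ) = 0 := by
    rw [smul_sub, h1, hc, mul_smul, sub_self]
  exact sub_eq_zero.1 (hxK _ h5)

/-- regularity modulo `x` passes to powers of `x`. -/
theorem reg_pow_left (x y : R) (hx : ∀ a : R, x * a = 0 → a = 0)
    (hy : ∀ a b : R, y * a = x * b → ∃ c, a = x * c) :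
    ∀ (s : ℕ) (a b : R), y * a = x ^ s * b → ∃ c, a = x ^ s * c := by
  intro s
  induction s with
  | zero =>
    intro a b _
    exact ⟨a, by rw [pow_zero, one_mul]⟩
  | succ s ih =>
    intro a b hab
    have h1 : y * a = x * (x ^ s * b) := by rw [hab, pow_succ]; ring
    obtain ⟨a', rfl⟩ := hy a _ h1
    have h2 : x * (y * a' - x ^ s * b) = 0 := by
      have : x * (y * a') = y * (x * a') := by ring
      rw [mul_sub, this, h1, sub_self]
    have h3 := sub_eq_zero.1 (hx _ h2)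
    obtain ⟨c, rfl⟩ := ih a' b h3
    exact ⟨c, by rw [pow_succ]; ring⟩

/-- regularity modulo `X` passes to powers of `y`. -/
theorem reg_pow_right (X y : R) (hy : ∀ a b : R, y * a = X * b → ∃ c, a = X * c) :
    ∀ (t : ℕ) (a b : R), y ^ t * a = X * b → ∃ c, a = X * c := by
  intro t
  induction t with
  | zero =>
    intro a b hab
    rw [pow_zero, one_mul] at hab
    exact ⟨b, hab⟩
  | succ t ih =>
    intro a b hab
    have h1 : y * (y ^ t * a) = X * b := by rw [← hab, pow_succ]; ring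
    obtain ⟨c₁, hc₁⟩ := hy _ _ h1
    exact ih a c₁ hc₁

end algebra

section main

variable {R : Type u} [CommRing R] [IsNoetherianRing R] (𝒜 : ℤ → AddSubgroup R) [GradedRing 𝒜]
  (hpos : ∀ n : ℤ, n < 0 → 𝒜 n = ⊥) (h0 : IsField (deg0 𝒜))
  (m : HomogeneousIdeal 𝒜)
  (hmsp : m.toIdeal = Ideal.span (⋃ n ∈ Set.Ioi (0 : ℤ), (𝒜 n : Set R)))
  (hstd : Ideal.span (⋃ n ∈ Set.Ioi (0 : ℤ), (𝒜 n : Set R)) =
    Ideal.span ((𝒜 1 : AddSubgroup R) : Set R))
  {E' : Type u} [AddCommGroup E'] [Module R E'] (𝓔 : ℤ → AddSubgroup E')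
  [DirectSum.Decomposition 𝓔] [SetLike.GradedSMul 𝒜 𝓔]
  (e : (R ⧸ m.toIdeal) →ₗ[R] E') (he : IsStarInjHull 𝒜 (quotGr 𝒜 m) 𝓔 e)
  {X : Type u} [AddCommGroup X] [Module R X] (𝒳 : ℤ → AddSubgroup X)
  [DirectSum.Decomposition 𝒳] [SetLike.GradedSMul 𝒜 𝒳]
  (a : ℤ) (ρ : X →ₗ[R] E') (hρ : ρ ∈ homDeg 𝒜 𝒳 𝓔 (-a))
  (q : ℕ) (hq : 0 < q)
  (hann : ∀ c : R, c • ρ = 0 → c = 0)
  (hperf : ∀ d : ℤ, (q : ℤ) ∣ (d + a) → ∀ ξ : X →ₗ[R] E', ξ ∈ homDeg 𝒜 𝒳 𝓔 d →
    ∃ c : R, ξ = c • ρ)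
  (hreg : ∀ N : ℕ, ∃ x y : R, x ∈ m.toIdeal ^ N ∧ y ∈ m.toIdeal ^ N ∧
    (∀ a b : R, y * a = x * b → ∃ c, a = x * c) ∧ (∀ h : X, ∃ h' : X, h = x • h'))

omit [IsNoetherianRing R] in
theorem smul_mem_homDeg {d t : ℤ} {r : R} (hr : r ∈ 𝒜 t) {ξ : X →ₗ[R] E'}
    (hξ : ξ ∈ homDeg 𝒜 𝒳 𝓔 d) : r • ξ ∈ homDeg 𝒜 𝒳 𝓔 (d + t) := by
  intro j x hx
  rw [LinearMap.smul_apply]
  have h1 := SetLike.GradedSMul.smul_mem (A := 𝒜) (B := 𝓔) hr (hξ j x hx)
  rw [vadd_eq_add] at h1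
  have hidx : t + (j + d) = j + (d + t) := by ring
  rwa [hidx] at h1

include hmsp hstd hperf in
omit [IsNoetherianRing R] in
/-- `m^s ξ ⊆ R ρ` when `deg ξ + s ≡ deg ρ` modulo `q`. -/
theorem pow_smul_mem : ∀ (s : ℕ) (d : ℤ), (q : ℤ) ∣ (d + s + a) → ∀ ξ : X →ₗ[R] E',
    ξ ∈ homDeg 𝒜 𝒳 𝓔 d → ∀ r ∈ m.toIdeal ^ s, ∃ c : R, r • ξ = c • ρ := by
  intro s
  induction s with
  | zero =>
    intro d hd ξ hξ r _
    have hd' : (q : ℤ) ∣ (d + a) := by
      have : d + ((0 : ℕ) : ℤ) + a = d + a := by push_cast; ring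
      rwa [this] at hd
    obtain ⟨c, rfl⟩ := hperf d hd' ξ hξ
    exact ⟨r * c, by rw [mul_smul]⟩
  | succ s ih =>
    intro d hd ξ hξ r hr
    rw [pow_succ] at hr
    have hm1 : m.toIdeal = Ideal.span ((𝒜 1 : AddSubgroup R) : Set R) := by rw [hmsp, hstd]
    -- elements of `m`
    have key : ∀ b ∈ m.toIdeal, ∀ a' ∈ m.toIdeal ^ s, ∃ c : R, (a' * b) • ξ = c • ρ := by
      intro b hb
      rw [hm1] at hb
      refine Submodule.span_induction
        (p := fun b _ => ∀ a' ∈ m.toIdeal ^ s, ∃ c : R, (a' * b) • ξ = c • ρ) ?_ ?_ ?_ ?_ hb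
      · intro b hb a' ha'
        have hb1 : b ∈ 𝒜 1 := hb
        have h1 := smul_mem_homDeg 𝒜 𝓔 𝒳 hb1 hξ
        have hd' : (q : ℤ) ∣ (d + 1 + s + a) := by
          have : d + ((s + 1 : ℕ) : ℤ) + a = d + 1 + s + a := by push_cast; ring
          rwa [this] at hd
        obtain ⟨c, hc⟩ := ih (d + 1) hd' (b • ξ) h1 a' ha'
        exact ⟨c, by rw [mul_smul, hc]⟩
      · intro a' _
        exact ⟨0, by rw [mul_zero, zero_smul, zero_smul]⟩
      · intro b b' _ _ hb hb' a' ha'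
        obtain ⟨c, hc⟩ := hb a' ha'
        obtain ⟨c', hc'⟩ := hb' a' ha'
        exact ⟨c + c', by rw [mul_add, add_smul, hc, hc', add_smul]⟩
      · intro t b _ hb a' ha'
        obtain ⟨c, hc⟩ := hb (a' * t) (Ideal.mul_mem_right t _ ha')
        exact ⟨c, by rw [smul_eq_mul, ← mul_assoc, hc]⟩
    refine Submodule.mul_induction_on hr ?_ ?_
    · intro a' ha' b hb
      exact key b hb a' ha'
    · intro r r' hr hr'
      obtain ⟨c, hc⟩ := hr
      obtain ⟨c', hc'⟩ := hr'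
      exact ⟨c + c', by rw [add_smul, hc, hc', add_smul]⟩

include hmsp hstd hperf hann hreg hq in
omit [IsNoetherianRing R] in
/-- every homogeneous map `X → E'` is a multiple of `ρ`. -/
theorem hom_eq_smul (d : ℤ) (ξ : X →ₗ[R] E') (hξ : ξ ∈ homDeg 𝒜 𝒳 𝓔 d) :
    ∃ c : R, ξ = c • ρ := by
  -- choose `s` with `d + s + a ≡ 0`
  obtain ⟨s, hs⟩ : ∃ s : ℕ, (q : ℤ) ∣ (d + s + a) := by
    have hq' : (0 : ℤ) < q := by exact_mod_cast hq
    refine ⟨((-(d + a)) % q).toNat, ?_⟩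
    have h1 : 0 ≤ (-(d + a)) % (q : ℤ) := Int.emod_nonneg _ hq'.ne'
    rw [Int.toNat_of_nonneg h1]
    have h2 : d + (-(d + a)) % (q : ℤ) + a = -((-(d + a)) - (-(d + a)) % (q : ℤ)) := by ring
    rw [h2, dvd_neg]
    exact Int.dvd_self_sub_emod
  obtain ⟨x, y, hx, hy, hyx, hxX⟩ := hreg s
  obtain ⟨φx, hφx⟩ := pow_smul_mem 𝒜 m hmsp hstd 𝓔 𝒳 a ρ q hperf s d hs ξ hξ x hx
  obtain ⟨φy, hφy⟩ := pow_smul_mem 𝒜 m hmsp hstd 𝓔 𝒳 a ρ q hperf s d hs ξ hξ y hy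
  refine exists_smul_eq_of_regular_pair ρ ξ hann x y hyx ?_ φx φy hφx hφy
  intro ζ hζ
  apply LinearMap.ext
  intro h
  obtain ⟨h', rfl⟩ := hxX h
  rw [map_smul, ← LinearMap.smul_apply, hζ, LinearMap.zero_apply, LinearMap.zero_apply]

include hpos h0 hmsp hstd he hρ hperf hann hreg hq in
/-- `ρ` is injective. -/
theorem rho_injective : Function.Injective ρ := by
  classical
  have hgr : IsGrHom 𝒳 (shiftGr 𝓔 (-a)) ρ := fun j x hx => hρ j x hx
  have hK : (LinearMap.ker ρ).IsHomogeneous 𝒳 := ker_isHomogeneous 𝒳 (shiftGr 𝓔 (-a)) ρ hgr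
  have hhom : ∀ j, ∀ x ∈ 𝒳 j, ρ x = 0 → x = 0 := by
    intro j x hx hx0
    by_contra hne
    obtain ⟨ξ, hξ, hξx⟩ := exists_hom_ne_zero 𝒜 hpos h0 m hmsp 𝓔 e he 𝒳 hx hne
    obtain ⟨c, rfl⟩ := hom_eq_smul 𝒜 m hmsp hstd 𝓔 𝒳 a ρ q hq hann hperf hreg (-j) ξ hξ
    apply hξx
    rw [LinearMap.smul_apply, hx0, smul_zero]
  rw [injective_iff_map_eq_zero]
  intro x hx
  have hz : ∀ j, ((decompose 𝒳 x j : 𝒳 j) : X) = 0 := by
    intro j
    have h1 := hK j (show x ∈ LinearMap.ker ρ from hx)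
    exact hhom j _ (SetLike.coe_mem (decompose 𝒳 x j)) h1
  rw [← DirectSum.sum_support_decompose 𝒳 x]
  exact Finset.sum_eq_zero (fun j _ => hz j)

include hpos h0 hmsp hstd he hρ hperf hann hreg hq in
/-- nondegeneracy: every nonzero homogeneous element is carried into the top degree. -/
theorem exists_smul_ne_zero_top {j : ℤ} {x : X} (hx : x ∈ 𝒳 j) (hx0 : x ≠ 0) :
    ∃ r ∈ 𝒜 (a - j), r • x ≠ 0 := by
  have hinj := rho_injective 𝒜 hpos h0 m hmsp hstd 𝓔 e he 𝒳 a ρ hρ q hq hann hperf hreg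
  have h1 : ρ x ≠ 0 := fun h => hx0 (hinj (h.trans (map_zero ρ).symm))
  have h2 : ρ x ∈ 𝓔 (j + -a) := hρ j x hx
  obtain ⟨r, hr, hrx, -⟩ := exists_smul_ne_zero 𝒜 hpos m hmsp 𝓔 e he h2 h1
  have hidx : -(j + -a) = a - j := by ring
  rw [hidx] at hr
  refine ⟨r, hr, fun h => hrx ?_⟩
  rw [← map_smul, h, map_zero]

end main

end Groth.Agent.Lib.Helper20.GrGorVer1
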