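import Mathlib
import Groth.Prelude.Def_GrLC
import Groth.Agent.Lib.Helper20.GrHullDual2
import Groth.Agent.Lib.Helper20.GrVerRing

/-!
# Nondegeneracy of `H` in Veronese degrees from a Gorenstein Veronese subring (helper20)

`Λ : H → E''` is a semilinear map into the `*`injective envelope of the residue field of the
Veronese subring `R'`, identifying `H_{jq}` with `E''_{j + g₁}`.  Then the pairing
`R_{a - jq} × H_{jq} → H_a` (`a = -g₁ q`) is nondegenerate on both sides and `H_a` is spanned by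
one element.
-/

set_option autoImplicit false
set_option linter.unusedSectionVars false
set_option linter.unusedVariables false
set_option linter.style.haveILetI false

universe u

open DirectSum GrLC Groth.Agent.Lib.Helper20.GrLCBasic Groth.Agent.Lib.Helper20.GrFieldLocal
  Groth.Agent.Lib.Helper20.GrHullDual Groth.Agent.Lib.Helper20.GrVeronese
  Groth.Agent.Lib.Helper20.GrVerRing

namespace Groth.Agent.Lib.Helper20.GrGorVer2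

variable {R : Type u} [CommRing R] (𝒜 : ℤ → AddSubgroup R) [GradedRing 𝒜]
  {H : Type u} [AddCommGroup H] [Module R H] (ℋ : ℤ → AddSubgroup H) [SetLike.GradedSMul 𝒜 ℋ]
  (q : ℕ) (hq : 0 < q)
  {R' : Type u} [CommRing R'] [IsNoetherianRing R'] (𝒜' : ℤ → AddSubgroup R') [GradedRing 𝒜']
  (φ : R' →+* R) (hφ : Function.Injective φ)
  (hdeg : ∀ j : ℤ, (𝒜' j).map (φ : R' →+ R) = 𝒜 (j * q))
  (hpos' : ∀ n : ℤ, n < 0 → 𝒜' n = ⊥) (h0' : IsField (deg0 𝒜'))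
  (m' : HomogeneousIdeal 𝒜')
  (hm'sp : m'.toIdeal = Ideal.span (⋃ n ∈ Set.Ioi (0 : ℤ), (𝒜' n : Set R')))
  {E'' : Type u} [AddCommGroup E''] [Module R' E''] (𝓔' : ℤ → AddSubgroup E'')
  [DirectSum.Decomposition 𝓔'] [SetLike.GradedSMul 𝒜' 𝓔']
  (e' : (R' ⧸ m'.toIdeal) →ₗ[R'] E'') (he' : IsStarInjHull 𝒜' (quotGr 𝒜' m') 𝓔' e')
  (Λ : H →+ E'') (g₁ : ℤ)
  (hΛ1 : ∀ (r : R') (x : H), Λ (φ r • x) = r • Λ x)
  (hΛ3 : ∀ (j : ℤ) (x : H), x ∈ ℋ (j * q) → Λ x ∈ 𝓔' (j + g₁))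
  (hΛ4 : ∀ (j : ℤ) (x : H), x ∈ ℋ (j * q) → Λ x = 0 → x = 0)
  (hΛ5 : ∀ (j : ℤ) (y : E''), y ∈ 𝓔' (j + g₁) → ∃ x ∈ ℋ (j * q), Λ x = y)

include hq hdeg hpos' h0' hm'sp he' hΛ1 hΛ3 hΛ4 hΛ5 in
/-- the top piece `H_a`, `a = -g₁ q`, is spanned by one nonzero element. -/
theorem exists_top : ∃ u ∈ ℋ (-g₁ * q), u ≠ 0 ∧ ∀ x ∈ ℋ (-g₁ * q), ∃ c ∈ 𝒜 0, x = c • u := by
  have he1 : e' 1 ≠ 0 := by
    intro h6
    have h7 : (1 : R' ⧸ m'.toIdeal) = 0 := he'.injective (by rw [h6, map_zero])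
    have h8 : Ideal.Quotient.mk m'.toIdeal 1 = 0 := h7
    rw [Ideal.Quotient.eq_zero_iff_mem] at h8
    exact ne_top 𝒜' hpos' h0' m' hm'sp ((Ideal.eq_top_iff_one _).2 h8)
  have he1mem : e' 1 ∈ 𝓔' (-g₁ + g₁) := by
    rw [neg_add_cancel]
    exact range_le_zero' 𝒜' hpos' m' hm'sp 𝓔' e' he' 1
  obtain ⟨u, hu, hΛu⟩ := hΛ5 (-g₁) _ he1mem
  refine ⟨u, hu, ?_, ?_⟩
  · intro h
    apply he1
    rw [← hΛu, h, map_zero]
  · intro x hx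
    have h1 : Λ x ∈ 𝓔' 0 := by
      have := hΛ3 (-g₁) x hx
      rwa [neg_add_cancel] at this
    obtain ⟨c', hc', hxc⟩ := exists_smul_eq_of_mem_zero 𝒜' 𝓔' hpos' h0' m' hm'sp e' he' h1
    have hφc : φ c' ∈ 𝒜 0 := by
      have := φ_mem 𝒜 𝒜' φ q hdeg hc'
      rwa [zero_mul] at this
    refine ⟨φ c', hφc, ?_⟩
    have h2 : x - φ c' • u ∈ ℋ (-g₁ * q) := by
      apply sub_mem hx
      have := SetLike.GradedSMul.smul_mem (A := 𝒜) (B := ℋ) hφc hu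
      rwa [vadd_eq_add, zero_add] at this
    have h3 : Λ (x - φ c' • u) = 0 := by
      rw [map_sub, hΛ1, hΛu, hxc, sub_self]
    exact sub_eq_zero.1 (hΛ4 (-g₁) _ h2 h3)

include hdeg hpos' hm'sp he' hΛ1 hΛ3 hΛ4 in
/-- left nondegeneracy in the degrees divisible by `q`. -/
theorem exists_smul_ne_zero_left (j' : ℤ) (hj' : (q : ℤ) ∣ j') {h : H} (hh : h ∈ ℋ j')
    (hh0 : h ≠ 0) : ∃ r ∈ 𝒜 (-g₁ * q - j'), r • h ≠ 0 := by
  obtain ⟨j, rfl⟩ := hj'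
  have hh' : h ∈ ℋ (j * q) := by rwa [mul_comm] at hh
  have h1 : Λ h ≠ 0 := fun h2 => hh0 (hΛ4 j h hh' h2)
  have h2 : Λ h ∈ 𝓔' (j + g₁) := hΛ3 j h hh'
  obtain ⟨r', hr', hne, -⟩ := exists_smul_ne_zero 𝒜' hpos' m' hm'sp 𝓔' e' he' h2 h1
  refine ⟨φ r', ?_, ?_⟩
  · have := φ_mem 𝒜 𝒜' φ q hdeg hr'
    have hidx : -(j + g₁) * (q : ℤ) = -g₁ * q - q * j := by ring
    rwa [hidx] at this
  · intro h3
    apply hne
    rw [← hΛ1, h3, map_zero]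

include hφ hdeg hpos' h0' hm'sp he' hΛ1 hΛ5 in
/-- right nondegeneracy in the degrees divisible by `q`. -/
theorem exists_smul_ne_zero_right (t' : ℤ) (ht' : (q : ℤ) ∣ t') {c : R} (hc : c ∈ 𝒜 t')
    (hc0 : c ≠ 0) : ∃ h ∈ ℋ (-g₁ * q - t'), c • h ≠ 0 := by
  obtain ⟨t, rfl⟩ := ht'
  have hc' : c ∈ 𝒜 (t * q) := by rwa [mul_comm] at hc
  obtain ⟨c', hc'mem, rfl⟩ := exists_of_mem 𝒜 𝒜' φ q hdeg hc'
  have hc'0 : c' ≠ 0 := by
    intro h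
    apply hc0
    rw [h, map_zero]
  obtain ⟨x, hx, hne⟩ := exists_smul_ne_zero' 𝒜' hpos' h0' m' hm'sp 𝓔' e' he' hc'mem hc'0
  have hx' : x ∈ 𝓔' ((-g₁ - t) + g₁) := by
    have hidx : (-g₁ - t) + g₁ = -t := by ring
    rwa [hidx]
  obtain ⟨h, hh, hΛh⟩ := hΛ5 (-g₁ - t) x hx'
  refine ⟨h, ?_, ?_⟩
  · have hidx : (-g₁ - t) * (q : ℤ) = -g₁ * q - q * t := by ring
    rwa [hidx] at hh
  · intro h3
    apply hne
    rw [← hΛh, ← hΛ1, h3, map_zero]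

end Groth.Agent.Lib.Helper20.GrGorVer2
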