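import Mathlib
import Groth.Prelude.Def_GrLC
import Groth.Agent.Lib.Helper20.GrGorVer1
import Groth.Agent.Lib.Helper20.GrCanonDim2

/-!
# Recognising `H ≅ *E(k)(a)` from Veronese data (helper20)
-/

set_option autoImplicit false
set_option linter.unusedSectionVars false
set_option linter.unusedVariables false
set_option linter.style.haveILetI false

universe u

open DirectSum GrLC Groth.Agent.Lib.Helper20.GrLCBasic Groth.Agent.Lib.Helper20.GrLCQuot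
  Groth.Agent.Lib.Helper20.GrLCExt Groth.Agent.Lib.Helper20.GrFieldLocal
  Groth.Agent.Lib.Helper20.GrHullDual Groth.Agent.Lib.Helper20.GrDual
  Groth.Agent.Lib.Helper20.GrCanonDim Groth.Agent.Lib.Helper20.GrGorVer1

namespace Groth.Agent.Lib.Helper20.GrGorVer3

section top

variable {R : Type u} [CommRing R] (𝒜 : ℤ → AddSubgroup R) [GradedRing 𝒜]
  (hpos : ∀ n : ℤ, n < 0 → 𝒜 n = ⊥) (h0 : IsField (deg0 𝒜))
  (hstd : Ideal.span (⋃ n ∈ Set.Ioi (0 : ℤ), (𝒜 n : Set R)) =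
    Ideal.span ((𝒜 1 : AddSubgroup R) : Set R))
  {H : Type u} [AddCommGroup H] [Module R H] (ℋ : ℤ → AddSubgroup H)
  [DirectSum.Decomposition ℋ] [SetLike.GradedSMul 𝒜 ℋ]
  (hP : ∀ J : Ideal R, ringKrullDim (R ⧸ J) ≤ 1 → ∀ h : H, h ∈ (J • ⊤ : Submodule R H))

include hpos h0 hstd hP in
/-- if `H_{j+1} ≠ 0` then `H_j` is not spanned by a single element. -/
theorem not_cyclic (j : ℤ) (hne : ℋ (j + 1) ≠ ⊥) :
    ¬ ∃ η : comp 𝒜 ℋ j, ∀ w : comp 𝒜 ℋ j, ∃ c : deg0 𝒜, c • η = w := by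
  classical
  letI : Field (deg0 𝒜) := h0.toField
  rintro ⟨η, hη⟩
  obtain ⟨y, hy, hy0⟩ := Groth.Agent.Lib.Helper20.GrAinv.exists_ne_zero_of_ne_bot hne
  have hy0' : (⟨y, hy⟩ : comp 𝒜 ℋ (j + 1)) ≠ 0 := fun h => hy0 (congrArg Subtype.val h)
  obtain ⟨lam, hlam⟩ := Module.Projective.exists_dual_ne_zero (deg0 𝒜) hy0'
  have hmem : ∀ r ∈ 𝒜 1, r • (η : H) ∈ ℋ (j + 1) := by
    intro r hr
    have := SetLike.GradedSMul.smul_mem (A := 𝒜) (B := ℋ) hr η.2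
    rw [vadd_eq_add, add_comm] at this
    exact this
  let μ : comp 𝒜 𝒜 1 →ₗ[deg0 𝒜] comp 𝒜 ℋ (j + 1) :=
    { toFun := fun r => ⟨(r : R) • (η : H), hmem r.1 r.2⟩
      map_add' := fun r r' => Subtype.ext (add_smul (r : R) (r' : R) (η : H))
      map_smul' := fun a r => Subtype.ext (mul_smul (a : R) (r : R) (η : H)) }
  let g : comp 𝒜 𝒜 1 →ₗ[deg0 𝒜] deg0 𝒜 := lam ∘ₗ μ
  let S : Set R := {r | ∃ hr : r ∈ 𝒜 1, g ⟨r, hr⟩ = 0}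
  have hS1 : ∀ s ∈ S, s ∈ 𝒜 1 := fun s hs => hs.1
  obtain ⟨ℓ, hℓ⟩ : ∃ ℓ : R, ∀ r ∈ 𝒜 1, ∃ c : deg0 𝒜, r - (c : R) * ℓ ∈ Ideal.span S := by
    by_cases hex : ∃ ℓ : comp 𝒜 𝒜 1, g ℓ ≠ 0
    · obtain ⟨ℓ, hℓ⟩ := hex
      refine ⟨ℓ.1, fun r hr => ⟨g ⟨r, hr⟩ / g ℓ, Ideal.subset_span ?_⟩⟩
      have hmem1 : r - ((g ⟨r, hr⟩ / g ℓ : deg0 𝒜) : R) * ℓ.1 ∈ 𝒜 1 :=
        ((⟨r, hr⟩ : comp 𝒜 𝒜 1) - (g ⟨r, hr⟩ / g ℓ) • ℓ).2
      refine ⟨hmem1, ?_⟩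
      have : (⟨r - ((g ⟨r, hr⟩ / g ℓ : deg0 𝒜) : R) * ℓ.1, hmem1⟩ : comp 𝒜 𝒜 1) =
          (⟨r, hr⟩ : comp 𝒜 𝒜 1) - (g ⟨r, hr⟩ / g ℓ) • ℓ := rfl
      rw [this, map_sub, map_smul, smul_eq_mul, div_mul_cancel₀ _ hℓ, sub_self]
    · push_neg at hex
      refine ⟨0, fun r hr => ⟨0, Ideal.subset_span ?_⟩⟩
      rw [mul_zero, sub_zero]
      exact ⟨hr, hex ⟨r, hr⟩⟩
  have hdim := ringKrullDim_quot_le_one 𝒜 hpos hstd h0 S ℓ hℓ
  have hyJ := hP (Ideal.span S) hdim y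
  have hycl := mem_closure_of_mem_smul_top 𝒜 ℋ S hS1 j y hy hyJ
  let K : AddSubgroup H := (LinearMap.ker lam).toAddSubgroup.map
    (comp 𝒜 ℋ (j + 1)).subtype.toAddMonoidHom
  have hK : AddSubgroup.closure {x : H | ∃ v ∈ S, ∃ h' ∈ ℋ j, x = v • h'} ≤ K := by
    rw [AddSubgroup.closure_le]
    rintro _ ⟨v, ⟨hv1, hv⟩, h', hh', rfl⟩
    obtain ⟨c, hc⟩ := hη ⟨h', hh'⟩
    have hc' : (c : R) • (η : H) = h' := congrArg Subtype.val hc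
    refine ⟨μ (c • ⟨v, hv1⟩), ?_, ?_⟩
    · change lam (μ (c • ⟨v, hv1⟩)) = 0
      rw [map_smul, map_smul]
      change c • g ⟨v, hv1⟩ = 0
      rw [hv, smul_zero]
    · change ((c : R) * v) • (η : H) = v • h'
      rw [← hc', mul_comm, mul_smul]
  obtain ⟨z, hz, hzy⟩ := hK hycl
  have hzy' : z = ⟨y, hy⟩ := Subtype.ext hzy
  rw [hzy'] at hz
  exact hlam hz

include hpos h0 hstd hP in
theorem ne_bot_pred (j : ℤ) (hne : ℋ (j + 1) ≠ ⊥) : ℋ j ≠ ⊥ := by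
  intro hbot
  apply not_cyclic 𝒜 hpos h0 hstd ℋ hP j hne
  refine ⟨0, fun w => ⟨0, ?_⟩⟩
  apply Subtype.ext
  have hw : (w : H) ∈ (⊥ : AddSubgroup H) := hbot ▸ w.2
  rw [zero_smul, (AddSubgroup.mem_bot).1 hw]
  rfl

include hpos h0 hstd hP in
/-- if `H_a` is spanned by one element then `H` vanishes above degree `a`. -/
theorem eq_bot_of_gt (a : ℤ) (u : H) (hu : u ∈ ℋ a)
    (hone : ∀ x ∈ ℋ a, ∃ c ∈ 𝒜 0, x = c • u) (j : ℤ) (hj : a < j) : ℋ j = ⊥ := by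
  by_contra hne
  have key : ∀ k : ℕ, ℋ (j - k) ≠ ⊥ := by
    intro k
    induction k with
    | zero =>
      rw [Nat.cast_zero, sub_zero]
      exact hne
    | succ k ih =>
      apply ne_bot_pred 𝒜 hpos h0 hstd ℋ hP
      have : j - ((k + 1 : ℕ) : ℤ) + 1 = j - k := by push_cast; ring
      rw [this]
      exact ih
  have h1 : ℋ (a + 1) ≠ ⊥ := by
    have := key (j - a - 1).toNat
    have hidx : j - ((j - a - 1).toNat : ℤ) = a + 1 := by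
      rw [Int.toNat_of_nonneg (by omega)]
      ring
    rwa [hidx] at this
  apply not_cyclic 𝒜 hpos h0 hstd ℋ hP a h1
  refine ⟨⟨u, hu⟩, fun w => ?_⟩
  obtain ⟨c, hc, hw⟩ := hone w.1 w.2
  exact ⟨⟨c, hc⟩, Subtype.ext hw.symm⟩

end top

section main

variable {R : Type u} [CommRing R] [IsNoetherianRing R] (𝒜 : ℤ → AddSubgroup R) [GradedRing 𝒜]
  (hpos : ∀ n : ℤ, n < 0 → 𝒜 n = ⊥) (h0 : IsField (deg0 𝒜))
  (m : HomogeneousIdeal 𝒜)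
  (hmsp : m.toIdeal = Ideal.span (⋃ n ∈ Set.Ioi (0 : ℤ), (𝒜 n : Set R)))
  (hstd : Ideal.span (⋃ n ∈ Set.Ioi (0 : ℤ), (𝒜 n : Set R)) =
    Ideal.span ((𝒜 1 : AddSubgroup R) : Set R))
  {E' : Type u} [AddCommGroup E'] [Module R E'] (𝓔 : ℤ → AddSubgroup E')
  [DirectSum.Decomposition 𝓔] [SetLike.GradedSMul 𝒜 𝓔]
  (e : (R ⧸ m.toIdeal) →ₗ[R] E') (he : IsStarInjHull 𝒜 (quotGr 𝒜 m) 𝓔 e)
  {H : Type u} [AddCommGroup H] [Module R H] (ℋ : ℤ → AddSubgroup H)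
  [DirectSum.Decomposition ℋ] [SetLike.GradedSMul 𝒜 ℋ]
  (a : ℤ) (u : H) (hu : u ∈ ℋ a) (hu0 : u ≠ 0)
  (hone : ∀ x ∈ ℋ a, ∃ c ∈ 𝒜 0, x = c • u)
  (htop : ∀ j, a < j → ℋ j = ⊥)

include hpos h0 hmsp he hu hu0 htop in
/-- the socle functional: a homogeneous map `H → E'` of degree `-a` sending `u` to the socle
generator. -/
theorem exists_rho : ∃ ρ : H →ₗ[R] E', ρ ∈ homDeg 𝒜 ℋ 𝓔 (-a) ∧ ρ u = e 1 := by
  classical
  have hmloc := isStarLocal 𝒜 hpos h0 m hmsp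
  let μ : R →ₗ[R] H := LinearMap.toSpanSingleton R H u
  have hμ : ∀ r, μ r = r • u := fun r => rfl
  have hker : m.toIdeal ≤ LinearMap.ker μ := fun r hr =>
    Groth.Agent.Lib.Helper20.GrHullChar.smul_top_eq_zero 𝒜 m hmsp ℋ a u hu htop hr
  let ν : (R ⧸ m.toIdeal) →ₗ[R] H := Submodule.liftQ m.toIdeal μ hker
  have hν : ∀ r : R, ν (Ideal.Quotient.mk m.toIdeal r) = r • u := fun r => rfl
  let A : GMod.{u} 𝒜 := quotGMod (GMod.of 𝒜 R 𝒜) m.toIdeal m.isHomogeneous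
  let B : GMod.{u} 𝒜 := shiftGMod 𝒜 (GMod.of 𝒜 H ℋ) a
  have key : ∀ (i : ℤ) (r : R), r ∈ 𝒜 i → r • u ∈ ℋ (i + a) := fun i r hr =>
    SetLike.GradedSMul.smul_mem (A := 𝒜) (B := ℋ) hr hu
  have hνgr : IsGrHom A.gr B.gr ν := by
    rintro i _ ⟨r, hr, rfl⟩
    exact key i r hr
  have hunit : ∀ c ∈ 𝒜 0, c ≠ 0 → ∀ y : H, c • y = 0 → y = 0 := by
    intro c hc hc0 y hy
    have hc0' : (⟨c, hc⟩ : deg0 𝒜) ≠ 0 := fun h => hc0 (congrArg Subtype.val h)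
    obtain ⟨b, hb⟩ := h0.mul_inv_cancel hc0'
    have hb' : c * (b : R) = 1 := congrArg Subtype.val hb
    have : y = ((b : R) * c) • y := by rw [mul_comm, hb', one_smul]
    rw [this, mul_smul, hy, smul_zero]
  have hνinj : Function.Injective ν := by
    rw [injective_iff_map_eq_zero]
    intro c hc
    obtain ⟨r, rfl⟩ := Ideal.Quotient.mk_surjective c
    rw [hν] at hc
    have hm' := Groth.Agent.Lib.Helper20.GrArtin.sub_decompose_zero_mem 𝒜 hpos m hmloc.1 r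
    have h1 : r • u = ((decompose 𝒜 r 0 : 𝒜 0) : R) • u := by
      have h2 := Groth.Agent.Lib.Helper20.GrHullChar.smul_top_eq_zero 𝒜 m hmsp ℋ a u hu htop hm'
      rw [sub_smul, sub_eq_zero] at h2
      exact h2
    rw [h1] at hc
    by_cases hc0 : ((decompose 𝒜 r 0 : 𝒜 0) : R) = 0
    · rw [Ideal.Quotient.eq_zero_iff_mem]
      rw [hc0, sub_zero] at hm'
      exact hm'
    · exact absurd (hunit _ (SetLike.coe_mem _) hc0 u hc) hu0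
  have heg : IsGrHom A.gr 𝓔 e := he.grHom
  obtain ⟨h₀, hh, hcomp⟩ := he.starInj A B ν hνgr hνinj e heg
  let h : H →ₗ[R] E' := h₀
  refine ⟨h, ?_, ?_⟩
  · intro j x hx
    refine hh (j + -a) x ?_
    change x ∈ ℋ (j + -a + a)
    rwa [neg_add_cancel_right]
  · have h1 : h (ν (Ideal.Quotient.mk m.toIdeal 1)) = e (Ideal.Quotient.mk m.toIdeal 1) :=
      LinearMap.congr_fun hcomp _
    rw [hν, one_smul] at h1
    exact h1

variable (ρ : H →ₗ[R] E') (hρ : ρ ∈ homDeg 𝒜 ℋ 𝓔 (-a)) (hρu : ρ u = e 1)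

include hpos h0 hmsp he hone hρu in
/-- `ρ` is injective on the top piece. -/
theorem rho_ne_zero {x : H} (hx : x ∈ ℋ a) (hx0 : x ≠ 0) : ρ x ≠ 0 := by
  obtain ⟨c, hc, rfl⟩ := hone x hx
  have hc0 : c ≠ 0 := by
    intro h
    apply hx0
    rw [h, zero_smul]
  have hc0' : (⟨c, hc⟩ : deg0 𝒜) ≠ 0 := fun h => hc0 (congrArg Subtype.val h)
  obtain ⟨b, hb⟩ := h0.mul_inv_cancel hc0'
  have hb' : c * (b : R) = 1 := congrArg Subtype.val hb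
  rw [map_smul, hρu]
  intro h6
  have h7 : e 1 = ((b : R) * c) • e 1 := by rw [mul_comm, hb', one_smul]
  rw [mul_smul, h6, smul_zero] at h7
  have h8 : (1 : R ⧸ m.toIdeal) = 0 := he.injective (by rw [h7, map_zero])
  have h9 : Ideal.Quotient.mk m.toIdeal 1 = 0 := h8
  rw [Ideal.Quotient.eq_zero_iff_mem] at h9
  exact ne_top 𝒜 hpos h0 m hmsp ((Ideal.eq_top_iff_one _).2 h9)

include hρ in
omit [IsNoetherianRing R] in
theorem pair_mem {t j : ℤ} (htj : t + j = a) {c : R} (hc : c ∈ 𝒜 t) {h : H} (hh : h ∈ ℋ j) :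
    ρ (c • h) ∈ 𝓔 0 := by
  have h1 := SetLike.GradedSMul.smul_mem (A := 𝒜) (B := ℋ) hc hh
  rw [vadd_eq_add, htj] at h1
  have h2 := hρ a _ h1
  rwa [add_neg_cancel] at h2

/-- the pairing `R_t × H_j → E'_0` for `t + j = a`. -/
noncomputable def pairA {t j : ℤ} (htj : t + j = a) :
    comp 𝒜 𝒜 t →ₗ[deg0 𝒜] (comp 𝒜 ℋ j →ₗ[deg0 𝒜] comp 𝒜 𝓔 0) where
  toFun c :=
    { toFun := fun h => ⟨ρ (c.1 • h.1), pair_mem 𝒜 𝓔 ℋ a ρ hρ htj c.2 h.2⟩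
      map_add' := fun h h' => Subtype.ext (by
        change ρ (c.1 • (h.1 + h'.1)) = ρ (c.1 • h.1) + ρ (c.1 • h'.1)
        rw [smul_add, map_add])
      map_smul' := fun b h => Subtype.ext (by
        change ρ (c.1 • ((b : R) • h.1)) = (b : R) • ρ (c.1 • h.1)
        rw [smul_comm, map_smul]) }
  map_add' c c' := by
    apply LinearMap.ext
    intro h
    apply Subtype.ext
    change ρ ((c.1 + c'.1) • h.1) = ρ (c.1 • h.1) + ρ (c'.1 • h.1)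
    rw [add_smul, map_add]
  map_smul' b c := by
    apply LinearMap.ext
    intro h
    apply Subtype.ext
    change ρ (((b : R) * c.1) • h.1) = (b : R) • ρ (c.1 • h.1)
    rw [mul_smul, map_smul]

omit [IsNoetherianRing R] in
theorem pairA_apply {t j : ℤ} (htj : t + j = a) (c : comp 𝒜 𝒜 t) (h : comp 𝒜 ℋ j) :
    ((pairA 𝒜 𝓔 ℋ a ρ hρ htj c h : comp 𝒜 𝓔 0) : E') = ρ (c.1 • h.1) := rfl

include hpos h0 hmsp he hone hρu in
theorem pairA_injective {t j : ℤ} (htj : t + j = a)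
    (hnd : ∀ c ∈ 𝒜 t, c ≠ 0 → ∃ h ∈ ℋ j, c • h ≠ 0) :
    Function.Injective (pairA 𝒜 𝓔 ℋ a ρ hρ htj) := by
  rw [injective_iff_map_eq_zero]
  intro c hc
  by_contra hc0
  have hc0' : (c : R) ≠ 0 := fun h => hc0 (Subtype.ext h)
  obtain ⟨h, hh, hch⟩ := hnd c.1 c.2 hc0'
  have h1 : c.1 • h ∈ ℋ a := by
    have := SetLike.GradedSMul.smul_mem (A := 𝒜) (B := ℋ) c.2 hh
    rwa [vadd_eq_add, htj] at this
  apply rho_ne_zero 𝒜 hpos h0 m hmsp 𝓔 e he ℋ a u hone ρ hρu h1 hch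
  have h2 := LinearMap.congr_fun hc (⟨h, hh⟩ : comp 𝒜 ℋ j)
  exact congrArg Subtype.val h2

include hpos h0 hmsp he hone hρu in
theorem pairA_flip_injective {t j : ℤ} (htj : t + j = a)
    (hnd : ∀ h ∈ ℋ j, h ≠ 0 → ∃ c ∈ 𝒜 t, c • h ≠ 0) :
    Function.Injective (pairA 𝒜 𝓔 ℋ a ρ hρ htj).flip := by
  rw [injective_iff_map_eq_zero]
  intro h hh
  by_contra hh0
  have hh0' : (h : H) ≠ 0 := fun h' => hh0 (Subtype.ext h')
  obtain ⟨c, hc, hch⟩ := hnd h.1 h.2 hh0'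
  have h1 : c • h.1 ∈ ℋ a := by
    have := SetLike.GradedSMul.smul_mem (A := 𝒜) (B := ℋ) hc h.2
    rwa [vadd_eq_add, htj] at this
  apply rho_ne_zero 𝒜 hpos h0 m hmsp 𝓔 e he ℋ a u hone ρ hρu h1 hch
  have h2 := LinearMap.congr_fun hh (⟨c, hc⟩ : comp 𝒜 𝒜 t)
  exact congrArg Subtype.val h2

include hpos h0 hmsp he hone hρ hρu in
/-- one-sided nondegeneracy bounds the dimension of `H_j`. -/
theorem finite_of_flip_injective {t j : ℤ} (htj : t + j = a)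
    (hnd : ∀ h ∈ ℋ j, h ≠ 0 → ∃ c ∈ 𝒜 t, c • h ≠ 0) :
    Module.Finite (deg0 𝒜) (comp 𝒜 ℋ j) ∧
      Module.finrank (deg0 𝒜) (comp 𝒜 ℋ j) ≤ Module.finrank (deg0 𝒜) (comp 𝒜 𝒜 t) := by
  letI : Field (deg0 𝒜) := h0.toField
  haveI : IsNoetherian R R := inferInstance
  haveI hV : IsNoetherian (deg0 𝒜) (comp 𝒜 𝒜 t) :=
    Groth.Agent.Lib.Helper20.GrFin1.isNoetherian_comp 𝒜 𝒜 t
  haveI : Module.Finite (deg0 𝒜) (comp 𝒜 𝒜 t) := Module.IsNoetherian.finite _ _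
  have hL : Module.finrank (deg0 𝒜) (comp 𝒜 𝓔 0) = 1 :=
    finrank_comp_zero 𝒜 𝓔 hpos h0 m hmsp e he
  haveI : Module.Finite (deg0 𝒜) (comp 𝒜 𝓔 0) := Module.finite_of_finrank_eq_succ hL
  have hi := pairA_flip_injective 𝒜 hpos h0 m hmsp 𝓔 e he ℋ a u hone ρ hρ hρu htj hnd
  haveI hfin : Module.Finite (deg0 𝒜) (comp 𝒜 ℋ j) := Module.Finite.of_injective _ hi
  refine ⟨hfin, ?_⟩
  have h1 := LinearMap.finrank_le_finrank_of_injective hi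
  rwa [Module.finrank_linearMap, hL, mul_one] at h1

include hpos h0 hmsp he hone hρu in
/-- two-sided nondegeneracy makes the pairing perfect. -/
theorem pairA_surjective {t j : ℤ} (htj : t + j = a)
    (hnd1 : ∀ c ∈ 𝒜 t, c ≠ 0 → ∃ h ∈ ℋ j, c • h ≠ 0)
    (hnd2 : ∀ h ∈ ℋ j, h ≠ 0 → ∃ c ∈ 𝒜 t, c • h ≠ 0) :
    Function.Surjective (pairA 𝒜 𝓔 ℋ a ρ hρ htj) := by
  letI : Field (deg0 𝒜) := h0.toField
  haveI : IsNoetherian R R := inferInstance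
  haveI hV : IsNoetherian (deg0 𝒜) (comp 𝒜 𝒜 t) :=
    Groth.Agent.Lib.Helper20.GrFin1.isNoetherian_comp 𝒜 𝒜 t
  haveI : Module.Finite (deg0 𝒜) (comp 𝒜 𝒜 t) := Module.IsNoetherian.finite _ _
  have hL : Module.finrank (deg0 𝒜) (comp 𝒜 𝓔 0) = 1 :=
    finrank_comp_zero 𝒜 𝓔 hpos h0 m hmsp e he
  haveI : Module.Finite (deg0 𝒜) (comp 𝒜 𝓔 0) := Module.finite_of_finrank_eq_succ hL
  obtain ⟨hfin, hle⟩ := finite_of_flip_injective 𝒜 hpos h0 m hmsp 𝓔 e he ℋ a u hone ρ hρ hρu htj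
    hnd2
  haveI := hfin
  have hiA := pairA_injective 𝒜 hpos h0 m hmsp 𝓔 e he ℋ a u hone ρ hρ hρu htj hnd1
  have h1 : Module.finrank (deg0 𝒜) (LinearMap.range (pairA 𝒜 𝓔 ℋ a ρ hρ htj)) =
      Module.finrank (deg0 𝒜) (comp 𝒜 𝒜 t) := LinearMap.finrank_range_of_inj hiA
  have hfr : Module.finrank (deg0 𝒜) (comp 𝒜 ℋ j →ₗ[deg0 𝒜] comp 𝒜 𝓔 0) =
      Module.finrank (deg0 𝒜) (comp 𝒜 ℋ j) := by
    rw [Module.finrank_linearMap, hL, mul_one]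
  have h3 : Module.finrank (deg0 𝒜) (LinearMap.range (pairA 𝒜 𝓔 ℋ a ρ hρ htj)) =
      Module.finrank (deg0 𝒜) (comp 𝒜 ℋ j →ₗ[deg0 𝒜] comp 𝒜 𝓔 0) := by
    apply le_antisymm (Submodule.finrank_le _)
    rw [h1, hfr]
    exact hle
  have h2 : LinearMap.range (pairA 𝒜 𝓔 ℋ a ρ hρ htj) = ⊤ :=
    Submodule.eq_top_of_finrank_eq (K := deg0 𝒜)
      (V := (comp 𝒜 ℋ j →ₗ[deg0 𝒜] comp 𝒜 𝓔 0)) h3
  exact LinearMap.range_eq_top.1 h2

end main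

end Groth.Agent.Lib.Helper20.GrGorVer3
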