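import Mathlib
import Groth.Prelude.Def_GrLC
import Groth.Agent.Lib.Helper20.GrGorVer3

/-!
# Recognising `H ≅ *E(k)(a)` from Veronese data, II (helper20)
-/

set_option autoImplicit false
set_option linter.unusedSectionVars false
set_option linter.unusedVariables false
set_option linter.style.haveILetI false

universe u

open DirectSum GrLC Groth.Agent.Lib.Helper20.GrLCBasic Groth.Agent.Lib.Helper20.GrLCQuot
  Groth.Agent.Lib.Helper20.GrLCExt Groth.Agent.Lib.Helper20.GrFieldLocal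
  Groth.Agent.Lib.Helper20.GrHullDual Groth.Agent.Lib.Helper20.GrDual
  Groth.Agent.Lib.Helper20.GrCanonDim Groth.Agent.Lib.Helper20.GrGorVer1
  Groth.Agent.Lib.Helper20.GrGorVer3

namespace Groth.Agent.Lib.Helper20.GrGorVer4

section main

variable {R : Type u} [CommRing R] [IsNoetherianRing R] (𝒜 : ℤ → AddSubgroup R) [GradedRing 𝒜]
  (hpos : ∀ n : ℤ, n < 0 → 𝒜 n = ⊥) (h0 : IsField (deg0 𝒜))
  (m : HomogeneousIdeal 𝒜)
  (hmsp : m.toIdeal = Ideal.span (⋃ n ∈ Set.Ioi (0 : ℤ), (𝒜 n : Set R)))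
  (hstd : Ideal.span (⋃ n ∈ Set.Ioi (0 : ℤ), (𝒜 n : Set R)) =
    Ideal.span ((𝒜 1 : AddSubgroup R) : Set R))
  {E' : Type u} [AddCommGroup E'] [Module R E'] (𝓔 : ℤ → AddSubgroup E')
  [DirectSum.Decomposition 𝓔] [SetLike.GradedSMul 𝒜 𝓔]
  (e : (R ⧸ m.toIdeal) →ₗ[R] E') (he : IsStarInjHull 𝒜 (quotGr 𝒜 m) 𝓔 e)
  {H : Type u} [AddCommGroup H] [Module R H] (ℋ : ℤ → AddSubgroup H)
  [DirectSum.Decomposition ℋ] [SetLike.GradedSMul 𝒜 ℋ]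
  (a : ℤ) (u : H) (hu : u ∈ ℋ a) (hu0 : u ≠ 0)
  (hone : ∀ x ∈ ℋ a, ∃ c ∈ 𝒜 0, x = c • u)
  (htop : ∀ j, a < j → ℋ j = ⊥)


variable (ρ : H →ₗ[R] E') (hρ : ρ ∈ homDeg 𝒜 ℋ 𝓔 (-a)) (hρu : ρ u = e 1)
  (q : ℕ) (hq : 0 < q) (hqa : (q : ℤ) ∣ a)
  (hS3 : ∀ j : ℤ, (q : ℤ) ∣ j → ∀ h ∈ ℋ j, h ≠ 0 → ∃ r ∈ 𝒜 (a - j), r • h ≠ 0)
  (hS4 : ∀ t : ℤ, (q : ℤ) ∣ t → ∀ c ∈ 𝒜 t, c ≠ 0 → ∃ h ∈ ℋ (a - t), c • h ≠ 0)
  (htors : ∀ c : R, (∀ r ∈ m.toIdeal, r * c = 0) → c = 0)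
  (hreg : ∃ x y : R, x ∈ m.toIdeal ∧ y ∈ m.toIdeal ∧ (∀ b : R, x * b = 0 → b = 0) ∧
    (∀ b b' : R, y * b = x * b' → ∃ c, b = x * c) ∧ (∀ h : H, ∃ h' : H, h = x • h'))

include hmsp hstd htors in
omit [IsNoetherianRing R] in
theorem exists_mul_ne_zero {c : R} (hc0 : c ≠ 0) : ∃ r ∈ 𝒜 1, r * c ≠ 0 := by
  by_contra hcon
  push_neg at hcon
  apply hc0
  apply htors
  intro r hr
  rw [hmsp, hstd] at hr
  refine Submodule.span_induction (p := fun r _ => r * c = 0) ?_ ?_ ?_ ?_ hr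
  · intro x hx
    exact hcon x hx
  · exact zero_mul _
  · intro x y _ _ hx hy
    rw [add_mul, hx, hy, add_zero]
  · intro b x _ hx
    rw [smul_eq_mul, mul_assoc, hx, mul_zero]

include hmsp hstd htors hS4 in
omit [IsNoetherianRing R] in
theorem exists_smul_ne_zero_aux : ∀ (s : ℕ) (t : ℤ), (q : ℤ) ∣ (t + s) → ∀ c ∈ 𝒜 t, c ≠ 0 →
    ∃ h ∈ ℋ (a - t), c • h ≠ 0 := by
  intro s
  induction s with
  | zero =>
    intro t hts c hc hc0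
    have : (q : ℤ) ∣ t := by
      have h1 : t + ((0 : ℕ) : ℤ) = t := by push_cast; ring
      rwa [h1] at hts
    exact hS4 t this c hc hc0
  | succ s ih =>
    intro t hts c hc hc0
    obtain ⟨r, hr, hrc⟩ := exists_mul_ne_zero 𝒜 m hmsp hstd htors hc0
    have hrc' : r * c ∈ 𝒜 (1 + t) := SetLike.GradedMul.mul_mem hr hc
    have hd : (q : ℤ) ∣ ((1 + t) + s) := by
      have h1 : t + ((s + 1 : ℕ) : ℤ) = (1 + t) + s := by push_cast; ring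
      rwa [h1] at hts
    obtain ⟨h, hh, hne⟩ := ih (1 + t) hd (r * c) hrc' hrc
    refine ⟨r • h, ?_, ?_⟩
    · have := SetLike.GradedSMul.smul_mem (A := 𝒜) (B := ℋ) hr hh
      rw [vadd_eq_add] at this
      have hidx : 1 + (a - (1 + t)) = a - t := by ring
      rwa [hidx] at this
    · rwa [← mul_smul, mul_comm]

include hmsp hstd htors hS4 hq in
omit [IsNoetherianRing R] in
/-- right nondegeneracy in all degrees. -/
theorem exists_smul_ne_zero_gen (t : ℤ) {c : R} (hc : c ∈ 𝒜 t) (hc0 : c ≠ 0) :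
    ∃ h ∈ ℋ (a - t), c • h ≠ 0 := by
  have hq' : (0 : ℤ) < q := by exact_mod_cast hq
  have h1 : 0 ≤ (-t) % (q : ℤ) := Int.emod_nonneg _ hq'.ne'
  refine exists_smul_ne_zero_aux 𝒜 m hmsp hstd ℋ a q hS4 htors ((-t) % (q : ℤ)).toNat t ?_ c hc hc0
  rw [Int.toNat_of_nonneg h1]
  have h2 : t + (-t) % (q : ℤ) = -((-t) - (-t) % (q : ℤ)) := by ring
  rw [h2, dvd_neg]
  exact Int.dvd_self_sub_emod

include hpos h0 hmsp hstd he hone hρ hρu htop htors hS4 hq in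
/-- `ρ` has zero annihilator. -/
theorem smul_rho_eq_zero (c : R) (hc : c • ρ = 0) : c = 0 := by
  classical
  by_contra hc0
  have hex : ∃ t, ((decompose 𝒜 c t : 𝒜 t) : R) ≠ 0 := by
    by_contra hcon
    push_neg at hcon
    apply hc0
    rw [← DirectSum.sum_support_decompose 𝒜 c]
    exact Finset.sum_eq_zero (fun t _ => hcon t)
  obtain ⟨t, ht⟩ := hex
  obtain ⟨h, hh, hne⟩ := exists_smul_ne_zero_gen 𝒜 m hmsp hstd ℋ a q hq hS4 htors t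
    (SetLike.coe_mem (decompose 𝒜 c t)) ht
  have hgr : IsGrHom ℋ (shiftGr 𝓔 (-a)) ρ := fun j x hx => hρ j x hx
  have hK : (LinearMap.ker ρ).IsHomogeneous ℋ := ker_isHomogeneous ℋ (shiftGr 𝓔 (-a)) ρ hgr
  have h1 : c • h ∈ LinearMap.ker ρ := by
    rw [LinearMap.mem_ker, map_smul, ← LinearMap.smul_apply, hc, LinearMap.zero_apply]
  have h2 := hK (t + (a - t)) h1
  rw [decompose_smul_right 𝒜 ℋ hh c t, LinearMap.mem_ker] at h2
  have h3 : ((decompose 𝒜 c t : 𝒜 t) : R) • h ∈ ℋ a := by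
    have := SetLike.GradedSMul.smul_mem (A := 𝒜) (B := ℋ) (SetLike.coe_mem (decompose 𝒜 c t)) hh
    rw [vadd_eq_add] at this
    have hidx : t + (a - t) = a := by ring
    rwa [hidx] at this
  exact rho_ne_zero 𝒜 hpos h0 m hmsp 𝓔 e he ℋ a u hone ρ hρu h3 hne h2

include hpos h0 hmsp he hone hρ hρu hqa hS3 hS4 in
/-- perfectness in the degrees divisible by `q`. -/
theorem hom_eq_smul_of_dvd (d : ℤ) (hd : (q : ℤ) ∣ (d + a)) (ξ : H →ₗ[R] E')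
    (hξ : ξ ∈ homDeg 𝒜 ℋ 𝓔 d) : ∃ c : R, ξ = c • ρ := by
  have hqd : (q : ℤ) ∣ d := (Int.dvd_add_left hqa).1 hd
  have htj : (a + d) + (-d) = a := by ring
  have hnd1 : ∀ c ∈ 𝒜 (a + d), c ≠ 0 → ∃ h ∈ ℋ (-d), c • h ≠ 0 := by
    intro c hc hc0
    obtain ⟨h, hh, hne⟩ := hS4 (a + d) (dvd_add hqa hqd) c hc hc0
    have hidx : a - (a + d) = -d := by ring
    rw [hidx] at hh
    exact ⟨h, hh, hne⟩
  have hnd2 : ∀ h ∈ ℋ (-d), h ≠ 0 → ∃ c ∈ 𝒜 (a + d), c • h ≠ 0 := by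
    intro h hh hh0
    obtain ⟨r, hr, hne⟩ := hS3 (-d) ((dvd_neg).2 hqd) h hh hh0
    have hidx : a - (-d) = a + d := by ring
    rw [hidx] at hr
    exact ⟨r, hr, hne⟩
  have hsurj := pairA_surjective 𝒜 hpos h0 m hmsp 𝓔 e he ℋ a u hone ρ hρ hρu htj hnd1 hnd2
  let ξ₀ : comp 𝒜 ℋ (-d) →ₗ[deg0 𝒜] comp 𝒜 𝓔 0 :=
    { toFun := fun h => ⟨ξ h.1, by
        have := hξ (-d) h.1 h.2
        rwa [neg_add_cancel] at this⟩
      map_add' := fun h h' => Subtype.ext (map_add ξ h.1 h'.1)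
      map_smul' := fun b h => Subtype.ext (map_smul ξ (b : R) h.1) }
  obtain ⟨c, hc⟩ := hsurj ξ₀
  refine ⟨c.1, ?_⟩
  by_contra hne
  have hζ : ξ - c.1 • ρ ≠ 0 := sub_ne_zero.2 hne
  have hζd : ξ - c.1 • ρ ∈ homDeg 𝒜 ℋ 𝓔 d := by
    apply Submodule.sub_mem _ hξ
    have := smul_mem_homDeg 𝒜 𝓔 ℋ c.2 hρ
    have hidx : -a + (a + d) = d := by ring
    rwa [hidx] at this
  obtain ⟨x, hx, hne'⟩ := exists_ne_zero_of_hom_ne_zero 𝒜 hpos m hmsp 𝓔 e he ℋ hζd hζ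
  apply hne'
  rw [LinearMap.sub_apply, LinearMap.smul_apply, sub_eq_zero]
  have h1 := LinearMap.congr_fun hc (⟨x, hx⟩ : comp 𝒜 ℋ (-d))
  have h2 := congrArg Subtype.val h1
  rw [pairA_apply] at h2
  change ρ (c.1 • x) = ξ x at h2
  rw [← h2, map_smul]

include hreg in
omit [IsNoetherianRing R] [DirectSum.Decomposition ℋ] [SetLike.GradedSMul 𝒜 ℋ] in
/-- regular pairs inside every power of the irrelevant ideal. -/
theorem exists_regular_pair_pow (N : ℕ) : ∃ x y : R, x ∈ m.toIdeal ^ N ∧ y ∈ m.toIdeal ^ N ∧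
    (∀ b b' : R, y * b = x * b' → ∃ c, b = x * c) ∧ (∀ h : H, ∃ h' : H, h = x • h') := by
  obtain ⟨x, y, hx, hy, hxr, hyr, hxH⟩ := hreg
  refine ⟨x ^ N, y ^ N, Ideal.pow_mem_pow hx N, Ideal.pow_mem_pow hy N, ?_, ?_⟩
  · have h1 := reg_pow_left x y hxr hyr N
    exact reg_pow_right (x ^ N) y h1 N
  · induction N with
    | zero =>
      intro h
      exact ⟨h, by rw [pow_zero, one_smul]⟩
    | succ N ih =>
      intro h
      obtain ⟨h', rfl⟩ := ih h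
      obtain ⟨h'', rfl⟩ := hxH h'
      exact ⟨h'', by rw [pow_succ, mul_smul]⟩

include hpos h0 hmsp hstd he hu hu0 hone htop hρ hρu hq hqa hS3 hS4 htors hreg in
/-- **`H` is a shift of the `*`injective envelope of the residue field.** -/
theorem exists_equiv : ∃ ψ : H ≃ₗ[R] E', ∀ j, ∀ x ∈ ℋ j, ψ x ∈ 𝓔 (j - a) := by
  classical
  letI : Field (deg0 𝒜) := h0.toField
  have hann := smul_rho_eq_zero 𝒜 hpos h0 m hmsp hstd 𝓔 e he ℋ a u hone htop ρ hρ hρu q hq hS4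
    htors
  have hperf := hom_eq_smul_of_dvd 𝒜 hpos h0 m hmsp 𝓔 e he ℋ a u hone ρ hρ hρu q hqa hS3 hS4
  have hregN := exists_regular_pair_pow 𝒜 m (H := H) hreg
  have hnd : ∀ j, ∀ x ∈ ℋ j, x ≠ 0 → ∃ r ∈ 𝒜 (a - j), r • x ≠ 0 := fun j x hx hx0 =>
    exists_smul_ne_zero_top 𝒜 hpos h0 m hmsp hstd 𝓔 e he ℋ a ρ hρ q hq hann hperf hregN hx hx0
  have hdim : ∀ d, Module.finrank (deg0 𝒜) (comp 𝒜 𝒜 d) ≤
      Module.finrank (deg0 𝒜) (comp 𝒜 ℋ (a - d)) := by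
    intro d
    have htj : d + (a - d) = a := by ring
    have hnd2 : ∀ h ∈ ℋ (a - d), h ≠ 0 → ∃ c ∈ 𝒜 d, c • h ≠ 0 := by
      intro h hh hh0
      obtain ⟨r, hr, hne⟩ := hnd (a - d) h hh hh0
      have hidx : a - (a - d) = d := by ring
      rw [hidx] at hr
      exact ⟨r, hr, hne⟩
    have hnd1 : ∀ c ∈ 𝒜 d, c ≠ 0 → ∃ h ∈ ℋ (a - d), c • h ≠ 0 := fun c hc hc0 =>
      exists_smul_ne_zero_gen 𝒜 m hmsp hstd ℋ a q hq hS4 htors d hc hc0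
    obtain ⟨hfin, -⟩ := finite_of_flip_injective 𝒜 hpos h0 m hmsp 𝓔 e he ℋ a u hone ρ hρ hρu htj
      hnd2
    haveI := hfin
    haveI : IsNoetherian R R := inferInstance
    haveI hV : IsNoetherian (deg0 𝒜) (comp 𝒜 𝒜 d) :=
      Groth.Agent.Lib.Helper20.GrFin1.isNoetherian_comp 𝒜 𝒜 d
    haveI : Module.Finite (deg0 𝒜) (comp 𝒜 𝒜 d) := Module.IsNoetherian.finite _ _
    have hL : Module.finrank (deg0 𝒜) (comp 𝒜 𝓔 0) = 1 :=
      finrank_comp_zero 𝒜 𝓔 hpos h0 m hmsp e he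
    haveI : Module.Finite (deg0 𝒜) (comp 𝒜 𝓔 0) := Module.finite_of_finrank_eq_succ hL
    have hiA := pairA_injective 𝒜 hpos h0 m hmsp 𝓔 e he ℋ a u hone ρ hρ hρu htj hnd1
    have h1 := LinearMap.finrank_le_finrank_of_injective hiA
    rwa [Module.finrank_linearMap, hL, mul_one] at h1
  exact Groth.Agent.Lib.Helper20.GrHullChar.exists_equiv_hull 𝒜 hpos h0 m hmsp 𝓔 e he ℋ a u hu hu0
    htop hone hnd hdim

end main

end Groth.Agent.Lib.Helper20.GrGorVer4
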