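import Mathlib
import Groth.Prelude.Def_GrLC
import Groth.Agent.Lib.Helper20.GrVerRing
import Groth.Agent.Lib.Helper20.GrHullChar

/-!
# A graded module over the Veronese subring compared with the `*`injective envelope of the residue
field of the big ring (helper20)
-/

set_option autoImplicit false
set_option linter.unusedSectionVars false
set_option linter.unusedVariables false
set_option linter.style.haveILetI false

universe u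

open DirectSum GrLC Groth.Agent.Lib.Helper20.GrLCBasic Groth.Agent.Lib.Helper20.GrLCQuot
  Groth.Agent.Lib.Helper20.GrVeronese Groth.Agent.Lib.Helper20.GrVerRing
  Groth.Agent.Lib.Helper20.GrFieldLocal
  Groth.Agent.Lib.Helper20.GrHullDual Groth.Agent.Lib.Helper20.GrCanonShift
  Groth.Agent.Lib.Helper20.GrHullChar

namespace Groth.Agent.Lib.Helper20.GrVerHull

variable {R : Type u} [CommRing R] [IsNoetherianRing R] (𝒜 : ℤ → AddSubgroup R)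
  [GradedRing 𝒜] (hpos : ∀ n : ℤ, n < 0 → 𝒜 n = ⊥) (h0 : IsField (GrLC.deg0 𝒜))
  (m : HomogeneousIdeal 𝒜)
  (hmsp : m.toIdeal = Ideal.span (⋃ n ∈ Set.Ioi (0 : ℤ), (𝒜 n : Set R)))
  {E' : Type u} [AddCommGroup E'] [Module R E'] (𝓔 : ℤ → AddSubgroup E')
  [DirectSum.Decomposition 𝓔] [SetLike.GradedSMul 𝒜 𝓔]
  (e : (R ⧸ m.toIdeal) →ₗ[R] E') (he : IsStarInjHull 𝒜 (quotGr 𝒜 m) 𝓔 e)
  (q : ℕ) (hq : 0 < q) {R' : Type u} [CommRing R'] (𝒜' : ℤ → AddSubgroup R') [GradedRing 𝒜']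
  (φ : R' →+* R) (hφ : Function.Injective φ)
  (hdeg : ∀ j : ℤ, (𝒜' j).map (φ : R' →+ R) = 𝒜 (j * q))
  {H' : Type u} [AddCommGroup H'] [Module R' H'] (ℋ : ℤ → AddSubgroup H')
  [DirectSum.Decomposition ℋ] [SetLike.GradedSMul 𝒜' ℋ]
  (g₀ : ℤ) (Ψ : E' →+ H')
  (hΨ1 : ∀ (r : R') (y : E'), Ψ (φ r • y) = r • Ψ y)
  (hΨ2 : ∀ (j : ℤ) (y : E'), y ∈ 𝓔 (j * q + g₀) → Ψ y ∈ ℋ j)
  (hΨ3 : ∀ (j : ℤ) (y : E'), y ∈ 𝓔 (j * q + g₀) → Ψ y = 0 → y = 0)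
  (hΨ4 : ∀ (j : ℤ) (x : H'), x ∈ ℋ j → ∃ y ∈ 𝓔 (j * q + g₀), Ψ y = x)

include hφ hdeg hΨ1 hΨ2 hΨ3 hΨ4 in
/-- the pieces of `H'` have the dimensions of the corresponding pieces of the envelope. -/
theorem finrank_piece (j : ℤ) :
    Module.finrank (deg0 𝒜') (comp 𝒜' ℋ j) = Module.finrank (deg0 𝒜) (comp 𝒜 𝓔 (j * q + g₀)) := by
  let T : comp 𝒜 𝓔 (j * q + g₀) →+ comp 𝒜' ℋ j :=
    { toFun := fun y => ⟨Ψ y.1, hΨ2 j y.1 y.2⟩
      map_zero' := Subtype.ext (map_zero Ψ)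
      map_add' := fun x y => Subtype.ext (map_add Ψ x.1 y.1) }
  have hT : Function.Bijective T := by
    constructor
    · rw [injective_iff_map_eq_zero]
      intro y hy
      apply Subtype.ext
      exact hΨ3 j y.1 y.2 (congrArg Subtype.val hy)
    · rintro ⟨x, hx⟩
      obtain ⟨y, hy, hyx⟩ := hΨ4 j x hx
      exact ⟨⟨y, hy⟩, Subtype.ext hyx⟩
  let Te := AddEquiv.ofBijective T hT
  have hTsmul : ∀ (r : deg0 𝒜') (y : comp 𝒜 𝓔 (j * q + g₀)),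
      Te (i0 𝒜 𝒜' φ q hdeg r • y) = r • Te y := by
    intro r y
    apply Subtype.ext
    exact hΨ1 (r : R') y.1
  have hrank := rank_eq_of_equiv_equiv (i0 𝒜 𝒜' φ q hdeg) Te.symm
    (i0_bijective 𝒜 𝒜' φ hφ q hdeg) (fun r y => by
    apply Te.injective
    rw [AddEquiv.apply_symm_apply, hTsmul, AddEquiv.apply_symm_apply])
  unfold Module.finrank
  rw [hrank]

variable (m' : HomogeneousIdeal 𝒜')
  (hm'sp : m'.toIdeal = Ideal.span (⋃ j ∈ Set.Ioi (0 : ℤ), (𝒜' j : Set R')))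
  {E'' : Type u} [AddCommGroup E''] [Module R' E''] (𝓔' : ℤ → AddSubgroup E'')
  [DirectSum.Decomposition 𝓔'] [SetLike.GradedSMul 𝒜' 𝓔']
  (e' : (R' ⧸ m'.toIdeal) →ₗ[R'] E'') (he' : IsStarInjHull 𝒜' (quotGr 𝒜' m') 𝓔' e')

include hpos h0 hmsp he hq hφ hdeg hΨ1 hΨ2 hΨ3 hΨ4 hm'sp he' in
set_option maxHeartbeats 1000000 in
/-- **if `q` divides the shift, `H'` is a shift of the `*`injective envelope of the residue field
of the Veronese subring.** -/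
theorem exists_equiv_hull_of_dvd (g' : ℤ) (hg' : g₀ = g' * q) :
    ∃ ψ : H' ≃ₗ[R'] E'', ∀ j, ∀ x ∈ ℋ j, ψ x ∈ 𝓔' (j + g') := by
  classical
  haveI : IsNoetherianRing R' := isNoetherianRing_veronese 𝒜 𝒜' φ q hdeg hφ
  have hpos' := hpos' 𝒜 𝒜' φ hφ q hq hdeg hpos
  have h0' := isField_deg0' 𝒜 𝒜' φ hφ q hdeg h0
  have hmne : m.toIdeal ≠ ⊤ := ne_top 𝒜 hpos h0 m hmsp
  have hmpos : ∀ n : ℤ, 0 < n → ∀ x ∈ 𝒜 n, x ∈ m.toIdeal :=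
    fun n hn x hx => mem_of_pos 𝒜 m hmsp hn hx
  have hq' : (0 : ℤ) < q := by exact_mod_cast hq
  have he1 : e 1 ≠ 0 := by
    intro h6
    have h7 : (1 : R ⧸ m.toIdeal) = 0 := he.injective (by rw [h6, map_zero])
    have h8 : Ideal.Quotient.mk m.toIdeal 1 = 0 := h7
    rw [Ideal.Quotient.eq_zero_iff_mem] at h8
    exact hmne ((Ideal.eq_top_iff_one _).2 h8)
  have hz : -g' * q + g₀ = 0 := by rw [hg']; ring
  have he1mem : e 1 ∈ 𝓔 (-g' * q + g₀) := by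
    rw [hz]
    exact range_le_zero' 𝒜 hpos m hmsp 𝓔 e he 1
  have hu : Ψ (e 1) ∈ ℋ (-g') := hΨ2 (-g') (e 1) he1mem
  have hu0 : Ψ (e 1) ≠ 0 := fun h => he1 (hΨ3 (-g') (e 1) he1mem h)
  have htop : ∀ j, -g' < j → ℋ j = ⊥ := by
    intro j hj
    rw [eq_bot_iff]
    intro x hx
    obtain ⟨y, hy, rfl⟩ := hΨ4 j x hx
    have h1 : 0 < j * q + g₀ := by
      rw [hg', ← add_mul]
      exact mul_pos (by omega) hq'
    rw [hull_eq_bot_of_pos 𝒜 hpos m hmpos 𝓔 e he _ h1, AddSubgroup.mem_bot] at hy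
    rw [hy, map_zero]
    exact zero_mem _
  have hone : ∀ x ∈ ℋ (-g'), ∃ c ∈ 𝒜' 0, x = c • Ψ (e 1) := by
    intro x hx
    obtain ⟨y, hy, rfl⟩ := hΨ4 (-g') x hx
    rw [hz] at hy
    obtain ⟨c₀, hc₀, rfl⟩ := exists_smul_eq_of_mem_zero 𝒜 𝓔 hpos h0 m hmsp e he hy
    have hc₀' : c₀ ∈ 𝒜 (0 * q) := by rwa [zero_mul]
    obtain ⟨c, hc, rfl⟩ := exists_of_mem 𝒜 𝒜' φ q hdeg hc₀'
    exact ⟨c, hc, hΨ1 c (e 1)⟩
  have hnd : ∀ j, ∀ x ∈ ℋ j, x ≠ 0 → ∃ r ∈ 𝒜' (-g' - j), r • x ≠ 0 := by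
    intro j x hx hx0
    obtain ⟨y, hy, rfl⟩ := hΨ4 j x hx
    have hy0 : y ≠ 0 := by
      intro h
      apply hx0
      rw [h, map_zero]
    obtain ⟨r₀, hr₀, hry, -⟩ := exists_smul_ne_zero 𝒜 hpos m hmsp 𝓔 e he hy hy0
    have hr₀' : r₀ ∈ 𝒜 ((-g' - j) * q) := by
      have : (-g' - j) * q = -(j * q + g₀) := by rw [hg']; ring
      rwa [this]
    obtain ⟨r, hr, rfl⟩ := exists_of_mem 𝒜 𝒜' φ q hdeg hr₀'
    refine ⟨r, hr, ?_⟩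
    rw [← hΨ1]
    intro h
    apply hry
    refine hΨ3 (-g') _ ?_ h
    rw [hz]
    have := SetLike.GradedSMul.smul_mem (A := 𝒜) (B := 𝓔) hr₀ hy
    rwa [vadd_eq_add, neg_add_cancel] at this
  have hdim : ∀ d, Module.finrank (deg0 𝒜') (comp 𝒜' 𝒜' d) ≤
      Module.finrank (deg0 𝒜') (comp 𝒜' ℋ (-g' - d)) := by
    intro d
    rw [finrank_comp_veronese 𝒜 𝒜' φ hφ q hdeg d,
      finrank_piece 𝒜 𝓔 q 𝒜' φ hφ hdeg ℋ g₀ Ψ hΨ1 hΨ2 hΨ3 hΨ4 (-g' - d),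
      ← finrank_comp_neg 𝒜 𝓔 hpos h0 m hmsp e he (d * q)]
    have : (-g' - d) * q + g₀ = -(d * q) := by rw [hg']; ring
    rw [this]
  obtain ⟨ψ, hψ⟩ := exists_equiv_hull 𝒜' hpos' h0' m' hm'sp 𝓔' e' he' ℋ (-g') (Ψ (e 1)) hu hu0
    htop hone hnd hdim
  refine ⟨ψ, fun j x hx => ?_⟩
  have := hψ j x hx
  rwa [sub_neg_eq_add] at this

end Groth.Agent.Lib.Helper20.GrVerHull
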