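import Mathlib
import Groth.Prelude.Def_GrLC
import Groth.Agent.Lib.Helper20.GrVerTop
import Groth.Agent.Lib.Helper20.GrVerHull
import Groth.Agent.Lib.Helper20.GrConcentrated
import Groth.Agent.Lib.Helper20.GrGorCrit
import Groth.Agent.Lib.Helper20.GrHeight2
import Groth.Agent.Lib.Helper20.GrLCHull

/-!
# Veronese subrings of Gorenstein graded rings: `q ∣ a(R)` implies `R^{(q)}` Gorenstein (helper20)
-/

set_option autoImplicit false
set_option linter.unusedSectionVars false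
set_option linter.unusedVariables false
set_option linter.style.haveILetI false

universe u

open DirectSum GrLC Groth.Agent.Lib.Helper20.GrLCBasic Groth.Agent.Lib.Helper20.GrLCQuot
  Groth.Agent.Lib.Helper20.GrVeronese Groth.Agent.Lib.Helper20.GrVerRing
  Groth.Agent.Lib.Helper20.GrFieldLocal Groth.Agent.Lib.Helper20.GrVerTop
  Groth.Agent.Lib.Helper20.GrVerHull

namespace Groth.Agent.Lib.Helper20.GrVerGor

/-- the height of the irrelevant ideal from the dimension. -/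
theorem height_eq_of_dim {R : Type u} [CommRing R] [IsNoetherianRing R] (𝒜 : ℤ → AddSubgroup R)
    [GradedRing 𝒜] (hpos : ∀ n : ℤ, n < 0 → 𝒜 n = ⊥) (m : HomogeneousIdeal 𝒜)
    (hm : GrLC.IsStarLocal 𝒜 m) (n : ℕ) (hn : ringKrullDim R = n) : m.toIdeal.height = n := by
  have h := Groth.Agent.Lib.Helper20.GrHeight2.ringKrullDim_eq_height 𝒜 m hm hpos
  rw [hn] at h
  have h2 : ((n : ℕ∞) : WithBot ℕ∞) = (m.toIdeal.height : WithBot ℕ∞) := by exact_mod_cast h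
  exact (WithBot.coe_injective h2).symm

set_option maxHeartbeats 1000000 in
/-- **Goto–Watanabe**: if `q` divides the `a`-invariant of the Gorenstein graded ring `R` over a
field, the Veronese subring `R^{(q)}` is Gorenstein. -/
theorem isGorensteinRing_veronese (R : Type u) [CommRing R] [LocCoh.IsGorensteinRing R]
    (𝒜 : ℤ → AddSubgroup R) [GradedRing 𝒜] (hpos : ∀ n : ℤ, n < 0 → 𝒜 n = ⊥)
    (h0 : IsField (GrLC.deg0 𝒜)) (m : HomogeneousIdeal 𝒜) (hm : GrLC.IsStarLocal 𝒜 m)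
    (hmsp : m.toIdeal = Ideal.span (⋃ n ∈ Set.Ioi (0 : ℤ), (𝒜 n : Set R))) (n : ℕ)
    (hn : ringKrullDim R = n) (I : GrLC.StarInjRes 𝒜 𝒜) (a : ℤ)
    (ha : GrLC.endDeg (I.Hgr m n) = ((a : WithTop ℤ) : WithBot (WithTop ℤ))) (q : ℕ) (hq : 0 < q)
    (R' : Type u) [CommRing R'] (𝒜' : ℤ → AddSubgroup R') [GradedRing 𝒜'] (φ : R' →+* R)
    (hφ : Function.Injective φ) (hdeg : ∀ j : ℤ, (𝒜' j).map (φ : R' →+ R) = 𝒜 (j * q))
    (hdvd : (q : ℤ) ∣ a) : LocCoh.IsGorensteinRing R' := by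
  classical
  haveI : IsNoetherianRing R := inferInstance
  haveI : IsNoetherianRing R' := isNoetherianRing_veronese 𝒜 𝒜' φ q hdeg hφ
  have hht : m.toIdeal.height = n := height_eq_of_dim 𝒜 hpos m hm n hn
  have hpos' := hpos' 𝒜 𝒜' φ hφ q hq hdeg hpos
  have h0' := isField_deg0' 𝒜 𝒜' φ hφ q hdeg h0
  let m' : HomogeneousIdeal 𝒜' := mV 𝒜'
  have hm'sp : m'.toIdeal = Ideal.span (⋃ j ∈ Set.Ioi (0 : ℤ), (𝒜' j : Set R')) := rfl
  have hm' : IsStarLocal 𝒜' m' := isStarLocal 𝒜' hpos' h0' m' hm'sp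
  haveI hm'max : m'.toIdeal.IsMaximal := isMaximal 𝒜' hpos' h0' m' hm'sp
  haveI hm'p : m'.toIdeal.IsPrime := hm'max.isPrime
  obtain ⟨F, -, -⟩ := Groth.Agent.Lib.Helper20.GrMinRes.exists_minimal 𝒜' 𝒜'
  -- the envelopes
  letI : DirectSum.Decomposition (GrLC.quotGr 𝒜 m) :=
    (isInternal_quotGr 𝒜 (m.toIdeal : Submodule R R) m.isHomogeneous).chooseDecomposition
  letI : SetLike.GradedSMul 𝒜 (GrLC.quotGr 𝒜 m) :=
    quotGr_gradedSMul (𝒜 := 𝒜) (𝓧 := 𝒜) (P := (m.toIdeal : Submodule R R))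
  obtain ⟨E', e, he⟩ := Groth.Agent.Lib.Helper20.GrLCHull.exists_starInjHull 𝒜 (GrLC.quotGr 𝒜 m)
  letI : DirectSum.Decomposition (GrLC.quotGr 𝒜' m') :=
    (isInternal_quotGr 𝒜' (m'.toIdeal : Submodule R' R') m'.isHomogeneous).chooseDecomposition
  letI : SetLike.GradedSMul 𝒜' (GrLC.quotGr 𝒜' m') :=
    quotGr_gradedSMul (𝒜 := 𝒜') (𝓧 := 𝒜') (P := (m'.toIdeal : Submodule R' R'))
  obtain ⟨E'', e', he'⟩ := Groth.Agent.Lib.Helper20.GrLCHull.exists_starInjHull 𝒜'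
    (GrLC.quotGr 𝒜' m')
  obtain ⟨g₀, Ψ, hend, hΨ1, hΨ2, hΨ3, hΨ4⟩ := exists_hull_comparison R 𝒜 hpos h0 m hm hmsp n hht
    I E'.gr e he q hq 𝒜' φ hφ hdeg m' hm'sp F
  have hag : a = -g₀ := by
    rw [ha] at hend
    exact_mod_cast hend
  obtain ⟨g', hg'⟩ : ∃ g' : ℤ, g₀ = g' * q := by
    obtain ⟨c, hc⟩ := hdvd
    refine ⟨-c, ?_⟩
    rw [hag] at hc
    rw [neg_mul, mul_comm, ← hc, neg_neg]
  letI := Groth.Agent.Lib.Helper20.GrLES2.decH F m' n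
  obtain ⟨ψ, hψ⟩ := exists_equiv_hull_of_dvd 𝒜 hpos h0 m hmsp E'.gr e he q hq 𝒜' φ hφ hdeg
    (F.Hgr m' n) g₀ Ψ hΨ1 hΨ2 hΨ3 hΨ4 m' hm'sp E''.gr e' he' g' hg'
  have hconc := Groth.Agent.Lib.Helper20.GrConcentrated.bassNum_eq_zero_of_concentrated 𝒜' 𝒜' m' n
    F (fun p hp => subsingleton_H_veronese R 𝒜 m hm hmsp n hht I q hq 𝒜' φ hφ hdeg m' hm'sp F p hp)
    (Groth.Agent.Lib.Helper20.GrLCExt.shiftGMod 𝒜' E'' g') ψ
    (Groth.Agent.Lib.Helper20.GrLCExt.isStarInj_shift 𝒜' E''.gr he'.starInj g')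
    (fun j x hx => hψ j x hx)
  exact Groth.Agent.Lib.Helper20.GrGorCrit.isGorensteinRing_of_bassNum 𝒜' m' hm' n
    (fun i hi => hconc i (by omega))

end Groth.Agent.Lib.Helper20.GrVerGor
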