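import Mathlib
import Groth.Prelude.Def_GrLC
import Groth.Agent.Lib.Helper20.GrGorVer2
import Groth.Agent.Lib.Helper20.GrGorVer4
import Groth.Agent.Lib.Helper20.GrVerGor
import Groth.Agent.Lib.Helper20.DepthMaxLoc

/-!
# Goto–Watanabe: if `R^{(q)}` is Gorenstein then `R` is Gorenstein and `q ∣ a(R)` (helper20)
-/

set_option autoImplicit false
set_option linter.unusedSectionVars false
set_option linter.unusedVariables false
set_option linter.style.haveILetI false

universe u

open DirectSum GrLC Groth.Agent.Lib.Helper20.GrLCBasic Groth.Agent.Lib.Helper20.GrLCQuot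
  Groth.Agent.Lib.Helper20.GrLCExt Groth.Agent.Lib.Helper20.GrFieldLocal
  Groth.Agent.Lib.Helper20.GrHullDual Groth.Agent.Lib.Helper20.GrVeronese
  Groth.Agent.Lib.Helper20.GrVerRing Groth.Agent.Lib.Helper20.GrVeronese2
  Groth.Agent.Lib.Helper20.GrVerTop Groth.Agent.Lib.Helper20.GrVerGor
  Groth.Agent.Lib.Helper20.GrCanonDim
  RingTheory.Sequence nonZeroDivisors

namespace Groth.Agent.Lib.Helper20.GrGorVer5

section ungraded

variable {R : Type u} [CommRing R] [LocCoh.IsCohenMacaulayRing R]

/-- in a Cohen–Macaulay ring the grade of a maximal ideal is its height. -/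
theorem le_idealDepth_of_le_height (m : Ideal R) [hm : m.IsMaximal] (k : ℕ)
    (hk : (k : ℕ∞) ≤ m.height) : (k : ℕ∞) ≤ LocCoh.idealDepth m R := by
  haveI : IsNoetherianRing R := inferInstance
  haveI : m.IsPrime := hm.isPrime
  have hCM := LocCoh.IsCohenMacaulayRing.isCohenMacaulayLocalRing_localization (R := R) m
  have h1 := hCM.supportDim_eq_depth
  rw [Module.supportDim_self_eq_ringKrullDim,
    IsLocalization.AtPrime.ringKrullDim_eq_height m (Localization.AtPrime m)] at h1
  have h2 : m.height = LocCoh.depth (Localization.AtPrime m) (Localization.AtPrime m) := by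
    exact_mod_cast h1
  apply Groth.Agent.Lib.Helper20.DepthMaxLoc.le_idealDepth_of_le_depth m k
  rw [← h2]
  exact hk

/-- a regular pair inside a maximal ideal of height at least two. -/
theorem exists_regular_pair (m : Ideal R) [hm : m.IsMaximal] (h2 : (2 : ℕ∞) ≤ m.height) :
    ∃ x y : R, x ∈ m ∧ y ∈ m ∧ (∀ b : R, x * b = 0 → b = 0) ∧
      (∀ b b' : R, y * b = x * b' → ∃ c, b = x * c) := by
  haveI : IsNoetherianRing R := inferInstance
  have hIM : m • (⊤ : Submodule R R) ≠ ⊤ := by
    rw [smul_eq_mul, Ideal.mul_top]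
    exact hm.ne_top
  have hd : ((2 : ℕ) : ℕ∞) ≤ LocCoh.idealDepth m R :=
    le_idealDepth_of_le_height m 2 (by exact_mod_cast h2)
  obtain ⟨rs, hlen, hmem, hreg⟩ :=
    (Groth.Agent.Lib.Helper4.le_idealDepth_iff_exists_isRegular m hIM 2).1 hd
  obtain ⟨x, y, rfl⟩ := List.length_eq_two.1 hlen
  have hw := hreg.toIsWeaklyRegular
  rw [isWeaklyRegular_cons_iff, isWeaklyRegular_cons_iff] at hw
  obtain ⟨hx, hy, -⟩ := hw
  refine ⟨x, y, hmem x (by simp), hmem y (by simp), ?_, ?_⟩
  · intro b hb
    apply hx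
    change x • b = x • 0
    rw [smul_eq_mul, hb, smul_zero]
  · intro b b' hbb'
    have h1 : y • (Submodule.Quotient.mk b : QuotSMulTop x R) = y • 0 := by
      rw [smul_zero, ← Submodule.Quotient.mk_smul, Submodule.Quotient.mk_eq_zero, smul_eq_mul,
        hbb']
      exact (Submodule.mem_smul_pointwise_iff_exists _ _ _).2 ⟨b', Submodule.mem_top, rfl⟩
    have h3 := hy h1
    rw [Submodule.Quotient.mk_eq_zero] at h3
    obtain ⟨c, -, hc⟩ := (Submodule.mem_smul_pointwise_iff_exists _ _ _).1 h3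
    exact ⟨c, hc.symm⟩

/-- a maximal ideal of positive height in a Cohen–Macaulay ring has no socle. -/
theorem eq_zero_of_forall_mul (m : Ideal R) [hm : m.IsMaximal] (h1 : (0 : ℕ∞) < m.height)
    (c : R) (hc : ∀ r ∈ m, r * c = 0) : c = 0 := by
  haveI : IsNoetherianRing R := inferInstance
  have hHH := Groth.Agent.Lib.Helper20.DepthMaxLoc.HH.subsingleton_of_lt_height m 0 (by
    exact_mod_cast h1)
  have htors := (Groth.Agent.Lib.Helper4.LC.HH0_subsingleton_iff m (ModuleCat.of R R)).1 hHH
  have hmem : c ∈ DRing.torsionSub m R := by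
    refine ⟨1, fun r hr => ?_⟩
    rw [pow_one] at hr
    rw [smul_eq_mul]
    exact hc r hr
  have : c ∈ (⊥ : Submodule R R) := by
    rw [← htors]
    exact hmem
  exact (Submodule.mem_bot R).1 this

end ungraded

section dimlemma

theorem lt_of_add_one_le (d : WithBot ℕ∞) (n : ℕ) (h : d + 1 ≤ (n : WithBot ℕ∞)) : d < n := by
  induction d using WithBot.recBotCoe with
  | bot => exact WithBot.bot_lt_coe _
  | coe k =>
    induction k using ENat.recTopCoe with
    | top =>
      exfalso
      have : ((⊤ : ℕ∞) : WithBot ℕ∞) + 1 = ((⊤ : ℕ∞) : WithBot ℕ∞) := by rfl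
      rw [this] at h
      have h2 : (⊤ : ℕ∞) ≤ (n : ℕ∞) := by exact_mod_cast h
      exact absurd h2 (by simp)
    | coe k =>
      have h1 : ((k + 1 : ℕ) : WithBot ℕ∞) ≤ (n : WithBot ℕ∞) := by exact_mod_cast h
      have h2 : k + 1 ≤ n := by exact_mod_cast h1
      exact_mod_cast (by omega : k < n)

end dimlemma

section graded

variable {R : Type u} [CommRing R] [IsNoetherianRing R] {𝒜 : ℤ → AddSubgroup R} [GradedRing 𝒜]

/-- multiplication by a nonzerodivisor is surjective on the top graded local cohomology. -/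
theorem exists_smul_eq (I : StarInjRes 𝒜 𝒜) (m : HomogeneousIdeal 𝒜) (n : ℕ)
    (hn : ringKrullDim R = n) (x : R) (hx : ∀ b : R, x * b = 0 → b = 0) (h : I.H m n) :
    ∃ h' : I.H m n, h = x • h' := by
  have hx' : x ∈ R⁰ := by
    rw [mem_nonZeroDivisors_iff_right]
    intro b hb
    exact hx b (by rwa [mul_comm])
  have h1 := ringKrullDim_quotient_succ_le_of_nonZeroDivisor hx'
  rw [hn] at h1
  have h2 := lt_of_add_one_le _ n h1
  have h3 := mem_smul_top_H₂ I m (Ideal.span {x}) n hn.le h2 h
  rw [Submodule.ideal_span_singleton_smul] at h3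
  obtain ⟨h', -, rfl⟩ := (Submodule.mem_smul_pointwise_iff_exists _ _ _).1 h3
  exact ⟨h', rfl⟩

end graded

end Groth.Agent.Lib.Helper20.GrGorVer5
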