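import Mathlib
import Groth.Prelude.Def_GrLC
import Groth.Agent.Lib.Helper20.GrGorVer5
import Groth.Agent.Lib.Helper20.GrConcentrated
import Groth.Agent.Lib.Helper20.GrGorCrit
import Groth.Agent.S13244

/-!
# Goto–Watanabe: if `R^{(q)}` is Gorenstein then `R` is Gorenstein and `q ∣ a(R)`, main theorem
-/

set_option autoImplicit false
set_option linter.unusedSectionVars false
set_option linter.unusedVariables false
set_option linter.style.haveILetI false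

universe u

open DirectSum GrLC Groth.Agent.Lib.Helper20.GrLCBasic Groth.Agent.Lib.Helper20.GrLCQuot
  Groth.Agent.Lib.Helper20.GrLCExt Groth.Agent.Lib.Helper20.GrFieldLocal
  Groth.Agent.Lib.Helper20.GrHullDual Groth.Agent.Lib.Helper20.GrVeronese
  Groth.Agent.Lib.Helper20.GrVerRing Groth.Agent.Lib.Helper20.GrVeronese2
  Groth.Agent.Lib.Helper20.GrVerTop Groth.Agent.Lib.Helper20.GrVerGor
  Groth.Agent.Lib.Helper20.GrCanonDim Groth.Agent.Lib.Helper20.GrGorVer5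

namespace Groth.Agent.Lib.Helper20.GrGorVer6

/-- graded local cohomology of a Cohen–Macaulay graded ring over a field vanishes outside degree
`dim R`. -/
theorem subsingleton_H_of_ne (R : Type u) [CommRing R] [LocCoh.IsCohenMacaulayRing R]
    (𝒜 : ℤ → AddSubgroup R) [GradedRing 𝒜] (m : HomogeneousIdeal 𝒜) [hmax : m.toIdeal.IsMaximal]
    (n : ℕ) (hn : ringKrullDim R = n) (hht : m.toIdeal.height = n) (I : StarInjRes 𝒜 𝒜)
    (p : ℕ) (hp : p ≠ n) : Subsingleton (I.H m p) := by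
  haveI : IsNoetherianRing R := inferInstance
  apply Groth.Agent.Lib.Helper20.GrLES2.subsingleton_H_of_HH I m p
  rcases lt_or_gt_of_ne hp with hlt | hgt
  · apply Groth.Agent.Lib.Helper20.DepthMaxLoc.HH.subsingleton_of_lt_height m.toIdeal p
    rw [hht]
    exact_mod_cast hlt
  · apply Groth.Agent.Lib.Helper4.LC.HH.subsingleton_of_ringKrullDim_lt
    rw [hn]
    exact_mod_cast hgt

set_option maxHeartbeats 1000000 in
/-- **Goto–Watanabe.** -/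
theorem isGorensteinRing_of_veronese (R : Type u) [CommRing R] [LocCoh.IsCohenMacaulayRing R]
    (𝒜 : ℤ → AddSubgroup R) [GradedRing 𝒜] (hpos : ∀ n : ℤ, n < 0 → 𝒜 n = ⊥)
    (h0 : IsField (GrLC.deg0 𝒜)) (m : HomogeneousIdeal 𝒜) (hm : GrLC.IsStarLocal 𝒜 m)
    (hmsp : m.toIdeal = Ideal.span (⋃ n ∈ Set.Ioi (0 : ℤ), (𝒜 n : Set R)))
    (hstd : Ideal.span (⋃ n ∈ Set.Ioi (0 : ℤ), (𝒜 n : Set R)) =
      Ideal.span ((𝒜 1 : AddSubgroup R) : Set R))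
    (n : ℕ) (hn : ringKrullDim R = n) (h2 : 2 ≤ n) (I : GrLC.StarInjRes 𝒜 𝒜) (q : ℕ) (hq : 0 < q)
    (R' : Type u) [CommRing R'] (𝒜' : ℤ → AddSubgroup R') [GradedRing 𝒜'] (φ : R' →+* R)
    (hφ : Function.Injective φ) (hdeg : ∀ j : ℤ, (𝒜' j).map (φ : R' →+ R) = 𝒜 (j * q))
    [LocCoh.IsGorensteinRing R'] :
    LocCoh.IsGorensteinRing R ∧ ∃ a : ℤ,
      GrLC.endDeg (I.Hgr m n) = ((a : WithTop ℤ) : WithBot (WithTop ℤ)) ∧ (q : ℤ) ∣ a := by
  classical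
  haveI : IsNoetherianRing R := inferInstance
  haveI : IsNoetherianRing R' := inferInstance
  have hht : m.toIdeal.height = n := height_eq_of_dim 𝒜 hpos m hm n hn
  haveI hmmax : m.toIdeal.IsMaximal := isMaximal 𝒜 hpos h0 m hmsp
  have hpos' := hpos' 𝒜 𝒜' φ hφ q hq hdeg hpos
  have h0' := isField_deg0' 𝒜 𝒜' φ hφ q hdeg h0
  let m' : HomogeneousIdeal 𝒜' := mV 𝒜'
  have hm'sp : m'.toIdeal = Ideal.span (⋃ j ∈ Set.Ioi (0 : ℤ), (𝒜' j : Set R')) := rfl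
  have hm' : IsStarLocal 𝒜' m' := isStarLocal 𝒜' hpos' h0' m' hm'sp
  haveI hm'max : m'.toIdeal.IsMaximal := isMaximal 𝒜' hpos' h0' m' hm'sp
  haveI hm'p : m'.toIdeal.IsPrime := hm'max.isPrime
  obtain ⟨F, -, -⟩ := Groth.Agent.Lib.Helper20.GrMinRes.exists_minimal 𝒜' 𝒜'
  -- the envelopes
  letI : DirectSum.Decomposition (GrLC.quotGr 𝒜 m) :=
    (isInternal_quotGr 𝒜 (m.toIdeal : Submodule R R) m.isHomogeneous).chooseDecomposition
  letI : SetLike.GradedSMul 𝒜 (GrLC.quotGr 𝒜 m) :=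
    quotGr_gradedSMul (𝒜 := 𝒜) (𝓧 := 𝒜) (P := (m.toIdeal : Submodule R R))
  obtain ⟨E', e, he⟩ := Groth.Agent.Lib.Helper20.GrLCHull.exists_starInjHull 𝒜 (GrLC.quotGr 𝒜 m)
  letI : DirectSum.Decomposition (GrLC.quotGr 𝒜' m') :=
    (isInternal_quotGr 𝒜' (m'.toIdeal : Submodule R' R') m'.isHomogeneous).chooseDecomposition
  letI : SetLike.GradedSMul 𝒜' (GrLC.quotGr 𝒜' m') :=
    quotGr_gradedSMul (𝒜 := 𝒜') (𝓧 := 𝒜') (P := (m'.toIdeal : Submodule R' R'))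
  obtain ⟨E'', e', he'⟩ := Groth.Agent.Lib.Helper20.GrLCHull.exists_starInjHull 𝒜'
    (GrLC.quotGr 𝒜' m')
  -- vanishing for `R`
  have hvan : ∀ p, p ≠ n → Subsingleton (I.H m p) := fun p hp =>
    subsingleton_H_of_ne R 𝒜 m n hn hht I p hp
  -- the top local cohomology of `R'`
  obtain ⟨n', hn'⟩ : ∃ n' : ℕ, m'.toIdeal.height = n' := by
    have := Ideal.height_ne_top hm'p.ne_top
    exact (ENat.ne_top_iff_exists.1 this).imp fun _ h => h.symm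
  obtain ⟨g₁, φ₁, hφ₁⟩ := Groth.Agent.S13244.result R' 𝒜' m' hm' n' hn' F E''.carrier E''.gr e' he'
  have hm'ne : m'.toIdeal ≠ ⊤ := hm'p.ne_top
  have he'1 : e' 1 ≠ 0 := by
    intro h6
    have h7 : (1 : R' ⧸ m'.toIdeal) = 0 := he'.injective (by rw [h6, map_zero])
    have h8 : Ideal.Quotient.mk m'.toIdeal 1 = 0 := h7
    rw [Ideal.Quotient.eq_zero_iff_mem] at h8
    exact hm'ne ((Ideal.eq_top_iff_one _).2 h8)
  have hnn : n' = n := by
    by_contra hne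
    haveI := hvan n' hne
    obtain ⟨Θ, -, -, -, h4⟩ := exists_veronese_map 𝒜 𝒜' φ hφ q hq hdeg m hmsp m' hm'sp 𝒜 I 𝒜'
      (φL R φ) hφ hdeg F n'
    letI := Groth.Agent.Lib.Helper20.GrLES2.decH F m' n'
    have hz : ∀ y : F.H m' n', y = 0 := by
      intro y
      rw [← DirectSum.sum_support_decompose (F.Hgr m' n') y]
      apply Finset.sum_eq_zero
      intro j _
      obtain ⟨x, -, hx⟩ := h4 j _ (SetLike.coe_mem (decompose (F.Hgr m' n') y j))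
      rw [← hx, Subsingleton.elim x 0, map_zero]
    haveI : Subsingleton (F.H m' n') := ⟨fun x y => (hz x).trans (hz y).symm⟩
    haveI : Subsingleton E''.carrier := φ₁.symm.toEquiv.subsingleton
    exact he'1 (Subsingleton.elim _ _)
  subst hnn
  obtain ⟨Θ, hΘ1, hΘ2, hΘ3, hΘ4⟩ := exists_veronese_map 𝒜 𝒜' φ hφ q hq hdeg m hmsp m' hm'sp 𝒜 I 𝒜'
    (φL R φ) hφ hdeg F n'
  letI := Groth.Agent.Lib.Helper20.GrLES2.decH I m n'
  letI := Groth.Agent.Lib.Helper20.GrLES2.decH F m' n'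
  -- the comparison `Λ`
  have hgr₁ : IsGrHom (F.Hgr m' n') (shiftGr E''.gr g₁) φ₁.toLinearMap := fun j x hx => hφ₁ j x hx
  have hsymm : ∀ (i : ℤ) (y : E''.carrier), y ∈ E''.gr (i + g₁) → φ₁.symm y ∈ F.Hgr m' n' i := by
    intro i y hy
    refine mem_of_map_mem (F.Hgr m' n') (shiftGr E''.gr g₁) φ₁.toLinearMap hgr₁ φ₁.injective ?_
    change φ₁ (φ₁.symm y) ∈ E''.gr (i + g₁)
    rw [φ₁.apply_symm_apply]
    exact hy
  let Λ : I.H m n' →+ E''.carrier := (φ₁.toLinearMap.toAddMonoidHom).comp Θ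
  have hΛ : ∀ x, Λ x = φ₁ (Θ x) := fun x => rfl
  have hΛ1 : ∀ (r : R') (x : I.H m n'), Λ (φ r • x) = r • Λ x := by
    intro r x
    rw [hΛ, hΛ, hΘ1, map_smul]
  have hΛ3 : ∀ (j : ℤ) (x : I.H m n'), x ∈ I.Hgr m n' (j * q) → Λ x ∈ E''.gr (j + g₁) := by
    intro j x hx
    have h1 := hΘ2 _ x hx
    rw [fl_mul q hq] at h1
    exact hφ₁ j _ h1
  have hΛ4 : ∀ (j : ℤ) (x : I.H m n'), x ∈ I.Hgr m n' (j * q) → Λ x = 0 → x = 0 := by
    intro j x hx hx0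
    apply hΘ3 j x hx
    apply φ₁.injective
    rw [map_zero]
    exact hx0
  have hΛ5 : ∀ (j : ℤ) (y : E''.carrier), y ∈ E''.gr (j + g₁) →
      ∃ x ∈ I.Hgr m n' (j * q), Λ x = y := by
    intro j y hy
    obtain ⟨x, hx, hxy⟩ := hΘ4 j _ (hsymm j y hy)
    refine ⟨x, hx, ?_⟩
    rw [hΛ, hxy, φ₁.apply_symm_apply]
  -- the data of `GrGorVer2`
  obtain ⟨u, hu, hu0, hone⟩ := Groth.Agent.Lib.Helper20.GrGorVer2.exists_top 𝒜 (I.Hgr m n') q hq 𝒜'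
    φ hdeg hpos' h0' m' hm'sp E''.gr e' he' Λ g₁ hΛ1 hΛ3 hΛ4 hΛ5
  have hS3 := fun j hj h hh hh0 => Groth.Agent.Lib.Helper20.GrGorVer2.exists_smul_ne_zero_left 𝒜
    (I.Hgr m n') q 𝒜' φ hdeg hpos' m' hm'sp E''.gr e' he' Λ g₁ hΛ1 hΛ3 hΛ4 j hj (h := h) hh hh0
  have hS4 := fun t ht c hc hc0 => Groth.Agent.Lib.Helper20.GrGorVer2.exists_smul_ne_zero_right 𝒜
    (I.Hgr m n') q 𝒜' φ hφ hdeg hpos' h0' m' hm'sp E''.gr e' he' Λ g₁ hΛ1 hΛ5 t ht (c := c) hc hc0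
  -- `J · H = H`
  have hP : ∀ J : Ideal R, ringKrullDim (R ⧸ J) ≤ 1 → ∀ h : I.H m n',
      h ∈ (J • ⊤ : Submodule R (I.H m n')) := by
    intro J hJ h
    refine mem_smul_top_H₂ I m J n' hn.le (lt_of_le_of_lt hJ ?_) h
    exact_mod_cast (by omega : 1 < n')
  have htop : ∀ j, -g₁ * q < j → I.Hgr m n' j = ⊥ := fun j hj =>
    Groth.Agent.Lib.Helper20.GrGorVer3.eq_bot_of_gt 𝒜 hpos h0 hstd (I.Hgr m n') hP (-g₁ * q) u hu
      hone j hj
  obtain ⟨ρ, hρ, hρu⟩ := Groth.Agent.Lib.Helper20.GrGorVer3.exists_rho 𝒜 hpos h0 m hmsp E'.gr e he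
    (I.Hgr m n') (-g₁ * q) u hu hu0 htop
  -- depth
  have hht2 : (2 : ℕ∞) ≤ m.toIdeal.height := by
    rw [hht]
    exact_mod_cast h2
  have htors : ∀ c : R, (∀ r ∈ m.toIdeal, r * c = 0) → c = 0 := fun c hc =>
    eq_zero_of_forall_mul m.toIdeal (lt_of_lt_of_le (by norm_num) hht2) c hc
  obtain ⟨x, y, hx, hy, hxr, hyr⟩ := exists_regular_pair m.toIdeal hht2
  have hreg : ∃ x y : R, x ∈ m.toIdeal ∧ y ∈ m.toIdeal ∧ (∀ b : R, x * b = 0 → b = 0) ∧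
      (∀ b b' : R, y * b = x * b' → ∃ c, b = x * c) ∧
      (∀ h : I.H m n', ∃ h' : I.H m n', h = x • h') :=
    ⟨x, y, hx, hy, hxr, hyr, fun h => exists_smul_eq I m n' hn x hxr h⟩
  have hqa : (q : ℤ) ∣ (-g₁ * q) := Dvd.intro_left _ rfl
  obtain ⟨ψ, hψ⟩ := Groth.Agent.Lib.Helper20.GrGorVer4.exists_equiv 𝒜 hpos h0 m hmsp hstd E'.gr e he
    (I.Hgr m n') (-g₁ * q) u hu hu0 hone htop ρ hρ hρu q hq hqa hS3 hS4 htors hreg
  refine ⟨?_, -g₁ * q, ?_, hqa⟩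
  · -- Gorenstein
    have hconc := Groth.Agent.Lib.Helper20.GrConcentrated.bassNum_eq_zero_of_concentrated 𝒜 𝒜 m n'
      I hvan (shiftGMod 𝒜 E' (-(-g₁ * q))) ψ
      (isStarInj_shift 𝒜 E'.gr he.starInj (-(-g₁ * q)))
      (fun j x hx => by
        have := hψ j x hx
        rwa [sub_eq_add_neg] at this)
    exact Groth.Agent.Lib.Helper20.GrGorCrit.isGorensteinRing_of_bassNum 𝒜 m hm n'
      (fun i hi => hconc i (by omega))
  · -- the `a`-invariant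
    apply le_antisymm
    · exact (Groth.Agent.Lib.Helper20.GrReg1.endDeg_le_iff (I.Hgr m n') (-g₁ * q)).2 htop
    · apply Groth.Agent.Lib.Helper20.GrLES2.le_endDeg
      exact Groth.Agent.Lib.Helper20.GrAinv.ne_bot_of_mem hu hu0

end Groth.Agent.Lib.Helper20.GrGorVer6
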