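import Mathlib
import Groth.Prelude.Def_GrLC
import Groth.Agent.Lib.Helper20.GrFin2
import Groth.Agent.Lib.Helper20.GrReg1

/-!
# `H^0_m` of a torsion module concentrated in degree zero (helper20)
-/

set_option autoImplicit false
set_option linter.unusedSectionVars false
set_option linter.unusedVariables false
set_option linter.style.haveILetI false

universe u

open DirectSum GrLC

namespace Groth.Agent.Lib.Helper20.GrH0Residue

open Groth.Agent.Lib.Helper20.GrFin2 Groth.Agent.Lib.Helper20.GrLES2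
  Groth.Agent.Lib.Helper20.GrReg1

variable {R : Type u} [CommRing R] {𝒜 : ℤ → AddSubgroup R} [GradedRing 𝒜]
  (a : HomogeneousIdeal 𝒜)
  {N : Type u} [AddCommGroup N] [Module R N] {𝒩 : ℤ → AddSubgroup N}
  [DirectSum.Decomposition 𝒩] [SetLike.GradedSMul 𝒜 𝒩] (F : StarInjRes 𝒜 𝒩)

/-- pieces of `H^0` vanish where the module does. -/
theorem Hgr_zero_eq_bot {d : ℤ} (hd : 𝒩 d = ⊥) : F.Hgr a 0 d = ⊥ := by
  rw [eq_bot_iff]
  rintro h ⟨z, hz, rfl⟩
  rw [AddSubgroup.mem_bot]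
  obtain ⟨y, hy, hyz⟩ := exists_of_mem_cocyc_zero a F z
  have hyd : y ∈ 𝒩 d := by
    apply Groth.Agent.Lib.Helper20.GrLCQuot.mem_of_map_mem 𝒩 (F.X 0).gr F.ε F.ε_grHom
      F.ε_injective
    rw [hyz]
    exact hz
  rw [hd, AddSubgroup.mem_bot] at hyd
  have hz0 : z = 0 := by
    apply Subtype.ext
    rw [← hyz, hyd, map_zero]
    rfl
  rw [hz0, map_zero]

/-- a nonzero torsion element of degree `d` gives a nonzero class in `H^0`. -/
theorem Hgr_zero_ne_bot {d : ℤ} {y : N} (hy : y ∈ 𝒩 d) (hy0 : y ≠ 0)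
    (htor : y ∈ gam a.toIdeal N) : F.Hgr a 0 d ≠ ⊥ := by
  intro hbot
  have hmem : F.toH a 0 ⟨F.ε y, eps_mem_cocyc_zero a F y htor⟩ ∈ F.Hgr a 0 d :=
    ⟨⟨F.ε y, eps_mem_cocyc_zero a F y htor⟩, F.ε_grHom d y hy, rfl⟩
  rw [hbot, AddSubgroup.mem_bot] at hmem
  have h1 : (⟨F.ε y, eps_mem_cocyc_zero a F y htor⟩ : F.cocyc a 0) ∈
      (F.cobdy a 0).comap (F.cocyc a 0).subtype := by
    rw [← Submodule.ker_mkQ ((F.cobdy a 0).comap (F.cocyc a 0).subtype)]
    exact hmem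
  have h2 : F.ε y ∈ F.cobdy a 0 := h1
  have h3 : F.ε y = 0 := (Submodule.mem_bot R).1 h2
  exact hy0 (F.ε_injective (by rw [h3, map_zero]))

/-- **`H^0_a` of a torsion module concentrated in degree `0`.** -/
theorem endDeg_Hgr_zero (htor : ∀ y : N, y ∈ gam a.toIdeal N) (h0 : 𝒩 0 ≠ ⊥)
    (hpos : ∀ d : ℤ, 0 < d → 𝒩 d = ⊥) :
    endDeg (F.Hgr a 0) = (((0 : ℤ) : WithTop ℤ) : WithBot (WithTop ℤ)) := by
  apply le_antisymm
  · rw [endDeg_le_iff]
    intro d hd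
    exact Hgr_zero_eq_bot a F (hpos d hd)
  · apply le_endDeg
    obtain ⟨y, hy, hy0⟩ := Groth.Agent.Lib.Helper20.GrAinv.exists_ne_zero_of_ne_bot h0
    exact Hgr_zero_ne_bot a F hy hy0 (htor y)

end Groth.Agent.Lib.Helper20.GrH0Residue
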