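import Mathlib
import Groth.Agent.Lib.Helper20.GrModCM1

/-!
# The graded Cohen–Macaulay criterion for finitely generated graded modules over a positively graded
ring over a field (helper20)
-/

set_option autoImplicit false
set_option linter.unusedSectionVars false
set_option linter.unusedVariables false
set_option linter.style.haveILetI false

universe u

open CategoryTheory Abelian IsLocalRing GrLC

namespace Groth.Agent.Lib.Helper20.GrModCM

open Groth.Agent.Lib.Helper4 Groth.Agent.Lib.Helper4.LC Groth.Agent.Lib.Helper20.GrMultiCore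

section core

variable {R : Type u} [CommRing R] [IsNoetherianRing R] (𝒜 : ℤ → AddSubgroup R) [GradedRing 𝒜]

/-- `ht (p / p*) ≤ 1`. -/
theorem height_map_core_le_one (p : Ideal R) [hp : p.IsPrime] :
    (p.map (Ideal.Quotient.mk (Ideal.homogeneousCore 𝒜 p).toIdeal)).height ≤ 1 := by
  haveI hc : (Ideal.homogeneousCore 𝒜 p).toIdeal.IsPrime := Ideal.IsPrime.homogeneousCore hp
  set c := (Ideal.homogeneousCore 𝒜 p).toIdeal with hcdef
  have hcp : c ≤ p := Ideal.toIdeal_homogeneousCore_le 𝒜 p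
  haveI hP : (p.map (Ideal.Quotient.mk c)).IsPrime := by
    apply Ideal.map_isPrime_of_surjective Ideal.Quotient.mk_surjective
    rw [Ideal.mk_ker]
    exact hcp
  have h1 : ((1 : ℕ) : ℕ∞) = 1 := rfl
  rw [← h1, Ideal.height_le_iff]
  intro q hq hqlt
  haveI := hq
  set Q := q.comap (Ideal.Quotient.mk c) with hQdef
  haveI hQ : Q.IsPrime := Ideal.comap_isPrime _ _
  have hcQ : c ≤ Q := by
    intro x hx
    show Ideal.Quotient.mk c x ∈ q
    rw [Ideal.Quotient.eq_zero_iff_mem.2 hx]
    exact q.zero_mem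
  have hmapQ : Q.map (Ideal.Quotient.mk c) = q :=
    Ideal.map_comap_of_surjective _ Ideal.Quotient.mk_surjective q
  have hQp : Q ≤ p := by
    intro x hx
    have h2 : Ideal.Quotient.mk c x ∈ p.map (Ideal.Quotient.mk c) := hqlt.le hx
    obtain ⟨y, hy, hxy⟩ := (Ideal.mem_map_iff_of_surjective _ Ideal.Quotient.mk_surjective).1 h2
    have h3 : x - y ∈ c := by
      rw [← Ideal.Quotient.eq_zero_iff_mem, map_sub, hxy, sub_self]
    have : x = (x - y) + y := by ring
    rw [this]
    exact p.add_mem (hcp h3) hy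
  have hQne : Q ≠ p := by
    intro h
    apply hqlt.ne
    rw [← hmapQ, h]
  have hQc : Q = c := by
    by_contra hne
    have hlt : c < Q := lt_of_le_of_ne hcQ (Ne.symm hne)
    have hcore : ∀ (n : ℤ) (x : R), x ∈ 𝒜 n → x ∈ p → x ∈ c :=
      fun n x hx hxp => Ideal.mem_homogeneousCore_of_homogeneous_of_mem ⟨n, hx⟩ hxp
    exact hQne (Groth.Agent.Lib.Helper20.GrHeight.eq_of_between (𝒜 := 𝒜) (𝔭 := c) p Q hcp hcore
      hlt hQp)
  have hqbot : q = ⊥ := by
    rw [← hmapQ, hQc, Ideal.map_quotient_self]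
  rw [hqbot, Ideal.height_bot]
  exact_mod_cast zero_lt_one

end core

section graded

variable {R : Type u} [CommRing R] [IsNoetherianRing R] (𝒜 : ℤ → AddSubgroup R) [GradedRing 𝒜]
  (hpos : ∀ n : ℤ, n < 0 → 𝒜 n = ⊥) (h0 : IsField (deg0 𝒜))
  (m : HomogeneousIdeal 𝒜)
  (hmsp : m.toIdeal = Ideal.span (⋃ n ∈ Set.Ioi (0 : ℤ), (𝒜 n : Set R)))
  {M : Type u} [AddCommGroup M] [Module R M] [Module.Finite R M] (ℳ : ℤ → AddSubgroup M)
  [DirectSum.Decomposition ℳ] [SetLike.GradedSMul 𝒜 ℳ]

include hpos h0 hmsp ℳ in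
/-- a nonzero graded module does not vanish at the irrelevant ideal. -/
theorem nontrivial_loc [Nontrivial M] :
    haveI : m.toIdeal.IsPrime :=
      (Groth.Agent.Lib.Helper20.GrFieldLocal.isMaximal 𝒜 hpos h0 m hmsp).isPrime
    Nontrivial (LocalizedModule m.toIdeal.primeCompl M) := by
  haveI : m.toIdeal.IsPrime :=
    (Groth.Agent.Lib.Helper20.GrFieldLocal.isMaximal 𝒜 hpos h0 m hmsp).isPrime
  have hloc := Groth.Agent.Lib.Helper20.GrFieldLocal.isStarLocal 𝒜 hpos h0 m hmsp
  by_contra h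
  rw [not_nontrivial_iff_subsingleton] at h
  have := Groth.Agent.Lib.Helper20.GrVanishAbove.subsingleton_of_localizedModule 𝒜 m hloc ℳ h
  exact false_of_nontrivial_of_subsingleton M

include hpos h0 hmsp ℳ in
/-- **the dimension of a graded module is its dimension at the irrelevant ideal.** -/
theorem supportDim_eq_loc [Nontrivial M] :
    haveI : m.toIdeal.IsPrime :=
      (Groth.Agent.Lib.Helper20.GrFieldLocal.isMaximal 𝒜 hpos h0 m hmsp).isPrime
    Module.supportDim R M = Module.supportDim (Localization.AtPrime m.toIdeal)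
      (LocalizedModule m.toIdeal.primeCompl M) := by
  classical
  haveI hmax : m.toIdeal.IsMaximal :=
    Groth.Agent.Lib.Helper20.GrFieldLocal.isMaximal 𝒜 hpos h0 m hmsp
  haveI hmp : m.toIdeal.IsPrime := hmax.isPrime
  have hloc := Groth.Agent.Lib.Helper20.GrFieldLocal.isStarLocal 𝒜 hpos h0 m hmsp
  have hmS : (⟨m.toIdeal, hmp⟩ : PrimeSpectrum R) ∈ Module.support R M :=
    nontrivial_loc 𝒜 hpos h0 m hmsp ℳ
  apply le_antisymm
  · rw [Groth.Agent.Lib.Helper20.SuppLocHeight.supportDim_loc_eq_height M m.toIdeal hmS]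
    unfold Module.supportDim
    rw [Order.krullDim_eq_iSup_height]
    apply iSup_le
    intro x
    rw [WithBot.coe_le_coe]
    obtain ⟨⟨p, hp⟩, hpS⟩ := x
    haveI := hp
    haveI hc : (Ideal.homogeneousCore 𝒜 p).toIdeal.IsPrime := Ideal.IsPrime.homogeneousCore hp
    have hcS : (⟨(Ideal.homogeneousCore 𝒜 p).toIdeal, hc⟩ : PrimeSpectrum R) ∈
        Module.support R M := by
      have hc' : (homSpan 𝒜 p).IsPrime := by
        rw [← homSpan_eq_core]
        exact hc
      have := Groth.Agent.Lib.Helper20.GrMultiDim.core_mem_support 𝒜 ℳ ⟨p, hp⟩ hpS hc'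
      convert this using 2
      exact homSpan_eq_core 𝒜 p
    have hd1 := height_map_core_le_one 𝒜 p
    obtain ⟨d, hd⟩ := ENat.ne_top_iff_exists.1 (ne_top_of_le_ne_top (by simp) hd1)
    have hd' : d ≤ 1 := by
      rw [← hd] at hd1
      exact_mod_cast hd1
    have hht := Groth.Agent.Lib.Helper20.GrMultiDim.height_support_eq 𝒜 ℳ p d hd.symm hpS hcS
    rw [hht]
    have hne : Ideal.homogeneousCore 𝒜 p ≠ ⊤ := by
      intro h
      apply hp.ne_top
      rw [eq_top_iff]
      have := congrArg HomogeneousIdeal.toIdeal h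
      rw [HomogeneousIdeal.toIdeal_top] at this
      rw [← this]
      exact Ideal.toIdeal_homogeneousCore_le 𝒜 p
    have hle : (Ideal.homogeneousCore 𝒜 p).toIdeal ≤ m.toIdeal :=
      Groth.Agent.Lib.Helper20.GrFieldLocal.le_of_ne_top 𝒜 hpos h0 m hmsp _ hne
    rcases eq_or_lt_of_le hle with heq | hlt
    · have hmp' : m.toIdeal ≤ p := by
        rw [← heq]
        exact Ideal.toIdeal_homogeneousCore_le 𝒜 p
      have hpm : m.toIdeal = p := hmax.eq_of_le hp.ne_top hmp'
      subst hpm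
      rw [← hht]
    · have hlt' : (⟨⟨(Ideal.homogeneousCore 𝒜 p).toIdeal, hc⟩, hcS⟩ : Module.support R M) <
          ⟨⟨m.toIdeal, hmp⟩, hmS⟩ := hlt
      refine le_trans ?_ (Order.height_add_one_le hlt')
      gcongr
      exact_mod_cast hd'
  · exact supportDim_loc_le m.toIdeal M

end graded

end Groth.Agent.Lib.Helper20.GrModCM
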