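import Mathlib
import Groth.Agent.Lib.Helper20.GrHilbDeg
import Groth.Agent.Lib.Helper20.GrModCM2
import Groth.Agent.Lib.Helper20.GrChop2
import Groth.Agent.Lib.Helper28.SuppLoc

/-!
# The dimension of a graded module is at most the degree of its Hilbert polynomial plus one
(helper20)
-/

set_option autoImplicit false
set_option linter.unusedSectionVars false
set_option linter.unusedVariables false
set_option linter.style.haveILetI false

universe u

open CategoryTheory DirectSum GrLC Groth.Agent.Lib.Helper4.LC Groth.Agent.Lib.Helper20.GrLCBasic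
  Groth.Agent.Lib.Helper20.GrLCQuot Groth.Agent.Lib.Helper20.GrRes
  Groth.Agent.Lib.Helper20.GrLES Groth.Agent.Lib.Helper20.GrLES2
  Groth.Agent.Lib.Helper20.GrFin1
  Groth.Agent.Lib.Helper20.GrFin2 Groth.Agent.Lib.Helper20.LenEuler
  Groth.Agent.Lib.Helper20.GrEulerLES Groth.Agent.Lib.Helper20.GrVan
  Groth.Agent.Lib.Helper20.GrSerre Groth.Agent.Lib.Helper20.GrSerre2
  Groth.Agent.Lib.Helper20.GrHilbDeg

namespace Groth.Agent.Lib.Helper20.GrHilbDim

open Pointwise

section poly

open Polynomial

/-- the difference operator lowers the degree. -/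
theorem degree_diff_lt (q : ℚ) (d : ℕ) (P : ℚ[X]) (h : P.degree < ((d + 1 : ℕ) : WithBot ℕ)) :
    (P - P.comp (X - C q)).degree < ((d : ℕ) : WithBot ℕ) := by
  by_cases hP : P = 0
  · rw [hP, zero_comp, sub_zero, degree_zero]
    exact WithBot.bot_lt_coe _
  · have hnd : (X - C q : ℚ[X]).natDegree = 1 := natDegree_X_sub_C q
    have hlc : (X - C q : ℚ[X]).leadingCoeff = 1 := leadingCoeff_X_sub_C q
    have h1 : (P.comp (X - C q)).natDegree = P.natDegree := by
      rw [natDegree_comp, hnd, mul_one]
    have h2 : (P.comp (X - C q)).leadingCoeff = P.leadingCoeff := by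
      rw [leadingCoeff_comp (by rw [hnd]; exact one_ne_zero), hlc, one_pow, mul_one]
    have hne : P.comp (X - C q) ≠ 0 := by
      intro h0
      apply hP
      rw [← leadingCoeff_eq_zero, ← h2, h0, leadingCoeff_zero]
    have h3 : P.degree = (P.comp (X - C q)).degree := by
      rw [degree_eq_natDegree hP, degree_eq_natDegree hne, h1]
    have h4 := degree_sub_lt h3 hP h2.symm
    have h5 : P.degree ≤ ((d : ℕ) : WithBot ℕ) := by
      rw [degree_eq_natDegree hP] at h ⊢
      have : P.natDegree < d + 1 := by exact_mod_cast h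
      exact_mod_cast Nat.lt_succ_iff.1 this
    exact lt_of_lt_of_le h4 h5

end poly

section locQ

variable {R : Type u} [CommRing R] [IsNoetherianRing R]

/-- the dimension of the localization of `M / x M` bounds the dimension of `M_p / x M_p`. -/
theorem supportDim_quotSMulTop_loc_le (p : Ideal R) [hp : p.IsPrime] (M : Type u) [AddCommGroup M]
    [Module R M] [Module.Finite R M] (x : R) :
    Module.supportDim (Localization.AtPrime p)
        (QuotSMulTop (algebraMap R (Localization.AtPrime p) x) (LocalizedModule p.primeCompl M)) ≤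
      Module.supportDim R (QuotSMulTop x M) := by
  unfold Module.supportDim
  refine Order.krullDim_le_of_strictMono
    (fun Q => (⟨PrimeSpectrum.comap (algebraMap R (Localization.AtPrime p)) Q.1, ?_⟩ :
      Module.support R (QuotSMulTop x M))) ?_
  · have hQ : Q.1 ∈ Module.support (Localization.AtPrime p) (LocalizedModule p.primeCompl M) ∩
        PrimeSpectrum.zeroLocus {algebraMap R (Localization.AtPrime p) x} := by
      rw [← Module.support_quotSMulTop]
      exact Q.2
    show _ ∈ Module.support R (QuotSMulTop x M)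
    rw [Module.support_quotSMulTop]
    refine ⟨(Groth.Agent.Lib.Helper28.mem_support_localizedModule_iff p Q.1).mp hQ.1, ?_⟩
    have h2 := hQ.2
    rw [PrimeSpectrum.mem_zeroLocus, Set.singleton_subset_iff] at h2 ⊢
    exact h2
  · intro Q₁ Q₂ hlt
    have h2 : Q₁.1.asIdeal < Q₂.1.asIdeal := hlt
    exact (IsLocalization.orderEmbedding p.primeCompl (Localization.AtPrime p)).lt_iff_lt.mpr h2

end locQ

variable {R : Type u} [CommRing R] [IsNoetherianRing R] (𝒜 : ℤ → AddSubgroup R) [GradedRing 𝒜]
  (hpos : ∀ n : ℤ, n < 0 → 𝒜 n = ⊥) (h0 : IsField (deg0 𝒜))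
  (a : HomogeneousIdeal 𝒜)
  (ha : a.toIdeal = Ideal.span (⋃ n ∈ Set.Ioi (0 : ℤ), (𝒜 n : Set R)))

section lemmas

variable {M : Type u} [AddCommGroup M] [Module R M] [Module.Finite R M] (ℳ : ℤ → AddSubgroup M)
  [DirectSum.Decomposition ℳ] [SetLike.GradedSMul 𝒜 ℳ]

include hpos h0 ha ℳ in
/-- **Krull's principal ideal theorem for graded modules**: dividing by an element of the
irrelevant ideal lowers the dimension by at most one. -/
theorem supportDim_le_quot_succ (x : R) (hx : x ∈ a.toIdeal) :
    Module.supportDim R M ≤ Module.supportDim R (M ⧸ x • (⊤ : Submodule R M)) + 1 := by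
  rcases subsingleton_or_nontrivial M with hs | hnt
  · rw [Module.supportDim_eq_bot_of_subsingleton]
    exact bot_le
  · haveI hmax : a.toIdeal.IsMaximal :=
      Groth.Agent.Lib.Helper20.GrFieldLocal.isMaximal 𝒜 hpos h0 a ha
    haveI hap : a.toIdeal.IsPrime := hmax.isPrime
    rw [Groth.Agent.Lib.Helper20.GrModCM.supportDim_eq_loc 𝒜 hpos h0 a ha ℳ]
    have hx' : algebraMap R (Localization.AtPrime a.toIdeal) x ∈
        IsLocalRing.maximalIdeal (Localization.AtPrime a.toIdeal) := by
      rw [← Localization.AtPrime.map_eq_maximalIdeal]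
      exact Ideal.mem_map_of_mem _ hx
    refine le_trans (Module.supportDim_le_supportDim_quotSMulTop_succ hx') ?_
    gcongr
    exact supportDim_quotSMulTop_loc_le a.toIdeal M x

include hpos h0 ha ℳ in
/-- a graded module vanishing in large degrees has dimension at most zero. -/
theorem supportDim_le_zero_of_eventually_bot (N : ℤ) (h : ∀ n : ℤ, N ≤ n → ℳ n = ⊥) :
    Module.supportDim R M ≤ 0 := by
  classical
  haveI hmax : a.toIdeal.IsMaximal :=
    Groth.Agent.Lib.Helper20.GrFieldLocal.isMaximal 𝒜 hpos h0 a ha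
  obtain ⟨n₀, hn₀⟩ := Groth.Agent.Lib.Helper20.GrChop2.exists_lower_bound ℳ hpos
  have key : ∀ p ∈ Module.support R M, a.toIdeal ≤ p.asIdeal := by
    intro p hp
    obtain ⟨m, hm⟩ := Module.mem_support_iff_exists_annihilator.1 hp
    rw [ha, Ideal.span_le]
    intro x hx
    obtain ⟨t, ht, hxt⟩ := Set.mem_iUnion₂.1 hx
    rw [Set.mem_Ioi] at ht
    have hxt' : x ∈ 𝒜 t := hxt
    set k : ℕ := (N - n₀).toNat with hk
    have hzero : x ^ k • m = 0 := by
      rw [← DirectSum.sum_support_decompose ℳ m, Finset.smul_sum]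
      apply Finset.sum_eq_zero
      intro j _
      by_cases hj : j < n₀
      · have h1 : ((DirectSum.decompose ℳ m j : ℳ j) : M) ∈ ℳ j := SetLike.coe_mem _
        have h1' := (AddSubgroup.eq_bot_iff_forall _).1 (hn₀ j hj) _ h1
        rw [h1', smul_zero]
      · have h1 : x ^ k ∈ 𝒜 (k • t) := SetLike.pow_mem_graded k hxt'
        have h2 := SetLike.GradedSMul.smul_mem (A := 𝒜) (B := ℳ) h1
          (SetLike.coe_mem (DirectSum.decompose ℳ m j))
        rw [vadd_eq_add] at h2
        have h3 : N ≤ k • t + j := by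
          have e1 : (k • t : ℤ) = (k : ℤ) * t := by simp
          have e2 : N - n₀ ≤ (k : ℤ) := Int.self_le_toNat _
          have e3 : (0 : ℤ) ≤ (k : ℤ) := Int.natCast_nonneg k
          rw [e1]
          push Not at hj
          nlinarith
        exact (AddSubgroup.eq_bot_iff_forall _).1 (h _ h3) _ h2
    have h4 : x ^ k ∈ (Submodule.span R {m}).annihilator := by
      rw [Submodule.mem_annihilator_span_singleton]
      exact hzero
    exact p.2.mem_of_pow_mem k (hm h4)
  haveI : Subsingleton (Module.support R M) := by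
    refine ⟨fun p q => Subtype.ext (PrimeSpectrum.ext ?_)⟩
    have hp := hmax.eq_of_le p.1.2.ne_top (key p.1 p.2)
    have hq := hmax.eq_of_le q.1.2.ne_top (key q.1 q.2)
    rw [← hp, ← hq]
  exact Order.krullDim_nonpos_of_subsingleton

include hpos h0 ha in
/-- dividing by the torsion does not lower the dimension below `d`. -/
theorem supportDim_le_of_quot_gam (d : ℕ)
    (h : Module.supportDim R (M ⧸ gam a.toIdeal M) ≤ ((d : ℕ) : WithBot ℕ∞)) :
    Module.supportDim R M ≤ ((d : ℕ) : WithBot ℕ∞) := by
  classical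
  haveI hmax : a.toIdeal.IsMaximal :=
    Groth.Agent.Lib.Helper20.GrFieldLocal.isMaximal 𝒜 hpos h0 a ha
  unfold Module.supportDim at h ⊢
  unfold Order.krullDim
  apply iSup_le
  intro p
  by_cases hp0 : p.length = 0
  · rw [hp0]
    exact_mod_cast Nat.zero_le d
  · have hlt : p.head < p.last := by
      apply p.strictMono
      rw [Fin.lt_def]
      simp only [Fin.val_zero, Fin.val_last]
      omega
    have hna : ¬ a.toIdeal ≤ p.head.1.asIdeal := by
      intro hle
      have h1 : a.toIdeal = p.head.1.asIdeal := hmax.eq_of_le p.head.1.2.ne_top hle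
      have h2 : p.head.1.asIdeal < p.last.1.asIdeal := hlt
      rw [← h1] at h2
      exact p.last.1.2.ne_top (hmax.1.2 _ h2)
    obtain ⟨s, hsa, hsp⟩ := SetLike.not_le_iff_exists.1 hna
    have hhead : p.head.1 ∈ Module.support R (M ⧸ gam a.toIdeal M) := by
      obtain ⟨m, hm⟩ := Module.mem_support_iff_exists_annihilator.1 p.head.2
      rw [Module.mem_support_iff_exists_annihilator]
      refine ⟨(gam a.toIdeal M).mkQ m, fun r hr => ?_⟩
      rw [Submodule.mem_annihilator_span_singleton, ← map_smul, Submodule.mkQ_apply,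
        Submodule.Quotient.mk_eq_zero] at hr
      obtain ⟨k, hk⟩ := hr
      have h1 : s ^ k * r ∈ (Submodule.span R {m}).annihilator := by
        rw [Submodule.mem_annihilator_span_singleton, mul_smul]
        exact hk _ (Ideal.pow_mem_pow hsa k)
      rcases p.head.1.2.mem_or_mem (hm h1) with h2 | h2
      · exact absurd (p.head.1.2.mem_of_pow_mem k h2) hsp
      · exact h2
    have hmem : ∀ i, (p i).1 ∈ Module.support R (M ⧸ gam a.toIdeal M) := by
      intro i
      have hle : p.head ≤ p i := p.strictMono.monotone (Fin.zero_le i)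
      exact Module.mem_support_mono hle hhead
    let q : LTSeries (Module.support R (M ⧸ gam a.toIdeal M)) :=
      { length := p.length
        toFun := fun i => ⟨(p i).1, hmem i⟩
        step := fun i => p.step i }
    exact le_trans (Order.LTSeries.length_le_krullDim q) h

end lemmas

section main

variable (hhom : a.toIdeal = Ideal.span ((𝒜 1 : AddSubgroup R) : Set R))

include hpos h0 ha hhom in
/-- **the dimension is at most the degree of the Hilbert polynomial plus one.** -/
theorem supportDim_le_of_degree_lt : ∀ (d : ℕ) (M : Type u) [AddCommGroup M] [Module R M]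
    [Module.Finite R M] (ℳ : ℤ → AddSubgroup M) [DirectSum.Decomposition ℳ]
    [SetLike.GradedSMul 𝒜 ℳ] (P : Polynomial ℚ), IsHP 𝒜 ℳ P →
    P.degree < ((d : ℕ) : WithBot ℕ) → Module.supportDim R M ≤ ((d : ℕ) : WithBot ℕ∞) := by
  letI : Field (deg0 𝒜) := h0.toField
  haveI : IsArtinianRing (deg0 𝒜) := inferInstance
  intro d
  induction d with
  | zero =>
    intro M _ _ _ ℳ _ _ P hP hdeg
    have hP0 : P = 0 := by
      rw [← Polynomial.degree_eq_bot]
      have h1 : P.degree < 0 := by simpa using hdeg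
      exact Nat.WithBot.lt_zero_iff.1 h1
    obtain ⟨N, hN⟩ := hP
    have hbot : ∀ n : ℤ, N ≤ n → ℳ n = ⊥ := by
      intro n hn
      have h1 := hN n hn
      rw [hP0, Polynomial.eval_zero] at h1
      have h2 : Module.length (deg0 𝒜) (comp 𝒜 ℳ n) = 0 := by
        have hne := length_comp_ne_top (𝒜 := 𝒜) ℳ n
        unfold len at h1
        have h3 : (Module.length (deg0 𝒜) (comp 𝒜 ℳ n)).toNat = 0 := by exact_mod_cast h1.symm
        rcases (ENat.toNat_eq_zero).1 h3 with h | h
        · exact h
        · exact absurd h hne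
      haveI : Subsingleton (comp 𝒜 ℳ n) := Module.length_eq_zero_iff.1 h2
      rw [eq_bot_iff]
      intro x hx
      have h4 : (⟨x, hx⟩ : comp 𝒜 ℳ n) = 0 := Subsingleton.elim _ _
      exact congrArg Subtype.val h4
    simpa using supportDim_le_zero_of_eventually_bot 𝒜 hpos h0 a ha ℳ N hbot
  | succ d ih =>
    intro M _ _ _ ℳ _ _ P hP hdeg
    classical
    apply supportDim_le_of_quot_gam 𝒜 hpos h0 a ha (M := M) (d + 1)
    have hΓ : (gam a.toIdeal M).IsHomogeneous ℳ := Groth.Agent.S13225.gam_isHomogeneous 𝒜 ℳ a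
    letI : DirectSum.Decomposition (quotGr ℳ (gam a.toIdeal M)) :=
      (isInternal_quotGr ℳ (gam a.toIdeal M) hΓ).chooseDecomposition
    have hPq := isHP_quot_gam a ha ℳ P hP
    have htf : ∀ m : M ⧸ gam a.toIdeal M, (∀ r ∈ a.toIdeal, r • m = 0) → m = 0 := by
      intro m hm
      have h1 : m ∈ DRing.torsionSub a.toIdeal (M ⧸ DRing.torsionSub a.toIdeal M) :=
        ⟨1, fun r hr => hm r (by rwa [pow_one] at hr)⟩
      rw [Groth.Agent.Lib.Helper20.LCFinite.torsionSub_quotient_eq_bot] at h1
      exact (Submodule.mem_bot R).1 h1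
    obtain ⟨t, ht, x, hx, hreg⟩ := exists_homogeneous_regular 𝒜 a.toIdeal ha htf
    have hPr : (x • (⊤ : Submodule R (M ⧸ gam a.toIdeal M))) =
        LinearMap.range (LinearMap.lsmul R (M ⧸ gam a.toIdeal M) x) :=
      GrAinv.smul_top_eq_range x
    have hPh : (x • (⊤ : Submodule R (M ⧸ gam a.toIdeal M))).IsHomogeneous
        (quotGr ℳ (gam a.toIdeal M)) := by
      rw [hPr]
      exact range_lsmul_isHomogeneous hx
    letI : DirectSum.Decomposition (quotGr (quotGr ℳ (gam a.toIdeal M))
        (x • (⊤ : Submodule R (M ⧸ gam a.toIdeal M)))) :=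
      (isInternal_quotGr _ _ hPh).chooseDecomposition
    obtain ⟨P'', hP''⟩ := exists_isHP a ha hhom (quotGr (quotGr ℳ (gam a.toIdeal M))
        (x • (⊤ : Submodule R (M ⧸ gam a.toIdeal M))))
    have hdiff := isHP_diff (quotGr ℳ (gam a.toIdeal M)) x (t : ℤ) hx hreg P P'' hPq hP''
    have hdeg'' : P''.degree < ((d : ℕ) : WithBot ℕ) := by
      rw [← hdiff]
      exact degree_diff_lt _ d P hdeg
    have hdim'' := ih _ (quotGr (quotGr ℳ (gam a.toIdeal M))
        (x • (⊤ : Submodule R (M ⧸ gam a.toIdeal M)))) P'' hP'' hdeg''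
    have hxa : x ∈ a.toIdeal := by
      rw [ha]
      exact Ideal.subset_span (Set.mem_iUnion₂.2 ⟨(t : ℤ), by
        rw [Set.mem_Ioi]
        exact_mod_cast ht, hx⟩)
    have hQ := supportDim_le_quot_succ 𝒜 hpos h0 a ha (quotGr ℳ (gam a.toIdeal M)) x hxa
    refine le_trans hQ ?_
    have h5 : Module.supportDim R ((M ⧸ gam a.toIdeal M) ⧸
        x • (⊤ : Submodule R (M ⧸ gam a.toIdeal M))) + 1 ≤ ((d : ℕ) : WithBot ℕ∞) + 1 := by
      gcongr
    refine le_trans h5 ?_
    push_cast
    exact le_rfl

end main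

end Groth.Agent.Lib.Helper20.GrHilbDim
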