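import Mathlib
import Groth.Prelude.Def_GrLC
import Groth.Agent.Lib.Helper20.GrFin1

/-!
# Monotonicity of the Hilbert function via a generic linear form and McCoy's theorem (helper20)
-/

set_option autoImplicit false
set_option linter.unusedSectionVars false
set_option linter.unusedVariables false
set_option linter.style.haveILetI false

universe u

open Polynomial nonZeroDivisors GrLC Groth.Agent.Lib.Helper20.GrFin1

namespace Groth.Agent.Lib.Helper20.GrHilbMono

section generic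

variable {R : Type u} [CommRing R]

/-- the generic linear form `∑ xᵢ Xⁱ`. -/
noncomputable def genForm (l : List R) : R[X] :=
  ∑ j ∈ Finset.range l.length, C (l.getD j 0) * X ^ j

theorem genForm_coeff (l : List R) (j : ℕ) : (genForm l).coeff j = l.getD j 0 := by
  unfold genForm
  rw [finsetSum_coeff]
  simp only [coeff_C_mul_X_pow]
  rw [Finset.sum_ite_eq]
  split_ifs with h
  · rfl
  · rw [Finset.mem_range, not_lt] at h
    rw [List.getD_eq_default _ _ h]

theorem genForm_mem_nonZeroDivisors (l : List R)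
    (h : ∀ a : R, (∀ x ∈ l, a * x = 0) → a = 0) : genForm l ∈ (R[X])⁰ := by
  by_contra hP
  obtain ⟨a, ha, haP⟩ := Polynomial.notMem_nonZeroDivisors_iff.1 hP
  apply ha
  apply h
  intro x hx
  obtain ⟨i, hi, rfl⟩ := List.getElem_of_mem hx
  have h1 := congrArg (fun p : R[X] => p.coeff i) haP
  simp only [coeff_smul, genForm_coeff, coeff_zero, smul_eq_mul] at h1
  rw [List.getD_eq_getElem _ _ hi] at h1
  exact h1

end generic

section graded

variable {R : Type u} [CommRing R] (𝒜 : ℤ → AddSubgroup R) [GradedRing 𝒜]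

/-- the polynomial with prescribed coefficients in `R_n`. -/
noncomputable def polyOf (n : ℤ) (D : ℕ) :
    (Fin (D + 1) → ↥(comp 𝒜 𝒜 n)) →ₗ[deg0 𝒜] R[X] :=
  ∑ m : Fin (D + 1), ((Polynomial.monomial (m : ℕ) : R →ₗ[R] R[X]).restrictScalars (deg0 𝒜)) ∘ₗ
    (comp 𝒜 𝒜 n).subtype ∘ₗ (LinearMap.proj m : (Fin (D + 1) → ↥(comp 𝒜 𝒜 n)) →ₗ[deg0 𝒜] _)

theorem polyOf_coeff (n : ℤ) (D : ℕ) (c : Fin (D + 1) → ↥(comp 𝒜 𝒜 n)) (j : ℕ) :
    (polyOf 𝒜 n D c).coeff j = if h : j < D + 1 then ((c ⟨j, h⟩ : ↥(comp 𝒜 𝒜 n)) : R) else 0 := by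
  unfold polyOf
  rw [LinearMap.sum_apply, finsetSum_coeff]
  simp only [LinearMap.coe_comp, Function.comp_apply, LinearMap.coe_restrictScalars,
    LinearMap.proj_apply, Submodule.subtype_apply, coeff_monomial]
  split_ifs with h
  · rw [Finset.sum_eq_single (⟨j, h⟩ : Fin (D + 1))]
    · simp
    · intro b _ hb
      rw [if_neg]
      intro hbj
      apply hb
      exact Fin.ext hbj
    · intro hn
      exact absurd (Finset.mem_univ _) hn
  · apply Finset.sum_eq_zero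
    intro b _
    rw [if_neg]
    intro hbj
    apply h
    rw [← hbj]
    exact b.2

theorem polyOf_coeff_mem (n : ℤ) (D : ℕ) (c : Fin (D + 1) → ↥(comp 𝒜 𝒜 n)) (j : ℕ) :
    (polyOf 𝒜 n D c).coeff j ∈ 𝒜 n := by
  rw [polyOf_coeff]
  split_ifs with h
  · exact (c ⟨j, h⟩).2
  · exact zero_mem _

variable (l : List R) (hl1 : ∀ x ∈ l, x ∈ 𝒜 1)

include hl1 in
theorem getD_mem (j : ℕ) : l.getD j 0 ∈ 𝒜 1 := by
  by_cases h : j < l.length
  · rw [List.getD_eq_getElem _ _ h]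
    exact hl1 _ (List.getElem_mem h)
  · rw [List.getD_eq_default _ _ (not_lt.1 h)]
    exact zero_mem _

include hl1 in
theorem coeff_mul_mem (n : ℤ) (D : ℕ) (c : Fin (D + 1) → ↥(comp 𝒜 𝒜 n)) (j : ℕ) :
    (genForm l * polyOf 𝒜 n D c).coeff j ∈ comp 𝒜 𝒜 (n + 1) := by
  rw [coeff_mul]
  refine Submodule.sum_mem _ fun p _ => ?_
  rw [genForm_coeff]
  have h := SetLike.GradedMul.mul_mem (A := 𝒜) (getD_mem 𝒜 l hl1 p.1)
    (polyOf_coeff_mem 𝒜 n D c p.2)
  rw [add_comm] at h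
  exact h

theorem coeff_mul_eq_zero (n : ℤ) (D : ℕ) (c : Fin (D + 1) → ↥(comp 𝒜 𝒜 n)) (j : ℕ)
    (hj : D + l.length ≤ j) : (genForm l * polyOf 𝒜 n D c).coeff j = 0 := by
  rw [coeff_mul]
  apply Finset.sum_eq_zero
  intro p hp
  have hp' : p.1 + p.2 = j := Finset.HasAntidiagonal.mem_antidiagonal.1 hp
  by_cases h1 : p.1 < l.length
  · have h2 : ¬ p.2 < D + 1 := by omega
    rw [polyOf_coeff, dif_neg h2, mul_zero]
  · rw [genForm_coeff, List.getD_eq_default _ _ (not_lt.1 h1), zero_mul]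

/-- multiplication by the generic linear form on truncated polynomials, piecewise. -/
noncomputable def mulMap (n : ℤ) (D : ℕ) :
    (Fin (D + 1) → ↥(comp 𝒜 𝒜 n)) →ₗ[deg0 𝒜] (Fin (D + l.length) → ↥(comp 𝒜 𝒜 (n + 1))) :=
  LinearMap.pi fun j => LinearMap.codRestrict (comp 𝒜 𝒜 (n + 1))
    (((Polynomial.lcoeff R (j : ℕ)).restrictScalars (deg0 𝒜)) ∘ₗ
      ((LinearMap.mulLeft R (genForm l)).restrictScalars (deg0 𝒜)) ∘ₗ polyOf 𝒜 n D)
    (fun c => coeff_mul_mem 𝒜 l hl1 n D c j)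

theorem mulMap_apply (n : ℤ) (D : ℕ) (c : Fin (D + 1) → ↥(comp 𝒜 𝒜 n)) (j : Fin (D + l.length)) :
    ((mulMap 𝒜 l hl1 n D c j : ↥(comp 𝒜 𝒜 (n + 1))) : R) =
      (genForm l * polyOf 𝒜 n D c).coeff j := rfl

theorem mulMap_injective (hann : ∀ a : R, (∀ x ∈ l, a * x = 0) → a = 0) (n : ℤ) (D : ℕ) :
    Function.Injective (mulMap 𝒜 l hl1 n D) := by
  rw [← LinearMap.ker_eq_bot, LinearMap.ker_eq_bot']
  intro c hc
  have hP := genForm_mem_nonZeroDivisors l hann
  have hzero : genForm l * polyOf 𝒜 n D c = 0 := by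
    ext j
    rw [coeff_zero]
    by_cases hj : j < D + l.length
    · have h1 : ((mulMap 𝒜 l hl1 n D c ⟨j, hj⟩ : ↥(comp 𝒜 𝒜 (n + 1))) : R) = 0 := by
        rw [hc]
        rfl
      rw [mulMap_apply] at h1
      exact h1
    · exact coeff_mul_eq_zero 𝒜 l n D c j (not_lt.1 hj)
  have hQ : polyOf 𝒜 n D c = 0 := by
    rw [mul_comm] at hzero
    exact (mem_nonZeroDivisors_iff_right.1 hP) _ hzero
  funext m
  apply Subtype.ext
  have h1 : (polyOf 𝒜 n D c).coeff (m : ℕ) = 0 := by rw [hQ, coeff_zero]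
  rw [polyOf_coeff, dif_pos m.2] at h1
  exact h1

include hl1 in
/-- **the Hilbert function is nondecreasing** when the degree-one elements have no common
annihilator. -/
theorem finrank_le_succ [IsNoetherianRing R] (h0 : IsField (deg0 𝒜))
    (hann : ∀ a : R, (∀ x ∈ l, a * x = 0) → a = 0) (n : ℤ) :
    Module.finrank (deg0 𝒜) (comp 𝒜 𝒜 n) ≤ Module.finrank (deg0 𝒜) (comp 𝒜 𝒜 (n + 1)) := by
  classical
  letI : Field (deg0 𝒜) := h0.toField
  haveI : IsNoetherian R R := inferInstance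
  haveI h1 : IsNoetherian (deg0 𝒜) (comp 𝒜 𝒜 n) := isNoetherian_comp 𝒜 𝒜 n
  haveI h2 : IsNoetherian (deg0 𝒜) (comp 𝒜 𝒜 (n + 1)) := isNoetherian_comp 𝒜 𝒜 (n + 1)
  haveI : Module.Finite (deg0 𝒜) (comp 𝒜 𝒜 n) := Module.IsNoetherian.finite _ _
  haveI : Module.Finite (deg0 𝒜) (comp 𝒜 𝒜 (n + 1)) := Module.IsNoetherian.finite _ _
  set a := Module.finrank (deg0 𝒜) (comp 𝒜 𝒜 n) with ha
  set b := Module.finrank (deg0 𝒜) (comp 𝒜 𝒜 (n + 1)) with hb
  have key : ∀ D : ℕ, (D + 1) * a ≤ (D + l.length) * b := by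
    intro D
    have h := LinearMap.finrank_le_finrank_of_injective (mulMap_injective 𝒜 l hl1 hann n D)
    rw [Module.finrank_pi_fintype, Module.finrank_pi_fintype] at h
    simpa [Finset.sum_const, Finset.card_univ, Fintype.card_fin] using h
  by_contra hlt
  push Not at hlt
  have h3 := key (l.length * b)
  have h4 : (l.length * b + 1) * (b + 1) ≤ (l.length * b + 1) * a :=
    Nat.mul_le_mul_left _ hlt
  nlinarith

end graded

end Groth.Agent.Lib.Helper20.GrHilbMono
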