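import Mathlib
import Groth.Prelude.Def_GrLC
import Groth.Agent.Lib.Helper20.GrKos

/-!
# Functoriality of the graded Koszul complex; a diagram chase
-/

set_option autoImplicit false
set_option linter.unusedSectionVars false
set_option linter.unusedVariables false
set_option linter.style.haveILetI false

universe u

open CategoryTheory GrLC Groth.Agent.Lib.Helper20.GrProd Groth.Agent.Lib.Helper20.GrKos

namespace Groth.Agent.Lib.Helper20.GrKosMap

variable {R : Type u} [CommRing R] {𝒜 : ℤ → AddSubgroup R} [GradedRing 𝒜]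

/-- a morphism of augmented complexes over a linear map. -/
structure ChMap {X₀ Y₀ : GMod.{u} 𝒜} (C : ChCx X₀) (C' : ChCx Y₀)
    (f : X₀.carrier →ₗ[R] Y₀.carrier) where
  /-- the components -/
  φ : ∀ p, (C.X p).carrier →ₗ[R] (C'.X p).carrier
  comm0 : ∀ z, C'.d0 (φ 0 z) = f (C.d0 z)
  comm : ∀ p z, C'.d p (φ (p + 1) z) = φ p (C.d p z)

variable {X₀ Y₀ : GMod.{u} 𝒜}

/-- the map between the trivial complexes. -/
noncomputable def baseMap (f : X₀.carrier →ₗ[R] Y₀.carrier) : ChMap (base X₀) (base Y₀) f where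
  φ _ := 0
  comm0 z := by
    show (0 : Y₀.carrier) = f 0
    rw [map_zero]
  comm p z := rfl

/-- the components of the map of cones. -/
noncomputable def coneφ {C : ChCx X₀} {C' : ChCx Y₀} {f : X₀.carrier →ₗ[R] Y₀.carrier}
    (m : ChMap C C' f) : ∀ p, (coneX C p).carrier →ₗ[R] (coneX C' p).carrier
  | 0 => LinearMap.prodMap (m.φ 0) f
  | p + 1 => LinearMap.prodMap (m.φ (p + 1)) (m.φ p)

lemma coneφ_zero_apply {C : ChCx X₀} {C' : ChCx Y₀} {f : X₀.carrier →ₗ[R] Y₀.carrier}
    (m : ChMap C C' f) (a : (C.X 0).carrier) (b : X₀.carrier) :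
    coneφ m 0 ((a, b) : (C.X 0).carrier × X₀.carrier) =
      ((m.φ 0 a, f b) : (C'.X 0).carrier × Y₀.carrier) := rfl

lemma coneφ_succ_apply {C : ChCx X₀} {C' : ChCx Y₀} {f : X₀.carrier →ₗ[R] Y₀.carrier}
    (m : ChMap C C' f) (p : ℕ) (a : (C.X (p + 1)).carrier) (b : (C.X p).carrier) :
    coneφ m (p + 1) ((a, b) : (C.X (p + 1)).carrier × (C.X p).carrier) =
      ((m.φ (p + 1) a, m.φ p b) : (C'.X (p + 1)).carrier × (C'.X p).carrier) := rfl

/-- the map of cones. -/
noncomputable def coneMap {C : ChCx X₀} {C' : ChCx Y₀} {f : X₀.carrier →ₗ[R] Y₀.carrier}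
    (m : ChMap C C' f) (x : R) (hx : x ∈ 𝒜 1) : ChMap (cone C x hx) (cone C' x hx) f where
  φ := coneφ m
  comm0 := by
    rintro ⟨a, b⟩
    show coneD0 C' x (coneφ m 0 ((a, b) : (C.X 0).carrier × X₀.carrier)) =
      f (coneD0 C x ((a, b) : (C.X 0).carrier × X₀.carrier))
    rw [coneφ_zero_apply, coneD0_apply, coneD0_apply, map_add, map_smul, m.comm0]
  comm := by
    intro p
    cases p with
    | zero =>
      rintro ⟨a, b⟩
      show coneD C' x 0 (coneφ m 1 ((a, b) : (C.X 1).carrier × (C.X 0).carrier)) =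
        coneφ m 0 (coneD C x 0 ((a, b) : (C.X 1).carrier × (C.X 0).carrier))
      rw [coneφ_succ_apply, coneD_zero_apply, coneD_zero_apply, coneφ_zero_apply, map_add,
        map_smul, map_neg, m.comm, m.comm0]
    | succ p =>
      rintro ⟨a, b⟩
      show coneD C' x (p + 1) (coneφ m (p + 2)
          ((a, b) : (C.X (p + 2)).carrier × (C.X (p + 1)).carrier)) =
        coneφ m (p + 1) (coneD C x (p + 1)
          ((a, b) : (C.X (p + 2)).carrier × (C.X (p + 1)).carrier))
      rw [coneφ_succ_apply, coneD_succ_apply, coneD_succ_apply, coneφ_succ_apply, map_add,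
        map_smul, map_neg, m.comm, m.comm]

/-- the map of Koszul complexes. -/
noncomputable def kosMap (f : X₀.carrier →ₗ[R] Y₀.carrier) :
    ∀ l : List ↥(𝒜 1), ChMap (kos X₀ l) (kos Y₀ l) f
  | [] => baseMap f
  | x :: l => coneMap (kosMap f l) x.1 x.2

theorem kosMap_surjective (f : X₀.carrier →ₗ[R] Y₀.carrier) (hf : Function.Surjective f)
    (l : List ↥(𝒜 1)) : ∀ p, Function.Surjective ((kosMap f l).φ p) := by
  induction l with
  | nil =>
    intro p z
    exact ⟨PUnit.unit, Subsingleton.elim (α := PUnit.{u + 1}) _ _⟩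
  | cons x l ih =>
    intro p
    cases p with
    | zero =>
      rintro ⟨a, b⟩
      obtain ⟨a', ha'⟩ := ih 0 a
      obtain ⟨b', hb'⟩ := hf b
      refine ⟨((a', b') : ((kos X₀ l).X 0).carrier × X₀.carrier), ?_⟩
      show coneφ (kosMap f l) 0 ((a', b') : ((kos X₀ l).X 0).carrier × X₀.carrier) = _
      rw [coneφ_zero_apply, ha', hb']
    | succ p =>
      rintro ⟨a, b⟩
      obtain ⟨a', ha'⟩ := ih (p + 1) a
      obtain ⟨b', hb'⟩ := ih p b
      refine ⟨((a', b') : ((kos X₀ l).X (p + 1)).carrier × ((kos X₀ l).X p).carrier), ?_⟩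
      show coneφ (kosMap f l) (p + 1)
        ((a', b') : ((kos X₀ l).X (p + 1)).carrier × ((kos X₀ l).X p).carrier) = _
      rw [coneφ_succ_apply, ha', hb']

theorem kosMap_exact {K₀ : GMod.{u} 𝒜} (i : K₀.carrier →ₗ[R] X₀.carrier)
    (f : X₀.carrier →ₗ[R] Y₀.carrier) (hex : ∀ y, f y = 0 → ∃ k, i k = y)
    (l : List ↥(𝒜 1)) : ∀ p z, (kosMap f l).φ p z = 0 → ∃ w, (kosMap i l).φ p w = z := by
  induction l with
  | nil =>
    intro p z _
    exact ⟨PUnit.unit, Subsingleton.elim (α := PUnit.{u + 1}) _ _⟩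
  | cons x l ih =>
    intro p
    cases p with
    | zero =>
      rintro ⟨a, b⟩ h
      have h' : coneφ (kosMap f l) 0 ((a, b) : ((kos X₀ l).X 0).carrier × X₀.carrier) = 0 := h
      rw [coneφ_zero_apply] at h'
      have h1 : (kosMap f l).φ 0 a = 0 := congrArg Prod.fst h'
      have h2 : f b = 0 := congrArg Prod.snd h'
      obtain ⟨a', ha'⟩ := ih 0 a h1
      obtain ⟨b', hb'⟩ := hex b h2
      refine ⟨((a', b') : ((kos K₀ l).X 0).carrier × K₀.carrier), ?_⟩
      show coneφ (kosMap i l) 0 ((a', b') : ((kos K₀ l).X 0).carrier × K₀.carrier) = _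
      rw [coneφ_zero_apply, ha', hb']
    | succ p =>
      rintro ⟨a, b⟩ h
      have h' : coneφ (kosMap f l) (p + 1)
        ((a, b) : ((kos X₀ l).X (p + 1)).carrier × ((kos X₀ l).X p).carrier) = 0 := h
      rw [coneφ_succ_apply] at h'
      have h1 : (kosMap f l).φ (p + 1) a = 0 := congrArg Prod.fst h'
      have h2 : (kosMap f l).φ p b = 0 := congrArg Prod.snd h'
      obtain ⟨a', ha'⟩ := ih (p + 1) a h1
      obtain ⟨b', hb'⟩ := ih p b h2
      refine ⟨((a', b') : ((kos K₀ l).X (p + 1)).carrier × ((kos K₀ l).X p).carrier), ?_⟩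
      show coneφ (kosMap i l) (p + 1)
        ((a', b') : ((kos K₀ l).X (p + 1)).carrier × ((kos K₀ l).X p).carrier) = _
      rw [coneφ_succ_apply, ha', hb']

/-- the Koszul complex of a list vanishes beyond the length of the list. -/
theorem kos_X_subsingleton (X₀ : GMod.{u} 𝒜) (l : List ↥(𝒜 1)) :
    ∀ p, l.length ≤ p → Subsingleton ((kos X₀ l).X p).carrier := by
  induction l with
  | nil =>
    intro p _
    exact (inferInstance : Subsingleton PUnit.{u + 1})
  | cons x l ih =>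
    intro p hp
    cases p with
    | zero => simp at hp
    | succ p =>
      have h1 : Subsingleton ((kos X₀ l).X (p + 1)).carrier :=
        ih (p + 1) (by simp at hp; omega)
      have h2 : Subsingleton ((kos X₀ l).X p).carrier := ih p (by simp at hp; omega)
      show Subsingleton (((kos X₀ l).X (p + 1)).carrier × ((kos X₀ l).X p).carrier)
      infer_instance

/-- **the diagram chase**: for `0 → K → Y → X → 0` exact with the Koszul complex of `X` exact at
its first spot, an element of `K` lying in `(l) Y` lies in `(l) K`. -/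
theorem mem_range_d0_of_exact {K₀ : GMod.{u} 𝒜} (i : K₀.carrier →ₗ[R] X₀.carrier)
    (f : X₀.carrier →ₗ[R] Y₀.carrier) (hi : Function.Injective i) (hf : Function.Surjective f)
    (hfi : ∀ k, f (i k) = 0) (hex : ∀ y, f y = 0 → ∃ k, i k = y) (l : List ↥(𝒜 1))
    (hY : LinearMap.ker (kos Y₀ l).d0 ≤ LinearMap.range ((kos Y₀ l).d 0))
    (k : K₀.carrier) (hk : i k ∈ LinearMap.range (kos X₀ l).d0) :
    k ∈ LinearMap.range (kos K₀ l).d0 := by
  obtain ⟨c, hc⟩ := hk
  set mf := kosMap f l with hmf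
  set mi := kosMap i l with hmi
  have h1 : (kos Y₀ l).d0 (mf.φ 0 c) = 0 := by
    rw [mf.comm0, hc, hfi]
  obtain ⟨b', hb'⟩ := hY h1
  obtain ⟨b, rfl⟩ := kosMap_surjective f hf l 1 b'
  have h2 : mf.φ 0 (c - (kos X₀ l).d 0 b) = 0 := by
    rw [map_sub, ← mf.comm 0 b, hb', sub_self]
  obtain ⟨w, hw⟩ := kosMap_exact i f hex l 0 _ h2
  refine ⟨w, ?_⟩
  apply hi
  rw [← mi.comm0, hw, map_sub, (kos X₀ l).d0_comp, sub_zero, hc]

end Groth.Agent.Lib.Helper20.GrKosMap
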