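import Mathlib
import Groth.Prelude.Def_GrLC
import Groth.Agent.Lib.Helper20.GrChop
import Groth.Agent.Lib.Helper20.GrKosMap

/-!
# Depth sensitivity: exactness of the Koszul complex at its first spot
-/

set_option autoImplicit false
set_option linter.unusedSectionVars false
set_option linter.unusedVariables false
set_option linter.style.haveILetI false

universe u

open Pointwise CategoryTheory GrLC Groth.Agent.Lib.Helper4.LC Groth.Agent.Lib.Helper20.GrLCBasic
  Groth.Agent.Lib.Helper20.GrLCQuot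
  Groth.Agent.Lib.Helper20.GrVan Groth.Agent.Lib.Helper20.GrProd Groth.Agent.Lib.Helper20.GrKos
  Groth.Agent.Lib.Helper20.GrChop Groth.Agent.Lib.Helper20.GrKosMap

namespace Groth.Agent.Lib.Helper20.GrKosExact

variable {R : Type u} [CommRing R] [IsNoetherianRing R] {𝒜 : ℤ → AddSubgroup R} [GradedRing 𝒜]
  (a : HomogeneousIdeal 𝒜)

section chop

variable {X₀ : GMod.{u} 𝒜} (C : ChCx X₀)

/-- vanishing for the boundaries of a complex with null-homotopic generators, whose terms have
depth at least `D` and vanish from `D` on. -/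
theorem van_bdry (S : Set R) (hS : a.toIdeal = Ideal.span S)
    (hH : ∀ y ∈ S, HasHtpy C y) (D : ℕ)
    (hterm : ∀ p q : ℕ, q < D → ∀ e : ℤ, Van a (C.X p).gr q e)
    (hzero : ∀ p, D ≤ p → Subsingleton (C.X p).carrier)
    [instB : ∀ p, DirectSum.Decomposition (subGr (C.X p).gr (LinearMap.range (C.d p)))] :
    ∀ (k p : ℕ), D ≤ p + 1 + k → ∀ q : ℕ, q ≤ p + 1 → ∀ e : ℤ,
      Van a (subGr (C.X p).gr (LinearMap.range (C.d p))) q e := by
  classical
  letI instZ : ∀ p, DirectSum.Decomposition (subGr (C.X (p + 1)).gr (LinearMap.ker (C.d p))) :=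
    fun p => (isInternal_subGr _ _
      (ker_isHomogeneous_deg (C.X (p + 1)).gr (C.X p).gr (C.d p) 1 (C.d_deg p))).chooseDecomposition
  have triv : ∀ p, D ≤ p + 1 → ∀ (q : ℕ) (e : ℤ),
      Van a (subGr (C.X p).gr (LinearMap.range (C.d p))) q e := by
    intro p hp q e
    haveI := hzero (p + 1) hp
    haveI : Subsingleton ↥(LinearMap.range (C.d p)) := by
      constructor
      rintro ⟨_, z, rfl⟩ ⟨_, z', rfl⟩
      apply Subtype.ext
      rw [Subsingleton.elim z z']
    exact van_of_subsingleton a _ q e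
  intro k
  induction k with
  | zero =>
    intro p hp q _ e
    exact triv p (by omega) q e
  | succ k ih =>
    intro p hp q hq e
    by_cases hpD : D ≤ p + 1
    · exact triv p hpD q e
    · push_neg at hpD
      have hle : LinearMap.range (C.d (p + 1)) ≤ LinearMap.ker (C.d p) := by
        rintro _ ⟨z, rfl⟩
        exact C.d_comp p z
      have hB : Van a (subGr (C.X (p + 1)).gr (LinearMap.range (C.d (p + 1)))) (q + 1) (e - 1) :=
        ih (p + 1) (by omega) (q + 1) (by omega) (e - 1)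
      have hZ : Van a (subGr (C.X (p + 1)).gr (LinearMap.ker (C.d p))) (q + 1) (e - 1) :=
        van_of_le_of_torsion a (C.X (p + 1)).gr _ _
          (range_isHomogeneous_deg (C.X (p + 2)).gr (C.X (p + 1)).gr (C.d (p + 1)) 1
            (C.d_deg (p + 1))) hle
          (smul_mem_of_hasHtpy a C S hS hH _ _ (fun y hy z hz =>
            (hH y hy).smul_mem_range_succ p z hz)) q _ hB
      exact van_range a (C.X (p + 1)).gr (C.X p).gr (C.d p) 1 (C.d_deg p) q e
        (hterm (p + 1) q (by omega) (e - 1)) hZ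

/-- **depth sensitivity at the first spot**: the complex is exact at `X 0`. -/
theorem ker_d0_le_range (S : Set R) (hS : a.toIdeal = Ideal.span S)
    (hH : ∀ y ∈ S, HasHtpy C y) (D : ℕ) (hD : 0 < D)
    (hterm : ∀ p q : ℕ, q < D → ∀ e : ℤ, Van a (C.X p).gr q e)
    (hzero : ∀ p, D ≤ p → Subsingleton (C.X p).carrier) :
    LinearMap.ker C.d0 ≤ LinearMap.range (C.d 0) := by
  classical
  letI instB : ∀ p, DirectSum.Decomposition (subGr (C.X p).gr (LinearMap.range (C.d p))) :=
    fun p => (isInternal_subGr _ _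
      (range_isHomogeneous_deg (C.X (p + 1)).gr (C.X p).gr (C.d p) 1 (C.d_deg p))).chooseDecomposition
  have hZhom : (LinearMap.ker C.d0).IsHomogeneous (C.X 0).gr :=
    ker_isHomogeneous_deg (C.X 0).gr X₀.gr C.d0 1 C.d0_deg
  have hBhom : (LinearMap.range (C.d 0)).IsHomogeneous (C.X 0).gr :=
    range_isHomogeneous_deg (C.X 1).gr (C.X 0).gr (C.d 0) 1 (C.d_deg 0)
  letI instZ0 : DirectSum.Decomposition (subGr (C.X 0).gr (LinearMap.ker C.d0)) :=
    (isInternal_subGr _ _ hZhom).chooseDecomposition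
  have hB1 : ∀ e : ℤ, Van a (subGr (C.X 0).gr (LinearMap.range (C.d 0))) 1 e :=
    fun e => van_bdry a C S hS hH D hterm hzero D 0 (by omega) 1 le_rfl e
  have hle0 : LinearMap.range (C.d 0) ≤ LinearMap.ker C.d0 := by
    rintro _ ⟨z, rfl⟩
    exact C.d0_comp z
  set Z : Submodule R (C.X 0).carrier := LinearMap.ker C.d0 with hZdef
  set B : Submodule R (C.X 0).carrier := LinearMap.range (C.d 0) with hBdef
  set P : Submodule R ↥Z := B.comap Z.subtype with hPdef
  have hP : P.IsHomogeneous (subGr (C.X 0).gr Z) := by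
    intro i z hz
    show ((DirectSum.decompose (subGr (C.X 0).gr Z) z i : subGr (C.X 0).gr Z i) : ↥Z).1 ∈ B
    have h1 := decompose_map (subGr (C.X 0).gr Z) (C.X 0).gr Z.subtype
      (subtype_isGrHom (C.X 0).gr Z) z i
    rw [Submodule.subtype_apply, Submodule.subtype_apply] at h1
    rw [← h1]
    exact hBhom i hz
  letI : DirectSum.Decomposition (quotGr (subGr (C.X 0).gr Z) P) :=
    (isInternal_quotGr (subGr (C.X 0).gr Z) P hP).chooseDecomposition
  have hZ0 : ∀ e : ℤ, Van a (subGr (C.X 0).gr Z) 0 e := by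
    intro e
    refine van_left_zero (ℳ' := subGr (C.X 0).gr Z) (ℳ := (C.X 0).gr) a Z.subtype 0 ?_
      (Submodule.injective_subtype _) e ?_
    · intro n m hm
      rw [add_zero]
      exact hm
    · rw [add_zero]
      exact hterm 0 0 hD e
  have hQ : ∀ e : ℤ, Van a (quotGr (subGr (C.X 0).gr Z) P) 0 e := by
    intro e
    refine van_right (ℳ' := subGr (C.X 0).gr B) (ℳ := subGr (C.X 0).gr Z)
      (ℳ'' := quotGr (subGr (C.X 0).gr Z) P) a
      (Submodule.inclusion hle0) P.mkQ 0 0 ?_ ?_ (Submodule.inclusion_injective hle0)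
      (Submodule.mkQ_surjective P) ?_ 0 e ?_ ?_
    · intro n m hm
      rw [add_zero]
      exact hm
    · intro n m hm
      rw [add_zero]
      exact mkQ_isGrHom (subGr (C.X 0).gr Z) P n m hm
    · rw [LinearMap.exact_iff, Submodule.ker_mkQ, Submodule.range_inclusion]
    · rw [sub_zero]
      exact hZ0 e
    · rw [sub_zero, sub_zero]
      exact hB1 e
  -- homogeneous cycles are boundaries
  have hhom : ∀ (e : ℤ) (z : (C.X 0).carrier), z ∈ (C.X 0).gr e → z ∈ Z → z ∈ B := by
    intro e z hze hzZ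
    have hmem : P.mkQ ⟨z, hzZ⟩ ∈ quotGr (subGr (C.X 0).gr Z) P e :=
      mkQ_isGrHom (subGr (C.X 0).gr Z) P e ⟨z, hzZ⟩ hze
    have htors : P.mkQ ⟨z, hzZ⟩ ∈ GrLC.gam a.toIdeal (↥Z ⧸ P) := by
      refine ⟨1, fun r hr => ?_⟩
      rw [pow_one] at hr
      rw [← map_smul, Submodule.mkQ_apply, Submodule.Quotient.mk_eq_zero]
      show (r • (⟨z, hzZ⟩ : ↥Z)).1 ∈ B
      exact smul_mem_of_hasHtpy a C S hS hH Z B (fun y hy z hz =>
        (hH y hy).smul_mem_range_zero z hz) r hr z hzZ
    have h0 := eq_zero_of_van_zero a (quotGr (subGr (C.X 0).gr Z) P) (hQ e) hmem htors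
    rw [Submodule.mkQ_apply, Submodule.Quotient.mk_eq_zero] at h0
    exact h0
  intro z hz
  rw [← DirectSum.sum_support_decompose (C.X 0).gr z]
  refine B.sum_mem fun i _ => ?_
  exact hhom i _ (DirectSum.decompose (C.X 0).gr z i).2 (hZhom i hz)

end chop

section kos

variable (l : List ↥(𝒜 1)) (hl : a.toIdeal = Ideal.span {r : R | ∃ x ∈ l, (x : R) = r})

include hl in
/-- the Koszul complex of a module of depth at least the number of generators is exact at its
first spot. -/
theorem kos_exact (X₀ : GMod.{u} 𝒜) (hD : 0 < l.length)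
    (hX : ∀ q : ℕ, q < l.length → ∀ e : ℤ, Van a X₀.gr q e) :
    LinearMap.ker (kos X₀ l).d0 ≤ LinearMap.range ((kos X₀ l).d 0) := by
  refine ker_d0_le_range a (kos X₀ l) _ hl ?_ l.length hD ?_ (kos_X_subsingleton X₀ l)
  · rintro y ⟨x, hx, rfl⟩
    exact kos_hasHtpy _ l x hx
  · intro p q hq e
    exact kos_inh a X₀ l p q e (hX q hq e)

end kos

end Groth.Agent.Lib.Helper20.GrKosExact
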