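import Mathlib
import Groth.Agent.Lib.Helper20.GrCoarse
import Groth.Agent.Lib.Helper20.GrLES2

/-!
# Graded local cohomology computed from an exact graded resolution by acyclic modules (helper20)
-/

set_option autoImplicit false
set_option linter.unusedSectionVars false
set_option linter.unusedVariables false
set_option linter.style.haveILetI false

universe u

open CategoryTheory GrLC Groth.Agent.Lib.Helper4.LC Groth.Agent.Lib.Helper20.GrLCBasic
  Groth.Agent.Lib.Helper20.ResCmp Groth.Agent.Lib.Helper20.GrRes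
  Groth.Agent.Lib.Helper20.GrCoarse Groth.Agent.Lib.Helper20.GrLES

namespace Groth.Agent.Lib.Helper20.SegCmp

variable {ι : Type} [AddCommGroup ι] [DecidableEq ι] {R : Type u} [CommRing R]
  [IsNoetherianRing R] {𝒜 : ι → AddSubgroup R} [GradedRing 𝒜]
  {M : Type u} [AddCommGroup M] [Module R M] {ℳ : ι → AddSubgroup M}
  [DirectSum.Decomposition ℳ] [SetLike.GradedSMul 𝒜 ℳ]
  (X : ExRes 𝒜 ℳ) (E : StarInjRes 𝒜 ℳ) (a : HomogeneousIdeal 𝒜)
  (hac : ∀ n k, Subsingleton (HH a.toIdeal (ModuleCat.of R (X.X n).carrier) (k + 1)))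

/-- the underlying ungraded acyclic resolution. -/
@[reducible] def exToRes : Res a.toIdeal M where
  X n := (X.X n).carrier
  d := X.d
  ε := X.ε
  ε_injective := X.ε_injective
  exact_zero := X.exact_zero
  exact_succ := X.exact_succ
  acyclic := hac

lemma cobdy_isHomogeneous (i : ℕ) : (E.cobdy a i).IsHomogeneous (E.X i).gr := by
  cases i with
  | zero =>
    intro g x hx
    have hx0 : x = 0 := (Submodule.mem_bot R).mp hx
    rw [hx0, DirectSum.decompose_zero]
    exact Submodule.zero_mem _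
  | succ n =>
    rintro g _ ⟨x, hx, rfl⟩
    refine ⟨_, Groth.Agent.S13225.gam_isHomogeneous 𝒜 (E.X n).gr a g hx, ?_⟩
    exact (decompose_map (E.X n).gr (E.X (n + 1)).gr (E.d n) (E.d_grHom n) x g).symm

/-- **comparison**: the cohomology of `Γ_a` of an exact graded resolution by acyclic graded
modules is the graded local cohomology, compatibly with the gradings. -/
theorem exists_cmp (i : ℕ) :
    ∃ Θ : (exToRes X a hac).H i ≃ₗ[R] E.H a i,
      (∀ (g : ι) (z : (exToRes X a hac).cocyc i), (z.1 : (X.X i).carrier) ∈ (X.X i).gr g →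
        Θ ((exToRes X a hac).toH i z) ∈ E.Hcomp a i g) ∧
      (∀ (g : ι), ∀ y ∈ E.Hcomp a i g, ∃ z : (exToRes X a hac).cocyc i,
        (z.1 : (X.X i).carrier) ∈ (X.X i).gr g ∧ Θ ((exToRes X a hac).toH i z) = y) := by
  obtain ⟨l⟩ := exists_exLift X (toCx E) E.ε E.ε_grHom (fun m => by
    have : E.ε m ∈ LinearMap.ker (E.d 0) := by
      rw [E.exact_zero]
      exact LinearMap.mem_range_self _ _
    exact this)
  let c : ResHom (exToRes X a hac) (toRes E a) LinearMap.id :=
    { φ := l.φ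
      comm_ε := l.comm_ε
      comm_d := l.comm_d }
  let Θ : (exToRes X a hac).H i ≃ₗ[R] E.H a i :=
    (cmp i (exToRes X a hac)).trans (cmpE E a i).symm
  have hΘ : ∀ x, Θ x = (hEquiv E a i).symm (c.Hmap i x) := by
    intro x
    apply (cmpE E a i).injective
    change cmpE E a i ((cmpE E a i).symm (cmp i (exToRes X a hac) x)) = _
    rw [LinearEquiv.apply_symm_apply]
    change _ = cmp i (toRes E a) (c.Hmap i x)
    rw [cmp_Hmap i c x]
    exact (HH.map_id a.toIdeal i _).symm
  have h1 : ∀ (g : ι) (z : (exToRes X a hac).cocyc i), (z.1 : (X.X i).carrier) ∈ (X.X i).gr g →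
      Θ ((exToRes X a hac).toH i z) ∈ E.Hcomp a i g := by
    intro g z hz
    rw [hΘ]
    exact ⟨c.cocycMap i z, l.deg i g _ hz, rfl⟩
  refine ⟨Θ, h1, ?_⟩
  rintro g y ⟨w, hw, rfl⟩
  obtain ⟨x, hx⟩ := Θ.surjective (E.toH a i w)
  obtain ⟨z, rfl⟩ := Submodule.mkQ_surjective _ x
  -- the degree `g` component of `z`
  have hzg : ((DirectSum.decompose (X.X i).gr (z.1 : (X.X i).carrier) g : (X.X i).gr g) :
      (X.X i).carrier) ∈ (exToRes X a hac).cocyc i :=
    ⟨Groth.Agent.S13225.gam_isHomogeneous 𝒜 (X.X i).gr a g z.2.1,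
      ker_isHomogeneous (X.X i).gr (X.X (i + 1)).gr (X.d i) (X.d_grHom i) g z.2.2⟩
  refine ⟨⟨_, hzg⟩, SetLike.coe_mem _, ?_⟩
  rw [hΘ] at hx ⊢
  -- compare classes
  let w' : (toRes E a).cocyc i := w
  have hx' : (toRes E a).toH i (c.cocycMap i z) = (toRes E a).toH i w' :=
    (hEquiv E a i).symm.injective hx
  have hdiff : ((show (E.X i).carrier from l.φ i z.1) - w.1 : (E.X i).carrier) ∈ E.cobdy a i := by
    have h2 : (toRes E a).toH i (c.cocycMap i z - w') = 0 := by rw [map_sub, hx', sub_self]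
    rw [Submodule.mkQ_apply, Submodule.Quotient.mk_eq_zero] at h2
    exact h2
  have hdiff' := cobdy_isHomogeneous E a i g hdiff
  rw [DirectSum.decompose_sub, DirectSum.sub_apply, AddSubgroup.coe_sub,
    DirectSum.decompose_of_mem_same _ hw] at hdiff'
  have hφ : ((DirectSum.decompose (E.X i).gr (show (E.X i).carrier from l.φ i z.1) g :
      (E.X i).gr g) : (E.X i).carrier) =
      l.φ i ((DirectSum.decompose (X.X i).gr (z.1 : (X.X i).carrier) g : (X.X i).gr g)) :=
    decompose_map (X.X i).gr (E.X i).gr (l.φ i) (l.deg i) z.1 g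
  rw [hφ] at hdiff'
  change (hEquiv E a i).symm ((toRes E a).toH i (c.cocycMap i ⟨_, hzg⟩)) = E.toH a i w
  apply (hEquiv E a i).injective
  rw [LinearEquiv.apply_symm_apply]
  change (toRes E a).toH i (c.cocycMap i ⟨_, hzg⟩) = (toRes E a).toH i w'
  rw [← sub_eq_zero, ← map_sub, Submodule.mkQ_apply, Submodule.Quotient.mk_eq_zero]
  exact hdiff'

end Groth.Agent.Lib.Helper20.SegCmp
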