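import Mathlib

/-!
# Cochain complexes of vector spaces: cohomology, subcomplexes, quotients, connecting isomorphisms
(helper20; linear algebra for the Künneth formula of Segre products)
-/

set_option autoImplicit false
set_option linter.unusedSectionVars false
set_option linter.unusedVariables false

universe u

namespace Groth.Agent.Lib.Helper20.SegKun

variable (k : Type u) [Field k]

/-- a cochain complex of `k`-vector spaces indexed by `ℕ`. -/
structure VCx where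
  X : ℕ → Type u
  [acg : ∀ n, AddCommGroup (X n)]
  [mod : ∀ n, Module k (X n)]
  d : ∀ n, X n →ₗ[k] X (n + 1)
  d_comp_d : ∀ n x, d (n + 1) (d n x) = 0

attribute [instance] VCx.acg VCx.mod

namespace VCx

variable {k} (V : VCx k)

/-- cocycles. -/
def Z (n : ℕ) : Submodule k (V.X n) := LinearMap.ker (V.d n)

/-- coboundaries. -/
def B : (n : ℕ) → Submodule k (V.X n)
  | 0 => ⊥
  | n + 1 => LinearMap.range (V.d n)

lemma B_le_Z (n : ℕ) : V.B n ≤ V.Z n := by
  cases n with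
  | zero => exact bot_le
  | succ n =>
    rintro _ ⟨x, rfl⟩
    exact V.d_comp_d n x

lemma mem_Z {n : ℕ} {x : V.X n} : x ∈ V.Z n ↔ V.d n x = 0 := LinearMap.mem_ker

lemma d_mem_B (n : ℕ) (x : V.X n) : V.d n x ∈ V.B (n + 1) := ⟨x, rfl⟩

/-- cohomology. -/
abbrev H (n : ℕ) : Type u := ↥(V.Z n) ⧸ (V.B n).comap (V.Z n).subtype

/-- the class map. -/
abbrev cls (n : ℕ) : ↥(V.Z n) →ₗ[k] V.H n := ((V.B n).comap (V.Z n).subtype).mkQ

lemma cls_eq_zero_iff {n : ℕ} (z : V.Z n) : V.cls n z = 0 ↔ (z : V.X n) ∈ V.B n := by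
  rw [Submodule.mkQ_apply, Submodule.Quotient.mk_eq_zero, Submodule.mem_comap]
  rfl

lemma cls_surjective (n : ℕ) : Function.Surjective (V.cls n) := Submodule.mkQ_surjective _

/-- exactness at the spot `n`. -/
def ExactAt (n : ℕ) : Prop := ∀ x : V.X n, V.d n x = 0 → x ∈ V.B n

lemma exactAt_iff_subsingleton (n : ℕ) : V.ExactAt n ↔ Subsingleton (V.H n) := by
  constructor
  · intro h
    refine ⟨fun a b => ?_⟩
    obtain ⟨x, rfl⟩ := V.cls_surjective n a
    obtain ⟨y, rfl⟩ := V.cls_surjective n b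
    rw [← sub_eq_zero, ← map_sub, cls_eq_zero_iff]
    exact h _ (x - y).2
  · intro h x hx
    have := Subsingleton.elim (V.cls n ⟨x, hx⟩) 0
    rwa [cls_eq_zero_iff] at this

lemma finrank_H_eq_zero_of_exactAt {n : ℕ} (h : V.ExactAt n) : Module.finrank k (V.H n) = 0 := by
  haveI := (V.exactAt_iff_subsingleton n).1 h
  exact Module.finrank_zero_of_subsingleton

/-- a family of subspaces stable under the differential. -/
def Stable (S : ∀ n, Submodule k (V.X n)) : Prop := ∀ n x, x ∈ S n → V.d n x ∈ S (n + 1)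

/-- the subcomplex. -/
def sub (S : ∀ n, Submodule k (V.X n)) (hS : V.Stable S) : VCx k where
  X n := ↥(S n)
  d n := (V.d n).restrict (hS n)
  d_comp_d n x := Subtype.ext (V.d_comp_d n x)

/-- the quotient complex. -/
def quot (S : ∀ n, Submodule k (V.X n)) (hS : V.Stable S) : VCx k where
  X n := V.X n ⧸ S n
  d n := Submodule.mapQ (S n) (S (n + 1)) (V.d n) (fun x hx => hS n x hx)
  d_comp_d n x := by
    obtain ⟨y, rfl⟩ := Submodule.mkQ_surjective _ x
    change Submodule.Quotient.mk (V.d (n + 1) (V.d n y)) = 0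
    rw [V.d_comp_d, Submodule.Quotient.mk_zero]

end VCx

/-- chain maps. -/
structure VHom {k : Type u} [Field k] (V W : VCx k) where
  f : ∀ n, V.X n →ₗ[k] W.X n
  comm : ∀ n x, f (n + 1) (V.d n x) = W.d n (f n x)

namespace VHom

variable {k} {V W : VCx k} (g : VHom V W)

lemma map_Z {n : ℕ} {x : V.X n} (hx : x ∈ V.Z n) : g.f n x ∈ W.Z n := by
  rw [VCx.mem_Z] at hx ⊢
  rw [← g.comm, hx, map_zero]

lemma map_B {n : ℕ} {x : V.X n} (hx : x ∈ V.B n) : g.f n x ∈ W.B n := by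
  cases n with
  | zero =>
    have : x = 0 := hx
    rw [this, map_zero]
    exact Submodule.zero_mem _
  | succ n =>
    obtain ⟨y, rfl⟩ := hx
    exact ⟨g.f n y, (g.comm n y).symm⟩

/-- the induced map on cocycles. -/
def mapZ (n : ℕ) : ↥(V.Z n) →ₗ[k] ↥(W.Z n) := (g.f n).restrict (fun _ hx => g.map_Z hx)

/-- the induced map on cohomology. -/
def mapH (n : ℕ) : V.H n →ₗ[k] W.H n :=
  Submodule.mapQ _ _ (g.mapZ n) (fun z hz => g.map_B hz)

lemma mapH_cls (n : ℕ) (z : V.Z n) : g.mapH n (V.cls n z) = W.cls n (g.mapZ n z) := rfl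

/-- the kernel family of a chain map. -/
def kerFam (n : ℕ) : Submodule k (V.X n) := LinearMap.ker (g.f n)

lemma kerFam_stable : V.Stable g.kerFam := by
  intro n x hx
  change g.f (n + 1) (V.d n x) = 0
  have hx' : g.f n x = 0 := hx
  rw [g.comm, hx', map_zero]

/-- the kernel subcomplex. -/
abbrev kerCx : VCx k := V.sub g.kerFam g.kerFam_stable

end VHom

namespace VCx

variable {k} (V : VCx k)

/-- the quotient chain map. -/
def quotHom (S : ∀ n, Submodule k (V.X n)) (hS : V.Stable S) : VHom V (V.quot S hS) where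
  f n := (S n).mkQ
  comm _ _ := rfl

lemma quotHom_surjective (S : ∀ n, Submodule k (V.X n)) (hS : V.Stable S) (n : ℕ) :
    Function.Surjective ((V.quotHom S hS).f n) := Submodule.mkQ_surjective _

lemma quotHom_kerFam (S : ∀ n, Submodule k (V.X n)) (hS : V.Stable S) (n : ℕ) :
    (V.quotHom S hS).kerFam n = S n := Submodule.ker_mkQ _

end VCx

lemma VCx.nonempty_sub_H_equiv {k : Type u} [Field k] (V : VCx k)
    (S S' : ∀ n, Submodule k (V.X n)) (h : S = S') (hS : V.Stable S) (hS' : V.Stable S') (n : ℕ) :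
    Nonempty ((V.sub S hS).H n ≃ₗ[k] (V.sub S' hS').H n) := by
  subst h
  exact ⟨LinearEquiv.refl _ _⟩

lemma VCx.sub_exactAt_congr {k : Type u} [Field k] (V : VCx k)
    (S S' : ∀ n, Submodule k (V.X n)) (h : S = S') (hS : V.Stable S) (hS' : V.Stable S') (n : ℕ)
    (hex : (V.sub S hS).ExactAt n) : (V.sub S' hS').ExactAt n := by
  subst h
  exact hex

section conn

variable {k} {Bc Q : VCx k} (g : VHom Bc Q) (hg : ∀ n, Function.Surjective (g.f n))

include hg in
/-- **the connecting isomorphism** `H^n(Q) ≅ H^{n+1}(ker g)` when the middle complex is exact at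
`n` and `n+1`. -/
theorem nonempty_conn_equiv (n : ℕ) (h1 : Bc.ExactAt n) (h2 : Bc.ExactAt (n + 1)) :
    Nonempty (Q.H n ≃ₗ[k] g.kerCx.H (n + 1)) := by
  have hsec : ∀ m, ∃ σ : Q.X m →ₗ[k] Bc.X m, ∀ q, g.f m (σ q) = q := by
    intro m
    obtain ⟨σ, hσ⟩ := LinearMap.exists_rightInverse_of_surjective (g.f m)
      (LinearMap.range_eq_top.2 (hg m))
    exact ⟨σ, fun q => LinearMap.congr_fun hσ q⟩
  obtain ⟨σ, hσ'⟩ := hsec n
  -- the map on cocycles
  have hmem : ∀ q : Q.Z n, g.f (n + 1) (Bc.d n (σ q)) = 0 := by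
    intro q
    rw [g.comm, hσ']
    exact q.2
  let φ : ↥(Q.Z n) →ₗ[k] ↥(g.kerCx.Z (n + 1)) :=
    { toFun := fun q => ⟨⟨Bc.d n (σ q), hmem q⟩, by
        rw [VCx.mem_Z]
        apply Subtype.ext
        exact Bc.d_comp_d n (σ q)⟩
      map_add' := fun q q' => by
        apply Subtype.ext
        apply Subtype.ext
        change Bc.d n (σ ((q + q' : Q.Z n) : Q.X n)) = Bc.d n (σ q) + Bc.d n (σ q')
        rw [Submodule.coe_add, map_add, map_add]
      map_smul' := fun c q => by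
        apply Subtype.ext
        apply Subtype.ext
        change Bc.d n (σ ((c • q : Q.Z n) : Q.X n)) = c • Bc.d n (σ q)
        rw [Submodule.coe_smul, map_smul, map_smul] }
  have hφ : ∀ q : Q.Z n, (φ q).1.1 = Bc.d n (σ q) := fun q => rfl
  -- coboundaries go to coboundaries
  have hB : ∀ q : Q.Z n, (q : Q.X n) ∈ Q.B n → (φ q).1 ∈ g.kerCx.B (n + 1) := by
    intro q hq
    cases n with
    | zero =>
      have hq0 : (q : Q.X 0) = 0 := hq
      refine ⟨0, ?_⟩
      apply Subtype.ext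
      rw [map_zero, hφ, hq0, map_zero, map_zero]
      rfl
    | succ m =>
      obtain ⟨q', hq'⟩ := hq
      obtain ⟨σm, hσm⟩ := hsec m
      have hk : g.f (m + 1) (σ q - Bc.d m (σm q')) = 0 := by
        rw [map_sub, hσ', g.comm, hσm, hq', sub_self]
      refine ⟨⟨σ q - Bc.d m (σm q'), hk⟩, ?_⟩
      apply Subtype.ext
      change Bc.d (m + 1) (σ q - Bc.d m (σm q')) = Bc.d (m + 1) (σ q)
      rw [map_sub, Bc.d_comp_d, sub_zero]
  let δ : Q.H n →ₗ[k] g.kerCx.H (n + 1) :=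
    Submodule.mapQ _ _ φ (fun q hq => hB q hq)
  have hδ : ∀ q : Q.Z n, δ (Q.cls n q) = g.kerCx.cls (n + 1) (φ q) := fun q => rfl
  refine ⟨LinearEquiv.ofBijective δ ⟨?_, ?_⟩⟩
  · rw [← LinearMap.ker_eq_bot, LinearMap.ker_eq_bot']
    intro y hy
    obtain ⟨q, rfl⟩ := Q.cls_surjective n y
    rw [hδ, VCx.cls_eq_zero_iff] at hy
    rw [VCx.cls_eq_zero_iff]
    obtain ⟨a, ha⟩ := hy
    have ha' : Bc.d n a.1 = Bc.d n (σ q) := by
      have := congrArg Subtype.val ha
      exact this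
    have hcoc : Bc.d n (σ q - a.1) = 0 := by
      rw [map_sub, ha', sub_self]
    have hb := h1 _ hcoc
    have hga : g.f n a.1 = 0 := a.2
    have hq : (q : Q.X n) = g.f n (σ q - a.1) := by
      rw [map_sub, hσ', hga, sub_zero]
    rw [hq]
    exact g.map_B hb
  · intro y
    obtain ⟨z, rfl⟩ := g.kerCx.cls_surjective (n + 1) y
    have hz : Bc.d (n + 1) z.1.1 = 0 := by
      have := z.2
      rw [VCx.mem_Z] at this
      exact congrArg Subtype.val this
    obtain ⟨b, hb⟩ := h2 _ hz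
    have hgb : g.f n b ∈ Q.Z n := by
      rw [VCx.mem_Z, ← g.comm, hb]
      exact z.1.2
    refine ⟨Q.cls n ⟨g.f n b, hgb⟩, ?_⟩
    rw [hδ, ← sub_eq_zero, ← map_sub, VCx.cls_eq_zero_iff]
    have hk : g.f n (σ (g.f n b) - b) = 0 := by
      rw [map_sub, hσ', sub_self]
    refine ⟨⟨σ (g.f n b) - b, hk⟩, ?_⟩
    apply Subtype.ext
    change Bc.d n (σ (g.f n b) - b) = Bc.d n (σ (g.f n b)) - z.1.1
    rw [map_sub, hb]

include hg in
/-- `H^0(B) ≅ H^0(Q)` when `H^0` and `H^1` of the kernel vanish. -/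
theorem mapH_zero_bijective (h0 : g.kerCx.ExactAt 0) (h1 : g.kerCx.ExactAt 1) :
    Function.Bijective (g.mapH 0) := by
  refine ⟨?_, ?_⟩
  · rw [← LinearMap.ker_eq_bot, LinearMap.ker_eq_bot']
    intro y hy
    obtain ⟨z, rfl⟩ := Bc.cls_surjective 0 y
    rw [VHom.mapH_cls, VCx.cls_eq_zero_iff] at hy
    have hy0 : g.f 0 (z : Bc.X 0) = 0 := hy
    have hz : Bc.d 0 (z : Bc.X 0) = 0 := z.2
    have := h0 ⟨(z : Bc.X 0), hy0⟩ (Subtype.ext hz)
    have hz0 : (z : Bc.X 0) = 0 := congrArg Subtype.val (show (⟨(z : Bc.X 0), hy0⟩ : g.kerCx.X 0) = 0 from this)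
    rw [VCx.cls_eq_zero_iff, hz0]
    exact Submodule.zero_mem _
  · intro y
    obtain ⟨q, rfl⟩ := Q.cls_surjective 0 y
    obtain ⟨b, hb⟩ := hg 0 (q : Q.X 0)
    have hq : Q.d 0 (q : Q.X 0) = 0 := q.2
    have hdb : g.f 1 (Bc.d 0 b) = 0 := by rw [g.comm, hb, hq]
    obtain ⟨a, ha⟩ := h1 ⟨Bc.d 0 b, hdb⟩ (Subtype.ext (Bc.d_comp_d 0 b))
    have ha' : Bc.d 0 a.1 = Bc.d 0 b := congrArg Subtype.val ha
    have hz : b - a.1 ∈ Bc.Z 0 := by
      rw [VCx.mem_Z, map_sub, ha', sub_self]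
    refine ⟨Bc.cls 0 ⟨b - a.1, hz⟩, ?_⟩
    rw [VHom.mapH_cls]
    congr 1
    apply Subtype.ext
    change g.f 0 (b - a.1) = (q : Q.X 0)
    have hga : g.f 0 a.1 = 0 := a.2
    rw [map_sub, hb, hga, sub_zero]

include hg in
theorem nonempty_H0_equiv (h0 : g.kerCx.ExactAt 0) (h1 : g.kerCx.ExactAt 1) :
    Nonempty (Bc.H 0 ≃ₗ[k] Q.H 0) :=
  ⟨LinearEquiv.ofBijective (g.mapH 0) (mapH_zero_bijective g hg h0 h1)⟩

include hg in
/-- the kernel is exact at `0` and `1` when `H^0(B) → H^0(Q)` is bijective and `B` is exact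
at `1`. -/
theorem kerCx_exactAt_zero_one (hbij : Function.Bijective (g.mapH 0)) (h1 : Bc.ExactAt 1) :
    g.kerCx.ExactAt 0 ∧ g.kerCx.ExactAt 1 := by
  constructor
  · intro a ha
    have ha' : Bc.d 0 a.1 = 0 := congrArg Subtype.val ha
    have hcls : g.mapH 0 (Bc.cls 0 ⟨a.1, ha'⟩) = 0 := by
      rw [VHom.mapH_cls, VCx.cls_eq_zero_iff]
      change g.f 0 a.1 ∈ Q.B 0
      have : g.f 0 a.1 = 0 := a.2
      rw [this]
      exact Submodule.zero_mem _
    have h0 := hbij.1 (hcls.trans (map_zero _).symm)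
    rw [VCx.cls_eq_zero_iff] at h0
    have h00 : a.1 = 0 := h0
    change a = 0
    exact Subtype.ext h00
  · intro a ha
    have ha' : Bc.d 1 a.1 = 0 := congrArg Subtype.val ha
    obtain ⟨b, hb⟩ := h1 _ ha'
    have hgb : g.f 0 b ∈ Q.Z 0 := by
      rw [VCx.mem_Z, ← g.comm, hb]
      exact a.2
    obtain ⟨y, hy⟩ := hbij.2 (Q.cls 0 ⟨g.f 0 b, hgb⟩)
    obtain ⟨b0, rfl⟩ := Bc.cls_surjective 0 y
    rw [VHom.mapH_cls, ← sub_eq_zero, ← map_sub, VCx.cls_eq_zero_iff] at hy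
    have hy0 : g.f 0 (b0 : Bc.X 0) - g.f 0 b = 0 := hy
    have hk : g.f 0 (b - (b0 : Bc.X 0)) = 0 := by
      rw [map_sub, ← neg_sub, neg_eq_zero]
      exact hy0
    refine ⟨⟨b - (b0 : Bc.X 0), hk⟩, ?_⟩
    apply Subtype.ext
    change Bc.d 0 (b - (b0 : Bc.X 0)) = a.1
    have hb0 : Bc.d 0 (b0 : Bc.X 0) = 0 := b0.2
    rw [map_sub, hb, hb0, sub_zero]

end conn

end Groth.Agent.Lib.Helper20.SegKun
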