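import Mathlib
import Groth.Agent.Lib.Helper20.SegKun1

/-!
# The total complex of a tensor product of two complexes of vector spaces, and homotopy
retractions (helper20)
-/

set_option autoImplicit false
set_option linter.unusedSectionVars false
set_option linter.unusedVariables false

universe u

open TensorProduct DirectSum

namespace Groth.Agent.Lib.Helper20.SegKun

variable {k : Type u} [Field k]

/-- pairs of total degree `n`. -/
abbrev Idx (n : ℕ) : Type := {p : ℕ × ℕ // p.1 + p.2 = n}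

section tot

variable (V W : VCx k)

/-- the terms of the total complex. -/
abbrev TotX (n : ℕ) : Type u := ⨁ p : Idx n, V.X p.1.1 ⊗[k] W.X p.1.2

/-- the inclusion of a summand. -/
noncomputable def inj {n : ℕ} (a b : ℕ) (h : a + b = n) : V.X a ⊗[k] W.X b →ₗ[k] TotX V W n :=
  DirectSum.lof k (Idx n) (fun p => V.X p.1.1 ⊗[k] W.X p.1.2) ⟨(a, b), h⟩

variable {V W} in
/-- extensionality for linear maps out of the total complex. -/
lemma tot_ext {n : ℕ} {M : Type*} [AddCommGroup M] [Module k M] {f g : TotX V W n →ₗ[k] M}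
    (h : ∀ (a b : ℕ) (hab : a + b = n) (x : V.X a) (y : W.X b),
      f (inj V W a b hab (x ⊗ₜ[k] y)) = g (inj V W a b hab (x ⊗ₜ[k] y))) : f = g := by
  apply DirectSum.linearMap_ext
  rintro ⟨⟨a, b⟩, hab⟩
  apply TensorProduct.ext'
  intro x y
  exact h a b hab x y

/-- the differential on a summand. -/
noncomputable def Dcomp {n : ℕ} (a b : ℕ) (h : a + b = n) :
    V.X a ⊗[k] W.X b →ₗ[k] TotX V W (n + 1) :=
  inj V W (a + 1) b (by omega) ∘ₗ (TensorProduct.map (V.d a) LinearMap.id) +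
    ((-1 : k) ^ a) • (inj V W a (b + 1) (by omega) ∘ₗ (TensorProduct.map LinearMap.id (W.d b)))

/-- the total differential. -/
noncomputable def totD (n : ℕ) : TotX V W n →ₗ[k] TotX V W (n + 1) :=
  DirectSum.toModule k (Idx n) _ (fun p => Dcomp V W p.1.1 p.1.2 p.2)

lemma totD_inj {n : ℕ} (a b : ℕ) (h : a + b = n) (z : V.X a ⊗[k] W.X b) :
    totD V W n (inj V W a b h z) = Dcomp V W a b h z := by
  unfold totD inj
  rw [DirectSum.toModule_lof]

lemma totD_inj_tmul {n : ℕ} (a b : ℕ) (h : a + b = n) (x : V.X a) (y : W.X b) :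
    totD V W n (inj V W a b h (x ⊗ₜ[k] y)) =
      inj V W (a + 1) b (by omega) (V.d a x ⊗ₜ[k] y) +
        ((-1 : k) ^ a) • inj V W a (b + 1) (by omega) (x ⊗ₜ[k] W.d b y) := by
  rw [totD_inj]
  rfl

lemma totD_comp_totD (n : ℕ) (z : TotX V W n) : totD V W (n + 1) (totD V W n z) = 0 := by
  have : totD V W (n + 1) ∘ₗ totD V W n = 0 := by
    apply tot_ext
    intro a b hab x y
    rw [LinearMap.comp_apply, totD_inj_tmul, map_add, map_smul, totD_inj_tmul, totD_inj_tmul,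
      V.d_comp_d, W.d_comp_d, zero_tmul, tmul_zero, map_zero, map_zero, smul_zero, add_zero,
      zero_add, pow_succ, mul_neg_one, ← add_smul, neg_add_cancel, zero_smul,
      LinearMap.zero_apply]
  exact LinearMap.congr_fun this z

/-- the total complex. -/
noncomputable def Tot : VCx k where
  X := TotX V W
  d := totD V W
  d_comp_d := totD_comp_totD V W

end tot

section maps

variable {V V' W W' : VCx k}

/-- the map of total complexes induced by families of maps. -/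
noncomputable def totMap (f : ∀ a, V.X a →ₗ[k] V'.X a) (g : ∀ b, W.X b →ₗ[k] W'.X b) (n : ℕ) :
    TotX V W n →ₗ[k] TotX V' W' n :=
  DirectSum.lmap (fun p : Idx n => TensorProduct.map (f p.1.1) (g p.1.2))

lemma totMap_inj (f : ∀ a, V.X a →ₗ[k] V'.X a) (g : ∀ b, W.X b →ₗ[k] W'.X b) {n : ℕ}
    (a b : ℕ) (h : a + b = n) (z : V.X a ⊗[k] W.X b) :
    totMap f g n (inj V W a b h z) = inj V' W' a b h (TensorProduct.map (f a) (g b) z) := by
  unfold totMap inj
  rw [DirectSum.lmap_lof]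

lemma totMap_inj_tmul (f : ∀ a, V.X a →ₗ[k] V'.X a) (g : ∀ b, W.X b →ₗ[k] W'.X b) {n : ℕ}
    (a b : ℕ) (h : a + b = n) (x : V.X a) (y : W.X b) :
    totMap f g n (inj V W a b h (x ⊗ₜ[k] y)) = inj V' W' a b h (f a x ⊗ₜ[k] g b y) := by
  rw [totMap_inj, TensorProduct.map_tmul]

/-- the chain map of total complexes induced by two chain maps. -/
noncomputable def totHom (f : VHom V V') (g : VHom W W') : VHom (Tot V W) (Tot V' W') where
  f := totMap f.f g.f
  comm n z := by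
    have : totMap f.f g.f (n + 1) ∘ₗ totD V W n = totD V' W' n ∘ₗ totMap f.f g.f n := by
      apply tot_ext
      intro a b hab x y
      rw [LinearMap.comp_apply, LinearMap.comp_apply, totD_inj_tmul, map_add, map_smul,
        totMap_inj_tmul, totMap_inj_tmul, totMap_inj_tmul, totD_inj_tmul, f.comm, g.comm]
    exact LinearMap.congr_fun this z

lemma totMap_surjective (f : ∀ a, V.X a →ₗ[k] V'.X a) (g : ∀ b, W.X b →ₗ[k] W'.X b)
    (hf : ∀ a, Function.Surjective (f a)) (hg : ∀ b, Function.Surjective (g b)) (n : ℕ) :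
    Function.Surjective (totMap f g n) :=
  (DirectSum.lmap_surjective _).2 (fun p => TensorProduct.map_surjective (hf _) (hg _))

/-- the first homotopy on a summand. -/
noncomputable def H1comp (hh : ∀ a, V.X (a + 1) →ₗ[k] V'.X a) (g : ∀ b, W.X b →ₗ[k] W'.X b)
    {n : ℕ} : ∀ (a b : ℕ), a + b = n + 1 → (V.X a ⊗[k] W.X b →ₗ[k] TotX V' W' n)
  | 0, _, _ => 0
  | a + 1, b, h => inj V' W' a b (by omega) ∘ₗ TensorProduct.map (hh a) (g b)

/-- the first homotopy `h ⊗ g`. -/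
noncomputable def totH1 (hh : ∀ a, V.X (a + 1) →ₗ[k] V'.X a) (g : ∀ b, W.X b →ₗ[k] W'.X b)
    (n : ℕ) : TotX V W (n + 1) →ₗ[k] TotX V' W' n :=
  DirectSum.toModule k (Idx (n + 1)) _ (fun p => H1comp hh g p.1.1 p.1.2 p.2)

lemma totH1_inj_zero (hh : ∀ a, V.X (a + 1) →ₗ[k] V'.X a) (g : ∀ b, W.X b →ₗ[k] W'.X b)
    {n : ℕ} (b : ℕ) (h : 0 + b = n + 1) (z : V.X 0 ⊗[k] W.X b) :
    totH1 hh g n (inj V W 0 b h z) = 0 := by
  unfold totH1 inj
  rw [DirectSum.toModule_lof]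
  rfl

lemma totH1_inj_succ (hh : ∀ a, V.X (a + 1) →ₗ[k] V'.X a) (g : ∀ b, W.X b →ₗ[k] W'.X b)
    {n : ℕ} (a b : ℕ) (h : a + 1 + b = n + 1) (x : V.X (a + 1)) (y : W.X b) :
    totH1 hh g n (inj V W (a + 1) b h (x ⊗ₜ[k] y)) =
      inj V' W' a b (by omega) (hh a x ⊗ₜ[k] g b y) := by
  unfold totH1 inj
  rw [DirectSum.toModule_lof]
  rfl

/-- the second homotopy on a summand. -/
noncomputable def H2comp (e : ∀ a, V.X a →ₗ[k] V'.X a) (hh : ∀ b, W.X (b + 1) →ₗ[k] W'.X b)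
    {n : ℕ} : ∀ (a b : ℕ), a + b = n + 1 → (V.X a ⊗[k] W.X b →ₗ[k] TotX V' W' n)
  | _, 0, _ => 0
  | a, b + 1, h => ((-1 : k) ^ a) • (inj V' W' a b (by omega) ∘ₗ TensorProduct.map (e a) (hh b))

/-- the second homotopy `± e ⊗ h`. -/
noncomputable def totH2 (e : ∀ a, V.X a →ₗ[k] V'.X a) (hh : ∀ b, W.X (b + 1) →ₗ[k] W'.X b)
    (n : ℕ) : TotX V W (n + 1) →ₗ[k] TotX V' W' n :=
  DirectSum.toModule k (Idx (n + 1)) _ (fun p => H2comp e hh p.1.1 p.1.2 p.2)

lemma totH2_inj_zero (e : ∀ a, V.X a →ₗ[k] V'.X a) (hh : ∀ b, W.X (b + 1) →ₗ[k] W'.X b)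
    {n : ℕ} (a : ℕ) (h : a + 0 = n + 1) (z : V.X a ⊗[k] W.X 0) :
    totH2 e hh n (inj V W a 0 h z) = 0 := by
  unfold totH2 inj
  rw [DirectSum.toModule_lof]
  rfl

lemma totH2_inj_succ (e : ∀ a, V.X a →ₗ[k] V'.X a) (hh : ∀ b, W.X (b + 1) →ₗ[k] W'.X b)
    {n : ℕ} (a b : ℕ) (h : a + (b + 1) = n + 1) (x : V.X a) (y : W.X (b + 1)) :
    totH2 e hh n (inj V W a (b + 1) h (x ⊗ₜ[k] y)) =
      ((-1 : k) ^ a) • inj V' W' a b (by omega) (e a x ⊗ₜ[k] hh b y) := by
  unfold totH2 inj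
  rw [DirectSum.toModule_lof]
  rfl

end maps

end Groth.Agent.Lib.Helper20.SegKun
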