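import Mathlib
import Groth.Agent.Lib.Helper20.SegKun2

/-!
# Homotopy retractions onto cohomology and the Künneth formula for complexes of vector spaces
(helper20)
-/

set_option autoImplicit false
set_option linter.unusedSectionVars false
set_option linter.unusedVariables false

universe u

open TensorProduct DirectSum

namespace Groth.Agent.Lib.Helper20.SegKun

variable {k : Type u} [Field k]

/-- a homotopy retraction of a complex onto a graded vector space `Hm` (with zero differential). -/
structure HRx (V : VCx k) (Hm : ℕ → Type u) [∀ n, AddCommGroup (Hm n)] [∀ n, Module k (Hm n)] where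
  ι : ∀ a, Hm a →ₗ[k] V.X a
  π : ∀ a, V.X a →ₗ[k] Hm a
  h : ∀ a, V.X (a + 1) →ₗ[k] V.X a
  π_ι : ∀ a y, π a (ι a y) = y
  d_ι : ∀ a y, V.d a (ι a y) = 0
  π_d : ∀ a x, π (a + 1) (V.d a x) = 0
  h0 : ∀ x : V.X 0, x - ι 0 (π 0 x) = h 0 (V.d 0 x)
  hs : ∀ a (x : V.X (a + 1)),
    x - ι (a + 1) (π (a + 1) x) = V.d a (h a x) + h (a + 1) (V.d (a + 1) x)

namespace HRx

variable {V : VCx k} {Hm : ℕ → Type u} [∀ n, AddCommGroup (Hm n)] [∀ n, Module k (Hm n)]
  (r : HRx V Hm)

lemma π_B {n : ℕ} {x : V.X n} (hx : x ∈ V.B n) : r.π n x = 0 := by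
  cases n with
  | zero =>
    have : x = 0 := hx
    rw [this, map_zero]
  | succ n =>
    obtain ⟨y, rfl⟩ := hx
    exact r.π_d n y

lemma mem_B_of_π_eq_zero {n : ℕ} {x : V.X n} (hx : V.d n x = 0) (h : r.π n x = 0) : x ∈ V.B n := by
  cases n with
  | zero =>
    have := r.h0 x
    rw [h, map_zero, sub_zero, hx, map_zero] at this
    rw [this]
    exact Submodule.zero_mem _
  | succ n =>
    have := r.hs n x
    rw [h, map_zero, sub_zero, hx, map_zero, add_zero] at this
    rw [this]
    exact ⟨_, rfl⟩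

/-- the cohomology of a complex with a homotopy retraction. -/
noncomputable def equivH (n : ℕ) : V.H n ≃ₗ[k] Hm n :=
  LinearEquiv.ofBijective
    (Submodule.liftQ _ (r.π n ∘ₗ (V.Z n).subtype) (fun z hz => r.π_B hz))
    ⟨by
      rw [← LinearMap.ker_eq_bot, LinearMap.ker_eq_bot']
      intro y hy
      obtain ⟨z, rfl⟩ := V.cls_surjective n y
      rw [VCx.cls_eq_zero_iff]
      exact r.mem_B_of_π_eq_zero z.2 hy,
    fun y => ⟨V.cls n ⟨r.ι n y, r.d_ι n y⟩, r.π_ι n y⟩⟩

lemma equivH_cls (n : ℕ) (z : V.Z n) : r.equivH n (V.cls n z) = r.π n z := rfl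

include r in
lemma exactAt_of_subsingleton (n : ℕ) [Subsingleton (Hm n)] : V.ExactAt n := by
  rw [VCx.exactAt_iff_subsingleton]
  exact (r.equivH n).toEquiv.subsingleton

end HRx

section tot

variable {V W : VCx k} {HV HW : ℕ → Type u} [∀ n, AddCommGroup (HV n)] [∀ n, Module k (HV n)]
  [∀ n, AddCommGroup (HW n)] [∀ n, Module k (HW n)] (r : HRx V HV) (s : HRx W HW)

/-- the graded space `⨁_{a+b=n} HV a ⊗ HW b`. -/
abbrev HTot (HV HW : ℕ → Type u) [∀ n, AddCommGroup (HV n)] [∀ n, Module k (HV n)]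
    [∀ n, AddCommGroup (HW n)] [∀ n, Module k (HW n)] (n : ℕ) : Type u :=
  ⨁ p : Idx n, HV p.1.1 ⊗[k] HW p.1.2

/-- `ι ⊗ ι`. -/
noncomputable def totι (n : ℕ) : HTot (k := k) HV HW n →ₗ[k] TotX V W n :=
  DirectSum.lmap (fun p : Idx n => TensorProduct.map (r.ι p.1.1) (s.ι p.1.2))

/-- `π ⊗ π`. -/
noncomputable def totπ (n : ℕ) : TotX V W n →ₗ[k] HTot (k := k) HV HW n :=
  DirectSum.lmap (fun p : Idx n => TensorProduct.map (r.π p.1.1) (s.π p.1.2))

/-- the total homotopy. -/
noncomputable def toth (n : ℕ) : TotX V W (n + 1) →ₗ[k] TotX V W n :=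
  totH1 r.h (fun _ => LinearMap.id) n + totH2 (fun a => r.ι a ∘ₗ r.π a) s.h n

lemma totι_lof (n : ℕ) (a b : ℕ) (h : a + b = n) (u : HV a) (v : HW b) :
    totι r s n (DirectSum.lof k (Idx n) (fun p => HV p.1.1 ⊗[k] HW p.1.2) ⟨(a, b), h⟩ (u ⊗ₜ[k] v)) =
      inj V W a b h (r.ι a u ⊗ₜ[k] s.ι b v) := by
  unfold totι inj
  rw [DirectSum.lmap_lof, TensorProduct.map_tmul]

lemma totπ_inj (n : ℕ) (a b : ℕ) (h : a + b = n) (x : V.X a) (y : W.X b) :
    totπ r s n (inj V W a b h (x ⊗ₜ[k] y)) =
      DirectSum.lof k (Idx n) (fun p => HV p.1.1 ⊗[k] HW p.1.2) ⟨(a, b), h⟩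
        (r.π a x ⊗ₜ[k] s.π b y) := by
  unfold totπ inj
  rw [DirectSum.lmap_lof, TensorProduct.map_tmul]

lemma totι_totπ_inj (n : ℕ) (a b : ℕ) (h : a + b = n) (x : V.X a) (y : W.X b) :
    totι r s n (totπ r s n (inj V W a b h (x ⊗ₜ[k] y))) =
      inj V W a b h (r.ι a (r.π a x) ⊗ₜ[k] s.ι b (s.π b y)) := by
  rw [totπ_inj, totι_lof]

/-- extensionality for linear maps out of `HTot`. -/
lemma htot_ext {n : ℕ} {M : Type*} [AddCommGroup M] [Module k M]
    {f g : HTot (k := k) HV HW n →ₗ[k] M}
    (h : ∀ (a b : ℕ) (hab : a + b = n) (u : HV a) (v : HW b),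
      f (DirectSum.lof k (Idx n) (fun p => HV p.1.1 ⊗[k] HW p.1.2) ⟨(a, b), hab⟩ (u ⊗ₜ[k] v)) =
        g (DirectSum.lof k (Idx n) (fun p => HV p.1.1 ⊗[k] HW p.1.2) ⟨(a, b), hab⟩ (u ⊗ₜ[k] v))) :
    f = g := by
  apply DirectSum.linearMap_ext
  rintro ⟨⟨a, b⟩, hab⟩
  apply TensorProduct.ext'
  intro u v
  exact h a b hab u v

lemma totπ_totι (n : ℕ) (y : HTot (k := k) HV HW n) : totπ r s n (totι r s n y) = y := by
  have : totπ r s n ∘ₗ totι r s n = LinearMap.id := by
    apply htot_ext
    intro a b hab u v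
    rw [LinearMap.comp_apply, totι_lof, totπ_inj, r.π_ι, s.π_ι, LinearMap.id_apply]
  exact LinearMap.congr_fun this y

lemma totD_totι (n : ℕ) (y : HTot (k := k) HV HW n) : totD V W n (totι r s n y) = 0 := by
  have : totD V W n ∘ₗ totι r s n = 0 := by
    apply htot_ext
    intro a b hab u v
    rw [LinearMap.comp_apply, totι_lof, totD_inj_tmul, r.d_ι, s.d_ι, zero_tmul, tmul_zero,
      map_zero, map_zero, smul_zero, add_zero, LinearMap.zero_apply]
  exact LinearMap.congr_fun this y

lemma totπ_totD (n : ℕ) (z : TotX V W n) : totπ r s (n + 1) (totD V W n z) = 0 := by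
  have : totπ r s (n + 1) ∘ₗ totD V W n = 0 := by
    apply tot_ext
    intro a b hab x y
    rw [LinearMap.comp_apply, totD_inj_tmul, map_add, map_smul, totπ_inj, totπ_inj, r.π_d, s.π_d,
      zero_tmul, tmul_zero, map_zero, map_zero, smul_zero, add_zero, LinearMap.zero_apply]
  exact LinearMap.congr_fun this z

lemma tot_h0 (z : TotX V W 0) :
    z - totι r s 0 (totπ r s 0 z) = toth r s 0 (totD V W 0 z) := by
  have : (LinearMap.id - totι r s 0 ∘ₗ totπ r s 0 : TotX V W 0 →ₗ[k] TotX V W 0) =
      toth r s 0 ∘ₗ totD V W 0 := by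
    apply tot_ext
    intro a b hab x y
    obtain ⟨rfl, rfl⟩ : a = 0 ∧ b = 0 := by omega
    rw [LinearMap.sub_apply, LinearMap.id_apply, LinearMap.comp_apply, LinearMap.comp_apply,
      totι_totπ_inj, totD_inj_tmul, map_add, map_smul]
    unfold toth
    rw [LinearMap.add_apply, LinearMap.add_apply, totH1_inj_succ, totH1_inj_zero,
      totH2_inj_zero, totH2_inj_succ, LinearMap.id_apply, ← r.h0, LinearMap.comp_apply, ← s.h0,
      pow_zero, one_smul, one_smul, sub_tmul, tmul_sub, map_sub, map_sub]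
    abel
  exact LinearMap.congr_fun this z

lemma tot_hs (n : ℕ) (z : TotX V W (n + 1)) :
    z - totι r s (n + 1) (totπ r s (n + 1) z) =
      totD V W n (toth r s n z) + toth r s (n + 1) (totD V W (n + 1) z) := by
  have : (LinearMap.id - totι r s (n + 1) ∘ₗ totπ r s (n + 1) :
      TotX V W (n + 1) →ₗ[k] TotX V W (n + 1)) =
      totD V W n ∘ₗ toth r s n + toth r s (n + 1) ∘ₗ totD V W (n + 1) := by
    apply tot_ext
    intro a b hab x y
    rw [LinearMap.sub_apply, LinearMap.id_apply, LinearMap.comp_apply, LinearMap.add_apply,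
      LinearMap.comp_apply, LinearMap.comp_apply, totι_totπ_inj, totD_inj_tmul, map_add, map_smul]
    unfold toth
    simp only [LinearMap.add_apply]
    cases a with
    | zero =>
      obtain rfl : b = n + 1 := by omega
      rw [totH1_inj_zero, totH1_inj_zero, totH2_inj_succ, totH1_inj_succ, totH2_inj_succ,
        totH2_inj_succ]
      simp only [pow_zero, one_smul, zero_add, LinearMap.comp_apply, LinearMap.id_apply]
      rw [totD_inj_tmul, r.d_ι, r.π_d, ← r.h0]
      have hy : W.d n (s.h n y) = y - s.ι (n + 1) (s.π (n + 1) y) - s.h (n + 1) (W.d (n + 1) y) := by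
        rw [s.hs n y]
        abel
      rw [hy]
      simp only [pow_zero, one_smul, zero_add, add_zero, sub_tmul, tmul_sub, map_sub, zero_tmul,
        map_zero, smul_zero]
      abel
    | succ a =>
      cases b with
      | zero =>
        obtain rfl : a = n := by omega
        rw [totH1_inj_succ, totH2_inj_zero, totH1_inj_succ, totH2_inj_zero, totH1_inj_succ,
          totH2_inj_succ]
        simp only [LinearMap.id_apply, LinearMap.comp_apply, add_zero]
        rw [totD_inj_tmul, ← s.h0]
        have hx : V.d a (r.h a x) =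
            x - r.ι (a + 1) (r.π (a + 1) x) - r.h (a + 1) (V.d (a + 1) x) := by
          rw [r.hs a x]
          abel
        rw [hx]
        simp only [pow_succ, mul_neg_one, neg_smul, smul_neg, smul_add, neg_neg, smul_smul,
          ← mul_pow, neg_mul_neg, one_mul, one_pow, one_smul, sub_tmul, tmul_sub, map_sub]
        abel
      | succ b =>
        obtain rfl : n = a + b + 1 := by omega
        rw [totH1_inj_succ, totH2_inj_succ, totH1_inj_succ, totH2_inj_succ, totH1_inj_succ,
          totH2_inj_succ]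
        simp only [LinearMap.id_apply, LinearMap.comp_apply]
        rw [map_add, map_smul, totD_inj_tmul, totD_inj_tmul, r.d_ι, r.π_d]
        have hx : V.d a (r.h a x) =
            x - r.ι (a + 1) (r.π (a + 1) x) - r.h (a + 1) (V.d (a + 1) x) := by
          rw [r.hs a x]
          abel
        have hy : W.d b (s.h b y) =
            y - s.ι (b + 1) (s.π (b + 1) y) - s.h (b + 1) (W.d (b + 1) y) := by
          rw [s.hs b y]
          abel
        rw [hx, hy]
        simp only [pow_succ, mul_neg_one, neg_smul, smul_neg, smul_add, neg_neg, smul_smul,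
          ← mul_pow, neg_mul_neg, one_mul, one_pow, one_smul, sub_tmul, tmul_sub, map_sub,
          zero_tmul, map_zero, smul_zero, neg_zero, add_zero, zero_add]
        abel
  exact LinearMap.congr_fun this z

/-- the homotopy retraction of the total complex. -/
noncomputable def HRx.tot : HRx (Tot V W) (fun n => HTot (k := k) HV HW n) where
  ι := totι r s
  π := totπ r s
  h := toth r s
  π_ι := totπ_totι r s
  d_ι := totD_totι r s
  π_d := totπ_totD r s
  h0 := tot_h0 r s
  hs := tot_hs r s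

end tot

section exist

variable (V : VCx k)

/-- a pseudo-inverse of a linear map between vector spaces. -/
lemma exists_pseudoInverse {X Y : Type u} [AddCommGroup X] [Module k X] [AddCommGroup Y]
    [Module k Y] (d : X →ₗ[k] Y) : ∃ g : Y →ₗ[k] X, ∀ x, d (g (d x)) = d x := by
  obtain ⟨σ, hσ⟩ := LinearMap.exists_rightInverse_of_surjective d.rangeRestrict
    (LinearMap.range_rangeRestrict d)
  obtain ⟨ρ, hρ⟩ := LinearMap.exists_leftInverse_of_injective (LinearMap.range d).subtype
    (Submodule.ker_subtype _)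
  refine ⟨σ ∘ₗ ρ, fun x => ?_⟩
  have h1 : ρ (d x) = d.rangeRestrict x := by
    have := LinearMap.congr_fun hρ (d.rangeRestrict x)
    exact this
  have h2 : d.rangeRestrict (σ (d.rangeRestrict x)) = d.rangeRestrict x :=
    LinearMap.congr_fun hσ (d.rangeRestrict x)
  rw [LinearMap.comp_apply, h1]
  exact congrArg Subtype.val h2

/-- **every complex of vector spaces has a homotopy retraction onto its cohomology**, with the
projection given by the class map on cocycles. -/
theorem exists_HRx : ∃ r : HRx V V.H, ∀ (a : ℕ) (z : V.Z a), r.π a z = V.cls a z := by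
  choose g hg using fun a => exists_pseudoInverse (V.d a)
  -- the idempotent-like endomorphisms
  obtain ⟨e, he0, hes'⟩ : ∃ e : ∀ a, V.X a →ₗ[k] V.X a,
      (∀ x : V.X 0, e 0 x = x - g 0 (V.d 0 x)) ∧
      (∀ a (x : V.X (a + 1)), e (a + 1) x = x - V.d a (g a x) - g (a + 1) (V.d (a + 1) x)) := by
    refine ⟨fun a => match a with
      | 0 => LinearMap.id - g 0 ∘ₗ V.d 0
      | a + 1 => (LinearMap.id - g (a + 1) ∘ₗ V.d (a + 1)) ∘ₗ (LinearMap.id - V.d a ∘ₗ g a),
      fun x => rfl, fun a x => ?_⟩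
    change (x - V.d a (g a x)) - g (a + 1) (V.d (a + 1) (x - V.d a (g a x))) = _
    rw [map_sub, V.d_comp_d, sub_zero]
  have hde : ∀ a (x : V.X a), V.d a (e a x) = 0 := by
    intro a x
    cases a with
    | zero => rw [he0, map_sub, hg, sub_self]
    | succ a => rw [hes', map_sub, map_sub, V.d_comp_d, sub_zero, hg, sub_self]
  have hed : ∀ a (x : V.X a), e (a + 1) (V.d a x) = 0 := by
    intro a x
    rw [hes', V.d_comp_d, map_zero, sub_zero, hg, sub_self]
  -- e is the identity on cohomology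
  have hcls : ∀ a (z : V.Z a), V.cls a ⟨e a z, hde a z⟩ = V.cls a z := by
    intro a z
    rw [← sub_eq_zero, ← map_sub, VCx.cls_eq_zero_iff]
    have hz : V.d a (z : V.X a) = 0 := z.2
    change e a z - (z : V.X a) ∈ V.B a
    cases a with
    | zero =>
      rw [he0, hz, map_zero, sub_zero, sub_self]
      exact Submodule.zero_mem _
    | succ a =>
      rw [hes', hz, map_zero, sub_zero]
      refine ⟨-(g a z), ?_⟩
      rw [map_neg]
      abel
  let π : ∀ a, V.X a →ₗ[k] V.H a := fun a =>
    V.cls a ∘ₗ (e a).codRestrict (V.Z a) (fun x => hde a x)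
  have hπ : ∀ a x, π a x = V.cls a ⟨e a x, hde a x⟩ := fun a x => rfl
  let ι : ∀ a, V.H a →ₗ[k] V.X a := fun a =>
    Submodule.liftQ _ (e a ∘ₗ (V.Z a).subtype) (by
      intro z hz
      have hz' : (z : V.X a) ∈ V.B a := hz
      rw [LinearMap.mem_ker, LinearMap.comp_apply, Submodule.subtype_apply]
      cases a with
      | zero =>
        have : (z : V.X 0) = 0 := hz'
        rw [this, map_zero]
      | succ a =>
        obtain ⟨y, hy⟩ := hz'
        rw [← hy, hed])
  have hι : ∀ a (z : V.Z a), ι a (V.cls a z) = e a z := fun a z => rfl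
  have hιπ : ∀ a x, ι a (π a x) = e a (e a x) := fun a x => by rw [hπ, hι]
  refine ⟨{ ι := ι
            π := π
            h := fun a => g a ∘ₗ (LinearMap.id + e (a + 1))
            π_ι := ?_
            d_ι := ?_
            π_d := ?_
            h0 := ?_
            hs := ?_ }, ?_⟩
  · intro a y
    obtain ⟨z, rfl⟩ := V.cls_surjective a y
    rw [hι, hπ]
    exact (hcls a ⟨e a z, hde a z⟩).trans (hcls a z)
  · intro a y
    obtain ⟨z, rfl⟩ := V.cls_surjective a y
    rw [hι, hde]
  · intro a x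
    rw [hπ]
    rw [VCx.cls_eq_zero_iff]
    change e (a + 1) (V.d a x) ∈ V.B (a + 1)
    rw [hed]
    exact Submodule.zero_mem _
  · intro x
    rw [hιπ, LinearMap.comp_apply, LinearMap.add_apply, LinearMap.id_apply, hed, add_zero,
      he0 (e 0 x), hde, map_zero, sub_zero, he0]
    abel
  · intro a x
    rw [hιπ, LinearMap.comp_apply, LinearMap.add_apply, LinearMap.id_apply, LinearMap.comp_apply,
      LinearMap.add_apply, LinearMap.id_apply, hed, add_zero, hes' a (e (a + 1) x), hde, map_zero,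
      sub_zero, map_add, map_add, hes' a x]
    abel
  · intro a z
    rw [hπ]
    exact hcls a z

end exist

end Groth.Agent.Lib.Helper20.SegKun
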