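import Mathlib
import Groth.Agent.Lib.Helper20.SegKun3

/-!
# The Künneth formula for complexes of vector spaces and the cohomology of the kernel of
`Tot(V ⊗ W) → Tot(V/V' ⊗ W/W')` (helper20)
-/

set_option autoImplicit false
set_option linter.unusedSectionVars false
set_option linter.unusedVariables false
set_option linter.style.haveILetI false

universe u

open TensorProduct DirectSum

namespace Groth.Agent.Lib.Helper20.SegKun

variable {k : Type u} [Field k]

noncomputable instance idxFintype (n : ℕ) : Fintype (Idx n) :=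
  Fintype.subtype (Finset.HasAntidiagonal.antidiagonal n) (fun p => by exact Finset.HasAntidiagonal.mem_antidiagonal)

lemma sum_idx (n : ℕ) (F : ℕ → ℕ → ℕ) :
    ∑ p : Idx n, F p.1.1 p.1.2 = ∑ a ∈ Finset.range (n + 1), F a (n - a) := by
  rw [← Finset.Nat.sum_antidiagonal_eq_sum_range_succ F n]
  exact (Finset.sum_subtype (Finset.HasAntidiagonal.antidiagonal n) (fun p => by exact Finset.HasAntidiagonal.mem_antidiagonal)
    (fun p => F p.1 p.2)).symm

section kunneth

variable (V W : VCx k)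

/-- **the Künneth formula for complexes of vector spaces.** -/
theorem nonempty_kunneth (n : ℕ) :
    Nonempty ((Tot V W).H n ≃ₗ[k] ⨁ p : Idx n, V.H p.1.1 ⊗[k] W.H p.1.2) := by
  obtain ⟨r, -⟩ := exists_HRx V
  obtain ⟨s, -⟩ := exists_HRx W
  exact ⟨(HRx.tot r s).equivH n⟩

theorem finrank_tot_H (n : ℕ) [∀ a, Module.Finite k (V.H a)] [∀ b, Module.Finite k (W.H b)] :
    Module.finrank k ((Tot V W).H n) =
      ∑ a ∈ Finset.range (n + 1), Module.finrank k (V.H a) * Module.finrank k (W.H (n - a)) := by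
  obtain ⟨e⟩ := nonempty_kunneth V W n
  rw [e.finrank_eq, Module.finrank_directSum]
  simp_rw [Module.finrank_tensorProduct]
  exact sum_idx n (fun a b => Module.finrank k (V.H a) * Module.finrank k (W.H b))

theorem tot_exactAt_succ (hV : ∀ n, V.ExactAt (n + 1)) (hW : ∀ n, W.ExactAt (n + 1)) (n : ℕ) :
    (Tot V W).ExactAt (n + 1) := by
  rw [VCx.exactAt_iff_subsingleton]
  obtain ⟨e⟩ := nonempty_kunneth V W (n + 1)
  have : ∀ p : Idx (n + 1), Subsingleton (V.H p.1.1 ⊗[k] W.H p.1.2) := by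
    rintro ⟨⟨a, b⟩, hab⟩
    cases a with
    | zero =>
      cases b with
      | zero => simp at hab
      | succ b =>
        haveI := (W.exactAt_iff_subsingleton (b + 1)).1 (hW b)
        infer_instance
    | succ a =>
      haveI := (V.exactAt_iff_subsingleton (a + 1)).1 (hV a)
      infer_instance
  haveI : Subsingleton (⨁ p : Idx (n + 1), V.H p.1.1 ⊗[k] W.H p.1.2) := by
    refine ⟨fun x y => ?_⟩
    apply DFinsupp.ext
    intro p
    exact Subsingleton.elim _ _
  exact e.toEquiv.subsingleton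

end kunneth

section h0

variable {V V' W W' : VCx k} (f : VHom V V') (g : VHom W W')

lemma π_map_ι (r : HRx V V.H) (hr : ∀ (a : ℕ) (z : V.Z a), r.π a z = V.cls a z)
    (r' : HRx V' V'.H) (hr' : ∀ (a : ℕ) (z : V'.Z a), r'.π a z = V'.cls a z) (a : ℕ) (u : V.H a) :
    r'.π a (f.f a (r.ι a u)) = f.mapH a u := by
  have hz : r.ι a u ∈ V.Z a := r.d_ι a u
  have h1 := hr' a ⟨f.f a (r.ι a u), f.map_Z hz⟩
  have h2 := hr a ⟨r.ι a u, hz⟩
  rw [r.π_ι] at h2
  change r'.π a (f.f a (r.ι a u)) = _ at h1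
  rw [h1]
  conv_rhs => rw [h2]
  rfl

theorem totHom_mapH_zero_bijective (hf : Function.Bijective (f.mapH 0))
    (hg : Function.Bijective (g.mapH 0)) : Function.Bijective ((totHom f g).mapH 0) := by
  obtain ⟨r, hr⟩ := exists_HRx V
  obtain ⟨s, hs⟩ := exists_HRx W
  obtain ⟨r', hr'⟩ := exists_HRx V'
  obtain ⟨s', hs'⟩ := exists_HRx W'
  let E := (HRx.tot r s).equivH 0
  let E' := (HRx.tot r' s').equivH 0
  let L : HTot (k := k) V.H W.H 0 →ₗ[k] HTot (k := k) V'.H W'.H 0 :=
    DirectSum.lmap (fun p : Idx 0 => TensorProduct.map (f.mapH p.1.1) (g.mapH p.1.2))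
  have hcomp : ∀ p : Idx 0,
      Function.Bijective (TensorProduct.map (f.mapH p.1.1) (g.mapH p.1.2)) := by
    rintro ⟨⟨a, b⟩, hab⟩
    obtain ⟨rfl, rfl⟩ : a = 0 ∧ b = 0 := by
      change a + b = 0 at hab
      omega
    have : (TensorProduct.map (f.mapH 0) (g.mapH 0) : V.H 0 ⊗[k] W.H 0 →ₗ[k] V'.H 0 ⊗[k] W'.H 0) =
        (TensorProduct.congr (LinearEquiv.ofBijective _ hf) (LinearEquiv.ofBijective _ hg) :
          V.H 0 ⊗[k] W.H 0 ≃ₗ[k] V'.H 0 ⊗[k] W'.H 0).toLinearMap := by
      apply TensorProduct.ext'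
      intro x y
      rfl
    change Function.Bijective (TensorProduct.map (f.mapH 0) (g.mapH 0))
    rw [this]
    exact LinearEquiv.bijective _
  have hL : Function.Bijective L :=
    ⟨(DirectSum.lmap_injective _).2 (fun p => (hcomp p).1),
      (DirectSum.lmap_surjective _).2 (fun p => (hcomp p).2)⟩
  have hkey : ∀ w : HTot (k := k) V.H W.H 0,
      totπ r' s' 0 (totMap f.f g.f 0 (totι r s 0 w)) = L w := by
    intro w
    have : totπ r' s' 0 ∘ₗ totMap f.f g.f 0 ∘ₗ totι r s 0 = L := by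
      apply htot_ext
      intro a b hab u v
      rw [LinearMap.comp_apply, LinearMap.comp_apply, totι_lof, totMap_inj_tmul, totπ_inj,
        π_map_ι f r hr r' hr', π_map_ι g s hs s' hs']
      change _ = DirectSum.lmap _ _
      rw [DirectSum.lmap_lof, TensorProduct.map_tmul]
    exact LinearMap.congr_fun this w
  have hcomm : ∀ y, E' ((totHom f g).mapH 0 y) = L (E y) := by
    intro y
    obtain ⟨z, rfl⟩ := (Tot V W).cls_surjective 0 y
    have hz : totD V W 0 z.1 = 0 := z.2
    have h0 := tot_h0 r s z.1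
    rw [hz, map_zero, sub_eq_zero] at h0
    rw [VHom.mapH_cls]
    change totπ r' s' 0 (totMap f.f g.f 0 z.1) = L (totπ r s 0 z.1)
    rw [← hkey, ← h0]
  have : ((totHom f g).mapH 0 : (Tot V W).H 0 → (Tot V' W').H 0) = E'.symm ∘ L ∘ E := by
    funext y
    apply E'.injective
    rw [hcomm]
    simp
  rw [this]
  exact E'.symm.bijective.comp (hL.comp E.bijective)

end h0

section final

variable (V W : VCx k) (V' : ∀ n, Submodule k (V.X n)) (hV' : V.Stable V')
  (W' : ∀ n, Submodule k (W.X n)) (hW' : W.Stable W')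

/-- the chain map `Tot(V ⊗ W) → Tot(V/V' ⊗ W/W')`. -/
noncomputable abbrev quotTotHom : VHom (Tot V W) (Tot (V.quot V' hV') (W.quot W' hW')) :=
  totHom (V.quotHom V' hV') (W.quotHom W' hW')

/-- the kernel complex `K = V' ⊗ W + V ⊗ W'`. -/
noncomputable abbrev KCx : VCx k := (quotTotHom V W V' hV' W' hW').kerCx

lemma quotTotHom_surjective (n : ℕ) :
    Function.Surjective ((quotTotHom V W V' hV' W' hW').f n) :=
  totMap_surjective _ _ (V.quotHom_surjective V' hV') (W.quotHom_surjective W' hW') n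

lemma quotHom_kerFam_eq : (V.quotHom V' hV').kerFam = V' :=
  funext (fun n => V.quotHom_kerFam V' hV' n)

/-- `H^{a+1}(V/V') ≅ H^{a+2}(V')` when `V` is exact in positive degrees. -/
theorem nonempty_quot_H_succ_equiv (hV : ∀ n, V.ExactAt (n + 1)) (a : ℕ) :
    Nonempty ((V.quot V' hV').H (a + 1) ≃ₗ[k] (V.sub V' hV').H (a + 2)) := by
  obtain ⟨e⟩ := nonempty_conn_equiv (V.quotHom V' hV') (V.quotHom_surjective V' hV') (a + 1)
    (hV a) (hV (a + 1))
  obtain ⟨e'⟩ := V.nonempty_sub_H_equiv _ V' (quotHom_kerFam_eq V V' hV')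
    (V.quotHom V' hV').kerFam_stable hV' (a + 2)
  exact ⟨e.trans e'⟩

/-- `H^0(V) → H^0(V/V')` is bijective when `H^0(V') = H^1(V') = 0`. -/
theorem quotHom_mapH_zero_bijective (h0 : (V.sub V' hV').ExactAt 0)
    (h1 : (V.sub V' hV').ExactAt 1) : Function.Bijective ((V.quotHom V' hV').mapH 0) := by
  apply mapH_zero_bijective (V.quotHom V' hV') (V.quotHom_surjective V' hV')
  · exact V.sub_exactAt_congr V' _ (quotHom_kerFam_eq V V' hV').symm hV' _ 0 h0
  · exact V.sub_exactAt_congr V' _ (quotHom_kerFam_eq V V' hV').symm hV' _ 1 h1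

variable (hV : ∀ n, V.ExactAt (n + 1)) (hW : ∀ n, W.ExactAt (n + 1))
  (hV0 : (V.sub V' hV').ExactAt 0) (hV1 : (V.sub V' hV').ExactAt 1)
  (hW0 : (W.sub W' hW').ExactAt 0) (hW1 : (W.sub W' hW').ExactAt 1)

include hV hW hV0 hV1 hW0 hW1 in
/-- the kernel complex is exact in degrees `0` and `1`. -/
theorem KCx_exactAt_zero_one :
    (KCx V W V' hV' W' hW').ExactAt 0 ∧ (KCx V W V' hV' W' hW').ExactAt 1 := by
  apply kerCx_exactAt_zero_one (quotTotHom V W V' hV' W' hW')
    (quotTotHom_surjective V W V' hV' W' hW')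
  · exact totHom_mapH_zero_bijective _ _ (quotHom_mapH_zero_bijective V V' hV' hV0 hV1)
      (quotHom_mapH_zero_bijective W W' hW' hW0 hW1)
  · exact tot_exactAt_succ V W hV hW 0

include hV hW in
/-- `H^{q+2}(K) ≅ H^{q+1}(Tot(V/V' ⊗ W/W'))`. -/
theorem nonempty_KCx_H_equiv (q : ℕ) :
    Nonempty ((Tot (V.quot V' hV') (W.quot W' hW')).H (q + 1) ≃ₗ[k]
      (KCx V W V' hV' W' hW').H (q + 2)) :=
  nonempty_conn_equiv (quotTotHom V W V' hV' W' hW') (quotTotHom_surjective V W V' hV' W' hW')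
    (q + 1) (tot_exactAt_succ V W hV hW q) (tot_exactAt_succ V W hV hW (q + 1))

end final

section numeric

/-- the re-summation used in the Künneth formula for Segre products. -/
lemma sum_rearrange (v' w' : ℕ → ℕ) (m n : ℕ) (hw0 : w' 0 = 0) (hw1 : w' 1 = 0)
    (hv0 : v' 0 = 0) (hv1 : v' 1 = 0)
    (vb wb : ℕ → ℕ) (hvb0 : vb 0 = m) (hvbs : ∀ a, vb (a + 1) = v' (a + 2))
    (hwb0 : wb 0 = n) (hwbs : ∀ a, wb (a + 1) = w' (a + 2)) (q : ℕ) :
    ∑ a ∈ Finset.range (q + 2), vb a * wb (q + 1 - a) =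
      m * w' (q + 2) + v' (q + 2) * n +
        ∑ i ∈ Finset.range (q + 2 + 2), v' i * w' (q + 2 + 1 - i) := by
  -- left side
  have hL : ∑ a ∈ Finset.range (q + 2), vb a * wb (q + 1 - a) =
      m * w' (q + 2) + v' (q + 2) * n + ∑ a ∈ Finset.range q, v' (a + 2) * w' (q - a + 1) := by
    rw [Finset.sum_range_succ', Finset.sum_range_succ]
    simp only [Nat.sub_zero, hvb0, hvbs, hwbs, Nat.add_sub_add_right, Nat.sub_self, hwb0]
    have : ∑ x ∈ Finset.range q, v' (x + 2) * wb (q - x) =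
        ∑ a ∈ Finset.range q, v' (a + 2) * w' (q - a + 1) := by
      apply Finset.sum_congr rfl
      intro a ha
      rw [Finset.mem_range] at ha
      obtain ⟨c, hc⟩ : ∃ c, q - a = c + 1 := ⟨q - a - 1, by omega⟩
      rw [hc, hwbs]
    rw [this]
    ring
  -- right side
  have hR : ∑ i ∈ Finset.range (q + 2 + 2), v' i * w' (q + 2 + 1 - i) =
      ∑ a ∈ Finset.range q, v' (a + 2) * w' (q - a + 1) := by
    rw [Finset.sum_range_succ', Finset.sum_range_succ', Finset.sum_range_succ,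
      Finset.sum_range_succ]
    simp only [hv0, hv1, zero_mul, add_zero]
    have h1 : q + 2 + 1 - (q + 1 + 1 + 1) = 0 := by omega
    have h2 : q + 2 + 1 - (q + 1 + 1) = 1 := by omega
    rw [h1, h2, hw0, hw1, mul_zero, mul_zero, add_zero, add_zero]
    apply Finset.sum_congr rfl
    intro a ha
    rw [Finset.mem_range] at ha
    have h3 : q + 2 + 1 - (a + 1 + 1) = q - a + 1 := by omega
    rw [h3]
  rw [hL, hR]

end numeric

end Groth.Agent.Lib.Helper20.SegKun
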