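import Mathlib
import Groth.Agent.Lib.Helper20.SegKun4

/-!
# Families of orthogonal projections (gradings of vector spaces) and the diagonal projection
(helper20)
-/

set_option autoImplicit false
set_option linter.unusedSectionVars false
set_option linter.unusedVariables false
set_option linter.style.haveILetI false

universe u

open TensorProduct DirectSum

namespace Groth.Agent.Lib.Helper20.SegGr

/-- a `ℤ`-grading of a vector space given by a complete family of orthogonal projections. -/
structure PFam (k : Type u) [Field k] (X : Type u) [AddCommGroup X] [Module k X] where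
  p : ℤ → X →ₗ[k] X
  idem : ∀ e x, p e (p e x) = p e x
  orth : ∀ e e' x, e ≠ e' → p e (p e' x) = 0
  span : ∀ x, x ∈ ⨆ e, LinearMap.range (p e)

variable {k : Type u} [Field k]

namespace PFam

section basic

variable {X : Type u} [AddCommGroup X] [Module k X] (P : PFam k X)

/-- the pieces. -/
def piece (e : ℤ) : Submodule k X := LinearMap.range (P.p e)

lemma p_mem (e : ℤ) (x : X) : P.p e x ∈ P.piece e := LinearMap.mem_range_self _ _

lemma p_of_mem {e : ℤ} {x : X} (h : x ∈ P.piece e) : P.p e x = x := by
  obtain ⟨y, rfl⟩ := h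
  exact P.idem e y

lemma mem_piece_iff {e : ℤ} {x : X} : x ∈ P.piece e ↔ P.p e x = x :=
  ⟨P.p_of_mem, fun h => h ▸ P.p_mem e x⟩

lemma p_of_mem_ne {e e' : ℤ} {x : X} (h : x ∈ P.piece e') (hne : e ≠ e') : P.p e x = 0 := by
  obtain ⟨y, rfl⟩ := h
  exact P.orth e e' y hne

lemma iSupIndep_piece : iSupIndep P.piece := by
  intro e
  rw [Submodule.disjoint_def]
  intro x hx hx'
  have h1 : P.p e x = x := P.p_of_mem hx
  have h2 : (⨆ j, ⨆ (_ : j ≠ e), P.piece j) ≤ LinearMap.ker (P.p e) := by
    apply iSup_le
    intro j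
    apply iSup_le
    intro hj y hy
    exact P.p_of_mem_ne hy (Ne.symm hj)
  have h3 : P.p e x = 0 := h2 hx'
  rw [← h1, h3]

lemma iSup_piece : ⨆ e, P.piece e = ⊤ := eq_top_iff.2 (fun x _ => P.span x)

lemma isInternal : DirectSum.IsInternal P.piece :=
  DirectSum.isInternal_submodule_of_iSupIndep_of_iSup_eq_top P.iSupIndep_piece P.iSup_piece

noncomputable instance dec : DirectSum.Decomposition P.piece := P.isInternal.chooseDecomposition

lemma decompose_eq (x : X) (e : ℤ) :
    ((DirectSum.decompose P.piece x e : P.piece e) : X) = P.p e x := by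
  classical
  conv_rhs => rw [← DirectSum.sum_support_decompose P.piece x]
  rw [map_sum, Finset.sum_eq_single e]
  · exact (P.p_of_mem (SetLike.coe_mem _)).symm
  · intro j _ hj
    exact P.p_of_mem_ne (SetLike.coe_mem _) (Ne.symm hj)
  · intro he
    rw [DFinsupp.notMem_support_iff] at he
    rw [he, ZeroMemClass.coe_zero, map_zero]

lemma induction_on {motive : X → Prop} (x : X) (zero : motive 0)
    (hom : ∀ (e : ℤ) (x : X), x ∈ P.piece e → motive x)
    (add : ∀ x y, motive x → motive y → motive (x + y)) : motive x :=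
  DirectSum.Decomposition.inductionOn P.piece zero (fun {e} m => hom e m.1 m.2) add x

/-- an additive map shifting degrees by `d` commutes with the projections. -/
lemma p_shift_of_map {X' : Type u} [AddCommGroup X'] [Module k X'] (P' : PFam k X') (f : X →+ X')
    (d : ℤ) (hf : ∀ e x, x ∈ P.piece e → f x ∈ P'.piece (e + d)) (e : ℤ) (x : X) :
    P'.p (e + d) (f x) = f (P.p e x) := by
  induction x using P.induction_on with
  | zero => rw [map_zero, map_zero, map_zero, map_zero]
  | add x y hx hy => rw [map_add, map_add, hx, hy, map_add, map_add]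
  | hom e' x hx =>
    by_cases he : e' = e
    · subst he
      rw [P.p_of_mem hx, P'.p_of_mem (hf e' x hx)]
    · rw [P.p_of_mem_ne hx (Ne.symm he), map_zero,
        P'.p_of_mem_ne (hf e' x hx) (fun h => he (add_right_cancel h).symm)]

end basic

section diag

variable {Z : Type u} [AddCommGroup Z] [Module k Z] (P Q : PFam k Z)

/-- the diagonal map `z ↦ ∑ₑ Qₑ Pₑ z`. -/
noncomputable def diag : Z →ₗ[k] Z :=
  (DirectSum.toModule k ℤ Z (fun e => (Q.p e) ∘ₗ (P.piece e).subtype)) ∘ₗ
    (DirectSum.decomposeLinearEquiv P.piece).toLinearMap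

lemma diag_of_mem {e : ℤ} {z : Z} (hz : z ∈ P.piece e) : diag P Q z = Q.p e z := by
  change DirectSum.toModule k ℤ Z (fun e => (Q.p e) ∘ₗ (P.piece e).subtype)
    (DirectSum.decompose P.piece z) = _
  rw [DirectSum.decompose_of_mem P.piece hz]
  change DirectSum.toModule k ℤ Z (fun e => (Q.p e) ∘ₗ (P.piece e).subtype)
    (DirectSum.lof k ℤ (fun e => P.piece e) e ⟨z, hz⟩) = _
  rw [DirectSum.toModule_lof]
  rfl

variable (hc : ∀ e e' z, P.p e (Q.p e' z) = Q.p e' (P.p e z))

include hc in
lemma q_mem_piece {e e' : ℤ} {z : Z} (hz : z ∈ P.piece e) : Q.p e' z ∈ P.piece e := by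
  rw [P.mem_piece_iff, hc, P.p_of_mem hz]

include hc in
lemma p_diag (e : ℤ) (z : Z) : P.p e (diag P Q z) = Q.p e (P.p e z) := by
  induction z using P.induction_on with
  | zero => simp only [map_zero]
  | add x y hx hy => simp only [map_add, hx, hy]
  | hom e' x hx =>
    rw [diag_of_mem P Q hx, hc]
    by_cases he : e' = e
    · subst he
      rfl
    · rw [P.p_of_mem_ne hx (Ne.symm he), map_zero, map_zero]

lemma diag_p (e : ℤ) (z : Z) : diag P Q (P.p e z) = Q.p e (P.p e z) :=
  diag_of_mem P Q (P.p_mem e z)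

include hc in
lemma diag_diag (z : Z) : diag P Q (diag P Q z) = diag P Q z := by
  induction z using P.induction_on with
  | zero => simp only [map_zero]
  | add x y hx hy => simp only [map_add, hx, hy]
  | hom e x hx =>
    rw [diag_of_mem P Q hx, diag_of_mem P Q (q_mem_piece P Q hc hx), Q.idem]

include hc in
lemma q_diag (e : ℤ) (z : Z) : Q.p e (diag P Q z) = Q.p e (P.p e z) := by
  induction z using P.induction_on with
  | zero => simp only [map_zero]
  | add x y hx hy => simp only [map_add, hx, hy]
  | hom e' x hx =>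
    rw [diag_of_mem P Q hx]
    by_cases he : e' = e
    · subst he
      rw [P.p_of_mem hx, Q.idem]
    · rw [P.p_of_mem_ne hx (Ne.symm he), map_zero, Q.orth e e' x (Ne.symm he)]

include hc in
lemma diag_eq_self_iff {e : ℤ} {z : Z} (hz : z ∈ P.piece e) :
    diag P Q z = z ↔ z ∈ Q.piece e := by
  rw [diag_of_mem P Q hz, Q.mem_piece_iff]

include hc in
lemma diag_of_mem_of_mem {e : ℤ} {z : Z} (hz : z ∈ P.piece e) (hz' : z ∈ Q.piece e) :
    diag P Q z = z := (diag_eq_self_iff P Q hc hz).2 hz'

/-- naturality of the diagonal map. -/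
lemma diag_map {Z' : Type u} [AddCommGroup Z'] [Module k Z'] (P' Q' : PFam k Z')
    (f : Z →ₗ[k] Z') (hP : ∀ e z, f (P.p e z) = P'.p e (f z))
    (hQ : ∀ e z, f (Q.p e z) = Q'.p e (f z)) (z : Z) : f (diag P Q z) = diag P' Q' (f z) := by
  induction z using P.induction_on with
  | zero => simp only [map_zero]
  | add x y hx hy => simp only [map_add, hx, hy]
  | hom e x hx =>
    have hfx : f x ∈ P'.piece e := by
      rw [P'.mem_piece_iff, ← hP, P.p_of_mem hx]
    rw [diag_of_mem P Q hx, diag_of_mem P' Q' hfx, hQ]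

/-- the diagonal map commutes with additive maps homogeneous of the same degree for both
gradings. -/
lemma diag_map_shift (f : Z →+ Z) (d : ℤ) (hP : ∀ e z, z ∈ P.piece e → f z ∈ P.piece (e + d))
    (hQ : ∀ e z, z ∈ Q.piece e → f z ∈ Q.piece (e + d)) (z : Z) :
    diag P Q (f z) = f (diag P Q z) := by
  induction z using P.induction_on with
  | zero => simp only [map_zero]
  | add x y hx hy => simp only [map_add, hx, hy]
  | hom e x hx =>
    rw [diag_of_mem P Q hx, diag_of_mem P Q (hP e x hx)]
    exact Q.p_shift_of_map Q f d hQ e x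

end diag

end PFam

end Groth.Agent.Lib.Helper20.SegGr
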