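import Mathlib
import Groth.Prelude.Def_DualLC
import Groth.Agent.Lib.Helper4.LC2
import Groth.Agent.Lib.Helper20.LCDeltaHH
import Groth.Agent.Lib.Helper20.LCDeltaRes
import Groth.Agent.Lib.Helper20.LCIndep

/-!
# Mayer–Vietoris for local cohomology (in the model `HH`)
-/

set_option autoImplicit false
set_option linter.unusedSectionVars false
set_option linter.unusedVariables false

universe u

open CategoryTheory Abelian Groth.Agent.Lib.Helper4.LC Groth.Agent.Lib.Helper20.LCDelta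

namespace Groth.Agent.Lib.Helper20.LCDelta

variable {R : Type u} [CommRing R]

/-- the product of two δ-functors. -/
noncomputable def DF.prod (T T' : DF R) : DF R where
  T M i := ModuleCat.of R (T.T M i × T'.T M i)
  map g i := LinearMap.prodMap (T.map g i) (T'.map g i)
  δ hS i := LinearMap.prodMap (T.δ hS i) (T'.δ hS i)
  map_f_injective hS := by
    rintro ⟨x, x'⟩ ⟨y, y'⟩ hxy
    have h1 := congrArg Prod.fst hxy
    have h2 := congrArg Prod.snd hxy
    exact Prod.ext (T.map_f_injective hS h1) (T'.map_f_injective hS h2)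
  map_g_map_f hS i x := Prod.ext (T.map_g_map_f hS i x.1) (T'.map_g_map_f hS i x.2)
  exact₂ hS i x hx := by
    obtain ⟨y, hy⟩ := T.exact₂ hS i x.1 (congrArg Prod.fst hx)
    obtain ⟨y', hy'⟩ := T'.exact₂ hS i x.2 (congrArg Prod.snd hx)
    exact ⟨(y, y'), Prod.ext hy hy'⟩
  δ_map_g hS i x := Prod.ext (T.δ_map_g hS i x.1) (T'.δ_map_g hS i x.2)
  exact₃ hS i x hx := by
    obtain ⟨y, hy⟩ := T.exact₃ hS i x.1 (congrArg Prod.fst hx)
    obtain ⟨y', hy'⟩ := T'.exact₃ hS i x.2 (congrArg Prod.snd hx)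
    exact ⟨(y, y'), Prod.ext hy hy'⟩
  map_f_δ hS i x := Prod.ext (T.map_f_δ hS i x.1) (T'.map_f_δ hS i x.2)
  exact₁ hS i x hx := by
    obtain ⟨y, hy⟩ := T.exact₁ hS i x.1 (congrArg Prod.fst hx)
    obtain ⟨y', hy'⟩ := T'.exact₁ hS i x.2 (congrArg Prod.snd hx)
    exact ⟨(y, y'), Prod.ext hy hy'⟩
  vanish E hE i := by
    have := T.vanish E hE i
    have := T'.vanish E hE i
    exact inferInstanceAs (Subsingleton (T.T E (i + 1) × T'.T E (i + 1)))

/-- pairing of two transformations. -/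
noncomputable def DFHom.pair {T₁ T₂ T₂' : DF R} (α : DFHom T₁ T₂) (α' : DFHom T₁ T₂') :
    DFHom T₁ (T₂.prod T₂') where
  app M i := LinearMap.prod (α.app M i) (α'.app M i)
  naturality g i x := Prod.ext (α.naturality g i x) (α'.naturality g i x)
  comm_δ hS i x := Prod.ext (α.comm_δ hS i x) (α'.comm_δ hS i x)

/-- difference of two transformations. -/
noncomputable def DFHom.diff {T₂ T₂' T₃ : DF R} (β : DFHom T₂ T₃) (β' : DFHom T₂' T₃) :
    DFHom (T₂.prod T₂') T₃ where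
  app M i := β.app M i ∘ₗ LinearMap.fst R _ _ - β'.app M i ∘ₗ LinearMap.snd R _ _
  naturality g i x := by
    change β.app _ i (T₂.map g i x.1) - β'.app _ i (T₂'.map g i x.2) =
      T₃.map g i (β.app _ i x.1 - β'.app _ i x.2)
    rw [map_sub, β.naturality, β'.naturality]
  comm_δ hS i x := by
    change β.app _ (i + 1) (T₂.δ hS i x.1) - β'.app _ (i + 1) (T₂'.δ hS i x.2) =
      T₃.δ hS i (β.app _ i x.1 - β'.app _ i x.2)
    rw [map_sub, β.comm_δ, β'.comm_δ]

end Groth.Agent.Lib.Helper20.LCDelta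

namespace Groth.Agent.Lib.Helper20.LCDeltaHH

variable {R : Type u} [CommRing R]

lemma pmap_comp {I J K : Ideal R} (h1 : I ≤ J) (h2 : J ≤ K) (n : ℕ) :
    pmap h1 n ≫ pmap h2 n = pmap (h1.trans h2) n := by
  apply ModuleCat.hom_ext
  apply LinearMap.ext
  intro x
  obtain ⟨x, rfl⟩ := Submodule.Quotient.mk_surjective _ x
  rfl

lemma res_res {I J K : Ideal R} (h1 : I ≤ J) (h2 : J ≤ K) (M : ModuleCat.{u} R) (i : ℕ)
    (x : HH K M i) : res h1 M i (res h2 M i x) = res (h1.trans h2) M i x := by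
  obtain ⟨n, y, rfl⟩ := HH.exists_of K M i x
  rw [res_of, res_of, res_of, Ext.mk₀_comp_mk₀_assoc, pmap_comp]

lemma res_zero_injective' (M : ModuleCat.{u} R) {I J : Ideal R} (h : I ≤ J) :
    Function.Injective (res h M 0) := by
  intro x y hxy
  apply HH0_injective J M
  rw [← HH0_res h M x, ← HH0_res h M y, hxy]

variable [IsNoetherianRing R] (I J : Ideal R)

section cond

variable (M : ModuleCat.{u} R)

lemma mv_exact_zero (x : HH I M 0) (y : HH J M 0)
    (hxy : res (inf_le_left : I ⊓ J ≤ I) M 0 x - res (inf_le_right : I ⊓ J ≤ J) M 0 y = 0) :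
    ∃ z, res (le_sup_left : I ≤ I ⊔ J) M 0 z = x ∧ res (le_sup_right : J ≤ I ⊔ J) M 0 z = y := by
  set m := HH0 I M x with hm
  have hm' : HH0 J M y = m := by
    rw [hm, ← HH0_res (inf_le_left : I ⊓ J ≤ I) M x, ← HH0_res (inf_le_right : I ⊓ J ≤ J) M y,
      sub_eq_zero.1 hxy]
  have hmI : m ∈ DRing.torsionSub I M := HH0_mem I M x
  have hmJ : m ∈ DRing.torsionSub J M := hm' ▸ HH0_mem J M y
  let N : Submodule R M := DRing.torsionSub I M ⊓ DRing.torsionSub J M
  have hNI : LocCoh.IsPowerTorsion I N := by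
    rintro ⟨z, ⟨n, hn⟩, _⟩
    exact ⟨n, fun r hr => Subtype.ext (hn r hr)⟩
  have hNJ : LocCoh.IsPowerTorsion J N := by
    rintro ⟨z, _, ⟨n, hn⟩⟩
    exact ⟨n, fun r hr => Subtype.ext (hn r hr)⟩
  obtain ⟨n, hn⟩ := Groth.Agent.Lib.Helper20.LCIndep.isPowerTorsion_sup hNI hNJ
    (⟨m, hmI, hmJ⟩ : N)
  have hmS : m ∈ DRing.torsionSub (I ⊔ J) M :=
    ⟨n, fun r hr => congrArg Subtype.val (hn r hr)⟩
  refine ⟨(HH0Equiv (I ⊔ J) M).symm ⟨m, hmS⟩, ?_, ?_⟩
  · apply HH0_injective I M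
    rw [HH0_res, ← HH0Equiv_apply, LinearEquiv.apply_symm_apply]
  · apply HH0_injective J M
    rw [HH0_res, ← HH0Equiv_apply, LinearEquiv.apply_symm_apply, hm']

/-- `Γ_{I∩J}(E) = Γ_I(E) + Γ_J(E)` for injective `E`. -/
lemma mv_zero_surjective (E : ModuleCat.{u} R) (hE : Injective E) (w : HH (I ⊓ J) E 0) :
    ∃ (x : HH I E 0) (y : HH J E 0),
      res (inf_le_left : I ⊓ J ≤ I) E 0 x - res (inf_le_right : I ⊓ J ≤ J) E 0 y = w := by
  have hEinj : Module.Injective R E := Module.injective_module_of_injective_object R E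
  have hG : Module.Injective R (DRing.torsionSub I E) := injective_torsionSub I E
  obtain ⟨p, hp⟩ := Module.Injective.out (DRing.torsionSub I E).subtype
    (Submodule.injective_subtype _) (LinearMap.id : DRing.torsionSub I E →ₗ[R] _)
  obtain ⟨n, hn⟩ := HH0_mem (I ⊓ J) E w
  generalize hm : HH0 (I ⊓ J) E w = m at hn
  -- `e' = m - p m` is `J`-torsion
  have he' : m - (p m : E) ∈ DRing.torsionSub J E := by
    refine ⟨n, fun r hr => ?_⟩
    have hrm : r • m ∈ DRing.torsionSub I E := by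
      refine ⟨n, fun s hs => ?_⟩
      rw [smul_smul]
      apply hn
      have h1 : s * r ∈ I ^ n * J ^ n := Ideal.mul_mem_mul hs hr
      rw [← mul_pow] at h1
      exact Ideal.pow_right_mono Ideal.mul_le_inf n h1
    have h2 : p (r • m) = ⟨r • m, hrm⟩ := hp ⟨r • m, hrm⟩
    have h3 : ((r • p m : DRing.torsionSub I E) : E) = r • m := by
      rw [← map_smul, h2]
    rw [smul_sub, ← h3, Submodule.coe_smul, sub_self]
  refine ⟨(HH0Equiv I E).symm (p m), (HH0Equiv J E).symm ⟨-(m - (p m : E)), neg_mem he'⟩, ?_⟩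
  apply HH0_injective (I ⊓ J) E
  rw [map_sub, HH0_res, HH0_res, ← HH0Equiv_apply, ← HH0Equiv_apply,
    LinearEquiv.apply_symm_apply, LinearEquiv.apply_symm_apply, hm]
  change (p m : E) - -(m - (p m : E)) = m
  abel

end cond

/-- **Mayer–Vietoris** in the model. -/
theorem main_MV (i : ℕ) (M : ModuleCat.{u} R) :
    (∀ x : HH I M i × HH J M i,
      res (inf_le_left : I ⊓ J ≤ I) M i x.1 - res (inf_le_right : I ⊓ J ≤ J) M i x.2 = 0 →
      ∃ y, (res (le_sup_left : I ≤ I ⊔ J) M i y, res (le_sup_right : J ≤ I ⊔ J) M i y) = x) ∧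
    Nonempty ((HH (I ⊓ J) M i ⧸ LinearMap.range
        (res (inf_le_left : I ⊓ J ≤ I) M i ∘ₗ LinearMap.fst R _ _ -
          res (inf_le_right : I ⊓ J ≤ J) M i ∘ₗ LinearMap.snd R _ _)) ≃ₗ[R]
      LinearMap.ker (LinearMap.prod (res (le_sup_left : I ≤ I ⊔ J) M (i + 1))
        (res (le_sup_right : J ≤ I ⊔ J) M (i + 1)))) :=
  LCDelta.main (dfHH (I ⊔ J)) ((dfHH I).prod (dfHH J)) (dfHH (I ⊓ J))
    ((resHom le_sup_left).pair (resHom le_sup_right))
    ((resHom inf_le_left).diff (resHom inf_le_right))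
    (fun M i x => by
      change res (inf_le_left : I ⊓ J ≤ I) M i (res (le_sup_left : I ≤ I ⊔ J) M i x) -
        res (inf_le_right : I ⊓ J ≤ J) M i (res (le_sup_right : J ≤ I ⊔ J) M i x) = 0
      rw [res_res, res_res, sub_self])
    (fun M x y hxy => res_zero_injective' M le_sup_left (congrArg Prod.fst hxy))
    (fun M x hx => by
      obtain ⟨z, hz1, hz2⟩ := mv_exact_zero I J M x.1 x.2 hx
      exact ⟨z, Prod.ext hz1 hz2⟩)
    (fun E hE w => by
      obtain ⟨x, y, hxy⟩ := mv_zero_surjective I J E hE w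
      exact ⟨(x, y), hxy⟩) i M

end Groth.Agent.Lib.Helper20.LCDeltaHH
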