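import Mathlib
import Groth.Agent.Lib.Helper4.LC1
import Groth.Agent.Lib.Helper4.LC2
import Groth.Agent.Lib.Helper4.LC3
import Groth.Agent.Lib.Helper20.LCAcyclic
import Groth.Agent.Lib.Helper20.LCDeltaMV

/-!
# General vanishing lemmas for local cohomology (helper20): additivity, retracts, finite direct
sums, dependence on the torsion functor only, Mayer–Vietoris vanishing, sums of ideals.
-/

set_option autoImplicit false
set_option linter.unusedSectionVars false
set_option linter.unusedVariables false
set_option linter.style.haveILetI false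

universe u

open CategoryTheory Abelian Groth.Agent.Lib.Helper4.LC Groth.Agent.Lib.Helper20.LCAcyclic

namespace Groth.Agent.Lib.Helper20.SegAcyc

variable {R : Type u} [CommRing R] (I : Ideal R)

section additive

variable {M M' : ModuleCat.{u} R}

lemma HH_map_add (f g : M ⟶ M') (i : ℕ) (x : HH I M i) :
    HH.map I (f + g) i x = HH.map I f i x + HH.map I g i x := by
  obtain ⟨n, y, rfl⟩ := HH.exists_of I M i x
  rw [HH.map_of, HH.map_of, HH.map_of, Ext.mk₀_add, Ext.comp_add, map_add]

lemma HH_map_sum {ι : Type*} (s : Finset ι) (f : ι → (M ⟶ M')) (i : ℕ) (x : HH I M i) :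
    HH.map I (∑ p ∈ s, f p) i x = ∑ p ∈ s, HH.map I (f p) i x := by
  classical
  induction s using Finset.induction_on with
  | empty => rw [Finset.sum_empty, Finset.sum_empty, HH.map_zero']
  | insert a s ha ih => rw [Finset.sum_insert ha, Finset.sum_insert ha, HH_map_add, ih]

end additive

section retract

variable {N M : Type u} [AddCommGroup N] [Module R N] [AddCommGroup M] [Module R M]

/-- a retract of a module with vanishing local cohomology has vanishing local cohomology. -/
lemma subsingleton_HH_of_retract (f : N →ₗ[R] M) (g : M →ₗ[R] N) (hgf : ∀ x, g (f x) = x) (i : ℕ)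
    (h : Subsingleton (HH I (ModuleCat.of R M) i)) : Subsingleton (HH I (ModuleCat.of R N) i) := by
  refine ⟨fun a b => ?_⟩
  have key : ∀ x : HH I (ModuleCat.of R N) i, x = 0 := by
    intro x
    have h1 : ModuleCat.ofHom f ≫ ModuleCat.ofHom g = 𝟙 (ModuleCat.of R N) := by
      ext y
      exact hgf y
    have h2 := HH.map_id I i x
    rw [← h1, HH.map_comp, Subsingleton.elim (HH.map I (ModuleCat.ofHom f) i x) 0, map_zero] at h2
    exact h2.symm
  rw [key a, key b]

/-- isomorphic modules have isomorphic local cohomology (vanishing version). -/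
lemma subsingleton_HH_of_equiv (e : N ≃ₗ[R] M) (i : ℕ)
    (h : Subsingleton (HH I (ModuleCat.of R M) i)) : Subsingleton (HH I (ModuleCat.of R N) i) :=
  subsingleton_HH_of_retract I e.toLinearMap e.symm.toLinearMap (fun x => e.symm_apply_apply x) i h

end retract

section directSum

open DirectSum

variable {ι : Type} [Fintype ι] [DecidableEq ι] (X : ι → Type u) [∀ p, AddCommGroup (X p)]
  [∀ p, Module R (X p)]

/-- finite direct sums of modules with vanishing local cohomology. -/
lemma subsingleton_HH_directSum (i : ℕ)
    (h : ∀ p, Subsingleton (HH I (ModuleCat.of R (X p)) i)) :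
    Subsingleton (HH I (ModuleCat.of R (⨁ p, X p)) i) := by
  refine ⟨fun a b => ?_⟩
  have key : ∀ x : HH I (ModuleCat.of R (⨁ p, X p)) i, x = 0 := by
    intro x
    have h1 : (𝟙 (ModuleCat.of R (⨁ p, X p)) : ModuleCat.of R (⨁ p, X p) ⟶ _) =
        ∑ p ∈ (Finset.univ : Finset ι),
          (ModuleCat.ofHom (DirectSum.component R ι X p) ≫
            ModuleCat.ofHom (DirectSum.lof R ι X p)) := by
      apply ModuleCat.hom_ext
      apply LinearMap.ext
      intro y
      change y = (∑ p ∈ (Finset.univ : Finset ι),
          (ModuleCat.ofHom (DirectSum.component R ι X p) ≫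
            ModuleCat.ofHom (DirectSum.lof R ι X p))).hom y
      rw [ModuleCat.hom_sum, LinearMap.sum_apply]
      change y = ∑ p, DirectSum.lof R ι X p (DirectSum.component R ι X p y)
      conv_lhs => rw [← DirectSum.sum_univ_of y]
      rfl
    have h2 := HH.map_id I i x
    rw [h1, HH_map_sum] at h2
    rw [← h2]
    apply Finset.sum_eq_zero
    intro p _
    rw [HH.map_comp]
    haveI := h p
    rw [Subsingleton.elim (HH.map I (ModuleCat.ofHom (DirectSum.component R ι X p)) i x) 0,
      map_zero]
  rw [key a, key b]

end directSum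

end Groth.Agent.Lib.Helper20.SegAcyc
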