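import Mathlib
import Groth.Agent.Lib.Helper20.SegAcyc1

/-!
# Vanishing of local cohomology: criterion via acyclic resolutions, radical invariance, sums and
intersections of ideals (helper20)
-/

set_option autoImplicit false
set_option linter.unusedSectionVars false
set_option linter.unusedVariables false
set_option linter.style.haveILetI false

universe u

open CategoryTheory Abelian Groth.Agent.Lib.Helper4.LC Groth.Agent.Lib.Helper20.LCAcyclic

namespace Groth.Agent.Lib.Helper20.SegAcyc

variable {R : Type u} [CommRing R]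

section gam

lemma gam_eq_torsionSub (I : Ideal R) (M : Type u) [AddCommGroup M] [Module R M] :
    GrLC.gam I M = DRing.torsionSub I M := rfl

lemma mem_gam_iff {I : Ideal R} {M : Type u} [AddCommGroup M] [Module R M] {x : M} :
    x ∈ GrLC.gam I M ↔ ∃ n : ℕ, ∀ r ∈ I ^ n, r • x = 0 := Iff.rfl

lemma gam_mono {I J : Ideal R} (h : I ≤ J) (M : Type u) [AddCommGroup M] [Module R M] :
    GrLC.gam J M ≤ GrLC.gam I M := by
  rintro x ⟨n, hn⟩
  exact ⟨n, fun r hr => hn r (Ideal.pow_right_mono h n hr)⟩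

lemma gam_sup (I J : Ideal R) (M : Type u) [AddCommGroup M] [Module R M] :
    GrLC.gam (I ⊔ J) M = GrLC.gam I M ⊓ GrLC.gam J M := by
  apply le_antisymm
  · exact le_inf (gam_mono le_sup_left M) (gam_mono le_sup_right M)
  · rintro x ⟨⟨n, hn⟩, ⟨m, hm⟩⟩
    refine ⟨n + m, fun r hr => ?_⟩
    have hr' := Ideal.sup_pow_add_le_pow_sup_pow hr
    obtain ⟨r₁, hr₁, r₂, hr₂, rfl⟩ := Submodule.mem_sup.1 hr'
    rw [add_smul, hn r₁ hr₁, hm r₂ hr₂, add_zero]

lemma map_mem_gam {I : Ideal R} {M N : Type u} [AddCommGroup M] [Module R M] [AddCommGroup N]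
    [Module R N] (f : M →ₗ[R] N) {x : M} (hx : x ∈ GrLC.gam I M) : f x ∈ GrLC.gam I N := by
  obtain ⟨n, hn⟩ := hx
  exact ⟨n, fun r hr => by rw [← map_smul, hn r hr, map_zero]⟩

end gam

section crit

variable (I : Ideal R) (M : Type u) [AddCommGroup M] [Module R M]
  (X : ℕ → Type u) [∀ n, AddCommGroup (X n)] [∀ n, Module R (X n)]
  (d : ∀ n, X n →ₗ[R] X (n + 1)) (ε : M →ₗ[R] X 0)
  (hs : ∀ n, LinearMap.ker (d (n + 1)) = LinearMap.range (d n))
  (hacyc : ∀ n k, Subsingleton (HH I (ModuleCat.of R (X n)) (k + 1)))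
  (hε : Function.Injective ε) (h0 : LinearMap.ker (d 0) = LinearMap.range ε)

include hs hacyc hε h0 in
/-- **vanishing criterion**: local cohomology vanishes in degree `i` iff `Γ_I` of an acyclic
resolution is exact in degree `i`. -/
theorem subsingleton_HH_iff (i : ℕ) : Subsingleton (HH I (ModuleCat.of R M) i) ↔
    ∀ x ∈ GrLC.gam I (X i), d i x = 0 → x ∈ cob I X d i := by
  obtain ⟨e⟩ := nonempty_equiv I M X d ε hs hacyc hε h0 i
  rw [← e.toEquiv.subsingleton_congr, Submodule.Quotient.subsingleton_iff, eq_top_iff]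
  constructor
  · intro h x hx hdx
    exact h (Submodule.mem_top : (⟨x, hx, hdx⟩ : ↥(GrLC.gam I (X i) ⊓ LinearMap.ker (d i))) ∈ ⊤)
  · rintro h ⟨x, hx, hdx⟩ -
    exact h x hx hdx

end crit

section rad

variable [IsNoetherianRing R] (I J : Ideal R)

/-- local cohomology only depends on the torsion functor (vanishing version). -/
theorem subsingleton_HH_of_gam_eq
    (hIJ : ∀ (N : Type u) [AddCommGroup N] [Module R N], GrLC.gam I N = GrLC.gam J N)
    (M : Type u) [AddCommGroup M] [Module R M] (i : ℕ)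
    (h : Subsingleton (HH J (ModuleCat.of R M) i)) : Subsingleton (HH I (ModuleCat.of R M) i) := by
  obtain ⟨X, d, ε, hinj, hε, h0, hs⟩ := exists_injective_resolution R M
  have hacyc : ∀ (K : Ideal R) n k, Subsingleton (HH K (ModuleCat.of R (X n)) (k + 1)) := by
    intro K n k
    haveI : Module.Injective R (X n) := hinj n
    haveI : CategoryTheory.Injective (ModuleCat.of R (X n)) :=
      Module.injective_object_of_injective_module R (X n)
    exact HH.subsingleton_of_injective K (ModuleCat.of R (X n)) k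
  rw [subsingleton_HH_iff J M (fun n => X n) d ε hs (hacyc J) hε h0 i] at h
  rw [subsingleton_HH_iff I M (fun n => X n) d ε hs (hacyc I) hε h0 i]
  intro x hx hdx
  rw [hIJ] at hx
  have := h x hx hdx
  cases i with
  | zero => exact this
  | succ n =>
    change x ∈ (GrLC.gam I (X n)).map (d n)
    rw [hIJ]
    exact this

end rad

section inf

variable [IsNoetherianRing R] (I J : Ideal R)

/-- Mayer–Vietoris vanishing. -/
theorem subsingleton_HH_inf (M : Type u) [AddCommGroup M] [Module R M] (i : ℕ)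
    (hI : Subsingleton (HH I (ModuleCat.of R M) i)) (hJ : Subsingleton (HH J (ModuleCat.of R M) i))
    (hIJ : Subsingleton (HH (I ⊔ J) (ModuleCat.of R M) (i + 1))) :
    Subsingleton (HH (I ⊓ J) (ModuleCat.of R M) i) := by
  obtain ⟨-, ⟨e⟩⟩ := LCDeltaHH.main_MV (I := I) (J := J) i (ModuleCat.of R M)
  refine ⟨fun a b => ?_⟩
  have key : ∀ x : HH (I ⊓ J) (ModuleCat.of R M) i, x = 0 := by
    intro x
    have h1 : e (Submodule.Quotient.mk x) = 0 := by
      apply Subtype.ext
      exact Subsingleton.elim _ _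
    have h2 := (e.map_eq_zero_iff).1 h1
    rw [Submodule.Quotient.mk_eq_zero] at h2
    obtain ⟨⟨y1, y2⟩, hy⟩ := h2
    rw [← hy, Subsingleton.elim y1 0, Subsingleton.elim y2 0]
    exact map_zero _
  rw [key a, key b]

end inf

end Groth.Agent.Lib.Helper20.SegAcyc
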