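import Mathlib
import Groth.Agent.Lib.Helper20.SegAcyc2

/-!
# Exact complexes of injectives split; vanishing of `H_{I ⊔ J}` from total vanishing of `H_I`
(helper20)
-/

set_option autoImplicit false
set_option linter.unusedSectionVars false
set_option linter.unusedVariables false
set_option linter.style.haveILetI false

universe u

open CategoryTheory Abelian Groth.Agent.Lib.Helper4.LC Groth.Agent.Lib.Helper20.LCAcyclic

namespace Groth.Agent.Lib.Helper20.SegAcyc

variable {R : Type u} [CommRing R]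

section split

variable (G : ℕ → Type u) [∀ n, AddCommGroup (G n)] [∀ n, Module R (G n)]
  [∀ n, Module.Injective R (G n)] (d : ∀ n, G n →ₗ[R] G (n + 1))
  (h0 : Function.Injective (d 0)) (hs : ∀ n, LinearMap.ker (d (n + 1)) = LinearMap.range (d n))

include hs in
lemma split_step (n : ℕ) (s : G (n + 1) →ₗ[R] G n) (hsn : ∀ x, d n (s (d n x)) = d n x) :
    ∃ s' : G (n + 2) →ₗ[R] G (n + 1), ∀ x, d (n + 1) (s' (d (n + 1) x)) = d (n + 1) x := by
  -- ρ = id - d s vanishes on ker d_{n+1} = range d_n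
  let ρ : G (n + 1) →ₗ[R] G (n + 1) := LinearMap.id - d n ∘ₗ s
  have hρ : LinearMap.ker (d (n + 1)) ≤ LinearMap.ker ρ := by
    intro x hx
    rw [hs n] at hx
    obtain ⟨y, rfl⟩ := hx
    change d n y - d n (s (d n y)) = 0
    rw [hsn, sub_self]
  -- factor through the range of d_{n+1}
  let ρbar : (G (n + 1) ⧸ LinearMap.ker (d (n + 1))) →ₗ[R] G (n + 1) :=
    (LinearMap.ker (d (n + 1))).liftQ ρ hρ
  let dbar : (G (n + 1) ⧸ LinearMap.ker (d (n + 1))) →ₗ[R] G (n + 2) :=
    (LinearMap.ker (d (n + 1))).liftQ (d (n + 1)) le_rfl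
  have hdbar : Function.Injective dbar := by
    rw [← LinearMap.ker_eq_bot]
    exact Submodule.ker_liftQ_eq_bot _ _ _ le_rfl
  obtain ⟨s', hs'⟩ := Module.Injective.extension_property R (G (n + 1)) _ _ dbar hdbar ρbar
  refine ⟨s', fun x => ?_⟩
  have h1 : s' (d (n + 1) x) = ρ x := by
    have := LinearMap.congr_fun hs' ((LinearMap.ker (d (n + 1))).mkQ x)
    exact this
  rw [h1]
  change d (n + 1) (x - d n (s x)) = _
  rw [map_sub]
  have h2 : d (n + 1) (d n (s x)) = 0 := by
    have : d n (s x) ∈ LinearMap.ker (d (n + 1)) := by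
      rw [hs n]
      exact LinearMap.mem_range_self _ _
    exact this
  rw [h2, sub_zero]

include h0 hs in
/-- an exact bounded-below complex of injective modules admits local sections. -/
theorem exists_section (n : ℕ) :
    ∃ s : G (n + 1) →ₗ[R] G n, ∀ x, d n (s (d n x)) = d n x := by
  induction n with
  | zero =>
    obtain ⟨s, hs0⟩ := Module.Injective.extension_property R (G 0) _ _ (d 0) h0 LinearMap.id
    refine ⟨s, fun x => ?_⟩
    have : s (d 0 x) = x := LinearMap.congr_fun hs0 x
    rw [this]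
  | succ n ih =>
    obtain ⟨s, hsn⟩ := ih
    exact split_step G d hs n s hsn

end split

section sup

variable [IsNoetherianRing R] (I J : Ideal R)

/-- if all local cohomology modules `H^q_I(Z)` vanish, then so do all `H^q_{I ⊔ J}(Z)`. -/
theorem subsingleton_HH_sup (Z : Type u) [AddCommGroup Z] [Module R Z]
    (h : ∀ q, Subsingleton (HH I (ModuleCat.of R Z) q)) (q : ℕ) :
    Subsingleton (HH (I ⊔ J) (ModuleCat.of R Z) q) := by
  obtain ⟨X, d, ε, hinj, hε, h0, hs⟩ := exists_injective_resolution R Z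
  have hacyc : ∀ (K : Ideal R) n k, Subsingleton (HH K (ModuleCat.of R (X n)) (k + 1)) := by
    intro K n k
    haveI : Module.Injective R (X n) := hinj n
    haveI : CategoryTheory.Injective (ModuleCat.of R (X n)) :=
      Module.injective_object_of_injective_module R (X n)
    exact HH.subsingleton_of_injective K (ModuleCat.of R (X n)) k
  have hex : ∀ i, ∀ x ∈ GrLC.gam I (X i), d i x = 0 → x ∈ cob I (fun n => X n) d i := fun i =>
    (subsingleton_HH_iff I Z (fun n => X n) d ε hs (hacyc I) hε h0 i).1 (h i)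
  rw [subsingleton_HH_iff (I ⊔ J) Z (fun n => X n) d ε hs (hacyc (I ⊔ J)) hε h0 q]
  -- the complex `Γ_I X`
  let G : ℕ → Type u := fun n => ↥(GrLC.gam I (X n))
  let dG : ∀ n, G n →ₗ[R] G (n + 1) := fun n =>
    (d n).restrict (fun x hx => map_mem_gam (d n) hx)
  haveI : ∀ n, Module.Injective R (G n) := fun n => by
    haveI : Module.Injective R (X n) := hinj n
    exact injective_torsionSub I (X n)
  have hG0 : Function.Injective (dG 0) := by
    rw [← LinearMap.ker_eq_bot, eq_bot_iff]
    rintro ⟨x, hx⟩ hdx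
    have hdx' : d 0 x = 0 := congrArg Subtype.val hdx
    have := hex 0 x hx hdx'
    change x ∈ (⊥ : Submodule R (X 0)) at this
    rw [Submodule.mem_bot] at this
    rw [Submodule.mem_bot]
    exact Subtype.ext this
  have hGs : ∀ n, LinearMap.ker (dG (n + 1)) = LinearMap.range (dG n) := by
    intro n
    apply le_antisymm
    · rintro ⟨x, hx⟩ hdx
      have hdx' : d (n + 1) x = 0 := congrArg Subtype.val hdx
      have := hex (n + 1) x hx hdx'
      obtain ⟨y, hy, hyx⟩ := this
      exact ⟨⟨y, hy⟩, Subtype.ext hyx⟩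
    · rintro _ ⟨⟨y, hy⟩, rfl⟩
      apply Subtype.ext
      change d (n + 1) (d n y) = 0
      have : d n y ∈ LinearMap.ker (d (n + 1)) := by
        rw [hs n]
        exact LinearMap.mem_range_self _ _
      exact this
  intro x hx hdx
  rw [gam_sup] at hx
  obtain ⟨hxI, hxJ⟩ := hx
  cases q with
  | zero =>
    have := hex 0 x hxI hdx
    exact this
  | succ n =>
    obtain ⟨s, hsn⟩ := exists_section G dG hG0 hGs n
    obtain ⟨y, hy, hyx⟩ := hex (n + 1) x hxI hdx
    -- x = d y, so x = d (s x)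
    have hx1 : dG n (s ⟨x, hxI⟩) = ⟨x, hxI⟩ := by
      have : (⟨x, hxI⟩ : G (n + 1)) = dG n ⟨y, hy⟩ := Subtype.ext hyx.symm
      rw [this, hsn]
    refine ⟨(s ⟨x, hxI⟩ : X n), ?_, congrArg Subtype.val hx1⟩
    rw [gam_sup]
    refine ⟨(s ⟨x, hxI⟩).2, ?_⟩
    obtain ⟨m, hm⟩ := hxJ
    refine ⟨m, fun r hr => ?_⟩
    have : r • (⟨x, hxI⟩ : G (n + 1)) = 0 := Subtype.ext (hm r hr)
    have h2 : r • s ⟨x, hxI⟩ = 0 := by rw [← map_smul, this, map_zero]
    exact congrArg Subtype.val h2

end sup

end Groth.Agent.Lib.Helper20.SegAcyc
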