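import Mathlib
import Groth.Agent.Lib.Helper20.SegAcyc3

/-!
# Bass–Papp for `Finsupp`, and local cohomology of `B →₀ X` (helper20)
-/

set_option autoImplicit false
set_option linter.unusedSectionVars false
set_option linter.unusedVariables false
set_option linter.style.haveILetI false

universe u

open CategoryTheory Abelian Groth.Agent.Lib.Helper4.LC Groth.Agent.Lib.Helper20.LCAcyclic

namespace Groth.Agent.Lib.Helper20.SegAcyc

/-- **Bass–Papp** (constant family): over a Noetherian ring, `B →₀ E` is injective if `E` is. -/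
theorem injective_finsupp (R : Type u) [CommRing R] [IsNoetherianRing R] (B : Type u) (E : Type u)
    [AddCommGroup E] [Module R E] [Module.Injective R E] : Module.Injective R (B →₀ E) := by
  classical
  apply Module.Baer.injective
  intro I g
  have hE : Module.Baer R E := Module.Baer.of_injective inferInstance
  obtain ⟨s, hs⟩ := (isNoetherianRing_iff_ideal_fg R).1 inferInstance I
  -- finite support bound
  let F : Finset B := s.attach.biUnion (fun a => (g ⟨a.1, hs ▸ Ideal.subset_span a.2⟩).support)
  have hF' : ∀ x : R, x ∈ Ideal.span (s : Set R) → ∀ hxI : x ∈ I, ∀ b ∉ F, g ⟨x, hxI⟩ b = 0 := by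
    intro x hx
    induction hx using Submodule.span_induction with
    | mem a ha =>
      intro hxI b hb
      by_contra hne
      apply hb
      refine Finset.mem_biUnion.2 ⟨⟨a, ha⟩, Finset.mem_attach _ _, ?_⟩
      exact Finsupp.mem_support_iff.2 hne
    | zero =>
      intro hxI b hb
      have : (⟨0, hxI⟩ : I) = 0 := rfl
      rw [this, map_zero]
      rfl
    | add y z hy hz ihy ihz =>
      intro hxI b hb
      have hyI : y ∈ I := hs ▸ hy
      have hzI : z ∈ I := hs ▸ hz
      have : (⟨y + z, hxI⟩ : I) = ⟨y, hyI⟩ + ⟨z, hzI⟩ := rfl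
      rw [this, map_add, Finsupp.add_apply, ihy hyI b hb, ihz hzI b hb, add_zero]
    | smul r y hy ihy =>
      intro hxI b hb
      have hyI : y ∈ I := hs ▸ hy
      have : (⟨r • y, hxI⟩ : I) = r • ⟨y, hyI⟩ := rfl
      rw [this, map_smul, Finsupp.smul_apply, ihy hyI b hb, smul_zero]
  have hF : ∀ x : I, ∀ b ∉ F, g x b = 0 := fun x b hb => hF' x.1 (hs ▸ x.2) x.2 b hb
  choose g' hg' using fun b : B => hE I ((Finsupp.lapply b : (B →₀ E) →ₗ[R] E) ∘ₗ g)
  refine ⟨∑ b ∈ F, (Finsupp.lsingle b : E →ₗ[R] (B →₀ E)) ∘ₗ g' b, fun x hx => ?_⟩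
  ext c
  rw [LinearMap.sum_apply, Finsupp.finsetSum_apply]
  by_cases hc : c ∈ F
  · rw [Finset.sum_eq_single c]
    · change (Finsupp.single c (g' c x)) c = _
      rw [Finsupp.single_eq_same, hg' c x hx]
      rfl
    · intro b _ hbc
      change (Finsupp.single b (g' b x)) c = 0
      exact Finsupp.single_eq_of_ne (Ne.symm hbc)
    · intro h
      exact absurd hc h
  · rw [hF ⟨x, hx⟩ c hc]
    apply Finset.sum_eq_zero
    intro b hb
    change (Finsupp.single b (g' b x)) c = 0
    apply Finsupp.single_eq_of_ne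
    rintro rfl
    exact hc hb


section finsupp

variable {R : Type u} [CommRing R]

/-- coordinatewise lifting through a linear map, with values in a submodule. -/
lemma exists_finsupp_lift {B M N : Type u} [AddCommGroup M] [Module R M] [AddCommGroup N]
    [Module R N] (f : M →ₗ[R] N) (SM : Submodule R M) (x : B →₀ N)
    (hx : ∀ b, ∃ m ∈ SM, f m = x b) :
    ∃ y : B →₀ M, (∀ b, y b ∈ SM) ∧ Finsupp.mapRange.linearMap f y = x := by
  classical
  let g : N → M := fun n => if n = 0 then 0 else
    if h : ∃ m ∈ SM, f m = n then h.choose else 0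
  have hg0 : g 0 = 0 := if_pos rfl
  have hgS : ∀ n, g n ∈ SM := by
    intro n
    by_cases h0 : n = 0
    · simp only [g, if_pos h0]
      exact zero_mem _
    · by_cases h : ∃ m ∈ SM, f m = n
      · simp only [g, if_neg h0, dif_pos h]
        exact h.choose_spec.1
      · simp only [g, if_neg h0, dif_neg h]
        exact zero_mem _
  have hgf : ∀ n, (∃ m ∈ SM, f m = n) → f (g n) = n := by
    intro n h
    by_cases h0 : n = 0
    · simp only [g, if_pos h0, map_zero]
      exact h0.symm
    · simp only [g, if_neg h0, dif_pos h]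
      exact h.choose_spec.2
  refine ⟨Finsupp.mapRange g hg0 x, fun b => ?_, ?_⟩
  · rw [Finsupp.mapRange_apply]
    exact hgS _
  · ext b
    change f ((Finsupp.mapRange g hg0 x) b) = x b
    rw [Finsupp.mapRange_apply]
    exact hgf _ (hx b)

lemma finsupp_mem_gam {I : Ideal R} {B M : Type u} [AddCommGroup M] [Module R M] (y : B →₀ M)
    (hy : ∀ b, y b ∈ GrLC.gam I M) : y ∈ GrLC.gam I (B →₀ M) := by
  classical
  rw [← Finsupp.sum_single y]
  apply Submodule.sum_mem
  intro b _
  exact map_mem_gam (Finsupp.lsingle b : M →ₗ[R] (B →₀ M)) (hy b)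

lemma finsupp_apply_mem_gam {I : Ideal R} {B M : Type u} [AddCommGroup M] [Module R M]
    (y : B →₀ M) (hy : y ∈ GrLC.gam I (B →₀ M)) (b : B) : y b ∈ GrLC.gam I M :=
  map_mem_gam (Finsupp.lapply b : (B →₀ M) →ₗ[R] M) hy

variable [IsNoetherianRing R]

/-- local cohomology vanishing passes to `B →₀ X`. -/
theorem subsingleton_HH_finsupp (I : Ideal R) (B X : Type u) [AddCommGroup X] [Module R X] (i : ℕ)
    (h : Subsingleton (HH I (ModuleCat.of R X) i)) :
    Subsingleton (HH I (ModuleCat.of R (B →₀ X)) i) := by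
  classical
  obtain ⟨E, d, ε, hinj, hε, h0, hs⟩ := exists_injective_resolution R X
  have hacyc : ∀ n k, Subsingleton (HH I (ModuleCat.of R (E n)) (k + 1)) := by
    intro n k
    haveI : Module.Injective R (E n) := hinj n
    haveI : CategoryTheory.Injective (ModuleCat.of R (E n)) :=
      Module.injective_object_of_injective_module R (E n)
    exact HH.subsingleton_of_injective I (ModuleCat.of R (E n)) k
  have hacyc' : ∀ n k, Subsingleton (HH I (ModuleCat.of R (B →₀ E n)) (k + 1)) := by
    intro n k
    haveI : Module.Injective R (E n) := hinj n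
    haveI : Module.Injective R (B →₀ E n) := injective_finsupp R B (E n)
    haveI : CategoryTheory.Injective (ModuleCat.of R (B →₀ E n)) :=
      Module.injective_object_of_injective_module R (B →₀ E n)
    exact HH.subsingleton_of_injective I (ModuleCat.of R (B →₀ E n)) k
  have hex := (subsingleton_HH_iff I X (fun n => E n) d ε hs hacyc hε h0 i).1 h
  let d' : ∀ n, (B →₀ E n) →ₗ[R] (B →₀ E (n + 1)) := fun n => Finsupp.mapRange.linearMap (d n)
  let ε' : (B →₀ X) →ₗ[R] (B →₀ E 0) := Finsupp.mapRange.linearMap ε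
  have hs' : ∀ n, LinearMap.ker (d' (n + 1)) = LinearMap.range (d' n) := by
    intro n
    apply le_antisymm
    · intro x hx
      have hx' : ∀ b, d (n + 1) (x b) = 0 := fun b => by
        have := DFunLike.congr_fun (LinearMap.mem_ker.1 hx) b
        exact this
      obtain ⟨y, -, hy⟩ := exists_finsupp_lift (d n) ⊤ x (fun b => by
        have : x b ∈ LinearMap.ker (d (n + 1)) := hx' b
        rw [hs n] at this
        obtain ⟨m, hm⟩ := this
        exact ⟨m, Submodule.mem_top, hm⟩)
      exact ⟨y, hy⟩
    · rintro _ ⟨y, rfl⟩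
      rw [LinearMap.mem_ker]
      ext b
      change d (n + 1) (d n (y b)) = 0
      have : d n (y b) ∈ LinearMap.ker (d (n + 1)) := by
        rw [hs n]
        exact LinearMap.mem_range_self _ _
      exact this
  have hε' : Function.Injective ε' := Finsupp.mapRange_injective ε (map_zero ε) hε
  have h0' : LinearMap.ker (d' 0) = LinearMap.range ε' := by
    apply le_antisymm
    · intro x hx
      have hx' : ∀ b, d 0 (x b) = 0 := fun b => by
        have := DFunLike.congr_fun (LinearMap.mem_ker.1 hx) b
        exact this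
      obtain ⟨y, -, hy⟩ := exists_finsupp_lift ε ⊤ x (fun b => by
        have : x b ∈ LinearMap.ker (d 0) := hx' b
        rw [h0] at this
        obtain ⟨m, hm⟩ := this
        exact ⟨m, Submodule.mem_top, hm⟩)
      exact ⟨y, hy⟩
    · rintro _ ⟨y, rfl⟩
      rw [LinearMap.mem_ker]
      ext b
      change d 0 (ε (y b)) = 0
      have : ε (y b) ∈ LinearMap.ker (d 0) := by
        rw [h0]
        exact LinearMap.mem_range_self _ _
      exact this
  rw [subsingleton_HH_iff I (B →₀ X) (fun n => B →₀ E n) d' ε' hs' hacyc' hε' h0' i]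
  intro x hx hdx
  have hdx' : ∀ b, d i (x b) = 0 := fun b => by
    have := DFunLike.congr_fun hdx b
    exact this
  have hxb : ∀ b, x b ∈ cob I (fun n => E n) d i := fun b =>
    hex (x b) (finsupp_apply_mem_gam x hx b) (hdx' b)
  cases i with
  | zero =>
    change x ∈ (⊥ : Submodule R (B →₀ E 0))
    rw [Submodule.mem_bot]
    ext b
    have := hxb b
    change x b ∈ (⊥ : Submodule R (E 0)) at this
    rw [Submodule.mem_bot] at this
    rw [this]
    rfl
  | succ n =>
    obtain ⟨y, hy, hyx⟩ := exists_finsupp_lift (d n) (GrLC.gam I (E n)) x (fun b => by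
      obtain ⟨m, hm, hmx⟩ := hxb b
      exact ⟨m, hm, hmx⟩)
    exact ⟨y, finsupp_mem_gam y hy, hyx⟩

end finsupp

end Groth.Agent.Lib.Helper20.SegAcyc
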