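import Mathlib
import Groth.Prelude.Def_GrSeg
import Groth.Agent.Lib.Helper20.SegAcyc4
import Groth.Agent.Lib.Helper20.LCIndep2
import Groth.Agent.Lib.Helper4.LC5

/-!
# The `R ⊗ S`-module `X ⊗ Y` and its local cohomology (helper20)
-/

set_option autoImplicit false
set_option linter.unusedSectionVars false
set_option linter.unusedVariables false
set_option linter.style.haveILetI false

universe u

open scoped TensorProduct
open CategoryTheory Abelian Groth.Agent.Lib.Helper4.LC Groth.Agent.Lib.Helper20.LCAcyclic
  Groth.Agent.Lib.Helper20.SegAcyc GrSeg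

namespace Groth.Agent.Lib.Helper20.SegTP

section module

variable (k : Type u) [CommRing k] (R S : Type u) [CommRing R] [CommRing S] [Algebra k R]
  [Algebra k S]
  (X Y : Type u) [AddCommGroup X] [Module R X] [Module k X] [IsScalarTower k R X]
  [AddCommGroup Y] [Module S Y] [Module k Y] [IsScalarTower k S Y]

lemma act_one (w : X ⊗[k] Y) : act k R S X Y 1 w = w := by
  induction w using TensorProduct.induction_on with
  | zero => simp
  | tmul x y => rw [Algebra.TensorProduct.one_def, act_tmul, one_smul, one_smul]
  | add a b ha hb => rw [map_add, ha, hb]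

lemma act_mul (a b : R ⊗[k] S) (w : X ⊗[k] Y) :
    act k R S X Y (a * b) w = act k R S X Y a (act k R S X Y b w) := by
  induction a using TensorProduct.induction_on with
  | zero => simp
  | add a a' ha ha' =>
    rw [add_mul, map_add, LinearMap.add_apply, ha, ha', map_add, LinearMap.add_apply]
  | tmul r s =>
    induction b using TensorProduct.induction_on with
    | zero => simp
    | add b b' hb hb' =>
      rw [mul_add, map_add, LinearMap.add_apply, hb, hb', map_add, LinearMap.add_apply, map_add]
    | tmul r' s' =>
      induction w using TensorProduct.induction_on with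
      | zero => simp
      | add w w' hw hw' => simp only [map_add, hw, hw']
      | tmul x y =>
        rw [Algebra.TensorProduct.tmul_mul_tmul, act_tmul, act_tmul, act_tmul, mul_smul, mul_smul]

/-- the `R ⊗ S`-module structure on `X ⊗ Y` given by `GrSeg.act`. -/
noncomputable def actModule : Module (R ⊗[k] S) (X ⊗[k] Y) where
  smul a w := act k R S X Y a w
  one_smul := act_one k R S X Y
  mul_smul := act_mul k R S X Y
  smul_zero a := map_zero _
  smul_add a := map_add _
  add_smul a b w := by
    change act k R S X Y (a + b) w = _
    rw [map_add]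
    rfl
  zero_smul w := by
    change act k R S X Y 0 w = 0
    rw [map_zero]
    rfl

attribute [local instance] actModule

lemma smul_def (a : R ⊗[k] S) (w : X ⊗[k] Y) : a • w = act k R S X Y a w := rfl

variable {k R S X Y} in
lemma tmul_smul_tmul (r : R) (s : S) (x : X) (y : Y) :
    (r ⊗ₜ[k] s) • (x ⊗ₜ[k] y) = (r • x) ⊗ₜ[k] (s • y) := act_tmul r s x y

lemma isScalarTower_base : IsScalarTower k (R ⊗[k] S) (X ⊗[k] Y) :=
  ⟨fun c a w => by
    change act k R S X Y (c • a) w = c • act k R S X Y a w
    rw [map_smul]
    rfl⟩

lemma includeLeft_smul (r : R) (w : X ⊗[k] Y) :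
    (r ⊗ₜ[k] (1 : S)) • w = r • w := by
  induction w using TensorProduct.induction_on with
  | zero => rw [smul_zero, smul_zero]
  | tmul x y => rw [tmul_smul_tmul, one_smul, TensorProduct.smul_tmul']
  | add a b ha hb => rw [smul_add, ha, hb, smul_add]

lemma isScalarTower_left : IsScalarTower R (R ⊗[k] S) (X ⊗[k] Y) :=
  ⟨fun r a w => by
    rw [Algebra.smul_def, mul_smul]
    change (r ⊗ₜ[k] (1 : S)) • (a • w) = _
    rw [includeLeft_smul]⟩

end module

end Groth.Agent.Lib.Helper20.SegTP
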