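import Mathlib
import Groth.Agent.Lib.Helper20.SegTP1
import Groth.Agent.Lib.Helper20.LCFinite

/-!
# Local cohomology of `X ⊗ Y` over `R ⊗ S` (helper20)
-/

set_option autoImplicit false
set_option linter.unusedSectionVars false
set_option linter.unusedVariables false
set_option linter.style.haveILetI false

universe u

open scoped TensorProduct
open CategoryTheory Abelian Groth.Agent.Lib.Helper4.LC Groth.Agent.Lib.Helper20.LCAcyclic
  Groth.Agent.Lib.Helper20.SegAcyc GrSeg

namespace Groth.Agent.Lib.Helper20.SegTP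

attribute [local instance] actModule

section P3

/-- vanishing over `A` from an `R₀`-linear identification with a `Finsupp`. -/
theorem subsingleton_HH_map_of_equiv_finsupp {R₀ A : Type u} [CommRing R₀] [IsNoetherianRing R₀]
    [CommRing A] [IsNoetherianRing A] [Algebra R₀ A] (I : Ideal R₀) (W : Type u) [AddCommGroup W]
    [Module A W] [Module R₀ W] [IsScalarTower R₀ A W] (B X₀ : Type u) [AddCommGroup X₀]
    [Module R₀ X₀] (e : W ≃ₗ[R₀] (B →₀ X₀)) (q : ℕ)
    (h : Subsingleton (HH I (ModuleCat.of R₀ X₀) q)) :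
    Subsingleton (HH (I.map (algebraMap R₀ A)) (ModuleCat.of A W) q) := by
  obtain ⟨φ, -⟩ := LCIndep2.exists_addEquiv A I W q
  have h1 := subsingleton_HH_finsupp I B X₀ q h
  have h2 : Subsingleton (HH I (ModuleCat.of R₀ W) q) := subsingleton_HH_of_equiv I e q h1
  exact φ.toEquiv.subsingleton

end P3

section maps

variable {k : Type u} [CommRing k] {R S : Type u} [CommRing R] [CommRing S] [Algebra k R]
  [Algebra k S]
  {X Y : Type u} [AddCommGroup X] [Module R X] [Module k X] [IsScalarTower k R X]
  [AddCommGroup Y] [Module S Y] [Module k Y] [IsScalarTower k S Y]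
  {X' Y' : Type u} [AddCommGroup X'] [Module R X'] [Module k X'] [IsScalarTower k R X']
  [AddCommGroup Y'] [Module S Y'] [Module k Y'] [IsScalarTower k S Y']

lemma map_smul_act (f : X →ₗ[R] X') (g : Y →ₗ[S] Y') (a : R ⊗[k] S) (w : X ⊗[k] Y) :
    TensorProduct.map (f.restrictScalars k) (g.restrictScalars k) (a • w) =
      a • TensorProduct.map (f.restrictScalars k) (g.restrictScalars k) w := by
  induction a using TensorProduct.induction_on with
  | zero => rw [zero_smul, zero_smul, map_zero]
  | add a b ha hb => rw [add_smul, map_add, ha, hb, add_smul]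
  | tmul r s =>
    induction w using TensorProduct.induction_on with
    | zero => rw [smul_zero, map_zero, smul_zero]
    | add w w' hw hw' => rw [smul_add, map_add, hw, hw', map_add, smul_add]
    | tmul x y =>
      rw [tmul_smul_tmul, TensorProduct.map_tmul, TensorProduct.map_tmul, tmul_smul_tmul]
      simp only [LinearMap.restrictScalars_apply, map_smul]

/-- the tensor product of an `R`-linear and an `S`-linear map, as an `R ⊗ S`-linear map. -/
noncomputable def mapA (f : X →ₗ[R] X') (g : Y →ₗ[S] Y') :
    X ⊗[k] Y →ₗ[R ⊗[k] S] X' ⊗[k] Y' where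
  toFun := TensorProduct.map (f.restrictScalars k) (g.restrictScalars k)
  map_add' := map_add _
  map_smul' a w := map_smul_act f g a w

lemma mapA_apply (f : X →ₗ[R] X') (g : Y →ₗ[S] Y') (w : X ⊗[k] Y) :
    mapA f g w = TensorProduct.map (f.restrictScalars k) (g.restrictScalars k) w := rfl

lemma mapA_tmul (f : X →ₗ[R] X') (g : Y →ₗ[S] Y') (x : X) (y : Y) :
    mapA (k := k) f g (x ⊗ₜ[k] y) = f x ⊗ₜ[k] g y := rfl

end maps

section tensor

variable (k : Type u) [Field k] (R S : Type u) [CommRing R] [CommRing S] [Algebra k R]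
  [Algebra k S] [IsNoetherianRing R] [IsNoetherianRing S] [IsNoetherianRing (R ⊗[k] S)]
  (X Y : Type u) [AddCommGroup X] [Module R X] [Module k X] [IsScalarTower k R X]
  [AddCommGroup Y] [Module S Y] [Module k Y] [IsScalarTower k S Y]

/-- `X ⊗ Y ≃ (B →₀ X)` over `R`, for a basis `B` of `Y`. -/
noncomputable def leftEquiv : X ⊗[k] Y ≃ₗ[R] (Module.Basis.ofVectorSpaceIndex k Y →₀ X) := by
  classical
  exact (TensorProduct.AlgebraTensorModule.congr (LinearEquiv.refl R X)
    (Module.Basis.ofVectorSpace k Y).repr).trans (TensorProduct.finsuppScalarRight k R X _)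

omit [IsNoetherianRing S] in
theorem subsingleton_HH_left (I : Ideal R) (q : ℕ)
    (h : Subsingleton (HH I (ModuleCat.of R X) q)) :
    Subsingleton (HH (I.map (algebraMap R (R ⊗[k] S))) (ModuleCat.of (R ⊗[k] S) (X ⊗[k] Y)) q) := by
  haveI := isScalarTower_left k R S X Y
  exact subsingleton_HH_map_of_equiv_finsupp I (X ⊗[k] Y) _ X (leftEquiv k R X Y) q h

omit [IsNoetherianRing R] in
theorem subsingleton_HH_right (J : Ideal S) (q : ℕ)
    (h : Subsingleton (HH J (ModuleCat.of S Y) q)) :
    Subsingleton (HH (J.map (Algebra.TensorProduct.includeRight : S →ₐ[k] R ⊗[k] S))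
      (ModuleCat.of (R ⊗[k] S) (X ⊗[k] Y)) q) := by
  letI : Algebra S (R ⊗[k] S) := Algebra.TensorProduct.rightAlgebra
  letI : Module S (X ⊗[k] Y) := Module.compHom _ (algebraMap S (R ⊗[k] S))
  haveI : IsScalarTower S (R ⊗[k] S) (X ⊗[k] Y) :=
    IsScalarTower.of_algebraMap_smul (fun r x => rfl)
  have hsm : ∀ (s : S) (w : X ⊗[k] Y), s • w = ((1 : R) ⊗ₜ[k] s) • w := fun s w => rfl
  let c : X ⊗[k] Y ≃ₗ[S] Y ⊗[k] X :=
    { (TensorProduct.comm k X Y) with
      map_smul' := by
        intro s w
        change TensorProduct.comm k X Y (s • w) = s • TensorProduct.comm k X Y w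
        rw [hsm]
        induction w using TensorProduct.induction_on with
        | zero => rw [smul_zero, map_zero, smul_zero]
        | add w w' hw hw' => rw [smul_add, map_add, hw, hw', map_add, smul_add]
        | tmul x y =>
          rw [tmul_smul_tmul, TensorProduct.comm_tmul, TensorProduct.comm_tmul, one_smul,
            TensorProduct.smul_tmul'] }
  exact subsingleton_HH_map_of_equiv_finsupp J (X ⊗[k] Y) _ Y (c.trans (leftEquiv k S Y X)) q h

end tensor

end Groth.Agent.Lib.Helper20.SegTP
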