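import Mathlib
import Groth.Agent.Lib.Helper20.SegTP2

/-!
# `Γ_{IA}(X ⊗ Y) = Γ_I(X) ⊗ Y` and acyclicity of `X ⊗ Y` (helper20)
-/

set_option autoImplicit false
set_option linter.unusedSectionVars false
set_option linter.unusedVariables false
set_option linter.style.haveILetI false

universe u

open scoped TensorProduct
open CategoryTheory Abelian Groth.Agent.Lib.Helper4.LC Groth.Agent.Lib.Helper20.LCAcyclic
  Groth.Agent.Lib.Helper20.SegAcyc GrSeg

namespace Groth.Agent.Lib.Helper20.SegTP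

attribute [local instance] actModule

section gamma

variable (k : Type u) [Field k] (R S : Type u) [CommRing R] [CommRing S] [Algebra k R]
  [Algebra k S] [IsNoetherianRing R] [IsNoetherianRing S] [IsNoetherianRing (R ⊗[k] S)]
  (X Y : Type u) [AddCommGroup X] [Module R X] [Module k X] [IsScalarTower k R X]
  [AddCommGroup Y] [Module S Y] [Module k Y] [IsScalarTower k S Y]

/-- the inclusion `Γ_I X ⊗ Y → X ⊗ Y`. -/
noncomputable abbrev gamIncl (I : Ideal R) :
    (↥(GrLC.gam I X)) ⊗[k] Y →ₗ[R ⊗[k] S] X ⊗[k] Y :=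
  mapA (k := k) (S := S) (GrLC.gam I X).subtype (LinearMap.id : Y →ₗ[S] Y)

omit [IsNoetherianRing R] [IsNoetherianRing S] [IsNoetherianRing (R ⊗[k] S)] in
lemma gamIncl_injective (I : Ideal R) : Function.Injective (gamIncl k R S X Y I) := by
  have := Module.Flat.rTensor_preserves_injective_linearMap (M := Y)
    ((GrLC.gam I X).subtype.restrictScalars k) (Submodule.injective_subtype _)
  exact this

omit [IsNoetherianRing S] [IsNoetherianRing (R ⊗[k] S)] in
theorem mem_gam_left_iff (I : Ideal R) (w : X ⊗[k] Y) :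
    w ∈ GrLC.gam (I.map (algebraMap R (R ⊗[k] S))) (X ⊗[k] Y) ↔
      w ∈ LinearMap.range (gamIncl k R S X Y I) := by
  haveI := isScalarTower_left k R S X Y
  constructor
  · intro hw
    let Xb := X ⧸ GrLC.gam I X
    haveI := isScalarTower_left k R S Xb Y
    let q : X ⊗[k] Y →ₗ[R ⊗[k] S] Xb ⊗[k] Y :=
      mapA (k := k) (S := S) (GrLC.gam I X).mkQ (LinearMap.id : Y →ₗ[S] Y)
    have h1 : q w ∈ GrLC.gam (I.map (algebraMap R (R ⊗[k] S))) (Xb ⊗[k] Y) := map_mem_gam q hw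
    have h2 : q w ∈ GrLC.gam I (Xb ⊗[k] Y) := (LCIndep2.mem_gam_map_iff (R ⊗[k] S) I _).1 h1
    have h3 : leftEquiv k R Xb Y (q w) ∈ GrLC.gam I _ :=
      map_mem_gam (leftEquiv k R Xb Y).toLinearMap h2
    have h4 : leftEquiv k R Xb Y (q w) = 0 := by
      ext b
      have h5 := finsupp_apply_mem_gam _ h3 b
      have h6 : GrLC.gam I Xb = ⊥ := LCFinite.torsionSub_quotient_eq_bot I X
      rw [h6, Submodule.mem_bot] at h5
      rw [h5]
      rfl
    have hq0 : q w = 0 := (leftEquiv k R Xb Y).map_eq_zero_iff.1 h4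
    have hex := rTensor_exact Y
      (f := (GrLC.gam I X).subtype.restrictScalars k) (g := (GrLC.gam I X).mkQ.restrictScalars k)
      (LinearMap.exact_subtype_mkQ (GrLC.gam I X)) (Submodule.mkQ_surjective _)
    obtain ⟨w', hw'⟩ := (hex w).1 hq0
    exact ⟨w', hw'⟩
  · rintro ⟨w', rfl⟩
    induction w' using TensorProduct.induction_on with
    | zero =>
      rw [map_zero]
      exact zero_mem _
    | add a b ha hb =>
      rw [map_add]
      exact add_mem ha hb
    | tmul x y =>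
      rw [LCIndep2.mem_gam_map_iff (R ⊗[k] S) I]
      obtain ⟨n, hn⟩ := x.2
      refine ⟨n, fun r hr => ?_⟩
      change r • ((x : X) ⊗ₜ[k] y) = 0
      rw [TensorProduct.smul_tmul', hn r hr, TensorProduct.zero_tmul]

/-- `Γ_I X ⊗ Y ≃ Γ_{IA}(X ⊗ Y)`. -/
noncomputable def gamEquiv (I : Ideal R) :
    ((↥(GrLC.gam I X)) ⊗[k] Y) ≃ₗ[R ⊗[k] S]
      ↥(GrLC.gam (I.map (algebraMap R (R ⊗[k] S))) (X ⊗[k] Y)) :=
  LinearEquiv.ofBijective
    ((gamIncl k R S X Y I).codRestrict _ (fun w' => (mem_gam_left_iff k R S X Y I _).2 ⟨w', rfl⟩))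
    ⟨fun a b hab => gamIncl_injective k R S X Y I (congrArg Subtype.val hab), fun ⟨w, hw⟩ => by
      obtain ⟨w', hw'⟩ := (mem_gam_left_iff k R S X Y I w).1 hw
      exact ⟨w', Subtype.ext hw'⟩⟩

theorem subsingleton_HH_sup_tensor (I : Ideal R) (J : Ideal S)
    (hX : ∀ q, Subsingleton (HH I (ModuleCat.of R X) (q + 1)))
    (hY : ∀ q, Subsingleton (HH J (ModuleCat.of S Y) (q + 1))) (p : ℕ) :
    Subsingleton (HH (J.map (Algebra.TensorProduct.includeRight : S →ₐ[k] R ⊗[k] S) ⊔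
      I.map (algebraMap R (R ⊗[k] S))) (ModuleCat.of (R ⊗[k] S) (X ⊗[k] Y)) (p + 1)) := by
  apply HH.subsingleton_sup_of_acyclic _ _ p (ModuleCat.of (R ⊗[k] S) (X ⊗[k] Y))
  · intro q
    exact subsingleton_HH_left k R S X Y I (q + 1) (hX q)
  · have h1 := subsingleton_HH_right k R S (↥(GrLC.gam I X)) Y J (p + 1) (hY p)
    exact subsingleton_HH_of_equiv _ (gamEquiv k R S X Y I).symm (p + 1) h1

/-- **acyclicity of `X ⊗ Y`** for an ideal with the same torsion functor as `IA ⊓ JA`. -/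
theorem subsingleton_HH_tensor (I : Ideal R) (J : Ideal S)
    (hX : ∀ q, Subsingleton (HH I (ModuleCat.of R X) (q + 1)))
    (hY : ∀ q, Subsingleton (HH J (ModuleCat.of S Y) (q + 1)))
    (𝔞 : Ideal (R ⊗[k] S))
    (h𝔞 : ∀ (N : Type u) [AddCommGroup N] [Module (R ⊗[k] S) N], GrLC.gam 𝔞 N =
      GrLC.gam (I.map (algebraMap R (R ⊗[k] S)) ⊓
        J.map (Algebra.TensorProduct.includeRight : S →ₐ[k] R ⊗[k] S)) N) (q : ℕ) :
    Subsingleton (HH 𝔞 (ModuleCat.of (R ⊗[k] S) (X ⊗[k] Y)) (q + 1)) := by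
  apply subsingleton_HH_of_gam_eq 𝔞 _ h𝔞 (X ⊗[k] Y) (q + 1)
  apply subsingleton_HH_inf _ _ (X ⊗[k] Y) (q + 1)
  · exact subsingleton_HH_left k R S X Y I (q + 1) (hX q)
  · exact subsingleton_HH_right k R S X Y J (q + 1) (hY q)
  · rw [sup_comm]
    exact subsingleton_HH_sup_tensor k R S X Y I J hX hY (q + 1)

end gamma

end Groth.Agent.Lib.Helper20.SegTP
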