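import Mathlib
import Groth.Agent.Lib.Helper20.SegTP3

/-!
# Torsion of `X ⊗ Y`: `Γ_{IA ⊓ JA}(X ⊗ Y)` on subspaces (helper20)
-/

set_option autoImplicit false
set_option linter.unusedSectionVars false
set_option linter.unusedVariables false
set_option linter.style.haveILetI false

universe u

open scoped TensorProduct
open CategoryTheory Abelian Groth.Agent.Lib.Helper4.LC Groth.Agent.Lib.Helper20.LCAcyclic
  Groth.Agent.Lib.Helper20.SegAcyc GrSeg

namespace Groth.Agent.Lib.Helper20.SegTP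

attribute [local instance] actModule

section basic

variable {k : Type u} [CommRing k] {R S : Type u} [CommRing R] [CommRing S] [Algebra k R]
  [Algebra k S]
  {X Y : Type u} [AddCommGroup X] [Module R X] [Module k X] [IsScalarTower k R X]
  [AddCommGroup Y] [Module S Y] [Module k Y] [IsScalarTower k S Y]

lemma tmul_mem_gam_left (I : Ideal R) {x : X} (hx : x ∈ GrLC.gam I X) (y : Y) :
    x ⊗ₜ[k] y ∈ GrLC.gam (I.map (algebraMap R (R ⊗[k] S))) (X ⊗[k] Y) := by
  obtain ⟨n, hn⟩ := hx
  refine ⟨n, fun b hb => ?_⟩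
  rw [← Ideal.map_pow] at hb
  induction hb using Submodule.span_induction with
  | mem b hb =>
    obtain ⟨r, hr, rfl⟩ := hb
    change (r ⊗ₜ[k] (1 : S)) • (x ⊗ₜ[k] y) = 0
    rw [tmul_smul_tmul, hn r hr, TensorProduct.zero_tmul]
  | zero => rw [zero_smul]
  | add b c _ _ hb hc => rw [add_smul, hb, hc, add_zero]
  | smul c b _ hb => rw [smul_eq_mul, mul_smul, hb, smul_zero]

lemma tmul_mem_gam_right (J : Ideal S) (x : X) {y : Y} (hy : y ∈ GrLC.gam J Y) :
    x ⊗ₜ[k] y ∈ GrLC.gam (J.map (Algebra.TensorProduct.includeRight : S →ₐ[k] R ⊗[k] S))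
      (X ⊗[k] Y) := by
  obtain ⟨n, hn⟩ := hy
  refine ⟨n, fun b hb => ?_⟩
  rw [← Ideal.map_pow] at hb
  induction hb using Submodule.span_induction with
  | mem b hb =>
    obtain ⟨s, hs, rfl⟩ := hb
    change ((1 : R) ⊗ₜ[k] s) • (x ⊗ₜ[k] y) = 0
    rw [tmul_smul_tmul, hn s hs, TensorProduct.tmul_zero]
  | zero => rw [zero_smul]
  | add b c _ _ hb hc => rw [add_smul, hb, hc, add_zero]
  | smul c b _ hb => rw [smul_eq_mul, mul_smul, hb, smul_zero]

lemma tmul_mem_inf (I : Ideal R) (J : Ideal S) {r : R} (hr : r ∈ I) {s : S} (hs : s ∈ J) :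
    r ⊗ₜ[k] s ∈ I.map (algebraMap R (R ⊗[k] S)) ⊓
      J.map (Algebra.TensorProduct.includeRight : S →ₐ[k] R ⊗[k] S) := by
  have h : r ⊗ₜ[k] s = (r ⊗ₜ[k] (1 : S)) * ((1 : R) ⊗ₜ[k] s) := by
    rw [Algebra.TensorProduct.tmul_mul_tmul, mul_one, one_mul]
  constructor
  · rw [h]
    exact Ideal.mul_mem_right _ _ (Ideal.mem_map_of_mem _ hr)
  · rw [h]
    exact Ideal.mul_mem_left _ _ (Ideal.mem_map_of_mem _ hs)

lemma smul_eq_mapA (r : R) (s : S) (w : X ⊗[k] Y) :
    (r ⊗ₜ[k] s) • w = mapA (k := k) (LinearMap.lsmul R X r) (LinearMap.lsmul S Y s) w := by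
  induction w using TensorProduct.induction_on with
  | zero => rw [smul_zero, map_zero]
  | add a b ha hb => rw [smul_add, ha, hb, map_add]
  | tmul x y => rw [tmul_smul_tmul, mapA_tmul]; rfl

end basic

section alpha

variable (k : Type u) [Field k] (R S : Type u) [CommRing R] [CommRing S] [Algebra k R]
  [Algebra k S] [IsNoetherianRing R] [IsNoetherianRing S]
  (X Y : Type u) [AddCommGroup X] [Module R X] [Module k X] [IsScalarTower k R X]
  [AddCommGroup Y] [Module S Y] [Module k Y] [IsScalarTower k S Y]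

omit [IsNoetherianRing S] in
lemma exists_regular' (I : Ideal R) (M : Type u) [AddCommGroup M] [Module R M] [Module.Finite R M]
    (h : DRing.torsionSub I M = ⊥) : ∃ r ∈ I, IsSMulRegular M r := by
  rcases subsingleton_or_nontrivial M with hM | hM
  · exact ⟨0, zero_mem _, fun a b _ => Subsingleton.elim a b⟩
  · exact LCFinite.exists_regular_of_torsionSub_eq_bot I M h

/-- the tensor product of torsion-free modules is torsion-free for `IA ⊓ JA`. -/
theorem gam_tensor_eq_bot (I : Ideal R) (J : Ideal S) (hX : GrLC.gam I X = ⊥)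
    (hY : GrLC.gam J Y = ⊥) :
    GrLC.gam (I.map (algebraMap R (R ⊗[k] S)) ⊓
      J.map (Algebra.TensorProduct.includeRight : S →ₐ[k] R ⊗[k] S)) (X ⊗[k] Y) = ⊥ := by
  classical
  rw [eq_bot_iff]
  rintro w ⟨N, hN⟩
  rw [Submodule.mem_bot]
  obtain ⟨F, hF⟩ := TensorProduct.exists_finset w
  let X'' : Submodule R X := Submodule.span R ((F.image Prod.fst : Finset X) : Set X)
  let Y'' : Submodule S Y := Submodule.span S ((F.image Prod.snd : Finset Y) : Set Y)
  have hmX : ∀ p ∈ F, p.1 ∈ X'' := fun p hp =>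
    Submodule.subset_span (Finset.mem_coe.2 (Finset.mem_image_of_mem _ hp))
  have hmY : ∀ p ∈ F, p.2 ∈ Y'' := fun p hp =>
    Submodule.subset_span (Finset.mem_coe.2 (Finset.mem_image_of_mem _ hp))
  let w'' : (↥X'') ⊗[k] (↥Y'') :=
    ∑ p ∈ F.attach, (⟨p.1.1, hmX p.1 p.2⟩ : X'') ⊗ₜ[k] (⟨p.1.2, hmY p.1 p.2⟩ : Y'')
  let ι : (↥X'') ⊗[k] (↥Y'') →ₗ[R ⊗[k] S] X ⊗[k] Y := mapA (k := k) X''.subtype Y''.subtype
  have hι : Function.Injective ι :=
    TensorProduct.map_injective_of_flat_flat _ _ (Submodule.injective_subtype _)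
      (Submodule.injective_subtype _)
  have hw'' : ι w'' = w := by
    rw [hF, map_sum, ← Finset.sum_attach F]
    rfl
  haveI : Module.Finite R X'' := Module.Finite.span_of_finite R (Finset.finite_toSet _)
  haveI : Module.Finite S Y'' := Module.Finite.span_of_finite S (Finset.finite_toSet _)
  have hX'' : DRing.torsionSub I X'' = ⊥ := by
    rw [eq_bot_iff]
    intro x hx
    have h1 : (x : X) ∈ GrLC.gam I X := (mem_torsionSub_subtype_iff I X'' x).1 hx
    rw [hX, Submodule.mem_bot] at h1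
    rw [Submodule.mem_bot]
    exact Subtype.ext h1
  have hY'' : DRing.torsionSub J Y'' = ⊥ := by
    rw [eq_bot_iff]
    intro x hx
    have h1 : (x : Y) ∈ GrLC.gam J Y := (mem_torsionSub_subtype_iff J Y'' x).1 hx
    rw [hY, Submodule.mem_bot] at h1
    rw [Submodule.mem_bot]
    exact Subtype.ext h1
  obtain ⟨r, hrI, hr⟩ := exists_regular' R I X'' hX''
  obtain ⟨s, hsJ, hs⟩ := exists_regular' S J Y'' hY''
  have h1 : (r ⊗ₜ[k] s) ^ N • w = 0 := hN _ (Ideal.pow_mem_pow (tmul_mem_inf I J hrI hsJ) N)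
  rw [Algebra.TensorProduct.tmul_pow, ← hw'', ← map_smul] at h1
  have h2 : ((r ^ N) ⊗ₜ[k] (s ^ N)) • w'' = 0 := hι (h1.trans (map_zero ι).symm)
  rw [smul_eq_mapA] at h2
  have hinj : Function.Injective
      (mapA (k := k) (LinearMap.lsmul R X'' (r ^ N)) (LinearMap.lsmul S Y'' (s ^ N))) :=
    TensorProduct.map_injective_of_flat_flat _ _ (hr.pow N) (hs.pow N)
  have h3 : w'' = 0 := hinj (h2.trans (map_zero _).symm)
  rw [← hw'', h3, map_zero]

end alpha

section beta

variable (k : Type u) [Field k] (R S : Type u) [CommRing R] [CommRing S] [Algebra k R]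
  [Algebra k S] [IsNoetherianRing R] [IsNoetherianRing S]
  (X Y : Type u) [AddCommGroup X] [Module R X] [Module k X] [IsScalarTower k R X]
  [AddCommGroup Y] [Module S Y] [Module k Y] [IsScalarTower k S Y]

/-- **torsion in a product of subspaces.** -/
theorem map_subtype_mem_gam_iff (I : Ideal R) (J : Ideal S) (𝔞 : Ideal (R ⊗[k] S))
    (h𝔞 : ∀ (N : Type u) [AddCommGroup N] [Module (R ⊗[k] S) N], GrLC.gam 𝔞 N =
      GrLC.gam (I.map (algebraMap R (R ⊗[k] S)) ⊓
        J.map (Algebra.TensorProduct.includeRight : S →ₐ[k] R ⊗[k] S)) N)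
    (V : Submodule k X) (W : Submodule k Y) (V' : Submodule k V) (W' : Submodule k W)
    (hV' : ∀ v : V, v ∈ V' ↔ (v : X) ∈ GrLC.gam I X)
    (hW' : ∀ w : W, w ∈ W' ↔ (w : Y) ∈ GrLC.gam J Y) (u : (↥V) ⊗[k] (↥W)) :
    TensorProduct.map V.subtype W.subtype u ∈ GrLC.gam 𝔞 (X ⊗[k] Y) ↔
      TensorProduct.map V'.mkQ W'.mkQ u = 0 := by
  rw [h𝔞]
  constructor
  · intro hu
    have hbot := gam_tensor_eq_bot k R S (X ⧸ GrLC.gam I X) (Y ⧸ GrLC.gam J Y) I J
      (LCFinite.torsionSub_quotient_eq_bot I X) (LCFinite.torsionSub_quotient_eq_bot J Y)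
    let Xb := X ⧸ GrLC.gam I X
    let Yb := Y ⧸ GrLC.gam J Y
    let q : X ⊗[k] Y →ₗ[R ⊗[k] S] Xb ⊗[k] Yb :=
      mapA (k := k) (GrLC.gam I X).mkQ (GrLC.gam J Y).mkQ
    have h1 := map_mem_gam q hu
    rw [hbot, Submodule.mem_bot] at h1
    let jV : (↥V ⧸ V') →ₗ[k] Xb :=
      V'.liftQ (((GrLC.gam I X).mkQ.restrictScalars k) ∘ₗ V.subtype) (fun v hv => by
        rw [LinearMap.mem_ker]
        change (GrLC.gam I X).mkQ (v : X) = 0
        rw [Submodule.mkQ_apply, Submodule.Quotient.mk_eq_zero]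
        exact (hV' v).1 hv)
    let jW : (↥W ⧸ W') →ₗ[k] Yb :=
      W'.liftQ (((GrLC.gam J Y).mkQ.restrictScalars k) ∘ₗ W.subtype) (fun v hv => by
        rw [LinearMap.mem_ker]
        change (GrLC.gam J Y).mkQ (v : Y) = 0
        rw [Submodule.mkQ_apply, Submodule.Quotient.mk_eq_zero]
        exact (hW' v).1 hv)
    have hjV : Function.Injective jV := by
      rw [← LinearMap.ker_eq_bot]
      apply Submodule.ker_liftQ_eq_bot
      intro v hv
      rw [LinearMap.mem_ker] at hv
      change (GrLC.gam I X).mkQ (v : X) = 0 at hv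
      rw [Submodule.mkQ_apply, Submodule.Quotient.mk_eq_zero] at hv
      exact (hV' v).2 hv
    have hjW : Function.Injective jW := by
      rw [← LinearMap.ker_eq_bot]
      apply Submodule.ker_liftQ_eq_bot
      intro v hv
      rw [LinearMap.mem_ker] at hv
      change (GrLC.gam J Y).mkQ (v : Y) = 0 at hv
      rw [Submodule.mkQ_apply, Submodule.Quotient.mk_eq_zero] at hv
      exact (hW' v).2 hv
    have hsq : ∀ u' : (↥V) ⊗[k] (↥W),
        TensorProduct.map jV jW (TensorProduct.map V'.mkQ W'.mkQ u') =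
        q (TensorProduct.map V.subtype W.subtype u') := by
      intro u'
      induction u' using TensorProduct.induction_on with
      | zero => simp only [map_zero]
      | add a b ha hb => simp only [map_add, ha, hb]
      | tmul v w => rfl
    have hinj : Function.Injective (TensorProduct.map jV jW) :=
      TensorProduct.map_injective_of_flat_flat _ _ hjV hjW
    apply hinj
    rw [hsq, h1, map_zero]
  · intro hu
    have hk := TensorProduct.map_ker (LinearMap.exact_subtype_mkQ V') (Submodule.mkQ_surjective V')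
      (LinearMap.exact_subtype_mkQ W') (Submodule.mkQ_surjective W')
    have hu' : u ∈ LinearMap.ker (TensorProduct.map V'.mkQ W'.mkQ) := hu
    rw [hk] at hu'
    obtain ⟨a, ha, b, hb, rfl⟩ := Submodule.mem_sup.1 hu'
    clear hu hu'
    rw [map_add]
    apply add_mem
    · obtain ⟨t, rfl⟩ := ha
      apply gam_mono (inf_le_right) (X ⊗[k] Y)
      induction t using TensorProduct.induction_on with
      | zero => simp only [map_zero]; exact zero_mem _
      | add a b ha hb => simp only [map_add]; exact add_mem ha hb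
      | tmul v w =>
        change ((v : X) ⊗ₜ[k] ((w : W) : Y)) ∈ _
        exact tmul_mem_gam_right J _ ((hW' w.1).1 w.2)
    · obtain ⟨t, rfl⟩ := hb
      apply gam_mono (inf_le_left) (X ⊗[k] Y)
      induction t using TensorProduct.induction_on with
      | zero => simp only [map_zero]; exact zero_mem _
      | add a b ha hb => simp only [map_add]; exact add_mem ha hb
      | tmul v w =>
        change (((v : V) : X) ⊗ₜ[k] (w : Y)) ∈ _
        exact tmul_mem_gam_left I ((hV' v.1).1 v.2) _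

end beta

end Groth.Agent.Lib.Helper20.SegTP
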