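import Mathlib
import Groth.Agent.Lib.Helper20.SegGr1
import Groth.Agent.Lib.Helper20.SegTP4

/-!
# Graded complexes over `R` and `S`, the bigraded total complex over `R ⊗ S` (helper20)
-/

set_option autoImplicit false
set_option linter.unusedSectionVars false
set_option linter.unusedVariables false
set_option linter.style.haveILetI false

universe u

open TensorProduct DirectSum Groth.Agent.Lib.Helper20.SegKun Groth.Agent.Lib.Helper20.SegTP

namespace Groth.Agent.Lib.Helper20.SegGr

attribute [local instance] actModule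

variable {k : Type u} [Field k]

/-- a complex of graded `R`-modules (gradings given by projection families). -/
structure GCx (k : Type u) [Field k] (R : Type u) [CommRing R] [Algebra k R]
    (𝒜 : ℤ → Submodule k R) where
  X : ℕ → Type u
  [acg : ∀ a, AddCommGroup (X a)]
  [modR : ∀ a, Module R (X a)]
  [modk : ∀ a, Module k (X a)]
  [tower : ∀ a, IsScalarTower k R (X a)]
  d : ∀ a, X a →ₗ[R] X (a + 1)
  d_comp_d : ∀ a x, d (a + 1) (d a x) = 0
  P : ∀ a, PFam k (X a)
  d_p : ∀ a e x, d a ((P a).p e x) = (P (a + 1)).p e (d a x)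
  smul_p : ∀ a (i e : ℤ) (r : R), r ∈ 𝒜 i → ∀ x, (P a).p (e + i) (r • x) = r • (P a).p e x

attribute [instance] GCx.acg GCx.modR GCx.modk GCx.tower

section

variable {R S : Type u} [CommRing R] [CommRing S] [Algebra k R] [Algebra k S]
  {𝒜 : ℤ → Submodule k R} {ℬ : ℤ → Submodule k S}

/-- the underlying complex of vector spaces. -/
@[reducible] def GCx.toVCx (G : GCx k R 𝒜) : VCx k where
  X := G.X
  d a := (G.d a).restrictScalars k
  d_comp_d := G.d_comp_d

variable (G : GCx k R 𝒜) (H : GCx k S ℬ)

/-- the terms of the total complex. -/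
abbrev TX (n : ℕ) : Type u := TotX G.toVCx H.toVCx n

lemma totMap_comp {V V' V'' W W' W'' : VCx k} (f : ∀ a, V.X a →ₗ[k] V'.X a)
    (g : ∀ b, W.X b →ₗ[k] W'.X b) (f' : ∀ a, V'.X a →ₗ[k] V''.X a)
    (g' : ∀ b, W'.X b →ₗ[k] W''.X b) (n : ℕ) (z : TotX V W n) :
    totMap f' g' n (totMap f g n z) =
      totMap (fun a => f' a ∘ₗ f a) (fun b => g' b ∘ₗ g b) n z := by
  have : totMap f' g' n ∘ₗ totMap f g n =
      totMap (fun a => f' a ∘ₗ f a) (fun b => g' b ∘ₗ g b) n := by
    apply tot_ext
    intro a b hab x y
    rw [LinearMap.comp_apply, totMap_inj_tmul, totMap_inj_tmul, totMap_inj_tmul]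
    rfl
  exact LinearMap.congr_fun this z

lemma totMap_id {V W : VCx k} (n : ℕ) (z : TotX V W n) :
    totMap (fun a => (LinearMap.id : V.X a →ₗ[k] V.X a))
      (fun b => (LinearMap.id : W.X b →ₗ[k] W.X b)) n z = z := by
  have : totMap (fun a => (LinearMap.id : V.X a →ₗ[k] V.X a))
      (fun b => (LinearMap.id : W.X b →ₗ[k] W.X b)) n = LinearMap.id := by
    apply tot_ext
    intro a b hab x y
    rw [totMap_inj_tmul]
    rfl
  exact LinearMap.congr_fun this z

/-- the projections of the first grading. -/
noncomputable def pL (n : ℕ) (e : ℤ) : TX G H n →ₗ[k] TX G H n :=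
  totMap (fun a => (G.P a).p e) (fun b => LinearMap.id) n

/-- the projections of the second grading. -/
noncomputable def pR (n : ℕ) (e : ℤ) : TX G H n →ₗ[k] TX G H n :=
  totMap (fun a => LinearMap.id) (fun b => (H.P b).p e) n

lemma pL_inj_tmul {n : ℕ} (e : ℤ) (a b : ℕ) (h : a + b = n) (x : G.X a) (y : H.X b) :
    pL G H n e (inj G.toVCx H.toVCx a b h (x ⊗ₜ[k] y)) =
      inj G.toVCx H.toVCx a b h ((G.P a).p e x ⊗ₜ[k] y) := by
  unfold pL
  rw [totMap_inj_tmul]
  rfl

lemma pR_inj_tmul {n : ℕ} (e : ℤ) (a b : ℕ) (h : a + b = n) (x : G.X a) (y : H.X b) :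
    pR G H n e (inj G.toVCx H.toVCx a b h (x ⊗ₜ[k] y)) =
      inj G.toVCx H.toVCx a b h (x ⊗ₜ[k] (H.P b).p e y) := by
  unfold pR
  rw [totMap_inj_tmul]
  rfl

/-- induction principle for elements of the total complex. -/
lemma tot_induction {V W : VCx k} {n : ℕ} {motive : TotX V W n → Prop} (z : TotX V W n)
    (zero : motive 0)
    (tmul : ∀ (a b : ℕ) (h : a + b = n) (x : V.X a) (y : W.X b),
      motive (inj V W a b h (x ⊗ₜ[k] y)))
    (add : ∀ z z', motive z → motive z' → motive (z + z')) : motive z := by
  induction z using DirectSum.induction_on with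
  | zero => exact zero
  | add z z' hz hz' => exact add z z' hz hz'
  | of p w =>
    obtain ⟨⟨a, b⟩, h⟩ := p
    change motive (inj V W a b h w)
    induction w using TensorProduct.induction_on with
    | zero => rw [map_zero]; exact zero
    | add w w' hw hw' => rw [map_add]; exact add _ _ hw hw'
    | tmul x y => exact tmul a b h x y

/-- the first grading of the total complex. -/
noncomputable def totL (n : ℕ) : PFam k (TX G H n) where
  p := pL G H n
  idem e z := by
    unfold pL
    rw [totMap_comp]
    have h1 : (fun a => (G.P a).p e ∘ₗ (G.P a).p e) = fun a => (G.P a).p e :=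
      funext (fun a => LinearMap.ext ((G.P a).idem e))
    rw [h1]
    rfl
  orth e e' z he := by
    unfold pL
    rw [totMap_comp]
    have h1 : (fun a => (G.P a).p e ∘ₗ (G.P a).p e') = fun a => (0 : G.X a →ₗ[k] G.X a) := by
      funext a
      exact LinearMap.ext (fun x => (G.P a).orth e e' x he)
    rw [h1]
    induction z using tot_induction with
    | zero => rw [map_zero]
    | add z z' hz hz' => rw [map_add, hz, hz', add_zero]
    | tmul a b h x y =>
      rw [totMap_inj_tmul, LinearMap.zero_apply, zero_tmul, map_zero]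
  span z := by
    induction z using tot_induction with
    | zero => exact zero_mem _
    | add z z' hz hz' => exact add_mem hz hz'
    | tmul a b h x y =>
      have hx := (G.P a).span x
      induction hx using Submodule.iSup_induction' with
      | mem e x hx =>
        obtain ⟨x', rfl⟩ := hx
        rw [← pL_inj_tmul]
        exact Submodule.mem_iSup_of_mem e (LinearMap.mem_range_self _ _)
      | zero => rw [zero_tmul, map_zero]; exact zero_mem _
      | add x x' _ _ hx hx' => rw [add_tmul, map_add]; exact add_mem hx hx'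

/-- the second grading of the total complex. -/
noncomputable def totR (n : ℕ) : PFam k (TX G H n) where
  p := pR G H n
  idem e z := by
    unfold pR
    rw [totMap_comp]
    have h1 : (fun b => (H.P b).p e ∘ₗ (H.P b).p e) = fun b => (H.P b).p e :=
      funext (fun b => LinearMap.ext ((H.P b).idem e))
    rw [h1]
    rfl
  orth e e' z he := by
    unfold pR
    rw [totMap_comp]
    have h1 : (fun b => (H.P b).p e ∘ₗ (H.P b).p e') = fun b => (0 : H.X b →ₗ[k] H.X b) := by
      funext b
      exact LinearMap.ext (fun x => (H.P b).orth e e' x he)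
    rw [h1]
    induction z using tot_induction with
    | zero => rw [map_zero]
    | add z z' hz hz' => rw [map_add, hz, hz', add_zero]
    | tmul a b h x y =>
      rw [totMap_inj_tmul, LinearMap.zero_apply, tmul_zero, map_zero]
  span z := by
    induction z using tot_induction with
    | zero => exact zero_mem _
    | add z z' hz hz' => exact add_mem hz hz'
    | tmul a b h x y =>
      have hy := (H.P b).span y
      induction hy using Submodule.iSup_induction' with
      | mem e y hy =>
        obtain ⟨y', rfl⟩ := hy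
        rw [← pR_inj_tmul]
        exact Submodule.mem_iSup_of_mem e (LinearMap.mem_range_self _ _)
      | zero => rw [tmul_zero, map_zero]; exact zero_mem _
      | add y y' _ _ hy hy' => rw [tmul_add, map_add]; exact add_mem hy hy'

lemma totL_p (n : ℕ) (e : ℤ) : (totL G H n).p e = pL G H n e := rfl
lemma totR_p (n : ℕ) (e : ℤ) : (totR G H n).p e = pR G H n e := rfl

lemma pL_pR (n : ℕ) (e e' : ℤ) (z : TX G H n) :
    pL G H n e (pR G H n e' z) = pR G H n e' (pL G H n e z) := by
  unfold pL pR
  rw [totMap_comp, totMap_comp]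
  rfl

/-- the diagonal projection of the total complex. -/
noncomputable def Δ (n : ℕ) : TX G H n →ₗ[k] TX G H n := PFam.diag (totL G H n) (totR G H n)

lemma totD_pL (n : ℕ) (e : ℤ) (z : TX G H n) :
    totD G.toVCx H.toVCx n (pL G H n e z) = pL G H (n + 1) e (totD G.toVCx H.toVCx n z) := by
  induction z using tot_induction with
  | zero => simp only [map_zero]
  | add z z' hz hz' => simp only [map_add, hz, hz']
  | tmul a b h x y =>
    rw [pL_inj_tmul, totD_inj_tmul, totD_inj_tmul, map_add, map_smul, pL_inj_tmul, pL_inj_tmul]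
    have h1 : G.toVCx.d a ((G.P a).p e x) = (G.P (a + 1)).p e (G.toVCx.d a x) := G.d_p a e x
    rw [h1]

lemma totD_pR (n : ℕ) (e : ℤ) (z : TX G H n) :
    totD G.toVCx H.toVCx n (pR G H n e z) = pR G H (n + 1) e (totD G.toVCx H.toVCx n z) := by
  induction z using tot_induction with
  | zero => simp only [map_zero]
  | add z z' hz hz' => simp only [map_add, hz, hz']
  | tmul a b h x y =>
    rw [pR_inj_tmul, totD_inj_tmul, totD_inj_tmul, map_add, map_smul, pR_inj_tmul, pR_inj_tmul]
    have h1 : H.toVCx.d b ((H.P b).p e y) = (H.P (b + 1)).p e (H.toVCx.d b y) := H.d_p b e y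
    rw [h1]

lemma totD_Δ (n : ℕ) (z : TX G H n) :
    totD G.toVCx H.toVCx n (Δ G H n z) = Δ G H (n + 1) (totD G.toVCx H.toVCx n z) :=
  PFam.diag_map (totL G H n) (totR G H n) (totL G H (n + 1)) (totR G H (n + 1))
    (totD G.toVCx H.toVCx n) (totD_pL G H n) (totD_pR G H n) z

lemma Δ_Δ (n : ℕ) (z : TX G H n) : Δ G H n (Δ G H n z) = Δ G H n z :=
  PFam.diag_diag (totL G H n) (totR G H n) (pL_pR G H n) z

end

end Groth.Agent.Lib.Helper20.SegGr
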