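import Mathlib
import Groth.Agent.Lib.Helper20.SegGr2

/-!
# The total complex as a complex of `R ⊗ S`-modules and of modules over the Segre ring (helper20)
-/

set_option autoImplicit false
set_option linter.unusedSectionVars false
set_option linter.unusedVariables false
set_option linter.style.haveILetI false

universe u

open TensorProduct DirectSum Groth.Agent.Lib.Helper20.SegKun Groth.Agent.Lib.Helper20.SegTP

namespace Groth.Agent.Lib.Helper20.SegGr

attribute [local instance] actModule

variable {k : Type u} [Field k]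

section base

variable {R S : Type u} [CommRing R] [CommRing S] [Algebra k R] [Algebra k S]
  {X Y : Type u} [AddCommGroup X] [Module R X] [Module k X] [IsScalarTower k R X]
  [AddCommGroup Y] [Module S Y] [Module k Y] [IsScalarTower k S Y]

lemma smul_comm_act (c : k) (α : R ⊗[k] S) (w : X ⊗[k] Y) : α • (c • w) = c • (α • w) := by
  change GrSeg.act k R S X Y α (c • w) = c • GrSeg.act k R S X Y α w
  rw [map_smul]

/-- the base field action commutes with the `R ⊗ S`-action. -/
lemma smulCommClass_base : SMulCommClass k (R ⊗[k] S) (X ⊗[k] Y) :=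
  ⟨fun c α w => (smul_comm_act c α w).symm⟩

end base

attribute [local instance] smulCommClass_base isScalarTower_base

section

variable {R S : Type u} [CommRing R] [CommRing S] [Algebra k R] [Algebra k S]
  {𝒜 : ℤ → Submodule k R} {ℬ : ℤ → Submodule k S} (G : GCx k R 𝒜) (H : GCx k S ℬ)

lemma inj_smul {n : ℕ} (a b : ℕ) (h : a + b = n) (α : R ⊗[k] S) (w : G.X a ⊗[k] H.X b) :
    inj G.toVCx H.toVCx a b h (α • w) = α • inj G.toVCx H.toVCx a b h w :=
  (DirectSum.lof (R ⊗[k] S) (Idx n) (fun p => G.X p.1.1 ⊗[k] H.X p.1.2) ⟨(a, b), h⟩).map_smul α w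

lemma smul_inj_tmul {n : ℕ} (a b : ℕ) (h : a + b = n) (r : R) (s : S) (x : G.X a) (y : H.X b) :
    (r ⊗ₜ[k] s) • inj G.toVCx H.toVCx a b h (x ⊗ₜ[k] y) =
      inj G.toVCx H.toVCx a b h ((r • x) ⊗ₜ[k] (s • y)) := by
  rw [← inj_smul, tmul_smul_tmul]

lemma totD_smul (n : ℕ) (α : R ⊗[k] S) (z : TX G H n) :
    totD G.toVCx H.toVCx n (α • z) = α • totD G.toVCx H.toVCx n z := by
  induction z using tot_induction with
  | zero => rw [smul_zero, map_zero, smul_zero]
  | add z z' hz hz' => rw [smul_add, map_add, hz, hz', map_add, smul_add]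
  | tmul a b h x y =>
    induction α using TensorProduct.induction_on with
    | zero => rw [zero_smul, map_zero, zero_smul]
    | add α β hα hβ => rw [add_smul, map_add, hα, hβ, add_smul]
    | tmul r s =>
      rw [smul_inj_tmul, totD_inj_tmul, totD_inj_tmul, smul_add, smul_comm, smul_inj_tmul,
        smul_inj_tmul]
      have h1 : G.toVCx.d a (r • x) = r • G.toVCx.d a x := (G.d a).map_smul r x
      have h2 : H.toVCx.d b (s • y) = s • H.toVCx.d b y := (H.d b).map_smul s y
      rw [h1, h2]

/-- the graded action on the first grading. -/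
lemma pL_smul (n : ℕ) (i e : ℤ) (α : R ⊗[k] S) (hα : α ∈ GrSeg.segrePiece k 𝒜 ℬ i)
    (z : TX G H n) : pL G H n (e + i) (α • z) = α • pL G H n e z := by
  induction hα using Submodule.span_induction generalizing z with
  | mem α hα =>
    obtain ⟨r, hr, s, hs, rfl⟩ := hα
    induction z using tot_induction with
    | zero => rw [smul_zero, map_zero, map_zero, smul_zero]
    | add z z' hz hz' => rw [smul_add, map_add, hz, hz', map_add, smul_add]
    | tmul a b h x y =>
      rw [smul_inj_tmul, pL_inj_tmul, pL_inj_tmul, smul_inj_tmul, G.smul_p a i e r hr]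
  | zero => rw [zero_smul, map_zero, zero_smul]
  | add α β _ _ hα hβ => rw [add_smul, map_add, hα, hβ, add_smul]
  | smul c α _ hα => rw [smul_assoc, map_smul, hα, smul_assoc]

/-- the graded action on the second grading. -/
lemma pR_smul (n : ℕ) (i e : ℤ) (α : R ⊗[k] S) (hα : α ∈ GrSeg.segrePiece k 𝒜 ℬ i)
    (z : TX G H n) : pR G H n (e + i) (α • z) = α • pR G H n e z := by
  induction hα using Submodule.span_induction generalizing z with
  | mem α hα =>
    obtain ⟨r, hr, s, hs, rfl⟩ := hα
    induction z using tot_induction with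
    | zero => rw [smul_zero, map_zero, map_zero, smul_zero]
    | add z z' hz hz' => rw [smul_add, map_add, hz, hz', map_add, smul_add]
    | tmul a b h x y =>
      rw [smul_inj_tmul, pR_inj_tmul, pR_inj_tmul, smul_inj_tmul, H.smul_p b i e s hs]
  | zero => rw [zero_smul, map_zero, zero_smul]
  | add α β _ _ hα hβ => rw [add_smul, map_add, hα, hβ, add_smul]
  | smul c α _ hα => rw [smul_assoc, map_smul, hα, smul_assoc]

lemma smul_mem_totL_piece (n : ℕ) (i e : ℤ) (α : R ⊗[k] S)
    (hα : α ∈ GrSeg.segrePiece k 𝒜 ℬ i) (z : TX G H n) (hz : z ∈ (totL G H n).piece e) :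
    α • z ∈ (totL G H n).piece (e + i) := by
  rw [PFam.mem_piece_iff, totL_p, pL_smul G H n i e α hα, ← totL_p, (totL G H n).p_of_mem hz]

lemma smul_mem_totR_piece (n : ℕ) (i e : ℤ) (α : R ⊗[k] S)
    (hα : α ∈ GrSeg.segrePiece k 𝒜 ℬ i) (z : TX G H n) (hz : z ∈ (totR G H n).piece e) :
    α • z ∈ (totR G H n).piece (e + i) := by
  rw [PFam.mem_piece_iff, totR_p, pR_smul G H n i e α hα, ← totR_p, (totR G H n).p_of_mem hz]

/-- the diagonal projection commutes with the action of bihomogeneous elements of bidegree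
`(i, i)`. -/
lemma Δ_smul_of_mem (n : ℕ) (i : ℤ) (α : R ⊗[k] S) (hα : α ∈ GrSeg.segrePiece k 𝒜 ℬ i)
    (z : TX G H n) : Δ G H n (α • z) = α • Δ G H n z :=
  PFam.diag_map_shift (totL G H n) (totR G H n)
    (DistribMulAction.toAddMonoidHom (TX G H n) α) i
    (fun e z hz => smul_mem_totL_piece G H n i e α hα z hz)
    (fun e z hz => smul_mem_totR_piece G H n i e α hα z hz) z

end

end Groth.Agent.Lib.Helper20.SegGr
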