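import Mathlib
import Groth.Agent.Lib.Helper20.SegGr3
import Groth.Agent.Lib.Helper20.GrConv
import Groth.Agent.Lib.Helper20.GrLCQuot
import Groth.Agent.Lib.Helper20.GrLCBasic

/-!
# The total complex as a complex of graded modules over the Segre ring; the diagonal subcomplex
(helper20)
-/

set_option autoImplicit false
set_option linter.unusedSectionVars false
set_option linter.unusedVariables false
set_option linter.style.haveILetI false

universe u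

open TensorProduct DirectSum Groth.Agent.Lib.Helper20.SegKun Groth.Agent.Lib.Helper20.SegTP
  Groth.Agent.Lib.Helper20.GrConv GrLC

namespace Groth.Agent.Lib.Helper20.SegGr

attribute [local instance] actModule smulCommClass_base isScalarTower_base

variable {k : Type u} [Field k]
  {R S T : Type u} [CommRing R] [CommRing S] [CommRing T] [Algebra k R] [Algebra k S] [Algebra k T]
  {𝒜 : ℤ → Submodule k R} {ℬ : ℤ → Submodule k S} (𝒯 : ℤ → Submodule k T) [GradedAlgebra 𝒯]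
  (ψ : T →ₐ[k] R ⊗[k] S) (hψ : ∀ i t, t ∈ 𝒯 i → ψ t ∈ GrSeg.segrePiece k 𝒜 ℬ i)
  (G : GCx k R 𝒜) (H : GCx k S ℬ)

/-- the `T`-module structure through `ψ`. -/
noncomputable def modT (n : ℕ) : Module T (TX G H n) :=
  Module.compHom (TX G H n) (ψ : T →+* R ⊗[k] S)

include hψ in
lemma gsmul_aux (n : ℕ) :
    letI := modT ψ G H n
    SetLike.GradedSMul (toAS 𝒯) (toAS (totL G H n).piece) := by
  letI := modT ψ G H n
  refine ⟨fun {i j} t z ht hz => ?_⟩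
  rw [vadd_eq_add, add_comm]
  exact smul_mem_totL_piece G H n i j (ψ t) (hψ i t ht) z hz

/-- the terms of the total complex as graded modules over the Segre ring. -/
noncomputable def CA (n : ℕ) : GMod.{u} (toAS 𝒯) :=
  letI := modT ψ G H n
  haveI := gsmul_aux 𝒯 ψ hψ G H n
  { carrier := TX G H n
    gr := toAS (totL G H n).piece }

lemma Δ_mem_piece (n : ℕ) (e : ℤ) (z : TX G H n) (hz : z ∈ (totL G H n).piece e) :
    Δ G H n z ∈ (totL G H n).piece e := by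
  unfold Δ
  rw [PFam.diag_of_mem _ _ hz]
  exact PFam.q_mem_piece (totL G H n) (totR G H n) (pL_pR G H n) hz

lemma totD_mem_piece (n : ℕ) (e : ℤ) (z : TX G H n) (hz : z ∈ (totL G H n).piece e) :
    totD G.toVCx H.toVCx n z ∈ (totL G H (n + 1)).piece e := by
  rw [PFam.mem_piece_iff, totL_p, ← totD_pL, ← totL_p, (totL G H n).p_of_mem hz]

/-- the differential. -/
noncomputable def DT (n : ℕ) :
    (CA 𝒯 ψ hψ G H n).carrier →ₗ[T] (CA 𝒯 ψ hψ G H (n + 1)).carrier where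
  toFun := totD G.toVCx H.toVCx n
  map_add' := map_add _
  map_smul' t z := totD_smul G H n (ψ t) z

lemma DT_apply (n : ℕ) (z : TX G H n) : DT 𝒯 ψ hψ G H n z = totD G.toVCx H.toVCx n z := rfl

include hψ in
lemma Δ_smul (n : ℕ) (t : T) (z : TX G H n) : Δ G H n (ψ t • z) = ψ t • Δ G H n z := by
  induction t using DirectSum.Decomposition.inductionOn 𝒯 with
  | zero => rw [map_zero, zero_smul, map_zero, zero_smul]
  | homogeneous t => exact Δ_smul_of_mem G H n _ (ψ t) (hψ _ t t.2) z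
  | add t t' ht ht' => rw [map_add, add_smul, map_add, ht, ht', add_smul]

/-- the diagonal projection, as a `T`-linear map. -/
noncomputable def ΔT (n : ℕ) :
    (CA 𝒯 ψ hψ G H n).carrier →ₗ[T] (CA 𝒯 ψ hψ G H n).carrier where
  toFun := Δ G H n
  map_add' := map_add _
  map_smul' t z := Δ_smul 𝒯 ψ hψ G H n t z

lemma ΔT_apply (n : ℕ) (z : TX G H n) : ΔT 𝒯 ψ hψ G H n z = Δ G H n z := rfl

lemma ΔT_isGrHom (n : ℕ) :
    IsGrHom (CA 𝒯 ψ hψ G H n).gr (CA 𝒯 ψ hψ G H n).gr (ΔT 𝒯 ψ hψ G H n) :=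
  fun e z hz => Δ_mem_piece G H n e z hz

lemma DT_isGrHom (n : ℕ) :
    IsGrHom (CA 𝒯 ψ hψ G H n).gr (CA 𝒯 ψ hψ G H (n + 1)).gr (DT 𝒯 ψ hψ G H n) :=
  fun e z hz => totD_mem_piece G H n e z hz

/-- the diagonal part. -/
noncomputable def diagSub (n : ℕ) : Submodule T (CA 𝒯 ψ hψ G H n).carrier :=
  LinearMap.range (ΔT 𝒯 ψ hψ G H n)

lemma mem_diagSub_iff (n : ℕ) (z : TX G H n) :
    z ∈ diagSub 𝒯 ψ hψ G H n ↔ Δ G H n z = z := by
  constructor
  · rintro ⟨w, rfl⟩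
    exact Δ_Δ G H n w
  · intro h
    exact ⟨z, h⟩

lemma diagSub_isHomogeneous (n : ℕ) :
    (diagSub 𝒯 ψ hψ G H n).IsHomogeneous (CA 𝒯 ψ hψ G H n).gr :=
  GrLCBasic.range_isHomogeneous _ _ (ΔT 𝒯 ψ hψ G H n) (ΔT_isGrHom 𝒯 ψ hψ G H n)

/-- the terms of the diagonal subcomplex. -/
noncomputable def CD (n : ℕ) : GMod.{u} (toAS 𝒯) :=
  GrLCQuot.subGMod (CA 𝒯 ψ hψ G H n) (diagSub 𝒯 ψ hψ G H n) (diagSub_isHomogeneous 𝒯 ψ hψ G H n)

lemma DT_mem_diagSub (n : ℕ) (z : (CA 𝒯 ψ hψ G H n).carrier) (hz : z ∈ diagSub 𝒯 ψ hψ G H n) :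
    DT 𝒯 ψ hψ G H n z ∈ diagSub 𝒯 ψ hψ G H (n + 1) := by
  have hz' : Δ G H n z = z := (mem_diagSub_iff 𝒯 ψ hψ G H n z).1 hz
  refine (mem_diagSub_iff 𝒯 ψ hψ G H (n + 1) _).2 ?_
  rw [DT_apply, ← totD_Δ, hz']

/-- the differential of the diagonal subcomplex. -/
noncomputable def dD (n : ℕ) : (CD 𝒯 ψ hψ G H n).carrier →ₗ[T] (CD 𝒯 ψ hψ G H (n + 1)).carrier :=
  (DT 𝒯 ψ hψ G H n).restrict (DT_mem_diagSub 𝒯 ψ hψ G H n)

lemma dD_coe (n : ℕ) (z : (CD 𝒯 ψ hψ G H n).carrier) :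
    (dD 𝒯 ψ hψ G H n z).1 = totD G.toVCx H.toVCx n z.1 := rfl

lemma dD_isGrHom (n : ℕ) :
    IsGrHom (CD 𝒯 ψ hψ G H n).gr (CD 𝒯 ψ hψ G H (n + 1)).gr (dD 𝒯 ψ hψ G H n) :=
  fun e z hz => totD_mem_piece G H n e z.1 hz

/-- exactness of the diagonal subcomplex from exactness of the total complex. -/
lemma dD_exact (n : ℕ) (hex : (Tot G.toVCx H.toVCx).ExactAt (n + 1)) :
    LinearMap.ker (dD 𝒯 ψ hψ G H (n + 1)) = LinearMap.range (dD 𝒯 ψ hψ G H n) := by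
  apply le_antisymm
  · rintro ⟨z, hz⟩ hdz
    have hdz' : totD G.toVCx H.toVCx (n + 1) z = 0 := congrArg Subtype.val hdz
    obtain ⟨w, hw⟩ := hex z hdz'
    have hw' : totD G.toVCx H.toVCx n w = z := hw
    have hz' : Δ G H (n + 1) z = z := (mem_diagSub_iff 𝒯 ψ hψ G H (n + 1) z).1 hz
    refine ⟨⟨Δ G H n w, ⟨w, rfl⟩⟩, Subtype.ext ?_⟩
    change totD G.toVCx H.toVCx n (Δ G H n w) = z
    rw [totD_Δ, hw', hz']
  · rintro _ ⟨⟨w, hw⟩, rfl⟩
    apply Subtype.ext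
    change totD G.toVCx H.toVCx (n + 1) (totD G.toVCx H.toVCx n w) = 0
    exact totD_comp_totD _ _ n w

end Groth.Agent.Lib.Helper20.SegGr
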