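import Mathlib
import Groth.Agent.Lib.Helper20.SegGr4

/-!
# Gradings on `M ⊗ N`, augmentations, and the augmented diagonal subcomplex (helper20)
-/

set_option autoImplicit false
set_option linter.unusedSectionVars false
set_option linter.unusedVariables false
set_option linter.style.haveILetI false

universe u

open TensorProduct DirectSum Groth.Agent.Lib.Helper20.SegKun Groth.Agent.Lib.Helper20.SegTP
  Groth.Agent.Lib.Helper20.GrConv GrLC

namespace Groth.Agent.Lib.Helper20.SegGr

attribute [local instance] actModule smulCommClass_base isScalarTower_base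

variable {k : Type u} [Field k]

section tens

variable {X Y : Type u} [AddCommGroup X] [Module k X] [AddCommGroup Y] [Module k Y]

/-- the grading of `X ⊗ Y` by the first factor. -/
noncomputable def tensL (P : PFam k X) (Y : Type u) [AddCommGroup Y] [Module k Y] :
    PFam k (X ⊗[k] Y) where
  p e := LinearMap.rTensor Y (P.p e)
  idem e w := by
    rw [← LinearMap.comp_apply, ← LinearMap.rTensor_comp]
    have : P.p e ∘ₗ P.p e = P.p e := LinearMap.ext (P.idem e)
    rw [this]
  orth e e' w he := by
    rw [← LinearMap.comp_apply, ← LinearMap.rTensor_comp]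
    have : P.p e ∘ₗ P.p e' = 0 := LinearMap.ext (fun x => P.orth e e' x he)
    rw [this, LinearMap.rTensor_zero, LinearMap.zero_apply]
  span w := by
    induction w using TensorProduct.induction_on with
    | zero => exact zero_mem _
    | add w w' hw hw' => exact add_mem hw hw'
    | tmul x y =>
      have hx := P.span x
      induction hx using Submodule.iSup_induction' with
      | mem e x hx =>
        obtain ⟨x', rfl⟩ := hx
        exact Submodule.mem_iSup_of_mem e ⟨x' ⊗ₜ[k] y, rfl⟩
      | zero => rw [zero_tmul]; exact zero_mem _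
      | add x x' _ _ hx hx' => rw [add_tmul]; exact add_mem hx hx'

/-- the grading of `X ⊗ Y` by the second factor. -/
noncomputable def tensR (X : Type u) [AddCommGroup X] [Module k X] (Q : PFam k Y) :
    PFam k (X ⊗[k] Y) where
  p e := LinearMap.lTensor X (Q.p e)
  idem e w := by
    rw [← LinearMap.comp_apply, ← LinearMap.lTensor_comp]
    have : Q.p e ∘ₗ Q.p e = Q.p e := LinearMap.ext (Q.idem e)
    rw [this]
  orth e e' w he := by
    rw [← LinearMap.comp_apply, ← LinearMap.lTensor_comp]
    have : Q.p e ∘ₗ Q.p e' = 0 := LinearMap.ext (fun x => Q.orth e e' x he)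
    rw [this, LinearMap.lTensor_zero, LinearMap.zero_apply]
  span w := by
    induction w using TensorProduct.induction_on with
    | zero => exact zero_mem _
    | add w w' hw hw' => exact add_mem hw hw'
    | tmul x y =>
      have hy := Q.span y
      induction hy using Submodule.iSup_induction' with
      | mem e y hy =>
        obtain ⟨y', rfl⟩ := hy
        exact Submodule.mem_iSup_of_mem e ⟨x ⊗ₜ[k] y', rfl⟩
      | zero => rw [tmul_zero]; exact zero_mem _
      | add y y' _ _ hy hy' => rw [tmul_add]; exact add_mem hy hy'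

variable (P : PFam k X) (Q : PFam k Y)

lemma tensL_p_tmul (e : ℤ) (x : X) (y : Y) : (tensL P Y).p e (x ⊗ₜ[k] y) = P.p e x ⊗ₜ[k] y := rfl

lemma tensR_p_tmul (e : ℤ) (x : X) (y : Y) : (tensR X Q).p e (x ⊗ₜ[k] y) = x ⊗ₜ[k] Q.p e y := rfl

lemma tens_comm (e e' : ℤ) (w : X ⊗[k] Y) :
    (tensL P Y).p e ((tensR X Q).p e' w) = (tensR X Q).p e' ((tensL P Y).p e w) := by
  induction w using TensorProduct.induction_on with
  | zero => simp only [map_zero]
  | add w w' hw hw' => simp only [map_add, hw, hw']
  | tmul x y => rfl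

/-- the span of the products of the pieces of degree `e`. -/
def segSub (e : ℤ) : Submodule k (X ⊗[k] Y) :=
  Submodule.span k {w | ∃ x ∈ P.piece e, ∃ y ∈ Q.piece e, w = x ⊗ₜ[k] y}

lemma segSub_le_pieceL (e : ℤ) : segSub P Q e ≤ (tensL P Y).piece e := by
  apply Submodule.span_le.2
  rintro _ ⟨x, hx, y, hy, rfl⟩
  rw [SetLike.mem_coe, PFam.mem_piece_iff, tensL_p_tmul, P.p_of_mem hx]

lemma segSub_le_pieceR (e : ℤ) : segSub P Q e ≤ (tensR X Q).piece e := by
  apply Submodule.span_le.2
  rintro _ ⟨x, hx, y, hy, rfl⟩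
  rw [SetLike.mem_coe, PFam.mem_piece_iff, tensR_p_tmul, Q.p_of_mem hy]

lemma diag_of_mem_segSub {e : ℤ} {w : X ⊗[k] Y} (hw : w ∈ segSub P Q e) :
    PFam.diag (tensL P Y) (tensR X Q) w = w :=
  PFam.diag_of_mem_of_mem _ _ (tens_comm P Q) (segSub_le_pieceL P Q e hw)
    (segSub_le_pieceR P Q e hw)

lemma pq_mem_segSub (e : ℤ) (w : X ⊗[k] Y) :
    (tensR X Q).p e ((tensL P Y).p e w) ∈ segSub P Q e := by
  induction w using TensorProduct.induction_on with
  | zero => simp only [map_zero]; exact zero_mem _
  | add w w' hw hw' => simp only [map_add]; exact add_mem hw hw'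
  | tmul x y =>
    exact Submodule.subset_span ⟨P.p e x, P.p_mem e x, Q.p e y, Q.p_mem e y, rfl⟩

lemma diag_mem_iSup_segSub (w : X ⊗[k] Y) :
    PFam.diag (tensL P Y) (tensR X Q) w ∈ ⨆ e, segSub P Q e := by
  induction w using (tensL P Y).induction_on with
  | zero => rw [map_zero]; exact zero_mem _
  | add w w' hw hw' => rw [map_add]; exact add_mem hw hw'
  | hom e w hw =>
    rw [PFam.diag_of_mem _ _ hw, ← (tensL P Y).p_of_mem hw]
    exact Submodule.mem_iSup_of_mem e (pq_mem_segSub P Q e w)

end tens

end Groth.Agent.Lib.Helper20.SegGr
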