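import Mathlib
import Groth.Agent.Lib.Helper20.SegGr5
import Groth.Agent.Lib.Helper20.GrCoarse

/-!
# Augmentations of graded complexes and the exact resolution of a Segre product by the diagonal
subcomplex (helper20)
-/

set_option autoImplicit false
set_option linter.unusedSectionVars false
set_option linter.unusedVariables false
set_option linter.style.haveILetI false

universe u

open TensorProduct DirectSum Groth.Agent.Lib.Helper20.SegKun Groth.Agent.Lib.Helper20.SegTP
  Groth.Agent.Lib.Helper20.GrConv GrLC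

namespace Groth.Agent.Lib.Helper20.SegGr

attribute [local instance] actModule smulCommClass_base isScalarTower_base

variable {k : Type u} [Field k]
  {R S : Type u} [CommRing R] [CommRing S] [Algebra k R] [Algebra k S]
  {𝒜 : ℤ → Submodule k R} {ℬ : ℤ → Submodule k S}

/-- an augmentation of a graded complex. -/
structure GAug (G : GCx k R 𝒜) (M : Type u) [AddCommGroup M] [Module R M] [Module k M]
    [IsScalarTower k R M] where
  PM : PFam k M
  ε : M →ₗ[R] G.X 0
  ε_p : ∀ e x, ε (PM.p e x) = (G.P 0).p e (ε x)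
  ε_inj : Function.Injective ε
  exact_zero : LinearMap.ker (G.d 0) = LinearMap.range ε

section aug

variable {G : GCx k R 𝒜} {H : GCx k S ℬ}
  {M : Type u} [AddCommGroup M] [Module R M] [Module k M] [IsScalarTower k R M]
  {N : Type u} [AddCommGroup N] [Module S N] [Module k N] [IsScalarTower k S N]
  (εM : GAug G M) (εN : GAug H N)

/-- the augmentation of the total complex. -/
noncomputable def εTot : M ⊗[k] N →ₗ[k] TX G H 0 :=
  inj G.toVCx H.toVCx 0 0 rfl ∘ₗ
    TensorProduct.map (εM.ε.restrictScalars k) (εN.ε.restrictScalars k)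

lemma εTot_tmul (x : M) (y : N) :
    εTot εM εN (x ⊗ₜ[k] y) = inj G.toVCx H.toVCx 0 0 rfl (εM.ε x ⊗ₜ[k] εN.ε y) := rfl

lemma inj_injective {V W : VCx k} {n : ℕ} (a b : ℕ) (h : a + b = n) :
    Function.Injective (inj V W a b h) :=
  DirectSum.of_injective (β := fun p : Idx n => V.X p.1.1 ⊗[k] W.X p.1.2) ⟨(a, b), h⟩

lemma εTot_injective : Function.Injective (εTot εM εN) := by
  apply (inj_injective 0 0 rfl).comp
  exact TensorProduct.map_injective_of_flat_flat _ _ εM.ε_inj εN.ε_inj

lemma εTot_smul (α : R ⊗[k] S) (u : M ⊗[k] N) : εTot εM εN (α • u) = α • εTot εM εN u := by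
  change inj G.toVCx H.toVCx 0 0 rfl (TensorProduct.map (εM.ε.restrictScalars k)
    (εN.ε.restrictScalars k) (α • u)) = _
  rw [map_smul_act, inj_smul]
  rfl

lemma d_ε (x : M) : G.d 0 (εM.ε x) = 0 := by
  have : εM.ε x ∈ LinearMap.ker (G.d 0) := by
    rw [εM.exact_zero]
    exact LinearMap.mem_range_self _ _
  exact this

lemma totD_εTot (u : M ⊗[k] N) : totD G.toVCx H.toVCx 0 (εTot εM εN u) = 0 := by
  induction u using TensorProduct.induction_on with
  | zero => simp only [map_zero]
  | add u u' hu hu' => rw [map_add, map_add, hu, hu', add_zero]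
  | tmul x y =>
    rw [εTot_tmul, totD_inj_tmul]
    have h1 : G.toVCx.d 0 (εM.ε x) = 0 := d_ε εM x
    have h2 : H.toVCx.d 0 (εN.ε y) = 0 := d_ε εN y
    rw [h1, h2, zero_tmul, tmul_zero, map_zero, map_zero, smul_zero, add_zero]

lemma εTot_pL (e : ℤ) (u : M ⊗[k] N) :
    εTot εM εN ((tensL εM.PM N).p e u) = pL G H 0 e (εTot εM εN u) := by
  induction u using TensorProduct.induction_on with
  | zero => simp only [map_zero]
  | add u u' hu hu' => simp only [map_add, hu, hu']
  | tmul x y => rw [tensL_p_tmul, εTot_tmul, εTot_tmul, pL_inj_tmul, εM.ε_p]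

lemma εTot_pR (e : ℤ) (u : M ⊗[k] N) :
    εTot εM εN ((tensR M εN.PM).p e u) = pR G H 0 e (εTot εM εN u) := by
  induction u using TensorProduct.induction_on with
  | zero => simp only [map_zero]
  | add u u' hu hu' => simp only [map_add, hu, hu']
  | tmul x y => rw [tensR_p_tmul, εTot_tmul, εTot_tmul, pR_inj_tmul, εN.ε_p]

lemma Δ_εTot (u : M ⊗[k] N) :
    Δ G H 0 (εTot εM εN u) =
      εTot εM εN (PFam.diag (tensL εM.PM N) (tensR M εN.PM) u) :=
  (PFam.diag_map (tensL εM.PM N) (tensR M εN.PM) (totL G H 0) (totR G H 0) (εTot εM εN)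
    (εTot_pL εM εN) (εTot_pR εM εN) u).symm

lemma tx_zero_eq (z : TX G H 0) : ∃ w, z = inj G.toVCx H.toVCx 0 0 rfl w := by
  induction z using tot_induction with
  | zero => exact ⟨0, (map_zero _).symm⟩
  | add z z' hz hz' =>
    obtain ⟨w, rfl⟩ := hz
    obtain ⟨w', rfl⟩ := hz'
    exact ⟨w + w', (map_add _ _ _).symm⟩
  | tmul a b h x y =>
    obtain ⟨rfl, rfl⟩ : a = 0 ∧ b = 0 := by omega
    exact ⟨x ⊗ₜ[k] y, rfl⟩

/-- the cocycles of degree zero of the total complex come from `M ⊗ N`. -/
lemma exists_of_totD_eq_zero (z : TX G H 0) (hz : totD G.toVCx H.toVCx 0 z = 0) :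
    ∃ u, εTot εM εN u = z := by
  obtain ⟨w, rfl⟩ := tx_zero_eq z
  rw [totD_inj] at hz
  -- the two components vanish
  have hA : TensorProduct.map (G.toVCx.d 0) (LinearMap.id : H.X 0 →ₗ[k] H.X 0) w = 0 := by
    have := congrArg (fun z : TX G H 1 => z ⟨(1, 0), rfl⟩) hz
    simp only [Dcomp, LinearMap.add_apply, LinearMap.smul_apply, LinearMap.comp_apply,
      DirectSum.add_apply, pow_zero, one_smul] at this
    unfold inj at this
    rw [DirectSum.lof_eq_of, DirectSum.lof_eq_of, DirectSum.of_eq_same,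
      DirectSum.of_eq_of_ne _ _ _ (by intro h; have := congrArg (fun p => p.1.1) h; simp at this)]
      at this
    exact (add_zero _).symm.trans this
  have hB : TensorProduct.map (LinearMap.id : G.X 0 →ₗ[k] G.X 0) (H.toVCx.d 0) w = 0 := by
    have := congrArg (fun z : TX G H 1 => z ⟨(0, 1), rfl⟩) hz
    simp only [Dcomp, LinearMap.add_apply, LinearMap.smul_apply, LinearMap.comp_apply,
      DirectSum.add_apply, pow_zero, one_smul] at this
    unfold inj at this
    rw [DirectSum.lof_eq_of, DirectSum.lof_eq_of, DirectSum.of_eq_same,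
      DirectSum.of_eq_of_ne _ _ _ (by intro h; have := congrArg (fun p => p.1.1) h; simp at this)]
      at this
    exact (zero_add _).symm.trans this
  -- first factor
  have hexM : Function.Exact (εM.ε.restrictScalars k) (G.toVCx.d 0) := by
    intro x
    have := SetLike.ext_iff.1 εM.exact_zero x
    exact this
  have hexN : Function.Exact (εN.ε.restrictScalars k) (H.toVCx.d 0) := by
    intro x
    have := SetLike.ext_iff.1 εN.exact_zero x
    exact this
  obtain ⟨w1, hw1⟩ := (Module.Flat.rTensor_exact (H.X 0) hexM w).1 hA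
  have hB' : LinearMap.rTensor (H.X 1) (εM.ε.restrictScalars k)
      (LinearMap.lTensor M (H.toVCx.d 0) w1) = 0 := by
    rw [← hw1] at hB
    rw [← hB]
    rw [← LinearMap.comp_apply, LinearMap.rTensor_comp_lTensor]
    change _ = (LinearMap.lTensor (G.X 0) (H.toVCx.d 0)) (LinearMap.rTensor (H.X 0) _ w1)
    rw [← LinearMap.comp_apply, LinearMap.lTensor_comp_rTensor]
  have hinj : Function.Injective (LinearMap.rTensor (H.X 1) (εM.ε.restrictScalars k)) :=
    Module.Flat.rTensor_preserves_injective_linearMap _ εM.ε_inj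
  have hB'' : LinearMap.lTensor M (H.toVCx.d 0) w1 = 0 := hinj (hB'.trans (map_zero _).symm)
  obtain ⟨u, hu⟩ := (Module.Flat.lTensor_exact M hexN w1).1 hB''
  refine ⟨u, ?_⟩
  change inj G.toVCx H.toVCx 0 0 rfl (TensorProduct.map (εM.ε.restrictScalars k)
    (εN.ε.restrictScalars k) u) = _
  congr 1
  rw [← hw1, ← hu, ← LinearMap.comp_apply, LinearMap.rTensor_comp_lTensor]

end aug

end Groth.Agent.Lib.Helper20.SegGr
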