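import Mathlib
import Groth.Agent.Lib.Helper20.SegGr6

/-!
# The diagonal subcomplex as an exact graded resolution of the Segre product (helper20)
-/

set_option autoImplicit false
set_option linter.unusedSectionVars false
set_option linter.unusedVariables false
set_option linter.style.haveILetI false

universe u

open TensorProduct DirectSum Groth.Agent.Lib.Helper20.SegKun Groth.Agent.Lib.Helper20.SegTP
  Groth.Agent.Lib.Helper20.GrConv GrLC

namespace Groth.Agent.Lib.Helper20.SegGr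

attribute [local instance] actModule smulCommClass_base isScalarTower_base

variable {k : Type u} [Field k]
  {R S T : Type u} [CommRing R] [CommRing S] [CommRing T] [Algebra k R] [Algebra k S] [Algebra k T]
  {𝒜 : ℤ → Submodule k R} {ℬ : ℤ → Submodule k S} (𝒯 : ℤ → Submodule k T) [GradedAlgebra 𝒯]
  (ψ : T →ₐ[k] R ⊗[k] S) (hψ : ∀ i t, t ∈ 𝒯 i → ψ t ∈ GrSeg.segrePiece k 𝒜 ℬ i)
  {G : GCx k R 𝒜} {H : GCx k S ℬ}
  {M : Type u} [AddCommGroup M] [Module R M] [Module k M] [IsScalarTower k R M]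
  {N : Type u} [AddCommGroup N] [Module S N] [Module k N] [IsScalarTower k S N]
  (εM : GAug G M) (εN : GAug H N)
  {P : Type u} [AddCommGroup P] [Module T P] [Module k P]
  (𝒬 : ℤ → AddSubgroup P) (φ : P →ₗ[k] M ⊗[k] N)

/-- the data presenting `P` as the Segre product of `M` and `N`. -/
structure PData : Prop where
  inj : Function.Injective φ
  smul : ∀ (t : T) (p : P), φ (t • p) = ψ t • φ p
  diag : ∀ p, PFam.diag (tensL εM.PM N) (tensR M εN.PM) (φ p) = φ p
  surj : ∀ u, PFam.diag (tensL εM.PM N) (tensR M εN.PM) u = u → u ∈ LinearMap.range φ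
  deg : ∀ e p, p ∈ 𝒬 e → φ p ∈ (tensL εM.PM N).piece e

variable (hP : PData ψ εM εN 𝒬 φ)

/-- the augmentation of the diagonal subcomplex. -/
noncomputable def εP : P →ₗ[T] (CD 𝒯 ψ hψ G H 0).carrier where
  toFun p := ⟨εTot εM εN (φ p), (mem_diagSub_iff 𝒯 ψ hψ G H 0 _).2 (by rw [Δ_εTot, hP.diag])⟩
  map_add' p p' := Subtype.ext (by
    change εTot εM εN (φ (p + p')) = εTot εM εN (φ p) + εTot εM εN (φ p')
    rw [map_add, map_add])
  map_smul' t p := Subtype.ext (by
    change εTot εM εN (φ (t • p)) = ψ t • εTot εM εN (φ p)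
    rw [hP.smul, εTot_smul])

lemma εP_coe (p : P) : (εP 𝒯 ψ hψ εM εN 𝒬 φ hP p).1 = εTot εM εN (φ p) := rfl

variable [DirectSum.Decomposition 𝒬] [SetLike.GradedSMul (toAS 𝒯) 𝒬]

/-- **the diagonal subcomplex is an exact graded resolution of the Segre product.** -/
noncomputable def exRes (hex : ∀ n, (Tot G.toVCx H.toVCx).ExactAt (n + 1)) :
    Groth.Agent.Lib.Helper20.GrCoarse.ExRes (toAS 𝒯) 𝒬 where
  X := CD 𝒯 ψ hψ G H
  d := dD 𝒯 ψ hψ G H
  ε := εP 𝒯 ψ hψ εM εN 𝒬 φ hP
  d_grHom := dD_isGrHom 𝒯 ψ hψ G H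
  ε_grHom := by
    intro e p hp
    change εTot εM εN (φ p) ∈ (totL G H 0).piece e
    rw [PFam.mem_piece_iff, totL_p, ← εTot_pL, (tensL εM.PM N).p_of_mem (hP.deg e p hp)]
  ε_injective := by
    intro p p' h
    apply hP.inj
    apply εTot_injective εM εN
    exact congrArg Subtype.val h
  exact_zero := by
    apply le_antisymm
    · rintro ⟨z, hz⟩ hdz
      have hdz' : totD G.toVCx H.toVCx 0 z = 0 := congrArg Subtype.val hdz
      obtain ⟨u, rfl⟩ := exists_of_totD_eq_zero εM εN z hdz'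
      have hz' : Δ G H 0 (εTot εM εN u) = εTot εM εN u := (mem_diagSub_iff 𝒯 ψ hψ G H 0 _).1 hz
      rw [Δ_εTot] at hz'
      obtain ⟨p, rfl⟩ := hP.surj u (εTot_injective εM εN hz')
      exact ⟨p, Subtype.ext rfl⟩
    · rintro _ ⟨p, rfl⟩
      apply Subtype.ext
      change totD G.toVCx H.toVCx 0 (εTot εM εN (φ p)) = 0
      exact totD_εTot εM εN _
  exact_succ n := dD_exact 𝒯 ψ hψ G H n (hex n)

end Groth.Agent.Lib.Helper20.SegGr
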