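import Mathlib
import Groth.Agent.Lib.Helper20.SegGr7

/-!
# Acyclicity of the terms of the diagonal subcomplex over the Segre ring (helper20)
-/

set_option autoImplicit false
set_option linter.unusedSectionVars false
set_option linter.unusedVariables false
set_option linter.style.haveILetI false

universe u

open TensorProduct DirectSum Groth.Agent.Lib.Helper20.SegKun Groth.Agent.Lib.Helper20.SegTP
  Groth.Agent.Lib.Helper20.GrConv GrLC Groth.Agent.Lib.Helper4.LC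
  Groth.Agent.Lib.Helper20.SegAcyc

namespace Groth.Agent.Lib.Helper20.SegGr

attribute [local instance] actModule smulCommClass_base isScalarTower_base

variable {k : Type u} [Field k]
  {R S T : Type u} [CommRing R] [CommRing S] [CommRing T] [Algebra k R] [Algebra k S] [Algebra k T]
  {𝒜 : ℤ → Submodule k R} {ℬ : ℤ → Submodule k S} (𝒯 : ℤ → Submodule k T) [GradedAlgebra 𝒯]
  (ψ : T →ₐ[k] R ⊗[k] S) (hψ : ∀ i t, t ∈ 𝒯 i → ψ t ∈ GrSeg.segrePiece k 𝒜 ℬ i)
  (G : GCx k R 𝒜) (H : GCx k S ℬ)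
  [IsNoetherianRing R] [IsNoetherianRing S] [IsNoetherianRing T] [IsNoetherianRing (R ⊗[k] S)]
  (mR : Ideal R) (mS : Ideal S) (mT : Ideal T)
  (hgam : ∀ (N : Type u) [AddCommGroup N] [Module (R ⊗[k] S) N],
    GrLC.gam (mT.map ψ) N = GrLC.gam (mR.map (algebraMap R (R ⊗[k] S)) ⊓
      mS.map (Algebra.TensorProduct.includeRight : S →ₐ[k] R ⊗[k] S)) N)
  (hG : ∀ a q, Subsingleton (HH mR (ModuleCat.of R (G.X a)) (q + 1)))
  (hH : ∀ b q, Subsingleton (HH mS (ModuleCat.of S (H.X b)) (q + 1)))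

include hgam hG hH in
omit [IsNoetherianRing T] in
lemma subsingleton_HH_TX (n q : ℕ) :
    Subsingleton (HH (mT.map ψ) (ModuleCat.of (R ⊗[k] S) (TX G H n)) (q + 1)) := by
  apply subsingleton_HH_directSum (mT.map ψ) (fun p : Idx n => G.X p.1.1 ⊗[k] H.X p.1.2) (q + 1)
  intro p
  exact subsingleton_HH_tensor k R S (G.X p.1.1) (H.X p.1.2) mR mS (hG _) (hH _) (mT.map ψ)
    hgam q

include hgam hG hH in
lemma subsingleton_HH_CA (n q : ℕ) :
    Subsingleton (HH mT (ModuleCat.of T (CA 𝒯 ψ hψ G H n).carrier) (q + 1)) := by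
  letI : Algebra T (R ⊗[k] S) := ψ.toRingHom.toAlgebra
  letI : Module T (TX G H n) := modT ψ G H n
  haveI : IsScalarTower T (R ⊗[k] S) (TX G H n) :=
    IsScalarTower.of_algebraMap_smul (fun t z => rfl)
  obtain ⟨e, -⟩ := LCIndep2.exists_addEquiv (R ⊗[k] S) mT (TX G H n) (q + 1)
  have h1 : Subsingleton (HH (mT.map (algebraMap T (R ⊗[k] S)))
      (ModuleCat.of (R ⊗[k] S) (TX G H n)) (q + 1)) :=
    subsingleton_HH_TX ψ G H mR mS mT hgam hG hH n q
  have h2 : Subsingleton (HH mT (ModuleCat.of T (TX G H n)) (q + 1)) :=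
    e.symm.toEquiv.subsingleton
  exact h2

include hgam hG hH in
/-- **the terms of the diagonal subcomplex are acyclic.** -/
theorem subsingleton_HH_CD (n q : ℕ) :
    Subsingleton (HH mT (ModuleCat.of T (CD 𝒯 ψ hψ G H n).carrier) (q + 1)) := by
  have h1 := subsingleton_HH_CA 𝒯 ψ hψ G H mR mS mT hgam hG hH n q
  let f : ↥(diagSub 𝒯 ψ hψ G H n) →ₗ[T] (CA 𝒯 ψ hψ G H n).carrier :=
    (diagSub 𝒯 ψ hψ G H n).subtype
  let g : (CA 𝒯 ψ hψ G H n).carrier →ₗ[T] ↥(diagSub 𝒯 ψ hψ G H n) :=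
    (ΔT 𝒯 ψ hψ G H n).codRestrict (diagSub 𝒯 ψ hψ G H n) (fun z => ⟨z, rfl⟩)
  have hgf : ∀ x, g (f x) = x := by
    intro x
    apply Subtype.ext
    exact (mem_diagSub_iff 𝒯 ψ hψ G H n x.1).1 x.2
  exact subsingleton_HH_of_retract mT f g hgf (q + 1) h1

end Groth.Agent.Lib.Helper20.SegGr
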