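import Mathlib
import Groth.Agent.Lib.Helper20.SegGr8

/-!
# The bihomogeneous part of degree `(d, d)` of the total complex and its torsion (helper20)
-/

set_option autoImplicit false
set_option linter.unusedSectionVars false
set_option linter.unusedVariables false
set_option linter.style.haveILetI false

universe u

open TensorProduct DirectSum Groth.Agent.Lib.Helper20.SegKun Groth.Agent.Lib.Helper20.SegTP
  Groth.Agent.Lib.Helper20.GrConv GrLC Groth.Agent.Lib.Helper4.LC
  Groth.Agent.Lib.Helper20.SegAcyc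

namespace Groth.Agent.Lib.Helper20.SegGr

attribute [local instance] actModule smulCommClass_base isScalarTower_base

variable {k : Type u} [Field k]
  {R S : Type u} [CommRing R] [CommRing S] [Algebra k R] [Algebra k S]
  {𝒜 : ℤ → Submodule k R} {ℬ : ℤ → Submodule k S}

section piece

variable (G : GCx k R 𝒜) (d : ℤ)

lemma pieceStable : G.toVCx.Stable (fun a => (G.P a).piece d) := by
  intro a x hx
  rw [PFam.mem_piece_iff]
  have h1 : (G.P (a + 1)).p d (G.toVCx.d a x) = G.toVCx.d a ((G.P a).p d x) := (G.d_p a d x).symm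
  rw [h1, (G.P a).p_of_mem hx]

/-- the degree `d` part of a graded complex. -/
noncomputable def Vd : VCx k := G.toVCx.sub (fun a => (G.P a).piece d) (pieceStable G d)

/-- the inclusion of the degree `d` part. -/
noncomputable def incl : VHom (Vd G d) G.toVCx where
  f a := ((G.P a).piece d).subtype
  comm _ _ := rfl

/-- the projection onto the degree `d` part. -/
noncomputable def cr (a : ℕ) : G.X a →ₗ[k] (Vd G d).X a :=
  ((G.P a).p d).codRestrict ((G.P a).piece d) ((G.P a).p_mem d)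

lemma incl_cr (a : ℕ) : (incl G d).f a ∘ₗ cr G d a = (G.P a).p d := rfl

/-- the torsion part of the degree `d` part. -/
noncomputable def Vd' (I : Ideal R) (a : ℕ) : Submodule k ((Vd G d).X a) :=
  Submodule.comap ((G.P a).piece d).subtype ((GrLC.gam I (G.X a)).restrictScalars k)

lemma mem_Vd' (I : Ideal R) (a : ℕ) (v : (Vd G d).X a) :
    v ∈ Vd' G d I a ↔ (v.1 : G.X a) ∈ GrLC.gam I (G.X a) := Iff.rfl

lemma Vd'_stable (I : Ideal R) : (Vd G d).Stable (Vd' G d I) := by
  intro a v hv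
  exact map_mem_gam (G.d a) hv

end piece

section tot

variable (G : GCx k R 𝒜) (H : GCx k S ℬ) (d : ℤ)

/-- the inclusion of the `(d, d)`-part of the total complex. -/
noncomputable def Φ (i : ℕ) : TotX (Vd G d) (Vd H d) i →ₗ[k] TX G H i :=
  (totHom (incl G d) (incl H d)).f i

lemma Φ_inj_tmul {i : ℕ} (a b : ℕ) (h : a + b = i) (x : (Vd G d).X a) (y : (Vd H d).X b) :
    Φ G H d i (inj (Vd G d) (Vd H d) a b h (x ⊗ₜ[k] y)) =
      inj G.toVCx H.toVCx a b h ((x.1 : G.X a) ⊗ₜ[k] (y.1 : H.X b)) :=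
  totMap_inj_tmul _ _ a b h x y

lemma Φ_comm (i : ℕ) (u : TotX (Vd G d) (Vd H d) i) :
    totD G.toVCx H.toVCx i (Φ G H d i u) = Φ G H d (i + 1) (totD (Vd G d) (Vd H d) i u) :=
  ((totHom (incl G d) (incl H d)).comm i u).symm

lemma Φ_injective (i : ℕ) : Function.Injective (Φ G H d i) :=
  (DirectSum.lmap_injective _).2 (fun p =>
    TensorProduct.map_injective_of_flat_flat _ _ (Submodule.injective_subtype _)
      (Submodule.injective_subtype _))

lemma pL_Φ (i : ℕ) (u : TotX (Vd G d) (Vd H d) i) : pL G H i d (Φ G H d i u) = Φ G H d i u := by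
  induction u using tot_induction with
  | zero => simp only [map_zero]
  | add u u' hu hu' => simp only [map_add, hu, hu']
  | tmul a b h x y => rw [Φ_inj_tmul, pL_inj_tmul, (G.P a).p_of_mem x.2]

lemma pR_Φ (i : ℕ) (u : TotX (Vd G d) (Vd H d) i) : pR G H i d (Φ G H d i u) = Φ G H d i u := by
  induction u using tot_induction with
  | zero => simp only [map_zero]
  | add u u' hu hu' => simp only [map_add, hu, hu']
  | tmul a b h x y => rw [Φ_inj_tmul, pR_inj_tmul, (H.P b).p_of_mem y.2]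

lemma mem_range_Φ_iff (i : ℕ) (z : TX G H i) :
    z ∈ LinearMap.range (Φ G H d i) ↔ pL G H i d z = z ∧ pR G H i d z = z := by
  constructor
  · rintro ⟨u, rfl⟩
    exact ⟨pL_Φ G H d i u, pR_Φ G H d i u⟩
  · rintro ⟨h1, h2⟩
    refine ⟨totMap (cr G d) (cr H d) i z, ?_⟩
    unfold Φ
    change totMap (incl G d).f (incl H d).f i (totMap (cr G d) (cr H d) i z) = z
    rw [totMap_comp]
    have h3 : pR G H i d (pL G H i d z) = z := by rw [h1, h2]
    have h4 : pR G H i d (pL G H i d z) =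
        totMap (fun a => LinearMap.id ∘ₗ (G.P a).p d) (fun b => (H.P b).p d ∘ₗ LinearMap.id) i z :=
      totMap_comp _ _ _ _ i z
    exact h4.symm.trans h3

end tot

section gam

variable {A : Type u} [CommRing A] {ι : Type} [DecidableEq ι] (X : ι → Type u)
  [∀ p, AddCommGroup (X p)] [∀ p, Module A (X p)]

lemma mem_gam_directSum_iff (𝔞 : Ideal A) (z : ⨁ p, X p) :
    z ∈ GrLC.gam 𝔞 (⨁ p, X p) ↔ ∀ p, z p ∈ GrLC.gam 𝔞 (X p) := by
  classical
  constructor
  · intro hz p
    exact map_mem_gam (DirectSum.component A ι X p) hz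
  · intro hz
    rw [← DirectSum.sum_support_of z]
    apply Submodule.sum_mem
    intro p _
    exact map_mem_gam (DirectSum.lof A ι X p) (hz p)

end gam

section torsion

variable [IsNoetherianRing R] [IsNoetherianRing S]
  (G : GCx k R 𝒜) (H : GCx k S ℬ) (d : ℤ) (mR : Ideal R) (mS : Ideal S) (𝔞 : Ideal (R ⊗[k] S))
  (hgam : ∀ (N : Type u) [AddCommGroup N] [Module (R ⊗[k] S) N],
    GrLC.gam 𝔞 N = GrLC.gam (mR.map (algebraMap R (R ⊗[k] S)) ⊓
      mS.map (Algebra.TensorProduct.includeRight : S →ₐ[k] R ⊗[k] S)) N)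

omit [IsNoetherianRing R] [IsNoetherianRing S] in
lemma totMap_apply {V V' W W' : VCx k} (f : ∀ a, V.X a →ₗ[k] V'.X a)
    (g : ∀ b, W.X b →ₗ[k] W'.X b) (n : ℕ) (u : TotX V W n) (p : Idx n) :
    (totMap f g n u) p = TensorProduct.map (f p.1.1) (g p.1.2) (u p) := rfl

omit [IsNoetherianRing R] [IsNoetherianRing S] in
lemma totMap_eq_zero_iff {V V' W W' : VCx k} (f : ∀ a, V.X a →ₗ[k] V'.X a)
    (g : ∀ b, W.X b →ₗ[k] W'.X b) (n : ℕ) (u : TotX V W n) :
    totMap f g n u = 0 ↔ ∀ p : Idx n, TensorProduct.map (f p.1.1) (g p.1.2) (u p) = 0 := by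
  constructor
  · intro h p
    rw [← totMap_apply, h]
    rfl
  · intro h
    exact DFinsupp.ext (fun p => h p)

include hgam in
/-- **the torsion of the `(d, d)`-part.** -/
theorem Φ_mem_gam_iff (i : ℕ) (u : TotX (Vd G d) (Vd H d) i) :
    Φ G H d i u ∈ GrLC.gam 𝔞 (TX G H i) ↔
      (quotTotHom (Vd G d) (Vd H d) (Vd' G d mR) (Vd'_stable G d mR) (Vd' H d mS)
        (Vd'_stable H d mS)).f i u = 0 := by
  have key := totMap_eq_zero_iff ((Vd G d).quotHom (Vd' G d mR) (Vd'_stable G d mR)).f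
    ((Vd H d).quotHom (Vd' H d mS) (Vd'_stable H d mS)).f i u
  refine Iff.trans ?_ key.symm
  rw [mem_gam_directSum_iff (fun p : Idx i => G.X p.1.1 ⊗[k] H.X p.1.2) 𝔞]
  refine forall_congr' (fun p => ?_)
  exact map_subtype_mem_gam_iff k R S (G.X p.1.1) (H.X p.1.2) mR mS 𝔞 hgam
    ((G.P p.1.1).piece d) ((H.P p.1.2).piece d) (Vd' G d mR p.1.1) (Vd' H d mS p.1.2)
    (mem_Vd' G d mR p.1.1) (mem_Vd' H d mS p.1.2) (u p)

end torsion

end Groth.Agent.Lib.Helper20.SegGr
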