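import Mathlib
import Groth.Agent.Lib.Helper20.SegDeg1
import Groth.Agent.Lib.Helper20.SegCmp1

/-!
# Degree `d` graded local cohomology of the Segre product is the cohomology of the kernel complex
(helper20)
-/

set_option autoImplicit false
set_option linter.unusedSectionVars false
set_option linter.unusedVariables false
set_option linter.style.haveILetI false

universe u

open TensorProduct DirectSum Groth.Agent.Lib.Helper20.SegKun Groth.Agent.Lib.Helper20.SegTP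
  Groth.Agent.Lib.Helper20.GrConv GrLC Groth.Agent.Lib.Helper4.LC
  Groth.Agent.Lib.Helper20.SegAcyc

namespace Groth.Agent.Lib.Helper20.SegGr

attribute [local instance] actModule smulCommClass_base isScalarTower_base

variable {k : Type u} [Field k]
  {R S T : Type u} [CommRing R] [CommRing S] [CommRing T] [Algebra k R] [Algebra k S] [Algebra k T]
  {𝒜 : ℤ → Submodule k R} {ℬ : ℤ → Submodule k S} (𝒯 : ℤ → Submodule k T) [GradedAlgebra 𝒯]
  (ψ : T →ₐ[k] R ⊗[k] S) (hψ : ∀ i t, t ∈ 𝒯 i → ψ t ∈ GrSeg.segrePiece k 𝒜 ℬ i)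
  (G : GCx k R 𝒜) (H : GCx k S ℬ)

section tx

variable (d : ℤ)

lemma Φ_mem_diagSub (i : ℕ) (u : TotX (Vd G d) (Vd H d) i) :
    Φ G H d i u ∈ diagSub 𝒯 ψ hψ G H i := by
  refine (mem_diagSub_iff 𝒯 ψ hψ G H i _).2 ?_
  apply PFam.diag_of_mem_of_mem (totL G H i) (totR G H i) (pL_pR G H i) (e := d)
  · rw [PFam.mem_piece_iff]
    exact pL_Φ G H d i u
  · rw [PFam.mem_piece_iff]
    exact pR_Φ G H d i u

/-- the torsion of the diagonal subcomplex over `T` is the torsion over `R ⊗ S`. -/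
lemma mem_gam_CD_iff (mT : Ideal T) (n : ℕ) (z : (CD 𝒯 ψ hψ G H n).carrier) :
    z ∈ GrLC.gam mT (CD 𝒯 ψ hψ G H n).carrier ↔
      (z.1 : TX G H n) ∈ GrLC.gam (mT.map ψ) (TX G H n) := by
  letI : Algebra T (R ⊗[k] S) := ψ.toRingHom.toAlgebra
  letI : Module T (TX G H n) := modT ψ G H n
  haveI : IsScalarTower T (R ⊗[k] S) (TX G H n) :=
    IsScalarTower.of_algebraMap_smul (fun t z => rfl)
  have h1 := mem_torsionSub_subtype_iff mT (diagSub 𝒯 ψ hψ G H n) z
  have h2 := LCIndep2.mem_gam_map_iff (R ⊗[k] S) mT (N := TX G H n) z.1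
  exact h1.trans h2.symm

lemma mem_gam_CA_iff (mT : Ideal T) (n : ℕ) (z : TX G H n) :
    z ∈ GrLC.gam mT (CA 𝒯 ψ hψ G H n).carrier ↔ z ∈ GrLC.gam (mT.map ψ) (TX G H n) := by
  letI : Algebra T (R ⊗[k] S) := ψ.toRingHom.toAlgebra
  letI : Module T (TX G H n) := modT ψ G H n
  haveI : IsScalarTower T (R ⊗[k] S) (TX G H n) :=
    IsScalarTower.of_algebraMap_smul (fun t z => rfl)
  exact (LCIndep2.mem_gam_map_iff (R ⊗[k] S) mT (N := TX G H n) z).symm

/-- the degree `d` component of a torsion element is torsion. -/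
lemma pL_mem_gam (a : HomogeneousIdeal (toAS 𝒯)) (n : ℕ) (z : TX G H n)
    (hz : z ∈ GrLC.gam a.toIdeal (CA 𝒯 ψ hψ G H n).carrier) :
    pL G H n d z ∈ GrLC.gam a.toIdeal (CA 𝒯 ψ hψ G H n).carrier := by
  have h1 := Groth.Agent.S13225.gam_isHomogeneous (toAS 𝒯) (CA 𝒯 ψ hψ G H n).gr a d hz
  have h2 : ((DirectSum.decompose (CA 𝒯 ψ hψ G H n).gr z d : (CA 𝒯 ψ hψ G H n).gr d) :
      (CA 𝒯 ψ hψ G H n).carrier) = pL G H n d z := by
    have h3 := decompose_toAS (totL G H n).piece z d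
    rw [(totL G H n).decompose_eq] at h3
    exact h3
  rw [h2] at h1
  exact h1

end tx

section main

variable [IsNoetherianRing R] [IsNoetherianRing S]
  (mR : Ideal R) (mS : Ideal S) (a : HomogeneousIdeal (toAS 𝒯))
  (hgam : ∀ (N : Type u) [AddCommGroup N] [Module (R ⊗[k] S) N],
    GrLC.gam (a.toIdeal.map ψ) N = GrLC.gam (mR.map (algebraMap R (R ⊗[k] S)) ⊓
      mS.map (Algebra.TensorProduct.includeRight : S →ₐ[k] R ⊗[k] S)) N)
  (d : ℤ)

/-- the kernel complex of degree `d`. -/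
noncomputable abbrev Kd : VCx k :=
  KCx (Vd G d) (Vd H d) (Vd' G d mR) (Vd'_stable G d mR) (Vd' H d mS) (Vd'_stable H d mS)

omit [IsNoetherianRing R] [IsNoetherianRing S] in
lemma Kd_cocycle (i : ℕ) (u : (Kd G H mR mS d).Z i) :
    totD (Vd G d) (Vd H d) i u.1.1 = 0 := by
  have := u.2
  rw [VCx.mem_Z] at this
  exact congrArg Subtype.val this

include hgam in
lemma exists_Kd_cocycle (i : ℕ) (z : TX G H i) (hL : pL G H i d z = z) (hΔ : Δ G H i z = z)
    (hz : z ∈ GrLC.gam (a.toIdeal.map ψ) (TX G H i)) (hd : totD G.toVCx H.toVCx i z = 0) :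
    ∃ u : (Kd G H mR mS d).Z i, Φ G H d i u.1.1 = z := by
  have hLm : z ∈ (totL G H i).piece d := by
    rw [PFam.mem_piece_iff]
    exact hL
  have hR : pR G H i d z = z := by
    have := (PFam.diag_eq_self_iff (totL G H i) (totR G H i) (pL_pR G H i) hLm).1 hΔ
    exact (totR G H i).p_of_mem this
  obtain ⟨u₀, rfl⟩ := (mem_range_Φ_iff G H d i z).2 ⟨hL, hR⟩
  have hker := (Φ_mem_gam_iff G H d mR mS (a.toIdeal.map ψ) hgam i u₀).1 hz
  have hd0 : totD (Vd G d) (Vd H d) i u₀ = 0 := by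
    apply Φ_injective G H d (i + 1)
    rw [← Φ_comm, hd, map_zero]
  refine ⟨⟨⟨u₀, hker⟩, ?_⟩, rfl⟩
  rw [VCx.mem_Z]
  exact Subtype.ext hd0

include hgam in
lemma Kd_bdry_iff (j : ℕ) (u : (Kd G H mR mS d).Z (j + 1)) :
    (u.1 ∈ (Kd G H mR mS d).B (j + 1)) ↔
      ∃ y : TX G H j, Δ G H j y = y ∧ y ∈ GrLC.gam a.toIdeal (CA 𝒯 ψ hψ G H j).carrier ∧
        totD G.toVCx H.toVCx j y = Φ G H d (j + 1) u.1.1 := by
  constructor
  · rintro ⟨v, hv⟩
    refine ⟨Φ G H d j v.1, (mem_diagSub_iff 𝒯 ψ hψ G H j _).1 (Φ_mem_diagSub 𝒯 ψ hψ G H d j v.1),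
      ?_, ?_⟩
    · rw [mem_gam_CA_iff 𝒯 ψ hψ G H]
      exact (Φ_mem_gam_iff G H d mR mS (a.toIdeal.map ψ) hgam j v.1).2 v.2
    · rw [Φ_comm]
      have : totD (Vd G d) (Vd H d) j v.1 = u.1.1 := congrArg Subtype.val hv
      rw [this]
  · rintro ⟨y, hΔ, hy, hdy⟩
    -- replace `y` by its degree `d` component
    have hy' := pL_mem_gam 𝒯 ψ hψ G H d a j y hy
    have hΔ' : Δ G H j (pL G H j d y) = pL G H j d y := by
      have h1 := PFam.p_diag (totL G H j) (totR G H j) (pL_pR G H j) d y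
      have h2 := PFam.diag_p (totL G H j) (totR G H j) d y
      change Δ G H j (pL G H j d y) = _ at h2
      change pL G H j d (Δ G H j y) = _ at h1
      rw [h2, ← h1, hΔ]
    have hd' : totD G.toVCx H.toVCx j (pL G H j d y) = Φ G H d (j + 1) u.1.1 := by
      rw [totD_pL, hdy, pL_Φ]
    have hLL : pL G H j d (pL G H j d y) = pL G H j d y := (totL G H j).idem d y
    have hΔL : pL G H j d y ∈ (totL G H j).piece d := (totL G H j).p_mem d y
    have hR : pR G H j d (pL G H j d y) = pL G H j d y := by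
      have := (PFam.diag_eq_self_iff (totL G H j) (totR G H j) (pL_pR G H j) hΔL).1 hΔ'
      exact (totR G H j).p_of_mem this
    obtain ⟨v₀, hv₀⟩ := (mem_range_Φ_iff G H d j _).2 ⟨hLL, hR⟩
    have hker : v₀ ∈ (quotTotHom (Vd G d) (Vd H d) (Vd' G d mR) (Vd'_stable G d mR) (Vd' H d mS)
        (Vd'_stable H d mS)).kerFam j := by
      apply (Φ_mem_gam_iff G H d mR mS (a.toIdeal.map ψ) hgam j v₀).1
      rw [hv₀, ← mem_gam_CA_iff 𝒯 ψ hψ G H]
      exact hy'
    refine ⟨⟨v₀, hker⟩, Subtype.ext ?_⟩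
    apply Φ_injective G H d (j + 1)
    change Φ G H d (j + 1) (totD (Vd G d) (Vd H d) j v₀) = _
    rw [← Φ_comm, hv₀, hd']

end main

end Groth.Agent.Lib.Helper20.SegGr
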