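import Mathlib
import Groth.Agent.Lib.Helper20.SegDeg2

/-!
# Degree `d` graded local cohomology of the Segre product: the identification (helper20)
-/

set_option autoImplicit false
set_option linter.unusedSectionVars false
set_option linter.unusedVariables false
set_option linter.style.haveILetI false

universe u

open TensorProduct DirectSum Groth.Agent.Lib.Helper20.SegKun Groth.Agent.Lib.Helper20.SegTP
  Groth.Agent.Lib.Helper20.GrConv GrLC Groth.Agent.Lib.Helper4.LC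
  Groth.Agent.Lib.Helper20.SegAcyc

namespace Groth.Agent.Lib.Helper20.SegGr

attribute [local instance] actModule smulCommClass_base isScalarTower_base

variable {k : Type u} [Field k]
  {R S T : Type u} [CommRing R] [CommRing S] [CommRing T] [Algebra k R] [Algebra k S] [Algebra k T]
  {𝒜 : ℤ → Submodule k R} {ℬ : ℤ → Submodule k S} (𝒯 : ℤ → Submodule k T) [GradedAlgebra 𝒯]
  (ψ : T →ₐ[k] R ⊗[k] S) (hψ : ∀ i t, t ∈ 𝒯 i → ψ t ∈ GrSeg.segrePiece k 𝒜 ℬ i)
  {G : GCx k R 𝒜} {H : GCx k S ℬ}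
  {M : Type u} [AddCommGroup M] [Module R M] [Module k M] [IsScalarTower k R M]
  {N : Type u} [AddCommGroup N] [Module S N] [Module k N] [IsScalarTower k S N]
  (εM : GAug G M) (εN : GAug H N)
  {P : Type u} [AddCommGroup P] [Module T P] [Module k P]
  (𝒬 : ℤ → AddSubgroup P) (φ : P →ₗ[k] M ⊗[k] N)
  (hP : PData ψ εM εN 𝒬 φ)
  [DirectSum.Decomposition 𝒬] [SetLike.GradedSMul (toAS 𝒯) 𝒬]
  (hex : ∀ n, (Tot G.toVCx H.toVCx).ExactAt (n + 1))
  [IsNoetherianRing R] [IsNoetherianRing S] [IsNoetherianRing T] [IsNoetherianRing (R ⊗[k] S)]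
  (mR : Ideal R) (mS : Ideal S) (a : HomogeneousIdeal (toAS 𝒯))
  (hgam : ∀ (N : Type u) [AddCommGroup N] [Module (R ⊗[k] S) N],
    GrLC.gam (a.toIdeal.map ψ) N = GrLC.gam (mR.map (algebraMap R (R ⊗[k] S)) ⊓
      mS.map (Algebra.TensorProduct.includeRight : S →ₐ[k] R ⊗[k] S)) N)
  (hG : ∀ a q, Subsingleton (HH mR (ModuleCat.of R (G.X a)) (q + 1)))
  (hH : ∀ b q, Subsingleton (HH mS (ModuleCat.of S (H.X b)) (q + 1)))
  (E : StarInjRes (toAS 𝒯) 𝒬) (d : ℤ)

omit [IsNoetherianRing R] [IsNoetherianRing S] [IsNoetherianRing T]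
  [IsNoetherianRing (R ⊗[k] S)] in
lemma Φ_smul (i : ℕ) (c : k) (u : TotX (Vd G d) (Vd H d) i) :
    Φ G H d i (c • u) = ψ (algebraMap k T c) • Φ G H d i u := by
  rw [map_smul, AlgHom.commutes, algebraMap_smul]

include hψ hP hex hgam hG hH in
/-- **the degree `d` piece of the graded local cohomology of the Segre product is the cohomology
of the kernel complex.** -/
theorem exists_addEquiv_Hcomp (i : ℕ) :
    ∃ j : (Kd G H mR mS d).H i ≃+ ↥(E.Hcomp a i d),
      ∀ (c : k) (x : (Kd G H mR mS d).H i),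
        ((j (c • x) : ↥(E.Hcomp a i d)) : E.H a i) =
          algebraMap k T c • ((j x : ↥(E.Hcomp a i d)) : E.H a i) := by
  classical
  have hac : ∀ n q, Subsingleton
      (HH a.toIdeal (ModuleCat.of T (CD 𝒯 ψ hψ G H n).carrier) (q + 1)) :=
    fun n q => subsingleton_HH_CD 𝒯 ψ hψ G H mR mS a.toIdeal hgam hG hH n q
  let X := exRes 𝒯 ψ hψ εM εN 𝒬 φ hP hex
  obtain ⟨Θ, hΘ1, hΘ2⟩ := SegCmp.exists_cmp X E a hac i
  let XR := SegCmp.exToRes X a hac
  letI : Module k (E.H a i) := Module.compHom _ (algebraMap k T)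
  -- the map on cocycles
  have hΞmem : ∀ u : (Kd G H mR mS d).Z i,
      (show ↥(diagSub 𝒯 ψ hψ G H i) from
        ⟨Φ G H d i u.1.1, Φ_mem_diagSub 𝒯 ψ hψ G H d i u.1.1⟩) ∈ XR.cocyc i := by
    intro u
    refine ⟨(mem_gam_CD_iff 𝒯 ψ hψ G H a.toIdeal i _).2
      ((Φ_mem_gam_iff G H d mR mS _ hgam i u.1.1).2 u.1.2), ?_⟩
    change dD 𝒯 ψ hψ G H i _ = 0
    apply Subtype.ext
    change totD G.toVCx H.toVCx i (Φ G H d i u.1.1) = 0
    rw [Φ_comm, Kd_cocycle, map_zero]
  let Ξ : (Kd G H mR mS d).Z i → XR.cocyc i := fun u => ⟨_, hΞmem u⟩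
  have hΞcoe : ∀ u, ((Ξ u).1.1 : TX G H i) = Φ G H d i u.1.1 := fun u => rfl
  let ν₀ : (Kd G H mR mS d).Z i →ₗ[k] E.H a i :=
    { toFun := fun u => Θ (XR.toH i (Ξ u))
      map_add' := fun u v => by
        have : Ξ (u + v) = Ξ u + Ξ v := by
          apply Subtype.ext
          apply Subtype.ext
          exact map_add (Φ G H d i) u.1.1 v.1.1
        rw [this, map_add, map_add]
      map_smul' := fun c u => by
        have : Ξ (c • u) = algebraMap k T c • Ξ u := by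
          apply Subtype.ext
          apply Subtype.ext
          exact Φ_smul ψ d i c u.1.1
        rw [this, map_smul, map_smul]
        rfl }
  have hν₀ : ∀ u, ν₀ u = Θ (XR.toH i (Ξ u)) := fun u => rfl
  -- kernel
  have hker : ∀ u : (Kd G H mR mS d).Z i, ν₀ u = 0 ↔ u.1 ∈ (Kd G H mR mS d).B i := by
    intro u
    rw [hν₀, LinearEquiv.map_eq_zero_iff, Submodule.mkQ_apply, Submodule.Quotient.mk_eq_zero,
      Submodule.mem_comap]
    cases i with
    | zero =>
      change (Ξ u).1 ∈ (⊥ : Submodule T _) ↔ u.1 ∈ (⊥ : Submodule k _)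
      rw [Submodule.mem_bot, Submodule.mem_bot]
      constructor
      · intro h
        have h1 : Φ G H d 0 u.1.1 = 0 := congrArg Subtype.val h
        have h2 : u.1.1 = 0 := Φ_injective G H d 0 (h1.trans (map_zero _).symm)
        exact Subtype.ext h2
      · intro h
        apply Subtype.ext
        change Φ G H d 0 u.1.1 = 0
        rw [h]
        exact map_zero _
    | succ j =>
      rw [Kd_bdry_iff 𝒯 ψ hψ G H mR mS a hgam d j u]
      constructor
      · rintro ⟨y, hy, hyu⟩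
        refine ⟨y.1, (mem_diagSub_iff 𝒯 ψ hψ G H j _).1 y.2, ?_, congrArg Subtype.val hyu⟩
        exact (mem_torsionSub_subtype_iff a.toIdeal (diagSub 𝒯 ψ hψ G H j) y).1 hy
      · rintro ⟨y, hΔ, hy, hdy⟩
        refine ⟨⟨y, (mem_diagSub_iff 𝒯 ψ hψ G H j _).2 hΔ⟩, ?_, Subtype.ext hdy⟩
        exact (mem_torsionSub_subtype_iff a.toIdeal (diagSub 𝒯 ψ hψ G H j) _).2 hy
  -- range
  have hrange1 : ∀ u, ν₀ u ∈ E.Hcomp a i d := by
    intro u
    apply hΘ1 d (Ξ u)
    change Φ G H d i u.1.1 ∈ (totL G H i).piece d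
    rw [PFam.mem_piece_iff]
    exact pL_Φ G H d i u.1.1
  have hrange2 : ∀ y ∈ E.Hcomp a i d, ∃ u, ν₀ u = y := by
    intro y hy
    obtain ⟨z, hz, rfl⟩ := hΘ2 d y hy
    have hzL : (z.1.1 : TX G H i) ∈ (totL G H i).piece d := hz
    obtain ⟨u, hu⟩ := exists_Kd_cocycle 𝒯 ψ G H mR mS a hgam d i z.1.1
      ((totL G H i).p_of_mem hzL) ((mem_diagSub_iff 𝒯 ψ hψ G H i _).1 z.1.2)
      ((mem_gam_CD_iff 𝒯 ψ hψ G H a.toIdeal i z.1).1 z.2.1)
      (congrArg Subtype.val (show dD 𝒯 ψ hψ G H i z.1 = 0 from z.2.2))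
    refine ⟨u, ?_⟩
    rw [hν₀]
    congr 2
    apply Subtype.ext
    apply Subtype.ext
    exact hu
  -- the quotient map
  let νb : (Kd G H mR mS d).H i →ₗ[k] E.H a i :=
    Submodule.liftQ _ ν₀ (fun u hu => by
      rw [LinearMap.mem_ker]
      exact (hker u).2 hu)
  have hνb : ∀ u, νb ((Kd G H mR mS d).cls i u) = ν₀ u := fun u => rfl
  let f : (Kd G H mR mS d).H i →+ ↥(E.Hcomp a i d) :=
    νb.toAddMonoidHom.codRestrict (E.Hcomp a i d) (fun x => by
      obtain ⟨u, rfl⟩ := (Kd G H mR mS d).cls_surjective i x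
      exact hrange1 u)
  have hf : ∀ x, ((f x : ↥(E.Hcomp a i d)) : E.H a i) = νb x := fun x => rfl
  have hbij : Function.Bijective f := by
    constructor
    · rw [injective_iff_map_eq_zero]
      intro x hx
      obtain ⟨u, rfl⟩ := (Kd G H mR mS d).cls_surjective i x
      have h1 : ν₀ u = 0 := by
        rw [← hνb, ← hf, hx]
        rfl
      rw [VCx.cls_eq_zero_iff]
      exact (hker u).1 h1
    · rintro ⟨y, hy⟩
      obtain ⟨u, hu⟩ := hrange2 y hy
      exact ⟨(Kd G H mR mS d).cls i u, Subtype.ext hu⟩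
  refine ⟨AddEquiv.ofBijective f hbij, fun c x => ?_⟩
  change νb (c • x) = algebraMap k T c • νb x
  rw [map_smul]
  rfl

end Groth.Agent.Lib.Helper20.SegGr
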