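import Mathlib
import Groth.Agent.Lib.Helper20.SegDeg3
import Groth.Agent.Lib.Helper20.GrLCCompare

/-!
# From *injective resolutions to graded complexes with projection families (helper20)
-/

set_option autoImplicit false
set_option linter.unusedSectionVars false
set_option linter.unusedVariables false
set_option linter.style.haveILetI false

universe u

open TensorProduct DirectSum Groth.Agent.Lib.Helper20.SegKun Groth.Agent.Lib.Helper20.SegTP
  Groth.Agent.Lib.Helper20.GrConv GrLC Groth.Agent.Lib.Helper4.LC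
  Groth.Agent.Lib.Helper20.SegAcyc Groth.Agent.Lib.Helper20.GrLCBasic

namespace Groth.Agent.Lib.Helper20.SegGr

variable {k : Type u} [Field k]

section ofDec

variable {L : Type u} [AddCommGroup L] [Module k L] (𝓛 : ℤ → AddSubgroup L)
  [DirectSum.Decomposition 𝓛] (hk : ∀ (e : ℤ) (c : k) (x : L), x ∈ 𝓛 e → c • x ∈ 𝓛 e)

include hk in
lemma decompose_smul_k (c : k) (x : L) (e : ℤ) :
    ((DirectSum.decompose 𝓛 (c • x) e : 𝓛 e) : L) = c • ((DirectSum.decompose 𝓛 x e : 𝓛 e) : L) := by
  induction x using DirectSum.Decomposition.inductionOn 𝓛 with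
  | zero => simp
  | @homogeneous i m =>
    by_cases h : i = e
    · subst h
      rw [DirectSum.decompose_of_mem_same 𝓛 (hk _ c _ m.2), DirectSum.decompose_of_mem_same 𝓛 m.2]
    · rw [DirectSum.decompose_of_mem_ne 𝓛 (hk _ c _ m.2) h, DirectSum.decompose_of_mem_ne 𝓛 m.2 h,
        smul_zero]
  | add m m' h h' =>
    rw [smul_add, DirectSum.decompose_add, DirectSum.decompose_add, DirectSum.add_apply,
      DirectSum.add_apply, AddSubgroup.coe_add, AddSubgroup.coe_add, smul_add, h, h']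

/-- the projection family of a decomposition by `k`-stable subgroups. -/
noncomputable def PFam.ofDec : PFam k L where
  p e :=
    { toFun := fun x => ((DirectSum.decompose 𝓛 x e : 𝓛 e) : L)
      map_add' := fun x y => by
        rw [DirectSum.decompose_add, DirectSum.add_apply, AddSubgroup.coe_add]
      map_smul' := fun c x => decompose_smul_k 𝓛 hk c x e }
  idem e x := DirectSum.decompose_of_mem_same 𝓛 (SetLike.coe_mem _)
  orth e e' x he := DirectSum.decompose_of_mem_ne 𝓛 (SetLike.coe_mem _) (Ne.symm he)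
  span x := by
    classical
    rw [← DirectSum.sum_support_decompose 𝓛 x]
    apply Submodule.sum_mem
    intro e _
    refine Submodule.mem_iSup_of_mem e ⟨((DirectSum.decompose 𝓛 x e : 𝓛 e) : L), ?_⟩
    exact DirectSum.decompose_of_mem_same 𝓛 (SetLike.coe_mem _)

lemma PFam.ofDec_p (e : ℤ) (x : L) :
    (PFam.ofDec 𝓛 hk).p e x = ((DirectSum.decompose 𝓛 x e : 𝓛 e) : L) := rfl

lemma PFam.mem_piece_ofDec (e : ℤ) (x : L) : x ∈ (PFam.ofDec 𝓛 hk).piece e ↔ x ∈ 𝓛 e := by
  rw [PFam.mem_piece_iff, PFam.ofDec_p]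
  constructor
  · intro h
    rw [← h]
    exact SetLike.coe_mem _
  · intro h
    exact DirectSum.decompose_of_mem_same 𝓛 h

end ofDec

section gcx

variable {R : Type u} [CommRing R] [Algebra k R] (𝒜 : ℤ → Submodule k R) [GradedAlgebra 𝒜]
  {M : Type u} [AddCommGroup M] [Module R M] [Module k M] [IsScalarTower k R M]
  (ℳ : ℤ → AddSubgroup M) [DirectSum.Decomposition ℳ] [SetLike.GradedSMul 𝒜 ℳ]

include 𝒜 in
/-- the pieces of a graded module over a graded `k`-algebra are `k`-stable. -/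
lemma smul_mem_piece {L : Type u} [AddCommGroup L] [Module R L] [Module k L] [IsScalarTower k R L]
    (𝓛 : ℤ → AddSubgroup L) [SetLike.GradedSMul 𝒜 𝓛] (e : ℤ) (c : k) (x : L) (hx : x ∈ 𝓛 e) :
    c • x ∈ 𝓛 e := by
  have h1 : algebraMap k R c ∈ 𝒜 0 := by
    rw [Algebra.algebraMap_eq_smul_one]
    exact Submodule.smul_mem _ c (SetLike.GradedOne.one_mem (A := 𝒜))
  have h2 := SetLike.GradedSMul.smul_mem (A := 𝒜) (B := 𝓛) h1 hx
  rw [vadd_eq_add, zero_add, algebraMap_smul] at h2
  exact h2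

variable (E : StarInjRes 𝒜 ℳ)

/-- the graded complex with projection families underlying a *injective resolution. -/
noncomputable def gcxOf : GCx k R 𝒜 :=
  letI mk : ∀ a, Module k (E.X a).carrier := fun a => Module.compHom _ (algebraMap k R)
  haveI tw : ∀ a, IsScalarTower k R (E.X a).carrier := fun a =>
    IsScalarTower.of_algebraMap_smul (fun c x => rfl)
  haveI : ∀ a, SetLike.GradedSMul (toAS 𝒜) (E.X a).gr := fun a => gradedSMul_toAS 𝒜 (E.X a).gr
  { X := fun a => (E.X a).carrier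
    modk := mk
    tower := tw
    d := E.d
    d_comp_d := fun a x => by
      have : E.d a x ∈ LinearMap.ker (E.d (a + 1)) := by
        rw [E.exact_succ a]
        exact LinearMap.mem_range_self _ _
      exact this
    P := fun a => PFam.ofDec (E.X a).gr (smul_mem_piece 𝒜 (E.X a).gr)
    d_p := fun a e x =>
      (decompose_map (E.X a).gr (E.X (a + 1)).gr (E.d a) (E.d_grHom a) x e).symm
    smul_p := fun a i e r hr x =>
      decompose_smul_left (toAS 𝒜) (E.X a).gr (show r ∈ toAS 𝒜 i from hr) x e }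

lemma gcxOf_X (a : ℕ) : (gcxOf 𝒜 ℳ E).X a = (E.X a).carrier := rfl

lemma gcxOf_p (a : ℕ) (e : ℤ) (x : (E.X a).carrier) :
    ((gcxOf 𝒜 ℳ E).P a).p e x = ((DirectSum.decompose (E.X a).gr x e : (E.X a).gr e) :
      (E.X a).carrier) := rfl

lemma mem_piece_gcxOf (a : ℕ) (e : ℤ) (x : (gcxOf 𝒜 ℳ E).X a) :
    x ∈ ((gcxOf 𝒜 ℳ E).P a).piece e ↔ (show (E.X a).carrier from x) ∈ (E.X a).gr e := by
  refine (PFam.mem_piece_iff _).trans ?_
  constructor
  · intro h
    have h' : ((DirectSum.decompose (E.X a).gr (show (E.X a).carrier from x) e : (E.X a).gr e) :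
      (E.X a).carrier) = x := h
    have h2 : ((DirectSum.decompose (E.X a).gr (show (E.X a).carrier from x) e : (E.X a).gr e) :
      (E.X a).carrier) ∈ (E.X a).gr e := SetLike.coe_mem _
    rw [h'] at h2
    exact h2
  · intro h
    exact DirectSum.decompose_of_mem_same (E.X a).gr h

/-- the augmentation. -/
noncomputable def gaugOf : GAug (gcxOf 𝒜 ℳ E) M where
  PM := PFam.ofDec ℳ (smul_mem_piece 𝒜 ℳ)
  ε := E.ε
  ε_p := fun e x => (decompose_map ℳ (E.X 0).gr E.ε E.ε_grHom x e).symm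
  ε_inj := E.ε_injective
  exact_zero := E.exact_zero

lemma gcxOf_exact (n : ℕ) : (gcxOf 𝒜 ℳ E).toVCx.ExactAt (n + 1) := by
  intro x hx
  have : x ∈ LinearMap.ker (E.d (n + 1)) := hx
  rw [E.exact_succ n] at this
  obtain ⟨y, hy⟩ := this
  exact ⟨y, hy⟩

lemma gcxOf_acyclic [IsNoetherianRing R] (m : HomogeneousIdeal 𝒜) (a q : ℕ) :
    Subsingleton (HH m.toIdeal (ModuleCat.of R ((gcxOf 𝒜 ℳ E).X a)) (q + 1)) :=
  GrLCCompare.subsingleton_HH_of_isStarInj (toAS 𝒜) ((resTo 𝒜 ℳ E).X a).gr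
    ((resTo 𝒜 ℳ E).starInj a) (idealTo 𝒜 m) q

end gcx

end Groth.Agent.Lib.Helper20.SegGr
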