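import Mathlib
import Groth.Prelude.Def_GrLC
import Groth.Prelude.Def_GrSeg
import Groth.Agent.Lib.Helper20.SegFin1

/-!
# The concrete graded dual of a graded module over a graded algebra over a field (helper20)

For a graded `R`-module `M` (pieces `ℳ`, stable under the field `k`), the graded dual
`M^* = ⊕_n Hom_k(M_{-n}, k)` realised as the `k`-linear functionals on `M` vanishing on all but
finitely many pieces, with `R` acting by `(r f)(x) = f (r x)`.
-/

set_option autoImplicit false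
set_option linter.style.haveILetI false
set_option linter.unusedSectionVars false
set_option linter.unusedVariables false
set_option maxHeartbeats 400000

universe u

open DirectSum GrLC

namespace Groth.Agent.Lib.Helper20.GrLD

open Groth.Agent.Lib.Helper20.SegGr

section gdual

variable {k : Type u} [Field k] {R : Type u} [CommRing R] [Algebra k R]
  (𝒜 : ℤ → AddSubgroup R) [GradedRing 𝒜]
  {M : Type u} [AddCommGroup M] [Module R M] [Module k M] [IsScalarTower k R M]
  (ℳ : ℤ → AddSubgroup M) [DirectSum.Decomposition ℳ] [SetLike.GradedSMul 𝒜 ℳ]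

/-- a functional vanishing on all but finitely many pieces. -/
def FinSupp (f : M →ₗ[k] k) : Prop := ∃ s : Finset ℤ, ∀ i, i ∉ s → ∀ x ∈ ℳ i, f x = 0

/-- the functionals of finite degree support, as a `k`-subspace of the full dual. -/
def gdSub : Submodule k (M →ₗ[k] k) where
  carrier := {f | FinSupp ℳ f}
  add_mem' := by
    classical
    rintro f g ⟨s, hs⟩ ⟨t, ht⟩
    refine ⟨s ∪ t, fun i hi x hx => ?_⟩
    rw [Finset.mem_union, not_or] at hi
    rw [LinearMap.add_apply, hs i hi.1 x hx, ht i hi.2 x hx, add_zero]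
  zero_mem' := ⟨∅, fun i _ x _ => rfl⟩
  smul_mem' := by
    rintro c f ⟨s, hs⟩
    refine ⟨s, fun i hi x hx => ?_⟩
    rw [LinearMap.smul_apply, hs i hi x hx, smul_zero]

/-- the graded dual, as a type (the grading of the ring is recorded for the module structure). -/
def GD (𝒜 : ℤ → AddSubgroup R) (ℳ : ℤ → AddSubgroup M) : Type u := ↥(gdSub (k := k) ℳ)

noncomputable instance : AddCommGroup (GD (k := k) 𝒜 ℳ) :=
  inferInstanceAs (AddCommGroup ↥(gdSub (k := k) ℳ))

noncomputable instance : Module k (GD (k := k) 𝒜 ℳ) :=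
  inferInstanceAs (Module k ↥(gdSub (k := k) ℳ))

variable {𝒜 ℳ} in
/-- the underlying functional. -/
def GD.fn (f : GD (k := k) 𝒜 ℳ) : M →ₗ[k] k := f.1

variable {𝒜 ℳ} in
@[ext] theorem GD.ext {f g : GD (k := k) 𝒜 ℳ} (h : ∀ x, f.fn x = g.fn x) : f = g :=
  Subtype.ext (LinearMap.ext h)

variable {𝒜 ℳ} in
theorem GD.fn_add (f g : GD (k := k) 𝒜 ℳ) (x : M) : (f + g).fn x = f.fn x + g.fn x := rfl

theorem GD.fn_zero (x : M) : (0 : GD (k := k) 𝒜 ℳ).fn x = 0 := rfl

variable {𝒜 ℳ} in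
theorem GD.fn_ksmul (c : k) (f : GD (k := k) 𝒜 ℳ) (x : M) : (c • f).fn x = c • f.fn x := rfl

/-- multiplication by a ring element, as a `k`-linear map. -/
noncomputable def mulK (r : R) : M →ₗ[k] M := (LinearMap.lsmul R M r).restrictScalars k

theorem mulK_apply (r : R) (x : M) : mulK (k := k) r x = r • x := rfl

include 𝒜 in
theorem finSupp_comp_mulK (r : R) (f : M →ₗ[k] k) (hf : FinSupp ℳ f) :
    FinSupp ℳ (f ∘ₗ mulK (k := k) r) := by
  classical
  obtain ⟨s, hs⟩ := hf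
  refine ⟨Finset.image₂ (fun a d => a - d) s (decompose 𝒜 r).support, fun i hi x hx => ?_⟩
  rw [LinearMap.comp_apply, mulK_apply]
  conv_lhs => rw [← DirectSum.sum_support_decompose 𝒜 r]
  rw [Finset.sum_smul, map_sum]
  apply Finset.sum_eq_zero
  intro d hd
  have hmem : ((decompose 𝒜 r d : 𝒜 d) : R) • x ∈ ℳ (d + i) :=
    SetLike.GradedSMul.smul_mem (A := 𝒜) (B := ℳ) (SetLike.coe_mem _) hx
  apply hs (d + i) ?_ _ hmem
  intro hmem'
  apply hi
  rw [Finset.mem_image₂]
  exact ⟨d + i, hmem', d, hd, by ring⟩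

noncomputable instance : SMul R (GD (k := k) 𝒜 ℳ) where
  smul r f := ⟨f.1 ∘ₗ mulK (k := k) r, finSupp_comp_mulK 𝒜 ℳ r f.1 f.2⟩

variable {𝒜 ℳ} in
theorem GD.fn_smul (r : R) (f : GD (k := k) 𝒜 ℳ) (x : M) : (r • f).fn x = f.fn (r • x) := rfl

noncomputable instance : Module R (GD (k := k) 𝒜 ℳ) where
  one_smul f := by
    ext x
    rw [GD.fn_smul, one_smul]
  mul_smul r s f := by
    ext x
    rw [GD.fn_smul, GD.fn_smul, GD.fn_smul, ← mul_smul, mul_comm]
  smul_zero r := by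
    ext x
    rw [GD.fn_smul, GD.fn_zero 𝒜 ℳ, GD.fn_zero 𝒜 ℳ]
  smul_add r f g := by
    ext x
    rw [GD.fn_smul, GD.fn_add, GD.fn_add, GD.fn_smul, GD.fn_smul]
  add_smul r s f := by
    ext x
    rw [GD.fn_smul, GD.fn_add, GD.fn_smul, GD.fn_smul, add_smul, map_add]
  zero_smul f := by
    ext x
    rw [GD.fn_smul, zero_smul, map_zero, GD.fn_zero 𝒜 ℳ]

instance : IsScalarTower k R (GD (k := k) 𝒜 ℳ) where
  smul_assoc c r f := by
    ext x
    rw [GD.fn_smul, GD.fn_ksmul, GD.fn_smul, smul_assoc, map_smul]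

/-- the pieces of the graded dual. -/
def gdGr (a : ℤ) : AddSubgroup (GD (k := k) 𝒜 ℳ) where
  carrier := {f | ∀ i, i ≠ -a → ∀ x ∈ ℳ i, f.fn x = 0}
  add_mem' := by
    intro f g hf hg i hi x hx
    rw [GD.fn_add, hf i hi x hx, hg i hi x hx, add_zero]
  zero_mem' := fun i _ x _ => rfl
  neg_mem' := by
    intro f hf i hi x hx
    change (-f.1) x = 0
    rw [LinearMap.neg_apply, neg_eq_zero]
    exact hf i hi x hx

variable {𝒜 ℳ} in
theorem mem_gdGr {a : ℤ} {f : GD (k := k) 𝒜 ℳ} :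
    f ∈ gdGr 𝒜 ℳ a ↔ ∀ i, i ≠ -a → ∀ x ∈ ℳ i, f.fn x = 0 := Iff.rfl

instance gdGradedSMul : SetLike.GradedSMul 𝒜 (gdGr (k := k) 𝒜 ℳ) where
  smul_mem := by
    intro d a r f hr hf i hi x hx
    rw [GD.fn_smul]
    have hmem : r • x ∈ ℳ (d + i) := SetLike.GradedSMul.smul_mem (A := 𝒜) (B := ℳ) hr hx
    apply hf (d + i) ?_ _ hmem
    intro h
    apply hi
    rw [vadd_eq_add]
    omega

/-- the pairing of the graded dual with the module. -/
noncomputable def gdPair : GD (k := k) 𝒜 ℳ →ₗ[k] M →ₗ[k] k := (gdSub (k := k) ℳ).subtype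

variable {𝒜 ℳ} in
theorem gdPair_apply (f : GD (k := k) 𝒜 ℳ) (x : M) : gdPair 𝒜 ℳ f x = f.fn x := rfl

end gdual

end Groth.Agent.Lib.Helper20.GrLD
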