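import Groth.Agent.Lib.Helper20.GrRes
import Groth.Agent.Lib.Helper20.GrLES

/-!
# Graded acyclic resolutions and their comparison with `*`injective resolutions (helper20)

A graded exact resolution `J` of `M` (no injectivity assumed) admits a homogeneous chain map into
any `*`injective resolution `F` of `M`; if the terms of `J` are `Γ_a`-acyclic, the induced map
`H^i(Γ_a J) → H^i(Γ_a F)` is a homogeneous bijection.
-/

set_option autoImplicit false
set_option linter.style.haveILetI false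
set_option linter.unusedSectionVars false
set_option linter.unusedVariables false

universe u

open CategoryTheory GrLC Groth.Agent.Lib.Helper4.LC Groth.Agent.Lib.Helper20.GrLCBasic
  Groth.Agent.Lib.Helper20.GrLCQuot Groth.Agent.Lib.Helper20.ResCmp
  Groth.Agent.Lib.Helper20.GrRes Groth.Agent.Lib.Helper20.GrLES

namespace Groth.Agent.Lib.Helper20.GrLD

variable {ι : Type} [AddCommGroup ι] [DecidableEq ι] {R : Type u} [CommRing R]
  (𝒜 : ι → AddSubgroup R) [GradedRing 𝒜]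
  {M : Type u} [AddCommGroup M] [Module R M] (ℳ : ι → AddSubgroup M)
  [DirectSum.Decomposition ℳ] [SetLike.GradedSMul 𝒜 ℳ]

/-- a graded resolution: an exact complex of graded modules, no injectivity required. -/
structure GrPre where
  X : ℕ → GMod.{u} 𝒜
  d : ∀ n : ℕ, (X n).carrier →ₗ[R] (X (n + 1)).carrier
  ε : M →ₗ[R] (X 0).carrier
  d_grHom : ∀ n : ℕ, IsGrHom (X n).gr (X (n + 1)).gr (d n)
  ε_grHom : IsGrHom ℳ (X 0).gr ε
  ε_injective : Function.Injective ε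
  exact_zero : LinearMap.ker (d 0) = LinearMap.range ε
  exact_succ : ∀ n : ℕ, LinearMap.ker (d (n + 1)) = LinearMap.range (d n)

variable {𝒜 ℳ}

/-- a homogeneous chain lift of degree `k`. -/
structure PLift (E : GrPre 𝒜 ℳ) (C : Cx 𝒜) (g : M →ₗ[R] (C.X 0).carrier) (k : ι) where
  φ : ∀ j, (E.X j).carrier →ₗ[R] (C.X j).carrier
  deg : ∀ j, IsGrHomDeg (E.X j).gr (C.X j).gr (φ j) k
  comm_ε : ∀ m, φ 0 (E.ε m) = g m
  comm_d : ∀ j x, φ (j + 1) (E.d j x) = C.d j (φ j x)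

section exists_lift

variable (E : GrPre 𝒜 ℳ) (C : Cx 𝒜) (g : M →ₗ[R] (C.X 0).carrier) (k : ι)

/-- the invariant of the inductive construction. -/
def PGood (j : ℕ) (φ : (E.X j).carrier →ₗ[R] (C.X j).carrier) : Prop :=
  IsGrHomDeg (E.X j).gr (C.X j).gr φ k ∧ ∀ x, E.d j x = 0 → C.d j (φ x) = 0

lemma exists_pzero (hg : IsGrHomDeg ℳ (C.X 0).gr g k) (hdg : ∀ m, C.d 0 (g m) = 0) :
    ∃ φ : (E.X 0).carrier →ₗ[R] (C.X 0).carrier, PGood E C k 0 φ ∧ ∀ m, φ (E.ε m) = g m := by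
  obtain ⟨φ, hφ, hcomp⟩ := ext_deg 𝒜 (C.X 0).gr (C.starInj 0) (GMod.of 𝒜 M ℳ) (E.X 0) E.ε
    E.ε_grHom E.ε_injective k g hg
  have hc : ∀ m, φ (E.ε m) = g m := fun m => LinearMap.congr_fun hcomp m
  refine ⟨φ, ⟨hφ, fun x hx => ?_⟩, hc⟩
  have hx' : x ∈ LinearMap.ker (E.d 0) := hx
  rw [E.exact_zero] at hx'
  obtain ⟨m, rfl⟩ := hx'
  rw [hc, hdg]

lemma exists_pstep (j : ℕ) (φ : (E.X j).carrier →ₗ[R] (C.X j).carrier) (h : PGood E C k j φ) :
    ∃ φ' : (E.X (j + 1)).carrier →ₗ[R] (C.X (j + 1)).carrier,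
      PGood E C k (j + 1) φ' ∧ ∀ x, φ' (E.d j x) = C.d j (φ x) := by
  have hker : (LinearMap.ker (E.d j)).IsHomogeneous (E.X j).gr :=
    ker_isHomogeneous (E.X j).gr (E.X (j + 1)).gr (E.d j) (E.d_grHom j)
  let A : GMod.{u} 𝒜 := quotGMod (E.X j) (LinearMap.ker (E.d j)) hker
  let fbar : A.carrier →ₗ[R] (E.X (j + 1)).carrier :=
    (LinearMap.ker (E.d j)).liftQ (E.d j) le_rfl
  have hfbar : IsGrHom A.gr (E.X (j + 1)).gr fbar := by
    rintro n _ ⟨x, hx, rfl⟩
    exact E.d_grHom j n x hx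
  have hfinj : Function.Injective fbar := by
    rw [← LinearMap.ker_eq_bot]
    exact Submodule.ker_liftQ_eq_bot _ _ _ le_rfl
  let gbar : A.carrier →ₗ[R] (C.X (j + 1)).carrier :=
    (LinearMap.ker (E.d j)).liftQ (C.d j ∘ₗ φ) (fun x hx => h.2 x hx)
  have hgbar : IsGrHomDeg A.gr (C.X (j + 1)).gr gbar k := by
    rintro n _ ⟨x, hx, rfl⟩
    exact C.d_grHom j (n + k) _ (h.1 n x hx)
  obtain ⟨φ', hφ', hcomp⟩ := ext_deg 𝒜 (C.X (j + 1)).gr (C.starInj (j + 1)) A (E.X (j + 1)) fbar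
    hfbar hfinj k gbar hgbar
  have hc : ∀ x, φ' (E.d j x) = C.d j (φ x) := by
    intro x
    have := LinearMap.congr_fun hcomp ((LinearMap.ker (E.d j)).mkQ x)
    exact this
  refine ⟨φ', ⟨hφ', fun y hy => ?_⟩, hc⟩
  have hy' : y ∈ LinearMap.ker (E.d (j + 1)) := hy
  rw [E.exact_succ j] at hy'
  obtain ⟨x, rfl⟩ := hy'
  rw [hc, C.d_comp_d]

/-- the sequence of maps. -/
noncomputable def pseq (φ0 : (E.X 0).carrier →ₗ[R] (C.X 0).carrier) (h0 : PGood E C k 0 φ0) :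
    ∀ j, {φ : (E.X j).carrier →ₗ[R] (C.X j).carrier // PGood E C k j φ}
  | 0 => ⟨φ0, h0⟩
  | j + 1 => ⟨Classical.choose (exists_pstep E C k j (pseq φ0 h0 j).1 (pseq φ0 h0 j).2),
      (Classical.choose_spec (exists_pstep E C k j (pseq φ0 h0 j).1 (pseq φ0 h0 j).2)).1⟩

lemma pseq_succ (φ0 : (E.X 0).carrier →ₗ[R] (C.X 0).carrier) (h0 : PGood E C k 0 φ0) (j : ℕ)
    (x : (E.X j).carrier) :
    (pseq E C k φ0 h0 (j + 1)).1 (E.d j x) = C.d j ((pseq E C k φ0 h0 j).1 x) :=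
  (Classical.choose_spec (exists_pstep E C k j (pseq E C k φ0 h0 j).1 (pseq E C k φ0 h0 j).2)).2 x

/-- **existence of homogeneous chain lifts out of a graded resolution.** -/
theorem exists_plift (hg : IsGrHomDeg ℳ (C.X 0).gr g k) (hdg : ∀ m, C.d 0 (g m) = 0) :
    Nonempty (PLift E C g k) := by
  obtain ⟨φ0, h0, hc0⟩ := exists_pzero E C g k hg hdg
  exact ⟨{ φ := fun j => (pseq E C k φ0 h0 j).1
           deg := fun j => (pseq E C k φ0 h0 j).2.1
           comm_ε := hc0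
           comm_d := fun j x => pseq_succ E C k φ0 h0 j x }⟩

end exists_lift

section toRes

variable [IsNoetherianRing R]

/-- the underlying ungraded acyclic resolution. -/
def GrPre.toRes (E : GrPre 𝒜 ℳ) (a : HomogeneousIdeal 𝒜)
    (hac : ∀ n k, Subsingleton (HH a.toIdeal (ModuleCat.of R (E.X n).carrier) (k + 1))) :
    Res a.toIdeal M where
  X n := (E.X n).carrier
  d := E.d
  ε := E.ε
  ε_injective := E.ε_injective
  exact_zero := E.exact_zero
  exact_succ := E.exact_succ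
  acyclic := hac

variable (E : GrPre 𝒜 ℳ) (F : StarInjRes 𝒜 ℳ) (a : HomogeneousIdeal 𝒜)
  (hac : ∀ n k, Subsingleton (HH a.toIdeal (ModuleCat.of R (E.X n).carrier) (k + 1)))

/-- the pieces of the cohomology of `Γ_a` of a graded resolution. -/
def GrPre.Hgr (i : ℕ) (g : ι) : AddSubgroup ((E.toRes a hac).H i) where
  carrier := {x | ∃ z : ↥((E.toRes a hac).cocyc i), z.1 ∈ (E.X i).gr g ∧
    (E.toRes a hac).toH i z = x}
  zero_mem' := ⟨0, zero_mem _, map_zero _⟩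
  add_mem' := by
    rintro x y ⟨z, hz, rfl⟩ ⟨w, hw, rfl⟩
    exact ⟨z + w, add_mem hz hw, map_add _ _ _⟩
  neg_mem' := by
    rintro x ⟨z, hz, rfl⟩
    exact ⟨-z, neg_mem hz, map_neg _ _⟩

variable {E F a}

/-- a lift into a `*`injective resolution, as a chain map of ungraded resolutions. -/
def PLift.toResHom {k : ι} (l : PLift E (toCx F) (F.ε ∘ₗ (LinearMap.id : M →ₗ[R] M)) k) :
    ResHom (E.toRes a hac) (GrRes.toRes F a) (LinearMap.id : M →ₗ[R] M) where
  φ := l.φ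
  comm_ε := l.comm_ε
  comm_d := l.comm_d

/-- the induced map on cohomology. -/
def PLift.Hmap {k : ι} (l : PLift E (toCx F) (F.ε ∘ₗ (LinearMap.id : M →ₗ[R] M)) k) (i : ℕ) :
    (E.toRes a hac).H i →ₗ[R] F.H a i :=
  (hEquiv F a i).symm.toLinearMap ∘ₗ (l.toResHom hac).Hmap i

lemma PLift.Hmap_toH {k : ι} (l : PLift E (toCx F) (F.ε ∘ₗ (LinearMap.id : M →ₗ[R] M)) k) (i : ℕ)
    (z : (E.toRes a hac).cocyc i) :
    l.Hmap hac i ((E.toRes a hac).toH i z) = F.toH a i ((l.toResHom hac).cocycMap i z) := rfl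

lemma PLift.Hmap_mem {k : ι} (l : PLift E (toCx F) (F.ε ∘ₗ (LinearMap.id : M →ₗ[R] M)) k)
    (i : ℕ) (n : ι) (x : (E.toRes a hac).H i) (hx : x ∈ E.Hgr a hac i n) :
    l.Hmap hac i x ∈ F.Hcomp a i (n + k) := by
  obtain ⟨z, hz, rfl⟩ := hx
  exact ⟨(l.toResHom hac).cocycMap i z, l.deg i n _ hz, rfl⟩

/-- **the comparison map is bijective.** -/
theorem PLift.Hmap_bijective {k : ι}
    (l : PLift E (toCx F) (F.ε ∘ₗ (LinearMap.id : M →ₗ[R] M)) k) (i : ℕ) :
    Function.Bijective (l.Hmap hac i) := by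
  have key : ∀ x, cmpE F a i (l.Hmap hac i x) = cmp i (E.toRes a hac) x := by
    intro x
    have h1 := cmp_Hmap i (l.toResHom hac) x
    have h2 : HH.map a.toIdeal (ModuleCat.ofHom (LinearMap.id : M →ₗ[R] M)) i
        (cmp i (E.toRes a hac) x) = cmp i (E.toRes a hac) x :=
      HH.map_id a.toIdeal i _
    rw [h2] at h1
    exact h1
  have h3 : (l.Hmap hac i : (E.toRes a hac).H i → F.H a i) =
      (cmpE F a i).symm ∘ (cmp i (E.toRes a hac)) := by
    funext x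
    rw [Function.comp_apply, ← key x, LinearEquiv.symm_apply_apply]
  rw [h3]
  exact (cmpE F a i).symm.bijective.comp (cmp i (E.toRes a hac)).bijective

end toRes

end Groth.Agent.Lib.Helper20.GrLD
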