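import Groth.Agent.Lib.Helper20.GrLD10
import Groth.Agent.Lib.Helper20.LCIndep2
import Groth.Agent.Lib.Helper20.GrLCCompare

/-!
# Restriction of scalars of a `*`injective resolution along a finite graded ring map (helper20)

For a degree preserving ring map `R → S` of graded rings, a `*`injective resolution over `S`
becomes, after restriction of scalars, a graded resolution over `R` with `Γ_a`-acyclic terms.
-/

set_option autoImplicit false
set_option linter.style.haveILetI false
set_option linter.unusedSectionVars false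
set_option linter.unusedVariables false
set_option maxHeartbeats 800000

universe u

open CategoryTheory GrLC Groth.Agent.Lib.Helper4.LC Groth.Agent.Lib.Helper20.GrLCBasic
  Groth.Agent.Lib.Helper20.GrLCQuot Groth.Agent.Lib.Helper20.ResCmp
  Groth.Agent.Lib.Helper20.GrRes Groth.Agent.Lib.Helper20.GrLES

namespace Groth.Agent.Lib.Helper20.GrLD

section restrict

variable {R : Type u} [CommRing R] {S : Type u} [CommRing S] [Algebra R S]
  (𝒜 : ℤ → AddSubgroup R) [GradedRing 𝒜] (𝒜' : ℤ → AddSubgroup S) [GradedRing 𝒜']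
  (hf : ∀ j : ℤ, (𝒜 j).map (algebraMap R S : R →+ S) ≤ 𝒜' j)

/-- the graded ring map. -/
def grHom : 𝒜 →+*ᵍ 𝒜' where
  toRingHom := algebraMap R S
  map_mem := fun {i x} hx => hf i ⟨x, hx, rfl⟩

include hf in
/-- a graded `S`-module which is an `R`-module compatibly is a graded `R`-module. -/
theorem gradedSMul_res {M : Type u} [AddCommGroup M] [Module S M] [Module R M]
    [IsScalarTower R S M] (ℳ : ℤ → AddSubgroup M) [SetLike.GradedSMul 𝒜' ℳ] :
    SetLike.GradedSMul 𝒜 ℳ where
  smul_mem := by
    intro i j r x hr hx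
    rw [← algebraMap_smul S r x]
    exact SetLike.GradedSMul.smul_mem (A := 𝒜') (B := ℳ) (hf i ⟨r, hr, rfl⟩) hx

/-- restriction of scalars of a bundled graded module. -/
@[reducible] def resGMod (X : GMod.{u} 𝒜') : GMod.{u} 𝒜 :=
  letI : Module R X.carrier := Module.compHom X.carrier (algebraMap R S)
  haveI : IsScalarTower R S X.carrier := IsScalarTower.of_algebraMap_smul (fun r x => rfl)
  haveI := gradedSMul_res 𝒜 𝒜' hf X.gr
  { carrier := X.carrier
    gr := X.gr }

variable {M : Type u} [AddCommGroup M] [Module S M] [Module R M] [IsScalarTower R S M]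
  (ℳ : ℤ → AddSubgroup M) [DirectSum.Decomposition ℳ] [SetLike.GradedSMul 𝒜' ℳ]
  [SetLike.GradedSMul 𝒜 ℳ]

/-- restriction of scalars of a `*`injective resolution. -/
def resPre (I' : StarInjRes 𝒜' ℳ) : GrPre 𝒜 ℳ where
  X n := resGMod 𝒜 𝒜' hf (I'.X n)
  d n :=
    { toFun := I'.d n
      map_add' := map_add _
      map_smul' := fun r x => (I'.d n).map_smul (algebraMap R S r) x }
  ε :=
    { toFun := I'.ε
      map_add' := map_add _
      map_smul' := fun r x => by
        rw [← algebraMap_smul S r x, LinearMap.map_smul]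
        rfl }
  d_grHom := I'.d_grHom
  ε_grHom := I'.ε_grHom
  ε_injective := I'.ε_injective
  exact_zero := by
    ext x
    have := SetLike.ext_iff.1 I'.exact_zero x
    exact this
  exact_succ n := by
    ext x
    have := SetLike.ext_iff.1 (I'.exact_succ n) x
    exact this

/-- the terms of the restricted resolution are acyclic. -/
theorem resPre_acyclic [IsNoetherianRing R] [IsNoetherianRing S] (I' : StarInjRes 𝒜' ℳ)
    (m : HomogeneousIdeal 𝒜) (n k : ℕ) :
    Subsingleton (HH m.toIdeal (ModuleCat.of R ((resPre 𝒜 𝒜' hf ℳ I').X n).carrier) (k + 1)) := by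
  letI : Module R (I'.X n).carrier := Module.compHom (I'.X n).carrier (algebraMap R S)
  haveI : IsScalarTower R S (I'.X n).carrier :=
    IsScalarTower.of_algebraMap_smul (fun r x => rfl)
  obtain ⟨φ, -⟩ := Groth.Agent.Lib.Helper20.LCIndep2.exists_addEquiv S m.toIdeal
    (I'.X n).carrier (k + 1)
  haveI : Subsingleton (HH (m.toIdeal.map (algebraMap R S)) (ModuleCat.of S (I'.X n).carrier)
      (k + 1)) :=
    Groth.Agent.Lib.Helper20.GrLCCompare.subsingleton_HH_of_isStarInj 𝒜' (I'.X n).gr
      (I'.starInj n) (m.map (grHom 𝒜 𝒜' hf)) k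
  exact φ.symm.toEquiv.subsingleton

end restrict

end Groth.Agent.Lib.Helper20.GrLD
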