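import Groth.Agent.Lib.Helper20.GrLD11
import Groth.Agent.Lib.Helper20.GrLCExt

/-!
# The irrelevant ideals of a finite graded ring map have the same radical (helper20)

For a finite degree preserving map `R → S` of graded rings, `S_+^N ⊆ R_+ S ⊆ S_+`, hence
`Γ_{S_+}(X) = Γ_{R_+}(X)` for every `S`-module `X`.
-/

set_option autoImplicit false
set_option linter.style.haveILetI false
set_option linter.unusedSectionVars false
set_option linter.unusedVariables false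
set_option maxHeartbeats 800000

universe u

open GrLC DirectSum Groth.Agent.Lib.Helper20.GrLCBasic

namespace Groth.Agent.Lib.Helper20.GrLD

section radical

variable {R : Type u} [CommRing R] [IsNoetherianRing R] {S : Type u} [CommRing S] [Algebra R S]
  [Module.Finite R S]
  (𝒜 : ℤ → AddSubgroup R) [GradedRing 𝒜] (𝒜' : ℤ → AddSubgroup S) [GradedRing 𝒜']
  (hf : ∀ j : ℤ, (𝒜 j).map (algebraMap R S : R →+ S) ≤ 𝒜' j)
  (m : HomogeneousIdeal 𝒜)
  (hmsp : m.toIdeal = Ideal.span (⋃ n ∈ Set.Ioi (0 : ℤ), (𝒜 n : Set R)))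
  (m' : HomogeneousIdeal 𝒜')
  (hm'sp : m'.toIdeal = Ideal.span (⋃ j ∈ Set.Ioi (0 : ℤ), (𝒜' j : Set S)))

include hf hmsp hm'sp in
theorem map_irrelevant_le : m.toIdeal.map (algebraMap R S) ≤ m'.toIdeal := by
  rw [hmsp, Ideal.map_span, hm'sp]
  apply Ideal.span_mono
  rintro _ ⟨x, hx, rfl⟩
  obtain ⟨j, hj, hxj⟩ := Set.mem_iUnion₂.1 hx
  exact Set.mem_iUnion₂.2 ⟨j, hj, hf j ⟨x, hxj, rfl⟩⟩

include hf hmsp in
/-- homogeneous elements of large degree lie in `R_+ S`. -/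
theorem exists_forall_mem_map : ∃ D : ℤ, 0 ≤ D ∧ ∀ e : ℤ, D < e → ∀ x ∈ 𝒜' e,
    x ∈ m.toIdeal.map (algebraMap R S) := by
  classical
  haveI : SetLike.GradedSMul 𝒜 𝒜' := gradedSMul_res 𝒜 𝒜' hf 𝒜'
  obtain ⟨T, hT, hspan⟩ := Groth.Agent.Lib.Helper20.GrLCExt.exists_homogeneous_generators
    (R := R) (M := S) 𝒜'
  choose! dg hdg using hT
  refine ⟨∑ t ∈ T, |dg t|, Finset.sum_nonneg (fun t _ => abs_nonneg _), ?_⟩
  intro e he x hx
  have hxs : x ∈ Submodule.span R (T : Set S) := by rw [hspan]; exact Submodule.mem_top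
  obtain ⟨c, hc⟩ := Submodule.mem_span_finset'.1 hxs
  have hx' : x = ∑ t : T, ((decompose 𝒜' (c t • (t : S)) e : 𝒜' e) : S) := by
    conv_lhs => rw [← decompose_of_mem_same 𝒜' hx, ← hc]
    rw [decompose_sum, DFinsupp.finset_sum_apply, AddSubgroup.val_finset_sum]
  rw [hx']
  refine Ideal.sum_mem _ (fun t _ => ?_)
  have hdt : dg t ≤ ∑ t ∈ T, |dg t| :=
    le_trans (le_abs_self _) (Finset.single_le_sum (f := fun t => |dg t|)
      (fun t _ => abs_nonneg _) t.2)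
  have h1 := decompose_smul_right 𝒜 𝒜' (hdg t t.2) (c t) (e - dg t)
  rw [sub_add_cancel] at h1
  rw [h1, Algebra.smul_def]
  apply Ideal.mul_mem_right
  apply Ideal.mem_map_of_mem
  rw [hmsp]
  apply Ideal.subset_span
  refine Set.mem_iUnion₂.2 ⟨e - dg t, ?_, SetLike.coe_mem _⟩
  show 0 < e - dg t
  linarith

include hm'sp in
theorem pow_irrelevant_le (N : ℕ) :
    m'.toIdeal ^ N ≤ Ideal.span (⋃ e ∈ Set.Ici (N : ℤ), (𝒜' e : Set S)) := by
  induction N with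
  | zero =>
    rw [pow_zero, Ideal.one_eq_top]
    intro x _
    have h1 : (1 : S) ∈ Ideal.span (⋃ e ∈ Set.Ici ((0 : ℕ) : ℤ), (𝒜' e : Set S)) := by
      apply Ideal.subset_span
      exact Set.mem_iUnion₂.2 ⟨0, by simp, SetLike.GradedOne.one_mem (A := 𝒜')⟩
    have := Ideal.mul_mem_left _ x h1
    rwa [mul_one] at this
  | succ N ih =>
    rw [pow_succ]
    refine le_trans (Ideal.mul_mono ih (le_of_eq hm'sp)) ?_
    rw [Ideal.span_mul_span']
    apply Ideal.span_mono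
    rintro _ ⟨a, ha, b, hb, rfl⟩
    obtain ⟨i, hi, hai⟩ := Set.mem_iUnion₂.1 ha
    obtain ⟨j, hj, hbj⟩ := Set.mem_iUnion₂.1 hb
    refine Set.mem_iUnion₂.2 ⟨i + j, ?_, SetLike.GradedMul.mul_mem (A := 𝒜') hai hbj⟩
    have hi' : (N : ℤ) ≤ i := hi
    have hj' : (0 : ℤ) < j := hj
    show ((N + 1 : ℕ) : ℤ) ≤ i + j
    push_cast
    linarith

include hf hmsp hm'sp in
/-- **a power of `S_+` lies in `R_+ S`.** -/
theorem exists_pow_irrelevant_le :
    ∃ N : ℕ, m'.toIdeal ^ N ≤ m.toIdeal.map (algebraMap R S) := by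
  obtain ⟨D, hD0, hD⟩ := exists_forall_mem_map 𝒜 𝒜' hf m hmsp
  refine ⟨(D + 1).toNat, le_trans (pow_irrelevant_le 𝒜' m' hm'sp _) ?_⟩
  rw [Ideal.span_le]
  intro x hx
  obtain ⟨e, he, hxe⟩ := Set.mem_iUnion₂.1 hx
  have he' : (((D + 1).toNat : ℕ) : ℤ) ≤ e := he
  rw [Int.toNat_of_nonneg (by linarith)] at he'
  exact hD e (by linarith) x hxe

include hf hmsp hm'sp in
/-- **`Γ_{S_+}(X) = Γ_{R_+}(X)`.** -/
theorem mem_gam_irrelevant_iff {X : Type u} [AddCommGroup X] [Module S X] [Module R X]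
    [IsScalarTower R S X] (x : X) :
    x ∈ gam m'.toIdeal X ↔ x ∈ gam m.toIdeal X := by
  rw [← Groth.Agent.Lib.Helper20.LCIndep2.mem_gam_map_iff S m.toIdeal x]
  constructor
  · rintro ⟨k, hk⟩
    exact ⟨k, fun s hs => hk s
      (Ideal.pow_right_mono (map_irrelevant_le 𝒜 𝒜' hf m hmsp m' hm'sp) k hs)⟩
  · rintro ⟨k, hk⟩
    obtain ⟨N, hN⟩ := exists_pow_irrelevant_le 𝒜 𝒜' hf m hmsp m' hm'sp
    refine ⟨N * k, fun s hs => hk s ?_⟩
    rw [pow_mul] at hs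
    exact Ideal.pow_right_mono hN k hs

end radical

end Groth.Agent.Lib.Helper20.GrLD
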