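import Groth.Agent.Lib.Helper20.GrLD12
import Groth.Agent.Lib.Helper20.GrLES2

/-!
# Graded base independence of local cohomology for finite graded ring maps (helper20)

For a finite degree preserving map `R → S` of graded rings and a graded `S`-module `M`, the graded
local cohomology `H^p_{S_+}(M)` computed over `S` is identified with `H^p_{R_+}(M)` computed over
`R`, by an additive bijection which is semilinear and homogeneous.
-/

set_option autoImplicit false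
set_option linter.style.haveILetI false
set_option linter.unusedSectionVars false
set_option linter.unusedVariables false
set_option maxHeartbeats 1600000

universe u

open CategoryTheory GrLC DirectSum Groth.Agent.Lib.Helper4.LC Groth.Agent.Lib.Helper20.GrLCBasic
  Groth.Agent.Lib.Helper20.GrLCQuot Groth.Agent.Lib.Helper20.ResCmp
  Groth.Agent.Lib.Helper20.GrRes Groth.Agent.Lib.Helper20.GrLES Groth.Agent.Lib.Helper20.GrLES2

namespace Groth.Agent.Lib.Helper20.GrLD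

section addgr

variable {X Y : Type u} [AddCommGroup X] [AddCommGroup Y]
  (𝓧 : ℤ → AddSubgroup X) (𝓨 : ℤ → AddSubgroup Y)
  [DirectSum.Decomposition 𝓧] [DirectSum.Decomposition 𝓨]

/-- an additive homogeneous map commutes with taking homogeneous components. -/
theorem decompose_map_add (f : X →+ Y) (hf : ∀ g x, x ∈ 𝓧 g → f x ∈ 𝓨 g) (x : X) (g : ℤ) :
    ((DirectSum.decompose 𝓨 (f x) g : 𝓨 g) : Y) = f (DirectSum.decompose 𝓧 x g : 𝓧 g) := by
  classical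
  induction x using DirectSum.Decomposition.inductionOn 𝓧 with
  | zero => simp
  | @homogeneous i m =>
    by_cases h : i = g
    · subst h
      rw [DirectSum.decompose_of_mem_same 𝓨 (hf _ _ m.2), DirectSum.decompose_of_mem_same 𝓧 m.2]
    · rw [DirectSum.decompose_of_mem_ne 𝓨 (hf _ _ m.2) h, DirectSum.decompose_of_mem_ne 𝓧 m.2 h,
        map_zero]
  | add m m' h h' =>
    rw [map_add, DirectSum.decompose_add, DirectSum.decompose_add, DirectSum.add_apply,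
      DirectSum.add_apply, AddSubgroup.coe_add, AddSubgroup.coe_add, map_add, h, h']

/-- an injective additive homogeneous map reflects homogeneity of elements. -/
theorem mem_of_map_mem_add (f : X →+ Y) (hf : ∀ g x, x ∈ 𝓧 g → f x ∈ 𝓨 g)
    (hinj : Function.Injective f) {x : X} {g : ℤ} (h : f x ∈ 𝓨 g) : x ∈ 𝓧 g := by
  classical
  have h0 : ∀ k, k ≠ g → ((DirectSum.decompose 𝓧 x k : 𝓧 k) : X) = 0 := by
    intro k hk
    apply hinj
    rw [← decompose_map_add 𝓧 𝓨 f hf x k, DirectSum.decompose_of_mem_ne 𝓨 h (Ne.symm hk),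
      map_zero]
  have hx : x = ((DirectSum.decompose 𝓧 x g : 𝓧 g) : X) := by
    conv_lhs => rw [← DirectSum.sum_support_decompose 𝓧 x]
    rw [Finset.sum_eq_single g]
    · intro k _ hk
      exact h0 k hk
    · intro hg
      rw [DFinsupp.notMem_support_iff] at hg
      rw [hg]
      rfl
  rw [hx]
  exact SetLike.coe_mem _

end addgr

section base

variable {R : Type u} [CommRing R] [IsNoetherianRing R] {S : Type u} [CommRing S]
  [IsNoetherianRing S] [Algebra R S] [Module.Finite R S]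
  (𝒜 : ℤ → AddSubgroup R) [GradedRing 𝒜] (𝒜' : ℤ → AddSubgroup S) [GradedRing 𝒜']
  (hf : ∀ j : ℤ, (𝒜 j).map (algebraMap R S : R →+ S) ≤ 𝒜' j)
  (m : HomogeneousIdeal 𝒜)
  (hmsp : m.toIdeal = Ideal.span (⋃ n ∈ Set.Ioi (0 : ℤ), (𝒜 n : Set R)))
  (m' : HomogeneousIdeal 𝒜')
  (hm'sp : m'.toIdeal = Ideal.span (⋃ j ∈ Set.Ioi (0 : ℤ), (𝒜' j : Set S)))
  {M : Type u} [AddCommGroup M] [Module S M] [Module R M] [IsScalarTower R S M]
  (ℳ : ℤ → AddSubgroup M) [DirectSum.Decomposition ℳ] [SetLike.GradedSMul 𝒜' ℳ]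
  [SetLike.GradedSMul 𝒜 ℳ]
  (I' : StarInjRes 𝒜' ℳ)

/-- the restricted resolution, as an ungraded acyclic resolution. -/
noncomputable def resRes : Res m.toIdeal M :=
  (resPre 𝒜 𝒜' hf ℳ I').toRes m (resPre_acyclic 𝒜 𝒜' hf ℳ I' m)

include hmsp hm'sp in
theorem mem_gam_res_iff (p : ℕ) (z : (I'.X p).carrier) :
    z ∈ gam m.toIdeal ((resRes 𝒜 𝒜' hf m ℳ I').X p) ↔ z ∈ gam m'.toIdeal (I'.X p).carrier := by
  letI : Module R (I'.X p).carrier := Module.compHom (I'.X p).carrier (algebraMap R S)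
  haveI : IsScalarTower R S (I'.X p).carrier :=
    IsScalarTower.of_algebraMap_smul (fun r x => rfl)
  exact (mem_gam_irrelevant_iff 𝒜 𝒜' hf m hmsp m' hm'sp z).symm

include hmsp hm'sp in
theorem mem_cocyc_res_iff (p : ℕ) (z : (I'.X p).carrier) :
    z ∈ (resRes 𝒜 𝒜' hf m ℳ I').cocyc p ↔ z ∈ I'.cocyc m' p := by
  constructor
  · rintro ⟨h1, h2⟩
    exact ⟨(mem_gam_res_iff 𝒜 𝒜' hf m hmsp m' hm'sp ℳ I' p z).1 h1, h2⟩
  · rintro ⟨h1, h2⟩
    exact ⟨(mem_gam_res_iff 𝒜 𝒜' hf m hmsp m' hm'sp ℳ I' p z).2 h1, h2⟩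

include hmsp hm'sp in
theorem mem_cobdy_res_iff (p : ℕ) (z : (I'.X p).carrier) :
    z ∈ (resRes 𝒜 𝒜' hf m ℳ I').cobdy p ↔ z ∈ I'.cobdy m' p := by
  cases p with
  | zero => exact Iff.rfl
  | succ n =>
    constructor
    · rintro ⟨y, hy, rfl⟩
      exact ⟨y, (mem_gam_res_iff 𝒜 𝒜' hf m hmsp m' hm'sp ℳ I' n y).1 hy, rfl⟩
    · rintro ⟨y, hy, rfl⟩
      exact ⟨y, (mem_gam_res_iff 𝒜 𝒜' hf m hmsp m' hm'sp ℳ I' n y).2 hy, rfl⟩

/-- cocycles of the restricted resolution are cocycles over `S`. -/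
noncomputable def cocycRes (p : ℕ) :
    ↥((resRes 𝒜 𝒜' hf m ℳ I').cocyc p) →ₛₗ[algebraMap R S] ↥(I'.cocyc m' p) where
  toFun z := ⟨z.1, (mem_cocyc_res_iff 𝒜 𝒜' hf m hmsp m' hm'sp ℳ I' p z.1).1 z.2⟩
  map_add' _ _ := rfl
  map_smul' _ _ := rfl

/-- the identification of the cohomology of the restricted complex with that over `S`. -/
noncomputable def psi (p : ℕ) :
    (resRes 𝒜 𝒜' hf m ℳ I').H p →ₛₗ[algebraMap R S] I'.H m' p :=
  Submodule.mapQ _ _ (cocycRes 𝒜 𝒜' hf m hmsp m' hm'sp ℳ I' p) (by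
    intro z hz
    exact (mem_cobdy_res_iff 𝒜 𝒜' hf m hmsp m' hm'sp ℳ I' p z.1).1 hz)

theorem psi_toH (p : ℕ) (z : (resRes 𝒜 𝒜' hf m ℳ I').cocyc p) :
    psi 𝒜 𝒜' hf m hmsp m' hm'sp ℳ I' p ((resRes 𝒜 𝒜' hf m ℳ I').toH p z) =
      I'.toH m' p (cocycRes 𝒜 𝒜' hf m hmsp m' hm'sp ℳ I' p z) := rfl

theorem psi_bijective (p : ℕ) : Function.Bijective (psi 𝒜 𝒜' hf m hmsp m' hm'sp ℳ I' p) := by
  constructor
  · rw [injective_iff_map_eq_zero]
    intro x hx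
    obtain ⟨z, rfl⟩ := Submodule.mkQ_surjective _ x
    have h1 : I'.toH m' p (cocycRes 𝒜 𝒜' hf m hmsp m' hm'sp ℳ I' p z) = 0 := hx
    rw [Submodule.mkQ_apply, Submodule.Quotient.mk_eq_zero] at h1
    rw [Submodule.mkQ_apply, Submodule.Quotient.mk_eq_zero]
    exact (mem_cobdy_res_iff 𝒜 𝒜' hf m hmsp m' hm'sp ℳ I' p z.1).2 h1
  · intro y
    obtain ⟨w, rfl⟩ := Submodule.mkQ_surjective _ y
    exact ⟨(resRes 𝒜 𝒜' hf m ℳ I').toH p
      ⟨w.1, (mem_cocyc_res_iff 𝒜 𝒜' hf m hmsp m' hm'sp ℳ I' p w.1).2 w.2⟩, rfl⟩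

include hf hmsp hm'sp in
/-- **graded base independence.** -/
theorem exists_theta (ES : StarInjRes 𝒜 ℳ) (p : ℕ) :
    ∃ Θ : I'.H m' p ≃+ ES.H m p,
      (∀ (r : R) (x : I'.H m' p), Θ (algebraMap R S r • x) = r • Θ x) ∧
      (∀ (e : ℤ) (x : I'.H m' p), x ∈ I'.Hgr m' p e → Θ x ∈ ES.Hgr m p e) ∧
      (∀ (e : ℤ) (h : ES.H m p), h ∈ ES.Hgr m p e → Θ.symm h ∈ I'.Hgr m' p e) := by
  have hg : IsGrHomDeg ℳ ((toCx ES).X 0).gr (ES.ε ∘ₗ (LinearMap.id : M →ₗ[R] M)) 0 := by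
    intro e x hx
    rw [add_zero]
    exact ES.ε_grHom e x hx
  have hdg : ∀ x, (toCx ES).d 0 ((ES.ε ∘ₗ (LinearMap.id : M →ₗ[R] M)) x) = 0 := by
    intro x
    have : ES.ε x ∈ LinearMap.ker (ES.d 0) := by
      rw [ES.exact_zero]
      exact LinearMap.mem_range_self _ _
    exact this
  obtain ⟨l⟩ := exists_plift (resPre 𝒜 𝒜' hf ℳ I') (toCx ES)
    (ES.ε ∘ₗ (LinearMap.id : M →ₗ[R] M)) 0 hg hdg
  have hac := resPre_acyclic 𝒜 𝒜' hf ℳ I' m
  let He : (resRes 𝒜 𝒜' hf m ℳ I').H p ≃+ ES.H m p :=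
    AddEquiv.ofBijective (l.Hmap hac p).toAddMonoidHom (l.Hmap_bijective hac p)
  let Ψe : (resRes 𝒜 𝒜' hf m ℳ I').H p ≃+ I'.H m' p :=
    AddEquiv.ofBijective (psi 𝒜 𝒜' hf m hmsp m' hm'sp ℳ I' p).toAddMonoidHom
      (psi_bijective 𝒜 𝒜' hf m hmsp m' hm'sp ℳ I' p)
  let Θ : I'.H m' p ≃+ ES.H m p := Ψe.symm.trans He
  have hΘgr : ∀ (e : ℤ) (x : I'.H m' p), x ∈ I'.Hgr m' p e → Θ x ∈ ES.Hgr m p e := by
    rintro e x ⟨z, hz, rfl⟩
    have h1 : Ψe.symm (I'.toH m' p z) = (resRes 𝒜 𝒜' hf m ℳ I').toH p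
        ⟨z.1, (mem_cocyc_res_iff 𝒜 𝒜' hf m hmsp m' hm'sp ℳ I' p z.1).2 z.2⟩ := by
      rw [AddEquiv.symm_apply_eq]
      rfl
    show He (Ψe.symm (I'.toH m' p z)) ∈ ES.Hgr m p e
    rw [h1]
    have h2 := l.Hmap_mem hac p e _ ⟨⟨z.1,
      (mem_cocyc_res_iff 𝒜 𝒜' hf m hmsp m' hm'sp ℳ I' p z.1).2 z.2⟩, hz, rfl⟩
    rw [add_zero] at h2
    exact h2
  refine ⟨Θ, ?_, hΘgr, ?_⟩
  · intro r x
    show He (Ψe.symm (algebraMap R S r • x)) = r • He (Ψe.symm x)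
    have h1 : Ψe.symm (algebraMap R S r • x) = r • Ψe.symm x := by
      rw [AddEquiv.symm_apply_eq]
      symm
      show psi 𝒜 𝒜' hf m hmsp m' hm'sp ℳ I' p (r • Ψe.symm x) = _
      rw [LinearMap.map_smulₛₗ]
      congr 1
      exact Ψe.apply_symm_apply x
    rw [h1]
    exact (l.Hmap hac p).map_smul r _
  · letI := decH I' m' p
    letI := decH ES m p
    intro e h hh
    apply mem_of_map_mem_add (I'.Hgr m' p) (ES.Hgr m p) Θ.toAddMonoidHom hΘgr Θ.injective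
    show Θ (Θ.symm h) ∈ ES.Hgr m p e
    rw [Θ.apply_symm_apply]
    exact hh

end base

end Groth.Agent.Lib.Helper20.GrLD
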