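import Mathlib
import Groth.Prelude.Def_GrLC
import Groth.Prelude.Def_GrSeg
import Groth.Agent.Lib.Helper20.GrHullDual2
import Groth.Agent.Lib.Helper20.GrDual3
import Groth.Agent.Lib.Helper20.SegFin1

/-!
# A `*`canonical module is the graded dual of the top local cohomology (helper20)

For a graded ring `R` with `R_0` (the image of) a field `k`, the trace `tr : E → k` of the
`*`injective envelope of `R/R_+`, and the pairing `C × H → k`, `(c, h) ↦ tr ((Φ⁻¹ h) c)`, attached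
to `Φ : Hom_R(C, E) ≅ H`; it presents `C` as the graded `k`-dual of `H`.
-/

set_option autoImplicit false
set_option linter.unusedSectionVars false
set_option linter.unusedVariables false
set_option linter.style.haveILetI false

universe u

open DirectSum GrLC Groth.Agent.Lib.Helper20.GrLCBasic Groth.Agent.Lib.Helper20.SegGr
  Groth.Agent.Lib.Helper20.GrFieldLocal

namespace Groth.Agent.Lib.Helper20.GrLD

section trace

variable {k : Type u} [Field k] {R : Type u} [CommRing R] [Algebra k R] [IsNoetherianRing R]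
  (𝒜 : ℤ → AddSubgroup R) [GradedRing 𝒜]
  (hpos : ∀ n : ℤ, n < 0 → 𝒜 n = ⊥) (h0 : IsField (deg0 𝒜))
  (hk0 : ∀ c : k, algebraMap k R c ∈ 𝒜 0) (hk1 : ∀ x ∈ 𝒜 0, ∃ c : k, algebraMap k R c = x)
  (m : HomogeneousIdeal 𝒜)
  (hm : m.toIdeal = Ideal.span (⋃ n ∈ Set.Ioi (0 : ℤ), (𝒜 n : Set R)))
  {E : Type u} [AddCommGroup E] [Module R E] [Module k E] [IsScalarTower k R E]
  (𝓔 : ℤ → AddSubgroup E) [DirectSum.Decomposition 𝓔] [SetLike.GradedSMul 𝒜 𝓔]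
  (e : (R ⧸ m.toIdeal) →ₗ[R] E) (he : IsStarInjHull 𝒜 (quotGr 𝒜 m) 𝓔 e)

include hk0 in
/-- the pieces of a graded module are `k`-subspaces. -/
theorem smul_mem_piece_k {M : Type u} [AddCommGroup M] [Module R M] [Module k M]
    [IsScalarTower k R M] (ℳ : ℤ → AddSubgroup M) [SetLike.GradedSMul 𝒜 ℳ]
    (j : ℤ) (c : k) (x : M) (hx : x ∈ ℳ j) : c • x ∈ ℳ j := by
  rw [← algebraMap_smul R c x]
  have := SetLike.GradedSMul.smul_mem (A := 𝒜) (B := ℳ) (hk0 c) hx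
  rwa [vadd_eq_add, zero_add] at this

include hpos h0 hm he in
theorem e_one_ne_zero : e 1 ≠ 0 := by
  intro h6
  have h7 : (1 : R ⧸ m.toIdeal) = 0 := he.injective (by rw [h6, map_zero])
  have h8 : Ideal.Quotient.mk m.toIdeal 1 = 0 := h7
  rw [Ideal.Quotient.eq_zero_iff_mem] at h8
  exact ne_top 𝒜 hpos h0 m hm ((Ideal.eq_top_iff_one _).2 h8)

include hpos hm he in
theorem e_one_mem : e 1 ∈ 𝓔 0 :=
  Groth.Agent.Lib.Helper20.GrHullDual.range_le_zero' 𝒜 hpos m hm 𝓔 e he 1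

include hpos h0 hk1 hm he in
theorem exists_eq_smul_e_one {w : E} (hw : w ∈ 𝓔 0) : ∃ c : k, w = c • e 1 := by
  obtain ⟨c', hc', hw'⟩ := Groth.Agent.Lib.Helper20.GrHullDual.exists_smul_eq_of_mem_zero 𝒜
    𝓔 hpos h0 m hm e he hw
  obtain ⟨c, rfl⟩ := hk1 c' hc'
  exact ⟨c, by rw [hw', algebraMap_smul]⟩

include hpos h0 hm he in
theorem smul_e_one_injective {c c' : k} (h : c • e 1 = c' • e 1) : c = c' := by
  have h1 : (c - c') • e 1 = 0 := by rw [sub_smul, h, sub_self]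
  rcases smul_eq_zero.1 h1 with h2 | h2
  · exact sub_eq_zero.1 h2
  · exact absurd h2 (e_one_ne_zero 𝒜 hpos h0 m hm 𝓔 e he)

/-- the trace, as a function. -/
noncomputable def trFun (x : E) : k :=
  Classical.choose (exists_eq_smul_e_one 𝒜 hpos h0 hk1 m hm 𝓔 e he
    (SetLike.coe_mem (decompose 𝓔 x 0)))

theorem trFun_spec (x : E) :
    ((decompose 𝓔 x 0 : 𝓔 0) : E) = trFun 𝒜 hpos h0 hk1 m hm 𝓔 e he x • e 1 :=
  Classical.choose_spec (exists_eq_smul_e_one 𝒜 hpos h0 hk1 m hm 𝓔 e he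
    (SetLike.coe_mem (decompose 𝓔 x 0)))

theorem trFun_eq {x : E} {c : k} (h : ((decompose 𝓔 x 0 : 𝓔 0) : E) = c • e 1) :
    trFun 𝒜 hpos h0 hk1 m hm 𝓔 e he x = c := by
  apply smul_e_one_injective 𝒜 hpos h0 m hm 𝓔 e he
  rw [← trFun_spec, h]

include hk0 in
/-- **the trace of the envelope.** -/
noncomputable def tr : E →ₗ[k] k where
  toFun := trFun 𝒜 hpos h0 hk1 m hm 𝓔 e he
  map_add' x y := by
    apply trFun_eq 𝒜 hpos h0 hk1 m hm 𝓔 e he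
    rw [decompose_add, DirectSum.add_apply, AddSubgroup.coe_add,
      trFun_spec 𝒜 hpos h0 hk1 m hm 𝓔 e he x, trFun_spec 𝒜 hpos h0 hk1 m hm 𝓔 e he y, add_smul]
  map_smul' c x := by
    apply trFun_eq 𝒜 hpos h0 hk1 m hm 𝓔 e he
    rw [decompose_smul_k 𝓔 (smul_mem_piece_k 𝒜 hk0 𝓔) c x 0,
      trFun_spec 𝒜 hpos h0 hk1 m hm 𝓔 e he x, RingHom.id_apply, smul_eq_mul, mul_smul]

theorem tr_spec (x : E) :
    ((decompose 𝓔 x 0 : 𝓔 0) : E) = tr 𝒜 hpos h0 hk0 hk1 m hm 𝓔 e he x • e 1 :=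
  trFun_spec 𝒜 hpos h0 hk1 m hm 𝓔 e he x

theorem tr_of_mem_ne {j : ℤ} (hj : j ≠ 0) {x : E} (hx : x ∈ 𝓔 j) :
    tr 𝒜 hpos h0 hk0 hk1 m hm 𝓔 e he x = 0 := by
  apply trFun_eq 𝒜 hpos h0 hk1 m hm 𝓔 e he
  rw [decompose_of_mem_ne 𝓔 hx hj, zero_smul]

theorem eq_zero_of_tr_eq_zero {x : E} (hx : x ∈ 𝓔 0)
    (h : tr 𝒜 hpos h0 hk0 hk1 m hm 𝓔 e he x = 0) : x = 0 := by
  have := tr_spec 𝒜 hpos h0 hk0 hk1 m hm 𝓔 e he x
  rw [decompose_of_mem_same 𝓔 hx, h, zero_smul] at this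
  exact this

theorem tr_smul_e_one (c : k) : tr 𝒜 hpos h0 hk0 hk1 m hm 𝓔 e he (c • e 1) = c := by
  apply trFun_eq 𝒜 hpos h0 hk1 m hm 𝓔 e he
  rw [decompose_of_mem_same 𝓔 (smul_mem_piece_k 𝒜 hk0 𝓔 0 c _ (e_one_mem 𝒜 hpos m hm 𝓔 e he))]

end trace

section beta

variable {k : Type u} [Field k] {R : Type u} [CommRing R] [Algebra k R] [IsNoetherianRing R]
  (𝒜 : ℤ → AddSubgroup R) [GradedRing 𝒜]
  (hpos : ∀ n : ℤ, n < 0 → 𝒜 n = ⊥) (h0 : IsField (deg0 𝒜))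
  (hk0 : ∀ c : k, algebraMap k R c ∈ 𝒜 0) (hk1 : ∀ x ∈ 𝒜 0, ∃ c : k, algebraMap k R c = x)
  (m : HomogeneousIdeal 𝒜)
  (hm : m.toIdeal = Ideal.span (⋃ n ∈ Set.Ioi (0 : ℤ), (𝒜 n : Set R)))
  {E : Type u} [AddCommGroup E] [Module R E] [Module k E] [IsScalarTower k R E]
  (𝓔 : ℤ → AddSubgroup E) [DirectSum.Decomposition 𝓔] [SetLike.GradedSMul 𝒜 𝓔]
  (e : (R ⧸ m.toIdeal) →ₗ[R] E) (he : IsStarInjHull 𝒜 (quotGr 𝒜 m) 𝓔 e)
  {C : Type u} [AddCommGroup C] [Module R C] [Module k C] [IsScalarTower k R C]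
  (𝒞 : ℤ → AddSubgroup C) [DirectSum.Decomposition 𝒞] [SetLike.GradedSMul 𝒜 𝒞]
  [Module.Finite R C]
  {H : Type u} [AddCommGroup H] [Module R H] [Module k H] [IsScalarTower k R H]
  (ℋ : ℤ → AddSubgroup H) [DirectSum.Decomposition ℋ] [SetLike.GradedSMul 𝒜 ℋ]
  (Φ : (C →ₗ[R] E) ≃ₗ[R] H)
  (hΦ : IsGrHom (fun d => (homDeg 𝒜 𝒞 𝓔 d).toAddSubgroup) ℋ Φ.toLinearMap)

/-- the duality pairing `C × H → k`. -/
noncomputable def cbeta : C →ₗ[k] H →ₗ[k] k :=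
  LinearMap.mk₂ k (fun c h => tr 𝒜 hpos h0 hk0 hk1 m hm 𝓔 e he (Φ.symm h c))
    (fun c c' h => by rw [map_add, map_add])
    (fun a c h => by
      have h1 : Φ.symm h (a • c) = a • Φ.symm h c := by
        rw [← algebraMap_smul R a c, LinearMap.map_smul, algebraMap_smul]
      rw [h1, LinearMap.map_smul])
    (fun c h h' => by rw [map_add, LinearMap.add_apply, map_add])
    (fun a c h => by
      have h1 : Φ.symm (a • h) = algebraMap k R a • Φ.symm h := by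
        rw [← algebraMap_smul R a h, LinearEquiv.map_smul]
      rw [h1, LinearMap.smul_apply, algebraMap_smul, LinearMap.map_smul])

theorem cbeta_apply (c : C) (h : H) :
    cbeta 𝒜 hpos h0 hk0 hk1 m hm 𝓔 e he Φ c h =
      tr 𝒜 hpos h0 hk0 hk1 m hm 𝓔 e he (Φ.symm h c) := rfl

include hΦ in
/-- **a `*`canonical module is the graded `k`-dual of the top local cohomology.** -/
theorem isGDual_cbeta :
    GrSeg.IsGDual R ℋ 𝒞 (cbeta 𝒜 hpos h0 hk0 hk1 m hm 𝓔 e he Φ) := by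
  refine ⟨fun r c h => ?_, fun n c hc j hj h hh => ?_, fun n c hc hvan => ?_, fun n g => ?_⟩
  · rw [cbeta_apply, cbeta_apply, LinearEquiv.map_smul, LinearMap.smul_apply, LinearMap.map_smul]
  · rw [cbeta_apply]
    apply tr_of_mem_ne 𝒜 hpos h0 hk0 hk1 m hm 𝓔 e he (j := n + j)
    · intro h1
      apply hj
      omega
    · exact Groth.Agent.Lib.Helper20.GrDual.symm_mem_homDeg 𝒜 𝒞 𝓔 ℋ Φ hΦ hh n c hc
  · by_contra hc0
    obtain ⟨f, hf, hfc⟩ := Groth.Agent.Lib.Helper20.GrDual.exists_hom_ne_zero 𝒜 hpos h0 m hm 𝓔 e he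
      𝒞 hc hc0
    apply hfc
    have h2 := hvan (Φ f) (hΦ (-n) f hf)
    rw [cbeta_apply, Φ.symm_apply_apply] at h2
    have h3 : f c ∈ 𝓔 (n + -n) := hf n c hc
    rw [add_neg_cancel] at h3
    exact eq_zero_of_tr_eq_zero 𝒜 hpos h0 hk0 hk1 m hm 𝓔 e he h3 h2
  · -- the functional `h ↦ g h • e 1` on `H_{-n}`
    have hmem : ∀ h : H, g h • e 1 ∈ 𝓔 0 := fun h =>
      smul_mem_piece_k 𝒜 hk0 𝓔 0 _ _ (e_one_mem 𝒜 hpos m hm 𝓔 e he)
    let ℓ : comp 𝒜 ℋ (-n) →ₗ[deg0 𝒜] comp 𝒜 𝓔 0 :=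
      { toFun := fun h => ⟨g h.1 • e 1, hmem h.1⟩
        map_add' := fun h h' => Subtype.ext (by
          change g (h.1 + h'.1) • e 1 = g h.1 • e 1 + g h'.1 • e 1
          rw [map_add, add_smul])
        map_smul' := fun a h => Subtype.ext (by
          obtain ⟨c, hc⟩ := hk1 a.1 a.2
          change g ((a : R) • h.1) • e 1 = (a : R) • (g h.1 • e 1)
          rw [← hc, algebraMap_smul, algebraMap_smul, LinearMap.map_smul, smul_eq_mul, mul_smul]) }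
    obtain ⟨c, hc⟩ := Groth.Agent.Lib.Helper20.GrDual.pairV_surjective 𝒜 hpos h0 m hm 𝓔 e he 𝒞 ℋ Φ hΦ
      n ℓ
    refine ⟨c.1, c.2, fun h hh => ?_⟩
    rw [cbeta_apply]
    have h1 := congrArg (fun φ => ((φ ⟨h, hh⟩ : comp 𝒜 𝓔 0) : E)) hc
    have h2 : Φ.symm h c.1 = g h • e 1 := h1
    rw [h2]
    exact tr_smul_e_one 𝒜 hpos h0 hk0 hk1 m hm 𝓔 e he (g h)

end beta

end Groth.Agent.Lib.Helper20.GrLD
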