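import Groth.Agent.Lib.Helper20.GrLD8
import Groth.Agent.Lib.Helper20.GrLD9
import Groth.Agent.Lib.Helper20.GrLD13
import Groth.Agent.Lib.Helper20.DepthMaxLoc
import Groth.Agent.Lib.Helper20.GrHeight2
import Groth.Agent.Lib.Helper20.GrArtin

/-!
# `K_S ≅ Ext^{dim R - dim S}_R(S, K_R)` for a finite map of graded rings over a field (helper20)
-/

set_option autoImplicit false
set_option linter.style.haveILetI false
set_option linter.unusedSectionVars false
set_option linter.unusedVariables false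
set_option maxHeartbeats 3200000

universe u

open CategoryTheory GrLC DirectSum Groth.Agent.Lib.Helper4.LC Groth.Agent.Lib.Helper20.GrLES2

namespace Groth.Agent.Lib.Helper20.GrLD

section transport

variable {k : Type u} [Field k] {R : Type u} [CommRing R] {S : Type u} [CommRing S]
  [Algebra k R] [Algebra k S] [Algebra R S] [IsScalarTower k R S]
  {A : Type u} [AddCommGroup A] [Module S A] [Module k A] [IsScalarTower k S A]
  (𝒜A : ℤ → AddSubgroup A) [DirectSum.Decomposition 𝒜A]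
  {B : Type u} [AddCommGroup B] [Module R B] [Module k B] [IsScalarTower k R B]
  (ℬ : ℤ → AddSubgroup B) [DirectSum.Decomposition ℬ]
  {D : Type u} [AddCommGroup D] [Module S D] [Module R D] [IsScalarTower R S D] [Module k D]
  [IsScalarTower k S D] [IsScalarTower k R D]
  (𝒟 : ℤ → AddSubgroup D) [DirectSum.Decomposition 𝒟]
  {βA : D →ₗ[k] A →ₗ[k] k} (hA : GrSeg.IsGDual S 𝒜A 𝒟 βA)

include hA in
/-- transport of a graded dual along an additive semilinear homogeneous bijection. -/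
theorem exists_isGDual_of_semilinear (Θ : A ≃+ B)
    (hΘ : ∀ (r : R) (x : A), Θ (algebraMap R S r • x) = r • Θ x)
    (hgr : ∀ (e : ℤ) (x : A), x ∈ 𝒜A e → Θ x ∈ ℬ e)
    (hgr' : ∀ (e : ℤ) (h : B), h ∈ ℬ e → Θ.symm h ∈ 𝒜A e) :
    ∃ β : D →ₗ[k] B →ₗ[k] k, GrSeg.IsGDual R ℬ 𝒟 β := by
  have hsymm : ∀ (r : R) (h : B), Θ.symm (r • h) = algebraMap R S r • Θ.symm h := by
    intro r h
    rw [AddEquiv.symm_apply_eq, hΘ, Θ.apply_symm_apply]
  have hsymmk : ∀ (a : k) (h : B), Θ.symm (a • h) = a • Θ.symm h := by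
    intro a h
    rw [← algebraMap_smul R a h, hsymm, ← IsScalarTower.algebraMap_apply, algebraMap_smul]
  have hΘk : ∀ (a : k) (x : A), Θ (a • x) = a • Θ x := by
    intro a x
    rw [← algebraMap_smul S a x, IsScalarTower.algebraMap_apply k R S, hΘ, algebraMap_smul]
  let β : D →ₗ[k] B →ₗ[k] k :=
    LinearMap.mk₂ k (fun d h => βA d (Θ.symm h))
      (fun d d' h => by rw [map_add, LinearMap.add_apply])
      (fun a d h => by rw [map_smul, LinearMap.smul_apply])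
      (fun d h h' => by rw [map_add, map_add])
      (fun a d h => by rw [hsymmk, map_smul])
  have hβ : ∀ d h, β d h = βA d (Θ.symm h) := fun d h => rfl
  refine ⟨β, ⟨fun r d x => ?_, fun n d hd j hj x hx => ?_, fun n d hd h => ?_, fun n g => ?_⟩⟩
  · rw [hβ, hβ, hsymm, ← hA.map_smul, algebraMap_smul]
  · rw [hβ]
    exact hA.vanish n d hd j hj _ (hgr' j x hx)
  · apply hA.eq_zero n d hd
    intro x hx
    have := h (Θ x) (hgr _ x hx)
    rwa [hβ, Θ.symm_apply_apply] at this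
  · let g' : A →ₗ[k] k :=
      { toFun := fun x => g (Θ x)
        map_add' := fun x y => by rw [map_add, map_add]
        map_smul' := fun a x => by rw [hΘk, map_smul, RingHom.id_apply] }
    obtain ⟨d, hd, hdg⟩ := hA.exists_eq n g'
    refine ⟨d, hd, fun x hx => ?_⟩
    rw [hβ, hdg _ (hgr' _ x hx)]
    show g (Θ (Θ.symm x)) = g x
    rw [Θ.apply_symm_apply]

end transport

section main

theorem ringKrullDim_le_of_finite (R S : Type u) [CommRing R] [CommRing S] [Algebra R S]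
    [Module.Finite R S] : ringKrullDim S ≤ ringKrullDim R := by
  haveI : Algebra.IsIntegral R S := Algebra.IsIntegral.of_finite R S
  exact Order.krullDim_le_of_strictMono
    (fun p : PrimeSpectrum S =>
      (⟨p.asIdeal.comap (algebraMap R S), inferInstance⟩ : PrimeSpectrum R))
    (fun p q hpq => by
      have h1 : p.asIdeal < q.asIdeal := hpq
      exact Ideal.IsIntegral.comap_lt_comap h1)

/-- **`K_S ≅ Ext^{n - n'}_R(S, K_R)`**, over an abstract common field of definition. -/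
theorem canonical_equiv_ext {k : Type u} [Field k] (R : Type u) [CommRing R]
    [LocCoh.IsCohenMacaulayRing R] [Algebra k R]
    (𝒜 : ℤ → AddSubgroup R) [GradedRing 𝒜] (hpos : ∀ n : ℤ, n < 0 → 𝒜 n = ⊥)
    (h0 : IsField (deg0 𝒜))
    (hk0 : ∀ c : k, algebraMap k R c ∈ 𝒜 0) (hk1 : ∀ x ∈ 𝒜 0, ∃ c : k, algebraMap k R c = x)
    (m : HomogeneousIdeal 𝒜) (hm : IsStarLocal 𝒜 m)
    (hmsp : m.toIdeal = Ideal.span (⋃ n ∈ Set.Ioi (0 : ℤ), (𝒜 n : Set R)))
    (n : ℕ) (hn : ringKrullDim R = n) (I : StarInjRes 𝒜 𝒜)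
    (E' : Type u) [AddCommGroup E'] [Module R E'] (𝓔 : ℤ → AddSubgroup E')
    [DirectSum.Decomposition 𝓔] [SetLike.GradedSMul 𝒜 𝓔] (e : (R ⧸ m.toIdeal) →ₗ[R] E')
    (he : IsStarInjHull 𝒜 (quotGr 𝒜 m) 𝓔 e)
    (C : Type u) [AddCommGroup C] [Module R C] (𝒞 : ℤ → AddSubgroup C)
    [DirectSum.Decomposition 𝒞] [SetLike.GradedSMul 𝒜 𝒞] (hC : IsStarCanonical 𝒜 𝒞 𝓔 m n I)
    (S : Type u) [CommRing S] [IsNoetherianRing S] [Algebra R S] [Module.Finite R S]
    [Algebra k S] [IsScalarTower k R S]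
    (𝒜' : ℤ → AddSubgroup S) [GradedRing 𝒜']
    (hf : ∀ j : ℤ, (𝒜 j).map (algebraMap R S : R →+ S) ≤ 𝒜' j)
    (hk1' : ∀ x ∈ 𝒜' 0, ∃ c : k, algebraMap k S c = x)
    (hpos' : ∀ j : ℤ, j < 0 → 𝒜' j = ⊥) (h0' : IsField (deg0 𝒜'))
    (m' : HomogeneousIdeal 𝒜')
    (hm'sp : m'.toIdeal = Ideal.span (⋃ j ∈ Set.Ioi (0 : ℤ), (𝒜' j : Set S)))
    (n' : ℕ) (hn' : ringKrullDim S = n') (I' : StarInjRes 𝒜' 𝒜')
    (E'' : Type u) [AddCommGroup E''] [Module S E''] (𝓔'' : ℤ → AddSubgroup E'')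
    [DirectSum.Decomposition 𝓔''] [SetLike.GradedSMul 𝒜' 𝓔'']
    (e' : (S ⧸ m'.toIdeal) →ₗ[S] E'') (he' : IsStarInjHull 𝒜' (quotGr 𝒜' m') 𝓔'' e')
    (C' : Type u) [AddCommGroup C'] [Module S C'] [Module R C'] [IsScalarTower R S C']
    (𝒞' : ℤ → AddSubgroup C') [DirectSum.Decomposition 𝒞'] [SetLike.GradedSMul 𝒜' 𝒞']
    (hC' : IsStarCanonical 𝒜' 𝒞' 𝓔'' m' n' I') :
    Nonempty (C' ≃ₗ[R]
      Abelian.Ext.{u} (ModuleCat.of R S) (ModuleCat.of R C) (n - n')) := by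
  classical
  -- the `R`-side
  letI : Module k C := kMod (k := k) (R := R) C
  haveI : IsScalarTower k R C := kTower (k := k) (R := R) C
  letI : Module k E' := kMod (k := k) (R := R) E'
  haveI : IsScalarTower k R E' := kTower (k := k) (R := R) E'
  letI : Module k (I.H m n) := kMod (k := k) (R := R) (I.H m n)
  haveI : IsScalarTower k R (I.H m n) := kTower (k := k) (R := R) (I.H m n)
  letI := decH I m n
  obtain ⟨hfin, Φ, hΦ⟩ := hC
  haveI := hfin
  have hK := isGDual_cbeta 𝒜 hpos h0 hk0 hk1 m hmsp 𝓔 e he 𝒞 (I.Hgr m n) Φ hΦ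
  -- the `S`-side
  have hk0' : ∀ c : k, algebraMap k S c ∈ 𝒜' 0 := fun c => by
    rw [IsScalarTower.algebraMap_apply k R S]
    exact hf 0 ⟨_, hk0 c, rfl⟩
  letI : Module k C' := kMod (k := k) (R := S) C'
  haveI : IsScalarTower k S C' := kTower (k := k) (R := S) C'
  haveI : IsScalarTower k R C' := IsScalarTower.of_algebraMap_smul (fun c x => by
    rw [← algebraMap_smul S (algebraMap k R c) x, ← IsScalarTower.algebraMap_apply]
    rfl)
  letI : Module k E'' := kMod (k := k) (R := S) E''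
  haveI : IsScalarTower k S E'' := kTower (k := k) (R := S) E''
  letI : Module k (I'.H m' n') := kMod (k := k) (R := S) (I'.H m' n')
  haveI : IsScalarTower k S (I'.H m' n') := kTower (k := k) (R := S) (I'.H m' n')
  letI := decH I' m' n'
  obtain ⟨hfin', Φ', hΦ'⟩ := hC'
  haveI := hfin'
  have hK' := isGDual_cbeta 𝒜' hpos' h0' hk0' hk1' m' hm'sp 𝓔'' e' he' 𝒞' (I'.Hgr m' n') Φ' hΦ'
  -- an `R`-resolution of `S` and the comparison
  haveI : SetLike.GradedSMul 𝒜 𝒜' := gradedSMul_res 𝒜 𝒜' hf 𝒜'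
  obtain ⟨ES⟩ := Groth.Agent.S13215.result R 𝒜 S 𝒜'
  obtain ⟨Θ, hΘ, hΘgr, hΘgr'⟩ := exists_theta 𝒜 𝒜' hf m hmsp m' hm'sp 𝒜' I' ES n'
  letI : Module k (ES.H m n') := kMod (k := k) (R := R) (ES.H m n')
  haveI : IsScalarTower k R (ES.H m n') := kTower (k := k) (R := R) (ES.H m n')
  letI := decH ES m n'
  obtain ⟨β'', hβ''⟩ := exists_isGDual_of_semilinear (R := R) (I'.Hgr m' n') (ES.Hgr m n') 𝒞' hK'
    Θ hΘ hΘgr hΘgr'
  -- Cohen–Macaulay vanishing
  haveI hmax : m.toIdeal.IsMaximal :=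
    Groth.Agent.Lib.Helper20.GrArtin.isMaximal_of_isCoatom 𝒜 hpos m hm.1
  have hdimht := Groth.Agent.Lib.Helper20.GrHeight2.ringKrullDim_eq_height 𝒜 m hm hpos
  have hht : m.toIdeal.height = ((n : ℕ) : ℕ∞) := by
    have : ((m.toIdeal.height : ℕ∞) : WithBot ℕ∞) = (((n : ℕ) : ℕ∞) : WithBot ℕ∞) := by
      rw [← hdimht, hn]
      rfl
    exact_mod_cast this
  have hvan : ∀ i, i < n → Subsingleton (HH m.toIdeal (ModuleCat.of R R) i) := by
    intro i hi
    exact Groth.Agent.Lib.Helper20.DepthMaxLoc.HH.subsingleton_of_lt_height m.toIdeal i (by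
      rw [hht]
      exact_mod_cast hi)
  have hdim : ringKrullDim R < ((n + 1 : ℕ) : WithBot ℕ∞) := by
    rw [hn]
    exact_mod_cast Nat.lt_succ_self n
  have hle : n' ≤ n := by
    have h1 := ringKrullDim_le_of_finite R S
    rw [hn, hn'] at h1
    exact_mod_cast h1
  have hdual := dualAt 𝒜 hk0 m C n hdim I 𝒞 _ hK hvan (n - n') n' (by omega)
  obtain ⟨ε⟩ := hdual S 𝒜' ES C' 𝒞' β'' hβ''
  exact ⟨ε.symm⟩

end main

end Groth.Agent.Lib.Helper20.GrLD
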