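import Groth.Agent.Lib.Helper20.GrLD1

/-!
# The concrete graded dual is a graded dual (helper20)
-/

set_option autoImplicit false
set_option linter.style.haveILetI false
set_option linter.unusedSectionVars false
set_option linter.unusedVariables false
set_option maxHeartbeats 400000

universe u

open DirectSum GrLC

namespace Groth.Agent.Lib.Helper20.GrLD

open Groth.Agent.Lib.Helper20.SegGr

section gdual

variable {k : Type u} [Field k] {R : Type u} [CommRing R] [Algebra k R]
  (𝒜 : ℤ → AddSubgroup R) [GradedRing 𝒜]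
  {M : Type u} [AddCommGroup M] [Module R M] [Module k M] [IsScalarTower k R M]
  (ℳ : ℤ → AddSubgroup M) [DirectSum.Decomposition ℳ] [SetLike.GradedSMul 𝒜 ℳ]
  (hk : ∀ (e : ℤ) (c : k) (x : M), x ∈ ℳ e → c • x ∈ ℳ e)

/-- the underlying functional, additively. -/
def fnAdd : GD (k := k) 𝒜 ℳ →+ (M →ₗ[k] k) where
  toFun f := f.fn
  map_zero' := rfl
  map_add' _ _ := rfl

theorem fnAdd_apply (f : GD (k := k) 𝒜 ℳ) : fnAdd 𝒜 ℳ f = f.fn := rfl

/-- a functional vanishing on all homogeneous elements is zero. -/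
theorem GD.eq_zero_of_forall_mem {f : GD (k := k) 𝒜 ℳ} (h : ∀ i, ∀ x ∈ ℳ i, f.fn x = 0) :
    f = 0 := by
  classical
  ext x
  rw [GD.fn_zero, ← DirectSum.sum_support_decompose ℳ x, map_sum]
  exact Finset.sum_eq_zero fun i _ => h i _ (SetLike.coe_mem _)

/-- the `k`-linear projection onto a piece. -/
noncomputable def prK (i : ℤ) : M →ₗ[k] M := (PFam.ofDec ℳ hk).p i

theorem prK_apply (i : ℤ) (x : M) : prK ℳ hk i x = ((decompose ℳ x i : ℳ i) : M) := rfl

/-- the component of a functional supported on the piece of degree `i`. -/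
noncomputable def compAt (f : GD (k := k) 𝒜 ℳ) (i : ℤ) : GD (k := k) 𝒜 ℳ :=
  ⟨f.1 ∘ₗ prK ℳ hk i, ⟨{i}, fun j hj x hx => by
    rw [LinearMap.comp_apply, prK_apply, decompose_of_mem_ne ℳ hx (by simpa using hj), map_zero]⟩⟩

theorem compAt_fn (f : GD (k := k) 𝒜 ℳ) (i : ℤ) (x : M) :
    (compAt 𝒜 ℳ hk f i).fn x = f.fn ((decompose ℳ x i : ℳ i) : M) := rfl

theorem compAt_mem (f : GD (k := k) 𝒜 ℳ) (i : ℤ) : compAt 𝒜 ℳ hk f i ∈ gdGr 𝒜 ℳ (-i) := by
  intro j hj x hx
  rw [neg_neg] at hj
  rw [compAt_fn, decompose_of_mem_ne ℳ hx hj, map_zero]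

include hk in
theorem isInternal_gdGr : DirectSum.IsInternal (gdGr (k := k) 𝒜 ℳ) := by
  classical
  constructor
  · rw [injective_iff_map_eq_zero]
    intro y hy
    apply DFinsupp.ext
    intro a₀
    apply Subtype.ext
    change (y a₀ : GD (k := k) 𝒜 ℳ) = 0
    apply GD.eq_zero_of_forall_mem
    intro i x hx
    by_cases hi : i = -a₀
    · subst hi
      have h1 : DirectSum.coeAddMonoidHom (gdGr (k := k) 𝒜 ℳ) y =
          ∑ a ∈ y.support, (y a : GD (k := k) 𝒜 ℳ) := by
        rw [DirectSum.coeAddMonoidHom_eq_dfinsuppSum, DFinsupp.sum]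
      rw [h1] at hy
      have h2 := congrArg (fun g => fnAdd 𝒜 ℳ g x) hy
      simp only [map_sum, LinearMap.sum_apply, fnAdd_apply] at h2
      rw [GD.fn_zero] at h2
      by_cases ha : a₀ ∈ y.support
      · rw [Finset.sum_eq_single a₀] at h2
        · exact h2
        · intro a _ hne
          exact (y a).2 (-a₀) (by intro h; apply hne; omega) x hx
        · intro h
          exact absurd ha h
      · rw [DFinsupp.notMem_support_iff] at ha
        rw [ha]
        rfl
    · exact (y a₀).2 i hi x hx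
  · intro f
    obtain ⟨s, hs⟩ := f.2
    refine ⟨∑ i ∈ s, DirectSum.of (fun a => gdGr (k := k) 𝒜 ℳ a) (-i)
      ⟨compAt 𝒜 ℳ hk f i, compAt_mem 𝒜 ℳ hk f i⟩, ?_⟩
    rw [map_sum]
    simp only [DirectSum.coeAddMonoidHom_of]
    ext x
    have h3 : (∑ i ∈ s, compAt 𝒜 ℳ hk f i).fn x = ∑ i ∈ s, (compAt 𝒜 ℳ hk f i).fn x := by
      have := congrArg (fun g : M →ₗ[k] k => g x) (map_sum (fnAdd 𝒜 ℳ) (compAt 𝒜 ℳ hk f) s)
      simpa only [LinearMap.sum_apply, fnAdd_apply] using this
    rw [h3]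
    simp only [compAt_fn]
    conv_rhs => rw [← DirectSum.sum_support_decompose ℳ x, map_sum]
    have e1 : ∑ i ∈ s, f.fn ((decompose ℳ x i : ℳ i) : M) =
        ∑ i ∈ s ∪ (decompose ℳ x).support, f.fn ((decompose ℳ x i : ℳ i) : M) := by
      apply Finset.sum_subset Finset.subset_union_left
      intro i _ hi
      exact hs i hi _ (SetLike.coe_mem _)
    have e2 : ∑ i ∈ (decompose ℳ x).support, f.fn ((decompose ℳ x i : ℳ i) : M) =
        ∑ i ∈ s ∪ (decompose ℳ x).support, f.fn ((decompose ℳ x i : ℳ i) : M) := by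
      apply Finset.sum_subset Finset.subset_union_right
      intro i _ hi
      rw [DFinsupp.notMem_support_iff] at hi
      rw [hi]
      exact map_zero _
    rw [e1, e2]

/-- the decomposition of the graded dual. -/
noncomputable def gdDecomposition : DirectSum.Decomposition (gdGr (k := k) 𝒜 ℳ) :=
  (isInternal_gdGr 𝒜 ℳ hk).chooseDecomposition

include hk in
/-- **the concrete graded dual is a graded dual.** -/
theorem isGDual_gd :
    letI := gdDecomposition 𝒜 ℳ hk
    GrSeg.IsGDual R ℳ (gdGr (k := k) 𝒜 ℳ) (gdPair 𝒜 ℳ) := by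
  letI := gdDecomposition 𝒜 ℳ hk
  refine ⟨fun r d x => rfl, fun n d hd m hm x hx => hd m hm x hx, fun n d hd h => ?_,
    fun n g => ?_⟩
  · apply GD.eq_zero_of_forall_mem
    intro i x hx
    by_cases hi : i = -n
    · subst hi
      exact h x hx
    · exact hd i hi x hx
  · refine ⟨⟨g ∘ₗ prK ℳ hk (-n), ⟨{-n}, fun j hj x hx => ?_⟩⟩, ?_, ?_⟩
    · rw [LinearMap.comp_apply, prK_apply, decompose_of_mem_ne ℳ hx (by simpa using hj),
        map_zero]
    · intro j hj x hx
      change g (prK ℳ hk (-n) x) = 0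
      rw [prK_apply, decompose_of_mem_ne ℳ hx hj, map_zero]
    · intro x hx
      change g (prK ℳ hk (-n) x) = g x
      rw [prK_apply, decompose_of_mem_same ℳ hx]

end gdual

end Groth.Agent.Lib.Helper20.GrLD
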