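import Mathlib
import Groth.Prelude.Def_GrLC
import Groth.Prelude.Def_GrSeg
import Groth.Agent.Lib.Helper29.GrDual
import Groth.Agent.Lib.Helper20.GrLCBasic

/-!
# Dual maps between graded duals, and exactness of the graded dual (helper20)
-/

set_option autoImplicit false
set_option linter.style.haveILetI false
set_option linter.unusedSectionVars false
set_option linter.unusedVariables false
set_option maxHeartbeats 400000

universe u

open DirectSum GrLC

namespace Groth.Agent.Lib.Helper20.GrLD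

open Groth.Agent.Lib.Helper29.GrDual (left_ext left_nondeg exists_of_vanish mem_of_vanish)
open Groth.Agent.Lib.Helper20.GrLCBasic

section dualmaps

variable {k : Type u} [Field k] {R : Type u} [CommRing R] [Algebra k R]
  {A : Type u} [AddCommGroup A] [Module R A] [Module k A] [IsScalarTower k R A]
  (𝒜A : ℤ → AddSubgroup A) [DirectSum.Decomposition 𝒜A]
  {B : Type u} [AddCommGroup B] [Module R B] [Module k B] [IsScalarTower k R B]
  (ℬ : ℤ → AddSubgroup B) [DirectSum.Decomposition ℬ]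
  {B' : Type u} [AddCommGroup B'] [Module R B'] [Module k B'] [IsScalarTower k R B']
  (ℬ' : ℤ → AddSubgroup B') [DirectSum.Decomposition ℬ']
  {DA : Type u} [AddCommGroup DA] [Module R DA] [Module k DA] [IsScalarTower k R DA]
  (𝒟A : ℤ → AddSubgroup DA) [DirectSum.Decomposition 𝒟A]
  {βA : DA →ₗ[k] A →ₗ[k] k} (hA : GrSeg.IsGDual R 𝒜A 𝒟A βA)
  {DB : Type u} [AddCommGroup DB] [Module R DB] [Module k DB] [IsScalarTower k R DB]
  (𝒟B : ℤ → AddSubgroup DB) [DirectSum.Decomposition 𝒟B]
  {βB : DB →ₗ[k] B →ₗ[k] k} (hB : GrSeg.IsGDual R ℬ 𝒟B βB)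
  {DB' : Type u} [AddCommGroup DB'] [Module R DB'] [Module k DB'] [IsScalarTower k R DB']
  (𝒟B' : ℤ → AddSubgroup DB') [DirectSum.Decomposition 𝒟B']
  {βB' : DB' →ₗ[k] B' →ₗ[k] k} (hB' : GrSeg.IsGDual R ℬ' 𝒟B' βB')
  (u : A →ₗ[R] B) (hu : IsGrHom 𝒜A ℬ u)
  (v : B →ₗ[R] B') (hv : IsGrHom ℬ ℬ' v)

include hA hB hu in
/-- the dual of a graded map. -/
theorem exists_dualMap : ∃ uD : DB →ₗ[R] DA, (∀ d a, βA (uD d) a = βB d (u a)) ∧
    ∀ n, ∀ d ∈ 𝒟B n, uD d ∈ 𝒟A n := by
  let γ : DB →+ (A →ₗ[k] k) :=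
    { toFun := fun d => (βB d) ∘ₗ (u.restrictScalars k)
      map_zero' := by
        apply LinearMap.ext
        intro a
        simp
      map_add' := by
        intro d d'
        apply LinearMap.ext
        intro a
        simp }
  obtain ⟨h, h1, h2⟩ := Groth.Agent.Lib.Helper29.GrDual.exists_lift hA 𝒟B γ 0
    (by
      intro n d hd m hm y hy
      change βB d (u y) = 0
      rw [add_zero] at hm
      exact hB.vanish n d hd m hm _ (hu m y hy))
    (by
      intro r d y
      change βB (r • d) (u y) = βB d (u (r • y))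
      rw [hB.map_smul, u.map_smul])
  refine ⟨h, fun d a => h1 d a, fun n d hd => ?_⟩
  have := h2 n d hd
  rwa [add_zero] at this

include hA hB hu in
/-- the dual of an injective graded map is surjective. -/
theorem dualMap_surjective (hinj : Function.Injective u) (uD : DB →ₗ[R] DA)
    (huD : ∀ d a, βA (uD d) a = βB d (u a)) : Function.Surjective uD := by
  classical
  obtain ⟨ℓ, hℓ⟩ := LinearMap.exists_leftInverse_of_injective (u.restrictScalars k)
    (LinearMap.ker_eq_bot.2 hinj)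
  have hℓ' : ∀ a, ℓ (u a) = a := fun a => LinearMap.congr_fun hℓ a
  intro a
  induction a using DirectSum.Decomposition.inductionOn 𝒟A with
  | zero => exact ⟨0, map_zero _⟩
  | @homogeneous n a =>
    obtain ⟨d, hd, hdg⟩ := hB.exists_eq n ((βA (a : DA)) ∘ₗ ℓ)
    refine ⟨d, ?_⟩
    apply left_ext hA
    intro y
    rw [huD]
    induction y using DirectSum.Decomposition.inductionOn 𝒜A with
    | zero => simp
    | @homogeneous m y =>
      by_cases hm : m = -n
      · subst hm
        rw [hdg _ (hu _ _ y.2), LinearMap.comp_apply, hℓ']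
      · rw [hB.vanish n d hd m hm _ (hu m _ y.2), hA.vanish n _ a.2 m hm _ y.2]
    | add y y' hy hy' => rw [map_add, map_add, hy, hy', map_add]
  | add a a' ha ha' =>
    obtain ⟨d, hd⟩ := ha
    obtain ⟨d', hd'⟩ := ha'
    exact ⟨d + d', by rw [map_add, hd, hd']⟩

include hB hB' hv in
/-- exactness of the graded dual in the middle, for homogeneous elements. -/
theorem exists_dualMap_eq_of_homogeneous (hex : Function.Exact u v)
    (vD : DB' →ₗ[R] DB) (hvD : ∀ d b, βB (vD d) b = βB' d (v b))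
    {n : ℤ} {d : DB} (hd : d ∈ 𝒟B n) (hdu : ∀ a, βB d (u a) = 0) : ∃ d', vD d' = d := by
  classical
  let vk : B →ₗ[k] B' := v.restrictScalars k
  have hle : LinearMap.ker vk ≤ LinearMap.ker (βB d) := by
    intro b hb
    have hb' : v b = 0 := hb
    obtain ⟨a, rfl⟩ := (hex b).1 hb'
    exact hdu a
  let q : (B ⧸ LinearMap.ker vk) →ₗ[k] k := (LinearMap.ker vk).liftQ (βB d) hle
  let f₀ : LinearMap.range vk →ₗ[k] k := q ∘ₗ vk.quotKerEquivRange.symm.toLinearMap
  obtain ⟨g, hg⟩ := LinearMap.exists_extend f₀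
  have hgv : ∀ b, g (v b) = βB d b := by
    intro b
    have h1 : g (v b) = f₀ ⟨vk b, LinearMap.mem_range_self vk b⟩ := by
      rw [← hg]
      rfl
    rw [h1]
    change q (vk.quotKerEquivRange.symm ⟨vk b, LinearMap.mem_range_self vk b⟩) = _
    rw [LinearMap.quotKerEquivRange_symm_apply_image]
    rfl
  obtain ⟨d', hd', hd'g⟩ := hB'.exists_eq n g
  refine ⟨d', ?_⟩
  apply left_ext hB
  intro y
  rw [hvD]
  induction y using DirectSum.Decomposition.inductionOn ℬ with
  | zero => simp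
  | @homogeneous m y =>
    by_cases hm : m = -n
    · subst hm
      rw [hd'g _ (hv _ _ y.2), hgv]
    · rw [hB'.vanish n d' hd' m hm _ (hv m _ y.2), hB.vanish n d hd m hm _ y.2]
  | add y y' hy hy' => rw [map_add, map_add, hy, hy', map_add]

include hA hB hB' hu hv in
/-- **exactness of the graded dual in the middle.** -/
theorem exists_dualMap_eq (hex : Function.Exact u v)
    (uD : DB →ₗ[R] DA) (huD : ∀ d a, βA (uD d) a = βB d (u a))
    (huDgr : ∀ n, ∀ d ∈ 𝒟B n, uD d ∈ 𝒟A n)
    (vD : DB' →ₗ[R] DB) (hvD : ∀ d b, βB (vD d) b = βB' d (v b))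
    (d : DB) (hd : uD d = 0) : ∃ d', vD d' = d := by
  classical
  have hgr : IsGrHom 𝒟B 𝒟A uD := fun n d hd => huDgr n d hd
  have hcomp : ∀ n, uD ((decompose 𝒟B d n : 𝒟B n) : DB) = 0 := by
    intro n
    rw [← decompose_map 𝒟B 𝒟A uD hgr d n, hd, decompose_zero, DirectSum.zero_apply]
    rfl
  have hex' : ∀ n, ∃ d', vD d' = ((decompose 𝒟B d n : 𝒟B n) : DB) := by
    intro n
    apply exists_dualMap_eq_of_homogeneous ℬ ℬ' 𝒟B hB 𝒟B' hB' u v hv hex vD hvD
      (SetLike.coe_mem (decompose 𝒟B d n))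
    intro a
    rw [← huD, hcomp n, map_zero, LinearMap.zero_apply]
  choose d' hd' using hex'
  refine ⟨∑ n ∈ (decompose 𝒟B d).support, d' n, ?_⟩
  rw [map_sum]
  conv_rhs => rw [← DirectSum.sum_support_decompose 𝒟B d]
  exact Finset.sum_congr rfl (fun n _ => hd' n)

include hA hB' in
/-- the composite of dual maps of a zero composite is zero. -/
theorem dualMap_comp_eq_zero (hvu : ∀ a, v (u a) = 0)
    (uD : DB →ₗ[R] DA) (huD : ∀ d a, βA (uD d) a = βB d (u a))
    (vD : DB' →ₗ[R] DB) (hvD : ∀ d b, βB (vD d) b = βB' d (v b)) (d' : DB') :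
    uD (vD d') = 0 := by
  apply left_nondeg hA
  intro a
  rw [huD, hvD, hvu, map_zero]

end dualmaps

section transport

variable {k : Type u} [Field k] {R : Type u} [CommRing R] [Algebra k R]
  {A : Type u} [AddCommGroup A] [Module R A] [Module k A] [IsScalarTower k R A]
  (𝒜A : ℤ → AddSubgroup A) [DirectSum.Decomposition 𝒜A]
  {B : Type u} [AddCommGroup B] [Module R B] [Module k B] [IsScalarTower k R B]
  (ℬ : ℤ → AddSubgroup B) [DirectSum.Decomposition ℬ]
  {D : Type u} [AddCommGroup D] [Module R D] [Module k D] [IsScalarTower k R D]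
  (𝒟 : ℤ → AddSubgroup D) [DirectSum.Decomposition 𝒟]
  {βA : D →ₗ[k] A →ₗ[k] k} (hA : GrSeg.IsGDual R 𝒜A 𝒟 βA)

include hA in
/-- transport of a graded dual along a graded isomorphism. -/
theorem isGDual_of_equiv (w : B ≃ₗ[R] A) (hw : IsGrHom ℬ 𝒜A w.toLinearMap)
    (hw' : IsGrHom 𝒜A ℬ w.symm.toLinearMap) :
    GrSeg.IsGDual R ℬ 𝒟
      ((LinearMap.lcomp k k (w.toLinearMap.restrictScalars k)) ∘ₗ βA) := by
  refine ⟨fun r d x => ?_, fun n d hd m hm x hx => ?_, fun n d hd h => ?_, fun n g => ?_⟩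
  · change βA (r • d) (w x) = βA d (w (r • x))
    rw [hA.map_smul, w.map_smul]
  · change βA d (w x) = 0
    exact hA.vanish n d hd m hm _ (hw m x hx)
  · apply hA.eq_zero n d hd
    intro x hx
    have := h (w.symm x) (hw' _ x hx)
    change βA d (w (w.symm x)) = 0 at this
    rwa [w.apply_symm_apply] at this
  · obtain ⟨d, hd, hdg⟩ := hA.exists_eq n (g ∘ₗ (w.symm.toLinearMap.restrictScalars k))
    refine ⟨d, hd, fun x hx => ?_⟩
    change βA d (w x) = g x
    have h1 : βA d (w x) = (g ∘ₗ (w.symm.toLinearMap.restrictScalars k)) (w x) :=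
      hdg (w x) (hw _ x hx)
    rw [h1]
    change g (w.symm (w x)) = g x
    rw [w.symm_apply_apply]

end transport

end Groth.Agent.Lib.Helper20.GrLD
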