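import Mathlib

/-!
# Dimension shifting for `Ext` along a short exact sequence with projective middle term (helper20)
-/

set_option autoImplicit false
set_option linter.style.haveILetI false
set_option linter.unusedSectionVars false
set_option linter.unusedVariables false
set_option maxHeartbeats 400000

open CategoryTheory Limits Abelian

universe u

namespace Groth.Agent.Lib.Helper20.GrLD

variable {R : Type u} [CommRing R]

/-- `Ext^0(M, K) ≃ Hom(M, K)`. -/
noncomputable def extZeroEquiv (M K : Type u) [AddCommGroup M] [Module R M] [AddCommGroup K]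
    [Module R K] : Ext.{u} (ModuleCat.of R M) (ModuleCat.of R K) 0 ≃ₗ[R] (M →ₗ[R] K) :=
  (Ext.linearEquiv₀ (R := R)).trans
    (ModuleCat.homLinearEquiv (S := R) (M := ModuleCat.of R M) (N := ModuleCat.of R K))

section shift

variable {S : ShortComplex (ModuleCat.{u} R)} (hS : S.ShortExact) [Projective S.X₂]
  (K : ModuleCat.{u} R)

/-- the connecting map `Hom(Z, K) → Ext^1(N, K)`. -/
noncomputable def conn : (S.X₁ ⟶ K) →ₗ[R] Ext.{u} S.X₃ K 1 :=
  (Ext.precompOfLinear hS.extClass R K (add_zero 1)) ∘ₗ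
    ((Ext.linearEquiv₀ (R := R) (X := S.X₁) (Y := K)).symm.toLinearMap)

lemma conn_apply (φ : S.X₁ ⟶ K) :
    conn hS K φ = hS.extClass.comp (Ext.mk₀ φ) (add_zero 1) := rfl

include hS in
lemma subsingleton_ext_succ (q : ℕ) : Subsingleton (Ext.{u} S.X₂ K (q + 1)) :=
  ⟨fun a b => by rw [Ext.eq_zero_of_projective a, Ext.eq_zero_of_projective b]⟩

lemma conn_surjective : Function.Surjective (conn hS K) := by
  intro x₃
  haveI := subsingleton_ext_succ hS K 0
  obtain ⟨x₁, hx₁⟩ := Ext.contravariant_sequence_exact₃ hS K x₃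
    (Subsingleton.elim _ _) (add_zero 1)
  obtain ⟨φ, rfl⟩ := (Ext.mk₀_bijective _ _).2 x₁
  exact ⟨φ, hx₁⟩

lemma conn_eq_zero_iff (φ : S.X₁ ⟶ K) :
    conn hS K φ = 0 ↔ ∃ ψ : S.X₂ ⟶ K, S.f ≫ ψ = φ := by
  rw [conn_apply]
  constructor
  · intro h0
    obtain ⟨x₂, hx₂⟩ := Ext.contravariant_sequence_exact₁ hS K (Ext.mk₀ φ) (add_zero 1) h0
    obtain ⟨ψ, rfl⟩ := (Ext.mk₀_bijective _ _).2 x₂
    rw [Ext.mk₀_comp_mk₀] at hx₂
    exact ⟨ψ, (Ext.mk₀_bijective _ _).1 hx₂⟩
  · rintro ⟨ψ, rfl⟩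
    rw [← Ext.mk₀_comp_mk₀]
    exact hS.extClass_comp_assoc _

/-- `Ext^{q+1}(Z, K) ≃ Ext^{q+2}(N, K)`. -/
noncomputable def extShift (q : ℕ) :
    Ext.{u} S.X₁ K (q + 1) ≃ₗ[R] Ext.{u} S.X₃ K (q + 1 + 1) :=
  LinearEquiv.ofBijective
    (Ext.precompOfLinear hS.extClass R K (add_comm 1 (q + 1)))
    ⟨by
      rw [injective_iff_map_eq_zero]
      intro x₁ hx₁
      obtain ⟨x₂, hx₂⟩ := Ext.contravariant_sequence_exact₁ hS K x₁
        (add_comm 1 (q + 1)) hx₁
      haveI := subsingleton_ext_succ hS K q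
      rw [← hx₂, Subsingleton.elim x₂ 0, Ext.comp_zero],
    by
      intro x₃
      haveI := subsingleton_ext_succ hS K (q + 1)
      exact Ext.contravariant_sequence_exact₃ hS K x₃
        (Subsingleton.elim _ _) (add_comm 1 (q + 1))⟩

end shift

section modules

variable {Z F N K : Type u} [AddCommGroup Z] [Module R Z] [AddCommGroup F] [Module R F]
  [AddCommGroup N] [Module R N] [AddCommGroup K] [Module R K]
  (f : Z →ₗ[R] F) (g : F →ₗ[R] N) (hex : Function.Exact f g) (hf : Function.Injective f)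
  (hg : Function.Surjective g) [Module.Projective R F]

include hex hf hg in
/-- module form: `Ext^1(N, K)` is the cokernel of `Hom(F, K) → Hom(Z, K)`. -/
theorem exists_conn : ∃ c : (Z →ₗ[R] K) →ₗ[R] Ext.{u} (ModuleCat.of R N) (ModuleCat.of R K) 1,
    Function.Surjective c ∧ ∀ φ : Z →ₗ[R] K, c φ = 0 ↔ ∃ ψ : F →ₗ[R] K, ψ ∘ₗ f = φ := by
  let S : ShortComplex (ModuleCat.{u} R) :=
    ModuleCat.shortComplexOfCompEqZero f g (by ext x; simpa using hex.apply_apply_eq_zero x)
  have hS : S.ShortExact := ModuleCat.shortComplex_shortExact _ hex hf hg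
  haveI : Projective S.X₂ :=
    (IsProjective.iff_projective (R := R) (P := F)).1 inferInstance
  let e : (Z →ₗ[R] K) ≃ₗ[R] (ModuleCat.of R Z ⟶ ModuleCat.of R K) :=
    (ModuleCat.homLinearEquiv (S := R) (M := ModuleCat.of R Z) (N := ModuleCat.of R K)).symm
  refine ⟨(conn hS (ModuleCat.of R K)) ∘ₗ e.toLinearMap, ?_, ?_⟩
  · exact (conn_surjective hS (ModuleCat.of R K)).comp e.surjective
  · intro φ
    rw [LinearMap.comp_apply]
    rw [conn_eq_zero_iff]
    constructor
    · rintro ⟨ψ, hψ⟩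
      refine ⟨ψ.hom, ?_⟩
      have := congrArg ModuleCat.Hom.hom hψ
      exact this
    · rintro ⟨ψ, rfl⟩
      exact ⟨ModuleCat.ofHom ψ, rfl⟩

include hex hf hg in
theorem nonempty_extShift (q : ℕ) :
    Nonempty (Ext.{u} (ModuleCat.of R Z) (ModuleCat.of R K) (q + 1) ≃ₗ[R]
      Ext.{u} (ModuleCat.of R N) (ModuleCat.of R K) (q + 1 + 1)) := by
  let S : ShortComplex (ModuleCat.{u} R) :=
    ModuleCat.shortComplexOfCompEqZero f g (by ext x; simpa using hex.apply_apply_eq_zero x)
  have hS : S.ShortExact := ModuleCat.shortComplex_shortExact _ hex hf hg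
  haveI : Projective S.X₂ :=
    (IsProjective.iff_projective (R := R) (P := F)).1 inferInstance
  exact ⟨extShift hS (ModuleCat.of R K) q⟩

end modules

/-- two surjections with the same kernel have isomorphic targets. -/
theorem nonempty_equiv_of_surjective_of_ker {X Y Y' : Type*} [AddCommGroup X] [Module R X]
    [AddCommGroup Y] [Module R Y] [AddCommGroup Y'] [Module R Y']
    (c : X →ₗ[R] Y) (hc : Function.Surjective c) (c' : X →ₗ[R] Y')
    (hc' : Function.Surjective c') (hker : ∀ x, c x = 0 ↔ c' x = 0) :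
    Nonempty (Y ≃ₗ[R] Y') := by
  have h : LinearMap.ker c = LinearMap.ker c' := by
    ext x
    rw [LinearMap.mem_ker, LinearMap.mem_ker]
    exact hker x
  exact ⟨(c.quotKerEquivOfSurjective hc).symm.trans
    ((Submodule.quotEquivOfEq _ _ h).trans (c'.quotKerEquivOfSurjective hc'))⟩

end Groth.Agent.Lib.Helper20.GrLD
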