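import Groth.Agent.Lib.Helper20.GrWatts3

/-!
# Graded duals and `Hom`: the abstract theorem (helper20)
-/

set_option autoImplicit false
set_option linter.style.haveILetI false
set_option linter.unusedSectionVars false
set_option linter.unusedVariables false
set_option maxHeartbeats 400000

universe u

open TensorProduct DirectSum GrLC

namespace Groth.Agent.Lib.Helper20.GrWatts

open Groth.Agent.Lib.Helper20.GrDual

section main

variable {k : Type u} [Field k] {R : Type u} [CommRing R] [Algebra k R] [IsNoetherianRing R]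
  (𝒜 : ℤ → AddSubgroup R) [GradedRing 𝒜]
  {M : Type u} [AddCommGroup M] [Module R M] [Module k M] [IsScalarTower k R M]
  (ℳ : ℤ → AddSubgroup M) [DirectSum.Decomposition ℳ] [SetLike.GradedSMul 𝒜 ℳ]
  [Module.Finite R M]
  {HR : Type u} [AddCommGroup HR] [Module R HR] [Module k HR] [IsScalarTower k R HR]
  (ℋR : ℤ → AddSubgroup HR) [DirectSum.Decomposition ℋR]
  {HM : Type u} [AddCommGroup HM] [Module R HM] [Module k HM] [IsScalarTower k R HM]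
  (ℋM : ℤ → AddSubgroup HM) [DirectSum.Decomposition ℋM]
  {K : Type u} [AddCommGroup K] [Module R K] [Module k K] [IsScalarTower k R K]
  (𝒦 : ℤ → AddSubgroup K) [DirectSum.Decomposition 𝒦] [SetLike.GradedSMul 𝒜 𝒦]
  {βK : K →ₗ[k] HR →ₗ[k] k} (hK : GrSeg.IsGDual R ℋR 𝒦 βK)
  {D : Type u} [AddCommGroup D] [Module R D] [Module k D] [IsScalarTower k R D]
  (𝒟 : ℤ → AddSubgroup D) [DirectSum.Decomposition 𝒟]
  {βD : D →ₗ[k] HM →ₗ[k] k} (hD : GrSeg.IsGDual R ℋM 𝒟 βD)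
  (μ : M →ₗ[R] HR →ₗ[R] HM)
  (hμdeg : ∀ (b : ℤ) (x : M), x ∈ ℳ b → ∀ (e : ℤ) (h : HR), h ∈ ℋR e → μ x h ∈ ℋM (e + b))
  (hμ : Function.Bijective (TensorProduct.lift μ))

include 𝒜 hK hD hμdeg hμ in
/-- **`(H_M)^* ≅ Hom_R(M, (H_R)^*)` as graded modules when `H_M = M ⊗_R H_R`.** -/
theorem exists_equiv_hom : ∃ ε : D ≃ₗ[R] (M →ₗ[R] K),
    ∀ (a : ℤ) (d : D), d ∈ 𝒟 a → IsGrHomDeg ℳ 𝒦 (ε d) a := by
  classical
  obtain ⟨ε, hε⟩ := exists_eps ℳ ℋR ℋM 𝒦 hK 𝒟 hD μ hμdeg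
  have hinj : Function.Injective ε := eps_injective ℋR ℋM 𝒦 hK 𝒟 hD μ ε hε hμ.2
  have hsurj : Function.Surjective ε := by
    intro φ
    obtain ⟨T, hT⟩ := exists_sum_homPart 𝒜 ℳ 𝒦 φ
    have hex : ∀ e : ℤ, ∃ d : D, ε d = homPart 𝒜 ℳ 𝒦 φ e := fun e =>
      exists_eps_eq_of_homogeneous ℳ ℋR ℋM 𝒦 hK 𝒟 hD μ hμdeg ε hε hμ _ e
        (homPart_mem 𝒜 ℳ 𝒦 φ e)
    choose d hd using hex
    refine ⟨∑ e ∈ T, d e, ?_⟩
    rw [map_sum]
    conv_rhs => rw [hT]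
    exact Finset.sum_congr rfl (fun e _ => hd e)
  refine ⟨LinearEquiv.ofBijective ε ⟨hinj, hsurj⟩, ?_⟩
  intro a d hd b x hx
  exact eps_mem ℳ ℋR ℋM 𝒦 hK 𝒟 hD μ hμdeg ε hε hd hx

end main

end Groth.Agent.Lib.Helper20.GrWatts
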