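import Groth.Agent.Lib.Helper20.GrWatts1
import Groth.Agent.Lib.Helper20.GrWatts4

/-!
# The comparison `(H^n(M))^* ≅ Hom(M, K)` with its characterisation, and naturality (helper20)
-/

set_option autoImplicit false
set_option linter.style.haveILetI false
set_option linter.unusedSectionVars false
set_option linter.unusedVariables false
set_option maxHeartbeats 400000

universe u

open CategoryTheory TensorProduct DirectSum GrLC Groth.Agent.Lib.Helper4.LC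
  Groth.Agent.Lib.Helper20.GrRes Groth.Agent.Lib.Helper20.GrLES
  Groth.Agent.Lib.Helper20.LCWatts Groth.Agent.Lib.Helper20.GrWatts

namespace Groth.Agent.Lib.Helper20.GrLD

open Groth.Agent.Lib.Helper20.GrDual

section main

variable {k : Type u} [Field k] {R : Type u} [CommRing R] [Algebra k R] [IsNoetherianRing R]
  (𝒜 : ℤ → AddSubgroup R) [GradedRing 𝒜]
  {M : Type u} [AddCommGroup M] [Module R M] [Module k M] [IsScalarTower k R M]
  (ℳ : ℤ → AddSubgroup M) [DirectSum.Decomposition ℳ] [SetLike.GradedSMul 𝒜 ℳ]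
  [Module.Finite R M]
  {HR : Type u} [AddCommGroup HR] [Module R HR] [Module k HR] [IsScalarTower k R HR]
  (ℋR : ℤ → AddSubgroup HR) [DirectSum.Decomposition ℋR]
  {HM : Type u} [AddCommGroup HM] [Module R HM] [Module k HM] [IsScalarTower k R HM]
  (ℋM : ℤ → AddSubgroup HM) [DirectSum.Decomposition ℋM]
  {K : Type u} [AddCommGroup K] [Module R K] [Module k K] [IsScalarTower k R K]
  (𝒦 : ℤ → AddSubgroup K) [DirectSum.Decomposition 𝒦] [SetLike.GradedSMul 𝒜 𝒦]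
  {βK : K →ₗ[k] HR →ₗ[k] k} (hK : GrSeg.IsGDual R ℋR 𝒦 βK)
  {D : Type u} [AddCommGroup D] [Module R D] [Module k D] [IsScalarTower k R D]
  (𝒟 : ℤ → AddSubgroup D) [DirectSum.Decomposition 𝒟]
  {βD : D →ₗ[k] HM →ₗ[k] k} (hD : GrSeg.IsGDual R ℋM 𝒟 βD)
  (μ : M →ₗ[R] HR →ₗ[R] HM)
  (hμdeg : ∀ (b : ℤ) (x : M), x ∈ ℳ b → ∀ (e : ℤ) (h : HR), h ∈ ℋR e → μ x h ∈ ℋM (e + b))
  (hμ : Function.Bijective (TensorProduct.lift μ))

include 𝒜 hK hD hμdeg hμ in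
/-- `(H_M)^* ≅ Hom_R(M, (H_R)^*)`, with the formula characterising the isomorphism. -/
theorem exists_equiv_hom' : ∃ ε : D ≃ₗ[R] (M →ₗ[R] K),
    (∀ (d : D) (x : M) (h : HR), βK (ε d x) h = βD d (μ x h)) ∧
    ∀ (a : ℤ) (d : D), d ∈ 𝒟 a → IsGrHomDeg ℳ 𝒦 (ε d) a := by
  classical
  obtain ⟨ε, hε⟩ := exists_eps ℳ ℋR ℋM 𝒦 hK 𝒟 hD μ hμdeg
  have hinj : Function.Injective ε := eps_injective ℋR ℋM 𝒦 hK 𝒟 hD μ ε hε hμ.2
  have hsurj : Function.Surjective ε := by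
    intro φ
    obtain ⟨T, hT⟩ := exists_sum_homPart 𝒜 ℳ 𝒦 φ
    have hex : ∀ e : ℤ, ∃ d : D, ε d = homPart 𝒜 ℳ 𝒦 φ e := fun e =>
      exists_eps_eq_of_homogeneous ℳ ℋR ℋM 𝒦 hK 𝒟 hD μ hμdeg ε hε hμ _ e
        (homPart_mem 𝒜 ℳ 𝒦 φ e)
    choose d hd using hex
    refine ⟨∑ e ∈ T, d e, ?_⟩
    rw [map_sum]
    conv_rhs => rw [hT]
    exact Finset.sum_congr rfl (fun e _ => hd e)
  refine ⟨LinearEquiv.ofBijective ε ⟨hinj, hsurj⟩, fun d x h => hε d x h, ?_⟩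
  intro a d hd b x hx
  exact eps_mem ℳ ℋR ℋM 𝒦 hK 𝒟 hD μ hμdeg ε hε hd hx

end main

section nat

variable {ι : Type} [AddCommGroup ι] [DecidableEq ι] {R : Type u} [CommRing R] [IsNoetherianRing R]
  {𝒜 : ι → AddSubgroup R} [GradedRing 𝒜]
  {𝒩 : ι → AddSubgroup R} [DirectSum.Decomposition 𝒩] [SetLike.GradedSMul 𝒜 𝒩]
  {Z : Type u} [AddCommGroup Z] [Module R Z] {𝒵 : ι → AddSubgroup Z}
  [DirectSum.Decomposition 𝒵] [SetLike.GradedSMul 𝒜 𝒵]
  {F : Type u} [AddCommGroup F] [Module R F] {ℱ : ι → AddSubgroup F}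
  [DirectSum.Decomposition ℱ] [SetLike.GradedSMul 𝒜 ℱ]
  (ER : StarInjRes 𝒜 𝒩) (EZ : StarInjRes 𝒜 𝒵) (EF : StarInjRes 𝒜 ℱ) (a : HomogeneousIdeal 𝒜)
  (n : ℕ)

/-- naturality of the multiplication maps. -/
theorem Hmap_muG {f : Z →ₗ[R] F} {kf : ι} (l : Lift EZ (toCx EF) (EF.ε ∘ₗ f) kf) (z : Z)
    (h : ER.H a n) : l.Hmap a n (muG ER EZ a n z h) = muG ER EF a n (f z) h := by
  apply (cmpE EF a n).injective
  rw [cmpE_Hmap, muG_apply, muG_apply, LinearEquiv.apply_symm_apply,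
    LinearEquiv.apply_symm_apply, mu_apply, mu_apply, ← HH.map_comp, rho_comp]

end nat

end Groth.Agent.Lib.Helper20.GrLD
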