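import Groth.Agent.Lib.Helper20.GrLD2
import Groth.Agent.Lib.Helper20.GrLD3
import Groth.Agent.Lib.Helper20.GrLD4
import Groth.Agent.Lib.Helper20.GrLD5
import Groth.Agent.Lib.Helper20.GrLES2
import Groth.Agent.Lib.Helper20.GrFreeMod
import Groth.Agent.Lib.Helper20.GrLCExt
import Groth.Agent.Lib.Helper4.LD6
import Groth.Agent.S13215

/-!
# Graded local duality by dimension shifting: preparations (helper20)

Graded free covers, the `k`-structures on graded local cohomology, vanishing for free modules.
-/

set_option autoImplicit false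
set_option linter.style.haveILetI false
set_option linter.unusedSectionVars false
set_option linter.unusedVariables false
set_option maxHeartbeats 800000

universe u

open CategoryTheory GrLC DirectSum Groth.Agent.Lib.Helper4.LC Groth.Agent.Lib.Helper20.GrRes
  Groth.Agent.Lib.Helper20.GrLES Groth.Agent.Lib.Helper20.GrLES2
  Groth.Agent.Lib.Helper20.GrFreeMod Groth.Agent.Lib.Helper20.GrLCQuot
  Groth.Agent.Lib.Helper20.GrLCBasic

namespace Groth.Agent.Lib.Helper20.GrLD

section cover

variable {R : Type u} [CommRing R] [IsNoetherianRing R] (𝒜 : ℤ → AddSubgroup R) [GradedRing 𝒜]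
  {N : Type u} [AddCommGroup N] [Module R N] (𝒩 : ℤ → AddSubgroup N)
  [DirectSum.Decomposition 𝒩] [SetLike.GradedSMul 𝒜 𝒩]

/-- a finitely generated graded module is a homogeneous quotient of a graded free module. -/
theorem exists_cover [Module.Finite R N] :
    ∃ (r : ℕ) (deg : Fin r → ℤ) (π : (Fin r → R) →ₗ[R] N),
      IsGrHom (freeGr 𝒜 deg) 𝒩 π ∧ Function.Surjective π := by
  classical
  obtain ⟨T, hT, hspan⟩ := Groth.Agent.Lib.Helper20.GrLCExt.exists_homogeneous_generators
    (R := R) (M := N) 𝒩
  choose! dg hdg using hT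
  let t : Fin T.card → N := fun b => ((T.equivFin.symm b : T) : N)
  have ht : ∀ b, t b ∈ T := fun b => (T.equivFin.symm b).2
  refine ⟨T.card, fun b => dg (t b), Fintype.linearCombination R t, ?_, ?_⟩
  · intro e v hv
    rw [Fintype.linearCombination_apply]
    refine sum_mem fun b _ => ?_
    have h := SetLike.GradedSMul.smul_mem (A := 𝒜) (B := 𝒩) ((mem_freeGr _).1 hv b)
      (hdg (t b) (ht b))
    rw [vadd_eq_add, neg_add_cancel_right] at h
    exact h
  · rw [← LinearMap.range_eq_top, Fintype.range_linearCombination, eq_top_iff, ← hspan]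
    apply Submodule.span_mono
    intro x hx
    exact ⟨T.equivFin ⟨x, hx⟩, by simp [t]⟩

end cover

section kstr

variable {k : Type u} [Field k] {R : Type u} [CommRing R] [Algebra k R]
  (𝒜 : ℤ → AddSubgroup R) [GradedRing 𝒜] (hk0 : ∀ c : k, algebraMap k R c ∈ 𝒜 0)
  {M : Type u} [AddCommGroup M] [Module R M] {ℳ : ℤ → AddSubgroup M}
  [DirectSum.Decomposition ℳ] [SetLike.GradedSMul 𝒜 ℳ]

/-- the `k`-module structure induced by the `R`-module structure. -/
@[reducible] def kMod (X : Type u) [AddCommGroup X] [Module R X] : Module k X :=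
  Module.compHom X (algebraMap k R)

theorem kTower (X : Type u) [AddCommGroup X] [Module R X] :
    letI := kMod (k := k) (R := R) X
    IsScalarTower k R X := by
  letI := kMod (k := k) (R := R) X
  exact IsScalarTower.of_algebraMap_smul (fun c x => rfl)

include hk0 in
/-- the pieces of graded local cohomology are `k`-subspaces. -/
theorem smul_mem_Hgr_k (E : StarInjRes 𝒜 ℳ) (a : HomogeneousIdeal 𝒜) (i : ℕ)
    [Module k (E.H a i)] [IsScalarTower k R (E.H a i)] (e : ℤ) (c : k) (x : E.H a i)
    (hx : x ∈ E.Hgr a i e) : c • x ∈ E.Hgr a i e := by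
  rw [← algebraMap_smul R c x]
  have := smul_mem_Hgr E a i (hk0 c) hx
  rwa [zero_add] at this

end kstr

section free

variable {R : Type u} [CommRing R] [IsNoetherianRing R] {𝒜 : ℤ → AddSubgroup R} [GradedRing 𝒜]

/-- graded local cohomology of graded free modules vanishes where that of `R` does. -/
theorem subsingleton_H_free (a : HomogeneousIdeal 𝒜) (i : ℕ)
    (h : Subsingleton (HH a.toIdeal (ModuleCat.of R R) i)) {r : ℕ} (deg : Fin r → ℤ)
    (EF : StarInjRes 𝒜 (freeGr 𝒜 deg)) : Subsingleton (EF.H a i) :=
  subsingleton_H_of_HH EF a i (HH.subsingleton_free a.toIdeal i h r)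

end free

end Groth.Agent.Lib.Helper20.GrLD
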