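import Groth.Agent.Lib.Helper20.GrLD6

/-!
# Graded local duality by dimension shifting (helper20)

`Ext^j_R(N, K) ≅ (H^{n-j}_m(N))^*` for finitely generated graded modules `N` over a graded ring
`R` whose local cohomology `H^i_m(R)` vanishes for `i < n ≥ dim R`, with `K = (H^n_m(R))^*`.
-/

set_option autoImplicit false
set_option linter.style.haveILetI false
set_option linter.unusedSectionVars false
set_option linter.unusedVariables false
set_option maxHeartbeats 1600000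

universe u

open CategoryTheory GrLC DirectSum Groth.Agent.Lib.Helper4.LC Groth.Agent.Lib.Helper20.GrRes
  Groth.Agent.Lib.Helper20.GrLES Groth.Agent.Lib.Helper20.GrLES2
  Groth.Agent.Lib.Helper20.GrFreeMod Groth.Agent.Lib.Helper20.GrLCQuot
  Groth.Agent.Lib.Helper20.GrLCBasic Groth.Agent.Lib.Helper20.GrWatts
  Groth.Agent.Lib.Helper29.GrDual

namespace Groth.Agent.Lib.Helper20.GrLD

section syz

variable {R : Type u} [CommRing R] [IsNoetherianRing R] (𝒜 : ℤ → AddSubgroup R) [GradedRing 𝒜]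
  {N : Type u} [AddCommGroup N] [Module R N] (𝒩 : ℤ → AddSubgroup N)
  [DirectSum.Decomposition 𝒩] [SetLike.GradedSMul 𝒜 𝒩]

/-- a graded presentation `0 → Z → F → N → 0` with `F` graded free of finite rank. -/
theorem exists_syzygy [Module.Finite R N] :
    ∃ (Z F : GMod.{u} 𝒜) (f : Z.carrier →ₗ[R] F.carrier) (g : F.carrier →ₗ[R] N),
      IsGrHom Z.gr F.gr f ∧ IsGrHom F.gr 𝒩 g ∧ Function.Injective f ∧ Function.Surjective g ∧
      Function.Exact f g ∧ Module.Projective R F.carrier ∧ Module.Finite R Z.carrier ∧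
      Module.Finite R F.carrier ∧
      ∀ (a : HomogeneousIdeal 𝒜) (i : ℕ), Subsingleton (HH a.toIdeal (ModuleCat.of R R) i) →
        ∀ EF : StarInjRes 𝒜 F.gr, Subsingleton (EF.H a i) := by
  classical
  obtain ⟨r, deg, π, hπ, hsurj⟩ := exists_cover 𝒜 𝒩
  have hker : (LinearMap.ker π).IsHomogeneous (freeGr 𝒜 deg) :=
    ker_isHomogeneous (freeGr 𝒜 deg) 𝒩 π hπ
  refine ⟨subGMod (freeGMod 𝒜 deg) (LinearMap.ker π) hker, freeGMod 𝒜 deg,
    (LinearMap.ker π).subtype, π, ?_, hπ, Subtype.val_injective, hsurj, ?_, ?_, ?_, ?_, ?_⟩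
  · exact fun _ _ hm => hm
  · intro x
    constructor
    · intro hx
      exact ⟨⟨x, hx⟩, rfl⟩
    · rintro ⟨z, rfl⟩
      exact z.2
  · show Module.Projective R (Fin r → R)
    infer_instance
  · show Module.Finite R ↥(LinearMap.ker π)
    infer_instance
  · show Module.Finite R (Fin r → R)
    infer_instance
  · intro a i h EF
    exact subsingleton_H_free a i h deg EF

end syz

section main

variable {k : Type u} [Field k] {R : Type u} [CommRing R] [Algebra k R] [IsNoetherianRing R]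
  (𝒜 : ℤ → AddSubgroup R) [GradedRing 𝒜] (hk0 : ∀ c : k, algebraMap k R c ∈ 𝒜 0)
  (m : HomogeneousIdeal 𝒜)
  (K : Type u) [AddCommGroup K] [Module R K]

/-- the duality statement in cohomological degree `i` and `Ext`-degree `j`. -/
def DualAt (j i : ℕ) : Prop :=
  ∀ (N : Type u) [AddCommGroup N] [Module R N] [Module.Finite R N] (𝒩 : ℤ → AddSubgroup N)
    [DirectSum.Decomposition 𝒩] [SetLike.GradedSMul 𝒜 𝒩] (EN : StarInjRes 𝒜 𝒩)
    [Module k (EN.H m i)] [IsScalarTower k R (EN.H m i)] [DirectSum.Decomposition (EN.Hgr m i)]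
    (D : Type u) [AddCommGroup D] [Module R D] [Module k D] [IsScalarTower k R D]
    (𝒟 : ℤ → AddSubgroup D) [DirectSum.Decomposition 𝒟] (βD : D →ₗ[k] EN.H m i →ₗ[k] k),
    GrSeg.IsGDual R (EN.Hgr m i) 𝒟 βD →
    Nonempty (Abelian.Ext.{u} (ModuleCat.of R N) (ModuleCat.of R K) j ≃ₗ[R] D)

/-- the inductive step away from the top. -/
theorem dualAt_succ (j i : ℕ) (h0 : Subsingleton (HH m.toIdeal (ModuleCat.of R R) i))
    (h1 : Subsingleton (HH m.toIdeal (ModuleCat.of R R) (i + 1)))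
    (ih : DualAt (k := k) 𝒜 m K (j + 1) (i + 1)) : DualAt (k := k) 𝒜 m K (j + 1 + 1) i := by
  intro N _ _ _ 𝒩 _ _ EN _ _ _ D _ _ _ _ 𝒟 _ βD hD
  obtain ⟨Z, F, f, g, hf, hg, hinj, hsurj, hex, hproj, hfin, hfinF, hvanF⟩ := exists_syzygy 𝒜 𝒩
  obtain ⟨EZ⟩ := Groth.Agent.S13215.result R 𝒜 Z.carrier Z.gr
  obtain ⟨EF⟩ := Groth.Agent.S13215.result R 𝒜 F.carrier F.gr
  have hf' : IsGrHomDeg Z.gr F.gr f 0 := fun e x hx => by
    rw [add_zero]; exact hf e x hx
  have hg' : IsGrHomDeg F.gr 𝒩 g 0 := fun e x hx => by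
    rw [add_zero]; exact hg e x hx
  obtain ⟨lf⟩ := nonempty_lift f 0 hf' EZ EF
  obtain ⟨lg⟩ := nonempty_lift g 0 hg' EF EN
  obtain ⟨Δ, hΔdeg, -, -, -, hΔ1, hΔ2, hΔ3, hΔ4⟩ :=
    exists_grLES f g 0 0 hf' hg' hinj hsurj hex EZ EF EN m lf lg
  haveI s0 := hvanF m i h0 EF
  haveI s1 := hvanF m (i + 1) h1 EF
  have hbij : Function.Bijective (Δ i) := by
    constructor
    · rw [injective_iff_map_eq_zero]
      intro z hz
      obtain ⟨y, rfl⟩ := hΔ2 i z hz
      rw [Subsingleton.elim y 0, map_zero]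
    · intro x
      exact hΔ4 i x (Subsingleton.elim _ _)
  let w : EN.H m i ≃ₗ[R] EZ.H m (i + 1) := LinearEquiv.ofBijective (Δ i) hbij
  letI : Module k (EZ.H m (i + 1)) := kMod (k := k) (R := R) _
  haveI : IsScalarTower k R (EZ.H m (i + 1)) := kTower (k := k) (R := R) _
  letI := decH EZ m (i + 1)
  have hwgr : IsGrHom (EN.Hgr m i) (EZ.Hgr m (i + 1)) w.toLinearMap := fun e x hx => by
    have := hΔdeg i e x hx
    rw [neg_zero, add_zero, add_zero] at this
    exact this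
  have hD' := isGDual_of_equiv (EN.Hgr m i) (EZ.Hgr m (i + 1)) 𝒟 hD w.symm
    (symm_isGrHom _ _ w hwgr) hwgr
  haveI := hfin
  haveI := hproj
  obtain ⟨e1⟩ := ih Z.carrier Z.gr EZ D 𝒟 _ hD'
  obtain ⟨e2⟩ := nonempty_extShift (K := K) f g hex hinj hsurj j
  exact ⟨e2.symm.trans e1⟩

section top

variable (n : ℕ) (hdim : ringKrullDim R < ((n + 1 : ℕ) : WithBot ℕ∞))
  (I : StarInjRes 𝒜 𝒜) [Module k (I.H m n)] [IsScalarTower k R (I.H m n)]
  [DirectSum.Decomposition (I.Hgr m n)]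
  [Module k K] [IsScalarTower k R K] (𝒦 : ℤ → AddSubgroup K) [DirectSum.Decomposition 𝒦]
  [SetLike.GradedSMul 𝒜 𝒦]
  (βK : K →ₗ[k] I.H m n →ₗ[k] k) (hK : GrSeg.IsGDual R (I.Hgr m n) 𝒦 βK)

include hdim hK in
/-- the top case, with the formula characterising the isomorphism. -/
theorem exists_eps_top (N : Type u) [AddCommGroup N] [Module R N] [Module.Finite R N]
    (𝒩 : ℤ → AddSubgroup N) [DirectSum.Decomposition 𝒩] [SetLike.GradedSMul 𝒜 𝒩]
    (EN : StarInjRes 𝒜 𝒩)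
    [Module k (EN.H m n)] [IsScalarTower k R (EN.H m n)] [DirectSum.Decomposition (EN.Hgr m n)]
    (D : Type u) [AddCommGroup D] [Module R D] [Module k D] [IsScalarTower k R D]
    (𝒟 : ℤ → AddSubgroup D) [DirectSum.Decomposition 𝒟] (βD : D →ₗ[k] EN.H m n →ₗ[k] k)
    (hD : GrSeg.IsGDual R (EN.Hgr m n) 𝒟 βD) :
    ∃ ε : D ≃ₗ[R] (N →ₗ[R] K),
      ∀ (d : D) (x : N) (h : I.H m n), βK (ε d x) h = βD d (muG I EN m n x h) := by
  letI : Module k N := kMod (k := k) (R := R) N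
  haveI : IsScalarTower k R N := kTower (k := k) (R := R) N
  have hμdeg : ∀ (b : ℤ) (x : N), x ∈ 𝒩 b → ∀ (e : ℤ) (h : I.H m n), h ∈ I.Hgr m n e →
      muG I EN m n x h ∈ EN.Hgr m n (e + b) := by
    intro b x hx e h hh
    have hx' : IsGrHomDeg 𝒜 𝒩 (LinearMap.toSpanSingleton R N x) b := by
      intro g r hr
      have := SetLike.GradedSMul.smul_mem (A := 𝒜) (B := 𝒩) hr hx
      exact this
    exact muG_mem I EN m n hx' hh
  have hμ : Function.Bijective (TensorProduct.lift (muG I EN m n)) :=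
    lift_muG_bijective I EN m n hdim
  obtain ⟨ε, hε, -⟩ := exists_equiv_hom' 𝒜 𝒩 (I.Hgr m n) (EN.Hgr m n) 𝒦 hK 𝒟 hD
    (muG I EN m n) hμdeg hμ
  exact ⟨ε, hε⟩

include hdim hK in
theorem dualAt_zero : DualAt (k := k) 𝒜 m K 0 n := by
  intro N _ _ _ 𝒩 _ _ EN _ _ _ D _ _ _ _ 𝒟 _ βD hD
  obtain ⟨ε, -⟩ := exists_eps_top 𝒜 m K n hdim I 𝒦 βK hK N 𝒩 EN D 𝒟 βD hD
  exact ⟨(extZeroEquiv N K).trans ε.symm⟩

end top

end main

end Groth.Agent.Lib.Helper20.GrLD
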