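import Groth.Agent.Lib.Helper20.GrLD7

/-!
# Graded local duality: the first step and the theorem (helper20)
-/

set_option autoImplicit false
set_option linter.style.haveILetI false
set_option linter.unusedSectionVars false
set_option linter.unusedVariables false
set_option maxHeartbeats 3200000

universe u

open CategoryTheory GrLC DirectSum Groth.Agent.Lib.Helper4.LC Groth.Agent.Lib.Helper20.GrRes
  Groth.Agent.Lib.Helper20.GrLES Groth.Agent.Lib.Helper20.GrLES2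
  Groth.Agent.Lib.Helper20.GrFreeMod Groth.Agent.Lib.Helper20.GrLCQuot
  Groth.Agent.Lib.Helper20.GrLCBasic Groth.Agent.Lib.Helper20.GrWatts
  Groth.Agent.Lib.Helper29.GrDual

namespace Groth.Agent.Lib.Helper20.GrLD

section main

variable {k : Type u} [Field k] {R : Type u} [CommRing R] [Algebra k R] [IsNoetherianRing R]
  (𝒜 : ℤ → AddSubgroup R) [GradedRing 𝒜] (hk0 : ∀ c : k, algebraMap k R c ∈ 𝒜 0)
  (m : HomogeneousIdeal 𝒜)
  (K : Type u) [AddCommGroup K] [Module R K]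
  (n : ℕ) (hdim : ringKrullDim R < ((n + 1 : ℕ) : WithBot ℕ∞))
  (I : StarInjRes 𝒜 𝒜) [Module k (I.H m n)] [IsScalarTower k R (I.H m n)]
  [DirectSum.Decomposition (I.Hgr m n)]
  [Module k K] [IsScalarTower k R K] (𝒦 : ℤ → AddSubgroup K) [DirectSum.Decomposition 𝒦]
  [SetLike.GradedSMul 𝒜 𝒦]
  (βK : K →ₗ[k] I.H m n →ₗ[k] k) (hK : GrSeg.IsGDual R (I.Hgr m n) 𝒦 βK)

include hk0 hdim hK in
/-- the first step: `Ext^1(N, K) ≅ (H^{n-1}(N))^*`. -/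
theorem dualAt_one (i : ℕ) (hi : i + 1 = n)
    (h0 : Subsingleton (HH m.toIdeal (ModuleCat.of R R) i)) :
    DualAt (k := k) 𝒜 m K 1 i := by
  subst hi
  intro N _ _ _ 𝒩 _ _ EN _ _ _ D _ _ _ _ 𝒟 _ βD hD
  obtain ⟨Z, F, f, g, hf, hg, hinj, hsurj, hex, hproj, hfin, hfinF, hvanF⟩ := exists_syzygy 𝒜 𝒩
  obtain ⟨EZ⟩ := Groth.Agent.S13215.result R 𝒜 Z.carrier Z.gr
  obtain ⟨EF⟩ := Groth.Agent.S13215.result R 𝒜 F.carrier F.gr
  have hf' : IsGrHomDeg Z.gr F.gr f 0 := fun e x hx => by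
    rw [add_zero]; exact hf e x hx
  have hg' : IsGrHomDeg F.gr 𝒩 g 0 := fun e x hx => by
    rw [add_zero]; exact hg e x hx
  obtain ⟨lf⟩ := nonempty_lift f 0 hf' EZ EF
  obtain ⟨lg⟩ := nonempty_lift g 0 hg' EF EN
  obtain ⟨Δ, hΔdeg, -, -, -, hΔ1, hΔ2, hΔ3, hΔ4⟩ :=
    exists_grLES f g 0 0 hf' hg' hinj hsurj hex EZ EF EN m lf lg
  haveI s0 := hvanF m i h0 EF
  haveI := hfin
  haveI := hfinF
  haveI := hproj
  -- the `k`-structures and decompositions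
  letI : Module k (EZ.H m (i + 1)) := kMod (k := k) (R := R) _
  haveI : IsScalarTower k R (EZ.H m (i + 1)) := kTower (k := k) (R := R) _
  letI := decH EZ m (i + 1)
  letI : Module k (EF.H m (i + 1)) := kMod (k := k) (R := R) _
  haveI : IsScalarTower k R (EF.H m (i + 1)) := kTower (k := k) (R := R) _
  letI := decH EF m (i + 1)
  have hkZ : ∀ (e : ℤ) (c : k), ∀ x ∈ EZ.Hgr m (i + 1) e, c • x ∈ EZ.Hgr m (i + 1) e :=
    smul_mem_Hgr_k 𝒜 hk0 EZ m (i + 1)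
  have hkF : ∀ (e : ℤ) (c : k), ∀ x ∈ EF.Hgr m (i + 1) e, c • x ∈ EF.Hgr m (i + 1) e :=
    smul_mem_Hgr_k 𝒜 hk0 EF m (i + 1)
  letI := gdDecomposition (k := k) 𝒜 (EZ.Hgr m (i + 1)) hkZ
  letI := gdDecomposition (k := k) 𝒜 (EF.Hgr m (i + 1)) hkF
  have hDZ := isGDual_gd (k := k) 𝒜 (EZ.Hgr m (i + 1)) hkZ
  have hDF := isGDual_gd (k := k) 𝒜 (EF.Hgr m (i + 1)) hkF
  -- graded maps
  have hΔgr : IsGrHom (EN.Hgr m i) (EZ.Hgr m (i + 1)) (Δ i) := fun e x hx => by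
    have := hΔdeg i e x hx
    rw [neg_zero, add_zero, add_zero] at this
    exact this
  have hfgr : IsGrHom (EZ.Hgr m (i + 1)) (EF.Hgr m (i + 1)) (lf.Hmap m (i + 1)) :=
    fun e x hx => by
      have := lf.Hmap_mem m (i + 1) e x hx
      rw [add_zero] at this
      exact this
  have hΔinj : Function.Injective (Δ i) := by
    rw [injective_iff_map_eq_zero]
    intro z hz
    obtain ⟨y, rfl⟩ := hΔ2 i z hz
    rw [Subsingleton.elim y 0, map_zero]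
  -- dual maps
  obtain ⟨ΔD, hΔD, hΔDgr⟩ := exists_dualMap (EN.Hgr m i) (EZ.Hgr m (i + 1)) 𝒟 hD
    (gdGr (k := k) 𝒜 (EZ.Hgr m (i + 1))) hDZ (Δ i) hΔgr
  obtain ⟨fD, hfD, hfDgr⟩ := exists_dualMap (EZ.Hgr m (i + 1)) (EF.Hgr m (i + 1))
    (gdGr (k := k) 𝒜 (EZ.Hgr m (i + 1))) hDZ (gdGr (k := k) 𝒜 (EF.Hgr m (i + 1))) hDF
    (lf.Hmap m (i + 1)) hfgr
  have hΔDsurj : Function.Surjective ΔD :=
    dualMap_surjective (EN.Hgr m i) (EZ.Hgr m (i + 1)) 𝒟 hD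
      (gdGr (k := k) 𝒜 (EZ.Hgr m (i + 1))) hDZ (Δ i) hΔgr hΔinj ΔD hΔD
  -- the top isomorphisms
  obtain ⟨εZ, hεZ⟩ := exists_eps_top 𝒜 m K (i + 1) hdim I 𝒦 βK hK Z.carrier Z.gr EZ
    (GD (k := k) 𝒜 (EZ.Hgr m (i + 1))) (gdGr (k := k) 𝒜 (EZ.Hgr m (i + 1)))
    (gdPair 𝒜 (EZ.Hgr m (i + 1))) hDZ
  obtain ⟨εF, hεF⟩ := exists_eps_top 𝒜 m K (i + 1) hdim I 𝒦 βK hK F.carrier F.gr EF
    (GD (k := k) 𝒜 (EF.Hgr m (i + 1))) (gdGr (k := k) 𝒜 (EF.Hgr m (i + 1)))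
    (gdPair 𝒜 (EF.Hgr m (i + 1))) hDF
  -- naturality
  have hnat : ∀ d : GD (k := k) 𝒜 (EF.Hgr m (i + 1)), εZ (fD d) = εF d ∘ₗ f := by
    intro d
    apply LinearMap.ext
    intro z
    apply left_ext hK
    intro h
    rw [hεZ, hfD, LinearMap.comp_apply, hεF, Hmap_muG]
  -- the two surjections
  obtain ⟨c, hcsurj, hcker⟩ := exists_conn (K := K) f g hex hinj hsurj
  let Ξ : (Z.carrier →ₗ[R] K) →ₗ[R] D := ΔD ∘ₗ εZ.symm.toLinearMap
  have hΞsurj : Function.Surjective Ξ := hΔDsurj.comp εZ.symm.surjective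
  refine nonempty_equiv_of_surjective_of_ker c hcsurj Ξ hΞsurj (fun φ => ?_)
  rw [hcker]
  constructor
  · rintro ⟨ψ, rfl⟩
    have h1 : ψ ∘ₗ f = εZ (fD (εF.symm ψ)) := by
      rw [hnat, LinearEquiv.apply_symm_apply]
    show ΔD (εZ.symm (ψ ∘ₗ f)) = 0
    rw [h1, LinearEquiv.symm_apply_apply]
    exact dualMap_comp_eq_zero (EN.Hgr m i) (EF.Hgr m (i + 1)) 𝒟 hD
      (gdGr (k := k) 𝒜 (EF.Hgr m (i + 1))) hDF (Δ i) (lf.Hmap m (i + 1)) (hΔ3 i) ΔD hΔD fD hfD _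
  · intro h
    have h' : ΔD (εZ.symm φ) = 0 := h
    have hexact : Function.Exact (Δ i) (lf.Hmap m (i + 1)) := by
      intro x
      constructor
      · intro hx
        obtain ⟨z, hz⟩ := hΔ4 i x hx
        exact ⟨z, hz⟩
      · rintro ⟨z, rfl⟩
        exact hΔ3 i z
    obtain ⟨d', hd'⟩ := exists_dualMap_eq (EN.Hgr m i) (EZ.Hgr m (i + 1)) (EF.Hgr m (i + 1)) 𝒟 hD
      (gdGr (k := k) 𝒜 (EZ.Hgr m (i + 1))) hDZ (gdGr (k := k) 𝒜 (EF.Hgr m (i + 1))) hDF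
      (Δ i) hΔgr (lf.Hmap m (i + 1)) hfgr hexact ΔD hΔD hΔDgr fD hfD (εZ.symm φ) h'
    refine ⟨εF d', ?_⟩
    rw [← hnat, hd', LinearEquiv.apply_symm_apply]

include hk0 hdim hK in
/-- **graded local duality**: `Ext^j(N, K) ≅ (H^{n-j}_m(N))^*`. -/
theorem dualAt (hvan : ∀ i, i < n → Subsingleton (HH m.toIdeal (ModuleCat.of R R) i)) :
    ∀ j i : ℕ, i + j = n → DualAt (k := k) 𝒜 m K j i := by
  have hpos : ∀ j i : ℕ, i + (j + 1) = n → DualAt (k := k) 𝒜 m K (j + 1) i := by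
    intro j
    induction j with
    | zero =>
      intro i hi
      exact dualAt_one 𝒜 hk0 m K n hdim I 𝒦 βK hK i hi (hvan i (by omega))
    | succ j ih =>
      intro i hi
      exact dualAt_succ 𝒜 m K j i (hvan i (by omega)) (hvan (i + 1) (by omega))
        (ih (i + 1) (by omega))
  intro j i hij
  cases j with
  | zero =>
    have : i = n := by omega
    subst this
    exact dualAt_zero 𝒜 m K i hdim I 𝒦 βK hK
  | succ j => exact hpos j i hij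

end main

end Groth.Agent.Lib.Helper20.GrLD
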