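import Mathlib
import Groth.Prelude.Def_GrLC
import Groth.Prelude.Def_GrSyz
import Groth.Agent.Lib.Helper20.GrConv
import Groth.Agent.Lib.Helper20.GrWeakReg2
import Groth.Agent.Lib.Helper20.GrVan
import Groth.Agent.Lib.Helper20.GrReg1

/-!
# The standard graded polynomial ring in the `AddSubgroup` world
-/

set_option autoImplicit false
set_option linter.unusedSectionVars false
set_option linter.unusedVariables false

universe u

open GrLC Groth.Agent.Lib.Helper20.GrConv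

namespace Groth.Agent.Lib.Helper20.GrPolyStd

variable (k : Type u) [Field k] (r : ℕ)

/-- the standard grading as a family of additive subgroups. -/
noncomputable abbrev stdAS : ℤ → AddSubgroup (MvPolynomial (Fin (r + 1)) k) :=
  toAS (GrSyz.stdGr k (Fin (r + 1)))

/-- the irrelevant ideal. -/
noncomputable abbrev irrelAS : HomogeneousIdeal (stdAS k r) :=
  idealTo (GrSyz.stdGr k (Fin (r + 1))) (GrSyz.irrel (GrSyz.stdGr k (Fin (r + 1))))

theorem X_mem (i : Fin (r + 1)) : (MvPolynomial.X i : MvPolynomial (Fin (r + 1)) k) ∈ stdAS k r 1 :=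
  MvPolynomial.isWeightedHomogeneous_X _ _ i

/-- the list of variables. -/
noncomputable def varList : List ↥(stdAS k r 1) :=
  (List.finRange (r + 1)).map fun i => ⟨MvPolynomial.X i, X_mem k r i⟩

theorem stdAS_neg (n : ℤ) (hn : n < 0) : stdAS k r n = ⊥ := by
  rw [eq_bot_iff]
  intro p hp
  rw [AddSubgroup.mem_bot]
  exact Groth.Agent.Lib.Helper20.GrWeakReg2.stdGr_eq_bot k (Fin (r + 1)) n hn p hp

theorem irrel_eq_span :
    (irrelAS k r).toIdeal =
      Ideal.span {p : MvPolynomial (Fin (r + 1)) k | ∃ x ∈ varList k r, (x : MvPolynomial (Fin (r + 1)) k) = p} := by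
  classical
  have hset : {p : MvPolynomial (Fin (r + 1)) k | ∃ x ∈ varList k r,
      (x : MvPolynomial (Fin (r + 1)) k) = p} =
      (MvPolynomial.X '' (Set.univ : Set (Fin (r + 1)))) := by
    ext p
    simp only [varList, List.mem_map, List.mem_finRange, true_and, Set.mem_setOf_eq,
      Set.image_univ, Set.mem_range]
    constructor
    · rintro ⟨x, ⟨i, rfl⟩, rfl⟩
      exact ⟨i, rfl⟩
    · rintro ⟨i, rfl⟩
      exact ⟨_, ⟨i, rfl⟩, rfl⟩
  rw [hset]
  apply le_antisymm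
  · show Ideal.span {p | ∃ n : ℤ, 0 < n ∧ p ∈ GrSyz.stdGr k (Fin (r + 1)) n} ≤ _
    rw [Ideal.span_le]
    rintro p ⟨n, hn, hp⟩
    rw [SetLike.mem_coe, MvPolynomial.mem_ideal_span_X_image]
    intro m hm
    have hp' : p.IsWeightedHomogeneous (fun _ : Fin (r + 1) => (1 : ℤ)) n := hp
    have h1 := hp' (MvPolynomial.mem_support_iff.1 hm)
    by_contra hcon
    push_neg at hcon
    have hm0 : m = 0 := by
      ext i
      exact hcon i (Set.mem_univ i)
    rw [hm0, map_zero] at h1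
    omega
  · rw [Ideal.span_le]
    rintro _ ⟨i, -, rfl⟩
    show MvPolynomial.X i ∈ Ideal.span {p | ∃ n : ℤ, 0 < n ∧ p ∈ GrSyz.stdGr k (Fin (r + 1)) n}
    exact Ideal.subset_span ⟨1, one_pos, MvPolynomial.isWeightedHomogeneous_X _ _ i⟩

theorem mem_irrel_of_mem_one {x : MvPolynomial (Fin (r + 1)) k}
    (hx : x ∈ GrSyz.stdGr k (Fin (r + 1)) 1) : x ∈ (irrelAS k r).toIdeal := by
  show x ∈ Ideal.span {p | ∃ n : ℤ, 0 < n ∧ p ∈ GrSyz.stdGr k (Fin (r + 1)) n}
  exact Ideal.subset_span ⟨1, one_pos, hx⟩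

section translate

variable {M : Type u} [AddCommGroup M] [Module k M] [Module (MvPolynomial (Fin (r + 1)) k) M]
  [IsScalarTower k (MvPolynomial (Fin (r + 1)) k) M]
  (ℳ : ℤ → Submodule k M) [DirectSum.Decomposition ℳ]
  [SetLike.GradedSMul (GrSyz.stdGr k (Fin (r + 1))) ℳ]
  (E : GrLC.StarInjRes (GrSyz.stdGr k (Fin (r + 1))) ℳ)

omit [IsScalarTower k (MvPolynomial (Fin (r + 1)) k) M] in
theorem Hgr_eq_bot_iff (i : ℕ) (n : ℤ) :
    E.Hgr (GrSyz.irrel (GrSyz.stdGr k (Fin (r + 1)))) i n = ⊥ ↔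
      E.Hcomp (GrSyz.irrel (GrSyz.stdGr k (Fin (r + 1)))) i n = ⊥ := by
  constructor
  · intro h
    rw [Submodule.eq_bot_iff]
    intro z hz
    have : z ∈ E.Hgr (GrSyz.irrel (GrSyz.stdGr k (Fin (r + 1)))) i n := hz
    rw [h] at this
    exact (AddSubgroup.mem_bot).1 this
  · intro h
    rw [eq_bot_iff]
    intro z hz
    have : z ∈ E.Hcomp (GrSyz.irrel (GrSyz.stdGr k (Fin (r + 1)))) i n := hz
    rw [h] at this
    exact (AddSubgroup.mem_bot).2 ((Submodule.mem_bot _).1 this)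

omit [IsScalarTower k (MvPolynomial (Fin (r + 1)) k) M] in
theorem van_iff_std (q : ℕ) (e : ℤ) :
    Groth.Agent.Lib.Helper20.GrVan.Van (irrelAS k r) (toAS ℳ) q e ↔
      E.Hcomp (GrSyz.irrel (GrSyz.stdGr k (Fin (r + 1)))) q e = ⊥ :=
  (Groth.Agent.Lib.Helper20.GrVan.van_iff (irrelAS k r)
    (resTo (GrSyz.stdGr k (Fin (r + 1))) ℳ E) q e).trans
    (Hcomp_eq_bot_iff (GrSyz.stdGr k (Fin (r + 1))) ℳ E _ q e)

omit [IsScalarTower k (MvPolynomial (Fin (r + 1)) k) M] in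
theorem endDeg_le_iff_std (i : ℕ) (d : ℤ) :
    GrLC.endDeg (E.Hgr (GrSyz.irrel (GrSyz.stdGr k (Fin (r + 1)))) i) ≤
        ((d : WithTop ℤ) : WithBot (WithTop ℤ)) ↔
      ∀ n : ℤ, d < n → Groth.Agent.Lib.Helper20.GrVan.Van (irrelAS k r) (toAS ℳ) i n := by
  rw [Groth.Agent.Lib.Helper20.GrReg1.endDeg_le_iff]
  constructor
  · intro h n hn
    exact (van_iff_std k r ℳ E i n).2 ((Hgr_eq_bot_iff k r ℳ E i n).1 (h n hn))
  · intro h n hn
    exact (Hgr_eq_bot_iff k r ℳ E i n).2 ((van_iff_std k r ℳ E i n).1 (h n hn))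

end translate

end Groth.Agent.Lib.Helper20.GrPolyStd
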