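import Mathlib
import Groth.Prelude.Def_GrLC
import Groth.Prelude.Def_GrSyz
import Groth.Agent.Lib.Helper20.GrReg1
import Groth.Agent.Lib.Helper20.GrFreeMod
import Groth.Agent.Lib.Helper20.GrPolyStd

/-!
# `H^q_𝔪(S)_e = 0` for `e > -q`, `S` a standard graded polynomial ring
-/

set_option autoImplicit false
set_option linter.unusedSectionVars false
set_option linter.unusedVariables false
set_option linter.style.haveILetI false

universe u

open CategoryTheory GrLC Groth.Agent.Lib.Helper4.LC Groth.Agent.Lib.Helper20.GrLCBasic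
  Groth.Agent.Lib.Helper20.GrLCQuot
  Groth.Agent.Lib.Helper20.GrVan Groth.Agent.Lib.Helper20.GrProd Groth.Agent.Lib.Helper20.GrKos
  Groth.Agent.Lib.Helper20.GrChop Groth.Agent.Lib.Helper20.GrFreeMod
  Groth.Agent.Lib.Helper20.GrReg1

namespace Groth.Agent.Lib.Helper20.GrPolyQ

section general

variable {R : Type u} [CommRing R] [IsNoetherianRing R] {𝒜 : ℤ → AddSubgroup R} [GradedRing 𝒜]
  (a : HomogeneousIdeal 𝒜)
  (l : List ↥(𝒜 1)) (hl : a.toIdeal = Ideal.span {r : R | ∃ x ∈ l, (x : R) = r})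

/-- the base of the induction: the residue ring. -/
theorem van_base (I : Submodule R R) (hI : I = a.toIdeal)
    (hpos : ∀ e : ℤ, 0 < e → ∀ p ∈ 𝒜 e, p ∈ a.toIdeal)
    [DirectSum.Decomposition (quotGr 𝒜 I)] (q : ℕ) (e : ℤ) (he : -(q : ℤ) < e) :
    Van a (quotGr 𝒜 I) q e := by
  cases q with
  | zero =>
    apply van_zero_of_piece_eq_bot
    rw [eq_bot_iff]
    rintro _ ⟨p, hp, rfl⟩
    rw [AddSubgroup.mem_bot]
    have : p ∈ I := by
      rw [hI]
      exact hpos e (by simpa using he) p hp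
    exact (Submodule.Quotient.mk_eq_zero I).2 this
  | succ q =>
    apply van_of_torsion
    intro m
    obtain ⟨p, rfl⟩ := Submodule.mkQ_surjective I m
    refine ⟨1, fun r hr => ?_⟩
    rw [pow_one] at hr
    rw [← map_smul, Submodule.mkQ_apply, Submodule.Quotient.mk_eq_zero, hI, smul_eq_mul]
    exact a.toIdeal.mul_mem_right _ hr

include hl in
/-- the inductive step: adjoining a nonzerodivisor of degree one. -/
theorem van_step (I' I : Submodule R R) (x : R) (hx : x ∈ 𝒜 1) (hxa : x ∈ a.toIdeal)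
    (hsup : I = I' ⊔ Ideal.span {x}) (hinj : ∀ p : R, x * p ∈ I' → p ∈ I')
    [DirectSum.Decomposition (quotGr 𝒜 I')] [DirectSum.Decomposition (quotGr 𝒜 I)] (c : ℤ)
    (h : ∀ (q : ℕ) (e : ℤ), c - q < e → Van a (quotGr 𝒜 I) q e) :
    ∀ (q : ℕ) (e : ℤ), c - q < e → Van a (quotGr 𝒜 I') q e := by
  have hle : I' ≤ I := by
    rw [hsup]
    exact le_sup_left
  have hinj' : ∀ m : R ⧸ I', x • m = 0 → m = 0 := by
    intro m hm
    obtain ⟨p, rfl⟩ := Submodule.mkQ_surjective I' m
    rw [← map_smul, Submodule.mkQ_apply, Submodule.Quotient.mk_eq_zero, smul_eq_mul] at hm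
    exact (Submodule.Quotient.mk_eq_zero I').2 (hinj p hm)
  intro q e he
  cases q with
  | zero => exact van_zero_of_injective a (quotGr 𝒜 I') x hxa hinj' e
  | succ q =>
    let π : (R ⧸ I') →ₗ[R] (R ⧸ I) := Submodule.mapQ I' I LinearMap.id (by
      intro p hp
      exact hle hp)
    have hπmk : ∀ p : R, π (I'.mkQ p) = I.mkQ p := fun p => rfl
    have hπ : Function.Surjective π := by
      intro m
      obtain ⟨p, rfl⟩ := Submodule.mkQ_surjective I m
      exact ⟨I'.mkQ p, hπmk p⟩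
    have hπg : IsGrHom (quotGr 𝒜 I') (quotGr 𝒜 I) π := by
      rintro n _ ⟨p, hp, rfl⟩
      exact ⟨p, hp, rfl⟩
    have hker : LinearMap.ker π = LinearMap.range (LinearMap.lsmul R (R ⧸ I') x) := by
      ext m
      obtain ⟨p, rfl⟩ := Submodule.mkQ_surjective I' m
      rw [LinearMap.mem_ker, hπmk, Submodule.mkQ_apply, Submodule.Quotient.mk_eq_zero]
      constructor
      · intro hp
        rw [hsup] at hp
        obtain ⟨i, hi, y, hy, rfl⟩ := Submodule.mem_sup.1 hp
        obtain ⟨c, rfl⟩ := Ideal.mem_span_singleton'.1 hy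
        refine ⟨I'.mkQ c, ?_⟩
        rw [LinearMap.lsmul_apply, ← map_smul, smul_eq_mul, map_add, mul_comm]
        have : I'.mkQ i = 0 := (Submodule.Quotient.mk_eq_zero I').2 hi
        rw [this, zero_add]
      · rintro ⟨m', hm'⟩
        obtain ⟨c, rfl⟩ := Submodule.mkQ_surjective I' m'
        rw [LinearMap.lsmul_apply, ← map_smul, smul_eq_mul] at hm'
        have h1 : x * c - p ∈ I' := by
          rw [← Submodule.Quotient.mk_eq_zero I', Submodule.Quotient.mk_sub]
          exact sub_eq_zero.2 hm'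
        have h2 : x * c ∈ I := by
          rw [hsup]
          exact Submodule.mem_sup_right (Ideal.mem_span_singleton'.2 ⟨c, mul_comm c x⟩)
        have h3 := I.sub_mem h2 (hle h1)
        rwa [sub_sub_cancel] at h3
    refine van_of_quotient a l hl x hx hxa (fun m hm => ?_) π hπ hπg hker c
      (fun e he => h 0 e (by simpa using he)) (fun i _ => h i _ (by omega)) (q + 1)
      (Nat.succ_pos q) e (by omega)
    rw [hinj' m hm]
    exact zero_mem _

/-- transfer from `R ⧸ ⊥` to `R`. -/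
theorem van_of_bot (I : Submodule R R) (hI : I = ⊥) [DirectSum.Decomposition (quotGr 𝒜 I)]
    (q : ℕ) (e : ℤ) (h : Van a (quotGr 𝒜 I) q e) : Van a 𝒜 q e := by
  refine van_of_bijective a (quotGr 𝒜 I) 𝒜 (I.quotEquivOfEqBot hI : (R ⧸ I) →ₗ[R] R)
    (I.quotEquivOfEqBot hI).bijective 0 ?_ q e ?_
  · rintro n _ ⟨p, hp, rfl⟩
    rw [add_zero]
    exact hp
  · rw [sub_zero]
    exact h

end general

section poly

open Groth.Agent.Lib.Helper20.GrPolyStd Groth.Agent.Lib.Helper20.GrConv

variable (k : Type u) [Field k] (r : ℕ)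

/-- the ideal generated by the variables `x_j`, `j ≥ s`. -/
noncomputable def tailIdeal (s : ℕ) : Submodule (MvPolynomial (Fin (r + 1)) k) (MvPolynomial (Fin (r + 1)) k) :=
  Ideal.span (MvPolynomial.X '' {j : Fin (r + 1) | s ≤ j.val})

theorem tailIdeal_isHomogeneous (s : ℕ) : (tailIdeal k r s).IsHomogeneous (stdAS k r) := by
  refine Ideal.homogeneous_span (stdAS k r) _ ?_
  rintro _ ⟨j, -, rfl⟩
  exact ⟨1, X_mem k r j⟩

theorem tailIdeal_zero : tailIdeal k r 0 = (irrelAS k r).toIdeal := by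
  apply le_antisymm
  · refine Ideal.span_le.2 ?_
    rintro _ ⟨j, -, rfl⟩
    exact mem_irrel_of_mem_one k r (X_mem k r j)
  · rw [irrel_eq_span]
    refine Ideal.span_le.2 ?_
    rintro _ ⟨x, hx, rfl⟩
    obtain ⟨j, -, rfl⟩ := List.mem_map.1 hx
    exact Ideal.subset_span ⟨j, Nat.zero_le _, rfl⟩

theorem tailIdeal_top : tailIdeal k r (r + 1) = ⊥ := by
  have : {j : Fin (r + 1) | r + 1 ≤ j.val} = ∅ := by
    ext j
    simp only [Set.mem_setOf_eq, Set.mem_empty_iff_false, iff_false, not_le]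
    exact j.2
  rw [tailIdeal, this, Set.image_empty, Ideal.span_empty]

theorem tailIdeal_succ (s : ℕ) (hs : s < r + 1) :
    tailIdeal k r s = tailIdeal k r (s + 1) ⊔ Ideal.span {(MvPolynomial.X ⟨s, hs⟩ : MvPolynomial (Fin (r + 1)) k)} := by
  have : {j : Fin (r + 1) | s ≤ j.val} = insert ⟨s, hs⟩ {j : Fin (r + 1) | s + 1 ≤ j.val} := by
    ext j
    simp only [Set.mem_setOf_eq, Set.mem_insert_iff]
    constructor
    · intro h
      rcases Nat.eq_or_lt_of_le h with h' | h'
      · left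
        exact Fin.ext h'.symm
      · right
        exact h'
    · rintro (h | h)
      · rw [h]
      · omega
  rw [tailIdeal, this, Set.image_insert_eq, Ideal.span_insert, sup_comm]
  rfl

theorem tailIdeal_inj (s : ℕ) (hs : s < r + 1) (p : MvPolynomial (Fin (r + 1)) k)
    (hp : MvPolynomial.X ⟨s, hs⟩ * p ∈ tailIdeal k r (s + 1)) : p ∈ tailIdeal k r (s + 1) := by
  classical
  have hp' : MvPolynomial.X ⟨s, hs⟩ * p ∈
      Ideal.span (MvPolynomial.X '' {j : Fin (r + 1) | s + 1 ≤ j.val}) := hp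
  show p ∈ Ideal.span (MvPolynomial.X '' {j : Fin (r + 1) | s + 1 ≤ j.val})
  rw [MvPolynomial.mem_ideal_span_X_image] at hp' ⊢
  intro m hm
  have hm' : Finsupp.single (⟨s, hs⟩ : Fin (r + 1)) 1 + m ∈
      ((MvPolynomial.X (⟨s, hs⟩ : Fin (r + 1)) : MvPolynomial (Fin (r + 1)) k) * p).support := by
    rw [MvPolynomial.support_X_mul]
    exact Finset.mem_map.2 ⟨m, hm, rfl⟩
  obtain ⟨i, hi, hne⟩ := hp' _ hm'
  refine ⟨i, hi, ?_⟩
  have his : (⟨s, hs⟩ : Fin (r + 1)) ≠ i := by
    intro h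
    rw [← h] at hi
    simp at hi
  rw [Finsupp.add_apply, Finsupp.single_eq_of_ne his.symm, zero_add] at hne
  exact hne

/-- `H^q_𝔪(S)_e = 0` for `e > -q`. -/
theorem van_poly (q : ℕ) (e : ℤ) (he : -(q : ℤ) < e) : Van (irrelAS k r) (stdAS k r) q e := by
  classical
  letI inst : ∀ s, DirectSum.Decomposition (quotGr (stdAS k r) (tailIdeal k r s)) := fun s =>
    (isInternal_quotGr (stdAS k r) (tailIdeal k r s)
      (tailIdeal_isHomogeneous k r s)).chooseDecomposition
  have key : ∀ s : ℕ, s ≤ r + 1 → ∀ (q : ℕ) (e : ℤ), (0 : ℤ) - q < e →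
      Van (irrelAS k r) (quotGr (stdAS k r) (tailIdeal k r s)) q e := by
    intro s
    induction s with
    | zero =>
      intro _ q e he
      refine van_base (irrelAS k r) (tailIdeal k r 0) (tailIdeal_zero k r) ?_ q e (by omega)
      intro e he p hp
      show p ∈ Ideal.span {p | ∃ n : ℤ, 0 < n ∧ p ∈ GrSyz.stdGr k (Fin (r + 1)) n}
      exact Ideal.subset_span ⟨e, he, hp⟩
    | succ s ih =>
      intro hs
      have hs' : s < r + 1 := by omega
      exact van_step (irrelAS k r) (varList k r) (irrel_eq_span k r) (tailIdeal k r (s + 1))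
        (tailIdeal k r s) (MvPolynomial.X ⟨s, hs'⟩) (X_mem k r _)
        (mem_irrel_of_mem_one k r (X_mem k r _)) (tailIdeal_succ k r s hs')
        (tailIdeal_inj k r s hs') 0 (ih (by omega))
  exact van_of_bot (irrelAS k r) (tailIdeal k r (r + 1)) (tailIdeal_top k r) q e
    (key (r + 1) le_rfl q e (by omega))

end poly

end Groth.Agent.Lib.Helper20.GrPolyQ
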