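import Mathlib
import Groth.Prelude.Def_GrLC
import Groth.Prelude.Def_GrSyz
import Groth.Agent.Lib.Helper20.GrChop
import Groth.Agent.Lib.Helper20.GrFreeMod

/-!
# Regularity from free resolutions versus regularity from local cohomology (Eisenbud–Goto)
-/

set_option autoImplicit false
set_option linter.unusedSectionVars false
set_option linter.unusedVariables false
set_option linter.style.haveILetI false

universe u

open Matrix CategoryTheory GrLC Groth.Agent.Lib.Helper4.LC Groth.Agent.Lib.Helper20.GrLCBasic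
  Groth.Agent.Lib.Helper20.GrLCQuot
  Groth.Agent.Lib.Helper20.GrVan Groth.Agent.Lib.Helper20.GrProd Groth.Agent.Lib.Helper20.GrKos
  Groth.Agent.Lib.Helper20.GrChop Groth.Agent.Lib.Helper20.GrFreeMod

namespace Groth.Agent.Lib.Helper20.GrReg2

variable {R : Type u} [CommRing R] {𝒜 : ℤ → AddSubgroup R} [GradedRing 𝒜]

section syz

variable {X : GMod.{u} 𝒜} (F : GrSyz.FreeRes 𝒜 X.gr)

/-- the augmentation is homogeneous. -/
theorem aug_isGrHom : IsGrHom (freeGr 𝒜 (F.deg 0)) X.gr F.augLin := by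
  intro e v hv
  rw [Fintype.linearCombination_apply]
  refine sum_mem fun b _ => ?_
  have h := SetLike.GradedSMul.smul_mem (A := 𝒜) (B := X.gr) ((mem_freeGr (F.deg 0)).1 hv b)
    (F.aug_mem b)
  rw [vadd_eq_add, neg_add_cancel_right] at h
  exact h

/-- the differentials are homogeneous. -/
theorem d_isGrHom (i : ℕ) : IsGrHom (freeGr 𝒜 (F.deg (i + 1))) (freeGr 𝒜 (F.deg i)) (F.dLin i) := by
  intro e v hv
  rw [mem_freeGr]
  intro b
  show (∑ c, F.d i b c * v c) ∈ _
  refine sum_mem fun c _ => ?_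
  have h := SetLike.GradedMul.mul_mem (A := 𝒜) (F.d_mem i b c) ((mem_freeGr (F.deg (i + 1))).1 hv c)
  have e1 : F.deg (i + 1) c - F.deg i b + (e + -F.deg (i + 1) c) = e + -F.deg i b := by ring
  rw [e1] at h
  exact h

theorem ker_aug_isHomogeneous : (LinearMap.ker F.augLin).IsHomogeneous (freeGr 𝒜 (F.deg 0)) :=
  ker_isHomogeneous (freeGr 𝒜 (F.deg 0)) X.gr F.augLin (aug_isGrHom F)

/-- the first syzygy module. -/
noncomputable def syz : GMod.{u} 𝒜 :=
  letI : DirectSum.Decomposition (subGr (freeGr 𝒜 (F.deg 0)) (LinearMap.ker F.augLin)) :=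
    (isInternal_subGr (freeGr 𝒜 (F.deg 0)) (LinearMap.ker F.augLin)
      (ker_aug_isHomogeneous F)).chooseDecomposition
  { carrier := ↥(LinearMap.ker F.augLin)
    gr := subGr (freeGr 𝒜 (F.deg 0)) (LinearMap.ker F.augLin) }

lemma col_mem_ker (b : Fin (F.rk (0 + 1))) : (fun a => F.d 0 a b) ∈ LinearMap.ker F.augLin := by
  rw [F.exact_zero]
  refine ⟨Pi.single b 1, ?_⟩
  rw [Matrix.mulVecLin_apply, Matrix.mulVec_single_one]
  rfl

lemma mulVec_mem_ker (u : Fin (F.rk (0 + 1)) → R) : F.d 0 *ᵥ u ∈ LinearMap.ker F.augLin := by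
  rw [F.exact_zero]
  exact ⟨u, rfl⟩

lemma linearCombination_col (u : Fin (F.rk (0 + 1)) → R) :
    Fintype.linearCombination R
      (fun b => (⟨fun a => F.d 0 a b, col_mem_ker F b⟩ : ↥(LinearMap.ker F.augLin))) u =
      ⟨F.d 0 *ᵥ u, mulVec_mem_ker F u⟩ := by
  apply Subtype.ext
  rw [Fintype.linearCombination_apply, Submodule.coe_sum]
  funext a
  rw [Finset.sum_apply]
  show _ = ∑ b, F.d 0 a b * u b
  refine Finset.sum_congr rfl fun b _ => ?_
  show u b • F.d 0 a b = F.d 0 a b * u b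
  rw [smul_eq_mul, mul_comm]

/-- the resolution of the first syzygy module obtained by dropping the first term. -/
noncomputable def shift : GrSyz.FreeRes 𝒜 (syz F).gr where
  rk i := F.rk (i + 1)
  deg i := F.deg (i + 1)
  d i := F.d (i + 1)
  aug b := ⟨fun a => F.d 0 a b, col_mem_ker F b⟩
  d_mem i := F.d_mem (i + 1)
  aug_mem b := by
    show ∀ a, F.d 0 a b ∈ 𝒜 (F.deg (0 + 1) b + -F.deg 0 a)
    intro a
    rw [← sub_eq_add_neg]
    exact F.d_mem 0 a b
  aug_surjective := by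
    rintro ⟨z, hz⟩
    have hz' := hz
    rw [F.exact_zero] at hz'
    obtain ⟨u, hu⟩ := hz'
    exact ⟨u, (linearCombination_col F u).trans (Subtype.ext hu)⟩
  exact_zero := by
    rw [← F.exact_succ 0]
    ext u
    rw [LinearMap.mem_ker, LinearMap.mem_ker]
    constructor
    · intro h
      exact congrArg Subtype.val ((linearCombination_col F u).symm.trans h)
    · intro h
      exact (linearCombination_col F u).trans (Subtype.ext h)
  exact_succ i := F.exact_succ (i + 1)

theorem shift_isMinimal (𝔪 : Ideal R) (hF : F.IsMinimal 𝔪) : (shift F).IsMinimal 𝔪 :=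
  fun i a b => hF (i + 1) a b

theorem shift_isGenLE (d : ℤ) (hF : F.IsGenLE d) : (shift F).IsGenLE (d + 1) := by
  intro i b
  have := hF (i + 1) b
  show F.deg (i + 1) b ≤ d + 1 + i
  push_cast at this
  omega

end syz

section main

variable [IsNoetherianRing R] (a : HomogeneousIdeal 𝒜)
  (hQ : ∀ (q : ℕ) (e : ℤ), -(q : ℤ) < e → Van a 𝒜 q e)

include hQ in
theorem van_F0 {X : GMod.{u} 𝒜} (F : GrSyz.FreeRes 𝒜 X.gr) (d : ℤ)
    (h0 : ∀ b, F.deg 0 b ≤ d) (q : ℕ) (e : ℤ) (he : d - q < e) :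
    Van a (freeGr 𝒜 (F.deg 0)) q e := by
  apply van_free
  intro b
  apply hQ
  have := h0 b
  omega

/-- the short exact sequence `0 → syz → F₀ → X → 0`: vanishing for `X`. -/
theorem van_of_syz {X : GMod.{u} 𝒜} (F : GrSyz.FreeRes 𝒜 X.gr) (q : ℕ) (e : ℤ)
    (h1 : Van a (freeGr 𝒜 (F.deg 0)) q e) (h2 : Van a (syz F).gr (q + 1) e) :
    Van a X.gr q e := by
  letI : DirectSum.Decomposition (subGr (freeGr 𝒜 (F.deg 0)) (LinearMap.ker F.augLin)) :=
    (syz F).dec
  have h2' : Van a (subGr (freeGr 𝒜 (F.deg 0)) (LinearMap.ker F.augLin)) (q + 1) e := h2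
  refine van_right (ℳ' := subGr (freeGr 𝒜 (F.deg 0)) (LinearMap.ker F.augLin))
    (ℳ := freeGr 𝒜 (F.deg 0)) (ℳ'' := X.gr) a
    (LinearMap.ker F.augLin).subtype F.augLin 0 0 ?_ ?_ (Submodule.injective_subtype _)
    F.aug_surjective ?_ q e ?_ ?_
  · intro n m hm
    rw [add_zero]
    exact hm
  · intro n m hm
    rw [add_zero]
    exact aug_isGrHom F n m hm
  · rw [LinearMap.exact_iff, Submodule.range_subtype]
  · rw [sub_zero]
    exact h1
  · rw [sub_zero, sub_zero]
    exact h2'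

/-- the short exact sequence `0 → syz → F₀ → X → 0`: vanishing for the syzygy module. -/
theorem van_syz_succ {X : GMod.{u} 𝒜} (F : GrSyz.FreeRes 𝒜 X.gr) (q : ℕ) (e : ℤ)
    (h1 : Van a (freeGr 𝒜 (F.deg 0)) (q + 1) e) (h2 : Van a X.gr q e) :
    Van a (syz F).gr (q + 1) e := by
  letI : DirectSum.Decomposition (subGr (freeGr 𝒜 (F.deg 0)) (LinearMap.ker F.augLin)) :=
    (syz F).dec
  show Van a (subGr (freeGr 𝒜 (F.deg 0)) (LinearMap.ker F.augLin)) (q + 1) e
  refine van_left (ℳ' := subGr (freeGr 𝒜 (F.deg 0)) (LinearMap.ker F.augLin))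
    (ℳ := freeGr 𝒜 (F.deg 0)) (ℳ'' := X.gr) a
    (LinearMap.ker F.augLin).subtype F.augLin 0 0 ?_ ?_ (Submodule.injective_subtype _)
    F.aug_surjective ?_ q e ?_ ?_
  · intro n m hm
    rw [add_zero]
    exact hm
  · intro n m hm
    rw [add_zero]
    exact aug_isGrHom F n m hm
  · rw [LinearMap.exact_iff, Submodule.range_subtype]
  · rw [add_zero]
    exact h1
  · rw [add_zero, add_zero]
    exact h2

theorem van_syz_zero {X : GMod.{u} 𝒜} (F : GrSyz.FreeRes 𝒜 X.gr) (e : ℤ)
    (h1 : Van a (freeGr 𝒜 (F.deg 0)) 0 e) : Van a (syz F).gr 0 e := by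
  letI : DirectSum.Decomposition (subGr (freeGr 𝒜 (F.deg 0)) (LinearMap.ker F.augLin)) :=
    (syz F).dec
  show Van a (subGr (freeGr 𝒜 (F.deg 0)) (LinearMap.ker F.augLin)) 0 e
  refine van_left_zero (ℳ' := subGr (freeGr 𝒜 (F.deg 0)) (LinearMap.ker F.augLin))
    (ℳ := freeGr 𝒜 (F.deg 0)) a
    (LinearMap.ker F.augLin).subtype 0 ?_ (Submodule.injective_subtype _) e ?_
  · intro n m hm
    rw [add_zero]
    exact hm
  · rw [add_zero]
    exact h1

include hQ in
/-- **(A)** a resolution generated in degrees `≤ d + i` forces `H^q_a(M)_e = 0` for `e > d - q`. -/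
theorem van_of_isGenLE (c : ℕ)
    (hcd : ∀ q, c < q → ∀ N : ModuleCat.{u} R, Subsingleton (HH a.toIdeal N q)) :
    ∀ (k q : ℕ), c < q + k → ∀ (X : GMod.{u} 𝒜) (F : GrSyz.FreeRes 𝒜 X.gr) (d : ℤ),
      F.IsGenLE d → ∀ e : ℤ, d - q < e → Van a X.gr q e := by
  intro k
  induction k with
  | zero =>
    intro q hq X F d _ e _
    exact van_of_HH a _ _ _ (hcd q hq _)
  | succ k ih =>
    intro q hq X F d hF e he
    apply van_of_syz a F q e
    · refine van_F0 a hQ F d (fun b => ?_) q e he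
      have := hF 0 b
      simpa using this
    · refine ih (q + 1) (by omega) (syz F) (shift F) (d + 1) (shift_isGenLE F d hF) e ?_
      push_cast
      omega

end main

section converse

variable [IsNoetherianRing R] (a : HomogeneousIdeal 𝒜)
  (hQ : ∀ (q : ℕ) (e : ℤ), -(q : ℤ) < e → Van a 𝒜 q e)
  (l : List ↥(𝒜 1)) (hl : a.toIdeal = Ideal.span {r : R | ∃ x ∈ l, (x : R) = r})
  (hne : a.toIdeal ≠ ⊤)

omit [IsNoetherianRing R] [GradedRing 𝒜] in
lemma apply_mem_of_mem_smul_top {n : ℕ} (I : Ideal R) (w : Fin n → R)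
    (hw : w ∈ I • (⊤ : Submodule R (Fin n → R))) (b : Fin n) : w b ∈ I := by
  refine Submodule.smul_induction_on hw (fun r hr v _ => ?_) (fun x y hx hy => ?_)
  · show r * v b ∈ I
    exact I.mul_mem_right _ hr
  · exact I.add_mem hx hy

include hl hne in
/-- the generators of the first term of a minimal resolution have degrees `≤ d`. -/
theorem deg_zero_le {X : GMod.{u} 𝒜} (F : GrSyz.FreeRes 𝒜 X.gr) (hF : F.IsMinimal a.toIdeal)
    (d : ℤ) (h : ∀ (q : ℕ) (e : ℤ), d - q < e → Van a X.gr q e) (b₀ : Fin (F.rk 0)) :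
    F.deg 0 b₀ ≤ d := by
  classical
  by_contra hcon
  push_neg at hcon
  have h1 : F.aug b₀ ∈ a.toIdeal • (⊤ : Submodule R X.carrier) := by
    refine mem_smul_top_of_van' a l hl X (F.deg 0 b₀) (h 0 _ (by push_cast; omega))
      (fun q _ => h q _ (by omega)) (F.aug b₀) (F.aug_mem b₀)
  have h2 : (⊤ : Submodule R X.carrier) = Submodule.map F.augLin ⊤ := by
    rw [Submodule.map_top]
    exact (LinearMap.range_eq_top.2 F.aug_surjective).symm
  rw [h2, ← Submodule.map_smul''] at h1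
  obtain ⟨w, hw, hwa⟩ := h1
  have h3 : F.augLin (Pi.single b₀ 1) = F.aug b₀ := by
    rw [Fintype.linearCombination_apply_single, one_smul]
  have h4 : (Pi.single b₀ 1 - w : Fin (F.rk 0) → R) ∈ LinearMap.ker F.augLin := by
    rw [LinearMap.mem_ker, map_sub, h3, hwa, sub_self]
  rw [F.exact_zero] at h4
  obtain ⟨u, hu⟩ := h4
  have h5 := congrFun hu b₀
  rw [Matrix.mulVecLin_apply, Pi.sub_apply, Pi.single_eq_same] at h5
  have h6 : (F.d 0 *ᵥ u) b₀ ∈ a.toIdeal := by
    show (∑ c, F.d 0 b₀ c * u c) ∈ a.toIdeal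
    exact sum_mem fun c _ => a.toIdeal.mul_mem_right _ (hF 0 b₀ c)
  have h7 : w b₀ ∈ a.toIdeal := apply_mem_of_mem_smul_top a.toIdeal w hw b₀
  apply hne
  rw [Ideal.eq_top_iff_one]
  have : (1 : R) = (F.d 0 *ᵥ u) b₀ + w b₀ := by rw [h5]; ring
  rw [this]
  exact a.toIdeal.add_mem h6 h7

include hQ hl hne in
/-- **(B)** vanishing of `H^q_a(M)_e` for `e > d - q` forces a minimal resolution to be generated in
degrees `≤ d + i`. -/
theorem isGenLE_of_van :
    ∀ (i : ℕ) (X : GMod.{u} 𝒜) (F : GrSyz.FreeRes 𝒜 X.gr), F.IsMinimal a.toIdeal → ∀ d : ℤ,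
      (∀ (q : ℕ) (e : ℤ), d - q < e → Van a X.gr q e) → ∀ b, F.deg i b ≤ d + i := by
  intro i
  induction i with
  | zero =>
    intro X F hF d h b
    have := deg_zero_le a l hl hne F hF d h b
    simpa using this
  | succ i ih =>
    intro X F hF d h b
    have h0 : ∀ b, F.deg 0 b ≤ d := deg_zero_le a l hl hne F hF d h
    have hsyz : ∀ (q : ℕ) (e : ℤ), d + 1 - q < e → Van a (syz F).gr q e := by
      intro q e he
      cases q with
      | zero =>
        apply van_syz_zero a F e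
        exact van_F0 a hQ F d h0 0 e (by push_cast at he ⊢; omega)
      | succ q =>
        apply van_syz_succ a F q e
        · exact van_F0 a hQ F d h0 (q + 1) e (by push_cast at he ⊢; omega)
        · exact h q e (by push_cast at he; omega)
    have := ih (syz F) (shift F) (shift_isMinimal F _ hF) (d + 1) hsyz b
    show F.deg (i + 1) b ≤ d + ((i + 1 : ℕ) : ℤ)
    have e1 : (shift F).deg i b = F.deg (i + 1) b := rfl
    rw [e1] at this
    push_cast
    omega

end converse

end Groth.Agent.Lib.Helper20.GrReg2
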