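import Mathlib
import Groth.Prelude.Def_GrLC
import Groth.Prelude.Def_GrSyz
import Groth.Agent.Lib.Helper20.GrPolyQ
import Groth.Agent.Lib.Helper20.GrReg2
import Groth.Agent.Lib.Helper7.GrSyzIrrel

/-!
# Eisenbud–Goto for the standard graded polynomial ring
-/

set_option autoImplicit false
set_option linter.unusedSectionVars false
set_option linter.unusedVariables false
set_option linter.style.haveILetI false

universe u

open CategoryTheory GrLC Groth.Agent.Lib.Helper4.LC Groth.Agent.Lib.Helper20.GrLCBasic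
  Groth.Agent.Lib.Helper20.GrLCQuot
  Groth.Agent.Lib.Helper20.GrVan Groth.Agent.Lib.Helper20.GrChop
  Groth.Agent.Lib.Helper20.GrFreeMod Groth.Agent.Lib.Helper20.GrReg1
  Groth.Agent.Lib.Helper20.GrReg2 Groth.Agent.Lib.Helper20.GrPolyStd
  Groth.Agent.Lib.Helper20.GrPolyQ Groth.Agent.Lib.Helper20.GrConv

namespace Groth.Agent.Lib.Helper20.GrPolyReg

section conv

variable {R : Type u} [CommRing R] {σ' : Type u} [SetLike σ' R] [AddSubgroupClass σ' R]
  (𝒜 : ℤ → σ') [GradedRing 𝒜]
  {M : Type u} [AddCommGroup M] [Module R M] {τ : Type u} [SetLike τ M]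
  [AddSubgroupClass τ M] (ℳ : ℤ → τ) [DirectSum.Decomposition ℳ] [SetLike.GradedSMul 𝒜 ℳ]

/-- conversion of free resolutions to the `AddSubgroup` world. -/
def freeResTo (F : GrSyz.FreeRes 𝒜 ℳ) : GrSyz.FreeRes (toAS 𝒜) (toAS ℳ) where
  rk := F.rk
  deg := F.deg
  d := F.d
  aug := F.aug
  d_mem := F.d_mem
  aug_mem := F.aug_mem
  aug_surjective := F.aug_surjective
  exact_zero := F.exact_zero
  exact_succ := F.exact_succ

end conv

section wb

theorem add_le_iff (x : WithBot (WithTop ℤ)) (i d : ℤ) :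
    x + ((i : WithTop ℤ) : WithBot (WithTop ℤ)) ≤ ((d : WithTop ℤ) : WithBot (WithTop ℤ)) ↔
      x ≤ (((d - i : ℤ) : WithTop ℤ) : WithBot (WithTop ℤ)) := by
  induction x using WithBot.recBotCoe with
  | bot => simp
  | coe x =>
    induction x using WithTop.recTopCoe with
    | top =>
      constructor
      · intro h
        rw [← WithBot.coe_add, WithBot.coe_le_coe, WithTop.top_add] at h
        simp at h
      · intro h
        rw [WithBot.coe_le_coe] at h
        simp at h
    | coe n =>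
      rw [← WithBot.coe_add, ← WithTop.coe_add, WithBot.coe_le_coe, WithBot.coe_le_coe,
        WithTop.coe_le_coe, WithTop.coe_le_coe]
      omega

end wb

section std

variable (k : Type u) [Field k] (r : ℕ)
  {M : Type u} [AddCommGroup M] [Module k M] [Module (MvPolynomial (Fin (r + 1)) k) M]
  [IsScalarTower k (MvPolynomial (Fin (r + 1)) k) M]
  (ℳ : ℤ → Submodule k M) [DirectSum.Decomposition ℳ]
  [SetLike.GradedSMul (GrSyz.stdGr k (Fin (r + 1))) ℳ]

theorem irrel_ne_top : (irrelAS k r).toIdeal ≠ ⊤ :=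
  (Groth.Agent.Lib.Helper7.irrel_stdGr_isMaximal k (Fin (r + 1))).ne_top

omit [IsScalarTower k (MvPolynomial (Fin (r + 1)) k) M] in
/-- **Eisenbud–Goto.** -/
theorem isGenLE_iff_van (F : GrSyz.FreeRes (GrSyz.stdGr k (Fin (r + 1))) ℳ)
    (hF : F.IsMinimal (GrSyz.irrel (GrSyz.stdGr k (Fin (r + 1)))).toIdeal) (d : ℤ) :
    F.IsGenLE d ↔ ∀ (q : ℕ) (e : ℤ), d - q < e → Van (irrelAS k r) (toAS ℳ) q e := by
  constructor
  · intro h q e he
    exact van_of_isGenLE (irrelAS k r) (van_poly k r) (varList k r).length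
      (fun q hq N => subsingleton_HH_of_length_lt (irrelAS k r) (varList k r) (irrel_eq_span k r)
        q hq N) ((varList k r).length + 1) q (by omega)
      (GMod.of (stdAS k r) M (toAS ℳ)) (freeResTo (GrSyz.stdGr k (Fin (r + 1))) ℳ F) d h e he
  · intro h i b
    exact isGenLE_of_van (irrelAS k r) (van_poly k r) (varList k r) (irrel_eq_span k r)
      (irrel_ne_top k r) i (GMod.of (stdAS k r) M (toAS ℳ))
      (freeResTo (GrSyz.stdGr k (Fin (r + 1))) ℳ F) hF d h b

end std

end Groth.Agent.Lib.Helper20.GrPolyReg
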