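import Mathlib
import Groth.Prelude.Def_GrLC
import Groth.Agent.Lib.Helper20.GrReg1
import Groth.Agent.Lib.Helper20.GrFreeMod

/-!
# Full regularity (local cohomology sense) and quotients by (quasi-)regular linear forms
-/

set_option autoImplicit false
set_option linter.unusedSectionVars false
set_option linter.unusedVariables false
set_option linter.style.haveILetI false

universe u

open CategoryTheory GrLC Groth.Agent.Lib.Helper4.LC Groth.Agent.Lib.Helper20.GrLCBasic
  Groth.Agent.Lib.Helper20.GrLCQuot Groth.Agent.Lib.Helper20.GrRes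
  Groth.Agent.Lib.Helper20.GrLES Groth.Agent.Lib.Helper20.GrLES2
  Groth.Agent.Lib.Helper20.GrFin2
  Groth.Agent.Lib.Helper20.GrVan Groth.Agent.Lib.Helper20.GrProd Groth.Agent.Lib.Helper20.GrKos
  Groth.Agent.Lib.Helper20.GrChop Groth.Agent.Lib.Helper20.GrReg1
  Groth.Agent.Lib.Helper20.GrFreeMod

namespace Groth.Agent.Lib.Helper20.GrReg3

variable {R : Type u} [CommRing R] [IsNoetherianRing R] {𝒜 : ℤ → AddSubgroup R} [GradedRing 𝒜]
  (a : HomogeneousIdeal 𝒜)

/-- `M` is `d`-regular in the sense of local cohomology: `H^q_a(M)_e = 0` for `e > d - q`. -/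
def Reg2 {M : Type u} [AddCommGroup M] [Module R M] (ℳ : ℤ → AddSubgroup M)
    [DirectSum.Decomposition ℳ] [SetLike.GradedSMul 𝒜 ℳ] (d : ℤ) : Prop :=
  ∀ (q : ℕ) (e : ℤ), d - q < e → Van a ℳ q e

section main

variable {M : Type u} [AddCommGroup M] [Module R M] {ℳ : ℤ → AddSubgroup M}
  [DirectSum.Decomposition ℳ] [SetLike.GradedSMul 𝒜 ℳ]
  {N : Type u} [AddCommGroup N] [Module R N] {𝒩 : ℤ → AddSubgroup N}
  [DirectSum.Decomposition 𝒩] [SetLike.GradedSMul 𝒜 𝒩]
  (l : List ↥(𝒜 1)) (hl : a.toIdeal = Ideal.span {r : R | ∃ x ∈ l, (x : R) = r})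
  (x : R) (hx : x ∈ 𝒜 1) (hxa : x ∈ a.toIdeal)
  (hKtors : ∀ m : M, x • m = 0 → m ∈ GrLC.gam a.toIdeal M)
  (π : M →ₗ[R] N) (hπ : Function.Surjective π) (hπg : IsGrHom ℳ 𝒩 π)
  (hker : LinearMap.ker π = LinearMap.range (LinearMap.lsmul R M x))

include hl hx hxa hKtors hπ hπg hker in
/-- `M` is `d`-regular iff `M/xM` is `d`-regular and `H^0_a(M)` vanishes above `d`. -/
theorem reg2_iff_quotient (d : ℤ) :
    Reg2 a ℳ d ↔ Reg2 a 𝒩 d ∧ ∀ e : ℤ, d < e → Van a ℳ 0 e := by
  constructor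
  · intro h
    have h0 : ∀ e : ℤ, d < e → Van a ℳ 0 e := fun e he => h 0 e (by simpa using he)
    have hw : ∀ i : ℕ, 0 < i → Van a ℳ i (d - i + 1) := fun i _ => h i _ (by omega)
    refine ⟨?_, h0⟩
    have hN0 : ∀ e : ℤ, d < e → Van a 𝒩 0 e := fun e he =>
      van_zero_quotient a l hl x hx hKtors π hπ hπg hker d hw e he (h0 e he)
    have hNw : ∀ i : ℕ, 0 < i → Van a 𝒩 i (d - i + 1) := by
      intro i hi E'
      obtain ⟨E⟩ := Groth.Agent.S13215.result R 𝒜 M ℳ
      exact Groth.Agent.Lib.Helper20.GrWeakReg.Hcomp_quotient_eq_bot_of_weaklyRegular a x hx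
        hKtors π hπ hπg hker E E' d (fun j hj => hw j hj E) i hi
    intro q e he
    rcases Nat.eq_zero_or_pos q with hq | hq
    · subst hq
      exact hN0 e (by simpa using he)
    · exact van_of_weakly a 𝒩 l hl d hNw q hq e he
  · rintro ⟨hN, h0⟩ q e he
    rcases Nat.eq_zero_or_pos q with hq | hq
    · subst hq
      exact h0 e (by simpa using he)
    · exact van_of_quotient a l hl x hx hxa hKtors π hπ hπg hker d
        (fun e he => hN 0 e (by simpa using he)) (fun i _ => hN i _ (by omega)) q hq e (by omega)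

end main

section torsion

variable {N : Type u} [AddCommGroup N] [Module R N] (𝒩 : ℤ → AddSubgroup N)
  [DirectSum.Decomposition 𝒩] [SetLike.GradedSMul 𝒜 𝒩]

/-- for a torsion module, regularity is the top degree. -/
theorem reg2_iff_of_torsion (ht : ∀ m : N, m ∈ GrLC.gam a.toIdeal N) (d : ℤ) :
    Reg2 a 𝒩 d ↔ ∀ e : ℤ, d < e → 𝒩 e = ⊥ := by
  constructor
  · intro h e he
    rw [eq_bot_iff]
    intro m hm
    rw [AddSubgroup.mem_bot]
    exact eq_zero_of_van_zero a 𝒩 (h 0 e (by simpa using he)) hm (ht m)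
  · intro h q e he
    cases q with
    | zero => exact van_zero_of_piece_eq_bot a 𝒩 e (h e (by simpa using he))
    | succ q => exact van_of_torsion a 𝒩 ht q e

end torsion

section bij

variable {M : Type u} [AddCommGroup M] [Module R M] (ℳ : ℤ → AddSubgroup M)
  [DirectSum.Decomposition ℳ] [SetLike.GradedSMul 𝒜 ℳ]
  {N : Type u} [AddCommGroup N] [Module R N] (𝒩 : ℤ → AddSubgroup N)
  [DirectSum.Decomposition 𝒩] [SetLike.GradedSMul 𝒜 𝒩]

theorem reg2_of_bijective (φ : M →ₗ[R] N) (hφ : Function.Bijective φ) (hdeg : IsGrHom ℳ 𝒩 φ)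
    (d : ℤ) (h : Reg2 a ℳ d) : Reg2 a 𝒩 d := by
  intro q e he
  refine van_of_bijective a ℳ 𝒩 φ hφ 0 (fun n m hm => ?_) q e ?_
  · rw [add_zero]
    exact hdeg n m hm
  · rw [sub_zero]
    exact h q e he

end bij

end Groth.Agent.Lib.Helper20.GrReg3
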