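import Mathlib
import Groth.Prelude.Def_GrLC
import Groth.Prelude.Def_GrSyz
import Groth.Agent.Lib.Helper20.GrPolyReg
import Groth.Agent.Lib.Helper20.GrReg3
import Groth.Agent.Lib.Helper22.GrMinRes
import Groth.Agent.Lib.Helper22.GrMinResReg

/-!
# The regularity of a graded module over a polynomial ring, via local cohomology
-/

set_option autoImplicit false
set_option linter.unusedSectionVars false
set_option linter.unusedVariables false
set_option linter.style.haveILetI false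

universe u

open CategoryTheory GrLC Groth.Agent.Lib.Helper4.LC Groth.Agent.Lib.Helper20.GrLCBasic
  Groth.Agent.Lib.Helper20.GrLCQuot
  Groth.Agent.Lib.Helper20.GrVan Groth.Agent.Lib.Helper20.GrChop
  Groth.Agent.Lib.Helper20.GrFreeMod Groth.Agent.Lib.Helper20.GrReg1
  Groth.Agent.Lib.Helper20.GrReg2 Groth.Agent.Lib.Helper20.GrReg3
  Groth.Agent.Lib.Helper20.GrPolyStd
  Groth.Agent.Lib.Helper20.GrPolyQ Groth.Agent.Lib.Helper20.GrConv
  Groth.Agent.Lib.Helper20.GrPolyReg

namespace Groth.Agent.Lib.Helper20.GrPolyReg2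

theorem eq_of_forall_le_iff {x y : WithBot (WithTop ℤ)}
    (h : ∀ m : ℤ, x ≤ ((m : WithTop ℤ) : WithBot (WithTop ℤ)) ↔
      y ≤ ((m : WithTop ℤ) : WithBot (WithTop ℤ))) : x = y :=
  le_antisymm (Groth.Agent.Lib.Helper22.GrMinResReg.le_of_forall_int fun m hm => (h m).2 hm)
    (Groth.Agent.Lib.Helper22.GrMinResReg.le_of_forall_int fun m hm => (h m).1 hm)

variable (k : Type u) [Field k] (r : ℕ)
  {M : Type u} [AddCommGroup M] [Module k M] [Module (MvPolynomial (Fin (r + 1)) k) M]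
  [IsScalarTower k (MvPolynomial (Fin (r + 1)) k) M]
  (ℳ : ℤ → Submodule k M) [DirectSum.Decomposition ℳ]
  [SetLike.GradedSMul (GrSyz.stdGr k (Fin (r + 1))) ℳ]

/-- `reg M ≤ m` iff `M` is `m`-regular in the sense of local cohomology. -/
theorem reg_le_iff_reg2 [Module.Finite (MvPolynomial (Fin (r + 1)) k) M] (m : ℤ) :
    GrSyz.reg (GrSyz.stdGr k (Fin (r + 1))) ℳ
        (GrSyz.irrel (GrSyz.stdGr k (Fin (r + 1)))).toIdeal ≤
        ((m : WithTop ℤ) : WithBot (WithTop ℤ)) ↔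
      Reg2 (irrelAS k r) (toAS ℳ) m := by
  obtain ⟨F, hF⟩ := Groth.Agent.Lib.Helper22.GrMinRes.exists_minimal
    (GrSyz.stdGr k (Fin (r + 1))) (GrSyz.irrel (GrSyz.stdGr k (Fin (r + 1)))).toIdeal
    (Groth.Agent.Lib.Helper22.GrMinRes.hunit_std k r) ℳ
  have hiff := fun s => Groth.Agent.Lib.Helper22.GrMinResReg.isRegLE_iff k r ℳ F hF s
  have hmono : ∀ s s' : ℤ, s ≤ s' → F.IsGenLE s → F.IsGenLE s' := by
    intro s s' hss' h i b
    have := h i b
    omega
  have h1 : GrSyz.reg (GrSyz.stdGr k (Fin (r + 1))) ℳ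
        (GrSyz.irrel (GrSyz.stdGr k (Fin (r + 1)))).toIdeal ≤
        ((m : WithTop ℤ) : WithBot (WithTop ℤ)) ↔ F.IsGenLE m := by
    constructor
    · intro hle
      by_contra hcon
      have h2 : (((m + 1 : ℤ) : WithTop ℤ) : WithBot (WithTop ℤ)) ≤
          GrSyz.reg (GrSyz.stdGr k (Fin (r + 1))) ℳ
            (GrSyz.irrel (GrSyz.stdGr k (Fin (r + 1)))).toIdeal := by
        refine le_iInf₂ fun s hs => ?_
        have hs' := (hiff s).1 hs
        have : m + 1 ≤ s := by
          by_contra hlt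
          exact hcon (hmono s m (by omega) hs')
        exact_mod_cast this
      have h3 := h2.trans hle
      have : m + 1 ≤ m := by exact_mod_cast h3
      omega
    · intro h
      exact iInf₂_le m ((hiff m).2 h)
  rw [h1, isGenLE_iff_van k r ℳ F hF m]
  rfl

/-- `IsRegLE m` iff `M` is `m`-regular in the sense of local cohomology. -/
theorem isRegLE_iff_reg2 [Module.Finite (MvPolynomial (Fin (r + 1)) k) M] (m : ℤ) :
    GrSyz.IsRegLE (GrSyz.stdGr k (Fin (r + 1))) ℳ
        (GrSyz.irrel (GrSyz.stdGr k (Fin (r + 1)))).toIdeal m ↔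
      Reg2 (irrelAS k r) (toAS ℳ) m := by
  obtain ⟨F, hF⟩ := Groth.Agent.Lib.Helper22.GrMinRes.exists_minimal
    (GrSyz.stdGr k (Fin (r + 1))) (GrSyz.irrel (GrSyz.stdGr k (Fin (r + 1)))).toIdeal
    (Groth.Agent.Lib.Helper22.GrMinRes.hunit_std k r) ℳ
  rw [Groth.Agent.Lib.Helper22.GrMinResReg.isRegLE_iff k r ℳ F hF m,
    isGenLE_iff_van k r ℳ F hF m]
  rfl

include ℳ in
omit [IsScalarTower k (MvPolynomial (Fin (r + 1)) k) M] in
/-- a graded module of finite length is torsion for the irrelevant ideal. -/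
theorem mem_gam_of_isFiniteLength (hM : IsFiniteLength (MvPolynomial (Fin (r + 1)) k) M) (m : M) :
    m ∈ GrLC.gam (irrelAS k r).toIdeal M := by
  haveI : IsArtinian (MvPolynomial (Fin (r + 1)) k) M :=
    (isFiniteLength_iff_isNoetherian_isArtinian.1 hM).2
  obtain ⟨n₀, hn₀⟩ := Groth.Agent.Lib.Helper20.GrArtin.eventually_bot_of_isArtinian (stdAS k r)
    (toAS ℳ) (stdAS_neg k r)
  exact Groth.Agent.Lib.Helper20.GrWeakReg2.mem_gam_of_eventually_bot (stdAS k r) (toAS ℳ) _ rfl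
    n₀ hn₀ m

omit [IsScalarTower k (MvPolynomial (Fin (r + 1)) k) M]
  [Module (MvPolynomial (Fin (r + 1)) k) M] [SetLike.GradedSMul (GrSyz.stdGr k (Fin (r + 1))) ℳ] in
theorem endDeg_toAddSubgroup_le_iff (d : ℤ) :
    GrLC.endDeg (fun n => (ℳ n).toAddSubgroup) ≤ ((d : WithTop ℤ) : WithBot (WithTop ℤ)) ↔
      ∀ e : ℤ, d < e → toAS ℳ e = ⊥ := by
  rw [endDeg_le_iff]
  constructor
  · intro h e he
    rw [eq_bot_iff]
    intro x hx
    have : x ∈ (ℳ e).toAddSubgroup := hx
    rw [h e he] at this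
    exact this
  · intro h e he
    rw [eq_bot_iff]
    intro x hx
    have : x ∈ toAS ℳ e := hx
    rw [h e he] at this
    exact this

/-- the regularity of a module of finite length is its top degree. -/
theorem reg_eq_endDeg_of_isFiniteLength [Module.Finite (MvPolynomial (Fin (r + 1)) k) M]
    (hM : IsFiniteLength (MvPolynomial (Fin (r + 1)) k) M) :
    GrSyz.reg (GrSyz.stdGr k (Fin (r + 1))) ℳ
        (GrSyz.irrel (GrSyz.stdGr k (Fin (r + 1)))).toIdeal =
      GrLC.endDeg (fun n => (ℳ n).toAddSubgroup) := by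
  apply Groth.Agent.Lib.Helper20.GrPolyReg2.eq_of_forall_le_iff
  intro m
  rw [reg_le_iff_reg2 k r ℳ m, endDeg_toAddSubgroup_le_iff k ℳ m,
    reg2_iff_of_torsion (irrelAS k r) (toAS ℳ) (mem_gam_of_isFiniteLength k r ℳ hM) m]

end Groth.Agent.Lib.Helper20.GrPolyReg2
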