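import Mathlib
import Groth.Prelude.Def_GrLC
import Groth.Agent.Lib.Helper20.GrReg3

/-!
# Regularity and regular sequences of linear forms
-/

set_option autoImplicit false
set_option linter.unusedSectionVars false
set_option linter.unusedVariables false
set_option linter.style.haveILetI false

universe u

open Pointwise CategoryTheory GrLC Groth.Agent.Lib.Helper4.LC Groth.Agent.Lib.Helper20.GrLCBasic
  Groth.Agent.Lib.Helper20.GrLCQuot
  Groth.Agent.Lib.Helper20.GrVan Groth.Agent.Lib.Helper20.GrChop Groth.Agent.Lib.Helper20.GrReg1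
  Groth.Agent.Lib.Helper20.GrReg3 Groth.Agent.Lib.Helper20.GrFreeMod

namespace Groth.Agent.Lib.Helper20.GrReg4

variable {R : Type u} [CommRing R] [IsNoetherianRing R] {𝒜 : ℤ → AddSubgroup R} [GradedRing 𝒜]
  (a : HomogeneousIdeal 𝒜)
  (l : List ↥(𝒜 1)) (hl : a.toIdeal = Ideal.span {r : R | ∃ x ∈ l, (x : R) = r})

omit [IsNoetherianRing R] [GradedRing 𝒜] in
lemma smul_top_eq_range {M : Type u} [AddCommGroup M] [Module R M] (y : R) :
    (y • (⊤ : Submodule R M)) = LinearMap.range (LinearMap.lsmul R M y) := by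
  ext m
  rw [Submodule.mem_smul_pointwise_iff_exists]
  constructor
  · rintro ⟨b, -, rfl⟩
    exact ⟨b, rfl⟩
  · rintro ⟨b, rfl⟩
    exact ⟨b, trivial, rfl⟩

include hl in
/-- a module with a regular sequence of linear forms whose quotient is torsion: regularity is the
top degree of the quotient. -/
theorem reg2_iff_of_regularSequence :
    ∀ (ys : List R), (∀ y ∈ ys, y ∈ 𝒜 1) → (∀ y ∈ ys, y ∈ a.toIdeal) →
    ∀ (M : Type u) [AddCommGroup M] [Module R M] (ℳ : ℤ → AddSubgroup M)
      [DirectSum.Decomposition ℳ] [SetLike.GradedSMul 𝒜 ℳ]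
      (_ : RingTheory.Sequence.IsWeaklyRegular M ys)
      (N : Type u) [AddCommGroup N] [Module R N] (𝒩 : ℤ → AddSubgroup N)
      [DirectSum.Decomposition 𝒩] [SetLike.GradedSMul 𝒜 𝒩]
      (π : M →ₗ[R] N) (_ : Function.Surjective π) (_ : IsGrHom ℳ 𝒩 π)
      (_ : LinearMap.ker π = Ideal.ofList ys • (⊤ : Submodule R M))
      (_ : ∀ n : N, n ∈ GrLC.gam a.toIdeal N) (d : ℤ),
      Reg2 a ℳ d ↔ ∀ e : ℤ, d < e → 𝒩 e = ⊥ := by
  classical
  intro ys
  induction ys with
  | nil =>
    intro _ _ M _ _ ℳ _ _ _ N _ _ 𝒩 _ _ π hπ hπg hker hN d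
    rw [Ideal.ofList_nil, Submodule.bot_smul] at hker
    have hbij : Function.Bijective π := ⟨LinearMap.ker_eq_bot.1 hker, hπ⟩
    rw [← reg2_iff_of_torsion a 𝒩 hN d]
    constructor
    · exact reg2_of_bijective a ℳ 𝒩 π hbij hπg d
    · let φ := LinearEquiv.ofBijective π hbij
      refine reg2_of_bijective a 𝒩 ℳ (φ.symm : N →ₗ[R] M) φ.symm.bijective ?_ d
      intro n y hy
      apply mem_of_map_mem ℳ 𝒩 π hπg hbij.1
      have : π (φ.symm y) = y := φ.apply_symm_apply y
      rw [LinearEquiv.coe_coe, this]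
      exact hy
  | cons y ys ih =>
    intro hys1 hysa M _ _ ℳ _ _ hreg N _ _ 𝒩 _ _ π hπ hπg hker hN d
    rw [RingTheory.Sequence.isWeaklyRegular_cons_iff] at hreg
    obtain ⟨hy, hreg'⟩ := hreg
    have hy1 : y ∈ 𝒜 1 := hys1 y List.mem_cons_self
    have hya : y ∈ a.toIdeal := hysa y List.mem_cons_self
    set P : Submodule R M := y • (⊤ : Submodule R M) with hPdef
    have hPr : P = LinearMap.range (LinearMap.lsmul R M y) := smul_top_eq_range y
    have hygr : IsGrHomDeg ℳ ℳ (LinearMap.lsmul R M y) 1 := by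
      intro n m hm
      have h := SetLike.GradedSMul.smul_mem (A := 𝒜) (B := ℳ) hy1 hm
      rw [vadd_eq_add, add_comm] at h
      exact h
    have hP : P.IsHomogeneous ℳ := by
      rw [hPr]
      exact range_isHomogeneous_deg ℳ ℳ (LinearMap.lsmul R M y) 1 hygr
    letI : DirectSum.Decomposition (quotGr ℳ P) := (isInternal_quotGr ℳ P hP).chooseDecomposition
    have hPle : P ≤ LinearMap.ker π := by
      rw [hker, Ideal.ofList_cons_smul]
      exact le_sup_left
    let π₁ : (M ⧸ P) →ₗ[R] N := P.liftQ π hPle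
    have hπ₁ : Function.Surjective π₁ := by
      intro n
      obtain ⟨m, rfl⟩ := hπ n
      exact ⟨P.mkQ m, rfl⟩
    have hπ₁g : IsGrHom (quotGr ℳ P) 𝒩 π₁ := by
      rintro n _ ⟨m, hm, rfl⟩
      exact hπg n m hm
    have hker₁ : LinearMap.ker π₁ = Ideal.ofList ys • (⊤ : Submodule R (M ⧸ P)) := by
      rw [Submodule.ker_liftQ, hker, Ideal.ofList_cons_smul, Submodule.map_sup,
        Submodule.mkQ_map_self, bot_sup_eq, Submodule.map_smul'', Submodule.map_top,
        Submodule.range_mkQ]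
    have hih := ih (fun z hz => hys1 z (List.mem_cons_of_mem _ hz))
      (fun z hz => hysa z (List.mem_cons_of_mem _ hz)) (M ⧸ P) (quotGr ℳ P) hreg' N 𝒩 π₁ hπ₁
      hπ₁g hker₁ hN d
    rw [← hih]
    have hinj : ∀ m : M, y • m = 0 → m = 0 := by
      intro m hm
      apply hy
      show y • m = y • 0
      rw [hm, smul_zero]
    rw [reg2_iff_quotient a l hl y hy1 hya (fun m hm => by rw [hinj m hm]; exact zero_mem _)
      P.mkQ (Submodule.mkQ_surjective P) (mkQ_isGrHom ℳ P)
      (by rw [Submodule.ker_mkQ, hPr]) d]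
    constructor
    · exact fun h => h.1
    · exact fun h => ⟨h, fun e _ => van_zero_of_injective a ℳ y hya hinj e⟩

end Groth.Agent.Lib.Helper20.GrReg4
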