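import Mathlib
import Groth.Prelude.Def_GrLC
import Groth.Prelude.Def_GrSyz
import Groth.Agent.Lib.Helper20.GrLenCount
import Groth.Agent.Lib.Helper20.GrPolyReg2
import Groth.Agent.Lib.Helper20.GrReg4
import Groth.Agent.Lib.Helper22.GrMinRes

/-!
# Counting dimensions of graded pieces of a finite length graded quotient of a polynomial ring
-/

set_option autoImplicit false
set_option linter.unusedSectionVars false
set_option linter.unusedVariables false
set_option linter.style.haveILetI false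
set_option linter.deprecated false

universe u

open GrLC Groth.Agent.Lib.Helper20.GrConv

namespace Groth.Agent.Lib.Helper20.GrLenCount2

section generic

variable {k : Type u} [Field k] {N : Type u} [AddCommGroup N] [Module k N]
  (𝒩 : ℤ → Submodule k N) [DirectSum.Decomposition 𝒩]

theorem sum_finrank_le [Module.Finite k N] (J : Finset ℤ) :
    ∑ j ∈ J, Module.finrank k (𝒩 j) ≤ Module.finrank k N := by
  classical
  let P : N →ₗ[k] (Π j : J, 𝒩 j.1) :=
    LinearMap.pi (fun j => (DirectSum.component k ℤ (fun i => 𝒩 i) j.1).comp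
      (DirectSum.decomposeLinearEquiv 𝒩).toLinearMap)
  have hP : ∀ n (j : J), P n j = DirectSum.decompose 𝒩 n j.1 := fun n j => rfl
  have hsurj : Function.Surjective P := by
    intro f
    refine ⟨∑ j : J, (f j : N), ?_⟩
    funext j'
    rw [hP, DirectSum.decompose_sum, DFinsupp.finset_sum_apply]
    rw [Finset.sum_eq_single j']
    · rw [DirectSum.decompose_coe, DirectSum.of_eq_same]
    · intro j _ hne
      rw [DirectSum.decompose_coe, DirectSum.of_eq_of_ne]
      intro h
      exact hne (Subtype.ext h.symm)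
    · intro h
      exact absurd (Finset.mem_univ _) h
  have h1 := LinearMap.finrank_le_finrank_of_surjective hsurj
  rw [Module.finrank_pi_fintype] at h1
  rw [← Finset.sum_coe_sort J (fun j => Module.finrank k (𝒩 j))]
  exact h1

end generic

section poly

variable (k : Type u) [Field k] (r : ℕ)

/-- the polynomial ring is `k ⊕ 𝔪`. -/
theorem sub_C_mem_irrel (s : MvPolynomial (Fin (r + 1)) k) :
    ∃ c : k, s - algebraMap k (MvPolynomial (Fin (r + 1)) k) c ∈
      (GrSyz.irrel (GrSyz.stdGr k (Fin (r + 1)))).toIdeal := by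
  classical
  induction s using DirectSum.Decomposition.inductionOn (GrSyz.stdGr k (Fin (r + 1))) with
  | zero => exact ⟨0, by simp⟩
  | @homogeneous i x =>
    rcases lt_trichotomy i 0 with hi | hi | hi
    · refine ⟨0, ?_⟩
      rw [Groth.Agent.Lib.Helper22.GrMinRes.stdGr_neg k r i hi _ x.2]
      simp
    · refine ⟨MvPolynomial.coeff 0 (x : MvPolynomial (Fin (r + 1)) k), ?_⟩
      have := Groth.Agent.Lib.Helper22.GrMinRes.stdGr_nonpos k r i hi.le _ x.2
      rw [MvPolynomial.algebraMap_eq, ← this, sub_self]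
      exact zero_mem _
    · refine ⟨0, ?_⟩
      rw [map_zero, sub_zero]
      exact Ideal.subset_span ⟨i, hi, x.2⟩
  | add m m' h h' =>
    obtain ⟨c, hc⟩ := h
    obtain ⟨c', hc'⟩ := h'
    refine ⟨c + c', ?_⟩
    rw [map_add]
    have := add_mem hc hc'
    convert this using 1
    ring

variable {N : Type u} [AddCommGroup N] [Module k N] [Module (MvPolynomial (Fin (r + 1)) k) N]
  [IsScalarTower k (MvPolynomial (Fin (r + 1)) k) N]
  (𝒩 : ℤ → Submodule k N) [DirectSum.Decomposition 𝒩]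
  [SetLike.GradedSMul (GrSyz.stdGr k (Fin (r + 1))) 𝒩]

section surj

variable {M : Type u} [AddCommGroup M] [Module k M] [Module (MvPolynomial (Fin (r + 1)) k) M]
  [IsScalarTower k (MvPolynomial (Fin (r + 1)) k) M]
  (ℳ : ℤ → Submodule k M) [DirectSum.Decomposition ℳ]
  [SetLike.GradedSMul (GrSyz.stdGr k (Fin (r + 1))) ℳ]

/-- graded maps commute with components (submodule-valued gradings). -/
theorem decompose_map' (f : M →ₗ[MvPolynomial (Fin (r + 1)) k] N) (hf : GrLC.IsGrHom ℳ 𝒩 f)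
    (x : M) (g : ℤ) :
    ((DirectSum.decompose 𝒩 (f x) g : 𝒩 g) : N) = f (DirectSum.decompose ℳ x g : ℳ g) := by
  have := Groth.Agent.Lib.Helper20.GrLCBasic.decompose_map (toAS ℳ) (toAS 𝒩) f hf x g
  rw [decompose_toAS, decompose_toAS] at this
  exact this

theorem exists_preimage_mem (f : M →ₗ[MvPolynomial (Fin (r + 1)) k] N)
    (hf : Function.Surjective f) (hfg : GrLC.IsGrHom ℳ 𝒩 f) (j : ℤ) (n : N) (hn : n ∈ 𝒩 j) :
    ∃ m ∈ ℳ j, f m = n := by
  obtain ⟨m, rfl⟩ := hf n
  refine ⟨(DirectSum.decompose ℳ m j : ℳ j), (DirectSum.decompose ℳ m j).2, ?_⟩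
  rw [← decompose_map' k r 𝒩 ℳ f hfg, DirectSum.decompose_of_mem_same 𝒩 hn]

end surj

variable (ρ : MvPolynomial (Fin (r + 1)) k →ₗ[MvPolynomial (Fin (r + 1)) k] N)
  (hρ : Function.Surjective ρ) (hρg : GrLC.IsGrHom (GrSyz.stdGr k (Fin (r + 1))) 𝒩 ρ)

include hρ hρg in
theorem piece_neg (j : ℤ) (hj : j < 0) : 𝒩 j = ⊥ := by
  rw [eq_bot_iff]
  intro n hn
  obtain ⟨s, hs, rfl⟩ := exists_preimage_mem k r 𝒩 (GrSyz.stdGr k (Fin (r + 1))) ρ hρ hρg j n hn
  rw [Groth.Agent.Lib.Helper22.GrMinRes.stdGr_neg k r j hj s hs, map_zero]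
  exact zero_mem _

include hρ hρg in
theorem piece_succ_eq_bot (j : ℤ) (hj : 0 ≤ j) (h : 𝒩 j = ⊥) : 𝒩 (j + 1) = ⊥ := by
  classical
  rw [eq_bot_iff]
  intro n hn
  obtain ⟨s, hs, rfl⟩ := exists_preimage_mem k r 𝒩 (GrSyz.stdGr k (Fin (r + 1))) ρ hρ hρg (j + 1) n hn
  have hmem : s ∈ Ideal.span (Set.range (MvPolynomial.X : Fin (r + 1) → MvPolynomial (Fin (r + 1)) k)) := by
    rw [← Set.image_univ, MvPolynomial.mem_ideal_span_X_image]
    intro m hm
    have hp' : s.IsWeightedHomogeneous (fun _ : Fin (r + 1) => (1 : ℤ)) (j + 1) := hs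
    have h1 := hp' (MvPolynomial.mem_support_iff.1 hm)
    by_contra hcon
    push_neg at hcon
    have hm0 : m = 0 := by
      ext i
      exact hcon i (Set.mem_univ i)
    rw [hm0, map_zero] at h1
    omega
  obtain ⟨c, hc⟩ := (Ideal.mem_span_range_iff_exists_fun).1 hmem
  have hs' : s = ∑ i, ((DirectSum.decompose (GrSyz.stdGr k (Fin (r + 1))) (c i) j :
      GrSyz.stdGr k (Fin (r + 1)) j) : MvPolynomial (Fin (r + 1)) k) * MvPolynomial.X i := by
    conv_lhs => rw [← DirectSum.decompose_of_mem_same (GrSyz.stdGr k (Fin (r + 1))) hs, ← hc]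
    rw [DirectSum.decompose_sum, DFinsupp.finset_sum_apply, AddSubmonoidClass.coe_finset_sum]
    refine Finset.sum_congr rfl (fun i _ => ?_)
    exact DirectSum.coe_decompose_mul_add_of_right_mem (GrSyz.stdGr k (Fin (r + 1)))
      (MvPolynomial.isWeightedHomogeneous_X _ _ i)
  rw [Submodule.mem_bot, hs', map_sum]
  refine Finset.sum_eq_zero (fun i _ => ?_)
  rw [mul_comm, ← smul_eq_mul, map_smul]
  have : ρ ((DirectSum.decompose (GrSyz.stdGr k (Fin (r + 1))) (c i) j :
      GrSyz.stdGr k (Fin (r + 1)) j) : MvPolynomial (Fin (r + 1)) k) ∈ 𝒩 j :=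
    hρg j _ (DirectSum.decompose (GrSyz.stdGr k (Fin (r + 1))) (c i) j).2
  rw [h, Submodule.mem_bot] at this
  rw [this, smul_zero]

include hρ hρg in
theorem piece_ne_bot_of_le (e : ℤ) (he : 𝒩 e ≠ ⊥) (j : ℤ) (hj : 0 ≤ j) (hje : j ≤ e) :
    𝒩 j ≠ ⊥ := by
  intro h
  apply he
  have : ∀ i : ℤ, j ≤ i → 𝒩 i = ⊥ := by
    intro i hi
    induction i, hi using Int.le_induction with
    | base => exact h
    | succ i hi ih => exact piece_succ_eq_bot k r 𝒩 ρ hρ hρg i (by omega) ih
  exact this e hje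

include hρg in
/-- the dimension of the degree one piece. -/
theorem le_finrank_one [Module.Finite k N] (ys : List (MvPolynomial (Fin (r + 1)) k))
    (hker1 : ∀ x : MvPolynomial (Fin (r + 1)) k, x ∈ GrSyz.stdGr k (Fin (r + 1)) 1 → ρ x = 0 →
      x ∈ Submodule.span k {y | y ∈ ys}) :
    r + 1 ≤ Module.finrank k (𝒩 1) + ys.length := by
  classical
  let ι : (Fin (r + 1) → k) →ₗ[k] MvPolynomial (Fin (r + 1)) k :=
    Fintype.linearCombination k (MvPolynomial.X : Fin (r + 1) → MvPolynomial (Fin (r + 1)) k)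
  have hιinj : Function.Injective ι :=
    linearIndependent_iff_injective_fintypeLinearCombination.1 (MvPolynomial.linearIndependent_X _ _)
  have hιmem : ∀ c, ι c ∈ GrSyz.stdGr k (Fin (r + 1)) 1 := by
    intro c
    show Fintype.linearCombination k _ c ∈ _
    rw [Fintype.linearCombination_apply]
    refine Submodule.sum_mem _ (fun i _ => Submodule.smul_mem _ _ ?_)
    exact MvPolynomial.isWeightedHomogeneous_X _ _ i
  let ψ : (Fin (r + 1) → k) →ₗ[k] N := (ρ.restrictScalars k).comp ι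
  have hψ : ∀ c, ψ c = ρ (ι c) := fun c => rfl
  let W : Submodule k (MvPolynomial (Fin (r + 1)) k) := Submodule.span k {y | y ∈ ys}
  have hWset : {y | y ∈ ys} = ((ys.toFinset : Finset (MvPolynomial (Fin (r + 1)) k)) :
      Set (MvPolynomial (Fin (r + 1)) k)) := by
    ext y
    simp
  haveI : Module.Finite k W := by
    show Module.Finite k (Submodule.span k {y | y ∈ ys})
    rw [hWset]
    exact Module.Finite.span_finset k _
  have hW : Module.finrank k W ≤ ys.length := by
    show Module.finrank k (Submodule.span k {y | y ∈ ys}) ≤ _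
    rw [hWset]
    exact (finrank_span_finset_le_card _).trans (List.toFinset_card_le ys)
  have hkerle : Module.finrank k (LinearMap.ker ψ) ≤ Module.finrank k W := by
    let g : LinearMap.ker ψ →ₗ[k] W :=
      (ι.domRestrict (LinearMap.ker ψ)).codRestrict W (fun c => by
        have hc : ψ c.1 = 0 := c.2
        exact hker1 _ (hιmem c.1) ((hψ c.1).symm.trans hc))
    have hg : Function.Injective g := by
      intro c c' h
      apply Subtype.ext
      apply hιinj
      exact congrArg Subtype.val h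
    exact LinearMap.finrank_le_finrank_of_injective hg
  have hrange : Module.finrank k (LinearMap.range ψ) ≤ Module.finrank k (𝒩 1) := by
    apply Submodule.finrank_mono
    rintro _ ⟨c, rfl⟩
    rw [hψ]
    exact hρg 1 _ (hιmem c)
  have hrn := LinearMap.finrank_range_add_finrank_ker ψ
  rw [Module.finrank_fintype_fun_eq_card, Fintype.card_fin] at hrn
  omega

include hρ hρg in
/-- the counting bound. -/
theorem add_le_finrank [Module.Finite k N] (ys : List (MvPolynomial (Fin (r + 1)) k))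
    (hker1 : ∀ x : MvPolynomial (Fin (r + 1)) k, x ∈ GrSyz.stdGr k (Fin (r + 1)) 1 → ρ x = 0 →
      x ∈ Submodule.span k {y | y ∈ ys})
    (e : ℤ) (he : 𝒩 e ≠ ⊥) :
    e + ((r : ℤ) + 1 - (ys.length : ℤ)) ≤ (Module.finrank k N : ℤ) := by
  classical
  have h1 := le_finrank_one k r 𝒩 ρ hρg ys hker1
  have he0 : 0 ≤ e := by
    by_contra hneg
    exact he (piece_neg k r 𝒩 ρ hρ hρg e (by omega))
  have hpos : ∀ j : ℤ, 0 ≤ j → j ≤ e → 1 ≤ Module.finrank k (𝒩 j) := by
    intro j hj hje
    have hne := piece_ne_bot_of_le k r 𝒩 ρ hρ hρg e he j hj hje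
    rw [Nat.one_le_iff_ne_zero]
    intro h0
    apply hne
    rw [← Submodule.finrank_eq_zero (R := k)]
    exact h0
  rcases eq_or_lt_of_le he0 with h0 | hlt
  · -- e = 0
    have hs := sum_finrank_le 𝒩 ({0, 1} : Finset ℤ)
    rw [Finset.sum_pair (by norm_num)] at hs
    have := hpos 0 le_rfl (by omega)
    omega
  · have hs := sum_finrank_le 𝒩 (Finset.Icc 0 e)
    have h1mem : (1 : ℤ) ∈ Finset.Icc 0 e := Finset.mem_Icc.2 ⟨by norm_num, by omega⟩
    rw [← Finset.add_sum_erase _ _ h1mem] at hs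
    have hcard : ((Finset.Icc 0 e).erase 1).card ≤
        ∑ j ∈ (Finset.Icc 0 e).erase 1, Module.finrank k (𝒩 j) := by
      have := Finset.card_nsmul_le_sum ((Finset.Icc 0 e).erase 1)
        (fun j => Module.finrank k (𝒩 j)) 1 (by
          intro j hj
          have hj' := Finset.mem_Icc.1 (Finset.mem_of_mem_erase hj)
          exact hpos j hj'.1 hj'.2)
      simpa using this
    have hc : (((Finset.Icc 0 e).erase 1).card : ℤ) = e := by
      rw [Finset.card_erase_of_mem h1mem, Int.card_Icc]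
      have : (e + 1 - 0).toNat = (e.toNat + 1) := by omega
      rw [this]
      simp
      omega
    omega

section linforms

variable {M : Type u} [AddCommGroup M] [Module k M] [Module (MvPolynomial (Fin (r + 1)) k) M]
  [IsScalarTower k (MvPolynomial (Fin (r + 1)) k) M]
  (ℳ : ℤ → Submodule k M) [DirectSum.Decomposition ℳ]
  [SetLike.GradedSMul (GrSyz.stdGr k (Fin (r + 1))) ℳ]
  (π : MvPolynomial (Fin (r + 1)) k →ₗ[MvPolynomial (Fin (r + 1)) k] M)
  (hπ : Function.Surjective π) (hπg : GrLC.IsGrHom (GrSyz.stdGr k (Fin (r + 1))) ℳ π)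

include hπ hπg in
theorem piece_zero_eq (m0 : M) (hm0 : m0 ∈ ℳ 0) : ∃ c : k, m0 = c • π 1 := by
  obtain ⟨s0, hs0, rfl⟩ := exists_preimage_mem k r ℳ (GrSyz.stdGr k (Fin (r + 1))) π hπ hπg 0 m0 hm0
  refine ⟨MvPolynomial.coeff 0 s0, ?_⟩
  have h1 := Groth.Agent.Lib.Helper22.GrMinRes.stdGr_nonpos k r 0 le_rfl s0 hs0
  conv_lhs => rw [h1]
  rw [← mul_one (MvPolynomial.C _), ← MvPolynomial.smul_eq_C_mul, LinearMap.map_smul_of_tower]

include hπ hπg in
/-- the linear forms in `ker π + (ys)` lie in the span of `ys` when `ker π` has no linear forms. -/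
theorem mem_span_of_map_mem_smul_top
    (hlin : ∀ x : MvPolynomial (Fin (r + 1)) k, x ∈ GrSyz.stdGr k (Fin (r + 1)) 1 → π x = 0 → x = 0)
    (ys : List (MvPolynomial (Fin (r + 1)) k)) (hys : ∀ y ∈ ys, y ∈ GrSyz.stdGr k (Fin (r + 1)) 1)
    (x : MvPolynomial (Fin (r + 1)) k) (hx : x ∈ GrSyz.stdGr k (Fin (r + 1)) 1)
    (hxm : π x ∈ Ideal.ofList ys • (⊤ : Submodule (MvPolynomial (Fin (r + 1)) k) M)) :
    x ∈ Submodule.span k {y | y ∈ ys} := by
  classical
  set W : Submodule k (MvPolynomial (Fin (r + 1)) k) := Submodule.span k {y | y ∈ ys} with hW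
  have hW1 : W ≤ GrSyz.stdGr k (Fin (r + 1)) 1 := by
    rw [hW, Submodule.span_le]
    intro y hy
    exact hys y hy
  have hdec_add : ∀ a b : M, ((DirectSum.decompose ℳ (a + b) 1 : ℳ 1) : M) =
      ((DirectSum.decompose ℳ a 1 : ℳ 1) : M) + ((DirectSum.decompose ℳ b 1 : ℳ 1) : M) := by
    intro a b
    rw [DirectSum.decompose_add, DirectSum.add_apply, Submodule.coe_add]
  have hQ : ∀ s ∈ Ideal.ofList ys, ∀ m' : M, ∃ y' ∈ W,
      ((DirectSum.decompose ℳ (s • m') 1 : ℳ 1) : M) = π y' := by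
    intro s hs
    induction hs using Submodule.span_induction with
    | mem y hy =>
      intro m'
      have hy1 : y ∈ toAS (GrSyz.stdGr k (Fin (r + 1))) 1 := hys y hy
      have h1 := Groth.Agent.Lib.Helper20.GrLCBasic.decompose_smul_left
        (toAS (GrSyz.stdGr k (Fin (r + 1)))) (toAS ℳ) hy1 m' 0
      rw [decompose_toAS, decompose_toAS, zero_add] at h1
      obtain ⟨c, hc⟩ := piece_zero_eq k r ℳ π hπ hπg _ (DirectSum.decompose ℳ m' 0).2
      refine ⟨c • y, Submodule.smul_mem _ _ (Submodule.subset_span hy), ?_⟩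
      rw [h1, hc, LinearMap.map_smul_of_tower, smul_comm]
      congr 1
      rw [← map_smul, smul_eq_mul, mul_one]
    | zero =>
      intro m'
      refine ⟨0, zero_mem _, ?_⟩
      rw [zero_smul, DirectSum.decompose_zero, DirectSum.zero_apply, map_zero]
      rfl
    | add s1 s2 _ _ h1 h2 =>
      intro m'
      obtain ⟨y1, hy1, e1⟩ := h1 m'
      obtain ⟨y2, hy2, e2⟩ := h2 m'
      refine ⟨y1 + y2, add_mem hy1 hy2, ?_⟩
      rw [add_smul, hdec_add, e1, e2, map_add]
    | smul t s1 _ h1 =>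
      intro m'
      obtain ⟨y1, hy1, e1⟩ := h1 (t • m')
      refine ⟨y1, hy1, ?_⟩
      rw [← e1, smul_eq_mul, mul_comm, mul_smul]
  have hP : ∀ m ∈ Ideal.ofList ys • (⊤ : Submodule (MvPolynomial (Fin (r + 1)) k) M),
      ∃ y' ∈ W, ((DirectSum.decompose ℳ m 1 : ℳ 1) : M) = π y' := by
    intro m hm
    induction hm using Submodule.smul_induction_on' with
    | smul s hs n hn => exact hQ s hs n
    | add a _ b _ h1 h2 =>
      obtain ⟨y1, hy1, e1⟩ := h1
      obtain ⟨y2, hy2, e2⟩ := h2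
      refine ⟨y1 + y2, add_mem hy1 hy2, ?_⟩
      rw [hdec_add, e1, e2, map_add]
  obtain ⟨y', hy', e'⟩ := hP _ hxm
  rw [DirectSum.decompose_of_mem_same ℳ (hπg 1 x hx)] at e'
  have hz : x - y' = 0 := by
    apply hlin
    · exact sub_mem hx (hW1 hy')
    · rw [map_sub, e', sub_self]
  rw [sub_eq_zero] at hz
  rw [hz]
  exact hy'

end linforms

end poly

end Groth.Agent.Lib.Helper20.GrLenCount2
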