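import Mathlib
import Groth.Agent.Lib.Helper20.GrModCM2

/-!
# The graded Cohen–Macaulay criterion for finitely generated graded modules, II (helper20)
-/

set_option autoImplicit false
set_option linter.unusedSectionVars false
set_option linter.unusedVariables false
set_option linter.style.haveILetI false

universe u

open CategoryTheory Abelian IsLocalRing GrLC TensorProduct

namespace Groth.Agent.Lib.Helper20.GrModCM

open Groth.Agent.Lib.Helper4 Groth.Agent.Lib.Helper4.LC Groth.Agent.Lib.Helper20.GrMultiCore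

section graded

variable {R : Type u} [CommRing R] [IsNoetherianRing R] (𝒜 : ℤ → AddSubgroup R) [GradedRing 𝒜]
  (hpos : ∀ n : ℤ, n < 0 → 𝒜 n = ⊥) (h0 : IsField (deg0 𝒜))
  (m : HomogeneousIdeal 𝒜)
  (hmsp : m.toIdeal = Ideal.span (⋃ n ∈ Set.Ioi (0 : ℤ), (𝒜 n : Set R)))
  {M : Type u} [AddCommGroup M] [Module R M] [Module.Finite R M] (ℳ : ℤ → AddSubgroup M)
  [DirectSum.Decomposition ℳ] [SetLike.GradedSMul 𝒜 ℳ]

include hpos h0 hmsp ℳ in
/-- **the graded Cohen–Macaulay criterion for modules**: vanishing of local cohomology below the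
dimension implies Cohen–Macaulayness at all primes. -/
theorem cm_of_HH_vanishing [Nontrivial M] (d : ℕ) (hd : Module.supportDim R M = d)
    (h : ∀ i < d, Subsingleton (HH m.toIdeal (ModuleCat.of R M) i)) :
    ∀ (q : Ideal R) [q.IsPrime], Subsingleton (LocalizedModule q.primeCompl M) ∨
      LocCoh.IsCohenMacaulayModule (Localization.AtPrime q) (LocalizedModule q.primeCompl M) := by
  classical
  haveI hmax : m.toIdeal.IsMaximal :=
    Groth.Agent.Lib.Helper20.GrFieldLocal.isMaximal 𝒜 hpos h0 m hmsp
  haveI hmp : m.toIdeal.IsPrime := hmax.isPrime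
  haveI hnt : Nontrivial (LocalizedModule m.toIdeal.primeCompl M) :=
    nontrivial_loc 𝒜 hpos h0 m hmsp ℳ
  have hdepth : (d : ℕ∞) ≤ LocCoh.depth (Localization.AtPrime m.toIdeal)
      (LocalizedModule m.toIdeal.primeCompl M) := by
    rw [depth_loc_eq_idealDepth m.toIdeal M]
    exact le_idealDepth_of_HH_vanishing m.toIdeal M d h
  have hdim : Module.supportDim (Localization.AtPrime m.toIdeal)
      (LocalizedModule m.toIdeal.primeCompl M) = d := by
    rw [← supportDim_eq_loc 𝒜 hpos h0 m hmsp ℳ, hd]
  have hcm : LocCoh.IsCohenMacaulayModule (Localization.AtPrime m.toIdeal)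
      (LocalizedModule m.toIdeal.primeCompl M) := by
    unfold LocCoh.IsCohenMacaulayModule
    apply le_antisymm
    · rw [hdim]
      exact_mod_cast hdepth
    · exact Groth.Agent.Lib.Helper28.depth_le_supportDim
  intro p hp
  haveI := hp
  haveI hc : (Ideal.homogeneousCore 𝒜 p).toIdeal.IsPrime := Ideal.IsPrime.homogeneousCore hp
  by_cases hsupp : Nontrivial (LocalizedModule p.primeCompl M)
  · right
    have hpS : (⟨p, hp⟩ : PrimeSpectrum R) ∈ Module.support R M := hsupp
    have hcS : (⟨(Ideal.homogeneousCore 𝒜 p).toIdeal, hc⟩ : PrimeSpectrum R) ∈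
        Module.support R M := by
      have hc' : (homSpan 𝒜 p).IsPrime := by
        rw [← homSpan_eq_core]
        exact hc
      have := Groth.Agent.Lib.Helper20.GrMultiDim.core_mem_support 𝒜 ℳ ⟨p, hp⟩ hpS hc'
      convert this using 2
      exact homSpan_eq_core 𝒜 p
    have hne : Ideal.homogeneousCore 𝒜 p ≠ ⊤ := by
      intro h
      apply hp.ne_top
      rw [eq_top_iff]
      have := congrArg HomogeneousIdeal.toIdeal h
      rw [HomogeneousIdeal.toIdeal_top] at this
      rw [← this]
      exact Ideal.toIdeal_homogeneousCore_le 𝒜 p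
    have hle : (Ideal.homogeneousCore 𝒜 p).toIdeal ≤ m.toIdeal :=
      Groth.Agent.Lib.Helper20.GrFieldLocal.le_of_ne_top 𝒜 hpos h0 m hmsp _ hne
    rcases cm_loc_of_le m.toIdeal (Ideal.homogeneousCore 𝒜 p).toIdeal hle M hcm with h1 | h1
    · exfalso
      have h2 : Nontrivial (LocalizedModule (Ideal.homogeneousCore 𝒜 p).toIdeal.primeCompl M) :=
        hcS
      exact false_of_nontrivial_of_subsingleton
        (LocalizedModule (Ideal.homogeneousCore 𝒜 p).toIdeal.primeCompl M)
    · have hd1 := height_map_core_le_one 𝒜 p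
      obtain ⟨d', hd'⟩ := ENat.ne_top_iff_exists.1 (ne_top_of_le_ne_top (by simp) hd1)
      have e1 := Groth.Agent.S13232.result R 𝒜 M ℳ p d' hd'.symm hsupp
      have e2 := Groth.Agent.S13234.result R 𝒜 M ℳ p d' hd'.symm
      unfold LocCoh.IsCohenMacaulayModule at h1 ⊢
      rw [e1, e2, h1]
      push_cast
      rfl
  · left
    exact not_nontrivial_iff_subsingleton.1 hsupp

include hpos h0 hmsp ℳ in
/-- a graded module that is Cohen–Macaulay at the irrelevant ideal has no local cohomology below
its dimension. -/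
theorem HH_vanishing_of_cm [Nontrivial M] (d : ℕ) (hd : Module.supportDim R M = d)
    (hcm : haveI : m.toIdeal.IsPrime :=
        (Groth.Agent.Lib.Helper20.GrFieldLocal.isMaximal 𝒜 hpos h0 m hmsp).isPrime
      LocCoh.IsCohenMacaulayModule (Localization.AtPrime m.toIdeal)
        (LocalizedModule m.toIdeal.primeCompl M)) (i : ℕ) (hi : i < d) :
    Subsingleton (HH m.toIdeal (ModuleCat.of R M) i) := by
  haveI hmax : m.toIdeal.IsMaximal :=
    Groth.Agent.Lib.Helper20.GrFieldLocal.isMaximal 𝒜 hpos h0 m hmsp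
  haveI hmp : m.toIdeal.IsPrime := hmax.isPrime
  haveI hnt : Nontrivial (LocalizedModule m.toIdeal.primeCompl M) :=
    nontrivial_loc 𝒜 hpos h0 m hmsp ℳ
  apply HH.subsingleton_of_lt_idealDepth m.toIdeal M i
  rw [← depth_loc_eq_idealDepth m.toIdeal M]
  have hdim : Module.supportDim (Localization.AtPrime m.toIdeal)
      (LocalizedModule m.toIdeal.primeCompl M) = d := by
    rw [← supportDim_eq_loc 𝒜 hpos h0 m hmsp ℳ, hd]
  unfold LocCoh.IsCohenMacaulayModule at hcm
  rw [hdim] at hcm
  have h1 : LocCoh.depth (Localization.AtPrime m.toIdeal)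
      (LocalizedModule m.toIdeal.primeCompl M) = (d : ℕ∞) := by
    have : (((d : ℕ) : ℕ∞) : WithBot ℕ∞) = ((LocCoh.depth (Localization.AtPrime m.toIdeal)
      (LocalizedModule m.toIdeal.primeCompl M) : ℕ∞) : WithBot ℕ∞) := hcm
    exact (WithBot.coe_injective this).symm
  rw [h1]
  exact_mod_cast hi

include hpos h0 hmsp ℳ in
/-- **Grothendieck non-vanishing for graded modules.** -/
theorem nontrivial_HH_top [Nontrivial M] (d : ℕ) (hd : Module.supportDim R M = d) :
    Nontrivial (HH m.toIdeal (ModuleCat.of R M) d) := by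
  haveI hmax : m.toIdeal.IsMaximal :=
    Groth.Agent.Lib.Helper20.GrFieldLocal.isMaximal 𝒜 hpos h0 m hmsp
  haveI hmp : m.toIdeal.IsPrime := hmax.isPrime
  by_contra hcon
  rw [not_nontrivial_iff_subsingleton] at hcon
  have hdim : Module.supportDim (Localization.AtPrime m.toIdeal)
      (LocalizedModule m.toIdeal.primeCompl M) = d := by
    rw [← supportDim_eq_loc 𝒜 hpos h0 m hmsp ℳ, hd]
  have hdim' : Module.supportDim (Localization.AtPrime m.toIdeal)
      (Localization.AtPrime m.toIdeal ⊗[R] M) = d := by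
    rw [← hdim]
    exact (Module.supportDim_eq_of_equiv
      (LocalizedModule.equivTensorProduct m.toIdeal.primeCompl M)).symm
  haveI : Module.Finite (Localization.AtPrime m.toIdeal) (Localization.AtPrime m.toIdeal ⊗[R] M) :=
    inferInstance
  have hnt := Groth.Agent.Lib.Helper20.LCNonVanish.nontrivial_top d
    (Localization.AtPrime m.toIdeal ⊗[R] M) hdim'
  obtain ⟨e5⟩ := Groth.Agent.Lib.Helper20.LCFlat.nonempty_baseChange_equiv
    (Localization.AtPrime m.toIdeal) m.toIdeal d M
  have hsub : Subsingleton (HH (m.toIdeal.map (algebraMap R (Localization.AtPrime m.toIdeal)))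
      (ModuleCat.of (Localization.AtPrime m.toIdeal) (Localization.AtPrime m.toIdeal ⊗[R] M))
      d) := e5.symm.toEquiv.subsingleton
  rw [Localization.AtPrime.map_eq_maximalIdeal] at hsub
  exact false_of_nontrivial_of_subsingleton
    (HH (IsLocalRing.maximalIdeal (Localization.AtPrime m.toIdeal))
      (ModuleCat.of (Localization.AtPrime m.toIdeal) (Localization.AtPrime m.toIdeal ⊗[R] M)) d)

end graded

end Groth.Agent.Lib.Helper20.GrModCM
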