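import Mathlib
import Groth.Prelude.Def_GrLC
import Groth.Agent.Lib.Helper20.GrAinv
import Groth.Agent.Lib.Helper20.GrChop2
import Groth.Agent.Lib.Helper20.SegAcyc2

/-!
# Non-vanishing degrees of the top local cohomology of a graded module with a homogeneous regular
sequence (helper20)
-/

set_option autoImplicit false
set_option linter.unusedSectionVars false
set_option linter.unusedVariables false
set_option linter.style.haveILetI false

universe u

open Pointwise CategoryTheory DirectSum GrLC Groth.Agent.Lib.Helper4.LC Groth.Agent.Lib.Helper20.GrLCBasic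
  Groth.Agent.Lib.Helper20.GrLCQuot Groth.Agent.Lib.Helper20.GrRes
  Groth.Agent.Lib.Helper20.GrLES Groth.Agent.Lib.Helper20.GrLES2
  Groth.Agent.Lib.Helper20.GrFin1 Groth.Agent.Lib.Helper20.GrFin2 Groth.Agent.Lib.Helper20.GrAinv

namespace Groth.Agent.Lib.Helper20.GrModNV

variable {R : Type u} [CommRing R] [IsNoetherianRing R] {𝒜 : ℤ → AddSubgroup R} [GradedRing 𝒜]

section step

variable (a : HomogeneousIdeal 𝒜)
  {M : Type u} [AddCommGroup M] [Module R M] {ℳ : ℤ → AddSubgroup M}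
  [DirectSum.Decomposition ℳ] [SetLike.GradedSMul 𝒜 ℳ]
  {N : Type u} [AddCommGroup N] [Module R N] {𝒩 : ℤ → AddSubgroup N}
  [DirectSum.Decomposition 𝒩] [SetLike.GradedSMul 𝒜 𝒩]

/-- **one regular quotient**: non-vanishing degrees propagate. -/
theorem ne_bot_step (E : StarInjRes 𝒜 ℳ) (F : StarInjRes 𝒜 𝒩)
    (x : R) (e : ℤ) (hx : x ∈ 𝒜 e) (hreg : IsSMulRegular M x)
    (π : M →ₗ[R] N) (hπs : Function.Surjective π) (hπg : IsGrHom ℳ 𝒩 π)
    (hker : LinearMap.ker π = LinearMap.range (LinearMap.lsmul R M x)) (c : ℕ)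
    (hc : Subsingleton (E.H a c)) (hN : Subsingleton (F.H a (c + 1))) :
    (∀ j, F.Hgr a c j ≠ ⊥ → E.Hgr a (c + 1) (j - e) ≠ ⊥) ∧
      (∀ j, E.Hgr a (c + 1) j ≠ ⊥ → E.Hgr a (c + 1) (j - e) ≠ ⊥) := by
  classical
  have hf : IsGrHomDeg ℳ ℳ (LinearMap.lsmul R M x) e := by
    intro n m hm
    have h := SetLike.GradedSMul.smul_mem (A := 𝒜) (B := ℳ) hx hm
    rw [vadd_eq_add, add_comm] at h
    exact h
  have hg : IsGrHomDeg ℳ 𝒩 π 0 := by
    intro n m hm
    rw [add_zero]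
    exact hπg n m hm
  have hex : Function.Exact (LinearMap.lsmul R M x) π := by
    rw [LinearMap.exact_iff]
    exact hker
  have hinj : Function.Injective (LinearMap.lsmul R M x) := hreg
  obtain ⟨lf⟩ := nonempty_lift (LinearMap.lsmul R M x) e hf E E
  obtain ⟨lg⟩ := nonempty_lift π 0 hg E F
  obtain ⟨D, hD, -, -, h2, -, h3, -, -⟩ :=
    exists_grLES (LinearMap.lsmul R M x) π e 0 hf hg hinj hπs hex E E F a lf lg
  letI := decH F a c
  letI := decH E a (c + 1)
  have hDdeg : IsGrHomDeg (F.Hgr a c) (E.Hgr a (c + 1)) (D c) (-0 + -e) :=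
    fun n z hz => hD c n z hz
  have hDinj : ∀ z, D c z = 0 → z = 0 := by
    intro z hz
    obtain ⟨y, rfl⟩ := h3 c z hz
    rw [Subsingleton.elim y 0, map_zero]
  constructor
  · intro j hj
    obtain ⟨z, hz, hz0⟩ := exists_ne_zero_of_ne_bot hj
    have h1 : D c z ∈ E.Hgr a (c + 1) (j - e) := by
      have := hDdeg j z hz
      have e1 : j + (-0 + -e) = j - e := by ring
      rwa [e1] at this
    exact ne_bot_of_mem h1 (fun h0 => hz0 (hDinj z h0))
  · intro j hj
    obtain ⟨y, hy, hy0⟩ := exists_ne_zero_of_ne_bot hj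
    obtain ⟨w, hw⟩ := h2 (c + 1) y (Subsingleton.elim _ _)
    rw [Hmap_smul] at hw
    have hu : IsGrHomDeg (E.Hgr a (c + 1)) (E.Hgr a (c + 1))
        (LinearMap.lsmul R (E.H a (c + 1)) x) e := by
      intro n h hh
      have := smul_mem_Hgr E a (c + 1) hx hh
      rw [add_comm e n] at this
      exact this
    have hy' : y ∈ E.Hgr a (c + 1) ((j - e) + e) := by
      rw [sub_add_cancel]
      exact hy
    obtain ⟨w', hw', hw'y⟩ := exists_piece_preimage (E.Hgr a (c + 1)) (E.Hgr a (c + 1))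
      (LinearMap.lsmul R (E.H a (c + 1)) x) e hu (j - e) y hy' w hw
    refine ne_bot_of_mem hw' ?_
    intro h0
    apply hy0
    rw [← hw'y, h0, map_zero]

end step

section descent

variable {M : Type u} [AddCommGroup M] [Module R M] (ℳ : ℤ → AddSubgroup M)
  [DirectSum.Decomposition ℳ] [SetLike.GradedSMul 𝒜 ℳ]

omit [IsNoetherianRing R] in
/-- a homogeneous element of `x M` is `x` times a homogeneous element. -/
theorem exists_homogeneous_of_mem_smul (x : R) (e : ℤ) (hx : x ∈ 𝒜 e) (j : ℤ) (u : M)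
    (hu : u ∈ ℳ j) (hux : u ∈ (x • (⊤ : Submodule R M))) : ∃ u' ∈ ℳ (j - e), x • u' = u := by
  classical
  obtain ⟨v, -, rfl⟩ := (Submodule.mem_smul_pointwise_iff_exists _ _ _).1 hux
  have hf : IsGrHomDeg ℳ ℳ (LinearMap.lsmul R M x) e := by
    intro n m hm
    have h := SetLike.GradedSMul.smul_mem (A := 𝒜) (B := ℳ) hx hm
    rw [vadd_eq_add, add_comm] at h
    exact h
  have hu' : x • v ∈ ℳ ((j - e) + e) := by
    rw [sub_add_cancel]
    exact hu
  exact exists_piece_preimage ℳ ℳ (LinearMap.lsmul R M x) e hf (j - e) (x • v) hu' v rfl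

omit [IsNoetherianRing R] in
/-- descent: a non-zero piece of `M` yields a non-zero piece of `M / x M` in a lower degree of the
same class. -/
theorem exists_quot_piece_ne_bot (x : R) (e : ℤ) (he : 0 < e) (hx : x ∈ 𝒜 e)
    (hbd : ∃ n₀ : ℤ, ∀ n : ℤ, n < n₀ → ℳ n = ⊥) (d : ℤ) (hd : ℳ d ≠ ⊥) :
    ∃ n : ℕ, quotGr ℳ (x • (⊤ : Submodule R M)) (d - n * e) ≠ ⊥ := by
  classical
  obtain ⟨n₀, hn₀⟩ := hbd
  by_contra hcon
  push Not at hcon
  have key : ∀ (n : ℕ) (u : M), u ∈ ℳ d → ∃ u' ∈ ℳ (d - n * e), x ^ n • u' = u := by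
    intro n
    induction n with
    | zero =>
      intro u hu
      exact ⟨u, by simpa using hu, by simp⟩
    | succ n ih =>
      intro u hu
      obtain ⟨u', hu', hxu⟩ := ih u hu
      have hq : (x • (⊤ : Submodule R M)).mkQ u' ∈
          quotGr ℳ (x • (⊤ : Submodule R M)) (d - n * e) := mkQ_mem_quotGr ℳ _ hu'
      rw [hcon n, AddSubgroup.mem_bot, Submodule.mkQ_apply, Submodule.Quotient.mk_eq_zero] at hq
      obtain ⟨u'', hu'', hxu'⟩ := exists_homogeneous_of_mem_smul ℳ x e hx (d - n * e) u' hu' hq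
      refine ⟨u'', ?_, ?_⟩
      · have e1 : d - ((n + 1 : ℕ) : ℤ) * e = d - n * e - e := by push_cast; ring
        rw [e1]
        exact hu''
      · rw [pow_succ, mul_smul, hxu', hxu]
  apply hd
  rw [eq_bot_iff]
  intro u hu
  rw [AddSubgroup.mem_bot]
  obtain ⟨n, hn⟩ : ∃ n : ℕ, d - n * e < n₀ := by
    refine ⟨(d - n₀ + 1).toNat, ?_⟩
    have h1 : (0 : ℤ) ≤ ((d - n₀ + 1).toNat : ℤ) := Int.natCast_nonneg _
    have h2 : d - n₀ + 1 ≤ ((d - n₀ + 1).toNat : ℤ) := Int.self_le_toNat _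
    nlinarith
  obtain ⟨u', hu', hxu⟩ := key n u hu
  rw [hn₀ _ hn, AddSubgroup.mem_bot] at hu'
  rw [← hxu, hu', smul_zero]

end descent

end Groth.Agent.Lib.Helper20.GrModNV
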