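import Mathlib
import Groth.Agent.Lib.Helper20.GrModNV1
import Groth.Agent.Lib.Helper20.GrModCM2
import Groth.Agent.Lib.Helper20.GrChop

/-!
# Non-vanishing degrees of the top local cohomology of a graded Cohen–Macaulay module (helper20)
-/

set_option autoImplicit false
set_option linter.unusedSectionVars false
set_option linter.unusedVariables false
set_option linter.style.haveILetI false

universe u

open Pointwise CategoryTheory DirectSum GrLC Groth.Agent.Lib.Helper4.LC Groth.Agent.Lib.Helper20.GrLCBasic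
  Groth.Agent.Lib.Helper20.GrLCQuot Groth.Agent.Lib.Helper20.GrRes
  Groth.Agent.Lib.Helper20.GrLES Groth.Agent.Lib.Helper20.GrLES2
  Groth.Agent.Lib.Helper20.GrFin1 Groth.Agent.Lib.Helper20.GrFin2 Groth.Agent.Lib.Helper20.GrAinv
  Groth.Agent.Lib.Helper20.GrMultiCore Groth.Agent.Lib.Helper20.GrVan

namespace Groth.Agent.Lib.Helper20.GrModNV

variable {R : Type u} [CommRing R] [IsNoetherianRing R] (𝒜 : ℤ → AddSubgroup R) [GradedRing 𝒜]
  (hpos : ∀ n : ℤ, n < 0 → 𝒜 n = ⊥) (h0 : IsField (deg0 𝒜))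
  (a : HomogeneousIdeal 𝒜)
  (ha : a.toIdeal = Ideal.span (⋃ n ∈ Set.Ioi (0 : ℤ), (𝒜 n : Set R)))

section base

variable {M : Type u} [AddCommGroup M] [Module R M] [Module.Finite R M] (ℳ : ℤ → AddSubgroup M)
  [DirectSum.Decomposition ℳ] [SetLike.GradedSMul 𝒜 ℳ]

include hpos h0 ha ℳ in
/-- a graded module of dimension at most zero is torsion for the irrelevant ideal. -/
theorem mem_gam_of_supportDim_le_zero (hdim : Module.supportDim R M ≤ 0) (u : M) :
    u ∈ GrLC.gam a.toIdeal M := by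
  classical
  haveI hmax : a.toIdeal.IsMaximal :=
    Groth.Agent.Lib.Helper20.GrFieldLocal.isMaximal 𝒜 hpos h0 a ha
  haveI hap : a.toIdeal.IsPrime := hmax.isPrime
  have hrad : a.toIdeal ≤ (Module.annihilator R M).radical := by
    rw [Ideal.radical_eq_sInf]
    apply le_sInf
    rintro p ⟨hle, hp⟩
    haveI := hp
    have hpS : (⟨p, hp⟩ : PrimeSpectrum R) ∈ Module.support R M :=
      Module.mem_support_iff_of_finite.2 hle
    haveI hc : (Ideal.homogeneousCore 𝒜 p).toIdeal.IsPrime := Ideal.IsPrime.homogeneousCore hp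
    have hcS : (⟨(Ideal.homogeneousCore 𝒜 p).toIdeal, hc⟩ : PrimeSpectrum R) ∈
        Module.support R M := by
      have hc' : (homSpan 𝒜 p).IsPrime := by
        rw [← homSpan_eq_core]
        exact hc
      have := Groth.Agent.Lib.Helper20.GrMultiDim.core_mem_support 𝒜 ℳ ⟨p, hp⟩ hpS hc'
      convert this using 2
      exact homSpan_eq_core 𝒜 p
    have hne : Ideal.homogeneousCore 𝒜 p ≠ ⊤ := by
      intro h
      apply hp.ne_top
      rw [eq_top_iff]
      have := congrArg HomogeneousIdeal.toIdeal h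
      rw [HomogeneousIdeal.toIdeal_top] at this
      rw [← this]
      exact Ideal.toIdeal_homogeneousCore_le 𝒜 p
    have hca : (Ideal.homogeneousCore 𝒜 p).toIdeal ≤ a.toIdeal :=
      Groth.Agent.Lib.Helper20.GrFieldLocal.le_of_ne_top 𝒜 hpos h0 a ha _ hne
    have haS : (⟨a.toIdeal, hap⟩ : PrimeSpectrum R) ∈ Module.support R M := by
      rw [Module.mem_support_iff_of_finite]
      exact le_trans (Module.mem_support_iff_of_finite.1 hcS) hca
    rcases eq_or_lt_of_le hca with heq | hlt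
    · rw [← heq]
      exact Ideal.toIdeal_homogeneousCore_le 𝒜 p
    · exfalso
      have hlt' : (⟨⟨(Ideal.homogeneousCore 𝒜 p).toIdeal, hc⟩, hcS⟩ : Module.support R M) <
          ⟨⟨a.toIdeal, hap⟩, haS⟩ := hlt
      have h1 := Order.height_add_one_le hlt'
      have h2 : ((Order.height (⟨⟨a.toIdeal, hap⟩, haS⟩ : Module.support R M) : ℕ∞) :
          WithBot ℕ∞) ≤ 0 := le_trans (Order.height_le_krullDim _) hdim
      have h3 : Order.height (⟨⟨a.toIdeal, hap⟩, haS⟩ : Module.support R M) ≤ 0 := by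
        exact_mod_cast h2
      have h4 : (1 : ℕ∞) ≤ 0 := le_trans (le_trans (by simp) h1) h3
      exact absurd h4 (by simp)
  obtain ⟨n, hn⟩ := Ideal.exists_pow_le_of_le_radical_of_fg hrad
    ((isNoetherianRing_iff_ideal_fg R).mp inferInstance a.toIdeal)
  exact ⟨n, fun r hr => Module.mem_annihilator.1 (hn hr) u⟩

include hpos h0 ha in
/-- in dimension zero, `H^0` sees every non-zero piece. -/
theorem Hgr_zero_ne_bot (E : StarInjRes 𝒜 ℳ) (hdim : Module.supportDim R M ≤ 0) (d : ℤ)
    (hd : ℳ d ≠ ⊥) : E.Hgr a 0 d ≠ ⊥ := by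
  obtain ⟨u, hu, hu0⟩ := exists_ne_zero_of_ne_bot hd
  intro hbot
  apply hu0
  have hv : Van a ℳ 0 d := by
    apply van_of_Hcomp_eq_bot a E 0 d
    rw [Submodule.eq_bot_iff]
    intro y hy
    have hy' : y ∈ E.Hgr a 0 d := hy
    rw [hbot] at hy'
    exact hy'
  exact Groth.Agent.Lib.Helper20.GrChop.eq_zero_of_van_zero a ℳ hv hu
    (mem_gam_of_supportDim_le_zero 𝒜 hpos h0 a ha ℳ hdim u)

end base

end Groth.Agent.Lib.Helper20.GrModNV
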