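import Mathlib
import Groth.Agent.Lib.Helper20.GrModNV2
import Groth.Agent.S13215
import Groth.Agent.Lib.Helper20.GrHilbDeg

/-!
# Non-vanishing degrees of the top local cohomology: the induction (helper20)
-/

set_option autoImplicit false
set_option linter.unusedSectionVars false
set_option linter.unusedVariables false
set_option linter.style.haveILetI false

universe u

open Pointwise CategoryTheory DirectSum GrLC Groth.Agent.Lib.Helper4.LC Groth.Agent.Lib.Helper20.GrLCBasic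
  Groth.Agent.Lib.Helper20.GrLCQuot Groth.Agent.Lib.Helper20.GrRes
  Groth.Agent.Lib.Helper20.GrLES Groth.Agent.Lib.Helper20.GrLES2
  Groth.Agent.Lib.Helper20.GrFin1 Groth.Agent.Lib.Helper20.GrFin2 Groth.Agent.Lib.Helper20.GrAinv
  Groth.Agent.Lib.Helper20.GrMultiCore Groth.Agent.Lib.Helper20.GrVan

namespace Groth.Agent.Lib.Helper20.GrModNV

variable {R : Type u} [CommRing R] [IsNoetherianRing R] (𝒜 : ℤ → AddSubgroup R) [GradedRing 𝒜]
  (hpos : ∀ n : ℤ, n < 0 → 𝒜 n = ⊥) (h0 : IsField (deg0 𝒜))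
  (a : HomogeneousIdeal 𝒜)
  (ha : a.toIdeal = Ideal.span (⋃ n ∈ Set.Ioi (0 : ℤ), (𝒜 n : Set R)))

include hpos h0 ha in
/-- **non-vanishing of the top local cohomology along arithmetic progressions**: if `H^i_a(M) = 0`
for `i < r` and `dim M ≤ r`, then there are positive steps `e₀, …, e_{r-1}` such that for every
degree `d` with `M_d ≠ 0`, `H^r_a(M)` is non-zero in all degrees `d - ∑ fᵢ eᵢ`, `fᵢ ≫ 0`. -/
theorem nv_main (r : ℕ) : ∀ (M : Type u) [AddCommGroup M] [Module R M] [Module.Finite R M]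
    (ℳ : ℤ → AddSubgroup M) [DirectSum.Decomposition ℳ] [SetLike.GradedSMul 𝒜 ℳ]
    (E : StarInjRes 𝒜 ℳ), (∀ i < r, Subsingleton (E.H a i)) →
    Module.supportDim R M ≤ ((r : ℕ) : WithBot ℕ∞) →
    ∃ e : ℕ → ℕ, (∀ i, 0 < e i) ∧ ∀ d : ℤ, ℳ d ≠ ⊥ → ∃ b : ℕ, ∀ f : ℕ → ℕ, (∀ i, b ≤ f i) →
      E.Hgr a r (d - ∑ i ∈ Finset.range r, (f i : ℤ) * (e i : ℤ)) ≠ ⊥ := by
  induction r with
  | zero =>
    intro M _ _ _ ℳ _ _ E hlow hdim
    refine ⟨fun _ => 1, fun _ => Nat.one_pos, fun d hd => ⟨0, fun f _ => ?_⟩⟩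
    rw [Finset.range_zero, Finset.sum_empty, sub_zero]
    exact Hgr_zero_ne_bot 𝒜 hpos h0 a ha ℳ E (by simpa using hdim) d hd
  | succ r ih =>
    intro M _ _ _ ℳ _ _ E hlow hdim
    classical
    have htf : ∀ m : M, (∀ s ∈ a.toIdeal, s • m = 0) → m = 0 := by
      intro m hm
      haveI := hlow 0 (Nat.succ_pos r)
      haveI : Subsingleton (HH a.toIdeal (ModuleCat.of R M) 0) :=
        (cmpE E a 0).symm.toEquiv.subsingleton
      have h1 : DRing.torsionSub a.toIdeal M = ⊥ :=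
        (HH0_subsingleton_iff a.toIdeal (ModuleCat.of R M)).1 this
      have h2 : m ∈ DRing.torsionSub a.toIdeal M :=
        ⟨1, fun s hs => hm s (by rwa [pow_one] at hs)⟩
      rw [h1] at h2
      exact (Submodule.mem_bot R).1 h2
    obtain ⟨t, ht, x, hx, hreg⟩ := exists_homogeneous_regular 𝒜 a.toIdeal ha htf
    set P : Submodule R M := x • (⊤ : Submodule R M) with hPdef
    have hPr : P = LinearMap.range (LinearMap.lsmul R M x) := smul_top_eq_range x
    have hP : P.IsHomogeneous ℳ := by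
      rw [hPr]
      exact range_lsmul_isHomogeneous hx
    letI : DirectSum.Decomposition (quotGr ℳ P) := (isInternal_quotGr ℳ P hP).chooseDecomposition
    obtain ⟨E₁⟩ := Groth.Agent.S13215.result R 𝒜 (M ⧸ P) (quotGr ℳ P)
    have hker₁ : LinearMap.ker P.mkQ = LinearMap.range (LinearMap.lsmul R M x) := by
      rw [Submodule.ker_mkQ, hPr]
    have hB := subsingleton_quot a E E₁ x (t : ℤ) hx hreg P.mkQ
      (Submodule.mkQ_surjective P) (mkQ_isGrHom ℳ P) hker₁ r hlow
    have hdim₁ : Module.supportDim R (M ⧸ P) ≤ ((r : ℕ) : WithBot ℕ∞) := by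
      have h1 : Module.supportDim R (M ⧸ P) + 1 ≤ Module.supportDim R M :=
        Module.supportDim_quotSMulTop_succ_le_of_notMem_minimalPrimes (x := x)
          (fun _ => hreg.notMem_of_mem_minimalPrimes)
      exact Groth.Agent.Lib.Helper20.GrHilbDeg.le_of_add_one_le _ r (le_trans h1 hdim)
    obtain ⟨e', he', hIH⟩ := ih (M ⧸ P) (quotGr ℳ P) E₁ hB hdim₁
    have hN : Subsingleton (E₁.H a (r + 1)) := by
      apply subsingleton_H_of_HH
      apply HH.subsingleton_of_supportDim_lt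
      refine lt_of_le_of_lt hdim₁ ?_
      exact_mod_cast Nat.lt_succ_self r
    have hstep := ne_bot_step a E E₁ x (t : ℤ) hx hreg P.mkQ (Submodule.mkQ_surjective P)
      (mkQ_isGrHom ℳ P) hker₁ r (hlow r (Nat.lt_succ_self r)) hN
    obtain ⟨n₀, hn₀⟩ := Groth.Agent.Lib.Helper20.GrChop2.exists_lower_bound ℳ hpos
    refine ⟨fun i => if i = 0 then t else e' (i - 1), ?_, ?_⟩
    · intro i
      by_cases hi : i = 0
      · simp [hi, ht]
      · simp [hi, he']
    · intro d hd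
      obtain ⟨n₁, hn₁⟩ := exists_quot_piece_ne_bot ℳ x (t : ℤ) (by exact_mod_cast ht) hx
        ⟨n₀, hn₀⟩ d hd
      obtain ⟨b', hb'⟩ := hIH (d - n₁ * t) hn₁
      refine ⟨max b' (n₁ + 1), fun f hf => ?_⟩
      have h1 := hb' (fun i => f (i + 1)) (fun i => le_trans (le_max_left _ _) (hf (i + 1)))
      have h2 := hstep.1 _ h1
      have h3 : ∀ j : ℕ, E.Hgr a (r + 1) (d - n₁ * t -
          ∑ i ∈ Finset.range r, (f (i + 1) : ℤ) * (e' i : ℤ) - t - j * t) ≠ ⊥ := by
        intro j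
        induction j with
        | zero => simpa using h2
        | succ j ihj =>
          have := hstep.2 _ ihj
          convert this using 2
          push_cast
          ring
      have hf0 : n₁ + 1 ≤ f 0 := le_trans (le_max_right _ _) (hf 0)
      have h4 := h3 (f 0 - (n₁ + 1))
      convert h4 using 2
      rw [Finset.sum_range_succ']
      simp only [Nat.add_eq_zero_iff, one_ne_zero, and_false, if_false, Nat.add_sub_cancel,
        if_true]
      push_cast [Nat.cast_sub hf0]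
      ring

include hpos h0 ha in
/-- single-step form of `nv_main` (for `r ≥ 1`). -/
theorem nv_cor (r : ℕ) (hr : 1 ≤ r) (M : Type u) [AddCommGroup M] [Module R M] [Module.Finite R M]
    (ℳ : ℤ → AddSubgroup M) [DirectSum.Decomposition ℳ] [SetLike.GradedSMul 𝒜 ℳ]
    (E : StarInjRes 𝒜 ℳ) (hlow : ∀ i < r, Subsingleton (E.H a i))
    (hdim : Module.supportDim R M ≤ ((r : ℕ) : WithBot ℕ∞)) :
    ∃ e : ℕ, 0 < e ∧ ∀ d : ℤ, ℳ d ≠ ⊥ → ∃ n₀ : ℕ, ∀ n : ℕ, n₀ ≤ n →
      E.Hgr a r (d - (n : ℤ) * (e : ℤ)) ≠ ⊥ := by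
  classical
  obtain ⟨e, he, h⟩ := nv_main 𝒜 hpos h0 a ha r M ℳ E hlow hdim
  have hPi : 0 < ∏ i ∈ Finset.range r, e i := Finset.prod_pos (fun i _ => he i)
  refine ⟨r * ∏ i ∈ Finset.range r, e i, Nat.mul_pos (by omega) hPi, fun d hd => ?_⟩
  obtain ⟨b, hb⟩ := h d hd
  refine ⟨b, fun n hn => ?_⟩
  have hf : ∀ i, b ≤ n * ∏ l ∈ (Finset.range r).erase i, e l := by
    intro i
    have h1 : 0 < ∏ l ∈ (Finset.range r).erase i, e l := Finset.prod_pos (fun l _ => he l)
    calc b ≤ n := hn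
      _ = n * 1 := (Nat.mul_one n).symm
      _ ≤ n * ∏ l ∈ (Finset.range r).erase i, e l := Nat.mul_le_mul_left n h1
  have h2 := hb (fun i => n * ∏ l ∈ (Finset.range r).erase i, e l) hf
  have hsum : ∑ i ∈ Finset.range r, (((n * ∏ l ∈ (Finset.range r).erase i, e l : ℕ) : ℤ)) *
      (e i : ℤ) = (n : ℤ) * ((r * ∏ i ∈ Finset.range r, e i : ℕ) : ℤ) := by
    have h3 : ∀ i ∈ Finset.range r, (((n * ∏ l ∈ (Finset.range r).erase i, e l : ℕ) : ℤ)) *
        (e i : ℤ) = ((n * ∏ i ∈ Finset.range r, e i : ℕ) : ℤ) := by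
      intro i hi
      rw [← Finset.prod_erase_mul _ _ hi]
      push_cast
      ring
    rw [Finset.sum_congr rfl h3, Finset.sum_const, Finset.card_range]
    push_cast
    simp only [nsmul_eq_mul]
    ring
  rw [hsum] at h2
  exact h2

end Groth.Agent.Lib.Helper20.GrModNV
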