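import Mathlib
import Groth.Prelude.Def_GrLC
import Groth.Prelude.Def_GrSyz
import Groth.Agent.Lib.Helper20.GrPolyQ

/-!
# `H^q_𝔪(S) = 0` for `q < dim S`, `S` a standard graded polynomial ring
-/

set_option autoImplicit false
set_option linter.unusedSectionVars false
set_option linter.unusedVariables false
set_option linter.style.haveILetI false

universe u

open CategoryTheory GrLC Groth.Agent.Lib.Helper4.LC Groth.Agent.Lib.Helper20.GrLCBasic
  Groth.Agent.Lib.Helper20.GrLCQuot
  Groth.Agent.Lib.Helper20.GrVan Groth.Agent.Lib.Helper20.GrProd Groth.Agent.Lib.Helper20.GrKos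
  Groth.Agent.Lib.Helper20.GrChop Groth.Agent.Lib.Helper20.GrFreeMod
  Groth.Agent.Lib.Helper20.GrReg1 Groth.Agent.Lib.Helper20.GrPolyQ

namespace Groth.Agent.Lib.Helper20.GrPolyDepth

section general

variable {R : Type u} [CommRing R] [IsNoetherianRing R] {𝒜 : ℤ → AddSubgroup R} [GradedRing 𝒜]
  (a : HomogeneousIdeal 𝒜)

/-- the inductive step for full vanishing: adjoining a nonzerodivisor of degree one raises the
depth by one. -/
theorem van_full_step (I' I : Submodule R R) (x : R) (hx : x ∈ 𝒜 1) (hxa : x ∈ a.toIdeal)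
    (hsup : I = I' ⊔ Ideal.span {x}) (hinj : ∀ p : R, x * p ∈ I' → p ∈ I')
    [DirectSum.Decomposition (quotGr 𝒜 I')] [DirectSum.Decomposition (quotGr 𝒜 I)] (c : ℤ)
    (hup : ∀ (q : ℕ) (e : ℤ), c - q < e → Van a (quotGr 𝒜 I') q e) (s : ℕ)
    (h : ∀ q : ℕ, q < s → ∀ e : ℤ, Van a (quotGr 𝒜 I) q e) :
    ∀ q : ℕ, q < s + 1 → ∀ e : ℤ, Van a (quotGr 𝒜 I') q e := by
  have hle : I' ≤ I := by
    rw [hsup]
    exact le_sup_left
  have hinj' : ∀ m : R ⧸ I', x • m = 0 → m = 0 := by
    intro m hm
    obtain ⟨p, rfl⟩ := Submodule.mkQ_surjective I' m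
    rw [← map_smul, Submodule.mkQ_apply, Submodule.Quotient.mk_eq_zero, smul_eq_mul] at hm
    exact (Submodule.Quotient.mk_eq_zero I').2 (hinj p hm)
  intro q hq e
  cases q with
  | zero => exact van_zero_of_injective a (quotGr 𝒜 I') x hxa hinj' e
  | succ q =>
    let π : (R ⧸ I') →ₗ[R] (R ⧸ I) := Submodule.mapQ I' I LinearMap.id (by
      intro p hp
      exact hle hp)
    have hπmk : ∀ p : R, π (I'.mkQ p) = I.mkQ p := fun p => rfl
    have hπ : Function.Surjective π := by
      intro m
      obtain ⟨p, rfl⟩ := Submodule.mkQ_surjective I m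
      exact ⟨I'.mkQ p, hπmk p⟩
    have hπg : IsGrHomDeg (quotGr 𝒜 I') (quotGr 𝒜 I) π 0 := by
      rintro n _ ⟨p, hp, rfl⟩
      rw [add_zero]
      exact ⟨p, hp, rfl⟩
    have hker : LinearMap.ker π = LinearMap.range (LinearMap.lsmul R (R ⧸ I') x) := by
      ext m
      obtain ⟨p, rfl⟩ := Submodule.mkQ_surjective I' m
      rw [LinearMap.mem_ker, hπmk, Submodule.mkQ_apply, Submodule.Quotient.mk_eq_zero]
      constructor
      · intro hp
        rw [hsup] at hp
        obtain ⟨i, hi, y, hy, rfl⟩ := Submodule.mem_sup.1 hp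
        obtain ⟨c, rfl⟩ := Ideal.mem_span_singleton'.1 hy
        refine ⟨I'.mkQ c, ?_⟩
        rw [LinearMap.lsmul_apply, ← map_smul, smul_eq_mul, map_add, mul_comm]
        have : I'.mkQ i = 0 := (Submodule.Quotient.mk_eq_zero I').2 hi
        rw [this, zero_add]
      · rintro ⟨m', hm'⟩
        obtain ⟨c, rfl⟩ := Submodule.mkQ_surjective I' m'
        rw [LinearMap.lsmul_apply, ← map_smul, smul_eq_mul] at hm'
        have h1 : x * c - p ∈ I' := by
          rw [← Submodule.Quotient.mk_eq_zero I', Submodule.Quotient.mk_sub]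
          exact sub_eq_zero.2 hm'
        have h2 : x * c ∈ I := by
          rw [hsup]
          exact Submodule.mem_sup_right (Ideal.mem_span_singleton'.2 ⟨c, mul_comm c x⟩)
        have h3 := I.sub_mem h2 (hle h1)
        rwa [sub_sub_cancel] at h3
    have hfg : IsGrHomDeg (quotGr 𝒜 I') (quotGr 𝒜 I') (LinearMap.lsmul R (R ⧸ I') x) 1 := by
      intro n m hm
      have h := SetLike.GradedSMul.smul_mem (A := 𝒜) (B := quotGr 𝒜 I') hx hm
      rw [vadd_eq_add, add_comm] at h
      exact h
    have hfinj : Function.Injective (LinearMap.lsmul R (R ⧸ I') x) := by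
      rw [← LinearMap.ker_eq_bot, LinearMap.ker_eq_bot']
      intro m hm
      exact hinj' m hm
    have hex : Function.Exact (LinearMap.lsmul R (R ⧸ I') x) π := by
      rw [LinearMap.exact_iff, hker]
    -- descending induction on the degree
    have key : ∀ (n : ℕ) (e : ℤ), c - ((q + 1 : ℕ) : ℤ) < e + n →
        Van a (quotGr 𝒜 I') (q + 1) e := by
      intro n
      induction n with
      | zero =>
        intro e he
        exact hup (q + 1) e (by simpa using he)
      | succ n ih =>
        intro e he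
        refine van_left (ℳ' := quotGr 𝒜 I') (ℳ := quotGr 𝒜 I') (ℳ'' := quotGr 𝒜 I) a
          (LinearMap.lsmul R (R ⧸ I') x) π 1 0 hfg hπg hfinj hπ hex q e ?_ ?_
        · exact ih (e + 1) (by push_cast at he ⊢; omega)
        · exact h q (by omega) _
    exact key (c - ((q + 1 : ℕ) : ℤ) - e + 1).toNat e (by
      have := Int.self_le_toNat (c - ((q + 1 : ℕ) : ℤ) - e + 1)
      omega)

end general

section poly

open Groth.Agent.Lib.Helper20.GrPolyStd Groth.Agent.Lib.Helper20.GrConv

variable (k : Type u) [Field k] (r : ℕ)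

/-- weak vanishing for the quotients by the tail ideals. -/
theorem van_tail [inst : ∀ s, DirectSum.Decomposition (quotGr (stdAS k r) (tailIdeal k r s))] :
    ∀ s : ℕ, s ≤ r + 1 → ∀ (q : ℕ) (e : ℤ), (0 : ℤ) - q < e →
      Van (irrelAS k r) (quotGr (stdAS k r) (tailIdeal k r s)) q e := by
  intro s
  induction s with
  | zero =>
    intro _ q e he
    refine van_base (irrelAS k r) (tailIdeal k r 0) (tailIdeal_zero k r) ?_ q e (by omega)
    intro e he p hp
    show p ∈ Ideal.span {p | ∃ n : ℤ, 0 < n ∧ p ∈ GrSyz.stdGr k (Fin (r + 1)) n}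
    exact Ideal.subset_span ⟨e, he, hp⟩
  | succ s ih =>
    intro hs
    have hs' : s < r + 1 := by omega
    exact van_step (irrelAS k r) (varList k r) (irrel_eq_span k r) (tailIdeal k r (s + 1))
      (tailIdeal k r s) (MvPolynomial.X ⟨s, hs'⟩) (X_mem k r _)
      (mem_irrel_of_mem_one k r (X_mem k r _)) (tailIdeal_succ k r s hs')
      (tailIdeal_inj k r s hs') 0 (ih (by omega))

/-- full vanishing below the depth for the quotients by the tail ideals. -/
theorem van_tail_full [inst : ∀ s, DirectSum.Decomposition (quotGr (stdAS k r) (tailIdeal k r s))] :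
    ∀ s : ℕ, s ≤ r + 1 → ∀ q : ℕ, q < s → ∀ e : ℤ,
      Van (irrelAS k r) (quotGr (stdAS k r) (tailIdeal k r s)) q e := by
  intro s
  induction s with
  | zero =>
    intro _ q hq
    omega
  | succ s ih =>
    intro hs
    have hs' : s < r + 1 := by omega
    exact van_full_step (irrelAS k r) (tailIdeal k r (s + 1))
      (tailIdeal k r s) (MvPolynomial.X ⟨s, hs'⟩) (X_mem k r _)
      (mem_irrel_of_mem_one k r (X_mem k r _)) (tailIdeal_succ k r s hs')
      (tailIdeal_inj k r s hs') 0 (van_tail k r (s + 1) hs) s (ih (by omega))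

/-- **`H^q_𝔪(S) = 0` for `q ≤ r`.** -/
theorem van_poly_full (q : ℕ) (hq : q < r + 1) (e : ℤ) : Van (irrelAS k r) (stdAS k r) q e := by
  classical
  letI inst : ∀ s, DirectSum.Decomposition (quotGr (stdAS k r) (tailIdeal k r s)) := fun s =>
    (isInternal_quotGr (stdAS k r) (tailIdeal k r s)
      (tailIdeal_isHomogeneous k r s)).chooseDecomposition
  exact van_of_bot (irrelAS k r) (tailIdeal k r (r + 1)) (tailIdeal_top k r) q e
    (van_tail_full k r (r + 1) le_rfl q hq e)

end poly

end Groth.Agent.Lib.Helper20.GrPolyDepth
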