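import Mathlib
import Groth.Prelude.Def_GrLC
import Groth.Prelude.Def_GrSyz
import Groth.Agent.Lib.Helper20.GrReg2
import Groth.Agent.Lib.Helper20.GrKosExact

/-!
# The graded Hilbert syzygy theorem (via depth sensitivity of the Koszul complex)
-/

set_option autoImplicit false
set_option linter.unusedSectionVars false
set_option linter.unusedVariables false
set_option linter.style.haveILetI false

universe u

open Matrix Pointwise CategoryTheory GrLC Groth.Agent.Lib.Helper4.LC
  Groth.Agent.Lib.Helper20.GrLCBasic Groth.Agent.Lib.Helper20.GrLCQuot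
  Groth.Agent.Lib.Helper20.GrVan Groth.Agent.Lib.Helper20.GrProd Groth.Agent.Lib.Helper20.GrKos
  Groth.Agent.Lib.Helper20.GrChop Groth.Agent.Lib.Helper20.GrFreeMod
  Groth.Agent.Lib.Helper20.GrKosMap Groth.Agent.Lib.Helper20.GrKosExact
  Groth.Agent.Lib.Helper20.GrReg2

namespace Groth.Agent.Lib.Helper20.GrSyzThm

variable {R : Type u} [CommRing R] {𝒜 : ℤ → AddSubgroup R} [GradedRing 𝒜]

section nakayama

/-- pieces of the Koszul terms vanish where the piece of the module does. -/
theorem kos_gr_eq_bot (X₀ : GMod.{u} 𝒜) (l : List ↥(𝒜 1)) (n : ℤ) (h : X₀.gr n = ⊥) :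
    ∀ p, ((kos X₀ l).X p).gr n = ⊥ := by
  induction l with
  | nil =>
    intro p
    rfl
  | cons x l ih =>
    intro p
    cases p with
    | zero =>
      rw [eq_bot_iff]
      rintro ⟨a, b⟩ hab
      have hab' := (mem_prodGr ((kos X₀ l).X 0).gr X₀.gr).1 hab
      rw [ih 0] at hab'
      rw [h] at hab'
      rw [AddSubgroup.mem_bot]
      exact Prod.ext ((AddSubgroup.mem_bot).1 hab'.1) ((AddSubgroup.mem_bot).1 hab'.2)
    | succ p =>
      rw [eq_bot_iff]
      rintro ⟨a, b⟩ hab
      have hab' := (mem_prodGr ((kos X₀ l).X (p + 1)).gr ((kos X₀ l).X p).gr).1 hab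
      rw [ih (p + 1), ih p] at hab'
      rw [AddSubgroup.mem_bot]
      exact Prod.ext ((AddSubgroup.mem_bot).1 hab'.1) ((AddSubgroup.mem_bot).1 hab'.2)

/-- **graded Nakayama**: a graded module bounded below all of whose elements lie in the image of
the Koszul augmentation (i.e. in `(l) X`) vanishes. -/
theorem eq_zero_of_forall_mem_range (X : GMod.{u} 𝒜) (l : List ↥(𝒜 1)) (n₀ : ℤ)
    (hbd : ∀ n : ℤ, n < n₀ → X.gr n = ⊥)
    (h : ∀ z : X.carrier, z ∈ LinearMap.range (kos X l).d0) : ∀ z : X.carrier, z = 0 := by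
  classical
  have key : ∀ k : ℕ, ∀ n : ℤ, n < n₀ + k → X.gr n = ⊥ := by
    intro k
    induction k with
    | zero =>
      intro n hn
      exact hbd n (by simpa using hn)
    | succ k ih =>
      intro n hn
      by_cases hlt : n < n₀ + k
      · exact ih n hlt
      · rw [eq_bot_iff]
        intro z hz
        obtain ⟨c, rfl⟩ := h z
        have h1 := Groth.Agent.Lib.Helper20.GrLES.decompose_map_deg ((kos X l).X 0).gr X.gr
          (kos X l).d0 1 (kos X l).d0_deg c (n - 1)
        have h2 : ((kos X l).X 0).gr (n - 1) = ⊥ :=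
          kos_gr_eq_bot X l (n - 1) (ih (n - 1) (by push_cast at hn; omega)) 0
        have h3 : ((DirectSum.decompose ((kos X l).X 0).gr c (n - 1) :
            ((kos X l).X 0).gr (n - 1)) : ((kos X l).X 0).carrier) = 0 := by
          have : ((DirectSum.decompose ((kos X l).X 0).gr c (n - 1) :
              ((kos X l).X 0).gr (n - 1)) : ((kos X l).X 0).carrier) ∈
              (⊥ : AddSubgroup ((kos X l).X 0).carrier) := h2.le (SetLike.coe_mem _)
          exact (AddSubgroup.mem_bot).1 this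
        rw [h3, map_zero, sub_add_cancel, DirectSum.decompose_of_mem_same X.gr hz] at h1
        rw [AddSubgroup.mem_bot]
        exact h1
  intro z
  rw [← DirectSum.sum_support_decompose X.gr z]
  refine Finset.sum_eq_zero fun i _ => ?_
  have hi : X.gr i = ⊥ := key (i - n₀ + 1).toNat i (by
    have : (0 : ℤ) ≤ ((i - n₀ + 1).toNat : ℤ) := Int.natCast_nonneg _
    have h2 := Int.self_le_toNat (i - n₀ + 1)
    omega)
  have : ((DirectSum.decompose X.gr z i : X.gr i) : X.carrier) ∈ (⊥ : AddSubgroup X.carrier) :=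
    hi.le (SetLike.coe_mem _)
  exact (AddSubgroup.mem_bot).1 this

end nakayama

section free

variable [IsNoetherianRing R] (a : HomogeneousIdeal 𝒜)
  (hpos : ∀ n : ℤ, n < 0 → 𝒜 n = ⊥)
  (l : List ↥(𝒜 1)) (hl : a.toIdeal = Ideal.span {r : R | ∃ x ∈ l, (x : R) = r})
  (hne : a.toIdeal ≠ ⊤)

include hpos hl in
/-- a minimal presentation of a graded module of maximal depth has no relations. -/
theorem ker_aug_eq_bot {X : GMod.{u} 𝒜} (F : GrSyz.FreeRes 𝒜 X.gr) (hF : F.IsMinimal a.toIdeal)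
    (hD : 0 < l.length) (hX : ∀ q : ℕ, q < l.length → ∀ e : ℤ, Van a X.gr q e) :
    LinearMap.ker F.augLin = ⊥ := by
  classical
  have hXex := kos_exact a l hl X hD hX
  let Y : GMod.{u} 𝒜 := freeGMod (𝒜 := 𝒜) (F.deg 0)
  let K : GMod.{u} 𝒜 := syz F
  let i : K.carrier →ₗ[R] Y.carrier := (LinearMap.ker F.augLin).subtype
  let f : Y.carrier →ₗ[R] X.carrier := F.augLin
  have hsm : a.toIdeal • (⊤ : Submodule R Y.carrier) ≤ LinearMap.range (kos Y l).d0 :=
    Submodule.smul_le.2 (fun r hr z _ => smul_mem_range_kos a l hl Y r hr z)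
  have hK' : ∀ v : Fin (F.rk 0) → R, v ∈ LinearMap.ker F.augLin →
      v ∈ a.toIdeal • (⊤ : Submodule R (Fin (F.rk 0) → R)) := by
    intro v hk
    rw [F.exact_zero] at hk
    obtain ⟨u, hu⟩ := hk
    have hent : ∀ b, v b ∈ a.toIdeal := by
      intro b
      rw [← hu]
      show (∑ c, F.d 0 b c * u c) ∈ a.toIdeal
      exact sum_mem fun c _ => a.toIdeal.mul_mem_right _ (hF 0 b c)
    have hsum : v = ∑ b, v b • (Pi.single b (1 : R) : Fin (F.rk 0) → R) := by
      funext c
      simp [Finset.sum_apply, Pi.single_apply]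
    rw [hsum]
    exact Submodule.sum_mem _ fun b _ => Submodule.smul_mem_smul (hent b) trivial
  have hK : ∀ k : K.carrier, i k ∈ LinearMap.range (kos Y l).d0 := by
    rintro ⟨v, hv⟩
    exact hsm (hK' v hv)
  have hchase : ∀ k : K.carrier, k ∈ LinearMap.range (kos K l).d0 := fun k =>
    mem_range_d0_of_exact i f (Submodule.injective_subtype _) F.aug_surjective
      (fun k => k.2) (fun y hy => ⟨⟨y, hy⟩, rfl⟩) l hXex k (hK k)
  obtain ⟨M₀, hM₀⟩ := (Finset.univ.image (fun b => -F.deg 0 b)).exists_le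
  obtain ⟨n₀, hn₀⟩ : ∃ n₀ : ℤ, ∀ b, n₀ ≤ F.deg 0 b := ⟨-M₀, fun b => by
    have := hM₀ _ (Finset.mem_image_of_mem (fun b => -F.deg 0 b) (Finset.mem_univ b))
    omega⟩
  have hbd : ∀ n : ℤ, n < n₀ → K.gr n = ⊥ := by
    intro n hn
    rw [eq_bot_iff]
    intro z hz
    rw [AddSubgroup.mem_bot]
    apply Subtype.ext
    funext b
    have hz' : (z.1 : Fin (F.rk 0) → R) ∈ freeGr 𝒜 (F.deg 0) n := hz
    have hb := (mem_freeGr (F.deg 0)).1 hz' b
    have hle : n₀ ≤ F.deg 0 b := hn₀ b
    rw [hpos _ (by omega)] at hb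
    exact (AddSubgroup.mem_bot).1 hb
  have hzero := eq_zero_of_forall_mem_range K l n₀ hbd hchase
  rw [Submodule.eq_bot_iff]
  intro z hz
  exact congrArg Subtype.val (hzero ⟨z, hz⟩)

include hpos hl hne in
theorem rk_one_eq_zero {X : GMod.{u} 𝒜} (F : GrSyz.FreeRes 𝒜 X.gr) (hF : F.IsMinimal a.toIdeal)
    (hD : 0 < l.length) (hX : ∀ q : ℕ, q < l.length → ∀ e : ℤ, Van a X.gr q e) :
    F.rk 1 = 0 := by
  classical
  by_contra h
  have hker := ker_aug_eq_bot a hpos l hl F hF hD hX
  let b : Fin (F.rk (0 + 1)) := ⟨0, Nat.pos_of_ne_zero h⟩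
  have h1 : ∀ u : Fin (F.rk (0 + 1)) → R, Matrix.mulVecLin (F.d 0) u = 0 := by
    intro u
    have : Matrix.mulVecLin (F.d 0) u ∈ LinearMap.ker F.augLin := by
      rw [F.exact_zero]
      exact ⟨u, rfl⟩
    rw [hker] at this
    exact (Submodule.mem_bot R).1 this
  have h2 : (Pi.single b (1 : R) : Fin (F.rk (0 + 1)) → R) ∈
      LinearMap.ker (Matrix.mulVecLin (F.d 0)) := h1 _
  rw [F.exact_succ 0] at h2
  obtain ⟨u, hu⟩ := h2
  have h3 := congrFun hu b
  rw [Pi.single_eq_same] at h3
  apply hne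
  rw [Ideal.eq_top_iff_one, ← h3]
  show (∑ c, F.d (0 + 1) b c * u c) ∈ a.toIdeal
  exact sum_mem fun c _ => a.toIdeal.mul_mem_right _ (hF (0 + 1) b c)

include hpos hl hne in
/-- **the syzygy theorem**: over a graded ring of depth `D` (with respect to an ideal generated by
`D` elements of degree one), a minimal resolution of a module of depth at least `D - c` has length
at most `c`. -/
theorem rk_succ_eq_zero (hD : 0 < l.length)
    (hDep : ∀ q : ℕ, q < l.length → ∀ e : ℤ, Van a 𝒜 q e) :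
    ∀ (c : ℕ) (X : GMod.{u} 𝒜) (F : GrSyz.FreeRes 𝒜 X.gr), F.IsMinimal a.toIdeal →
      (∀ q : ℕ, q + c < l.length → ∀ e : ℤ, Van a X.gr q e) → F.rk (c + 1) = 0 := by
  intro c
  induction c with
  | zero =>
    intro X F hF hX
    exact rk_one_eq_zero a hpos l hl hne F hF hD (fun q hq e => hX q (by omega) e)
  | succ c ih =>
    intro X F hF hX
    have hfree : ∀ q : ℕ, q < l.length → ∀ e : ℤ, Van a (freeGr 𝒜 (F.deg 0)) q e :=
      fun q hq e => van_free a (F.deg 0) q e (fun b => hDep q hq _)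
    have hsyz : ∀ q : ℕ, q + c < l.length → ∀ e : ℤ, Van a (syz F).gr q e := by
      intro q hq e
      cases q with
      | zero => exact van_syz_zero a F e (hfree 0 hD e)
      | succ q =>
        exact van_syz_succ a F q e (hfree (q + 1) (by omega) e) (hX q (by omega) e)
    exact ih (syz F) (shift F) (shift_isMinimal F _ hF) hsyz

end free

end Groth.Agent.Lib.Helper20.GrSyzThm
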