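import Mathlib
import Groth.Prelude.Def_GrLC
import Groth.Prelude.Def_GrSyz
import Groth.Agent.Lib.Helper20.GrSyzThm
import Groth.Agent.Lib.Helper20.GrPolyDepth
import Groth.Agent.Lib.Helper20.GrPolyReg

/-!
# Hilbert's syzygy theorem for the standard graded polynomial ring
-/

set_option autoImplicit false
set_option linter.unusedSectionVars false
set_option linter.unusedVariables false
set_option linter.style.haveILetI false

universe u

open GrLC Groth.Agent.Lib.Helper20.GrConv Groth.Agent.Lib.Helper20.GrVan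
  Groth.Agent.Lib.Helper20.GrPolyStd Groth.Agent.Lib.Helper20.GrPolyReg

namespace Groth.Agent.Lib.Helper20.GrPolySyz

variable (k : Type u) [Field k] (r : ℕ)
  {M : Type u} [AddCommGroup M] [Module k M] [Module (MvPolynomial (Fin (r + 1)) k) M]
  [IsScalarTower k (MvPolynomial (Fin (r + 1)) k) M]
  (ℳ : ℤ → Submodule k M) [DirectSum.Decomposition ℳ]
  [SetLike.GradedSMul (GrSyz.stdGr k (Fin (r + 1))) ℳ]

theorem varList_length : (varList k r).length = r + 1 := by
  simp [varList]

omit [IsScalarTower k (MvPolynomial (Fin (r + 1)) k) M] in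
/-- **Hilbert's syzygy theorem, with depth**: a minimal graded free resolution of a module `M`
with `H^q_𝔪(M) = 0` for `q + c < r + 1` has length at most `c`. -/
theorem rk_succ_eq_zero_of_van (F : GrSyz.FreeRes (GrSyz.stdGr k (Fin (r + 1))) ℳ)
    (hF : F.IsMinimal (GrSyz.irrel (GrSyz.stdGr k (Fin (r + 1)))).toIdeal) (c : ℕ)
    (h : ∀ q : ℕ, q + c < r + 1 → ∀ e : ℤ, Van (irrelAS k r) (toAS ℳ) q e) :
    F.rk (c + 1) = 0 := by
  have hlen := varList_length k r
  exact Groth.Agent.Lib.Helper20.GrSyzThm.rk_succ_eq_zero (irrelAS k r) (stdAS_neg k r)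
    (varList k r) (irrel_eq_span k r) (irrel_ne_top k r) (by omega)
    (fun q hq e => Groth.Agent.Lib.Helper20.GrPolyDepth.van_poly_full k r q (by omega) e) c
    (GMod.of (stdAS k r) M (toAS ℳ)) (freeResTo (GrSyz.stdGr k (Fin (r + 1))) ℳ F) hF
    (fun q hq e => h q (by omega) e)

omit [IsScalarTower k (MvPolynomial (Fin (r + 1)) k) M] in
/-- **Hilbert's syzygy theorem**: a minimal graded free resolution has length at most `r + 1`. -/
theorem hasLengthLE_of_isMinimal (F : GrSyz.FreeRes (GrSyz.stdGr k (Fin (r + 1))) ℳ)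
    (hF : F.IsMinimal (GrSyz.irrel (GrSyz.stdGr k (Fin (r + 1)))).toIdeal) :
    F.HasLengthLE (r + 1) := by
  intro i hi
  obtain ⟨c, rfl⟩ : ∃ c, i = c + 1 := ⟨i - 1, by omega⟩
  exact rk_succ_eq_zero_of_van k r ℳ F hF c (fun q hq => by omega)

end Groth.Agent.Lib.Helper20.GrPolySyz
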