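import Mathlib
import Groth.Prelude.Def_GrLC
import Groth.Prelude.Def_GrSyz
import Groth.Prelude.Def_CAlg
import Groth.Agent.Lib.Helper20.GrPolySyz
import Groth.Agent.Lib.Helper20.GrLES2
import Groth.Agent.Lib.Helper4.Depth2
import Groth.Agent.Lib.Helper4.LC3

/-!
# The graded Auslander–Buchsbaum formula over the standard graded polynomial ring
-/

set_option autoImplicit false
set_option linter.unusedSectionVars false
set_option linter.unusedVariables false
set_option linter.style.haveILetI false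

universe u

open Matrix CategoryTheory GrLC Groth.Agent.Lib.Helper4.LC Groth.Agent.Lib.Helper20.GrLCBasic
  Groth.Agent.Lib.Helper20.GrLCQuot
  Groth.Agent.Lib.Helper20.GrVan Groth.Agent.Lib.Helper20.GrProd Groth.Agent.Lib.Helper20.GrKos
  Groth.Agent.Lib.Helper20.GrChop Groth.Agent.Lib.Helper20.GrFreeMod
  Groth.Agent.Lib.Helper20.GrReg2 Groth.Agent.Lib.Helper20.GrLES Groth.Agent.Lib.Helper20.GrLES2

namespace Groth.Agent.Lib.Helper20.GrPolyAB

section general

variable {R : Type u} [CommRing R] [IsNoetherianRing R] {𝒜 : ℤ → AddSubgroup R} [GradedRing 𝒜]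
  (a : HomogeneousIdeal 𝒜)

/-- vanishing of all graded pieces gives vanishing of the ungraded local cohomology. -/
theorem hh_subsingleton_of_van {M : Type u} [AddCommGroup M] [Module R M] (ℳ : ℤ → AddSubgroup M)
    [DirectSum.Decomposition ℳ] [SetLike.GradedSMul 𝒜 ℳ] (q : ℕ)
    (h : ∀ e : ℤ, Van a ℳ q e) : Subsingleton (HH a.toIdeal (ModuleCat.of R M) q) := by
  classical
  obtain ⟨E⟩ := Groth.Agent.S13215.result R 𝒜 M ℳ
  letI := decH E a q
  have hz : ∀ z : E.H a q, z = 0 := by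
    intro z
    rw [← DirectSum.sum_support_decompose (E.Hgr a q) z]
    refine Finset.sum_eq_zero fun e _ => ?_
    have h1 : ((DirectSum.decompose (E.Hgr a q) z e : E.Hgr a q e) : E.H a q) ∈ E.Hcomp a q e :=
      (DirectSum.decompose (E.Hgr a q) z e).2
    rw [h e E] at h1
    exact (Submodule.mem_bot _).1 h1
  constructor
  intro x y
  apply (cmpE E a q).symm.injective
  rw [hz ((cmpE E a q).symm x), hz ((cmpE E a q).symm y)]

/-- a module with a resolution of length `ℓ` over a ring of depth `D` has depth at least `D - ℓ`. -/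
theorem van_of_hasLengthLE (D : ℕ) (hDep : ∀ q : ℕ, q < D → ∀ e : ℤ, Van a 𝒜 q e) :
    ∀ (ℓ : ℕ) (X : GMod.{u} 𝒜) (F : GrSyz.FreeRes 𝒜 X.gr), F.HasLengthLE ℓ →
      ∀ q : ℕ, q + ℓ < D → ∀ e : ℤ, Van a X.gr q e := by
  intro ℓ
  induction ℓ with
  | zero =>
    intro X F hF q hq e
    have hfree : Van a (freeGr 𝒜 (F.deg 0)) q (e - 0) :=
      van_free a (F.deg 0) q _ (fun b => hDep q (by omega) _)
    have h1 : F.rk (0 + 1) = 0 := hF 1 Nat.one_pos
    haveI : IsEmpty (Fin (F.rk (0 + 1))) := by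
      rw [h1]
      infer_instance
    have hinj : Function.Injective F.augLin := by
      rw [← LinearMap.ker_eq_bot, F.exact_zero, LinearMap.range_eq_bot]
      apply LinearMap.ext
      intro u
      rw [Subsingleton.elim u 0, map_zero, map_zero]
    refine van_of_bijective a (freeGr 𝒜 (F.deg 0)) X.gr F.augLin ⟨hinj, F.aug_surjective⟩ 0 ?_ q e
      hfree
    intro n m hm
    rw [add_zero]
    exact aug_isGrHom F n m hm
  | succ ℓ ih =>
    intro X F hF q hq e
    apply van_of_syz a F q e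
    · exact van_free a (F.deg 0) q e (fun b => hDep q (by omega) _)
    · refine ih (syz F) (shift F) ?_ (q + 1) (by omega) e
      intro i hi
      exact hF (i + 1) (by omega)

end general

section poly

open Groth.Agent.Lib.Helper20.GrConv Groth.Agent.Lib.Helper20.GrPolyStd
  Groth.Agent.Lib.Helper20.GrPolyReg Groth.Agent.Lib.Helper20.GrPolySyz

variable (k : Type u) [Field k] (n : ℕ)
  {M : Type u} [AddCommGroup M] [Module k M] [Module (MvPolynomial (Fin (n + 1)) k) M]
  [IsScalarTower k (MvPolynomial (Fin (n + 1)) k) M]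
  (ℳ : ℤ → Submodule k M) [DirectSum.Decomposition ℳ]
  [SetLike.GradedSMul (GrSyz.stdGr k (Fin (n + 1))) ℳ]
  (F : GrSyz.FreeRes (GrSyz.stdGr k (Fin (n + 1))) ℳ)
  (hF : F.IsMinimal (GrSyz.irrel (GrSyz.stdGr k (Fin (n + 1)))).toIdeal)

include hF in
omit [IsScalarTower k (MvPolynomial (Fin (n + 1)) k) M] in
/-- a minimal resolution of the zero module is zero. -/
theorem rk_eq_zero_of_subsingleton [Subsingleton M] : ∀ i, F.rk i = 0 := by
  classical
  have hne : (GrSyz.irrel (GrSyz.stdGr k (Fin (n + 1)))).toIdeal ≠ ⊤ := irrel_ne_top k n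
  intro i
  induction i with
  | zero =>
    by_contra h
    let b : Fin (F.rk 0) := ⟨0, Nat.pos_of_ne_zero h⟩
    have h2 : (Pi.single b (1 : MvPolynomial (Fin (n + 1)) k) :
        Fin (F.rk 0) → MvPolynomial (Fin (n + 1)) k) ∈ LinearMap.ker F.augLin :=
      Subsingleton.elim _ _
    rw [F.exact_zero] at h2
    obtain ⟨u, hu⟩ := h2
    have h3 := congrFun hu b
    rw [Pi.single_eq_same] at h3
    apply hne
    rw [Ideal.eq_top_iff_one, ← h3]
    show (∑ c, F.d 0 b c * u c) ∈ _
    exact sum_mem fun c _ => Ideal.mul_mem_right _ _ (hF 0 b c)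
  | succ i ih =>
    by_contra h
    let b : Fin (F.rk (i + 1)) := ⟨0, Nat.pos_of_ne_zero h⟩
    haveI : IsEmpty (Fin (F.rk i)) := by
      rw [ih]
      infer_instance
    have h2 : (Pi.single b (1 : MvPolynomial (Fin (n + 1)) k) :
        Fin (F.rk (i + 1)) → MvPolynomial (Fin (n + 1)) k) ∈
        LinearMap.ker (Matrix.mulVecLin (F.d i)) :=
      Subsingleton.elim _ _
    rw [F.exact_succ i] at h2
    obtain ⟨u, hu⟩ := h2
    have h3 := congrFun hu b
    rw [Pi.single_eq_same] at h3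
    apply hne
    rw [Ideal.eq_top_iff_one, ← h3]
    show (∑ c, F.d (i + 1) b c * u c) ∈ _
    exact sum_mem fun c _ => Ideal.mul_mem_right _ _ (hF (i + 1) b c)

include hF in
omit [IsScalarTower k (MvPolynomial (Fin (n + 1)) k) M] in
/-- a module with a nonzero minimal resolution satisfies `𝔪 M ≠ M`. -/
theorem smul_top_ne_top (hrk : ∃ i, F.rk i ≠ 0) :
    (GrSyz.irrel (GrSyz.stdGr k (Fin (n + 1)))).toIdeal •
      (⊤ : Submodule (MvPolynomial (Fin (n + 1)) k) M) ≠ ⊤ := by
  classical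
  intro htop
  let X : GMod.{u} (stdAS k n) := GMod.of (stdAS k n) M (toAS ℳ)
  let F' : GrSyz.FreeRes (stdAS k n) X.gr := freeResTo (GrSyz.stdGr k (Fin (n + 1))) ℳ F
  have hsm : (irrelAS k n).toIdeal • (⊤ : Submodule (MvPolynomial (Fin (n + 1)) k) X.carrier) ≤
      LinearMap.range (kos X (varList k n)).d0 :=
    Submodule.smul_le.2 (fun r hr z _ =>
      smul_mem_range_kos (irrelAS k n) (varList k n) (irrel_eq_span k n) X r hr z)
  have hall : ∀ z : X.carrier, z ∈ LinearMap.range (kos X (varList k n)).d0 := by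
    intro z
    apply hsm
    have : z ∈ (GrSyz.irrel (GrSyz.stdGr k (Fin (n + 1)))).toIdeal •
        (⊤ : Submodule (MvPolynomial (Fin (n + 1)) k) M) := by
      rw [htop]
      trivial
    exact this
  obtain ⟨M₀, hM₀⟩ := (Finset.univ.image (fun b => -F.deg 0 b)).exists_le
  obtain ⟨n₀, hn₀⟩ : ∃ n₀ : ℤ, ∀ b, n₀ ≤ F.deg 0 b := ⟨-M₀, fun b => by
    have := hM₀ _ (Finset.mem_image_of_mem (fun b => -F.deg 0 b) (Finset.mem_univ b))
    omega⟩
  have hbd : ∀ m : ℤ, m < n₀ → X.gr m = ⊥ := by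
    intro m hm
    rw [eq_bot_iff]
    intro z hz
    rw [AddSubgroup.mem_bot]
    have hg : IsGrHomDeg (freeGr (stdAS k n) (F'.deg 0)) X.gr F'.augLin 0 := by
      intro j v hv
      rw [add_zero]
      exact aug_isGrHom F' j v hv
    obtain ⟨v, hv, rfl⟩ := exists_homogeneous_preimage (freeGr (stdAS k n) (F'.deg 0)) X.gr
      F'.augLin 0 hg F'.aug_surjective m z (by rw [add_zero]; exact hz)
    have hv0 : v = 0 := by
      funext b
      have hb := (mem_freeGr (F'.deg 0)).1 hv b
      have hle : n₀ ≤ F.deg 0 b := hn₀ b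
      have hb' : v b ∈ stdAS k n (m + -F.deg 0 b) := hb
      rw [stdAS_neg k n _ (by omega)] at hb'
      exact (AddSubgroup.mem_bot).1 hb'
    rw [hv0, map_zero]
  have hzero := Groth.Agent.Lib.Helper20.GrSyzThm.eq_zero_of_forall_mem_range X (varList k n) n₀
    hbd hall
  haveI : Subsingleton M := ⟨fun x y => (hzero x).trans (hzero y).symm⟩
  obtain ⟨i, hi⟩ := hrk
  exact hi (rk_eq_zero_of_subsingleton k n ℳ F hF i)

include hF in
/-- **the graded Auslander–Buchsbaum formula.** -/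
theorem length_add_idealDepth [Module.Finite (MvPolynomial (Fin (n + 1)) k) M] (ℓ : ℕ)
    (hℓ : F.HasLengthLE ℓ) (hℓ' : F.rk ℓ ≠ 0) :
    (ℓ : ℕ∞) + LocCoh.idealDepth (GrSyz.irrel (GrSyz.stdGr k (Fin (n + 1)))).toIdeal M =
      ((n + 1 : ℕ) : ℕ∞) := by
  classical
  have hIM := smul_top_ne_top k n ℳ F hF ⟨ℓ, hℓ'⟩
  have hne := Groth.Agent.Lib.Helper4.idealDepth_ne_top
    (GrSyz.irrel (GrSyz.stdGr k (Fin (n + 1)))).toIdeal hIM
  obtain ⟨d, hd⟩ := ENat.ne_top_iff_exists.1 hne
  have hnt := HH.nontrivial_of_idealDepth_eq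
    (GrSyz.irrel (GrSyz.stdGr k (Fin (n + 1)))).toIdeal d M hIM hd.symm
  have hd' : (d : ℕ∞) = LocCoh.idealDepth (irrelAS k n).toIdeal M := hd
  have hnt' : Nontrivial (HH (irrelAS k n).toIdeal
      (ModuleCat.of (MvPolynomial (Fin (n + 1)) k) M) d) := hnt
  have hvan : ∀ q : ℕ, q < d → ∀ e : ℤ, Van (irrelAS k n) (toAS ℳ) q e := by
    intro q hq e
    apply van_of_HH
    apply HH.subsingleton_of_lt_idealDepth
    rw [← hd']
    exact_mod_cast hq
  have h1 : ℓ + d ≤ n + 1 := by
    by_contra hcon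
    push Not at hcon
    rcases Nat.eq_zero_or_pos ℓ with h0 | hpos
    · have hsub := subsingleton_HH_of_length_lt (irrelAS k n) (varList k n) (irrel_eq_span k n) d
        (by rw [varList_length]; omega) (ModuleCat.of (MvPolynomial (Fin (n + 1)) k) M)
      exact not_subsingleton _ hsub
    · have h2 := rk_succ_eq_zero_of_van k n ℳ F hF (ℓ - 1) (fun q hq e => hvan q (by omega) e)
      have e1 : ℓ - 1 + 1 = ℓ := by omega
      rw [e1] at h2
      exact hℓ' h2
  have h2 : n + 1 ≤ ℓ + d := by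
    by_contra hcon
    push Not at hcon
    have hv := van_of_hasLengthLE (irrelAS k n) (n + 1)
      (fun q hq e => Groth.Agent.Lib.Helper20.GrPolyDepth.van_poly_full k n q hq e) ℓ
      (GMod.of (stdAS k n) M (toAS ℳ)) (freeResTo (GrSyz.stdGr k (Fin (n + 1))) ℳ F) hℓ d
      (by omega)
    have hsub := hh_subsingleton_of_van (irrelAS k n) (toAS ℳ) d hv
    exact not_subsingleton _ hsub
  rw [← hd]
  exact_mod_cast le_antisymm h1 h2

end poly

end Groth.Agent.Lib.Helper20.GrPolyAB
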