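import Mathlib
import Groth.Prelude.Def_GrLC
import Groth.Prelude.Def_GrSyz
import Groth.Prelude.Def_CAlg
import Groth.Agent.Lib.Helper20.GrSerre2
import Groth.Agent.Lib.Helper20.GrPolyAB
import Groth.Agent.Lib.Helper20.GrPolyReg
import Groth.Agent.Lib.Helper22.GrMinRes
import Groth.Agent.Lib.Helper4.LC4

/-!
# Serre's formula over the standard graded polynomial ring; sharpness of the Hilbert-polynomial
bound for Cohen–Macaulay modules (helper20)
-/

set_option autoImplicit false
set_option linter.unusedSectionVars false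
set_option linter.unusedVariables false
set_option linter.style.haveILetI false

universe u

open CategoryTheory GrLC Groth.Agent.Lib.Helper4.LC Groth.Agent.Lib.Helper20.GrLCBasic
  Groth.Agent.Lib.Helper20.GrVan Groth.Agent.Lib.Helper20.GrChop
  Groth.Agent.Lib.Helper20.GrLES2
  Groth.Agent.Lib.Helper20.GrConv Groth.Agent.Lib.Helper20.GrPolyStd
  Groth.Agent.Lib.Helper20.GrPolyReg Groth.Agent.Lib.Helper20.GrPolySyz
  Groth.Agent.Lib.Helper20.LenEuler Groth.Agent.Lib.Helper20.GrEulerLES
  Groth.Agent.Lib.Helper20.GrSerre Groth.Agent.Lib.Helper20.GrSerre2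

namespace Groth.Agent.Lib.Helper20.GrPolySerre

variable (k : Type u) [Field k] (r : ℕ)

/-- the constants, as a ring homomorphism onto the degree-zero subring. -/
noncomputable def cHom : k →+* deg0 (stdAS k r) :=
  (MvPolynomial.C : k →+* MvPolynomial (Fin (r + 1)) k).codRestrict (deg0 (stdAS k r))
    (fun c => MvPolynomial.isWeightedHomogeneous_C _ c)

theorem cHom_surjective : Function.Surjective (cHom k r) := by
  rintro ⟨p, hp⟩
  refine ⟨MvPolynomial.coeff 0 p, ?_⟩
  apply Subtype.ext
  exact (Groth.Agent.Lib.Helper22.GrMinRes.stdGr_nonpos k r 0 le_rfl p hp).symm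

instance isArtinianRing_deg0 : IsArtinianRing (deg0 (stdAS k r)) :=
  (cHom_surjective k r).isArtinianRing

theorem ha_std : (irrelAS k r).toIdeal =
    Ideal.span (⋃ n ∈ Set.Ioi (0 : ℤ), (stdAS k r n : Set (MvPolynomial (Fin (r + 1)) k))) := by
  change Ideal.span {p | ∃ n : ℤ, 0 < n ∧ p ∈ GrSyz.stdGr k (Fin (r + 1)) n} = _
  congr 1
  ext p
  simp only [Set.mem_ofPred_eq, Set.mem_iUnion, Set.mem_Ioi, SetLike.mem_coe, exists_prop]
  rfl

theorem hhom_std : (irrelAS k r).toIdeal =
    Ideal.span ((stdAS k r 1 : AddSubgroup (MvPolynomial (Fin (r + 1)) k)) :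
      Set (MvPolynomial (Fin (r + 1)) k)) := by
  apply le_antisymm
  · rw [irrel_eq_span, Ideal.span_le]
    rintro p ⟨x, hx, rfl⟩
    exact Ideal.subset_span x.2
  · rw [Ideal.span_le]
    intro p hp
    exact mem_irrel_of_mem_one k r hp

section modules

variable {M : Type u} [AddCommGroup M] [Module k M] [Module (MvPolynomial (Fin (r + 1)) k) M]
  [IsScalarTower k (MvPolynomial (Fin (r + 1)) k) M]
  (ℳ : ℤ → Submodule k M) [DirectSum.Decomposition ℳ]
  [SetLike.GradedSMul (GrSyz.stdGr k (Fin (r + 1))) ℳ]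

/-- the length of a piece over the degree-zero subring is its dimension over `k`. -/
theorem len_comp_std (e : ℤ) :
    len (deg0 (stdAS k r)) (comp (stdAS k r) (toAS ℳ) e) = (Module.finrank k (ℳ e) : ℚ) := by
  classical
  letI : Algebra k (deg0 (stdAS k r)) := (cHom k r).toAlgebra
  letI : Module k ↥(comp (stdAS k r) (toAS ℳ) e) :=
    Module.compHom ↥(comp (stdAS k r) (toAS ℳ) e) (cHom k r)
  haveI : IsScalarTower k (deg0 (stdAS k r)) ↥(comp (stdAS k r) (toAS ℳ) e) :=
    IsScalarTower.of_algebraMap_smul (fun c x => rfl)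
  have h1 : Module.length k ↥(comp (stdAS k r) (toAS ℳ) e) =
      Module.length (deg0 (stdAS k r)) ↥(comp (stdAS k r) (toAS ℳ) e) :=
    Module.length_eq_of_surjective (cHom_surjective k r)
  let ψ : ↥(comp (stdAS k r) (toAS ℳ) e) ≃ₗ[k] ↥(ℳ e) :=
    { toFun := fun x => ⟨x.1, x.2⟩
      invFun := fun y => ⟨y.1, y.2⟩
      left_inv := fun x => rfl
      right_inv := fun y => rfl
      map_add' := fun x y => rfl
      map_smul' := by
        intro c x
        apply Subtype.ext
        show (MvPolynomial.C c : MvPolynomial (Fin (r + 1)) k) • (x.1 : M) = c • (x.1 : M)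
        rw [← MvPolynomial.algebraMap_eq, algebraMap_smul] }
  have h2 := ψ.length_eq
  unfold len
  rw [← h1, h2, Module.length_eq_rank, Cardinal.toNat_toENat]
  rfl

variable [Module.Finite (MvPolynomial (Fin (r + 1)) k) M]

theorem hB_std (N : ModuleCat.{u} (MvPolynomial (Fin (r + 1)) k)) :
    Subsingleton (HH (irrelAS k r).toIdeal N (r + 2)) :=
  subsingleton_HH_of_length_lt (irrelAS k r) (varList k r) (irrel_eq_span k r) (r + 2) (by
    rw [varList_length]
    omega) N

/-- **Serre's formula** over the standard graded polynomial ring. -/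
theorem serre_std (E : StarInjRes (stdAS k r) (toAS ℳ)) (P : Polynomial ℚ)
    (hP : ∃ d₁ : ℤ, ∀ d : ℤ, d₁ ≤ d → ((Module.finrank k ↥(ℳ d) : ℤ) : ℚ) = P.eval (d : ℚ))
    (e : ℤ) :
    (Module.finrank k (ℳ e) : ℚ) - P.eval (e : ℚ) = chi (irrelAS k r) E e (r + 2) := by
  have key := serre_irrel (irrelAS k r) (ha_std k r) (hhom_std k r) (r + 2) (by omega)
    (hB_std k r) E P (by
      obtain ⟨d₁, hd₁⟩ := hP
      refine ⟨d₁, fun n hn => ?_⟩
      rw [len_comp_std, ← hd₁ n hn]
      push_cast
      rfl) e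
  rw [len_comp_std] at key
  exact key

end modules

end Groth.Agent.Lib.Helper20.GrPolySerre
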