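import Mathlib
import Groth.Agent.Lib.Helper20.GrPolySerre

/-!
# Sharpness of the Hilbert-polynomial bound for Cohen–Macaulay modules (helper20)
-/

set_option autoImplicit false
set_option linter.unusedSectionVars false
set_option linter.unusedVariables false
set_option linter.style.haveILetI false

universe u

open CategoryTheory GrLC Groth.Agent.Lib.Helper4.LC Groth.Agent.Lib.Helper20.GrLCBasic
  Groth.Agent.Lib.Helper20.GrVan Groth.Agent.Lib.Helper20.GrChop
  Groth.Agent.Lib.Helper20.GrLES2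
  Groth.Agent.Lib.Helper20.GrConv Groth.Agent.Lib.Helper20.GrPolyStd
  Groth.Agent.Lib.Helper20.GrPolyReg Groth.Agent.Lib.Helper20.GrPolySyz
  Groth.Agent.Lib.Helper20.LenEuler Groth.Agent.Lib.Helper20.GrEulerLES
  Groth.Agent.Lib.Helper20.GrSerre Groth.Agent.Lib.Helper20.GrSerre2
  Groth.Agent.Lib.Helper20.GrPolySerre

namespace Groth.Agent.Lib.Helper20.GrPolySerre2

variable (k : Type u) [Field k] (r : ℕ)
  {M : Type u} [AddCommGroup M] [Module k M] [Module (MvPolynomial (Fin (r + 1)) k) M]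
  [IsScalarTower k (MvPolynomial (Fin (r + 1)) k) M]
  [Module.Finite (MvPolynomial (Fin (r + 1)) k) M]
  (ℳ : ℤ → Submodule k M) [DirectSum.Decomposition ℳ]
  [SetLike.GradedSMul (GrSyz.stdGr k (Fin (r + 1))) ℳ]

theorem hilb_ne
    (hCM : Module.supportDim (MvPolynomial (Fin (r + 1)) k) M =
      ((LocCoh.idealDepth (GrSyz.irrel (GrSyz.stdGr k (Fin (r + 1)))).toIdeal M : ℕ∞) :
        WithBot ℕ∞))
    (F : GrSyz.FreeRes (GrSyz.stdGr k (Fin (r + 1))) ℳ)
    (hF : F.IsMinimal (GrSyz.irrel (GrSyz.stdGr k (Fin (r + 1)))).toIdeal)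
    (ℓ : ℕ) (hℓ : F.HasLengthLE ℓ) (hℓ' : F.rk ℓ ≠ 0)
    (ρ : ℤ) (hρ : F.IsGenLE ρ) (hρ' : ∃ (i : ℕ) (b : Fin (F.rk i)), F.deg i b = ρ + i)
    (P : Polynomial ℚ)
    (hP : ∃ d₁ : ℤ, ∀ d : ℤ, d₁ ≤ d → ((Module.finrank k ↥(ℳ d) : ℤ) : ℚ) = P.eval (d : ℚ)) :
    ((Module.finrank k ↥(ℳ (ρ + ℓ - r - 1)) : ℤ) : ℚ) ≠ P.eval ((ρ + ℓ - r - 1 : ℤ) : ℚ) := by
  classical
  have hAB := Groth.Agent.Lib.Helper20.GrPolyAB.length_add_idealDepth k r ℳ F hF ℓ hℓ hℓ'
  -- the depth as a natural number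
  have hne : LocCoh.idealDepth (GrSyz.irrel (GrSyz.stdGr k (Fin (r + 1)))).toIdeal M ≠ ⊤ := by
    intro h
    rw [h, add_top] at hAB
    exact ENat.top_ne_coe (r + 1) hAB
  obtain ⟨δ, hδ⟩ := ENat.ne_top_iff_exists.1 hne
  rw [← hδ] at hAB hCM
  have hℓδ : ℓ + δ = r + 1 := by exact_mod_cast hAB
  obtain ⟨E⟩ := Groth.Agent.S13215.result (MvPolynomial (Fin (r + 1)) k) (stdAS k r) M (toAS ℳ)
  -- vanishing away from `δ`
  have hvan : ∀ (q : ℕ) (e : ℤ), q ≠ δ → Van (irrelAS k r) (toAS ℳ) q e := by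
    intro q e hq
    rcases lt_or_gt_of_ne hq with hlt | hgt
    · apply van_of_HH
      apply HH.subsingleton_of_lt_idealDepth
      show (q : ℕ∞) < LocCoh.idealDepth (GrSyz.irrel (GrSyz.stdGr k (Fin (r + 1)))).toIdeal M
      rw [← hδ]
      exact_mod_cast hlt
    · apply van_of_HH
      apply HH.subsingleton_of_supportDim_lt
      show Module.supportDim (MvPolynomial (Fin (r + 1)) k) M < _
      rw [hCM]
      exact_mod_cast hgt
  -- regularity
  have h1 := (isGenLE_iff_van k r ℳ F hF ρ).1 hρ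
  have h2 : ¬ F.IsGenLE (ρ - 1) := by
    intro h
    obtain ⟨i, b, hb⟩ := hρ'
    have := h i b
    omega
  rw [isGenLE_iff_van k r ℳ F hF (ρ - 1)] at h2
  push Not at h2
  obtain ⟨q, e, hqe, hnv⟩ := h2
  have hqδ : q = δ := by
    by_contra hne
    exact hnv (hvan q e hne)
  subst hqδ
  have he : e = ρ - q := by
    by_contra hne
    apply hnv
    apply h1
    omega
  subst he
  have hdeg : ρ + (ℓ : ℤ) - (r : ℤ) - 1 = ρ - q := by
    have : ((ℓ + q : ℕ) : ℤ) = ((r + 1 : ℕ) : ℤ) := by exact_mod_cast hℓδ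
    push_cast at this
    omega
  rw [hdeg]
  have hS := serre_std k r ℳ E P hP (ρ - q)
  -- the Euler characteristic reduces to a single term
  have hsingle : chi (irrelAS k r) E (ρ - (q : ℤ)) (r + 2) =
      (-1 : ℚ) ^ q * len (deg0 (stdAS k r)) (E.Hcomp (irrelAS k r) q (ρ - q)) := by
    unfold chi
    apply Finset.sum_eq_single_of_mem q (Finset.mem_range.2 (by omega))
    intro i _ hi
    have := hvan i (ρ - q) hi E
    haveI : Subsingleton (E.Hcomp (irrelAS k r) i (ρ - q)) := by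
      rw [this]
      infer_instance
    rw [len_of_subsingleton, mul_zero]
  rw [hsingle] at hS
  have hnb : E.Hcomp (irrelAS k r) q (ρ - q) ≠ ⊥ := fun h =>
    hnv ((van_iff (irrelAS k r) E q (ρ - q)).2 h)
  have hfin := length_Hcomp_ne_top (irrelAS k r) (ha_std k r) E q (ρ - q)
  have hlen : len (deg0 (stdAS k r)) (E.Hcomp (irrelAS k r) q (ρ - q)) ≠ 0 := by
    unfold len
    intro h0
    have h3 : (Module.length (deg0 (stdAS k r)) (E.Hcomp (irrelAS k r) q (ρ - q))).toNat = 0 := by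
      exact_mod_cast h0
    rcases (ENat.toNat_eq_zero).1 h3 with h | h
    · rw [Module.length_eq_zero_iff] at h
      apply hnb
      rw [Submodule.eq_bot_iff]
      intro z hz
      have := Subsingleton.elim (⟨z, hz⟩ : E.Hcomp (irrelAS k r) q (ρ - q)) 0
      exact congrArg Subtype.val this
    · exact hfin h
  intro heq
  have h0 : (Module.finrank k (ℳ (ρ - q)) : ℚ) - P.eval ((ρ - q : ℤ) : ℚ) = 0 := by
    rw [← heq]
    push_cast
    ring
  rw [h0] at hS
  have := mul_eq_zero.1 hS.symm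
  rcases this with h | h
  · exact absurd h (pow_ne_zero _ (by norm_num))
  · exact hlen h

end Groth.Agent.Lib.Helper20.GrPolySerre2
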