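import Mathlib
import Groth.Prelude.Def_GrLC
import Groth.Agent.Lib.Helper20.GrConv
import Groth.Agent.Lib.Helper4.KosPoly
import Groth.Agent.Lib.Helper22.Liaison1
import Groth.Agent.S0342

/-!
# The weighted polynomial ring over a field as a positively graded ring (helper20)
-/

set_option autoImplicit false
set_option linter.unusedSectionVars false
set_option linter.unusedVariables false
set_option linter.style.haveILetI false

universe u

attribute [local instance] MvPolynomial.weightedGradedAlgebra

open GrLC MvPolynomial Groth.Agent.Lib.Helper20.GrConv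

namespace Groth.Agent.Lib.Helper20.GrWeightedPoly

variable (k : Type u) [Field k] (N : ℕ) (w : Fin N → ℤ) (hw : ∀ i, 0 < w i)

/-- the weighted grading, by additive subgroups. -/
noncomputable abbrev WA : ℤ → AddSubgroup (MvPolynomial (Fin N) k) :=
  toAS (weightedHomogeneousSubmodule k w)

theorem mem_WA {n : ℤ} {p : MvPolynomial (Fin N) k} :
    p ∈ WA k N w n ↔ IsWeightedHomogeneous w p n := Iff.rfl

theorem X_mem (i : Fin N) : (X i : MvPolynomial (Fin N) k) ∈ WA k N w (w i) :=
  isWeightedHomogeneous_X k w i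

include hw in
theorem weight_nonneg (d : Fin N →₀ ℕ) : 0 ≤ Finsupp.weight w d := by
  rw [Finsupp.weight_apply]
  refine Finset.sum_nonneg fun i _ => ?_
  exact smul_nonneg (Nat.zero_le _) (hw i).le

include hw in
theorem weight_pos {d : Fin N →₀ ℕ} (hd : d ≠ 0) : 0 < Finsupp.weight w d := by
  rw [Finsupp.weight_apply]
  obtain ⟨i, hi⟩ : ∃ i, d i ≠ 0 := by
    by_contra hcon
    push Not at hcon
    exact hd (Finsupp.ext hcon)
  have hmem : i ∈ d.support := Finsupp.mem_support_iff.2 hi
  refine Finset.sum_pos' (fun j _ => smul_nonneg (Nat.zero_le _) (hw j).le) ⟨i, hmem, ?_⟩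
  exact smul_pos (Nat.pos_of_ne_zero hi) (hw i)

include hw in
theorem WA_neg (n : ℤ) (hn : n < 0) : WA k N w n = ⊥ := by
  rw [eq_bot_iff]
  intro p hp
  rw [AddSubgroup.mem_bot]
  refine IsWeightedHomogeneous.eq_zero_of_no_monomials ((mem_WA k N w).1 hp) fun d hd => ?_
  have := weight_nonneg N w hw d
  omega

include hw in
theorem eq_C_of_mem_zero {p : MvPolynomial (Fin N) k} (hp : p ∈ WA k N w 0) :
    p = C (coeff 0 p) := by
  have h := IsWeightedHomogeneous.eq_monomial_of_unique_weight (d₀ := 0) ((mem_WA k N w).1 hp)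
    (fun d hd => by
      by_contra hne
      have := weight_pos N w hw hne
      omega)
  exact h

theorem C_mem_zero (c : k) : (C c : MvPolynomial (Fin N) k) ∈ WA k N w 0 :=
  isWeightedHomogeneous_C w c

include hw in
theorem isField_deg0 : IsField (deg0 (WA k N w)) where
  exists_pair_ne := ⟨0, 1, fun h => by
    have := congrArg Subtype.val h
    exact zero_ne_one this⟩
  mul_comm := mul_comm
  mul_inv_cancel := by
    intro a ha
    have hC := eq_C_of_mem_zero k N w hw a.2
    have hc0 : coeff 0 (a : MvPolynomial (Fin N) k) ≠ 0 := by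
      intro h0
      apply ha
      apply Subtype.ext
      rw [hC, h0, map_zero]
      rfl
    refine ⟨⟨C (coeff 0 (a : MvPolynomial (Fin N) k))⁻¹, C_mem_zero k N w _⟩, ?_⟩
    apply Subtype.ext
    show (a : MvPolynomial (Fin N) k) * C (coeff 0 (a : MvPolynomial (Fin N) k))⁻¹ = 1
    generalize hcdef : coeff 0 (a : MvPolynomial (Fin N) k) = c at hC hc0 ⊢
    rw [hC, ← map_mul, mul_inv_cancel₀ hc0, map_one]

include hw in
theorem irrel_eq_span :
    Ideal.span (⋃ n ∈ Set.Ioi (0 : ℤ), (WA k N w n : Set (MvPolynomial (Fin N) k))) =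
      Ideal.span (Set.range (X : Fin N → MvPolynomial (Fin N) k)) := by
  apply le_antisymm
  · rw [Ideal.span_le]
    intro p hp
    simp only [Set.mem_iUnion, Set.mem_Ioi] at hp
    obtain ⟨n, hn, hpn⟩ := hp
    have h1 : p ∈ Ideal.span (X '' (Set.univ : Set (Fin N)) : Set (MvPolynomial (Fin N) k)) := by
      rw [mem_ideal_span_X_image]
      intro d hd
      have hd' : coeff d p ≠ 0 := mem_support_iff.1 hd
      have hwd : Finsupp.weight w d = n := (mem_WA k N w).1 hpn hd'
      have hd0 : d ≠ 0 := by
        intro h0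
        rw [h0, map_zero] at hwd
        omega
      obtain ⟨i, hi⟩ : ∃ i, d i ≠ 0 := by
        by_contra hcon
        push Not at hcon
        exact hd0 (Finsupp.ext hcon)
      exact ⟨i, Set.mem_univ i, hi⟩
    rwa [Set.image_univ] at h1
  · rw [Ideal.span_le]
    rintro _ ⟨i, rfl⟩
    apply Ideal.subset_span
    simp only [Set.mem_iUnion, Set.mem_Ioi]
    exact ⟨w i, hw i, X_mem k N w i⟩

theorem span_X_ne_top :
    Ideal.span (Set.range (X : Fin N → MvPolynomial (Fin N) k)) ≠ ⊤ := by
  intro h
  have h1 : (1 : MvPolynomial (Fin N) k) ∈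
      Ideal.span (X '' (Set.univ : Set (Fin N)) : Set (MvPolynomial (Fin N) k)) := by
    rw [Set.image_univ, h]
    trivial
  rw [mem_ideal_span_X_image] at h1
  have h0 : (0 : Fin N →₀ ℕ) ∈ (1 : MvPolynomial (Fin N) k).support := by
    rw [mem_support_iff]
    simp
  obtain ⟨i, -, hi⟩ := h1 0 h0
  exact hi rfl

theorem isRegular_X :
    RingTheory.Sequence.IsRegular (MvPolynomial (Fin N) k)
      (List.ofFn (X : Fin N → MvPolynomial (Fin N) k)) := by
  have h1 := Groth.Agent.Lib.Helper4.KosPoly.isWeaklyRegular_X_pow (A := k) (σ := Fin N) 1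
    (List.finRange N) (List.nodup_finRange N)
  have h2 : (List.finRange N).map (fun j => (X j : MvPolynomial (Fin N) k) ^ 1) =
      List.ofFn (X : Fin N → MvPolynomial (Fin N) k) := by
    rw [List.ofFn_eq_map]
    exact List.map_congr_left fun j _ => pow_one _
  rw [h2] at h1
  refine ⟨h1, ?_⟩
  intro htop
  apply span_X_ne_top k N
  have h3 : Ideal.ofList (List.ofFn (X : Fin N → MvPolynomial (Fin N) k)) =
      Ideal.span (Set.range (X : Fin N → MvPolynomial (Fin N) k)) := by
    unfold Ideal.ofList
    congr 1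
    ext x
    simp [List.mem_ofFn]
  rw [← h3]
  have h4 : Ideal.ofList (List.ofFn (X : Fin N → MvPolynomial (Fin N) k)) •
      (⊤ : Submodule (MvPolynomial (Fin N) k) (MvPolynomial (Fin N) k)) =
      Ideal.ofList (List.ofFn (X : Fin N → MvPolynomial (Fin N) k)) := by
    rw [smul_eq_mul, Ideal.mul_top]
  rw [h4] at htop
  exact htop.symm

theorem ringKrullDim_eq : ringKrullDim (MvPolynomial (Fin N) k) = N := by
  rw [MvPolynomial.ringKrullDim_of_isNoetherianRing, ringKrullDim_eq_zero_of_field,
    Nat.card_eq_fintype_card, Fintype.card_fin, zero_add]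

instance isGorensteinRing : LocCoh.IsGorensteinRing (MvPolynomial (Fin N) k) where
  isGorensteinLocalRing_localization := fun p _ =>
    Groth.Agent.S0342.result (Localization.AtPrime p)

instance isCohenMacaulayRing : LocCoh.IsCohenMacaulayRing (MvPolynomial (Fin N) k) :=
  Groth.Agent.Lib.Helper22.Liaison.cm_of_gorenstein

end Groth.Agent.Lib.Helper20.GrWeightedPoly
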