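import Mathlib
import Groth.Prelude.Def_GrLC
import Groth.Agent.Lib.Helper20.GrWeightedPoly
import Groth.Agent.Lib.Helper20.GrConv2
import Groth.Agent.Lib.Helper20.GrCanonShift
import Groth.Agent.Lib.Helper20.GrH0Residue
import Groth.Agent.S18638
import Groth.Agent.S18645
import Groth.Agent.S13215

/-!
# The canonical module of a weighted polynomial ring (helper20)
-/

set_option autoImplicit false
set_option linter.unusedSectionVars false
set_option linter.unusedVariables false
set_option linter.style.haveILetI false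
set_option maxHeartbeats 1600000

universe u

attribute [local instance] MvPolynomial.weightedGradedAlgebra

open GrLC MvPolynomial Groth.Agent.Lib.Helper20.GrConv Groth.Agent.Lib.Helper20.GrWeightedPoly

namespace Groth.Agent.Lib.Helper20.GrWeightedCanon

variable (k : Type u) [Field k] (N : ℕ) (w : Fin N → ℤ) (hw : ∀ i, 0 < w i)
  (m : HomogeneousIdeal (WA k N w)) (hm : IsStarLocal (WA k N w) m)
  (hmsp : m.toIdeal = Ideal.span (⋃ n ∈ Set.Ioi (0 : ℤ),
    (WA k N w n : Set (MvPolynomial (Fin N) k))))
  (I : StarInjRes (WA k N w) (WA k N w))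

include hw hm hmsp in
/-- the a-invariant of the weighted polynomial ring. -/
theorem endDeg_top : endDeg (I.Hgr m N) =
    (((-(Finset.univ : Finset (Fin N)).sum w : ℤ) : WithTop ℤ) : WithBot (WithTop ℤ)) := by
  classical
  have hpos := WA_neg k N w hw
  have h0 := isField_deg0 k N w hw
  have hmX : m.toIdeal = Ideal.span (Set.range (X : Fin N → MvPolynomial (Fin N) k)) := by
    rw [hmsp, irrel_eq_span k N w hw]
  have hmne : m.toIdeal ≠ ⊤ := by
    rw [hmX]
    exact span_X_ne_top k N
  have hfm : ∀ i, (X i : MvPolynomial (Fin N) k) ∈ m.toIdeal := by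
    intro i
    rw [hmX]
    exact Ideal.subset_span ⟨i, rfl⟩
  have hmpos : ∀ n : ℤ, 0 < n → ∀ x : MvPolynomial (Fin N) k, x ∈ WA k N w n → x ∈ m.toIdeal := by
    intro n hn x hx
    rw [hmsp]
    apply Ideal.subset_span
    simp only [Set.mem_iUnion, Set.mem_Ioi]
    exact ⟨n, hn, hx⟩
  have hP : (m.toIdeal : Submodule (MvPolynomial (Fin N) k) (MvPolynomial (Fin N) k)).IsHomogeneous
      (WA k N w) := m.isHomogeneous
  letI : DirectSum.Decomposition (Groth.Agent.Lib.Helper20.GrLCQuot.quotGr (WA k N w)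
      (m.toIdeal : Submodule (MvPolynomial (Fin N) k) (MvPolynomial (Fin N) k))) :=
    (Groth.Agent.Lib.Helper20.GrLCQuot.isInternal_quotGr (WA k N w) _ hP).chooseDecomposition
  obtain ⟨F⟩ := Groth.Agent.S13215.result (MvPolynomial (Fin N) k) (WA k N w)
    (MvPolynomial (Fin N) k ⧸
      (m.toIdeal : Submodule (MvPolynomial (Fin N) k) (MvPolynomial (Fin N) k)))
    (Groth.Agent.Lib.Helper20.GrLCQuot.quotGr (WA k N w)
      (m.toIdeal : Submodule (MvPolynomial (Fin N) k) (MvPolynomial (Fin N) k)))
  have hk : LinearMap.ker (Submodule.mkQ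
      (m.toIdeal : Submodule (MvPolynomial (Fin N) k) (MvPolynomial (Fin N) k))) =
      Ideal.span (Set.range (X : Fin N → MvPolynomial (Fin N) k)) := by
    rw [Submodule.ker_mkQ]
    exact hmX
  have hmain := Groth.Agent.S18645.result (MvPolynomial (Fin N) k) (WA k N w) hpos h0 m hm hmsp N
    (ringKrullDim_eq k N) I N le_rfl X w (X_mem k N w) hfm (isRegular_X k N) _ _
    (Submodule.mkQ (m.toIdeal : Submodule (MvPolynomial (Fin N) k) (MvPolynomial (Fin N) k)))
    (Groth.Agent.Lib.Helper20.GrLCQuot.mkQ_isGrHom (WA k N w) _)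
    (Submodule.mkQ_surjective _) hk F
  rw [Nat.sub_self] at hmain
  have hH0 : endDeg (F.Hgr m 0) = (((0 : ℤ) : WithTop ℤ) : WithBot (WithTop ℤ)) := by
    apply Groth.Agent.Lib.Helper20.GrH0Residue.endDeg_Hgr_zero m F
    · intro y
      obtain ⟨r, rfl⟩ := Submodule.mkQ_surjective _ y
      refine ⟨1, fun s hs => ?_⟩
      rw [pow_one] at hs
      rw [← map_smul, Submodule.mkQ_apply, Submodule.Quotient.mk_eq_zero]
      exact Ideal.mul_mem_right _ _ hs
    · intro hbot
      have h1 : Submodule.mkQ
          (m.toIdeal : Submodule (MvPolynomial (Fin N) k) (MvPolynomial (Fin N) k)) 1 ∈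
          Groth.Agent.Lib.Helper20.GrLCQuot.quotGr (WA k N w)
            (m.toIdeal : Submodule (MvPolynomial (Fin N) k) (MvPolynomial (Fin N) k)) 0 :=
        ⟨1, SetLike.GradedOne.one_mem, rfl⟩
      rw [hbot, AddSubgroup.mem_bot, Submodule.mkQ_apply, Submodule.Quotient.mk_eq_zero] at h1
      exact hmne ((Ideal.eq_top_iff_one _).2 h1)
    · intro d hd
      rw [eq_bot_iff]
      rintro _ ⟨x, hx, rfl⟩
      rw [AddSubgroup.mem_bot]
      show Submodule.mkQ _ x = 0
      rw [Submodule.mkQ_apply, Submodule.Quotient.mk_eq_zero]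
      exact hmpos d hd x hx
  rw [hH0] at hmain
  -- arithmetic in `WithBot (WithTop ℤ)`
  induction hv : endDeg (I.Hgr m N) using WithBot.recBotCoe with
  | bot =>
    rw [hv, WithBot.bot_add] at hmain
    exact absurd hmain (by simp)
  | coe v =>
    induction v using WithTop.recTopCoe with
    | top =>
      rw [hv] at hmain
      exfalso
      have h1 : ((⊤ : WithTop ℤ) : WithBot (WithTop ℤ)) +
          ((((Finset.univ : Finset (Fin N)).sum w : ℤ) : WithTop ℤ) : WithBot (WithTop ℤ)) =
          ((⊤ : WithTop ℤ) : WithBot (WithTop ℤ)) := by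
        rw [← WithBot.coe_add, WithTop.top_add]
      rw [h1] at hmain
      have h2 := WithBot.coe_injective hmain
      exact absurd h2 (by simp)
    | coe b =>
      rw [hv] at hmain
      have h1 : (0 : ℤ) = b + (Finset.univ : Finset (Fin N)).sum w := by exact_mod_cast hmain
      have h2 : b = -(Finset.univ : Finset (Fin N)).sum w := by omega
      rw [h2]

end Groth.Agent.Lib.Helper20.GrWeightedCanon
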