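import Mathlib
import Groth.Agent.Lib.Helper20.GrWeightedCanon
import Groth.Agent.Lib.Helper20.GrModNV1
import Groth.Agent.Lib.Helper20.GrHilbDeg
import Groth.Agent.Lib.Helper20.DepthMaxLoc
import Groth.Agent.Lib.Helper20.GrFieldLocal

/-!
# The top local cohomology of the standard graded polynomial ring (helper20)

`H^N_m(k[X_1, …, X_N])_j ≠ 0` iff `j ≤ -N`.
-/

set_option autoImplicit false
set_option linter.unusedSectionVars false
set_option linter.unusedVariables false
set_option linter.style.haveILetI false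

universe u

attribute [local instance] MvPolynomial.weightedGradedAlgebra

open Pointwise GrLC MvPolynomial Groth.Agent.Lib.Helper20.GrConv Groth.Agent.Lib.Helper20.GrWeightedPoly
  Groth.Agent.Lib.Helper4.LC Groth.Agent.Lib.Helper20.GrLCQuot Groth.Agent.Lib.Helper20.GrLES2
  Groth.Agent.Lib.Helper20.GrAinv Groth.Agent.Lib.Helper20.GrModNV Groth.Agent.Lib.Helper20.GrFin2

namespace Groth.Agent.Lib.Helper20.GrPolyTop

variable (k : Type u) [Field k] (N : ℕ)

/-- the standard weights. -/
abbrev w₁ : Fin N → ℤ := fun _ => 1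

variable (m : HomogeneousIdeal (WA k N (w₁ N)))
  (hmsp : m.toIdeal = Ideal.span (⋃ n ∈ Set.Ioi (0 : ℤ),
    (WA k N (w₁ N) n : Set (MvPolynomial (Fin N) k))))
  (I : StarInjRes (WA k N (w₁ N)) (WA k N (w₁ N)))

include hmsp in
/-- **the top local cohomology of the polynomial ring** lives exactly in degrees `≤ -N`. -/
theorem Hgr_top_ne_bot_iff (hN : 1 ≤ N) (j : ℤ) : I.Hgr m N j ≠ ⊥ ↔ j ≤ -(N : ℤ) := by
  classical
  have hw : ∀ i, 0 < w₁ N i := fun _ => one_pos
  have hpos := WA_neg k N (w₁ N) hw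
  have h0 := isField_deg0 k N (w₁ N) hw
  have hm : IsStarLocal (WA k N (w₁ N)) m :=
    Groth.Agent.Lib.Helper20.GrFieldLocal.isStarLocal (WA k N (w₁ N)) hpos h0 m hmsp
  have hend := Groth.Agent.Lib.Helper20.GrWeightedCanon.endDeg_top k N (w₁ N) hw m hm hmsp I
  have hsum : (Finset.univ : Finset (Fin N)).sum (w₁ N) = (N : ℤ) := by simp [w₁]
  rw [hsum] at hend
  constructor
  · intro hne
    by_contra hlt
    push Not at hlt
    exact hne (eq_bot_of_endDeg_eq_of_lt _ hend hlt)
  · intro hj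
    haveI hmax : m.toIdeal.IsMaximal :=
      Groth.Agent.Lib.Helper20.GrFieldLocal.isMaximal (WA k N (w₁ N)) hpos h0 m hmsp
    have hdim := Groth.Agent.Lib.Helper20.GrHeight2.ringKrullDim_eq_height (WA k N (w₁ N)) m hm
      hpos
    rw [ringKrullDim_eq k N] at hdim
    have hht : m.toIdeal.height = ((N : ℕ) : ℕ∞) := by
      have : ((m.toIdeal.height : ℕ∞) : WithBot ℕ∞) = (((N : ℕ) : ℕ∞) : WithBot ℕ∞) := by
        rw [← hdim]
        rfl
      exact_mod_cast this
    obtain ⟨c, rfl⟩ : ∃ c, N = c + 1 := ⟨N - 1, by omega⟩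
    set x : MvPolynomial (Fin (c + 1)) k := X 0 with hxdef
    have hx : x ∈ WA k (c + 1) (w₁ (c + 1)) 1 := X_mem k (c + 1) (w₁ (c + 1)) 0
    have hreg : IsSMulRegular (MvPolynomial (Fin (c + 1)) k) x :=
      (isRegular_of_ne_zero (X_ne_zero (0 : Fin (c + 1)))).left.isSMulRegular
    set P : Submodule (MvPolynomial (Fin (c + 1)) k) (MvPolynomial (Fin (c + 1)) k) :=
      x • (⊤ : Submodule (MvPolynomial (Fin (c + 1)) k) (MvPolynomial (Fin (c + 1)) k))
      with hPdef
    have hPr : P = LinearMap.range (LinearMap.lsmul (MvPolynomial (Fin (c + 1)) k)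
        (MvPolynomial (Fin (c + 1)) k) x) := smul_top_eq_range x
    have hP : P.IsHomogeneous (WA k (c + 1) (w₁ (c + 1))) := by
      rw [hPr]
      exact range_lsmul_isHomogeneous hx
    letI : DirectSum.Decomposition (quotGr (WA k (c + 1) (w₁ (c + 1))) P) :=
      (isInternal_quotGr (WA k (c + 1) (w₁ (c + 1))) P hP).chooseDecomposition
    obtain ⟨E₁⟩ := Groth.Agent.S13215.result (MvPolynomial (Fin (c + 1)) k)
      (WA k (c + 1) (w₁ (c + 1))) (MvPolynomial (Fin (c + 1)) k ⧸ P)
      (quotGr (WA k (c + 1) (w₁ (c + 1))) P)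
    have hker₁ : LinearMap.ker P.mkQ = LinearMap.range
        (LinearMap.lsmul (MvPolynomial (Fin (c + 1)) k) (MvPolynomial (Fin (c + 1)) k) x) := by
      rw [Submodule.ker_mkQ, hPr]
    have hc : Subsingleton (I.H m c) := by
      apply subsingleton_H_of_HH
      apply Groth.Agent.Lib.Helper20.DepthMaxLoc.HH.subsingleton_of_lt_height m.toIdeal c
      rw [hht]
      exact_mod_cast Nat.lt_succ_self c
    have hdim₁ : Module.supportDim (MvPolynomial (Fin (c + 1)) k)
        (MvPolynomial (Fin (c + 1)) k ⧸ P) ≤ ((c : ℕ) : WithBot ℕ∞) := by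
      have h1 : Module.supportDim (MvPolynomial (Fin (c + 1)) k)
          (MvPolynomial (Fin (c + 1)) k ⧸ P) + 1 ≤
          Module.supportDim (MvPolynomial (Fin (c + 1)) k) (MvPolynomial (Fin (c + 1)) k) :=
        Module.supportDim_quotSMulTop_succ_le_of_notMem_minimalPrimes (x := x)
          (fun _ => hreg.notMem_of_mem_minimalPrimes)
      rw [Module.supportDim_self_eq_ringKrullDim, ringKrullDim_eq k (c + 1)] at h1
      exact Groth.Agent.Lib.Helper20.GrHilbDeg.le_of_add_one_le _ c h1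
    have hNs : Subsingleton (E₁.H m (c + 1)) := by
      apply subsingleton_H_of_HH
      apply HH.subsingleton_of_supportDim_lt
      refine lt_of_le_of_lt hdim₁ ?_
      exact_mod_cast Nat.lt_succ_self c
    have hstep := (ne_bot_step m I E₁ x 1 hx hreg P.mkQ (Submodule.mkQ_surjective P)
      (mkQ_isGrHom (WA k (c + 1) (w₁ (c + 1))) P) hker₁ c hc hNs).2
    have key : ∀ t : ℕ, I.Hgr m (c + 1) (-((c + 1 : ℕ) : ℤ) - t) ≠ ⊥ := by
      intro t
      induction t with
      | zero =>
        have := ne_bot_of_endDeg_eq _ hend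
        simpa using this
      | succ t ih =>
        have := hstep _ ih
        convert this using 2
        push_cast
        ring
    obtain ⟨t, rfl⟩ : ∃ t : ℕ, j = -((c + 1 : ℕ) : ℤ) - t :=
      ⟨(-((c + 1 : ℕ) : ℤ) - j).toNat, by omega⟩
    exact key t

end Groth.Agent.Lib.Helper20.GrPolyTop
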