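import Mathlib
import Groth.Prelude.Def_GrLC
import Groth.Prelude.Def_GrSyz

/-!
# The quotient of a graded algebra by a homogeneous ideal, as a graded module (pieces are
`k`-submodules)
-/

set_option autoImplicit false
set_option linter.unusedSectionVars false

universe u

namespace Groth.Agent.Lib.Helper20.GrQuotK

variable {ι : Type} [DecidableEq ι] [AddMonoid ι]
  {k R : Type u} [CommRing k] [CommRing R] [Algebra k R]
  (𝒜 : ι → Submodule k R) [GradedAlgebra 𝒜] (I : Ideal R)

/-- the pieces of `R ⧸ I`: images of the pieces of `R` -/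
def quotK (g : ι) : Submodule k (R ⧸ I) := (𝒜 g).map (Ideal.Quotient.mkₐ k I).toLinearMap

theorem mem_quotK {g : ι} {q : R ⧸ I} :
    q ∈ quotK 𝒜 I g ↔ ∃ x ∈ 𝒜 g, Ideal.Quotient.mk I x = q := Iff.rfl

theorem mk_mem_quotK {g : ι} {x : R} (hx : x ∈ 𝒜 g) : Ideal.Quotient.mk I x ∈ quotK 𝒜 I g :=
  ⟨x, hx, rfl⟩

theorem isInternal_quotK (hI : I.IsHomogeneous 𝒜) : DirectSum.IsInternal (quotK 𝒜 I) := by
  classical
  constructor
  · rw [injective_iff_map_eq_zero]
    intro x hx
    have hrep : ∀ g, ∃ z ∈ 𝒜 g, Ideal.Quotient.mk I z = (x g : R ⧸ I) := fun g => (x g).2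
    choose z hzg hzx using hrep
    have hsum : Ideal.Quotient.mk I (∑ g ∈ x.support, z g) = 0 := by
      rw [map_sum]
      have h1 : ∑ g ∈ x.support, Ideal.Quotient.mk I (z g) =
          DirectSum.coeAddMonoidHom (quotK 𝒜 I) x := by
        rw [DirectSum.coeAddMonoidHom_eq_dfinsuppSum, DFinsupp.sum]
        exact Finset.sum_congr rfl fun g _ => hzx g
      rw [h1, hx]
    have hmemB : (∑ g ∈ x.support, z g) ∈ I := Ideal.Quotient.eq_zero_iff_mem.mp hsum
    apply DFinsupp.ext
    intro g₀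
    by_cases hg : g₀ ∈ x.support
    · have hcomp : ((DirectSum.decompose 𝒜 (∑ g ∈ x.support, z g) g₀ : 𝒜 g₀) : R) = z g₀ := by
        rw [DirectSum.decompose_sum, DFinsupp.finsetSum_apply,
          Submodule.coe_sum, Finset.sum_eq_single g₀]
        · rw [DirectSum.decompose_of_mem_same 𝒜 (hzg g₀)]
        · intro g _ hne
          rw [DirectSum.decompose_of_mem_ne 𝒜 (hzg g) hne]
        · intro h
          exact absurd hg h
      have hz0 : z g₀ ∈ I := hcomp ▸ hI g₀ hmemB
      have h3 : (x g₀ : R ⧸ I) = 0 := by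
        rw [← hzx g₀]
        exact Ideal.Quotient.eq_zero_iff_mem.mpr hz0
      exact Subtype.ext h3
    · rw [DFinsupp.notMem_support_iff] at hg
      rw [hg]
      rfl
  · intro h
    obtain ⟨z, rfl⟩ := Ideal.Quotient.mk_surjective h
    refine ⟨∑ g ∈ (DirectSum.decompose 𝒜 z).support,
      DirectSum.of (fun g => quotK 𝒜 I g) g ⟨Ideal.Quotient.mk I (DirectSum.decompose 𝒜 z g : 𝒜 g),
        mk_mem_quotK 𝒜 I (SetLike.coe_mem _)⟩, ?_⟩
    rw [map_sum]
    simp only [DirectSum.coeAddMonoidHom_of]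
    rw [← map_sum, DirectSum.sum_support_decompose 𝒜 z]

/-- the decomposition of the quotient -/
noncomputable def quotKDecomposition (hI : I.IsHomogeneous 𝒜) :
    DirectSum.Decomposition (quotK 𝒜 I) :=
  (isInternal_quotK 𝒜 I hI).chooseDecomposition

instance quotK_gradedSMul : SetLike.GradedSMul 𝒜 (quotK 𝒜 I) where
  smul_mem := by
    rintro i j r q hr ⟨x, hx, rfl⟩
    exact ⟨r * x, SetLike.GradedMul.mul_mem hr hx, rfl⟩

end Groth.Agent.Lib.Helper20.GrQuotK
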