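import Mathlib
import Groth.Prelude.Def_GrLC
import Groth.Agent.Lib.Helper20.GrVerGor
import Groth.Agent.S0341
import Groth.Agent.S18654

/-!
# Veronese subrings of Gorenstein graded rings: `R^{(q)}` Gorenstein implies `q ∣ a(R)` (helper20)
-/

set_option autoImplicit false
set_option linter.unusedSectionVars false
set_option linter.unusedVariables false
set_option linter.style.haveILetI false

universe u

open DirectSum GrLC Groth.Agent.Lib.Helper20.GrLCBasic Groth.Agent.Lib.Helper20.GrLCQuot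
  Groth.Agent.Lib.Helper20.GrVeronese Groth.Agent.Lib.Helper20.GrVerRing
  Groth.Agent.Lib.Helper20.GrFieldLocal Groth.Agent.Lib.Helper20.GrVerTop
  Groth.Agent.Lib.Helper20.GrVerHull Groth.Agent.Lib.Helper20.GrHullDual
  Groth.Agent.Lib.Helper20.GrVerGor

namespace Groth.Agent.Lib.Helper20.GrVerConv

section iso

variable {R : Type u} [CommRing R] (𝒜 : ℤ → AddSubgroup R) [GradedRing 𝒜]
  {M N : Type u} [AddCommGroup M] [Module R M] [AddCommGroup N] [Module R N]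
  (ℳ : ℤ → AddSubgroup M) (𝒩 : ℤ → AddSubgroup N)
  [DirectSum.Decomposition ℳ] [SetLike.GradedSMul 𝒜 ℳ]
  [DirectSum.Decomposition 𝒩] [SetLike.GradedSMul 𝒜 𝒩]

/-- a bijective homogeneous map of degree `g` identifies the pieces. -/
theorem finrank_comp_eq_of_equiv (f : M ≃ₗ[R] N) (g : ℤ) (hf : IsGrHomDeg ℳ 𝒩 f.toLinearMap g)
    (j : ℤ) :
    Module.finrank (deg0 𝒜) (comp 𝒜 ℳ j) = Module.finrank (deg0 𝒜) (comp 𝒜 𝒩 (j + g)) := by
  have hgr : IsGrHom ℳ (shiftGr 𝒩 g) f.toLinearMap := fun i x hx => hf i x hx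
  let T : comp 𝒜 ℳ j ≃ₗ[deg0 𝒜] comp 𝒜 𝒩 (j + g) :=
    { toFun := fun x => ⟨f x.1, hf j x.1 x.2⟩
      map_add' := fun x y => Subtype.ext (map_add f x.1 y.1)
      map_smul' := fun c x => Subtype.ext (map_smul f (c : R) x.1)
      invFun := fun y => ⟨f.symm y.1, by
        refine mem_of_map_mem ℳ (shiftGr 𝒩 g) f.toLinearMap hgr f.injective ?_
        change f (f.symm y.1) ∈ 𝒩 (j + g)
        rw [f.apply_symm_apply]
        exact y.2⟩
      left_inv := fun x => Subtype.ext (f.symm_apply_apply x.1)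
      right_inv := fun y => Subtype.ext (f.apply_symm_apply y.1) }
  exact T.finrank_eq

end iso

set_option maxHeartbeats 1000000 in
/-- **Goto–Watanabe, converse**: for a standard graded Gorenstein ring `R` of positive dimension
with `dim_k R_1 ≥ 2`, if the Veronese subring `R^{(q)}` is Gorenstein then `q ∣ a(R)`. -/
theorem dvd_of_isGorensteinRing_veronese (R : Type u) [CommRing R] [LocCoh.IsGorensteinRing R]
    (𝒜 : ℤ → AddSubgroup R) [GradedRing 𝒜] (hpos : ∀ n : ℤ, n < 0 → 𝒜 n = ⊥)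
    (h0 : IsField (GrLC.deg0 𝒜)) (m : HomogeneousIdeal 𝒜) (hm : GrLC.IsStarLocal 𝒜 m)
    (hmsp : m.toIdeal = Ideal.span (⋃ n ∈ Set.Ioi (0 : ℤ), (𝒜 n : Set R)))
    (hstd : Ideal.span (⋃ n ∈ Set.Ioi (0 : ℤ), (𝒜 n : Set R)) =
      Ideal.span ((𝒜 1 : AddSubgroup R) : Set R))
    (hR1 : 2 ≤ Module.finrank (GrLC.deg0 𝒜) (GrLC.comp 𝒜 𝒜 1)) (n : ℕ)
    (hn : ringKrullDim R = n) (h1 : 1 ≤ n) (I : GrLC.StarInjRes 𝒜 𝒜) (a : ℤ)
    (ha : GrLC.endDeg (I.Hgr m n) = ((a : WithTop ℤ) : WithBot (WithTop ℤ))) (q : ℕ) (hq : 0 < q)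
    (R' : Type u) [CommRing R'] (𝒜' : ℤ → AddSubgroup R') [GradedRing 𝒜'] (φ : R' →+* R)
    (hφ : Function.Injective φ) (hdeg : ∀ j : ℤ, (𝒜' j).map (φ : R' →+ R) = 𝒜 (j * q))
    [LocCoh.IsGorensteinRing R'] : (q : ℤ) ∣ a := by
  classical
  haveI : IsNoetherianRing R := inferInstance
  haveI : IsNoetherianRing R' := inferInstance
  haveI : Nontrivial (deg0 𝒜) := h0.nontrivial
  haveI hCM : LocCoh.IsCohenMacaulayRing R :=
    { isCohenMacaulayLocalRing_localization := fun p _ => by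
        haveI := LocCoh.IsGorensteinRing.isGorensteinLocalRing_localization (A := R) p
        exact Groth.Agent.S0341.result (Localization.AtPrime p) }
  have hht : m.toIdeal.height = n := height_eq_of_dim 𝒜 hpos m hm n hn
  have hpos' := hpos' 𝒜 𝒜' φ hφ q hq hdeg hpos
  have h0' := isField_deg0' 𝒜 𝒜' φ hφ q hdeg h0
  let m' : HomogeneousIdeal 𝒜' := mV 𝒜'
  have hm'sp : m'.toIdeal = Ideal.span (⋃ j ∈ Set.Ioi (0 : ℤ), (𝒜' j : Set R')) := rfl
  have hm' : IsStarLocal 𝒜' m' := isStarLocal 𝒜' hpos' h0' m' hm'sp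
  haveI hm'max : m'.toIdeal.IsMaximal := isMaximal 𝒜' hpos' h0' m' hm'sp
  haveI hm'p : m'.toIdeal.IsPrime := hm'max.isPrime
  obtain ⟨F, -, -⟩ := Groth.Agent.Lib.Helper20.GrMinRes.exists_minimal 𝒜' 𝒜'
  -- the envelopes
  letI : DirectSum.Decomposition (GrLC.quotGr 𝒜 m) :=
    (isInternal_quotGr 𝒜 (m.toIdeal : Submodule R R) m.isHomogeneous).chooseDecomposition
  letI : SetLike.GradedSMul 𝒜 (GrLC.quotGr 𝒜 m) :=
    quotGr_gradedSMul (𝒜 := 𝒜) (𝓧 := 𝒜) (P := (m.toIdeal : Submodule R R))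
  obtain ⟨E', e, he⟩ := Groth.Agent.Lib.Helper20.GrLCHull.exists_starInjHull 𝒜 (GrLC.quotGr 𝒜 m)
  letI : DirectSum.Decomposition (GrLC.quotGr 𝒜' m') :=
    (isInternal_quotGr 𝒜' (m'.toIdeal : Submodule R' R') m'.isHomogeneous).chooseDecomposition
  letI : SetLike.GradedSMul 𝒜' (GrLC.quotGr 𝒜' m') :=
    quotGr_gradedSMul (𝒜 := 𝒜') (𝓧 := 𝒜') (P := (m'.toIdeal : Submodule R' R'))
  obtain ⟨E'', e', he'⟩ := Groth.Agent.Lib.Helper20.GrLCHull.exists_starInjHull 𝒜'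
    (GrLC.quotGr 𝒜' m')
  -- the top local cohomology of `R'`
  obtain ⟨n', hn'⟩ : ∃ n' : ℕ, m'.toIdeal.height = n' := by
    have := Ideal.height_ne_top hm'p.ne_top
    exact (ENat.ne_top_iff_exists.1 this).imp fun _ h => h.symm
  obtain ⟨g₁, φ₁, hφ₁⟩ := Groth.Agent.S13244.result R' 𝒜' m' hm' n' hn' F E''.carrier E''.gr e' he'
  have hm'ne : m'.toIdeal ≠ ⊤ := hm'p.ne_top
  have he'1 : e' 1 ≠ 0 := by
    intro h6
    have h7 : (1 : R' ⧸ m'.toIdeal) = 0 := he'.injective (by rw [h6, map_zero])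
    have h8 : Ideal.Quotient.mk m'.toIdeal 1 = 0 := h7
    rw [Ideal.Quotient.eq_zero_iff_mem] at h8
    exact hm'ne ((Ideal.eq_top_iff_one _).2 h8)
  have hnn : n' = n := by
    by_contra hne
    haveI := subsingleton_H_veronese R 𝒜 m hm hmsp n hht I q hq 𝒜' φ hφ hdeg m' hm'sp F n' hne
    haveI : Subsingleton E''.carrier := φ₁.symm.toEquiv.subsingleton
    exact he'1 (Subsingleton.elim _ _)
  subst hnn
  obtain ⟨g₀, Ψ, hend, hΨ1, hΨ2, hΨ3, hΨ4⟩ := exists_hull_comparison R 𝒜 hpos h0 m hm hmsp n' hht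
    I E'.gr e he q hq 𝒜' φ hφ hdeg m' hm'sp F
  have hag : a = -g₀ := by
    rw [ha] at hend
    exact_mod_cast hend
  letI := Groth.Agent.Lib.Helper20.GrLES2.decH F m' n'
  -- the dimension count
  have hd1 := finrank_piece 𝒜 E'.gr q 𝒜' φ hφ hdeg (F.Hgr m' n') g₀ Ψ hΨ1 hΨ2 hΨ3 hΨ4 (-g₁)
  have hd2 := finrank_comp_eq_of_equiv 𝒜' (F.Hgr m' n') E''.gr φ₁ g₁ hφ₁ (-g₁)
  rw [neg_add_cancel, finrank_comp_zero 𝒜' E''.gr hpos' h0' m' hm'sp e' he'] at hd2
  rw [hd2] at hd1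
  have hd3 := finrank_comp_neg 𝒜 E'.gr hpos h0 m hmsp e he (g₁ * q - g₀)
  have hidx : -g₁ * q + g₀ = -(g₁ * q - g₀) := by ring
  rw [hidx] at hd1
  rw [← hd1] at hd3
  -- the Hilbert function
  have hn1 : (1 : WithBot ℕ∞) ≤ ringKrullDim R := by
    rw [hn]
    exact_mod_cast h1
  have hmono : ∀ k : ℕ, 2 ≤ Module.finrank (deg0 𝒜) (comp 𝒜 𝒜 ((k : ℤ) + 1)) := by
    intro k
    induction k with
    | zero =>
      rw [Nat.cast_zero, zero_add]
      exact hR1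
    | succ k ih =>
      refine le_trans ih ?_
      have := Groth.Agent.S18654.result R 𝒜 hpos h0 hstd hn1 ((k : ℤ) + 1)
      rw [Nat.cast_succ]
      exact this
  have hzero : g₁ * q - g₀ = 0 := by
    rcases lt_trichotomy (g₁ * q - g₀) 0 with hlt | heq | hgt
    · exfalso
      have hbot : comp 𝒜 𝒜 (g₁ * q - g₀) = ⊥ := by
        rw [eq_bot_iff]
        intro x hx
        have hx' : x ∈ 𝒜 (g₁ * q - g₀) := hx
        rw [hpos _ hlt, AddSubgroup.mem_bot] at hx'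
        rw [hx']
        exact zero_mem _
      rw [hbot, finrank_bot] at hd3
      omega
    · exact heq
    · exfalso
      obtain ⟨k, hk⟩ : ∃ k : ℕ, g₁ * q - g₀ = (k : ℤ) + 1 :=
        ⟨(g₁ * q - g₀ - 1).toNat, by omega⟩
      have := hmono k
      rw [← hk, ← hd3] at this
      omega
  refine ⟨-g₁, ?_⟩
  rw [hag]
  have : g₀ = g₁ * q := by omega
  rw [this]
  ring

end Groth.Agent.Lib.Helper20.GrVerConv
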