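import Mathlib
import Groth.Prelude.Def_GrLC

/-!
# The grading of an abstractly presented Veronese subring (helper20)

`φ : R' → R` injective with range the elements whose components in degrees not divisible by `q`
vanish; then `R'` is graded by `R'_j = φ⁻¹ (R_{jq})`.
-/

set_option autoImplicit false
set_option linter.unusedSectionVars false
set_option linter.unusedVariables false
set_option linter.style.haveILetI false

universe u

open DirectSum

namespace Groth.Agent.Lib.Helper20.GrVerPull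

variable {R R' : Type u} [CommRing R] [CommRing R'] (𝒜 : ℤ → AddSubgroup R) [GradedRing 𝒜]
  (φ : R' →+* R) (hφ : Function.Injective φ) (q : ℕ) (hq : 0 < q)
  (hrange : ∀ p : R, p ∈ φ.range ↔ ∀ i : ℤ, ¬ (q : ℤ) ∣ i → ((decompose 𝒜 p i : 𝒜 i) : R) = 0)

/-- the pieces of the Veronese subring. -/
def VA : ℤ → AddSubgroup R' := fun j => (𝒜 (j * q)).comap (φ : R' →+ R)

theorem mem_VA {j : ℤ} {x : R'} : x ∈ VA 𝒜 φ q j ↔ φ x ∈ 𝒜 (j * q) := Iff.rfl

include hrange in
theorem mem_range_of_mem {j : ℤ} {p : R} (hp : p ∈ 𝒜 (j * q)) : p ∈ φ.range := by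
  rw [hrange]
  intro i hi
  rw [decompose_of_mem_ne 𝒜 hp]
  intro h
  exact hi ⟨j, by rw [← h]; ring⟩

include hrange in
theorem map_VA (j : ℤ) : (VA 𝒜 φ q j).map (φ : R' →+ R) = 𝒜 (j * q) := by
  apply le_antisymm
  · rintro _ ⟨x, hx, rfl⟩
    exact hx
  · intro p hp
    obtain ⟨x, rfl⟩ := mem_range_of_mem 𝒜 φ q hrange hp
    exact ⟨x, hp, rfl⟩

include hφ hq hrange in
theorem isInternal_VA : DirectSum.IsInternal (VA 𝒜 φ q) := by
  classical
  have hq' : (q : ℤ) ≠ 0 := by exact_mod_cast hq.ne'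
  have hinjq : Function.Injective (fun j : ℤ => j * (q : ℤ)) := fun a b h =>
    mul_right_cancel₀ hq' h
  constructor
  · rw [injective_iff_map_eq_zero]
    intro x hx
    have hsum : ∑ j ∈ x.support, φ (x j : R') = 0 := by
      rw [← map_sum]
      have h1 : ∑ j ∈ x.support, ((x j : VA 𝒜 φ q j) : R') =
          DirectSum.coeAddMonoidHom (VA 𝒜 φ q) x := by
        rw [DirectSum.coeAddMonoidHom_eq_dfinsuppSum, DFinsupp.sum]
      rw [h1, hx, map_zero]
    apply DFinsupp.ext
    intro j₀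
    by_cases hj : j₀ ∈ x.support
    · have hcomp : ((decompose 𝒜 (∑ j ∈ x.support, φ (x j : R')) (j₀ * q) : 𝒜 (j₀ * q)) : R) =
          φ (x j₀ : R') := by
        rw [decompose_sum, DFinsupp.finsetSum_apply, AddSubgroup.val_finsetSum,
          Finset.sum_eq_single j₀]
        · have hm : φ (x j₀ : R') ∈ 𝒜 (j₀ * q) := (x j₀).2
          rw [decompose_of_mem_same 𝒜 hm]
        · intro j _ hne
          have hm : φ (x j : R') ∈ 𝒜 (j * q) := (x j).2
          rw [decompose_of_mem_ne 𝒜 hm (fun h => hne (hinjq h))]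
        · intro h
          exact absurd hj h
      rw [hsum, decompose_zero, DirectSum.zero_apply, AddSubgroup.coe_zero] at hcomp
      apply Subtype.ext
      exact hφ (hcomp.symm.trans (map_zero φ).symm)
    · rw [DFinsupp.notMem_support_iff] at hj
      rw [hj]
      rfl
  · intro r
    let S : Finset ℤ := (decompose 𝒜 (φ r)).support.preimage (fun j : ℤ => j * (q : ℤ))
      hinjq.injOn
    have hmem : ∀ j : ℤ, ((decompose 𝒜 (φ r) (j * q) : 𝒜 (j * q)) : R) ∈ φ.range :=
      fun j => mem_range_of_mem 𝒜 φ q hrange (SetLike.coe_mem _)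
    choose y hy using hmem
    have hyV : ∀ j, y j ∈ VA 𝒜 φ q j := by
      intro j
      change φ (y j) ∈ 𝒜 (j * q)
      rw [hy j]
      exact SetLike.coe_mem _
    refine ⟨∑ j ∈ S, DirectSum.of (fun j => VA 𝒜 φ q j) j ⟨y j, hyV j⟩, ?_⟩
    rw [map_sum]
    simp only [DirectSum.coeAddMonoidHom_of]
    apply hφ
    rw [map_sum]
    have h1 : ∑ j ∈ S, φ (y j) =
        ∑ j ∈ S, ((decompose 𝒜 (φ r) (j * q) : 𝒜 (j * q)) : R) :=
      Finset.sum_congr rfl fun j _ => hy j
    rw [h1]
    have h2 := Finset.sum_preimage (fun j : ℤ => j * (q : ℤ)) (decompose 𝒜 (φ r)).support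
      hinjq.injOn (fun i => ((decompose 𝒜 (φ r) i : 𝒜 i) : R)) (by
        intro i _ hi
        apply (hrange (φ r)).1 ⟨r, rfl⟩ i
        rintro ⟨c, rfl⟩
        exact hi ⟨c, mul_comm _ _⟩)
    rw [h2, DirectSum.sum_support_decompose]

include hφ hq hrange in
/-- the graded ring structure of the Veronese subring. -/
@[instance_reducible]
noncomputable def gradedRingVA : GradedRing (VA 𝒜 φ q) :=
  letI : DirectSum.Decomposition (VA 𝒜 φ q) :=
    (isInternal_VA 𝒜 φ hφ q hq hrange).chooseDecomposition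
  { one_mem := by
      change φ 1 ∈ 𝒜 (0 * q)
      rw [map_one, zero_mul]
      exact SetLike.GradedOne.one_mem (A := 𝒜)
    mul_mem := by
      intro i j a b ha hb
      change φ (a * b) ∈ 𝒜 ((i + j) * q)
      rw [map_mul, add_mul]
      exact SetLike.GradedMul.mul_mem (A := 𝒜) ha hb }

end Groth.Agent.Lib.Helper20.GrVerPull
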