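import Mathlib
import Groth.Prelude.Def_GrLC
import Groth.Agent.Lib.Helper20.GrVerHull
import Groth.Agent.Lib.Helper20.GrExtGraded

/-!
# The socle of the Veronese comparison module (helper20)
-/

set_option autoImplicit false
set_option linter.unusedSectionVars false
set_option linter.unusedVariables false
set_option linter.style.haveILetI false

universe u

open DirectSum GrLC Groth.Agent.Lib.Helper20.GrLCBasic Groth.Agent.Lib.Helper20.GrLCQuot
  Groth.Agent.Lib.Helper20.GrVeronese Groth.Agent.Lib.Helper20.GrVerRing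
  Groth.Agent.Lib.Helper20.GrFieldLocal
  Groth.Agent.Lib.Helper20.GrHullDual Groth.Agent.Lib.Helper20.GrCanonShift
  Groth.Agent.Lib.Helper20.GrExtGraded

namespace Groth.Agent.Lib.Helper20.GrVerSoc

variable {R : Type u} [CommRing R] [IsNoetherianRing R] (𝒜 : ℤ → AddSubgroup R)
  [GradedRing 𝒜] (hpos : ∀ n : ℤ, n < 0 → 𝒜 n = ⊥) (h0 : IsField (GrLC.deg0 𝒜))
  (m : HomogeneousIdeal 𝒜)
  (hmsp : m.toIdeal = Ideal.span (⋃ n ∈ Set.Ioi (0 : ℤ), (𝒜 n : Set R)))
  (hstd : Ideal.span (⋃ n ∈ Set.Ioi (0 : ℤ), (𝒜 n : Set R)) =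
    Ideal.span ((𝒜 1 : AddSubgroup R) : Set R))
  {E' : Type u} [AddCommGroup E'] [Module R E'] (𝓔 : ℤ → AddSubgroup E')
  [DirectSum.Decomposition 𝓔] [SetLike.GradedSMul 𝒜 𝓔]
  (e : (R ⧸ m.toIdeal) →ₗ[R] E') (he : IsStarInjHull 𝒜 (quotGr 𝒜 m) 𝓔 e)

include hpos hmsp hstd he in
/-- a nonzero element of negative degree of the envelope is not killed by `R_1`. -/
theorem exists_one_smul_ne_zero {j : ℤ} (hj : j < 0) {z : E'} (hz : z ∈ 𝓔 j) (hz0 : z ≠ 0) :
    ∃ x ∈ 𝒜 1, x • z ≠ 0 := by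
  by_contra hcon
  push Not at hcon
  obtain ⟨r, hr, hrz, -⟩ := exists_smul_ne_zero 𝒜 hpos m hmsp 𝓔 e he hz hz0
  have hrm : r ∈ m.toIdeal := mem_of_pos 𝒜 m hmsp (by omega : (0 : ℤ) < -j) hr
  rw [hmsp, hstd] at hrm
  apply hrz
  refine Submodule.span_induction (p := fun r _ => r • z = 0) ?_ ?_ ?_ ?_ hrm
  · intro x hx
    exact hcon x hx
  · exact zero_smul _ _
  · intro x y _ _ hx hy
    rw [add_smul, hx, hy, add_zero]
  · intro a x _ hx
    rw [smul_eq_mul, mul_smul, hx, smul_zero]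

include hpos hmsp hstd he in
/-- a nonzero element of degree `-i` of the envelope is not killed by `R_q` when `q ≤ i`. -/
theorem exists_smul_ne_zero_std (q : ℕ) : ∀ {i : ℤ}, (q : ℤ) ≤ i → ∀ {y : E'}, y ∈ 𝓔 (-i) → y ≠ 0 →
    ∃ s ∈ 𝒜 q, s • y ≠ 0 := by
  induction q with
  | zero =>
    intro i _ y _ hy0
    refine ⟨1, SetLike.GradedOne.one_mem (A := 𝒜), ?_⟩
    rwa [one_smul]
  | succ k ih =>
    intro i hi y hy hy0
    obtain ⟨s, hs, hsy⟩ := ih (i := i) (by push_cast at hi; omega) hy hy0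
    have hsy' : s • y ∈ 𝓔 ((k : ℤ) + -i) :=
      SetLike.GradedSMul.smul_mem (A := 𝒜) (B := 𝓔) hs hy
    obtain ⟨x, hx, hxs⟩ := exists_one_smul_ne_zero 𝒜 hpos m hmsp hstd 𝓔 e he
      (by push_cast at hi; omega) hsy' hsy
    refine ⟨x * s, ?_, ?_⟩
    · have := SetLike.GradedMul.mul_mem (A := 𝒜) hx hs
      rw [add_comm] at this
      exact_mod_cast this
    · rwa [mul_smul]

variable (q : ℕ) (hq : 0 < q) {R' : Type u} [CommRing R'] (𝒜' : ℤ → AddSubgroup R')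
  [GradedRing 𝒜'] (φ : R' →+* R) (hφ : Function.Injective φ)
  (hdeg : ∀ j : ℤ, (𝒜' j).map (φ : R' →+ R) = 𝒜 (j * q))
  (m' : HomogeneousIdeal 𝒜')
  (hm'sp : m'.toIdeal = Ideal.span (⋃ j ∈ Set.Ioi (0 : ℤ), (𝒜' j : Set R')))
  {H' : Type u} [AddCommGroup H'] [Module R' H'] (ℋ : ℤ → AddSubgroup H')
  [DirectSum.Decomposition ℋ] [SetLike.GradedSMul 𝒜' ℋ]
  (g₀ : ℤ) (Ψ : E' →+ H')
  (hΨ1 : ∀ (r : R') (y : E'), Ψ (φ r • y) = r • Ψ y)
  (hΨ2 : ∀ (j : ℤ) (y : E'), y ∈ 𝓔 (j * q + g₀) → Ψ y ∈ ℋ j)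
  (hΨ3 : ∀ (j : ℤ) (y : E'), y ∈ 𝓔 (j * q + g₀) → Ψ y = 0 → y = 0)
  (hΨ4 : ∀ (j : ℤ) (x : H'), x ∈ ℋ j → ∃ y ∈ 𝓔 (j * q + g₀), Ψ y = x)

include hpos hmsp hstd he hq hdeg hm'sp hΨ1 hΨ2 hΨ3 hΨ4 in
/-- **the socle of `H'` is its piece of degree `c`, where `c q + g₀ = -ρ` with `0 ≤ ρ < q`.** -/
theorem mem_tor_iff (c ρ : ℤ) (hρ0 : 0 ≤ ρ) (hρq : ρ < q) (hc : c * q + g₀ = -ρ) (x : H') :
    x ∈ tor m'.toIdeal H' ↔ x ∈ ℋ c := by
  classical
  have hmpos : ∀ n : ℤ, 0 < n → ∀ x ∈ 𝒜 n, x ∈ m.toIdeal :=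
    fun n hn x hx => mem_of_pos 𝒜 m hmsp hn hx
  have hq' : (0 : ℤ) < q := by exact_mod_cast hq
  constructor
  · intro hx
    have hcomp : ∀ j, j ≠ c → ((decompose ℋ x j : ℋ j) : H') = 0 := by
      intro j hjc
      by_contra hne
      obtain ⟨y, hy, hyx⟩ := hΨ4 j _ (SetLike.coe_mem (decompose ℋ x j))
      have hy0 : y ≠ 0 := by
        intro h
        apply hne
        rw [← hyx, h, map_zero]
      rcases lt_or_gt_of_ne hjc with hlt | hgt
      · -- `j < c`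
        have hidx : j * q + g₀ = -((c - j) * q + ρ) := by
          have : g₀ = -ρ - c * q := by omega
          rw [this]; ring
        have hle : (q : ℤ) ≤ (c - j) * q + ρ := by
          have : (1 : ℤ) ≤ c - j := by omega
          nlinarith
        rw [hidx] at hy
        obtain ⟨s, hs, hsy⟩ := exists_smul_ne_zero_std 𝒜 hpos m hmsp hstd 𝓔 e he q hle hy hy0
        have hs' : s ∈ 𝒜 (1 * q) := by rwa [one_mul]
        obtain ⟨s', hs'1, rfl⟩ := exists_of_mem 𝒜 𝒜' φ q hdeg hs'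
        have hs'm : s' ∈ m'.toIdeal := mem_of_pos 𝒜' m' hm'sp (by norm_num : (0 : ℤ) < 1) hs'1
        have h1 : s' • x = 0 := hx s' hs'm
        have h2 := decompose_smul_left 𝒜' ℋ hs'1 x j
        rw [h1, decompose_zero, DirectSum.zero_apply, AddSubgroup.coe_zero, ← hyx, ← hΨ1] at h2
        have hmem : φ s' • y ∈ 𝓔 ((j + 1) * q + g₀) := by
          have := SetLike.GradedSMul.smul_mem (A := 𝒜) (B := 𝓔) hs hy
          rw [vadd_eq_add] at this
          have hidx2 : (q : ℤ) + -((c - j) * q + ρ) = (j + 1) * q + g₀ := by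
            have : g₀ = -ρ - c * q := by omega
            rw [this]; ring
          rwa [hidx2] at this
        exact hsy (hΨ3 (j + 1) _ hmem h2.symm)
      · -- `c < j`
        have hposi : 0 < j * q + g₀ := by
          have : j * q + g₀ = (j - c) * q - ρ := by
            have : g₀ = -ρ - c * q := by omega
            rw [this]; ring
          rw [this]
          have : (1 : ℤ) ≤ j - c := by omega
          nlinarith
        rw [hull_eq_bot_of_pos 𝒜 hpos m hmpos 𝓔 e he _ hposi, AddSubgroup.mem_bot] at hy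
        exact hy0 hy
    rw [← DirectSum.sum_support_decompose ℋ x]
    refine AddSubgroup.sum_mem _ fun j _ => ?_
    by_cases hjc : j = c
    · rw [hjc]
      exact SetLike.coe_mem _
    · rw [hcomp j hjc]
      exact zero_mem _
  · intro hx r hr
    rw [hm'sp] at hr
    refine Submodule.span_induction (p := fun r _ => r • x = 0) ?_ ?_ ?_ ?_ hr
    · intro r hr
      simp only [Set.mem_iUnion, Set.mem_Ioi] at hr
      obtain ⟨d, hd, hrd⟩ := hr
      obtain ⟨y, hy, rfl⟩ := hΨ4 c x hx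
      rw [← hΨ1]
      have hmem := SetLike.GradedSMul.smul_mem (A := 𝒜) (B := 𝓔) (φ_mem 𝒜 𝒜' φ q hdeg hrd) hy
      rw [vadd_eq_add] at hmem
      have hposi : 0 < d * q + (c * q + g₀) := by
        rw [hc]
        have : (1 : ℤ) ≤ d := hd
        nlinarith
      rw [hull_eq_bot_of_pos 𝒜 hpos m hmpos 𝓔 e he _ hposi, AddSubgroup.mem_bot] at hmem
      rw [hmem, map_zero]
    · exact zero_smul _ _
    · intro a b _ _ ha hb
      rw [add_smul, ha, hb, add_zero]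
    · intro a b _ hb
      rw [smul_eq_mul, mul_smul, hb, smul_zero]

end Groth.Agent.Lib.Helper20.GrVerSoc
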