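import Mathlib
import Groth.Prelude.Def_GrLC
import Groth.Prelude.Def_GrLC2
import Groth.Agent.Lib.Helper20.SocleCount

/-!
# The zeroth Bass number at a maximal ideal as the length of the socle (helper20)
-/

set_option autoImplicit false
set_option linter.unusedSectionVars false
set_option linter.unusedVariables false
set_option linter.style.haveILetI false

universe u

open IsLocalRing Groth.Agent.Lib.Helper20.GrExtGraded Groth.Agent.Lib.Helper20.SocleCount

namespace Groth.Agent.Lib.Helper20.SocleLen

section restr

variable {A B M : Type*} [CommRing A] [CommRing B] [Algebra A B] [AddCommGroup M] [Module A M]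
  [Module B M] [IsScalarTower A B M]

/-- restriction of scalars preserves the length when every `A`-submodule is `B`-stable. -/
theorem length_eq_of_forall_smul (h : ∀ (b : B) (x : M), ∃ a : A, b • x = a • x) :
    Module.length A M = Module.length B M := by
  let iso : Submodule B M ≃o Submodule A M :=
    { toFun := Submodule.restrictScalars A
      invFun := fun N =>
        { carrier := N
          add_mem' := N.add_mem
          zero_mem' := N.zero_mem
          smul_mem' := fun b x hx => by
            obtain ⟨a, ha⟩ := h b x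
            rw [ha]
            exact N.smul_mem a hx }
      left_inv := fun N => rfl
      right_inv := fun N => rfl
      map_rel_iff' := Iff.rfl }
  rw [Module.length, Module.length, WithBot.unbot_inj, Order.krullDim_eq_of_orderIso iso]

end restr

section soc

variable {R : Type u} [CommRing R] [IsNoetherianRing R] (𝔭 : Ideal R) [h𝔭 : 𝔭.IsMaximal]
  (N : Type u) [AddCommGroup N] [Module R N]

/-- the comparison map on socles. -/
noncomputable def socMap : tor 𝔭 N →ₗ[R] soc 𝔭 N where
  toFun x := (⟨(LocalizedModule.mk x.1 (1 : 𝔭.primeCompl) : LocalizedModule 𝔭.primeCompl N), by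
    rw [mk_mem_soc_iff]
    intro r hr
    refine ⟨1, fun h1 => h𝔭.ne_top ((Ideal.eq_top_iff_one _).2 h1), ?_⟩
    rw [one_smul]
    exact x.2 r hr⟩ : soc 𝔭 N)
  map_add' x y := by
    apply Subtype.ext
    change (LocalizedModule.mk (x.1 + y.1) (1 : 𝔭.primeCompl) :
      LocalizedModule 𝔭.primeCompl N) = LocalizedModule.mk x.1 1 + LocalizedModule.mk y.1 1
    rw [LocalizedModule.mk_add_mk]
    simp
  map_smul' r x := by
    apply Subtype.ext
    change (LocalizedModule.mk (r • x.1) (1 : 𝔭.primeCompl) :
      LocalizedModule 𝔭.primeCompl N) = r • LocalizedModule.mk x.1 1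
    rw [LocalizedModule.smul'_mk]

theorem socMap_apply (x : tor 𝔭 N) :
    ((socMap 𝔭 N x : soc 𝔭 N) : LocalizedModule 𝔭.primeCompl N) = LocalizedModule.mk x.1 1 := rfl

theorem socMap_bijective : Function.Bijective (socMap 𝔭 N) := by
  constructor
  · rw [injective_iff_map_eq_zero]
    intro x hx
    have h1 : (LocalizedModule.mk x.1 (1 : 𝔭.primeCompl) : LocalizedModule 𝔭.primeCompl N) = 0 :=
      congrArg Subtype.val hx
    rw [mk_eq_zero_iff] at h1
    obtain ⟨t, ht, htx⟩ := h1
    obtain ⟨y, i, hi, hyi⟩ := h𝔭.exists_inv ht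
    apply Subtype.ext
    have : x.1 = (y * t + i) • x.1 := by rw [hyi, one_smul]
    rw [this, add_smul, mul_smul, htx, smul_zero, x.2 i hi, add_zero]
    rfl
  · rintro ⟨z, hz⟩
    obtain ⟨x, s, rfl, hx⟩ := exists_rep_of_mem_soc 𝔭 z hz
    obtain ⟨y, i, hi, hyi⟩ := h𝔭.exists_inv s.2
    refine ⟨⟨y • x, fun r hr => by rw [smul_comm, hx r hr, smul_zero]⟩, ?_⟩
    apply Subtype.ext
    change (LocalizedModule.mk (y • x) (1 : 𝔭.primeCompl) : LocalizedModule 𝔭.primeCompl N) =
      LocalizedModule.mk x s
    rw [LocalizedModule.mk_eq]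
    refine ⟨1, ?_⟩
    simp only [one_smul]
    change (s : R) • y • x = x
    have : x = (y * (s : R) + i) • x := by rw [hyi, one_smul]
    conv_rhs => rw [this, add_smul, hx i hi, add_zero, mul_smul]
    rw [smul_comm]

/-- the socle of `N` at a maximal ideal maps isomorphically onto the socle of the localisation. -/
noncomputable def socEquiv : tor 𝔭 N ≃ₗ[R] soc 𝔭 N :=
  LinearEquiv.ofBijective (socMap 𝔭 N) (socMap_bijective 𝔭 N)

/-- every `R`-submodule of the socle of the localisation is stable under the local ring. -/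
theorem exists_smul_eq (b : Localization.AtPrime 𝔭) (x : soc 𝔭 N) : ∃ a : R, b • x = a • x := by
  induction b using Localization.induction_on with
  | H rs =>
    obtain ⟨r, s⟩ := rs
    obtain ⟨y, i, hi, hyi⟩ := h𝔭.exists_inv s.2
    refine ⟨r * y, ?_⟩
    apply Subtype.ext
    obtain ⟨z, hz⟩ := x
    obtain ⟨x₀, s₀, rfl, hx₀⟩ := exists_rep_of_mem_soc 𝔭 z hz
    change Localization.mk r s • LocalizedModule.mk x₀ s₀ = (r * y) • LocalizedModule.mk x₀ s₀
    rw [LocalizedModule.mk_smul_mk, LocalizedModule.smul'_mk, LocalizedModule.mk_eq]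
    refine ⟨1, ?_⟩
    simp only [one_smul]
    change (s₀ : R) • r • x₀ = ((s : R) * (s₀ : R)) • (r * y) • x₀
    have h1 : x₀ = (y * (s : R)) • x₀ := by
      have : x₀ = (y * (s : R) + i) • x₀ := by rw [hyi, one_smul]
      conv_lhs => rw [this, add_smul, hx₀ i hi, add_zero]
    conv_lhs => rw [h1]
    simp only [← mul_smul]
    congr 1
    ring

/-- **the length of the socle of the localisation at a maximal ideal is the length of the
socle.** -/
theorem length_soc_eq :
    Module.length (Localization.AtPrime 𝔭) (soc 𝔭 N) = Module.length R (tor 𝔭 N) := by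
  rw [← length_eq_of_forall_smul (A := R) (B := Localization.AtPrime 𝔭) (M := soc 𝔭 N)
    (exists_smul_eq 𝔭 N)]
  exact (socEquiv 𝔭 N).symm.length_eq

/-- **the zeroth Bass number at a maximal ideal is the length of the socle.** -/
theorem bassNum_zero_eq_length_tor :
    GrLC.bassNum 𝔭 N 0 = Module.length R (tor 𝔭 N) := by
  rw [bassNum_zero_eq, length_soc_eq]

end soc

end Groth.Agent.Lib.Helper20.SocleLen
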