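import Mathlib
import Groth.Prelude.Def_GrLC
import Groth.Prelude.Def_GrLC2
import Groth.Agent.Lib.Helper20.GrVerGor
import Groth.Agent.Lib.Helper20.GrVerSoc
import Groth.Agent.Lib.Helper20.SocleLen

/-!
# The type of a Veronese subring of a standard graded Gorenstein ring (helper20)
-/

set_option autoImplicit false
set_option linter.unusedSectionVars false
set_option linter.unusedVariables false
set_option linter.style.haveILetI false

universe u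

open DirectSum GrLC Groth.Agent.Lib.Helper20.GrLCBasic Groth.Agent.Lib.Helper20.GrLCQuot
  Groth.Agent.Lib.Helper20.GrVeronese Groth.Agent.Lib.Helper20.GrVerRing
  Groth.Agent.Lib.Helper20.GrFieldLocal Groth.Agent.Lib.Helper20.GrVerTop
  Groth.Agent.Lib.Helper20.GrVerHull Groth.Agent.Lib.Helper20.GrHullDual
  Groth.Agent.Lib.Helper20.GrVerGor Groth.Agent.Lib.Helper20.GrVerSoc
  Groth.Agent.Lib.Helper20.GrExtGraded Groth.Agent.Lib.Helper20.SocleLen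
  Groth.Agent.Lib.Helper20.GrStarLocalBass Groth.Agent.Lib.Helper20.GrConcentrated

namespace Groth.Agent.Lib.Helper20.GrVerType

section field

variable {R : Type u} [CommRing R] (𝒜 : ℤ → AddSubgroup R) [GradedRing 𝒜]
  (hpos : ∀ n : ℤ, n < 0 → 𝒜 n = ⊥) (h0 : IsField (GrLC.deg0 𝒜))
  (m : HomogeneousIdeal 𝒜)
  (hmsp : m.toIdeal = Ideal.span (⋃ n ∈ Set.Ioi (0 : ℤ), (𝒜 n : Set R)))

include hpos h0 hmsp in
/-- on an element killed by the irrelevant ideal every ring element acts through its degree-zero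
component. -/
theorem smul_eq_decompose_zero_smul {M : Type u} [AddCommGroup M] [Module R M] (x : M)
    (hx : ∀ r ∈ m.toIdeal, r • x = 0) (c : R) :
    c • x = ((decompose 𝒜 c 0 : 𝒜 0) : R) • x := by
  have hm' := Groth.Agent.Lib.Helper20.GrArtin.sub_decompose_zero_mem 𝒜 hpos m
    (isStarLocal 𝒜 hpos h0 m hmsp).1 c
  have h2 := hx _ hm'
  rw [sub_smul, sub_eq_zero] at h2
  exact h2

include hpos h0 hmsp in
/-- for a module killed by the irrelevant ideal, the length over `R` is the length over `R_0`. -/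
theorem length_eq_length_deg0 (M : Type u) [AddCommGroup M] [Module R M]
    (hM : ∀ r ∈ m.toIdeal, ∀ x : M, r • x = 0) :
    Module.length R M = Module.length (deg0 𝒜) M := by
  symm
  apply length_eq_of_forall_smul (A := deg0 𝒜) (B := R) (M := M)
  intro b x
  refine ⟨⟨((decompose 𝒜 b 0 : 𝒜 0) : R), SetLike.coe_mem _⟩, ?_⟩
  exact smul_eq_decompose_zero_smul 𝒜 hpos h0 m hmsp x (fun r hr => hM r hr x) b

end field

section socH

variable {R : Type u} [CommRing R] [IsNoetherianRing R] (𝒜 : ℤ → AddSubgroup R) [GradedRing 𝒜]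
  (hpos : ∀ n : ℤ, n < 0 → 𝒜 n = ⊥) (h0 : IsField (GrLC.deg0 𝒜))
  (m : HomogeneousIdeal 𝒜)
  (hmsp : m.toIdeal = Ideal.span (⋃ n ∈ Set.Ioi (0 : ℤ), (𝒜 n : Set R)))
  {M : Type u} [AddCommGroup M] [Module R M] {ℳ : ℤ → AddSubgroup M}
  [DirectSum.Decomposition ℳ] [SetLike.GradedSMul 𝒜 ℳ] (E : GrLC.StarInjRes 𝒜 ℳ)
  (hmin0 : ∀ P : Submodule R (E.X 0).carrier, P.IsHomogeneous (E.X 0).gr → P ≠ ⊥ →
    P ⊓ LinearMap.range E.ε ≠ ⊥)
  (hmin : ∀ (n : ℕ) (P : Submodule R (E.X (n + 1)).carrier), P.IsHomogeneous (E.X (n + 1)).gr →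
    P ≠ ⊥ → P ⊓ LinearMap.range (E.d n) ≠ ⊥)
  (n : ℕ) (hlo : ∀ k, k + 1 = n → GrLC.gam m.toIdeal (E.X k).carrier = ⊥)

include hpos h0 hmsp hmin0 hmin in
/-- socle elements of a term of a minimal resolution are cocycles. -/
theorem mem_cocyc_of_mem_tor (x : (E.X n).carrier) (hx : x ∈ tor m.toIdeal (E.X n).carrier) :
    x ∈ E.cocyc m n := by
  refine ⟨⟨1, fun r hr => hx r (by rwa [pow_one] at hr)⟩, ?_⟩
  by_cases hx0 : x = 0
  · rw [hx0]
    exact zero_mem _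
  obtain ⟨c, hc0, hc⟩ := exists_smul_mem_Zs 𝒜 E hmin0 hmin n x hx0
  rw [smul_eq_decompose_zero_smul 𝒜 hpos h0 m hmsp x hx c] at hc0 hc
  have hcne : (⟨((decompose 𝒜 c 0 : 𝒜 0) : R), SetLike.coe_mem _⟩ : deg0 𝒜) ≠ 0 := by
    intro h
    apply hc0
    have : ((decompose 𝒜 c 0 : 𝒜 0) : R) = 0 := congrArg Subtype.val h
    rw [this, zero_smul]
  obtain ⟨b, hb⟩ := h0.mul_inv_cancel hcne
  have hb' : ((decompose 𝒜 c 0 : 𝒜 0) : R) * (b : R) = 1 := congrArg Subtype.val hb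
  have : x = (b : R) • (((decompose 𝒜 c 0 : 𝒜 0) : R) • x) := by
    rw [← mul_smul, mul_comm, hb', one_smul]
  rw [this]
  exact Submodule.smul_mem _ _ hc

include hlo in
theorem toH_injective : Function.Injective (E.toH m n) := by
  rw [← LinearMap.ker_eq_bot, Submodule.ker_mkQ,
    Groth.Agent.Lib.Helper20.GrGorTop.cobdy_eq E m n hlo, Submodule.comap_bot,
    Submodule.ker_subtype]

include hpos h0 hmsp hmin0 hmin hlo in
/-- **the socle of `H^n_m` computed from a minimal resolution is the socle of the `n`-th term**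
(when `Γ_m` of the previous term vanishes). -/
theorem length_tor_H :
    Module.length R (tor m.toIdeal (E.X n).carrier) = Module.length R (tor m.toIdeal (E.H m n)) := by
  let S₁ : tor m.toIdeal (E.X n).carrier →ₗ[R] tor m.toIdeal (E.H m n) :=
    { toFun := fun x => ⟨E.toH m n ⟨x.1, mem_cocyc_of_mem_tor 𝒜 hpos h0 m hmsp E hmin0 hmin n x.1 x.2⟩,
        fun r hr => by
          rw [← map_smul]
          have : r • (⟨x.1, mem_cocyc_of_mem_tor 𝒜 hpos h0 m hmsp E hmin0 hmin n x.1 x.2⟩ :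
              E.cocyc m n) = 0 := Subtype.ext (x.2 r hr)
          rw [this, map_zero]⟩
      map_add' := fun x y => Subtype.ext (by
        change E.toH m n _ = E.toH m n _ + E.toH m n _
        rw [← map_add]
        rfl)
      map_smul' := fun r x => Subtype.ext (by
        change E.toH m n _ = r • E.toH m n _
        rw [← map_smul]
        rfl) }
  have hinj := toH_injective 𝒜 m E n hlo
  have hS : Function.Bijective S₁ := by
    constructor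
    · intro x y hxy
      have h1 := hinj (congrArg Subtype.val hxy)
      have h2 : (x : (E.X n).carrier) = y := Subtype.mk.inj h1
      exact Subtype.ext h2
    · rintro ⟨y, hy⟩
      obtain ⟨z, rfl⟩ := Submodule.Quotient.mk_surjective _ y
      have hz : z.1 ∈ tor m.toIdeal (E.X n).carrier := by
        intro r hr
        have h1 : E.toH m n (r • z) = 0 := by
          rw [map_smul]
          exact hy r hr
        have h2 : r • z = 0 := hinj (h1.trans (map_zero _).symm)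
        exact congrArg Subtype.val h2
      exact ⟨⟨z.1, hz⟩, rfl⟩
  exact (LinearEquiv.ofBijective S₁ hS).length_eq

end socH

section rank

variable {R : Type u} [CommRing R] [IsNoetherianRing R] (𝒜 : ℤ → AddSubgroup R)
  [GradedRing 𝒜]
  {E' : Type u} [AddCommGroup E'] [Module R E'] (𝓔 : ℤ → AddSubgroup E')
  [DirectSum.Decomposition 𝓔] [SetLike.GradedSMul 𝒜 𝓔]
  (q : ℕ) {R' : Type u} [CommRing R'] (𝒜' : ℤ → AddSubgroup R') [GradedRing 𝒜']
  (φ : R' →+* R) (hφ : Function.Injective φ)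
  (hdeg : ∀ j : ℤ, (𝒜' j).map (φ : R' →+ R) = 𝒜 (j * q))
  {H' : Type u} [AddCommGroup H'] [Module R' H'] (ℋ : ℤ → AddSubgroup H')
  [DirectSum.Decomposition ℋ] [SetLike.GradedSMul 𝒜' ℋ]
  (g₀ : ℤ) (Ψ : E' →+ H')
  (hΨ1 : ∀ (r : R') (y : E'), Ψ (φ r • y) = r • Ψ y)
  (hΨ2 : ∀ (j : ℤ) (y : E'), y ∈ 𝓔 (j * q + g₀) → Ψ y ∈ ℋ j)
  (hΨ3 : ∀ (j : ℤ) (y : E'), y ∈ 𝓔 (j * q + g₀) → Ψ y = 0 → y = 0)
  (hΨ4 : ∀ (j : ℤ) (x : H'), x ∈ ℋ j → ∃ y ∈ 𝓔 (j * q + g₀), Ψ y = x)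

include hφ hdeg hΨ1 hΨ2 hΨ3 hΨ4 in
/-- the pieces of `H'` have the ranks of the corresponding pieces of the envelope. -/
theorem rank_piece (j : ℤ) :
    Module.rank (deg0 𝒜') (comp 𝒜' ℋ j) = Module.rank (deg0 𝒜) (comp 𝒜 𝓔 (j * q + g₀)) := by
  let T : comp 𝒜 𝓔 (j * q + g₀) →+ comp 𝒜' ℋ j :=
    { toFun := fun y => ⟨Ψ y.1, hΨ2 j y.1 y.2⟩
      map_zero' := Subtype.ext (map_zero Ψ)
      map_add' := fun x y => Subtype.ext (map_add Ψ x.1 y.1) }
  have hT : Function.Bijective T := by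
    constructor
    · rw [injective_iff_map_eq_zero]
      intro y hy
      apply Subtype.ext
      exact hΨ3 j y.1 y.2 (congrArg Subtype.val hy)
    · rintro ⟨x, hx⟩
      obtain ⟨y, hy, hyx⟩ := hΨ4 j x hx
      exact ⟨⟨y, hy⟩, Subtype.ext hyx⟩
  let Te := AddEquiv.ofBijective T hT
  have hTsmul : ∀ (r : deg0 𝒜') (y : comp 𝒜 𝓔 (j * q + g₀)),
      Te (i0 𝒜 𝒜' φ q hdeg r • y) = r • Te y := by
    intro r y
    apply Subtype.ext
    exact hΨ1 (r : R') y.1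
  exact rank_eq_of_equiv_equiv (i0 𝒜 𝒜' φ q hdeg) Te.symm
    (i0_bijective 𝒜 𝒜' φ hφ q hdeg) (fun r y => by
    apply Te.injective
    rw [AddEquiv.apply_symm_apply, hTsmul, AddEquiv.apply_symm_apply])

end rank

set_option maxHeartbeats 1000000 in
/-- **the type of a Veronese subring of a standard graded Gorenstein ring.** -/
theorem bassNum_veronese (R : Type u) [CommRing R] [LocCoh.IsGorensteinRing R]
    (𝒜 : ℤ → AddSubgroup R) [GradedRing 𝒜] (hpos : ∀ n : ℤ, n < 0 → 𝒜 n = ⊥)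
    (h0 : IsField (GrLC.deg0 𝒜)) (m : HomogeneousIdeal 𝒜) (hm : GrLC.IsStarLocal 𝒜 m)
    (hmsp : m.toIdeal = Ideal.span (⋃ n ∈ Set.Ioi (0 : ℤ), (𝒜 n : Set R)))
    (hstd : Ideal.span (⋃ n ∈ Set.Ioi (0 : ℤ), (𝒜 n : Set R)) =
      Ideal.span ((𝒜 1 : AddSubgroup R) : Set R)) (n : ℕ) (hn : ringKrullDim R = n)
    (I : GrLC.StarInjRes 𝒜 𝒜) (a : ℤ)
    (ha : GrLC.endDeg (I.Hgr m n) = ((a : WithTop ℤ) : WithBot (WithTop ℤ))) (q : ℕ) (hq : 0 < q)
    (R' : Type u) [CommRing R'] (𝒜' : ℤ → AddSubgroup R') [GradedRing 𝒜'] (φ : R' →+* R)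
    (hφ : Function.Injective φ) (hdeg : ∀ j : ℤ, (𝒜' j).map (φ : R' →+ R) = 𝒜 (j * q))
    (m' : HomogeneousIdeal 𝒜') [m'.toIdeal.IsMaximal]
    (hm'sp : m'.toIdeal = Ideal.span (⋃ j ∈ Set.Ioi (0 : ℤ), (𝒜' j : Set R'))) (ρ : ℤ)
    (hρ0 : 0 ≤ ρ) (hρq : ρ < q) (hρa : (q : ℤ) ∣ a - ρ) :
    GrLC.bassNum m'.toIdeal R' n = (Module.finrank (GrLC.deg0 𝒜) (GrLC.comp 𝒜 𝒜 ρ) : ℕ∞) := by
  classical
  haveI : IsNoetherianRing R := inferInstance
  haveI : IsNoetherianRing R' := isNoetherianRing_veronese 𝒜 𝒜' φ q hdeg hφ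
  have hht : m.toIdeal.height = n := height_eq_of_dim 𝒜 hpos m hm n hn
  have hpos' := hpos' 𝒜 𝒜' φ hφ q hq hdeg hpos
  have h0' := isField_deg0' 𝒜 𝒜' φ hφ q hdeg h0
  have hm' : IsStarLocal 𝒜' m' := isStarLocal 𝒜' hpos' h0' m' hm'sp
  obtain ⟨F, hmin0, hmin⟩ := Groth.Agent.Lib.Helper20.GrMinRes.exists_minimal 𝒜' 𝒜'
  letI : DirectSum.Decomposition (GrLC.quotGr 𝒜 m) :=
    (isInternal_quotGr 𝒜 (m.toIdeal : Submodule R R) m.isHomogeneous).chooseDecomposition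
  letI : SetLike.GradedSMul 𝒜 (GrLC.quotGr 𝒜 m) :=
    quotGr_gradedSMul (𝒜 := 𝒜) (𝓧 := 𝒜) (P := (m.toIdeal : Submodule R R))
  obtain ⟨E', e, he⟩ := Groth.Agent.Lib.Helper20.GrLCHull.exists_starInjHull 𝒜 (GrLC.quotGr 𝒜 m)
  obtain ⟨g₀, Ψ, hend, hΨ1, hΨ2, hΨ3, hΨ4⟩ := exists_hull_comparison R 𝒜 hpos h0 m hm hmsp n hht
    I E'.gr e he q hq 𝒜' φ hφ hdeg m' hm'sp F
  have hag : a = -g₀ := by
    rw [ha] at hend
    exact_mod_cast hend
  obtain ⟨c, hc⟩ := hρa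
  have hcq : c * q + g₀ = -ρ := by
    have : g₀ = -a := by omega
    rw [this, mul_comm, ← hc]
    ring
  have hH : ∀ p, p ≠ n → Subsingleton (F.H m' p) := fun p hp =>
    subsingleton_H_veronese R 𝒜 m hm hmsp n hht I q hq 𝒜' φ hφ hdeg m' hm'sp F p hp
  have hlow := gam_eq_bot_below 𝒜' F hmin0 hmin m' n (fun i hi => hH i (ne_of_lt hi))
  have hlo : ∀ k, k + 1 = n → GrLC.gam m'.toIdeal (F.X k).carrier = ⊥ :=
    fun k hk => hlow k (by omega)
  letI := Groth.Agent.Lib.Helper20.GrLES2.decH F m' n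
  letI : Field (deg0 𝒜') := h0'.toField
  letI : Field (deg0 𝒜) := h0.toField
  haveI hfin : Module.Finite (deg0 𝒜) (comp 𝒜 E'.gr (-ρ)) :=
    finite_comp_neg 𝒜 E'.gr hpos h0 m hmsp e he ρ
  have hrk := rank_piece 𝒜 E'.gr q 𝒜' φ hφ hdeg (F.Hgr m' n) g₀ Ψ hΨ1 hΨ2 hΨ3 hΨ4 c
  rw [hcq] at hrk
  haveI hfin' : Module.Finite (deg0 𝒜') (comp 𝒜' (F.Hgr m' n) c) := by
    rw [← Module.rank_lt_aleph0_iff, hrk, Module.rank_lt_aleph0_iff]
    exact hfin
  have hfr := finrank_piece 𝒜 E'.gr q 𝒜' φ hφ hdeg (F.Hgr m' n) g₀ Ψ hΨ1 hΨ2 hΨ3 hΨ4 c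
  rw [hcq, finrank_comp_neg 𝒜 E'.gr hpos h0 m hmsp e he ρ] at hfr
  rw [← bassNum_X_zero 𝒜' F hmin0 hmin m'.toIdeal m'.isHomogeneous n,
    bassNum_zero_eq_length_tor m'.toIdeal (F.X n).carrier,
    length_tor_H 𝒜' hpos' h0' m' hm'sp F hmin0 hmin n hlo,
    length_eq_length_deg0 𝒜' hpos' h0' m' hm'sp (↥(tor m'.toIdeal (F.H m' n)))
      (fun r hr x => Subtype.ext (x.2 r hr)),
    ← hfr, ← Module.length_eq_finrank]
  let T : tor m'.toIdeal (F.H m' n) ≃ₗ[deg0 𝒜'] comp 𝒜' (F.Hgr m' n) c :=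
    { toFun := fun x => ⟨x.1, (mem_tor_iff 𝒜 hpos m hmsp hstd E'.gr e he q hq 𝒜' φ hdeg m' hm'sp
        (F.Hgr m' n) g₀ Ψ hΨ1 hΨ2 hΨ3 hΨ4 c ρ hρ0 hρq hcq x.1).1 x.2⟩
      map_add' := fun x y => rfl
      map_smul' := fun r x => rfl
      invFun := fun y => ⟨y.1, (mem_tor_iff 𝒜 hpos m hmsp hstd E'.gr e he q hq 𝒜' φ hdeg m' hm'sp
        (F.Hgr m' n) g₀ Ψ hΨ1 hΨ2 hΨ3 hΨ4 c ρ hρ0 hρq hcq y.1).2 y.2⟩
      left_inv := fun x => rfl
      right_inv := fun y => rfl }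
  exact T.length_eq

end Groth.Agent.Lib.Helper20.GrVerType
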