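import Mathlib
import Groth.Prelude.Def_GrLC
import Groth.Prelude.Def_GrLC2
import Groth.Agent.Lib.Helper20.GrVerType
import Groth.Agent.Lib.Helper20.GrVerPull
import Groth.Agent.Lib.Helper20.GrWeightedPoly
import Groth.Agent.Lib.Helper20.GrWeightedCanon
import Groth.Agent.Lib.Helper20.GrAinvPoly3

/-!
# The type of a Veronese subring of a polynomial ring (helper20)
-/

set_option autoImplicit false
set_option linter.unusedSectionVars false
set_option linter.unusedVariables false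
set_option linter.style.haveILetI false

universe u

attribute [local instance] MvPolynomial.weightedGradedAlgebra

open DirectSum GrLC MvPolynomial Groth.Agent.Lib.Helper20.GrConv
  Groth.Agent.Lib.Helper20.GrWeightedPoly Groth.Agent.Lib.Helper20.GrVerPull
  Groth.Agent.Lib.Helper20.GrVerRing Groth.Agent.Lib.Helper20.GrFieldLocal

namespace Groth.Agent.Lib.Helper20.GrVerPoly

variable (k : Type u) [Field k] (s : ℕ)

/-- the constant weight one. -/
abbrev w1 : Fin s → ℤ := fun _ => 1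

theorem hw1 : ∀ i, 0 < w1 s i := fun _ => one_pos

theorem weight_w1 (d : Fin s →₀ ℕ) : Finsupp.weight (w1 s) d = (d.degree : ℤ) := by
  rw [Finsupp.weight_apply, Finsupp.degree_apply, Finsupp.sum, Nat.cast_sum]
  refine Finset.sum_congr rfl fun i _ => ?_
  simp

/-- the components for the `ℤ`-grading are the weighted homogeneous components. -/
theorem decompose_WA (p : MvPolynomial (Fin s) k) (i : ℤ) :
    ((decompose (WA k s (w1 s)) p i : WA k s (w1 s) i) : MvPolynomial (Fin s) k) =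
      weightedHomogeneousComponent (w1 s) i p := by
  rw [decompose_toAS]
  exact MvPolynomial.weightedDecomposition.decompose'_apply k (w1 s) p i

theorem weightedHomogeneousComponent_natCast (p : MvPolynomial (Fin s) k) (j : ℕ) :
    weightedHomogeneousComponent (w1 s) (j : ℤ) p = homogeneousComponent j p := by
  classical
  ext d
  rw [coeff_weightedHomogeneousComponent, coeff_homogeneousComponent, weight_w1]
  simp only [Nat.cast_inj]

theorem weightedHomogeneousComponent_neg (p : MvPolynomial (Fin s) k) (i : ℤ) (hi : i < 0) :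
    weightedHomogeneousComponent (w1 s) i p = 0 := by
  classical
  ext d
  rw [coeff_weightedHomogeneousComponent, weight_w1, coeff_zero, if_neg]
  omega

/-- translation of the range condition. -/
theorem range_iff (d : ℕ) (p : MvPolynomial (Fin s) k) :
    (∀ j : ℕ, ¬ d ∣ j → homogeneousComponent j p = 0) ↔
      ∀ i : ℤ, ¬ (d : ℤ) ∣ i →
        ((decompose (WA k s (w1 s)) p i : WA k s (w1 s) i) : MvPolynomial (Fin s) k) = 0 := by
  constructor
  · intro h i hi
    rw [decompose_WA]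
    rcases lt_or_ge i 0 with hneg | hnn
    · exact weightedHomogeneousComponent_neg k s p i hneg
    · obtain ⟨j, rfl⟩ := Int.eq_ofNat_of_zero_le hnn
      rw [weightedHomogeneousComponent_natCast]
      exact h j (fun hdvd => hi (Int.natCast_dvd_natCast.2 hdvd))
  · intro h j hj
    have := h (j : ℤ) (fun hdvd => hj (Int.natCast_dvd_natCast.1 hdvd))
    rwa [decompose_WA, weightedHomogeneousComponent_natCast] at this

/-- the dimension of a piece of the standard graded polynomial ring. -/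
theorem finrank_comp_WA (r' : ℕ) (ρ : ℕ) :
    Module.finrank (deg0 (WA k (r' + 1) (w1 (r' + 1))))
      (comp (WA k (r' + 1) (w1 (r' + 1))) (WA k (r' + 1) (w1 (r' + 1))) (ρ : ℤ)) =
      Nat.choose (r' + ρ) r' := by
  let i : k → deg0 (WA k (r' + 1) (w1 (r' + 1))) := fun c =>
    ⟨C c, C_mem_zero k (r' + 1) (w1 (r' + 1)) c⟩
  have hi : Function.Bijective i := by
    constructor
    · intro a b hab
      exact C_injective _ _ (congrArg Subtype.val hab)
    · rintro ⟨p, hp⟩
      refine ⟨coeff 0 p, Subtype.ext ?_⟩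
      exact (eq_C_of_mem_zero k (r' + 1) (w1 (r' + 1)) (hw1 (r' + 1)) hp).symm
  let j : ↥(GrSyz.stdGr k (Fin (r' + 1)) (ρ : ℤ)) ≃+
      ↥(comp (WA k (r' + 1) (w1 (r' + 1))) (WA k (r' + 1) (w1 (r' + 1))) (ρ : ℤ)) :=
    { toFun := fun x => ⟨x.1, x.2⟩
      invFun := fun y => ⟨y.1, y.2⟩
      left_inv := fun x => rfl
      right_inv := fun y => rfl
      map_add' := fun x y => rfl }
  have hrank := rank_eq_of_equiv_equiv i j hi (fun c x => by
    apply Subtype.ext
    change c • (x : MvPolynomial (Fin (r' + 1)) k) = C c * (x : MvPolynomial (Fin (r' + 1)) k)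
    rw [MvPolynomial.smul_eq_C_mul])
  have hlen := Groth.Agent.Lib.Helper20.GrAinvPoly3.length_stdGr k r' (ρ : ℤ)
  have hkk : Module.length k k = 1 := Module.length_eq_one k k
  rw [if_pos (Int.natCast_nonneg ρ), Int.toNat_natCast, hkk, mul_one,
    Module.length_eq_rank, Cardinal.toENat_eq_natCast] at hlen
  unfold Module.finrank
  rw [← hrank, hlen, Cardinal.toNat_natCast]

set_option maxHeartbeats 1000000 in
/-- **the type of the Veronese subring of a polynomial ring.** -/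
theorem bassNum_veronese_poly (k : Type u) [Field k] (s d : ℕ) (hs : 1 ≤ s) (hd : 1 ≤ d)
    (R' : Type u) [CommRing R'] (φ : R' →+* MvPolynomial (Fin s) k) (hφ : Function.Injective φ)
    (hrange : ∀ p : MvPolynomial (Fin s) k, p ∈ φ.range ↔
      ∀ j : ℕ, ¬ d ∣ j → MvPolynomial.homogeneousComponent j p = 0)
    (m' : Ideal R') [m'.IsMaximal]
    (hm' : m' = Ideal.comap φ
      (RingHom.ker (MvPolynomial.constantCoeff : MvPolynomial (Fin s) k →+* k)))
    (n : ℕ) (hsn : s ≤ n) (hdn : d ∣ n) (hmin : ∀ n' : ℕ, s ≤ n' → d ∣ n' → n ≤ n') :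
    GrLC.bassNum m' R' s = (Nat.choose (n - 1) (s - 1) : ℕ∞) := by
  classical
  obtain ⟨r', rfl⟩ : ∃ r', s = r' + 1 := ⟨s - 1, by omega⟩
  have hw := hw1 (r' + 1)
  have hpos := WA_neg k (r' + 1) (w1 (r' + 1)) hw
  have h0 := isField_deg0 k (r' + 1) (w1 (r' + 1)) hw
  have hrange' : ∀ p : MvPolynomial (Fin (r' + 1)) k, p ∈ φ.range ↔ ∀ i : ℤ, ¬ (d : ℤ) ∣ i →
      ((decompose (WA k (r' + 1) (w1 (r' + 1))) p i : WA k (r' + 1) (w1 (r' + 1)) i) :
        MvPolynomial (Fin (r' + 1)) k) = 0 :=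
    fun p => (hrange p).trans (range_iff k (r' + 1) d p)
  letI : GradedRing (VA (WA k (r' + 1) (w1 (r' + 1))) φ d) :=
    gradedRingVA (WA k (r' + 1) (w1 (r' + 1))) φ hφ d hd hrange'
  have hdeg := map_VA (WA k (r' + 1) (w1 (r' + 1))) φ d hrange'
  have hmsp : (mV (WA k (r' + 1) (w1 (r' + 1)))).toIdeal = Ideal.span (⋃ n ∈ Set.Ioi (0 : ℤ),
      (WA k (r' + 1) (w1 (r' + 1)) n : Set (MvPolynomial (Fin (r' + 1)) k))) := rfl
  have hm := isStarLocal (WA k (r' + 1) (w1 (r' + 1))) hpos h0 (mV (WA k (r' + 1) (w1 (r' + 1)))) hmsp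
  have hstd : Ideal.span (⋃ n ∈ Set.Ioi (0 : ℤ),
      (WA k (r' + 1) (w1 (r' + 1)) n : Set (MvPolynomial (Fin (r' + 1)) k))) =
      Ideal.span ((WA k (r' + 1) (w1 (r' + 1)) 1 : AddSubgroup (MvPolynomial (Fin (r' + 1)) k)) :
        Set (MvPolynomial (Fin (r' + 1)) k)) := by
    apply le_antisymm
    · rw [irrel_eq_span k (r' + 1) (w1 (r' + 1)) hw, Ideal.span_le]
      rintro _ ⟨i, rfl⟩
      exact Ideal.subset_span (X_mem k (r' + 1) (w1 (r' + 1)) i)
    · apply Ideal.span_mono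
      intro x hx
      simp only [Set.mem_iUnion, Set.mem_Ioi]
      exact ⟨1, one_pos, hx⟩
  have hpos' := hpos' (WA k (r' + 1) (w1 (r' + 1))) (VA (WA k (r' + 1) (w1 (r' + 1))) φ d) φ hφ d hd
    hdeg hpos
  have h0' := isField_deg0' (WA k (r' + 1) (w1 (r' + 1))) (VA (WA k (r' + 1) (w1 (r' + 1))) φ d) φ
    hφ d hdeg h0
  have hm'sp : (mV (VA (WA k (r' + 1) (w1 (r' + 1))) φ d)).toIdeal = Ideal.span
      (⋃ j ∈ Set.Ioi (0 : ℤ), (VA (WA k (r' + 1) (w1 (r' + 1))) φ d j : Set R')) := rfl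
  haveI hmax'' : (mV (VA (WA k (r' + 1) (w1 (r' + 1))) φ d)).toIdeal.IsMaximal :=
    isMaximal (VA (WA k (r' + 1) (w1 (r' + 1))) φ d) hpos' h0' _ hm'sp
  have hmm : m' = (mV (VA (WA k (r' + 1) (w1 (r' + 1))) φ d)).toIdeal := by
    symm
    apply hmax''.eq_of_le (Ideal.IsMaximal.ne_top inferInstance)
    rw [hm'sp, Ideal.span_le]
    intro x hx
    simp only [Set.mem_iUnion, Set.mem_Ioi] at hx
    obtain ⟨j, hj, hxj⟩ := hx
    rw [hm']
    change constantCoeff (φ x) = 0
    have hh : IsWeightedHomogeneous (w1 (r' + 1)) (φ x) (j * d) := hxj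
    rw [constantCoeff_eq]
    apply hh.coeff_eq_zero
    rw [map_zero]
    have : (0 : ℤ) < j * d := mul_pos hj (by exact_mod_cast hd)
    omega
  subst hmm
  obtain ⟨I, -, -⟩ := Groth.Agent.Lib.Helper20.GrMinRes.exists_minimal (WA k (r' + 1) (w1 (r' + 1)))
    (WA k (r' + 1) (w1 (r' + 1)))
  have ha := Groth.Agent.Lib.Helper20.GrWeightedCanon.endDeg_top k (r' + 1) (w1 (r' + 1)) hw
    (mV (WA k (r' + 1) (w1 (r' + 1)))) hm hmsp I
  have hsum : (Finset.univ : Finset (Fin (r' + 1))).sum (w1 (r' + 1)) = ((r' + 1 : ℕ) : ℤ) := by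
    simp [w1]
  rw [hsum] at ha
  have hρq : (((n - (r' + 1) : ℕ) : ℤ)) < d := by
    by_contra hge
    push Not at hge
    have hge' : d ≤ n - (r' + 1) := by exact_mod_cast hge
    have := hmin (n - d) (by omega) (Nat.dvd_sub hdn (dvd_refl d))
    omega
  have hρa : (d : ℤ) ∣ -((r' + 1 : ℕ) : ℤ) - ((n - (r' + 1) : ℕ) : ℤ) := by
    rw [Nat.cast_sub hsn]
    have : -((r' + 1 : ℕ) : ℤ) - ((n : ℤ) - ((r' + 1 : ℕ) : ℤ)) = -(n : ℤ) := by ring
    rw [this, dvd_neg]
    exact_mod_cast hdn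
  have hmain := Groth.Agent.Lib.Helper20.GrVerType.bassNum_veronese (MvPolynomial (Fin (r' + 1)) k)
    (WA k (r' + 1) (w1 (r' + 1))) hpos h0 (mV (WA k (r' + 1) (w1 (r' + 1)))) hm hmsp hstd (r' + 1)
    (ringKrullDim_eq k (r' + 1)) I (-((r' + 1 : ℕ) : ℤ)) ha d hd R'
    (VA (WA k (r' + 1) (w1 (r' + 1))) φ d) φ hφ hdeg (mV (VA (WA k (r' + 1) (w1 (r' + 1))) φ d))
    hm'sp ((n - (r' + 1) : ℕ) : ℤ) (Int.natCast_nonneg _) hρq hρa
  rw [hmain, finrank_comp_WA k r' (n - (r' + 1))]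
  congr 2
  omega

end Groth.Agent.Lib.Helper20.GrVerPoly
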