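import Groth.Agent.Lib.Helper20.LCWatts2
import Groth.Agent.Lib.Helper20.GrLES

/-!
# The multiplication maps `H^n(R) → H^n(M)` on graded local cohomology (helper20)
-/

set_option autoImplicit false
set_option linter.style.haveILetI false
set_option linter.unusedSectionVars false
set_option linter.unusedVariables false
set_option maxHeartbeats 400000

universe u

open CategoryTheory GrLC TensorProduct Groth.Agent.Lib.Helper4.LC Groth.Agent.Lib.Helper20.GrRes
  Groth.Agent.Lib.Helper20.GrLES Groth.Agent.Lib.Helper20.LCWatts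

namespace Groth.Agent.Lib.Helper20.GrWatts

variable {ι : Type} [AddCommGroup ι] [DecidableEq ι] {R : Type u} [CommRing R] [IsNoetherianRing R]
  {𝒜 : ι → AddSubgroup R} [GradedRing 𝒜]
  {𝒩 : ι → AddSubgroup R} [DirectSum.Decomposition 𝒩] [SetLike.GradedSMul 𝒜 𝒩]
  {M : Type u} [AddCommGroup M] [Module R M] {ℳ : ι → AddSubgroup M}
  [DirectSum.Decomposition ℳ] [SetLike.GradedSMul 𝒜 ℳ]
  (ER : StarInjRes 𝒜 𝒩) (EM : StarInjRes 𝒜 ℳ) (a : HomogeneousIdeal 𝒜) (n : ℕ)

/-- the map `x ↦ H^n(ρ_x)` on graded local cohomology. -/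
noncomputable def muG : M →ₗ[R] (ER.H a n →ₗ[R] EM.H a n) where
  toFun x := (cmpE EM a n).symm.toLinearMap ∘ₗ mu a.toIdeal n M x ∘ₗ (cmpE ER a n).toLinearMap
  map_add' x y := by
    apply LinearMap.ext
    intro h
    simp only [LinearMap.comp_apply, LinearMap.add_apply, map_add]
  map_smul' r x := by
    apply LinearMap.ext
    intro h
    simp only [LinearMap.comp_apply, LinearMap.smul_apply, map_smul, RingHom.id_apply]

lemma muG_apply (x : M) (h : ER.H a n) :
    muG ER EM a n x h = (cmpE EM a n).symm (mu a.toIdeal n M x (cmpE ER a n h)) := rfl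

/-- homogeneity. -/
theorem muG_mem {b : ι} {x : M} (hx : IsGrHomDeg 𝒩 ℳ (LinearMap.toSpanSingleton R M x) b)
    {e : ι} {h : ER.H a n} (hh : h ∈ ER.Hcomp a n e) :
    muG ER EM a n x h ∈ EM.Hcomp a n (e + b) := by
  have hg : IsGrHomDeg 𝒩 (EM.X 0).gr (EM.ε ∘ₗ LinearMap.toSpanSingleton R M x) b := by
    intro g m hm
    exact EM.ε_grHom _ _ (hx g m hm)
  have hdg : ∀ m, (toCx EM).d 0 ((EM.ε ∘ₗ LinearMap.toSpanSingleton R M x) m) = 0 := by
    intro m
    have : (EM.ε ∘ₗ LinearMap.toSpanSingleton R M x) m ∈ LinearMap.ker (EM.d 0) := by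
      rw [EM.exact_zero]
      exact ⟨_, rfl⟩
    exact this
  obtain ⟨l⟩ := exists_lift ER (toCx EM) (EM.ε ∘ₗ LinearMap.toSpanSingleton R M x) b hg hdg
  have h1 := cmpE_Hmap l a n h
  have h2 : muG ER EM a n x h = l.Hmap a n h := by
    rw [muG_apply, LinearEquiv.symm_apply_eq, h1]
    rfl
  rw [h2]
  exact l.Hmap_mem a n e h hh

/-- the induced map on the tensor product corresponds to `theta`. -/
theorem lift_muG (t : M ⊗[R] ER.H a n) :
    TensorProduct.lift (muG ER EM a n) t =
      (cmpE EM a n).symm (theta a.toIdeal n M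
        (LinearMap.lTensor M (cmpE ER a n).toLinearMap t)) := by
  induction t using TensorProduct.induction_on with
  | zero => simp
  | tmul x h => rfl
  | add s t hs ht => rw [map_add, hs, ht, map_add, map_add, map_add]

theorem lift_muG_bijective [Module.Finite R M]
    (hn : ringKrullDim R < ((n + 1 : ℕ) : WithBot ℕ∞)) :
    Function.Bijective (TensorProduct.lift (muG ER EM a n)) := by
  have h1 : (TensorProduct.lift (muG ER EM a n) : M ⊗[R] ER.H a n → EM.H a n) =
      (cmpE EM a n).symm ∘ theta a.toIdeal n M ∘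
        (TensorProduct.congr (LinearEquiv.refl R M) (cmpE ER a n)) := by
    funext t
    rw [lift_muG]
    simp only [Function.comp_apply]
    congr 2
  rw [h1]
  exact (cmpE EM a n).symm.bijective.comp
    ((theta_bijective a.toIdeal n hn M).comp (TensorProduct.congr _ _).bijective)

end Groth.Agent.Lib.Helper20.GrWatts
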