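import Groth.Agent.Lib.Helper29.GrDual
import Groth.Agent.Lib.Helper20.GrDual1

/-!
# Graded duals and `Hom`: the formal part of `(H^n(M))^* ≅ Hom(M, K_R)` (helper20)

If `μ : M → Hom_R(H_R, H_M)` is a graded family of maps inducing a bijection `M ⊗_R H_R → H_M`,
`K` is the graded dual of `H_R` and `D` the graded dual of `H_M`, then `D ≅ Hom_R(M, K)` as graded
modules.
-/

set_option autoImplicit false
set_option linter.style.haveILetI false
set_option linter.unusedSectionVars false
set_option linter.unusedVariables false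
set_option maxHeartbeats 400000

universe u

open TensorProduct DirectSum GrLC

namespace Groth.Agent.Lib.Helper20.GrWatts

open Groth.Agent.Lib.Helper29.GrDual (left_ext left_nondeg exists_of_vanish mem_of_vanish)

section glue

variable {k : Type u} [Field k] {R : Type u} [CommRing R] [Algebra k R]
  {M : Type u} [AddCommGroup M] [Module R M] [Module k M] [IsScalarTower k R M]
  (ℳ : ℤ → AddSubgroup M) [DirectSum.Decomposition ℳ]
  {HR : Type u} [AddCommGroup HR] [Module R HR] [Module k HR] [IsScalarTower k R HR]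
  (ℋR : ℤ → AddSubgroup HR) [DirectSum.Decomposition ℋR]
  {HM : Type u} [AddCommGroup HM] [Module R HM] [Module k HM] [IsScalarTower k R HM]
  (ℋM : ℤ → AddSubgroup HM) [DirectSum.Decomposition ℋM]
  {K : Type u} [AddCommGroup K] [Module R K] [Module k K] [IsScalarTower k R K]
  (𝒦 : ℤ → AddSubgroup K) [DirectSum.Decomposition 𝒦]
  {βK : K →ₗ[k] HR →ₗ[k] k} (hK : GrSeg.IsGDual R ℋR 𝒦 βK)
  {D : Type u} [AddCommGroup D] [Module R D] [Module k D] [IsScalarTower k R D]
  (𝒟 : ℤ → AddSubgroup D) [DirectSum.Decomposition 𝒟]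
  {βD : D →ₗ[k] HM →ₗ[k] k} (hD : GrSeg.IsGDual R ℋM 𝒟 βD)
  (μ : M →ₗ[R] HR →ₗ[R] HM)
  (hμdeg : ∀ (b : ℤ) (x : M), x ∈ ℳ b → ∀ (e : ℤ) (h : HR), h ∈ ℋR e → μ x h ∈ ℋM (e + b))

/-- the functional `h ↦ β_D(d, μ_x h)`. -/
noncomputable def G (βD : D →ₗ[k] HM →ₗ[k] k) (d : D) (x : M) : HR →ₗ[k] k :=
  (βD d) ∘ₗ ((μ x).restrictScalars k)

lemma G_apply (d : D) (x : M) (h : HR) : G μ βD d x h = βD d (μ x h) := rfl

include hK hD hμdeg in
theorem exists_kappa (d : D) (x : M) : ∃ κ : K, ∀ h : HR, βK κ h = βD d (μ x h) := by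
  classical
  induction d using DirectSum.Decomposition.inductionOn 𝒟 with
  | zero => exact ⟨0, fun h => by simp⟩
  | @homogeneous a d =>
    induction x using DirectSum.Decomposition.inductionOn ℳ with
    | zero => exact ⟨0, fun h => by simp⟩
    | @homogeneous b x =>
      obtain ⟨κ, -, hκ⟩ := exists_of_vanish hK (b + a) (G μ βD (d : D) (x : M)) (by
        intro m hm h hh
        rw [G_apply]
        refine hD.vanish a d d.2 (m + b) ?_ _ (hμdeg b x x.2 m h hh)
        intro hc
        apply hm
        omega)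
      exact ⟨κ, fun h => hκ h⟩
    | add x x' hx hx' =>
      obtain ⟨κ, hκ⟩ := hx
      obtain ⟨κ', hκ'⟩ := hx'
      refine ⟨κ + κ', fun h => ?_⟩
      rw [map_add, LinearMap.add_apply, hκ, hκ', map_add, LinearMap.add_apply, map_add]
  | add d d' hd hd' =>
    obtain ⟨κ, hκ⟩ := hd
    obtain ⟨κ', hκ'⟩ := hd'
    refine ⟨κ + κ', fun h => ?_⟩
    rw [map_add, LinearMap.add_apply, hκ, hκ', map_add, LinearMap.add_apply]

include hK hD hμdeg in
/-- the comparison map `D → Hom_R(M, K)`. -/
theorem exists_eps : ∃ ε : D →ₗ[R] (M →ₗ[R] K),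
    ∀ (d : D) (x : M) (h : HR), βK (ε d x) h = βD d (μ x h) := by
  classical
  choose e he using exists_kappa ℳ ℋR ℋM 𝒦 hK 𝒟 hD μ hμdeg
  have hadd : ∀ d x y, e d (x + y) = e d x + e d y := by
    intro d x y
    apply left_ext hK
    intro h
    have h1 : βD d (μ (x + y) h) = βD d (μ x h) + βD d (μ y h) := by
      rw [map_add, LinearMap.add_apply, map_add]
    rw [he, h1, map_add, LinearMap.add_apply, he, he]
  have hsmul : ∀ d (r : R) x, e d (r • x) = r • e d x := by
    intro d r x
    apply left_ext hK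
    intro h
    have h1 : μ (r • x) h = μ x (r • h) := by
      rw [map_smul, LinearMap.smul_apply, (μ x).map_smul]
    rw [he, hK.map_smul, he, h1]
  let inner : D → (M →ₗ[R] K) := fun d =>
    { toFun := e d
      map_add' := hadd d
      map_smul' := fun r x => by rw [RingHom.id_apply]; exact hsmul d r x }
  refine ⟨{ toFun := inner, map_add' := ?_, map_smul' := ?_ }, fun d x h => he d x h⟩
  · intro d d'
    apply LinearMap.ext
    intro x
    apply left_ext hK
    intro h
    change βK (e (d + d') x) h = βK (e d x + e d' x) h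
    have h1 : βD (d + d') (μ x h) = βD d (μ x h) + βD d' (μ x h) := by
      rw [map_add, LinearMap.add_apply]
    rw [he, h1, map_add, LinearMap.add_apply, he, he]
  · intro r d
    apply LinearMap.ext
    intro x
    apply left_ext hK
    intro h
    change βK (e (r • d) x) h = βK (r • e d x) h
    rw [he, hD.map_smul, hK.map_smul, he, (μ x).map_smul]

end glue

end Groth.Agent.Lib.Helper20.GrWatts
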