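import Groth.Agent.Lib.Helper20.GrWatts2

/-!
# Graded duals and `Hom`: bijectivity and gradedness of the comparison map (helper20)
-/

set_option autoImplicit false
set_option linter.style.haveILetI false
set_option linter.unusedSectionVars false
set_option linter.unusedVariables false
set_option maxHeartbeats 400000

universe u

open TensorProduct DirectSum GrLC

namespace Groth.Agent.Lib.Helper20.GrWatts

open Groth.Agent.Lib.Helper29.GrDual (left_ext left_nondeg exists_of_vanish mem_of_vanish)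

section glue

variable {k : Type u} [Field k] {R : Type u} [CommRing R] [Algebra k R]
  {M : Type u} [AddCommGroup M] [Module R M] [Module k M] [IsScalarTower k R M]
  (ℳ : ℤ → AddSubgroup M) [DirectSum.Decomposition ℳ]
  {HR : Type u} [AddCommGroup HR] [Module R HR] [Module k HR] [IsScalarTower k R HR]
  (ℋR : ℤ → AddSubgroup HR) [DirectSum.Decomposition ℋR]
  {HM : Type u} [AddCommGroup HM] [Module R HM] [Module k HM] [IsScalarTower k R HM]
  (ℋM : ℤ → AddSubgroup HM) [DirectSum.Decomposition ℋM]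
  {K : Type u} [AddCommGroup K] [Module R K] [Module k K] [IsScalarTower k R K]
  (𝒦 : ℤ → AddSubgroup K) [DirectSum.Decomposition 𝒦]
  {βK : K →ₗ[k] HR →ₗ[k] k} (hK : GrSeg.IsGDual R ℋR 𝒦 βK)
  {D : Type u} [AddCommGroup D] [Module R D] [Module k D] [IsScalarTower k R D]
  (𝒟 : ℤ → AddSubgroup D) [DirectSum.Decomposition 𝒟]
  {βD : D →ₗ[k] HM →ₗ[k] k} (hD : GrSeg.IsGDual R ℋM 𝒟 βD)
  (μ : M →ₗ[R] HR →ₗ[R] HM)
  (hμdeg : ∀ (b : ℤ) (x : M), x ∈ ℳ b → ∀ (e : ℤ) (h : HR), h ∈ ℋR e → μ x h ∈ ℋM (e + b))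
  (ε : D →ₗ[R] (M →ₗ[R] K))
  (hε : ∀ (d : D) (x : M) (h : HR), βK (ε d x) h = βD d (μ x h))

include hK hD hμdeg hε in
/-- gradedness. -/
theorem eps_mem {a : ℤ} {d : D} (hd : d ∈ 𝒟 a) {b : ℤ} {x : M} (hx : x ∈ ℳ b) :
    ε d x ∈ 𝒦 (b + a) := by
  apply mem_of_vanish hK
  intro m hm h hh
  rw [hε]
  refine hD.vanish a d hd (m + b) ?_ _ (hμdeg b x hx m h hh)
  intro hc
  apply hm
  omega

include hK hD hε in
/-- injectivity. -/
theorem eps_injective (hsurj : Function.Surjective (TensorProduct.lift μ)) :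
    Function.Injective ε := by
  rw [← LinearMap.ker_eq_bot, Submodule.eq_bot_iff]
  intro d hd
  rw [LinearMap.mem_ker] at hd
  apply left_nondeg hD
  intro z
  obtain ⟨t, rfl⟩ := hsurj z
  induction t using TensorProduct.induction_on with
  | zero => simp
  | tmul x h =>
    rw [TensorProduct.lift.tmul, ← hε, hd, LinearMap.zero_apply, map_zero, LinearMap.zero_apply]
  | add s t hs ht => rw [map_add, map_add, hs, ht, add_zero]

/-- the balanced pairing `(x, h) ↦ β_K(φ x, h)` on the tensor product. -/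
noncomputable def lam' (βK : K →ₗ[k] HR →ₗ[k] k) (hK : GrSeg.IsGDual R ℋR 𝒦 βK)
    (φ : M →ₗ[R] K) : M ⊗[R] HR →+ k :=
  TensorProduct.liftAddHom
    { toFun := fun x => (βK (φ x)).toAddMonoidHom
      map_zero' := by
        ext h
        simp
      map_add' := by
        intro x y
        ext h
        simp }
    (by
      intro r x h
      change βK (φ (r • x)) h = βK (φ x) (r • h)
      rw [map_smul, hK.map_smul])

lemma lam'_tmul (φ : M →ₗ[R] K) (x : M) (h : HR) :
    lam' ℋR 𝒦 βK hK φ (x ⊗ₜ h) = βK (φ x) h := rfl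

lemma lam'_smul (φ : M →ₗ[R] K) (c : k) (t : M ⊗[R] HR) :
    lam' ℋR 𝒦 βK hK φ (algebraMap k R c • t) = c • lam' ℋR 𝒦 βK hK φ t := by
  induction t using TensorProduct.induction_on with
  | zero => simp
  | tmul x h =>
    rw [TensorProduct.smul_tmul', lam'_tmul, lam'_tmul, map_smul, algebraMap_smul, map_smul,
      LinearMap.smul_apply]
  | add s t hs ht => rw [smul_add, map_add, hs, ht, map_add, smul_add]

/-- the functional on `H_M` attached to `φ : M → K`. -/
noncomputable def lam (hμ : Function.Bijective (TensorProduct.lift μ)) (φ : M →ₗ[R] K) :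
    HM →ₗ[k] k where
  toFun z := lam' ℋR 𝒦 βK hK φ ((LinearEquiv.ofBijective (TensorProduct.lift μ) hμ).symm z)
  map_add' z w := by rw [map_add, map_add]
  map_smul' c z := by
    rw [RingHom.id_apply, ← algebraMap_smul R c z, map_smul, lam'_smul]

lemma lam_mu (hμ : Function.Bijective (TensorProduct.lift μ)) (φ : M →ₗ[R] K) (x : M) (h : HR) :
    lam ℋR 𝒦 hK μ hμ φ (μ x h) = βK (φ x) h := by
  change lam' ℋR 𝒦 βK hK φ ((LinearEquiv.ofBijective (TensorProduct.lift μ) hμ).symm (μ x h)) = _
  have : (LinearEquiv.ofBijective (TensorProduct.lift μ) hμ).symm (μ x h) = x ⊗ₜ h := by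
    rw [LinearEquiv.symm_apply_eq]
    rfl
  rw [this, lam'_tmul]

include hK hD hμdeg hε in
/-- homogeneous maps are in the image. -/
theorem exists_eps_eq_of_homogeneous (hμ : Function.Bijective (TensorProduct.lift μ))
    (φ : M →ₗ[R] K) (a : ℤ) (hφ : IsGrHomDeg ℳ 𝒦 φ a) : ∃ d : D, ε d = φ := by
  classical
  obtain ⟨d, hd, hdl⟩ := hD.exists_eq a (lam ℋR 𝒦 hK μ hμ φ)
  refine ⟨d, ?_⟩
  apply LinearMap.ext
  intro x
  apply left_ext hK
  intro h
  rw [hε]
  induction x using DirectSum.Decomposition.inductionOn ℳ with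
  | zero => simp
  | @homogeneous b x =>
    induction h using DirectSum.Decomposition.inductionOn ℋR with
    | zero => simp
    | @homogeneous e h =>
      have hmem : μ (x : M) (h : HR) ∈ ℋM (e + b) := hμdeg b x x.2 e h h.2
      by_cases hc : e + b = -a
      · rw [hc] at hmem
        rw [hdl _ hmem, lam_mu]
      · rw [hD.vanish a d hd (e + b) hc _ hmem]
        symm
        refine hK.vanish (b + a) _ (hφ b x x.2) e ?_ h h.2
        intro hc'
        apply hc
        omega
    | add h h' hh hh' => rw [map_add, map_add, hh, hh', map_add]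
  | add x x' hx hx' =>
    rw [map_add, LinearMap.add_apply, map_add, hx, hx', map_add, map_add, LinearMap.add_apply]

end glue

end Groth.Agent.Lib.Helper20.GrWatts
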