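import Groth.Agent.Lib.Helper20.GrWatts1
import Groth.Agent.Lib.Helper20.GrWatts4
import Groth.Agent.Lib.Helper20.GrConv

/-!
# `(H^n_m(M))^* ≅ Hom_R(M, K_R)` (helper20)
-/

set_option autoImplicit false
set_option linter.style.haveILetI false
set_option linter.unusedSectionVars false
set_option linter.unusedVariables false
set_option maxHeartbeats 1000000

universe u

open TensorProduct DirectSum GrLC Groth.Agent.Lib.Helper20.GrConv

namespace Groth.Agent.Lib.Helper20.GrWatts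

theorem gradedDual_H_top (k : Type u) [Field k] (R : Type u) [CommRing R] [Algebra k R]
    (𝒜 : ℤ → Submodule k R) [GradedAlgebra 𝒜] [Algebra.FiniteType k R]
    (mR : HomogeneousIdeal 𝒜) (n : ℕ) (hn : ringKrullDim R = n) (I : GrLC.StarInjRes 𝒜 𝒜)
    [Module k (I.H mR n)] [IsScalarTower k R (I.H mR n)]
    [DirectSum.Decomposition (I.Hgr mR n)] (K : Type u) [AddCommGroup K] [Module R K] [Module k K]
    [IsScalarTower k R K] (𝒦 : ℤ → AddSubgroup K) [DirectSum.Decomposition 𝒦]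
    [SetLike.GradedSMul 𝒜 𝒦] (βK : K →ₗ[k] I.H mR n →ₗ[k] k)
    (hK : GrSeg.IsGDual R (I.Hgr mR n) 𝒦 βK) (M : Type u) [AddCommGroup M] [Module R M]
    [Module k M] [IsScalarTower k R M] (ℳ : ℤ → AddSubgroup M) [DirectSum.Decomposition ℳ]
    [SetLike.GradedSMul 𝒜 ℳ] [Module.Finite R M] (EM : GrLC.StarInjRes 𝒜 ℳ)
    [Module k (EM.H mR n)] [IsScalarTower k R (EM.H mR n)]
    [DirectSum.Decomposition (EM.Hgr mR n)] (D : Type u) [AddCommGroup D] [Module R D]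
    [Module k D] [IsScalarTower k R D] (𝒟 : ℤ → AddSubgroup D) [DirectSum.Decomposition 𝒟]
    [SetLike.GradedSMul 𝒜 𝒟] (βD : D →ₗ[k] EM.H mR n →ₗ[k] k)
    (hD : GrSeg.IsGDual R (EM.Hgr mR n) 𝒟 βD) :
    ∃ ε : D ≃ₗ[R] (M →ₗ[R] K),
      GrLC.IsGrHom 𝒟 (fun d : ℤ => (GrLC.homDeg 𝒜 ℳ 𝒦 d).toAddSubgroup) ε.toLinearMap := by
  classical
  haveI : IsNoetherianRing R := Algebra.FiniteType.isNoetherianRing k R
  let μ : M →ₗ[R] (I.H mR n →ₗ[R] EM.H mR n) :=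
    muG (resTo 𝒜 𝒜 I) (resTo 𝒜 ℳ EM) (idealTo 𝒜 mR) n
  have hμdeg : ∀ (b : ℤ) (x : M), x ∈ ℳ b → ∀ (e : ℤ) (h : I.H mR n), h ∈ I.Hgr mR n e →
      μ x h ∈ EM.Hgr mR n (e + b) := by
    intro b x hx e h hh
    have hx' : IsGrHomDeg (toAS 𝒜) (toAS ℳ) (LinearMap.toSpanSingleton R M x) b := by
      intro g r hr
      have := SetLike.GradedSMul.smul_mem (A := 𝒜) (B := ℳ) (show r ∈ 𝒜 g from hr) hx
      exact this
    exact muG_mem (resTo 𝒜 𝒜 I) (resTo 𝒜 ℳ EM) (idealTo 𝒜 mR) n hx' hh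
  have hμ : Function.Bijective (TensorProduct.lift μ) :=
    lift_muG_bijective (resTo 𝒜 𝒜 I) (resTo 𝒜 ℳ EM) (idealTo 𝒜 mR) n (by
      rw [hn]
      exact_mod_cast Nat.lt_succ_self n)
  haveI : SetLike.GradedSMul (toAS 𝒜) ℳ := gradedSMul_toAS 𝒜 ℳ
  haveI : SetLike.GradedSMul (toAS 𝒜) 𝒦 := gradedSMul_toAS 𝒜 𝒦
  obtain ⟨ε, hε⟩ := exists_equiv_hom (toAS 𝒜) ℳ (I.Hgr mR n) (EM.Hgr mR n) 𝒦 hK 𝒟 hD μ hμdeg hμ
  exact ⟨ε, fun a d hd => hε a d hd⟩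

end Groth.Agent.Lib.Helper20.GrWatts
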