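import Mathlib

/-!
# Graded algebras generated by finitely many homogeneous elements of positive degree

Helper lemmas (by helper20) for the ZeroCyc statements S13164, S13165, S13168.
-/

set_option autoImplicit false

namespace Groth.Agent.Lib.Helper20.Graded

open scoped BigOperators

variable {R A : Type*} [CommRing R] [CommRing A] [Algebra R A]
  (𝒜 : ℕ → Submodule R A) [GradedAlgebra 𝒜]
  {s : ℕ} (f : Fin s → A) (deg : Fin s → ℕ)

/-- the monomial `∏ f i ^ e i` is homogeneous of degree `∑ e i * deg i`. -/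
theorem monomial_mem (hf : ∀ i, f i ∈ 𝒜 (deg i)) (e : Fin s → ℕ) :
    ∏ i, f i ^ e i ∈ 𝒜 (∑ i, e i * deg i) := by
  have := SetLike.prod_pow_mem_graded 𝒜 deg f (F := Finset.univ) e (fun k _ => hf k)
  simpa [smul_eq_mul] using this

/-- Every homogeneous element of degree `m` is an `R`-linear combination of monomials
of degree `m` in the generators. -/
theorem mem_span_monomials (hf : ∀ i, f i ∈ 𝒜 (deg i))
    (hgen : Algebra.adjoin R (Set.range f) = ⊤) (m : ℕ) (a : A) (ha : a ∈ 𝒜 m) :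
    a ∈ Submodule.span R
      {x | ∃ e : Fin s → ℕ, ∑ i, e i * deg i = m ∧ x = ∏ i, f i ^ e i} := by
  classical
  have hmem : a ∈ Algebra.adjoin R (Set.range f) := hgen ▸ Algebra.mem_top
  rw [Algebra.adjoin_range_eq_range_aeval] at hmem
  obtain ⟨P, hP⟩ := hmem
  replace hP : MvPolynomial.aeval f P = a := hP
  subst hP
  have h1 : MvPolynomial.aeval f P = ∑ d ∈ P.support, (P.coeff d) • ∏ i, f i ^ d i := by
    rw [MvPolynomial.aeval_def, MvPolynomial.eval₂_eq']
    simp [Algebra.smul_def]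
  have h2 : MvPolynomial.aeval f P = GradedAlgebra.proj 𝒜 m (MvPolynomial.aeval f P) := by
    rw [GradedAlgebra.proj_apply, DirectSum.decompose_of_mem_same 𝒜 ha]
  rw [h2, h1, map_sum]
  refine Submodule.sum_mem _ fun d _ => ?_
  rw [map_smul]
  refine Submodule.smul_mem _ _ ?_
  have hd := monomial_mem 𝒜 f deg hf (fun i => d i)
  by_cases hdm : ∑ i, d i * deg i = m
  · rw [GradedAlgebra.proj_apply, DirectSum.decompose_of_mem_same 𝒜 (hdm ▸ hd)]
    exact Submodule.subset_span ⟨fun i => d i, hdm, rfl⟩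
  · rw [GradedAlgebra.proj_apply, DirectSum.decompose_of_mem_ne 𝒜 hd hdm]
    exact Submodule.zero_mem _

theorem lcm_pos (hdeg : ∀ i, 0 < deg i) : 0 < Finset.univ.lcm deg := by
  rw [Nat.pos_iff_ne_zero, Ne, Finset.lcm_eq_zero_iff]
  rintro ⟨i, _, hi⟩
  exact absurd hi (hdeg i).ne'

theorem deg_dvd_lcm (i : Fin s) : deg i ∣ Finset.univ.lcm deg :=
  Finset.dvd_lcm (Finset.mem_univ i)

/-- Pigeonhole: a monomial of degree `N + l` with `N ≥ (s-1)(l-1)` has some exponent
`e i ≥ l / deg i`. -/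
theorem exists_large_exponent (hdeg : ∀ i, 0 < deg i) (N : ℕ)
    (hN : (s - 1) * (Finset.univ.lcm deg - 1) ≤ N) (e : Fin s → ℕ)
    (he : ∑ i, e i * deg i = N + Finset.univ.lcm deg) :
    ∃ i, Finset.univ.lcm deg / deg i ≤ e i := by
  by_contra hcon
  push Not at hcon
  set l := Finset.univ.lcm deg with hl
  have hlpos : 0 < l := lcm_pos deg hdeg
  have hbound : ∀ i, e i * deg i ≤ l - 1 := by
    intro i
    have h1 : e i + 1 ≤ l / deg i := hcon i
    have h2 : (e i + 1) * deg i ≤ l := by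
      calc (e i + 1) * deg i ≤ (l / deg i) * deg i := Nat.mul_le_mul_right _ h1
        _ ≤ l := Nat.div_mul_le_self _ _
    have h3 := hdeg i
    have : e i * deg i + deg i ≤ l := by linarith [add_mul (e i) 1 (deg i)]
    omega
  have hsum : ∑ i, e i * deg i ≤ ∑ _i : Fin s, (l - 1) := Finset.sum_le_sum fun i _ => hbound i
  simp only [Finset.sum_const, Finset.card_univ, Fintype.card_fin, smul_eq_mul] at hsum
  rw [he] at hsum
  rcases Nat.eq_zero_or_pos s with hs | hs
  · subst hs; simp at hsum; omega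
  · have : s * (l - 1) = (s - 1) * (l - 1) + (l - 1) := by
      conv_lhs => rw [show s = (s - 1) + 1 by omega]
      ring
    omega

/-- graded multiplication gives `𝒜 n * 𝒜 m ≤ 𝒜 (n + m)`. -/
theorem mul_le (n m : ℕ) : 𝒜 n * 𝒜 m ≤ 𝒜 (n + m) :=
  Submodule.mul_le.2 fun _ ha _ hb => SetLike.mul_mem_graded ha hb

/-- `𝒜 (N + l) ≤ 𝒜 N * 𝒜 l` for `N ≥ (s-1)(l-1)`. -/
theorem le_mul_lcm (hdeg : ∀ i, 0 < deg i) (hf : ∀ i, f i ∈ 𝒜 (deg i))
    (hgen : Algebra.adjoin R (Set.range f) = ⊤) (N : ℕ)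
    (hN : (s - 1) * (Finset.univ.lcm deg - 1) ≤ N) :
    𝒜 (N + Finset.univ.lcm deg) ≤ 𝒜 N * 𝒜 (Finset.univ.lcm deg) := by
  classical
  intro a ha
  have hspan := mem_span_monomials 𝒜 f deg hf hgen _ a ha
  refine Submodule.span_le.2 ?_ hspan
  rintro x ⟨e, he, rfl⟩
  obtain ⟨i, hi⟩ := exists_large_exponent deg hdeg N hN e he
  set l := Finset.univ.lcm deg with hl
  set q := l / deg i with hq
  have hql : q * deg i = l := Nat.div_mul_cancel (deg_dvd_lcm deg i)
  -- split the monomial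
  set e' : Fin s → ℕ := Function.update e i (e i - q) with he'
  have hsplit : ∏ j, f j ^ e j = (∏ j, f j ^ e' j) * f i ^ q := by
    have : ∀ j, f j ^ e j = f j ^ e' j * (if j = i then f i ^ q else 1) := by
      intro j
      by_cases hj : j = i
      · subst hj
        simp only [he', Function.update_self, if_true]
        rw [← pow_add]; congr 1; omega
      · simp [he', hj]
    rw [Finset.prod_congr rfl fun j _ => this j, Finset.prod_mul_distrib]
    simp
  have hdeg' : ∑ j, e' j * deg j = N := by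
    have hsum : ∑ j, e j * deg j = ∑ j, e' j * deg j + q * deg i := by
      have : ∀ j, e j * deg j = e' j * deg j + (if j = i then q * deg i else 0) := by
        intro j
        by_cases hj : j = i
        · subst hj
          simp only [he', Function.update_self, if_true]
          rw [← add_mul]; congr 1; omega
        · simp [he', hj]
      rw [Finset.sum_congr rfl fun j _ => this j, Finset.sum_add_distrib]
      simp
    rw [he, hql] at hsum
    omega
  rw [hsplit]
  refine Submodule.mul_mem_mul ?_ ?_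
  · rw [← hdeg']; exact monomial_mem 𝒜 f deg hf e'
  · have := SetLike.pow_mem_graded (A := 𝒜) q (hf i)
    rwa [smul_eq_mul, hql] at this

/-- **S13164**: `𝒜 (N + l) = 𝒜 N * 𝒜 l` for `N ≥ (s-1)(l-1)`. -/
theorem eq_mul_lcm (hdeg : ∀ i, 0 < deg i) (hf : ∀ i, f i ∈ 𝒜 (deg i))
    (hgen : Algebra.adjoin R (Set.range f) = ⊤) (N : ℕ)
    (hN : (s - 1) * (Finset.univ.lcm deg - 1) ≤ N) :
    𝒜 (N + Finset.univ.lcm deg) = 𝒜 N * 𝒜 (Finset.univ.lcm deg) :=
  le_antisymm (le_mul_lcm 𝒜 f deg hdeg hf hgen N hN) (mul_le 𝒜 _ _)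

/-- Degree zero part is `1 = R · 1`. -/
theorem zero_eq_one (hdeg : ∀ i, 0 < deg i) (hf : ∀ i, f i ∈ 𝒜 (deg i))
    (hgen : Algebra.adjoin R (Set.range f) = ⊤) : 𝒜 0 = 1 := by
  apply le_antisymm
  · intro a ha
    have hspan := mem_span_monomials 𝒜 f deg hf hgen _ a ha
    refine Submodule.span_le.2 ?_ hspan
    rintro x ⟨e, he, rfl⟩
    have he0 : ∀ i, e i = 0 := by
      intro i
      have h := (Finset.sum_eq_zero_iff.1 he) i (Finset.mem_univ i)
      rcases Nat.mul_eq_zero.1 h with h | h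
      · exact h
      · exact absurd h (hdeg i).ne'
    simp only [he0, pow_zero, Finset.prod_const_one]
    exact Submodule.one_le.1 le_rfl
  · rw [Submodule.one_le]
    exact SetLike.GradedOne.one_mem

/-- `𝒜 (N + a l) = 𝒜 N * 𝒜 (a l)` for `N ≥ (s-1)(l-1)`. -/
theorem eq_mul_mul_lcm (hdeg : ∀ i, 0 < deg i) (hf : ∀ i, f i ∈ 𝒜 (deg i))
    (hgen : Algebra.adjoin R (Set.range f) = ⊤) (N : ℕ)
    (hN : (s - 1) * (Finset.univ.lcm deg - 1) ≤ N) (a : ℕ) :
    𝒜 (N + a * Finset.univ.lcm deg) = 𝒜 N * 𝒜 (a * Finset.univ.lcm deg) := by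
  induction a with
  | zero =>
    simp only [zero_mul, add_zero]
    rw [zero_eq_one 𝒜 f deg hdeg hf hgen, mul_one]
  | succ a ih =>
    apply le_antisymm _ (mul_le 𝒜 _ _)
    have h1 : N + (a + 1) * Finset.univ.lcm deg
        = (N + a * Finset.univ.lcm deg) + Finset.univ.lcm deg := by ring
    rw [h1, eq_mul_lcm 𝒜 f deg hdeg hf hgen _ (le_trans hN (Nat.le_add_right _ _)), ih,
      mul_assoc]
    refine mul_le_mul' le_rfl ?_
    rw [show (a + 1) * Finset.univ.lcm deg = a * Finset.univ.lcm deg + Finset.univ.lcm deg by ring]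
    exact mul_le 𝒜 _ _

/-- **S13165**. -/
theorem pow_eq (hdeg : ∀ i, 0 < deg i) (hf : ∀ i, f i ∈ 𝒜 (deg i))
    (hgen : Algebra.adjoin R (Set.range f) = ⊤) (a : ℕ) (ha : s - 1 ≤ a) (k : ℕ) :
    𝒜 (k * (a * Finset.univ.lcm deg)) = 𝒜 (a * Finset.univ.lcm deg) ^ k := by
  induction k with
  | zero =>
    simp only [zero_mul, pow_zero]
    exact zero_eq_one 𝒜 f deg hdeg hf hgen
  | succ k ih =>
    rw [pow_succ, ← ih]
    rcases Nat.eq_zero_or_pos k with hk | hk
    · subst hk
      simp only [zero_add, one_mul, zero_mul]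
      rw [zero_eq_one 𝒜 f deg hdeg hf hgen, one_mul]
    · rw [show (k + 1) * (a * Finset.univ.lcm deg)
          = k * (a * Finset.univ.lcm deg) + a * Finset.univ.lcm deg by ring]
      apply eq_mul_mul_lcm 𝒜 f deg hdeg hf hgen
      have hl := lcm_pos deg hdeg
      calc (s - 1) * (Finset.univ.lcm deg - 1) ≤ a * Finset.univ.lcm deg :=
            Nat.mul_le_mul ha (Nat.sub_le _ _)
        _ ≤ k * (a * Finset.univ.lcm deg) := Nat.le_mul_of_pos_left _ hk

/-- A homogeneous prime not containing the irrelevant ideal misses some generator. -/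
theorem exists_generator_notMem (hdeg : ∀ i, 0 < deg i) (hf : ∀ i, f i ∈ 𝒜 (deg i))
    (hgen : Algebra.adjoin R (Set.range f) = ⊤) (I : HomogeneousIdeal 𝒜)
    (hI : ¬ HomogeneousIdeal.irrelevant 𝒜 ≤ I) : ∃ i, f i ∉ I := by
  classical
  by_contra hcon
  push Not at hcon
  apply hI
  -- every positive-degree homogeneous element is in `I`
  have hpos : ∀ m, 0 < m → ∀ a ∈ 𝒜 m, a ∈ I.toIdeal := by
    intro m hm a ha
    have hspan := mem_span_monomials 𝒜 f deg hf hgen _ a ha
    have : Submodule.span R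
        {x | ∃ e : Fin s → ℕ, ∑ i, e i * deg i = m ∧ x = ∏ i, f i ^ e i}
        ≤ I.toIdeal.restrictScalars R := by
      refine Submodule.span_le.2 ?_
      rintro x ⟨e, he, rfl⟩
      have : ∃ i, e i ≠ 0 := by
        by_contra h
        push Not at h
        simp [h] at he
        omega
      obtain ⟨i, hi⟩ := this
      change ∏ j, f j ^ e j ∈ I.toIdeal
      rw [← Finset.mul_prod_erase Finset.univ _ (Finset.mem_univ i)]
      refine Ideal.mul_mem_right _ _ ?_
      exact Ideal.pow_mem_of_mem _ (hcon i) _ (Nat.pos_of_ne_zero hi)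
    exact this hspan
  intro b hb
  rw [← DirectSum.sum_support_decompose 𝒜 b]
  refine Ideal.sum_mem _ fun m _ => ?_
  rcases Nat.eq_zero_or_pos m with hm | hm
  · subst hm
    have : (DirectSum.decompose 𝒜 b 0 : A) = 0 := hb
    rw [this]; exact Ideal.zero_mem _
  · exact hpos m hm _ (SetLike.coe_mem _)

end Groth.Agent.Lib.Helper20.Graded
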