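import Mathlib

/-! Edge labellings of bipartite graphs with prescribed incidence sums (helper20). -/

namespace Groth.Agent.Lib.Helper20.GraphLab

open SimpleGraph

variable {V : Type*} [Fintype V] [DecidableEq V] (G : SimpleGraph V) [DecidableRel G.Adj]
variable (A : Type*) [AddCommGroup A]

/-- incidence sums as an additive map -/
def inc : (Sym2 V → A) →+ (V → A) where
  toFun x v := ∑ e ∈ G.incidenceFinset v, x e
  map_zero' := by ext v; simp
  map_add' x y := by ext v; simp [Finset.sum_add_distrib]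

lemma inc_apply (x : Sym2 V → A) (v : V) : inc G A x v = ∑ e ∈ G.incidenceFinset v, x e := rfl

/-- the sign of a colour -/
def eps (c : V → Bool) (v : V) : ℤ := if c v = true then 1 else -1

lemma eps_mul_self (c : V → Bool) (v : V) : eps c v * eps c v = 1 := by
  unfold eps; split_ifs <;> simp

lemma eps_add_of_ne {c : V → Bool} {v w : V} (h : c v ≠ c w) : eps c v + eps c w = 0 := by
  unfold eps; cases hv : c v <;> cases hw : c w <;> simp_all

lemma eps_mul_of_ne {c : V → Bool} {v w : V} (h : c v ≠ c w) : eps c w * eps c v = -1 := by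
  unfold eps; cases hv : c v <;> cases hw : c w <;> simp_all

lemma inc_single {v w : V} (h : G.Adj v w) (t : A) :
    inc G A (Pi.single s(v, w) t) = Pi.single v t + Pi.single w t := by
  ext u
  rw [inc_apply, Finset.sum_pi_single']
  simp only [mem_incidenceFinset, mk'_mem_incidenceSet_iff, h, true_and, Pi.add_apply,
    Pi.single_apply]
  have hne : v ≠ w := h.ne
  by_cases h1 : u = v
  · subst h1
    simp [hne]
  · by_cases h2 : u = w
    · subst h2
      simp [h1]
    · simp [h1, h2]

variable {G} in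
lemma exists_walk_lab (c : V → Bool) (hbip : ∀ v w : V, G.Adj v w → c v ≠ c w) {v w : V}
    (p : G.Walk v w) :
    ∃ ψ : A →+ (Sym2 V → A), (∀ t e, e ∉ p.edges → ψ t e = 0) ∧
      ∀ t, inc G A (ψ t) = Pi.single v (eps c v • t) - Pi.single w (eps c w • t) := by
  induction p with
  | nil => exact ⟨0, by simp, by simp⟩
  | @cons v u w h p ih =>
    obtain ⟨ψ, hψ1, hψ2⟩ := ih
    refine ⟨AddMonoidHom.mk' (fun t => Pi.single s(v, u) (eps c v • t) + ψ t) ?_, ?_, ?_⟩
    · intro a b
      rw [smul_add, Pi.single_add, map_add]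
      abel
    · intro t e he
      simp only [Walk.edges_cons, List.mem_cons, not_or] at he
      simp [hψ1 t e he.2, Pi.single_apply, he.1]
    · intro t
      simp only [AddMonoidHom.mk'_apply, map_add]
      rw [inc_single G A h, hψ2]
      have h2 : (Pi.single u (eps c v • t) + Pi.single u (eps c u • t) : V → A) = 0 := by
        rw [← Pi.single_add, ← add_smul, eps_add_of_ne (hbip v u h), zero_smul, Pi.single_zero]
      have aux : ∀ (x y z₁ z₂ : V → A), z₁ + z₂ = 0 → x + z₁ + (z₂ - y) = x - y := by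
        intro x y z₁ z₂ h
        rw [← add_zero (x - y), ← h]; abel
      exact aux _ _ _ _ h2

theorem exists_labelling (hconn : G.Connected) (c : V → Bool)
    (hbip : ∀ v w : V, G.Adj v w → c v ≠ c w) (a : V → A)
    (hsum : ∑ v ∈ Finset.univ.filter (fun v => c v = true), a v =
      ∑ v ∈ Finset.univ.filter (fun v => c v = false), a v) :
    ∃ x : Sym2 V → A, inc G A x = a := by
  obtain ⟨r⟩ := hconn.nonempty
  have hr : ∀ v t, (Pi.single r (eps c r • t) - Pi.single v (eps c v • t) : V → A) ∈
      (inc G A).range := by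
    intro v t
    obtain ⟨p⟩ := hconn.preconnected r v
    obtain ⟨ψ, -, hψ⟩ := exists_walk_lab A c hbip p
    exact ⟨ψ t, hψ t⟩
  have hz : ∑ v, eps c v • a v = 0 := by
    have : ∀ v, eps c v • a v = (if c v = true then a v else 0) - (if c v = false then a v else 0) := by
      intro v; unfold eps; cases c v <;> simp
    simp only [this, Finset.sum_sub_distrib, ← Finset.sum_filter]
    rw [hsum, sub_self]
  have h1 : ∑ v, (Pi.single r (eps c r • (eps c v • a v)) : V → A) = 0 := by
    have : ∑ v, (Pi.single r (eps c r • (eps c v • a v)) : V → A) =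
        Pi.single r (eps c r • ∑ v, eps c v • a v) := by
      rw [Finset.smul_sum]
      exact (map_sum (AddMonoidHom.single (fun _ : V => A) r) _ _).symm
    rw [this, hz, smul_zero, Pi.single_zero]
  have key : a = - ∑ v, ((Pi.single r (eps c r • (eps c v • a v)) : V → A) -
      Pi.single v (eps c v • (eps c v • a v))) := by
    rw [Finset.sum_sub_distrib, h1]
    simp only [smul_smul, eps_mul_self, one_smul]
    rw [Finset.univ_sum_single a]
    simp
  have : a ∈ (inc G A).range := by
    rw [key]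
    exact neg_mem (sum_mem fun v _ => hr v _)
  exact this

theorem exists_split (c : V → Bool)
    (hbip : ∀ v w : V, G.Adj v w → c v ≠ c w) (e₀ : Sym2 V)
    (he₀ : e₀ ∈ G.edgeSet) (hdel : (G.deleteEdges {e₀}).Connected) :
    ∃ φ : A →+ (Sym2 V → A),
      (∀ a : A, (∀ e : Sym2 V, e ∉ G.edgeSet → φ a e = 0) ∧ inc G A (φ a) = 0) ∧
      ∀ a : A, φ a e₀ = a := by
  induction e₀ using Sym2.ind with
  | _ v w =>
  have hadj : G.Adj v w := he₀
  obtain ⟨p'⟩ := hdel.preconnected v w
  have hp' : ∀ e ∈ p'.edges, e ∈ G.edgeSet ∧ e ≠ s(v, w) := by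
    intro e he
    have := p'.edges_subset_edgeSet he
    rw [edgeSet_deleteEdges] at this
    exact ⟨this.1, fun h => this.2 (by simpa using h)⟩
  obtain ⟨ψ, hψ1, hψ2⟩ := exists_walk_lab A c hbip (p'.transfer G (fun e he => (hp' e he).1))
  have he0 : s(v, w) ∉ (p'.transfer G (fun e he => (hp' e he).1)).edges := by
    rw [Walk.edges_transfer]; exact fun h => (hp' _ h).2 rfl
  refine ⟨AddMonoidHom.mk' (fun t => Pi.single s(v, w) t - ψ (eps c v • t)) ?_, ?_, ?_⟩
  · intro a b
    rw [smul_add, Pi.single_add, map_add]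
    abel
  · intro a
    refine ⟨fun e he => ?_, ?_⟩
    · have h1 : e ≠ s(v, w) := fun h => he (h ▸ he₀)
      have h2 : e ∉ (p'.transfer G (fun e he => (hp' e he).1)).edges :=
        fun h => he (Walk.edges_subset_edgeSet _ h)
      simp [Pi.single_apply, h1, hψ1 _ e h2]
    · simp only [AddMonoidHom.mk'_apply, map_sub]
      rw [inc_single G A hadj, hψ2, smul_smul, smul_smul, eps_mul_self,
        eps_mul_of_ne (hbip v w hadj), one_smul, neg_smul, one_smul, Pi.single_neg]
      abel
  · intro a
    simp [hψ1 _ _ he0]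

lemma pairing (π : V → ℤ) (x : Sym2 V → A) :
    ∑ u, π u • inc G A x u = ∑ e ∈ G.edgeFinset,
      (Sym2.lift ⟨fun a b => π a + π b, fun a b => add_comm _ _⟩ e) • x e := by
  classical
  simp only [inc_apply, Finset.smul_sum]
  have h1 : ∀ u, ∑ e ∈ G.incidenceFinset u, π u • x e =
      ∑ e ∈ G.edgeFinset, if u ∈ e then π u • x e else 0 := by
    intro u
    rw [← Finset.sum_filter]
    congr 1
    ext e
    simp [incidenceSet, mem_edgeFinset]
  simp_rw [h1]
  rw [Finset.sum_comm]
  refine Finset.sum_congr rfl fun e he => ?_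
  induction e using Sym2.ind with
  | _ a b =>
  have hab : a ≠ b := (mem_edgeFinset.mp he : G.Adj a b).ne
  simp only [Sym2.mem_iff, Sym2.lift_mk]
  have : ∀ u, (if u = a ∨ u = b then π u • x s(a, b) else 0) =
      (if u = a then π a • x s(a, b) else 0) + (if u = b then π b • x s(a, b) else 0) := by
    intro u
    by_cases h1 : u = a
    · have h2 : u ≠ b := fun h2 => hab (h1.symm.trans h2)
      simp [h1, hab]
    · by_cases h2 : u = b
      · simp [h2, hab.symm]
      · simp [h1, h2]
  simp_rw [this, Finset.sum_add_distrib, Finset.sum_ite_eq', Finset.mem_univ, if_true, add_smul]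

variable {G} in
lemma eq_zero_of_acyclic (c : V → Bool) (hbip : ∀ v w : V, G.Adj v w → c v ≠ c w)
    (T : SimpleGraph V) (hTG : T ≤ G) (hT : T.IsAcyclic)
    (x : Sym2 V → A) (hx : ∀ e, e ∉ T.edgeSet → x e = 0) (hinc : inc G A x = 0) : x = 0 := by
  classical
  funext e
  by_cases he : e ∈ T.edgeSet
  swap
  · exact hx e he
  induction e using Sym2.ind with
  | _ v w =>
  have hbr : T.IsBridge s(v, w) := (isAcyclic_iff_forall_isBridge.mp hT) he
  rw [isBridge_iff] at hbr
  have h0 : ∑ u, (if (T.deleteEdges {s(v, w)}).Reachable v u then eps c u else 0) •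
      inc G A x u = 0 := by simp [hinc]
  rw [pairing] at h0
  rw [Finset.sum_eq_single_of_mem s(v, w) (mem_edgeFinset.mpr (edgeSet_mono hTG he))] at h0
  · simp only [Sym2.lift_mk] at h0
    rw [if_pos (Reachable.refl _), if_neg hbr, add_zero] at h0
    have := congrArg (fun t => eps c v • t) h0
    simpa [smul_smul, eps_mul_self] using this
  · intro e' he' hne
    by_cases heT : e' ∈ T.edgeSet
    · induction e' using Sym2.ind with
      | _ a b =>
      have hadjT' : (T.deleteEdges {s(v, w)}).Adj a b := by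
        rw [deleteEdges_adj]; exact ⟨heT, by simpa using hne⟩
      have hreach : (T.deleteEdges {s(v, w)}).Reachable v a ↔
          (T.deleteEdges {s(v, w)}).Reachable v b :=
        ⟨fun h => h.trans hadjT'.reachable, fun h => h.trans hadjT'.symm.reachable⟩
      have hadjG : G.Adj a b := hTG heT
      simp only [Sym2.lift_mk]
      by_cases hr : (T.deleteEdges {s(v, w)}).Reachable v a
      · rw [if_pos hr, if_pos (hreach.mp hr), eps_add_of_ne (hbip a b hadjG), zero_smul]
      · rw [if_neg hr, if_neg (fun h => hr (hreach.mpr h)), add_zero, zero_smul]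
    · rw [hx e' heT, smul_zero]

variable {G} in
lemma exists_cycle_lab (c : V → Bool) (hbip : ∀ v w : V, G.Adj v w → c v ≠ c w) {v w : V}
    (hadj : G.Adj v w) (p : G.Walk v w) (hp : s(v, w) ∉ p.edges) :
    ∃ φ : A →+ (Sym2 V → A), (∀ a e, e ∉ p.edges → e ≠ s(v, w) → φ a e = 0) ∧
      (∀ a, inc G A (φ a) = 0) ∧ ∀ a, φ a s(v, w) = a := by
  obtain ⟨ψ, hψ1, hψ2⟩ := exists_walk_lab A c hbip p
  refine ⟨AddMonoidHom.mk' (fun t => Pi.single s(v, w) t - ψ (eps c v • t)) ?_, ?_, ?_, ?_⟩
  · intro a b
    rw [smul_add, Pi.single_add, map_add]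
    abel
  · intro a e he hne
    simp [Pi.single_apply, hne, hψ1 _ e he]
  · intro a
    simp only [AddMonoidHom.mk'_apply, map_sub]
    rw [inc_single G A hadj, hψ2, smul_smul, smul_smul, eps_mul_self,
      eps_mul_of_ne (hbip v w hadj), one_smul, neg_smul, one_smul, Pi.single_neg]
    abel
  · intro a
    simp [hψ1 _ _ hp]

theorem exists_cycle_basis (hconn : G.Connected) (c : V → Bool)
    (hbip : ∀ v w : V, G.Adj v w → c v ≠ c w) (n : ℕ)
    (hn : G.edgeFinset.card + 1 = Fintype.card V + n) :
    ∃ f : (Fin n → A) →+ (Sym2 V → A), Function.Injective f ∧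
      Set.range f = {x : Sym2 V → A | (∀ e : Sym2 V, e ∉ G.edgeSet → x e = 0) ∧
        inc G A x = 0} := by
  classical
  obtain ⟨T, hTG, hT⟩ := hconn.exists_isTree_le
  have hcardT : (G.edgeFinset.filter (fun e => e ∈ T.edgeSet)).card + 1 = Fintype.card V := by
    have h1 : G.edgeFinset.filter (fun e => e ∈ T.edgeSet) = T.edgeFinset := by
      ext e
      simp only [Finset.mem_filter, mem_edgeFinset]
      exact ⟨fun h => h.2, fun h => ⟨edgeSet_mono hTG h, h⟩⟩
    rw [h1]; exact hT.card_edgeFinset
  have hN : (G.edgeFinset.filter (fun e => e ∉ T.edgeSet)).card = n := by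
    have := Finset.card_filter_add_card_filter_not (s := G.edgeFinset) (fun e => e ∈ T.edgeSet)
    omega
  let σ : (G.edgeFinset.filter (fun e => e ∉ T.edgeSet)) ≃ Fin n := Finset.equivFinOfCardEq hN
  have hφ : ∀ e : (G.edgeFinset.filter (fun e => e ∉ T.edgeSet)),
      ∃ φ : A →+ (Sym2 V → A), (∀ a e', e' ∉ T.edgeSet → e' ≠ e.1 → φ a e' = 0) ∧
        (∀ a, inc G A (φ a) = 0) ∧ ∀ a, φ a e.1 = a := by
    rintro ⟨e, he⟩
    have he' := Finset.mem_filter.mp he
    induction e using Sym2.ind with
    | _ v w =>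
    have hadj : G.Adj v w := mem_edgeFinset.mp he'.1
    obtain ⟨p₀⟩ := hT.connected.preconnected v w
    have hp₀ : ∀ e' ∈ p₀.edges, e' ∈ T.edgeSet := fun e' h => p₀.edges_subset_edgeSet h
    obtain ⟨φ, h1, h2, h3⟩ := exists_cycle_lab A c hbip hadj
      (p₀.transfer G (fun e' h => edgeSet_mono hTG (hp₀ e' h)))
      (by rw [Walk.edges_transfer]; exact fun h => he'.2 (hp₀ _ h))
    exact ⟨φ, fun a e' he'T hne =>
      h1 a e' (by rw [Walk.edges_transfer]; exact fun h => he'T (hp₀ _ h)) hne, h2, h3⟩
  choose φ hφ1 hφ2 hφ3 using hφ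
  let f : (Fin n → A) →+ (Sym2 V → A) :=
    ∑ i : Fin n, (φ (σ.symm i)).comp (Pi.evalAddMonoidHom (fun _ => A) i)
  have hf : ∀ a, f a = ∑ i, φ (σ.symm i) (a i) := by
    intro a
    simp [f, AddMonoidHom.finset_sum_apply]
  have hfe : ∀ a (j : Fin n), f a (σ.symm j).1 = a j := by
    intro a j
    rw [hf, Finset.sum_apply, Finset.sum_eq_single j]
    · exact hφ3 _ _
    · intro i _ hij
      apply hφ1
      · exact (Finset.mem_filter.mp (σ.symm j).2).2
      · intro h
        exact hij (σ.symm.injective (Subtype.ext h)).symm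
    · intro h; exact absurd (Finset.mem_univ j) h
  have hfZ : ∀ a, (∀ e, e ∉ G.edgeSet → f a e = 0) ∧ inc G A (f a) = 0 := by
    intro a
    constructor
    · intro e he
      rw [hf, Finset.sum_apply]
      refine Finset.sum_eq_zero fun i _ => hφ1 _ _ _ (fun h => he (edgeSet_mono hTG h)) ?_
      intro h
      exact he (h ▸ mem_edgeFinset.mp (Finset.mem_filter.mp (σ.symm i).2).1)
    · rw [hf, map_sum]; exact Finset.sum_eq_zero fun i _ => hφ2 _ _
  refine ⟨f, ?_, ?_⟩
  · intro a b hab
    funext j
    rw [← hfe a j, ← hfe b j, hab]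
  · ext x
    constructor
    · rintro ⟨a, rfl⟩; exact hfZ a
    · rintro ⟨hx1, hx2⟩
      refine ⟨fun j => x (σ.symm j).1, ?_⟩
      have : f (fun j => x (σ.symm j).1) - x = 0 := by
        apply eq_zero_of_acyclic A c hbip T hTG hT.isAcyclic
        · intro e he
          by_cases heG : e ∈ G.edgeSet
          · have heN : e ∈ G.edgeFinset.filter (fun e => e ∉ T.edgeSet) :=
              Finset.mem_filter.mpr ⟨mem_edgeFinset.mpr heG, he⟩
            have := hfe (fun j => x (σ.symm j).1) (σ ⟨e, heN⟩)
            simp only [Equiv.symm_apply_apply] at this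
            rw [Pi.sub_apply, this, sub_self]
          · rw [Pi.sub_apply, (hfZ _).1 e heG, hx1 e heG, sub_self]
        · rw [map_sub, (hfZ _).2, hx2, sub_self]
      exact sub_eq_zero.mp this

end Groth.Agent.Lib.Helper20.GraphLab
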