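import Mathlib
import Groth.Prelude.Def_GrLC
import Groth.Prelude.Def_GrSyz
import Groth.Agent.Lib.Helper22.GrHilb
import Groth.Agent.Lib.Helper22.GrMinRes
import Groth.Agent.Lib.Helper20.GrLenCount2

/-!
# A bounded Hilbert function forces numerical relations among the degrees of a resolution of length
two over `k[x₀,x₁,x₂]` (helper20)
-/

set_option autoImplicit false
set_option linter.unusedSectionVars false
set_option linter.unusedVariables false

universe u

namespace Groth.Agent.Lib.Helper20.HilbBurchSum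

section arith

theorem quad_bounded (N β γ K D₀ : ℤ)
    (h : ∀ d : ℤ, D₀ ≤ d → |N * d ^ 2 + β * d + γ| ≤ K) : N = 0 ∧ β = 0 := by
  have hK : 0 ≤ K := le_trans (abs_nonneg _) (h D₀ le_rfl)
  have hN : N = 0 := by
    have e0 := abs_le.1 (h D₀ le_rfl)
    have e1 := abs_le.1 (h (D₀ + (K + 1)) (by omega))
    have e2 := abs_le.1 (h (D₀ + 2 * (K + 1)) (by omega))
    have key : (N * (D₀ + 2 * (K + 1)) ^ 2 + β * (D₀ + 2 * (K + 1)) + γ)
        - 2 * (N * (D₀ + (K + 1)) ^ 2 + β * (D₀ + (K + 1)) + γ)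
        + (N * D₀ ^ 2 + β * D₀ + γ) = 2 * N * (K + 1) ^ 2 := by ring
    by_contra hne
    rcases lt_or_gt_of_ne hne with hlt | hgt
    · have hN1 : N ≤ -1 := by omega
      nlinarith [sq_nonneg (K + 1)]
    · have hN1 : 1 ≤ N := by omega
      nlinarith [sq_nonneg (K + 1)]
  refine ⟨hN, ?_⟩
  subst hN
  have e0 := abs_le.1 (h D₀ le_rfl)
  have e1 := abs_le.1 (h (D₀ + (2 * K + 1)) (by omega))
  by_contra hne
  rcases lt_or_gt_of_ne hne with hlt | hgt
  · have hb : β ≤ -1 := by omega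
    nlinarith
  · have hb : 1 ≤ β := by omega
    nlinarith

theorem two_mul_choose (n : ℕ) : 2 * Nat.choose (2 + n) 2 = (n + 2) * (n + 1) := by
  induction n with
  | zero => rfl
  | succ n ih =>
    have h1 : 2 + (n + 1) = (2 + n) + 1 := by ring
    rw [h1, Nat.choose_succ_succ' (2 + n) 1, Nat.choose_one_right]
    rw [mul_add, ih]
    ring

end arith

section hilb

variable (k : Type u) [Field k]
  {M : Type u} [AddCommGroup M] [Module k M] [Module (MvPolynomial (Fin (2 + 1)) k) M]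
  [IsScalarTower k (MvPolynomial (Fin (2 + 1)) k) M]
  (ℳ : ℤ → Submodule k M) [DirectSum.Decomposition ℳ]
  [SetLike.GradedSMul (GrSyz.stdGr k (Fin (2 + 1))) ℳ]
  (F : GrSyz.FreeRes (GrSyz.stdGr k (Fin (2 + 1))) ℳ) (hlen : F.HasLengthLE 2)

include hlen in
/-- twice the Hilbert function in large degrees. -/
theorem two_mul_finrank (D₀ : ℤ) (hD₀ : ∀ (i : ℕ) (b : Fin (F.rk i)), F.deg i b ≤ D₀) (d : ℤ)
    (hd : D₀ ≤ d) :
    2 * (Module.finrank k (ℳ d) : ℤ) =
      ∑ i ∈ Finset.range (2 + 1), (-1 : ℤ) ^ i *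
        ∑ b : Fin (F.rk i), (d - F.deg i b + 2) * (d - F.deg i b + 1) := by
  rw [Groth.Agent.Lib.Helper22.GrHilb.hilbert_std k 2 ℳ F 2 hlen d, Finset.mul_sum]
  apply Finset.sum_congr rfl
  intro i _
  rw [← mul_assoc, mul_comm 2, mul_assoc, Finset.mul_sum]
  congr 1
  apply Finset.sum_congr rfl
  intro b _
  have hb := hD₀ i b
  rw [if_pos (by omega)]
  have h1 := two_mul_choose (d - F.deg i b).toNat
  have h2 : ((d - F.deg i b).toNat : ℤ) = d - F.deg i b := Int.toNat_of_nonneg (by omega)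
  have h3 : (2 : ℤ) * ((Nat.choose (2 + (d - F.deg i b).toNat) 2 : ℕ) : ℤ) =
      (((d - F.deg i b).toNat : ℤ) + 2) * (((d - F.deg i b).toNat : ℤ) + 1) := by
    exact_mod_cast h1
  rw [h3, h2]

end hilb

end Groth.Agent.Lib.Helper20.HilbBurchSum

namespace Groth.Agent.Lib.Helper20.HilbBurchSum

section hilb2

variable (k : Type u) [Field k]
  {M : Type u} [AddCommGroup M] [Module k M] [Module (MvPolynomial (Fin (2 + 1)) k) M]
  [IsScalarTower k (MvPolynomial (Fin (2 + 1)) k) M]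
  (ℳ : ℤ → Submodule k M) [DirectSum.Decomposition ℳ]
  [SetLike.GradedSMul (GrSyz.stdGr k (Fin (2 + 1))) ℳ]
  (F : GrSyz.FreeRes (GrSyz.stdGr k (Fin (2 + 1))) ℳ) (hlen : F.HasLengthLE 2)

include hlen in
theorem exists_degree_bound : ∃ D₀ : ℤ, ∀ (i : ℕ) (b : Fin (F.rk i)), F.deg i b ≤ D₀ := by
  refine ⟨∑ i ∈ Finset.range 3, ∑ b : Fin (F.rk i), |F.deg i b|, fun i b => ?_⟩
  by_cases hi : i < 3
  · calc F.deg i b ≤ |F.deg i b| := le_abs_self _
      _ ≤ ∑ b : Fin (F.rk i), |F.deg i b| :=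
        Finset.single_le_sum (f := fun b => |F.deg i b|) (fun b _ => abs_nonneg _)
          (Finset.mem_univ b)
      _ ≤ ∑ i ∈ Finset.range 3, ∑ b : Fin (F.rk i), |F.deg i b| :=
        Finset.single_le_sum (f := fun i => ∑ b : Fin (F.rk i), |F.deg i b|)
          (fun i _ => Finset.sum_nonneg fun b _ => abs_nonneg _) (Finset.mem_range.2 hi)
  · exfalso
    have h0 := hlen i (by omega)
    have hb := b.2
    omega

theorem sum_expand (n : ℕ) (δ : Fin n → ℤ) (d : ℤ) :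
    ∑ b : Fin n, (d - δ b + 2) * (d - δ b + 1) =
      (n : ℤ) * d ^ 2 + (3 * (n : ℤ) - 2 * ∑ b, δ b) * d +
        (∑ b, δ b ^ 2 - 3 * ∑ b, δ b + 2 * (n : ℤ)) := by
  have h1 : ∀ b : Fin n, (d - δ b + 2) * (d - δ b + 1) =
      (d ^ 2 + 3 * d + 2) - (2 * d + 3) * δ b + δ b ^ 2 := fun b => by ring
  rw [Finset.sum_congr rfl (fun b _ => h1 b), Finset.sum_add_distrib, Finset.sum_sub_distrib,
    Finset.sum_const, Finset.card_univ, Fintype.card_fin, ← Finset.mul_sum, nsmul_eq_mul]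
  ring

include hlen in
/-- a bounded Hilbert function forces the alternating sums of ranks and of degrees to vanish. -/
theorem sums_eq_zero (K : ℕ) (hK : ∀ d : ℤ, Module.finrank k (ℳ d) ≤ K) :
    (∑ i ∈ Finset.range (2 + 1), (-1 : ℤ) ^ i * (F.rk i : ℤ)) = 0 ∧
      (∑ i ∈ Finset.range (2 + 1), (-1 : ℤ) ^ i * ∑ b : Fin (F.rk i), F.deg i b) = 0 := by
  obtain ⟨D₀, hD₀⟩ := exists_degree_bound k ℳ F hlen
  set N : ℤ := ∑ i ∈ Finset.range (2 + 1), (-1 : ℤ) ^ i * (F.rk i : ℤ) with hN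
  set B : ℤ := ∑ i ∈ Finset.range (2 + 1), (-1 : ℤ) ^ i * ∑ b : Fin (F.rk i), F.deg i b with hB
  set C : ℤ := ∑ i ∈ Finset.range (2 + 1), (-1 : ℤ) ^ i * ∑ b : Fin (F.rk i), F.deg i b ^ 2
    with hC
  have key : ∀ d : ℤ, D₀ ≤ d →
      2 * (Module.finrank k (ℳ d) : ℤ) = N * d ^ 2 + (3 * N - 2 * B) * d + (C - 3 * B + 2 * N) := by
    intro d hd
    rw [two_mul_finrank k ℳ F hlen D₀ hD₀ d hd, hN, hB, hC]
    simp only [sum_expand, Finset.sum_range_succ, Finset.sum_range_zero]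
    ring
  have hq := quad_bounded N (3 * N - 2 * B) (C - 3 * B + 2 * N) (2 * K) D₀ (by
    intro d hd
    rw [← key d hd, abs_of_nonneg (by positivity)]
    have := hK d
    have h2 : (Module.finrank k (ℳ d) : ℤ) ≤ (K : ℤ) := by exact_mod_cast this
    linarith)
  refine ⟨hq.1, ?_⟩
  have h1 := hq.2
  rw [hq.1] at h1
  linarith

end hilb2

end Groth.Agent.Lib.Helper20.HilbBurchSum
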