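import Mathlib
import Groth.Prelude.Def_GrLC
import Groth.Prelude.Def_GrSyz
import Groth.Agent.Lib.Helper22.GrHilb
import Groth.Agent.Lib.Helper22.GrMinRes
import Groth.Agent.Lib.Helper20.GrLenCount2
import Groth.Agent.Lib.Helper20.HilbBurchSum

/-!
# The coordinate ring of a finite set of points: bounded Hilbert function, generator in degree 0
(helper20)
-/

set_option autoImplicit false
set_option linter.unusedSectionVars false
set_option linter.unusedVariables false

universe u

namespace Groth.Agent.Lib.Helper20.HilbBurchPts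

section comp

variable (k : Type u) [Field k] (r : ℕ)

/-- homogeneous components of an element of a standard graded piece. -/
theorem homogeneousComponent_of_mem_stdGr (d : ℤ) (f : MvPolynomial (Fin (r + 1)) k)
    (hf : f ∈ GrSyz.stdGr k (Fin (r + 1)) d) (j : ℕ) :
    MvPolynomial.homogeneousComponent j f = if (j : ℤ) = d then f else 0 := by
  classical
  rw [GrSyz.mem_stdGr_iff] at hf
  have hdeg : ∀ m : Fin (r + 1) →₀ ℕ, MvPolynomial.coeff m f ≠ 0 → ((m.degree : ℕ) : ℤ) = d := by
    intro m hm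
    have h1 := hf hm
    rw [Groth.Agent.Lib.Helper22.GrHilb.weight_one] at h1
    rw [Finsupp.degree_eq_sum]
    exact h1
  ext m
  rw [MvPolynomial.coeff_homogeneousComponent]
  by_cases hjd : (j : ℤ) = d
  · rw [if_pos hjd]
    by_cases hmj : m.degree = j
    · rw [if_pos hmj]
    · rw [if_neg hmj]
      by_contra hne
      have := hdeg m (Ne.symm hne)
      apply hmj
      have h2 : ((m.degree : ℕ) : ℤ) = (j : ℤ) := by rw [this, hjd]
      exact_mod_cast h2
  · rw [if_neg hjd, MvPolynomial.coeff_zero]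
    by_cases hmj : m.degree = j
    · rw [if_pos hmj]
      by_contra hne
      have := hdeg m hne
      apply hjd
      rw [← this, hmj]
    · rw [if_neg hmj]

end comp

section pts

variable (k : Type u) [Field k] (r : ℕ)
  (Z : Finset (Fin (r + 1) → k)) (I : Ideal (MvPolynomial (Fin (r + 1)) k))
  (hI : ∀ f : MvPolynomial (Fin (r + 1)) k, f ∈ I ↔
      ∀ p ∈ Z, ∀ j : ℕ, MvPolynomial.eval p (MvPolynomial.homogeneousComponent j f) = 0)

include hI in
theorem mem_iff_of_mem_stdGr (d : ℤ) (f : MvPolynomial (Fin (r + 1)) k)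
    (hf : f ∈ GrSyz.stdGr k (Fin (r + 1)) d) :
    f ∈ I ↔ ∀ p ∈ Z, MvPolynomial.eval p f = 0 := by
  rw [hI]
  constructor
  · intro h p hp
    by_cases hd : d < 0
    · rw [Groth.Agent.Lib.Helper22.GrMinRes.stdGr_neg k r d hd f hf, map_zero]
    · have := h p hp d.toNat
      rw [homogeneousComponent_of_mem_stdGr k r d f hf, if_pos (by omega)] at this
      exact this
  · intro h p hp j
    rw [homogeneousComponent_of_mem_stdGr k r d f hf]
    split_ifs
    · exact h p hp
    · rw [map_zero]

include hI in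
theorem one_notMem (hZne : Z.Nonempty) (s u : MvPolynomial (Fin (r + 1)) k)
    (hu : MvPolynomial.constantCoeff u = 0) : (1 - s * u) ∉ I := by
  intro h
  obtain ⟨p, hp⟩ := hZne
  have h1 := (hI _).1 h p hp 0
  rw [MvPolynomial.homogeneousComponent_zero, ← MvPolynomial.constantCoeff_eq, map_sub, map_one,
    map_mul, hu, mul_zero, sub_zero, map_one, map_one] at h1
  exact one_ne_zero h1

variable {M : Type u} [AddCommGroup M] [Module k M] [Module (MvPolynomial (Fin (r + 1)) k) M]
  [IsScalarTower k (MvPolynomial (Fin (r + 1)) k) M]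
  (ℳ : ℤ → Submodule k M) [DirectSum.Decomposition ℳ]
  [SetLike.GradedSMul (GrSyz.stdGr k (Fin (r + 1))) ℳ]
  (π : MvPolynomial (Fin (r + 1)) k →ₗ[MvPolynomial (Fin (r + 1)) k] M)
  (hπ : Function.Surjective π)
  (hπg : GrLC.IsGrHom (GrSyz.stdGr k (Fin (r + 1))) ℳ π) (hker : LinearMap.ker π = I)

include hI hπ hπg hker in
/-- the Hilbert function of the coordinate ring of `Z` is bounded by the number of points. -/
theorem finrank_le_card (d : ℤ) : Module.finrank k (ℳ d) ≤ Z.card := by
  classical
  haveI := Groth.Agent.Lib.Helper22.GrHilb.finiteDimensional_stdGr k r d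
  -- the restriction of π to degree d
  let πd : GrSyz.stdGr k (Fin (r + 1)) d →ₗ[k] ℳ d :=
    (π.restrictScalars k).restrict (p := GrSyz.stdGr k (Fin (r + 1)) d) (q := ℳ d)
      (fun x hx => hπg d x hx)
  -- evaluation at the points
  let evd : GrSyz.stdGr k (Fin (r + 1)) d →ₗ[k] (Z → k) :=
    { toFun := fun f p => MvPolynomial.eval p.1 f.1
      map_add' := fun f g => by
        funext p
        simp
      map_smul' := fun c f => by
        funext p
        simp [MvPolynomial.smul_eval] }
  have hsurj : Function.Surjective πd := by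
    intro y
    obtain ⟨x, hx, hxy⟩ := Groth.Agent.Lib.Helper20.GrLenCount2.exists_preimage_mem k r ℳ
      (GrSyz.stdGr k (Fin (r + 1))) π hπ hπg d y.1 y.2
    exact ⟨⟨x, hx⟩, Subtype.ext hxy⟩
  have hkereq : LinearMap.ker πd = LinearMap.ker evd := by
    ext f
    rw [LinearMap.mem_ker, LinearMap.mem_ker]
    have h1 : πd f = 0 ↔ f.1 ∈ I := by
      rw [← hker, LinearMap.mem_ker]
      constructor
      · intro h
        have := congrArg Subtype.val h
        exact this
      · intro h
        exact Subtype.ext h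
    rw [h1, mem_iff_of_mem_stdGr k r Z I hI d f.1 f.2]
    constructor
    · intro h
      funext p
      exact h p.1 p.2
    · intro h p hp
      exact congrFun h ⟨p, hp⟩
  have e1 := LinearMap.finrank_range_add_finrank_ker πd
  have e2 := LinearMap.finrank_range_add_finrank_ker evd
  rw [LinearMap.range_eq_top.2 hsurj, finrank_top] at e1
  rw [hkereq] at e1
  have e3 : Module.finrank k (LinearMap.range evd) ≤ Module.finrank k (Z → k) :=
    Submodule.finrank_le _
  rw [Module.finrank_fintype_fun_eq_card, Fintype.card_coe] at e3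
  omega

end pts

section final

variable (k : Type u) [Field k]
  (Z : Finset (Fin (2 + 1) → k)) (hZne : Z.Nonempty) (I : Ideal (MvPolynomial (Fin (2 + 1)) k))
  (hI : ∀ f : MvPolynomial (Fin (2 + 1)) k, f ∈ I ↔
      ∀ p ∈ Z, ∀ j : ℕ, MvPolynomial.eval p (MvPolynomial.homogeneousComponent j f) = 0)
  {M : Type u} [AddCommGroup M] [Module k M] [Module (MvPolynomial (Fin (2 + 1)) k) M]
  [IsScalarTower k (MvPolynomial (Fin (2 + 1)) k) M]
  (ℳ : ℤ → Submodule k M) [DirectSum.Decomposition ℳ]
  [SetLike.GradedSMul (GrSyz.stdGr k (Fin (2 + 1))) ℳ]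
  (π : MvPolynomial (Fin (2 + 1)) k →ₗ[MvPolynomial (Fin (2 + 1)) k] M)
  (hπ : Function.Surjective π)
  (hπg : GrLC.IsGrHom (GrSyz.stdGr k (Fin (2 + 1))) ℳ π) (hker : LinearMap.ker π = I)
  (F : GrSyz.FreeRes (GrSyz.stdGr k (Fin (2 + 1))) ℳ) (hlen : F.HasLengthLE 2)
  (hrk : F.rk 1 = F.rk 2 + 1)

include hZne hI hπ hπg hker hlen hrk in
theorem rk_zero : F.rk 0 = 1 := by
  have h := (Groth.Agent.Lib.Helper20.HilbBurchSum.sums_eq_zero k ℳ F hlen Z.card
    (finrank_le_card k 2 Z I hI ℳ π hπ hπg hker)).1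
  simp only [Finset.sum_range_succ, Finset.sum_range_zero] at h
  rw [hrk] at h
  push_cast at h
  have : (F.rk 0 : ℤ) = 1 := by linarith
  exact_mod_cast this

include hZne hI hπ hπg hker hlen hrk in
theorem deg_zero (b : Fin (F.rk 0)) : F.deg 0 b = 0 := by
  classical
  have hrk0 := rk_zero k Z hZne I hI ℳ π hπ hπg hker F hlen hrk
  have hall : ∀ b' : Fin (F.rk 0), b' = b := by
    intro b'
    apply Fin.ext
    have h1 := b.2
    have h2 := b'.2
    omega
  obtain ⟨v, hv⟩ := F.aug_surjective (π 1)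
  rw [Fintype.linearCombination_apply] at hv
  rw [Finset.sum_eq_single b (fun b' _ hb' => absurd (hall b') hb')
    (fun h => absurd (Finset.mem_univ b) h)] at hv
  obtain ⟨u, hu, hπu⟩ := Groth.Agent.Lib.Helper20.GrLenCount2.exists_preimage_mem k 2 ℳ
    (GrSyz.stdGr k (Fin (2 + 1))) π hπ hπg (F.deg 0 b) (F.aug b) (F.aug_mem b)
  by_contra hne
  have hcc := Groth.Agent.Lib.Helper22.GrMinRes.constantCoeff_of_mem k 2 (F.deg 0 b) hne u hu
  apply one_notMem k 2 Z I hI hZne (v b) u hcc
  rw [← hker, LinearMap.mem_ker, map_sub, ← smul_eq_mul, map_smul, hπu, hv, sub_self]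

include hZne hI hπ hπg hker hlen hrk in
/-- the sum of the degrees of `F₁` equals the sum of the degrees of `F₂`. -/
theorem sum_deg_eq : ∑ b : Fin (F.rk 1), F.deg 1 b = ∑ b : Fin (F.rk 2), F.deg 2 b := by
  have h := (Groth.Agent.Lib.Helper20.HilbBurchSum.sums_eq_zero k ℳ F hlen Z.card
    (finrank_le_card k 2 Z I hI ℳ π hπ hπg hker)).2
  simp only [Finset.sum_range_succ, Finset.sum_range_zero] at h
  have h0 : ∑ b : Fin (F.rk 0), F.deg 0 b = 0 :=
    Finset.sum_eq_zero fun b _ => deg_zero k Z hZne I hI ℳ π hπ hπg hker F hlen hrk b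
  rw [h0] at h
  linarith

end final

end Groth.Agent.Lib.Helper20.HilbBurchPts
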