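import Groth.Agent.Lib.Helper20.ZT8
import Groth.Agent.Lib.Helper20.GrQuotK
import Groth.Agent.Lib.Helper20.HilbBurchPts
import Groth.Agent.Lib.Helper20.GrPolySyz
import Groth.Agent.Lib.Helper20.GrFreeMod

/-!
# Existence of a Hilbert–Burch resolution for the ideal of a finite set of points in the plane
-/

set_option autoImplicit false
set_option linter.unusedSectionVars false
set_option linter.unusedVariables false

universe u

namespace Groth.Agent.Lib.Helper20.HBExist

open Groth.Agent.Lib.Helper20.GrPolyStd Groth.Agent.Lib.Helper20.GrConv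
  Groth.Agent.Lib.Helper20.GrVan Groth.Agent.Lib.Helper20.HilbBurchPts

variable (k : Type u) [Field k]
  (Z : Finset (Fin (2 + 1) → k)) (hZ : ∀ p ∈ Z, p ≠ 0) (hZne : Z.Nonempty)
  (I : Ideal (MvPolynomial (Fin (2 + 1)) k))
  (hI : ∀ f : MvPolynomial (Fin (2 + 1)) k, f ∈ I ↔
      ∀ p ∈ Z, ∀ j : ℕ, MvPolynomial.eval p (MvPolynomial.homogeneousComponent j f) = 0)
  {M : Type u} [AddCommGroup M] [Module k M] [Module (MvPolynomial (Fin (2 + 1)) k) M]
  [IsScalarTower k (MvPolynomial (Fin (2 + 1)) k) M]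
  (ℳ : ℤ → Submodule k M) [DirectSum.Decomposition ℳ]
  [SetLike.GradedSMul (GrSyz.stdGr k (Fin (2 + 1))) ℳ]
  (π : MvPolynomial (Fin (2 + 1)) k →ₗ[MvPolynomial (Fin (2 + 1)) k] M)
  (hπ : Function.Surjective π)
  (hπg : GrLC.IsGrHom (GrSyz.stdGr k (Fin (2 + 1))) ℳ π) (hker : LinearMap.ker π = I)
  (F : GrSyz.FreeRes (GrSyz.stdGr k (Fin (2 + 1))) ℳ)
  (hF : F.IsMinimal (GrSyz.irrel (GrSyz.stdGr k (Fin (2 + 1)))).toIdeal)

include hZ hI hπ hπg hker in
/-- `H^0_m(S/I) = 0` -/
theorem van_zero (e : ℤ) : Van (irrelAS k 2) (toAS ℳ) 0 e := by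
  apply Groth.Agent.Lib.Helper20.GrFreeMod.van_zero_of_forall
  intro m hm ht
  obtain ⟨s, hs, rfl⟩ := Groth.Agent.Lib.Helper20.GrLenCount2.exists_preimage_mem k 2 ℳ
    (GrSyz.stdGr k (Fin (2 + 1))) π hπ hπg e m hm
  obtain ⟨N, hN⟩ := ht
  have hsI : s ∈ I := by
    rw [mem_iff_of_mem_stdGr k 2 Z I hI e s hs]
    intro p hp
    obtain ⟨i, hi⟩ := Function.ne_iff.mp (hZ p hp)
    have hXi : (MvPolynomial.X i : MvPolynomial (Fin (2 + 1)) k) ∈ (irrelAS k 2).toIdeal :=
      mem_irrel_of_mem_one k 2 (X_mem k 2 i)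
    have h1 := hN _ (Ideal.pow_mem_pow hXi N)
    rw [← map_smul, smul_eq_mul] at h1
    have h2 : (MvPolynomial.X i : MvPolynomial (Fin (2 + 1)) k) ^ N * s ∈ I := by
      rw [← hker]
      exact h1
    have hdeg : (MvPolynomial.X i : MvPolynomial (Fin (2 + 1)) k) ^ N * s ∈
        GrSyz.stdGr k (Fin (2 + 1)) (N • (1 : ℤ) + e) :=
      SetLike.mul_mem_graded (SetLike.pow_mem_graded N (X_mem k 2 i)) hs
    have h3 := (mem_iff_of_mem_stdGr k 2 Z I hI _ _ hdeg).mp h2 p hp
    rw [map_mul, map_pow, MvPolynomial.eval_X] at h3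
    exact (mul_eq_zero.mp h3).resolve_left (pow_ne_zero N hi)
  have : s ∈ LinearMap.ker π := by rw [hker]; exact hsI
  exact this

include hZ hI hπ hπg hker hF in
theorem rk_three : F.rk 3 = 0 :=
  Groth.Agent.Lib.Helper20.GrPolySyz.rk_succ_eq_zero_of_van k 2 ℳ F hF 2 (fun q hq e => by
    have hq0 : q = 0 := by omega
    subst hq0
    exact van_zero k Z hZ I hI ℳ π hπ hπg hker e)

include hZ hI hπ hπg hker hF in
theorem hasLengthLE_two : F.HasLengthLE 2 := by
  intro i hi
  rcases Nat.lt_or_ge 3 i with h3 | h3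
  · exact Groth.Agent.Lib.Helper20.GrPolySyz.hasLengthLE_of_isMinimal k 2 ℳ F hF i h3
  · have : i = 3 := by omega
    subst this
    exact rk_three k Z hZ I hI ℳ π hπ hπg hker F hF

theorem constantCoeff_of_mem_irrel (x : MvPolynomial (Fin (2 + 1)) k)
    (hx : x ∈ (GrSyz.irrel (GrSyz.stdGr k (Fin (2 + 1)))).toIdeal) :
    MvPolynomial.constantCoeff x = 0 := by
  have hle : (GrSyz.irrel (GrSyz.stdGr k (Fin (2 + 1)))).toIdeal ≤
      RingHom.ker (MvPolynomial.constantCoeff (R := k) (σ := Fin (2 + 1))) := by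
    change Ideal.span _ ≤ _
    rw [Ideal.span_le]
    rintro r ⟨n, hn, hr⟩
    exact Groth.Agent.Lib.Helper22.GrMinRes.constantCoeff_of_mem k 2 n (ne_of_gt hn) r hr
  exact hle hx

include hI hZne in
theorem constantCoeff_of_mem_I (x : MvPolynomial (Fin (2 + 1)) k) (hx : x ∈ I) :
    MvPolynomial.constantCoeff x = 0 := by
  obtain ⟨p, hp⟩ := hZne
  have h1 := (hI x).1 hx p hp 0
  rw [MvPolynomial.homogeneousComponent_zero, MvPolynomial.eval_C] at h1
  rw [MvPolynomial.constantCoeff_eq]
  exact h1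

include hZne hI hπ hker hF in
theorem rk_zero_eq_one : F.rk 0 = 1 := by
  classical
  have hge : 1 ≤ F.rk 0 := by
    by_contra hcon
    have h0 : F.rk 0 = 0 := by omega
    haveI : IsEmpty (Fin (F.rk 0)) := by rw [h0]; infer_instance
    obtain ⟨v, hv⟩ := F.aug_surjective (π 1)
    rw [Fintype.linearCombination_apply, Finset.univ_eq_empty, Finset.sum_empty] at hv
    have h1 : (1 : MvPolynomial (Fin (2 + 1)) k) ∈ I := by
      rw [← hker, LinearMap.mem_ker, ← hv]
    have := constantCoeff_of_mem_I k Z hZne I hI 1 h1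
    rw [map_one] at this
    exact one_ne_zero this
  have hle : F.rk 0 ≤ 1 := by
    by_contra hcon
    have h2 : 2 ≤ F.rk 0 := by omega
    choose s hs using fun b => hπ (F.aug b)
    obtain ⟨v, hv⟩ := F.aug_surjective (π 1)
    rw [Fintype.linearCombination_apply] at hv
    have hmem : 1 - ∑ b, v b * s b ∈ I := by
      rw [← hker, LinearMap.mem_ker, map_sub, map_sum, ← hv, sub_eq_zero]
      refine Finset.sum_congr rfl (fun b _ => ?_)
      rw [← smul_eq_mul, map_smul, hs b]
    have hcc := constantCoeff_of_mem_I k Z hZne I hI _ hmem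
    rw [map_sub, map_one, map_sum, sub_eq_zero] at hcc
    obtain ⟨b0, hb0⟩ : ∃ b0, MvPolynomial.constantCoeff (s b0) ≠ 0 := by
      by_contra hall
      push Not at hall
      have : ∑ b, MvPolynomial.constantCoeff (v b * s b) = 0 :=
        Finset.sum_eq_zero (fun b _ => by rw [map_mul, hall b, mul_zero])
      rw [this] at hcc
      exact one_ne_zero hcc
    obtain ⟨b, hb⟩ : ∃ b : Fin (F.rk 0), b ≠ b0 := by
      by_cases h0 : (b0 : ℕ) = 0
      · exact ⟨⟨1, by omega⟩, fun h => by
          have := congrArg Fin.val h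
          simp only at this
          omega⟩
      · exact ⟨⟨0, by omega⟩, fun h => by
          have := congrArg Fin.val h
          simp only at this
          omega⟩
    let w : Fin (F.rk 0) → MvPolynomial (Fin (2 + 1)) k :=
      (Pi.single b (s b0) : Fin (F.rk 0) → MvPolynomial (Fin (2 + 1)) k) -
        (Pi.single b0 (s b) : Fin (F.rk 0) → MvPolynomial (Fin (2 + 1)) k)
    have haug : F.augLin w = 0 := by
      change Fintype.linearCombination _ F.aug w = 0
      rw [map_sub, Fintype.linearCombination_apply_single, Fintype.linearCombination_apply_single,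
        ← hs b, ← hs b0, ← map_smul, ← map_smul, ← map_sub, smul_eq_mul, smul_eq_mul, mul_comm,
        sub_self, map_zero]
    have h3 : w b ∈ (GrSyz.irrel (GrSyz.stdGr k (Fin (2 + 1)))).toIdeal := by
      have hk : w ∈ LinearMap.ker (Fintype.linearCombination _ F.aug) := haug
      rw [F.exact_zero] at hk
      obtain ⟨u, hu⟩ := hk
      rw [← hu]
      exact Groth.Agent.Lib.Helper20.ZT.mulVec_mem_of_entries k 2 (F.d 0) _ (hF 0) u b
    have hwb : w b = s b0 := by
      change ((Pi.single b (s b0) : Fin (F.rk 0) → MvPolynomial (Fin (2 + 1)) k) -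
        (Pi.single b0 (s b) : Fin (F.rk 0) → MvPolynomial (Fin (2 + 1)) k)) b = _
      rw [Pi.sub_apply, Pi.single_eq_same, Pi.single_eq_of_ne hb, sub_zero]
    rw [hwb] at h3
    exact hb0 (constantCoeff_of_mem_irrel k (s b0) h3)
  omega

include hZ hZne hI hπ hπg hker hF in
theorem rk_one_eq : F.rk 1 = F.rk 2 + 1 := by
  have hlen := hasLengthLE_two k Z hZ I hI ℳ π hπ hπg hker F hF
  have h := (Groth.Agent.Lib.Helper20.HilbBurchSum.sums_eq_zero k ℳ F hlen Z.card
    (finrank_le_card k 2 Z I hI ℳ π hπ hπg hker)).1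
  simp only [Finset.sum_range_succ, Finset.sum_range_zero] at h
  rw [rk_zero_eq_one k Z hZne I hI ℳ π hπ hker F hF] at h
  push_cast at h
  have : (F.rk 1 : ℤ) = F.rk 2 + 1 := by linarith
  exact_mod_cast this

include hZ hZne hI hπ hπg hker hF in
/-- the Hilbert–Burch resolution of `I`, from a minimal resolution of `S/I` -/
theorem exists_res : ∃ (t : ℕ) (Ψ : Matrix (Fin (t + 1)) (Fin t) (MvPolynomial (Fin (2 + 1)) k))
    (φ : (Fin (t + 1) → MvPolynomial (Fin (2 + 1)) k) →ₗ[MvPolynomial (Fin (2 + 1)) k]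
      MvPolynomial (Fin (2 + 1)) k),
    LinearMap.ker Ψ.mulVecLin = ⊥ ∧ LinearMap.ker φ = LinearMap.range Ψ.mulVecLin ∧
      LinearMap.range φ = I := by
  classical
  have h0 := rk_zero_eq_one k Z hZne I hI ℳ π hπ hker F hF
  have h1 := rk_one_eq k Z hZ hZne I hI ℳ π hπ hπg hker F hF
  have h3 := rk_three k Z hZ I hI ℳ π hπ hπg hker F hF
  have key : ∀ (a b : ℕ) (hab : a = b + 1)
      (D : Matrix (Fin a) (Fin b) (MvPolynomial (Fin (2 + 1)) k))
      (φ : (Fin a → MvPolynomial (Fin (2 + 1)) k) →ₗ[MvPolynomial (Fin (2 + 1)) k]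
        MvPolynomial (Fin (2 + 1)) k),
      LinearMap.ker D.mulVecLin = ⊥ → LinearMap.ker φ = LinearMap.range D.mulVecLin →
      LinearMap.range φ = I →
      ∃ (t : ℕ) (Ψ : Matrix (Fin (t + 1)) (Fin t) (MvPolynomial (Fin (2 + 1)) k))
        (φ : (Fin (t + 1) → MvPolynomial (Fin (2 + 1)) k) →ₗ[MvPolynomial (Fin (2 + 1)) k]
          MvPolynomial (Fin (2 + 1)) k),
        LinearMap.ker Ψ.mulVecLin = ⊥ ∧ LinearMap.ker φ = LinearMap.range Ψ.mulVecLin ∧
          LinearMap.range φ = I := by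
    intro a b hab
    subst hab
    intro D φ e1 e2 e3
    exact ⟨b, D, φ, e1, e2, e3⟩
  let b0 : Fin (F.rk 0) := ⟨0, by omega⟩
  have huniq : ∀ b : Fin (F.rk 0), b = b0 := fun b => Fin.ext (by
    have := b.2
    change (b : ℕ) = 0
    omega)
  have hsum : ∀ v : Fin (F.rk 0) → MvPolynomial (Fin (2 + 1)) k,
      F.augLin v = v b0 • F.aug b0 := by
    intro v
    change Fintype.linearCombination _ F.aug v = _
    rw [Fintype.linearCombination_apply]
    exact Fintype.sum_eq_single b0 (fun b hb => absurd (huniq b) hb)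
  have hex0 : ∀ v : Fin (F.rk 0) → MvPolynomial (Fin (2 + 1)) k,
      F.augLin v = 0 ↔ ∃ w, F.dLin 0 w = v := by
    intro v
    have := F.exact_zero
    constructor
    · intro hv
      have hk : v ∈ LinearMap.ker (Fintype.linearCombination _ F.aug) := hv
      rw [this] at hk
      exact hk
    · rintro ⟨w, rfl⟩
      have hk : F.dLin 0 w ∈ LinearMap.range (Matrix.mulVecLin (F.d 0)) := ⟨w, rfl⟩
      rw [← this] at hk
      exact hk
  refine key (F.rk 1) (F.rk 2) h1 (F.d 1) ((LinearMap.proj b0).comp (F.dLin 0)) ?_ ?_ ?_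
  · have hex : LinearMap.ker (Matrix.mulVecLin (F.d 1)) =
        LinearMap.range (Matrix.mulVecLin (F.d 2)) := F.exact_succ 1
    rw [hex, eq_bot_iff]
    rintro _ ⟨w, rfl⟩
    haveI : IsEmpty (Fin (F.rk 3)) := by rw [h3]; infer_instance
    have hw : w = 0 := Subsingleton.elim _ _
    rw [hw, map_zero]
    exact Submodule.zero_mem _
  · have hex : LinearMap.ker (Matrix.mulVecLin (F.d 0)) =
        LinearMap.range (Matrix.mulVecLin (F.d 1)) := F.exact_succ 0
    rw [← hex]
    ext w
    simp only [LinearMap.mem_ker, LinearMap.comp_apply, LinearMap.proj_apply]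
    constructor
    · intro h
      funext b
      rw [huniq b]
      exact h
    · intro h
      have h' : F.dLin 0 w = 0 := h
      rw [h']
      rfl
  · ext x
    constructor
    · rintro ⟨w, rfl⟩
      have hv : F.augLin (F.dLin 0 w) = 0 := (hex0 _).mpr ⟨w, rfl⟩
      rw [hsum] at hv
      obtain ⟨v', hv'⟩ := F.aug_surjective (π 1)
      have hv'' : F.augLin v' = π 1 := hv'
      rw [hsum] at hv''
      rw [← hker, LinearMap.mem_ker]
      change π (F.dLin 0 w b0) = 0
      have e1 : π (F.dLin 0 w b0) = F.dLin 0 w b0 • π 1 := by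
        rw [← map_smul, smul_eq_mul, mul_one]
      rw [e1, ← hv'', smul_smul, mul_comm, ← smul_smul, hv, smul_zero]
    · intro hx
      obtain ⟨s, hs⟩ := hπ (F.aug b0)
      have hv : F.augLin (Pi.single b0 x : Fin (F.rk 0) → MvPolynomial (Fin (2 + 1)) k) = 0 := by
        rw [hsum, Pi.single_eq_same, ← hs, ← map_smul, smul_eq_mul]
        have : x * s ∈ LinearMap.ker π := by
          rw [hker]
          exact I.mul_mem_right s hx
        exact this
      obtain ⟨w, hw⟩ := (hex0 _).mp hv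
      refine ⟨w, ?_⟩
      change F.dLin 0 w b0 = x
      rw [hw, Pi.single_eq_same]

include hI in
/-- the vanishing ideal of a set of points is homogeneous -/
theorem isHomogeneous_I : I.IsHomogeneous (GrSyz.stdGr k (Fin (2 + 1))) := by
  intro d f hf
  rw [hI]
  intro p hp j
  have hg := (DirectSum.decompose (GrSyz.stdGr k (Fin (2 + 1))) f d).2
  rw [homogeneousComponent_of_mem_stdGr k 2 d _ hg j]
  split_ifs with hjd
  · subst hjd
    rw [← Groth.Agent.Lib.Helper20.ZT.decompose_poly_eq_std k 2 f j]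
    have h1 : (DirectSum.decompose (CohB1.polyGrading 2 k) f j : MvPolynomial (Fin (2 + 1)) k) =
        MvPolynomial.homogeneousComponent j f :=
      MvPolynomial.decomposition.decompose'_apply f j
    rw [h1]
    exact (hI f).1 hf p hp j
  · exact map_zero _

include hZ hI in
/-- **Hilbert–Burch**: the vanishing ideal of a finite set of points of the projective plane has a
free resolution of length one. -/
theorem main : ∃ (t : ℕ) (Ψ : Matrix (Fin (t + 1)) (Fin t) (MvPolynomial (Fin (2 + 1)) k))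
    (φ : (Fin (t + 1) → MvPolynomial (Fin (2 + 1)) k) →ₗ[MvPolynomial (Fin (2 + 1)) k]
      MvPolynomial (Fin (2 + 1)) k),
    LinearMap.ker Ψ.mulVecLin = ⊥ ∧ LinearMap.ker φ = LinearMap.range Ψ.mulVecLin ∧
      LinearMap.range φ = I := by
  classical
  rcases Z.eq_empty_or_nonempty with hemp | hZne
  · have hItop : I = ⊤ := by
      rw [eq_top_iff]
      intro f _
      rw [hI]
      intro p hp
      rw [hemp] at hp
      exact absurd hp (Finset.notMem_empty p)
    refine ⟨0, 0, LinearMap.proj 0, ?_, ?_, ?_⟩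
    · rw [eq_bot_iff]
      intro w _
      rw [Submodule.mem_bot]
      exact Subsingleton.elim _ _
    · ext w
      constructor
      · intro hw
        have hw0 : w 0 = 0 := hw
        have : w = 0 := by
          funext b
          have hb : b = 0 := Fin.ext (by have := b.2; omega)
          rw [hb]
          exact hw0
        rw [this]
        exact Submodule.zero_mem _
      · rintro ⟨u, rfl⟩
        have : u = 0 := Subsingleton.elim _ _
        rw [this, map_zero]
        exact Submodule.zero_mem _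
    · rw [hItop, eq_top_iff]
      intro x _
      exact ⟨fun _ => x, rfl⟩
  · have hhom := isHomogeneous_I k Z I hI
    letI : DirectSum.Decomposition (Groth.Agent.Lib.Helper20.GrQuotK.quotK
        (GrSyz.stdGr k (Fin (2 + 1))) I) :=
      Groth.Agent.Lib.Helper20.GrQuotK.quotKDecomposition (GrSyz.stdGr k (Fin (2 + 1))) I hhom
    obtain ⟨F, hF⟩ := Groth.Agent.Lib.Helper22.GrMinRes.exists_minimal
      (GrSyz.stdGr k (Fin (2 + 1)))
      (GrSyz.irrel (GrSyz.stdGr k (Fin (2 + 1)))).toIdeal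
      (Groth.Agent.Lib.Helper22.GrMinRes.hunit_std k 2)
      (Groth.Agent.Lib.Helper20.GrQuotK.quotK (GrSyz.stdGr k (Fin (2 + 1))) I)
    exact exists_res k Z hZ hZne I hI
      (Groth.Agent.Lib.Helper20.GrQuotK.quotK (GrSyz.stdGr k (Fin (2 + 1))) I)
      (Submodule.mkQ I) (Submodule.mkQ_surjective I)
      (fun n m hm => Groth.Agent.Lib.Helper20.GrQuotK.mk_mem_quotK _ I hm)
      (Submodule.ker_mkQ I) F hF

end Groth.Agent.Lib.Helper20.HBExist
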