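import Groth.Agent.Lib.Helper20.HTModel

/-!
# Local cohomology with supports in `T` via the direct-limit model: long exact sequence, `H^0`
-/

set_option autoImplicit false
set_option linter.style.haveILetI false
set_option linter.unusedSectionVars false
set_option linter.unusedVariables false
set_option maxHeartbeats 400000

open CategoryTheory Limits Opposite Abelian

universe u

namespace Groth.Agent.Lib.Helper20.HTModel

variable {R : Type u} [CommRing R] (T : Set (PrimeSpectrum R))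

/-! ### composition with an `Ext` class -/

section comp

variable {M M' : ModuleCat.{u} R} {k : ℕ} (β : Ext.{u} M M' k) (i j : ℕ) (hij : i + k = j)

/-- postcomposition with `β` at the stage `a`. -/
noncomputable def compF (a : Idx T) : Ext.{u} (Q a) M i →ₗ[R] Ext.{u} (Q a) M' j :=
  Ext.postcompOfLinear β R (Q a) hij

lemma compF_apply (a : Idx T) (x : Ext.{u} (Q a) M i) : compF T β i j hij a x = x.comp β hij := rfl

lemma compF_comm (a b : Idx T) (h : a ≤ b) :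
    compF T β i j hij b ∘ₗ trF T M i a b h = trF T M' j a b h ∘ₗ compF T β i j hij a := by
  apply LinearMap.ext
  intro x
  change ((Ext.mk₀ (qmap h)).comp x (zero_add i)).comp β hij =
    (Ext.mk₀ (qmap h)).comp (x.comp β hij) (zero_add j)
  exact Ext.comp_assoc (Ext.mk₀ (qmap h)) x β (zero_add i) hij (by omega)

/-- postcomposition with an `Ext` class on the model. -/
noncomputable def HHT.comp : HHT T M i →ₗ[R] HHT T M' j :=
  Module.DirectLimit.map (f := trF T M i) (f' := trF T M' j) (compF T β i j hij)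
    (compF_comm T β i j hij)

lemma HHT.comp_of (a : Idx T) (y : Ext.{u} (Q a) M i) :
    HHT.comp T β i j hij (HHT.of T M i a y) = HHT.of T M' j a (y.comp β hij) :=
  Module.DirectLimit.map_apply_of (f := trF T M i) (f' := trF T M' j) (compF T β i j hij)
    (compF_comm T β i j hij) y

end comp

section mapLemmas

variable {M M' M'' : ModuleCat.{u} R}

lemma HHT.map_id (i : ℕ) (x : HHT T M i) : HHT.map T (𝟙 M) i x = x := by
  obtain ⟨n, y, rfl⟩ := HHT.exists_of T M i x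
  rw [HHT.map_of, Ext.comp_mk₀_id]

lemma HHT.map_comp (g : M ⟶ M') (g' : M' ⟶ M'') (i : ℕ) (x : HHT T M i) :
    HHT.map T (g ≫ g') i x = HHT.map T g' i (HHT.map T g i x) := by
  obtain ⟨n, y, rfl⟩ := HHT.exists_of T M i x
  rw [HHT.map_of, HHT.map_of, HHT.map_of, Ext.comp_assoc_of_third_deg_zero, Ext.mk₀_comp_mk₀]

lemma HHT.map_zero' (i : ℕ) (x : HHT T M i) : HHT.map T (0 : M ⟶ M') i x = 0 := by
  obtain ⟨n, y, rfl⟩ := HHT.exists_of T M i x
  rw [HHT.map_of, Ext.mk₀_zero, Ext.comp_zero, map_zero]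

/-- an isomorphism of modules induces an isomorphism on the model. -/
noncomputable def HHT.mapIso (e : M ≅ M') (i : ℕ) : HHT T M i ≃ₗ[R] HHT T M' i :=
  LinearEquiv.ofLinearMap (HHT.map T e.hom i) (HHT.map T e.inv i)
    (by
      apply LinearMap.ext
      intro x
      change HHT.map T e.hom i (HHT.map T e.inv i x) = x
      rw [← HHT.map_comp, e.inv_hom_id, HHT.map_id])
    (by
      apply LinearMap.ext
      intro x
      change HHT.map T e.inv i (HHT.map T e.hom i x) = x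
      rw [← HHT.map_comp, e.hom_inv_id, HHT.map_id])

lemma HHT.smul_eq_map (i : ℕ) (r : R) (x : HHT T M i) : r • x = HHT.map T (r • 𝟙 M) i x := by
  obtain ⟨n, y, rfl⟩ := HHT.exists_of T M i x
  rw [HHT.map_of, ← Ext.smul_eq_comp_mk₀, map_smul]

end mapLemmas

/-! ### The long exact sequence -/

section LES

variable {S : ShortComplex (ModuleCat.{u} R)} (hS : S.ShortExact) (i : ℕ)

/-- the connecting homomorphism. -/
noncomputable def HHT.δ : HHT T S.X₃ i →ₗ[R] HHT T S.X₁ (i + 1) :=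
  HHT.comp T hS.extClass i (i + 1) rfl

lemma HHT.δ_of (a : Idx T) (y : Ext.{u} (Q a) S.X₃ i) :
    HHT.δ T hS i (HHT.of T S.X₃ i a y) = HHT.of T S.X₁ (i + 1) a (y.comp hS.extClass rfl) :=
  HHT.comp_of T hS.extClass i (i + 1) rfl a y

lemma HHT.map_g_map_f (x : HHT T S.X₁ i) : HHT.map T S.g i (HHT.map T S.f i x) = 0 := by
  rw [← HHT.map_comp, S.zero, HHT.map_zero']

lemma HHT.δ_map_g (x : HHT T S.X₂ i) : HHT.δ T hS i (HHT.map T S.g i x) = 0 := by
  obtain ⟨n, y, rfl⟩ := HHT.exists_of T S.X₂ i x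
  rw [HHT.map_of, HHT.δ_of, Ext.comp_assoc_of_second_deg_zero, hS.comp_extClass, Ext.comp_zero,
    map_zero]

lemma HHT.map_f_δ (x : HHT T S.X₃ i) : HHT.map T S.f (i + 1) (HHT.δ T hS i x) = 0 := by
  obtain ⟨n, y, rfl⟩ := HHT.exists_of T S.X₃ i x
  rw [HHT.δ_of, HHT.map_of, Ext.comp_assoc_of_third_deg_zero, hS.extClass_comp, Ext.comp_zero,
    map_zero]

include hS in
lemma HHT.exact₂ (x₂ : HHT T S.X₂ i) (h : HHT.map T S.g i x₂ = 0) :
    ∃ x₁, HHT.map T S.f i x₁ = x₂ := by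
  obtain ⟨n, y, rfl⟩ := HHT.exists_of T S.X₂ i x₂
  rw [HHT.map_of, HHT.of_eq_zero_iff] at h
  obtain ⟨m, hnm, h0⟩ := h
  have h1 : (tr T S.X₂ i hnm y).comp (Ext.mk₀ S.g) (add_zero i) = 0 := by
    rw [← h0]
    exact congrArg (fun f => f y) (postF_comm T S.g i n m hnm)
  obtain ⟨x₁, hx₁⟩ := Ext.covariant_sequence_exact₂ (Q m) hS (tr T S.X₂ i hnm y) h1
  refine ⟨HHT.of T S.X₁ i m x₁, ?_⟩
  rw [HHT.map_of, hx₁, HHT.of_tr]

lemma HHT.exact₃ (x₃ : HHT T S.X₃ i) (h : HHT.δ T hS i x₃ = 0) :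
    ∃ x₂, HHT.map T S.g i x₂ = x₃ := by
  obtain ⟨n, y, rfl⟩ := HHT.exists_of T S.X₃ i x₃
  rw [HHT.δ_of, HHT.of_eq_zero_iff] at h
  obtain ⟨m, hnm, h0⟩ := h
  have h1 : (tr T S.X₃ i hnm y).comp hS.extClass rfl = 0 := by
    rw [← h0]
    exact congrArg (fun f => f y) (compF_comm T hS.extClass i (i + 1) rfl n m hnm)
  obtain ⟨x₂, hx₂⟩ := Ext.covariant_sequence_exact₃ (Q m) hS (tr T S.X₃ i hnm y) rfl h1
  refine ⟨HHT.of T S.X₂ i m x₂, ?_⟩
  rw [HHT.map_of, hx₂, HHT.of_tr]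

lemma HHT.exact₁ (x₁ : HHT T S.X₁ (i + 1)) (h : HHT.map T S.f (i + 1) x₁ = 0) :
    ∃ x₃, HHT.δ T hS i x₃ = x₁ := by
  obtain ⟨n, y, rfl⟩ := HHT.exists_of T S.X₁ (i + 1) x₁
  rw [HHT.map_of, HHT.of_eq_zero_iff] at h
  obtain ⟨m, hnm, h0⟩ := h
  have h1 : (tr T S.X₁ (i + 1) hnm y).comp (Ext.mk₀ S.f) (add_zero (i + 1)) = 0 := by
    rw [← h0]
    exact congrArg (fun f => f y) (postF_comm T S.f (i + 1) n m hnm)
  obtain ⟨x₃, hx₃⟩ := Ext.covariant_sequence_exact₁ (Q m) hS (tr T S.X₁ (i + 1) hnm y) h1 rfl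
  refine ⟨HHT.of T S.X₃ i m x₃, ?_⟩
  rw [HHT.δ_of, hx₃, HHT.of_tr]

include hS in
lemma HHT.map_f_injective_zero : Function.Injective (HHT.map T S.f 0) := by
  rw [injective_iff_map_eq_zero]
  intro x hx
  obtain ⟨n, y, rfl⟩ := HHT.exists_of T S.X₁ 0 x
  rw [HHT.map_of, HHT.of_eq_zero_iff] at hx
  obtain ⟨m, hnm, h0⟩ := hx
  have h1 : (tr T S.X₁ 0 hnm y).comp (Ext.mk₀ S.f) (add_zero 0) = 0 := by
    rw [← h0]
    exact congrArg (fun f => f y) (postF_comm T S.f 0 n m hnm)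
  have := hS.mono_f
  have h2 : tr T S.X₁ 0 hnm y = 0 :=
    Ext.postcomp_mk₀_injective_of_mono (Q m) S.f (by
      change (tr T S.X₁ 0 hnm y).comp (Ext.mk₀ S.f) (add_zero 0) =
        (0 : Ext.{u} (Q m) S.X₁ 0).comp (Ext.mk₀ S.f) (add_zero 0)
      rw [h1, Ext.zero_comp])
  rw [← HHT.of_tr T S.X₁ 0 hnm, h2, map_zero]

/-! consequences -/

include hS in
/-- `δ` is surjective if `H^{i+1}(X₂) = 0`. -/
lemma HHT.δ_surjective (h2 : Subsingleton (HHT T S.X₂ (i + 1))) :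
    Function.Surjective (HHT.δ T hS i) := by
  intro x
  exact HHT.exact₁ T hS i x (Subsingleton.elim _ _)

include hS in
/-- `H^i(g)` is surjective if `H^{i+1}(X₁) = 0`. -/
lemma HHT.map_g_surjective (h1 : Subsingleton (HHT T S.X₁ (i + 1))) :
    Function.Surjective (HHT.map T S.g i) := by
  intro x
  exact HHT.exact₃ T hS i x (Subsingleton.elim _ _)

include hS in
/-- `H^i(g)` is injective if `H^i(X₁) = 0`. -/
lemma HHT.map_g_injective (h1 : Subsingleton (HHT T S.X₁ i)) :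
    Function.Injective (HHT.map T S.g i) := by
  rw [injective_iff_map_eq_zero]
  intro x hx
  obtain ⟨x₁, rfl⟩ := HHT.exact₂ T hS i x hx
  rw [Subsingleton.elim x₁ 0, map_zero]

end LES

/-! ### Degree zero -/

section H0

variable (M : ModuleCat.{u} R)

/-- evaluation at `1` of a class of degree zero. -/
noncomputable def ev0 (a : Idx T) : Ext.{u} (Q a) M 0 →ₗ[R] M :=
  (LinearMap.applyₗ (Submodule.Quotient.mk (1 : R) : R ⧸ a.J)) ∘ₗ
    (ModuleCat.homLinearEquiv (S := R) (M := Q a) (N := M)).toLinearMap ∘ₗ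
      (Ext.linearEquiv₀ (R := R) (X := Q a) (Y := M)).toLinearMap

lemma ev0_mk₀ (a : Idx T) (φ : Q a ⟶ M) :
    ev0 T M a (Ext.mk₀ φ) = φ.hom (Submodule.Quotient.mk (1 : R)) := by
  have h : Ext.linearEquiv₀ (R := R) (Ext.mk₀ φ) = φ :=
    (Ext.linearEquiv₀ (R := R) (X := Q a) (Y := M)).apply_symm_apply φ
  change (Ext.linearEquiv₀ (R := R) (Ext.mk₀ φ)).hom _ = _
  rw [h]

lemma ev0_tr {a b : Idx T} (h : a ≤ b) (y : Ext.{u} (Q a) M 0) :
    ev0 T M b (tr T M 0 h y) = ev0 T M a y := by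
  obtain ⟨φ, rfl⟩ := (Ext.mk₀_bijective (Q a) M).2 y
  rw [tr_apply, Ext.mk₀_comp_mk₀, ev0_mk₀, ev0_mk₀]
  rfl

lemma ev0_injective (a : Idx T) : Function.Injective (ev0 T M a) := by
  rw [injective_iff_map_eq_zero]
  intro y hy
  obtain ⟨φ, rfl⟩ := (Ext.mk₀_bijective (Q a) M).2 y
  rw [ev0_mk₀] at hy
  have : φ = 0 := by
    apply ModuleCat.hom_ext
    apply LinearMap.ext
    intro x
    obtain ⟨r, rfl⟩ := Submodule.Quotient.mk_surjective _ x
    have h1 : (Submodule.Quotient.mk r : R ⧸ a.J) = r • Submodule.Quotient.mk (1 : R) := by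
      rw [← Submodule.Quotient.mk_smul, smul_eq_mul, mul_one]
    rw [h1, map_smul, hy, smul_zero]
    rfl
  rw [this, Ext.mk₀_zero]

lemma smul_ev0_eq_zero (a : Idx T) (y : Ext.{u} (Q a) M 0) (r : R) (hr : r ∈ a.J) :
    r • ev0 T M a y = 0 := by
  obtain ⟨φ, rfl⟩ := (Ext.mk₀_bijective (Q a) M).2 y
  rw [ev0_mk₀, ← map_smul, ← Submodule.Quotient.mk_smul, smul_eq_mul, mul_one,
    (Submodule.Quotient.mk_eq_zero _).2 hr, map_zero]

lemma exists_ev0_eq (a : Idx T) (x : M) (hx : ∀ r ∈ a.J, r • x = 0) :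
    ∃ y, ev0 T M a y = x := by
  let φ : (R ⧸ a.J) →ₗ[R] M :=
    Submodule.liftQ a.J (LinearMap.toSpanSingleton R M x) (by
      intro r hr
      rw [LinearMap.mem_ker, LinearMap.toSpanSingleton_apply]
      exact hx r hr)
  refine ⟨Ext.mk₀ (ModuleCat.ofHom φ), ?_⟩
  rw [ev0_mk₀]
  change φ (Submodule.Quotient.mk 1) = x
  rw [Submodule.liftQ_apply, LinearMap.toSpanSingleton_apply, one_smul]

/-- the map `H^0_T(M) → M`. -/
noncomputable def HHT0 : HHT T M 0 →ₗ[R] M :=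
  Module.DirectLimit.lift R (Idx T) (fun a : Idx T => Ext.{u} (Q a) M 0) (trF T M 0) (ev0 T M)
    (fun a b h y => ev0_tr T M h y)

lemma HHT0_of (a : Idx T) (y : Ext.{u} (Q a) M 0) : HHT0 T M (HHT.of T M 0 a y) = ev0 T M a y :=
  Module.DirectLimit.lift_of (f := trF T M 0) (ev0 T M) (fun a b h y => ev0_tr T M h y) y

lemma HHT0_injective : Function.Injective (HHT0 T M) :=
  Module.DirectLimit.lift_injective (f := trF T M 0) (ev0 T M) (fun a b h y => ev0_tr T M h y)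
    (ev0_injective T M)

/-- elements in the image of `HHT0` are killed by an ideal with zero locus in `T`. -/
lemma HHT0_mem (x : HHT T M 0) : ∃ a : Idx T, ∀ r ∈ a.J, r • HHT0 T M x = 0 := by
  obtain ⟨a, y, rfl⟩ := HHT.exists_of T M 0 x
  rw [HHT0_of]
  exact ⟨a, fun r hr => smul_ev0_eq_zero T M a y r hr⟩

lemma exists_HHT0_eq (x : M) (a : Idx T) (hx : ∀ r ∈ a.J, r • x = 0) :
    ∃ y : HHT T M 0, HHT0 T M y = x := by
  obtain ⟨y, hy⟩ := exists_ev0_eq T M a x hx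
  exact ⟨HHT.of T M 0 a y, by rw [HHT0_of, hy]⟩

variable {M} in
lemma HHT0_map {M' : ModuleCat.{u} R} (g : M ⟶ M') (x : HHT T M 0) :
    HHT0 T M' (HHT.map T g 0 x) = g.hom (HHT0 T M x) := by
  obtain ⟨a, y, rfl⟩ := HHT.exists_of T M 0 x
  obtain ⟨φ, rfl⟩ := (Ext.mk₀_bijective (Q a) M).2 y
  rw [HHT.map_of, HHT0_of, HHT0_of, Ext.mk₀_comp_mk₀, ev0_mk₀, ev0_mk₀]
  rfl

end H0

/-! ### Elementwise torsion -/

/-- every class of `Ext^i(R/J, M)` is killed by `J`. -/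
lemma smul_ext_eq_zero {M : ModuleCat.{u} R} (i : ℕ) (a : Idx T) (y : Ext.{u} (Q a) M i) (r : R)
    (hr : r ∈ a.J) : r • y = 0 := by
  have h0 : (r • 𝟙 (Q a) : Q a ⟶ Q a) = 0 := by
    apply ModuleCat.hom_ext
    apply LinearMap.ext
    intro x
    obtain ⟨s, rfl⟩ := Submodule.Quotient.mk_surjective _ x
    change r • (Submodule.Quotient.mk s : R ⧸ a.J) = 0
    rw [← Submodule.Quotient.mk_smul, Submodule.Quotient.mk_eq_zero, smul_eq_mul]
    exact Ideal.mul_mem_right _ _ hr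
  have h1 : r • y = (Ext.mk₀ (r • 𝟙 (Q a))).comp y (zero_add i) := by
    rw [Ext.mk₀_smul, Ext.smul_comp, Ext.mk₀_id_comp]
  rw [h1, h0, Ext.mk₀_zero, Ext.zero_comp]

/-- every element of `H^i_T(M)` is killed by an ideal with zero locus in `T`. -/
lemma HHT.exists_smul_eq_zero {M : ModuleCat.{u} R} (i : ℕ) (x : HHT T M i) :
    ∃ a : Idx T, ∀ r ∈ a.J, r • x = 0 := by
  obtain ⟨a, y, rfl⟩ := HHT.exists_of T M i x
  exact ⟨a, fun r hr => by rw [← map_smul, smul_ext_eq_zero T i a y r hr, map_zero]⟩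

end Groth.Agent.Lib.Helper20.HTModel
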