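import Groth.Agent.Lib.Helper20.HTTors

/-!
# Finiteness of `H^i_T(M)` for `i ≤ n` iff annihilated by an ideal with zero locus in `T`
-/

set_option autoImplicit false
set_option linter.style.haveILetI false
set_option linter.unusedSectionVars false
set_option linter.unusedVariables false
set_option maxHeartbeats 400000

open CategoryTheory Limits Opposite Abelian

universe u

namespace Groth.Agent.Lib.Helper20.HTModel

variable {R : Type u} [CommRing R] (T : Set (PrimeSpectrum R))

lemma Idx.mem_inf_left {a b : Idx T} {r : R} (hr : r ∈ (a.inf b).J) : r ∈ a.J :=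
  (Submodule.mem_inf.1 hr).1

lemma Idx.mem_inf_right {a b : Idx T} {r : R} (hr : r ∈ (a.inf b).J) : r ∈ b.J :=
  (Submodule.mem_inf.1 hr).2

lemma Idx.mul_J (a b : Idx T) : (a.mul b).J = a.J * b.J := rfl

section gamma

variable (M : Type u) [AddCommGroup M] [Module R M]

/-- the `T`-torsion submodule. -/
def gammaT : Submodule R M where
  carrier := {m | ∃ a : Idx T, ∀ r ∈ a.J, r • m = 0}
  zero_mem' := ⟨Classical.arbitrary _, fun r _ => smul_zero r⟩
  add_mem' := by
    rintro x y ⟨a, ha⟩ ⟨b, hb⟩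
    exact ⟨a.inf b, fun r hr => by
      rw [smul_add, ha r (Idx.mem_inf_left T hr), hb r (Idx.mem_inf_right T hr), add_zero]⟩
  smul_mem' := by
    rintro c x ⟨a, ha⟩
    exact ⟨a, fun r hr => by rw [smul_comm, ha r hr, smul_zero]⟩

lemma mem_gammaT {m : M} : m ∈ gammaT T M ↔ ∃ a : Idx T, ∀ r ∈ a.J, r • m = 0 := Iff.rfl

lemma exists_idx_of_fg (N : Submodule R M) (hN : N.FG) (h : N ≤ gammaT T M) :
    ∃ a : Idx T, ∀ r ∈ a.J, ∀ x ∈ N, r • x = 0 := by
  classical
  obtain ⟨s, rfl⟩ := hN
  have h1 : ∃ a : Idx T, ∀ y ∈ s, ∀ r ∈ a.J, r • y = 0 := by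
    induction s using Finset.induction_on with
    | empty => exact ⟨Classical.arbitrary _, fun y hy => absurd hy (Finset.notMem_empty y)⟩
    | insert y s hy ih =>
      have hs : Submodule.span R (s : Set M) ≤ gammaT T M :=
        (Submodule.span_mono (by
          intro z hz
          exact Finset.mem_insert_of_mem hz)).trans h
      obtain ⟨a, ha⟩ := ih hs
      obtain ⟨b, hb⟩ := h (Submodule.subset_span (Finset.mem_insert_self y s))
      refine ⟨a.inf b, fun z hz r hr => ?_⟩
      rcases Finset.mem_insert.1 hz with rfl | hz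
      · exact hb r (Idx.mem_inf_right T hr)
      · exact ha z hz r (Idx.mem_inf_left T hr)
  obtain ⟨a, ha⟩ := h1
  refine ⟨a, fun r hr x hx => ?_⟩
  induction hx using Submodule.span_induction with
  | mem y hy => exact ha y hy r hr
  | zero => exact smul_zero r
  | add y z _ _ hy hz => rw [smul_add, hy, hz, add_zero]
  | smul c y _ hy => rw [smul_comm, hy, smul_zero]

lemma exists_idx_gammaT [IsNoetherian R M] :
    ∃ a : Idx T, ∀ r ∈ a.J, ∀ x ∈ gammaT T M, r • x = 0 :=
  exists_idx_of_fg T M (gammaT T M) (IsNoetherian.noetherian _) le_rfl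

lemma HHT0_mem_gammaT (x : HHT T (ModuleCat.of R M) 0) :
    HHT0 T (ModuleCat.of R M) x ∈ gammaT T M :=
  HHT0_mem T (ModuleCat.of R M) x

lemma finite_HHT0 [IsNoetherian R M] : Module.Finite R (HHT T (ModuleCat.of R M) 0) :=
  Module.Finite.of_injective (HHT0 T (ModuleCat.of R M)) (HHT0_injective T _)

lemma subsingleton_HHT0 (h : gammaT T M = ⊥) : Subsingleton (HHT T (ModuleCat.of R M) 0) := by
  refine ⟨fun p q => ?_⟩
  have key : ∀ x : HHT T (ModuleCat.of R M) 0, x = 0 := by
    intro x
    apply HHT0_injective T (ModuleCat.of R M)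
    have := HHT0_mem_gammaT T M x
    rw [h, Submodule.mem_bot] at this
    rw [this, map_zero]
  rw [key p, key q]

lemma gammaT_quotient_eq_bot [IsNoetherian R M] : gammaT T (M ⧸ gammaT T M) = ⊥ := by
  obtain ⟨a₀, ha₀⟩ := exists_idx_gammaT T M
  rw [eq_bot_iff]
  rintro x ⟨a, ha⟩
  obtain ⟨m, rfl⟩ := Submodule.mkQ_surjective _ x
  rw [Submodule.mem_bot, Submodule.mkQ_apply, Submodule.Quotient.mk_eq_zero]
  refine ⟨a.mul a₀, fun t ht => ?_⟩
  rw [Idx.mul_J] at ht
  refine Submodule.mul_induction_on ht ?_ ?_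
  · intro r hr s hs
    have h1 : r • m ∈ gammaT T M := by
      have := ha r hr
      rwa [Submodule.mkQ_apply, ← Submodule.Quotient.mk_smul, Submodule.Quotient.mk_eq_zero] at this
    rw [mul_comm, mul_smul]
    exact ha₀ s hs _ h1
  · intro u v hu hv
    rw [add_smul, hu, hv, add_zero]

lemma exists_regular [IsNoetherianRing R] [Module.Finite R M] (h : gammaT T M = ⊥) (a : Idx T) :
    ∃ x ∈ a.J, IsSMulRegular M x := by
  cases subsingleton_or_nontrivial M
  · exact ⟨0, a.J.zero_mem, IsSMulRegular.zero⟩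
  · by_contra! h'
    have hexist : ∃ p ∈ associatedPrimes R M, a.J ≤ p := by
      rcases associatedPrimes.nonempty R M with ⟨Ia, hIa⟩
      apply (Ideal.subset_union_prime_finite (associatedPrimes.finite R M) Ia Ia _).mp
      · rw [biUnion_associatedPrimes_eq_compl_regular R M]
        exact fun r hr ↦ h' r hr
      · exact fun I hin _ _ ↦ IsAssociatedPrime.isPrime hin
    obtain ⟨p, hp, hap⟩ := hexist
    obtain ⟨hprime, x, hx⟩ := isAssociatedPrime_iff.mp hp
    have hx0 : x ∈ gammaT T M := ⟨a, fun r hr => by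
      have : r ∈ (⊥ : Submodule R M).colon {x} := hx ▸ hap hr
      rwa [Submodule.mem_colon_singleton, Submodule.mem_bot] at this⟩
    rw [h, Submodule.mem_bot] at hx0
    apply hprime.ne_top
    rw [hx, hx0, eq_top_iff]
    intro r _
    rw [Submodule.mem_colon_singleton, smul_zero]
    exact Submodule.zero_mem _

end gamma

end Groth.Agent.Lib.Helper20.HTModel
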