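import Groth.Prelude.Def_DualLC
import Groth.Agent.Lib.Helper4.LCBridge

/-!
# A direct-limit model of local cohomology with supports in a subset `T`

`HHT T M i` is the direct limit over the ideals `J` with `V(J) ⊆ T` of `Abelian.Ext (R ⧸ J) M i`;
`htEquiv T M i : Dual2.HT T i M ≃ₗ[R] HHT T M i` is natural in `M` (`htEquiv_map`).
-/

set_option autoImplicit false
set_option linter.style.haveILetI false
set_option linter.unusedSectionVars false
set_option linter.unusedVariables false
set_option maxHeartbeats 400000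

open CategoryTheory Limits Opposite Abelian

universe u

namespace Groth.Agent.Lib.Helper20.HTModel

open Groth.Agent.Lib.Helper4.LCBridge

variable {R : Type u} [CommRing R]

/-- the index set: ideals with zero locus in `T`, ordered by reverse inclusion. -/
structure Idx (T : Set (PrimeSpectrum R)) where
  J : Ideal R
  hJ : PrimeSpectrum.zeroLocus (J : Set R) ⊆ T

instance (T : Set (PrimeSpectrum R)) : Preorder (Idx T) where
  le a b := b.J ≤ a.J
  le_refl a := le_refl a.J
  le_trans _ _ _ h h' := le_trans h' h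

noncomputable instance (T : Set (PrimeSpectrum R)) : DecidableEq (Idx T) := Classical.decEq _

lemma Idx.le_def {T : Set (PrimeSpectrum R)} (a b : Idx T) : a ≤ b ↔ b.J ≤ a.J := Iff.rfl

instance (T : Set (PrimeSpectrum R)) : Nonempty (Idx T) :=
  ⟨⟨⊤, by
    intro p hp
    exfalso
    rw [PrimeSpectrum.mem_zeroLocus] at hp
    exact p.2.ne_top (eq_top_iff.2 hp)⟩⟩

/-- the infimum of two indices. -/
def Idx.inf {T : Set (PrimeSpectrum R)} (a b : Idx T) : Idx T :=
  ⟨a.J ⊓ b.J, by
    rw [PrimeSpectrum.zeroLocus_inf]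
    exact Set.union_subset a.hJ b.hJ⟩

/-- the product of two indices. -/
def Idx.mul {T : Set (PrimeSpectrum R)} (a b : Idx T) : Idx T :=
  ⟨a.J * b.J, by
    rw [PrimeSpectrum.zeroLocus_mul]
    exact Set.union_subset a.hJ b.hJ⟩

/-- powers of an index. -/
def Idx.pow {T : Set (PrimeSpectrum R)} (a : Idx T) (n : ℕ) (hn : 0 < n) : Idx T :=
  ⟨a.J ^ n, by
    rw [PrimeSpectrum.zeroLocus_pow _ hn.ne']
    exact a.hJ⟩

instance (T : Set (PrimeSpectrum R)) : IsDirected (Idx T) (· ≤ ·) :=
  ⟨fun a b => ⟨a.inf b, (inf_le_left : a.J ⊓ b.J ≤ a.J), (inf_le_right : a.J ⊓ b.J ≤ b.J)⟩⟩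

/-- `R ⧸ J` as an object. -/
abbrev Q {T : Set (PrimeSpectrum R)} (a : Idx T) : ModuleCat.{u} R := ModuleCat.of R (R ⧸ a.J)

/-- the transition map `R ⧸ J_b ⟶ R ⧸ J_a` for `a ≤ b`. -/
def qmap {T : Set (PrimeSpectrum R)} {a b : Idx T} (h : a ≤ b) : Q b ⟶ Q a :=
  ModuleCat.ofHom (Submodule.mapQ b.J a.J LinearMap.id h)

lemma qmap_apply {T : Set (PrimeSpectrum R)} {a b : Idx T} (h : a ≤ b) (r : R) :
    (qmap h).hom (Submodule.Quotient.mk r) = Submodule.Quotient.mk r := rfl

lemma qmap_refl {T : Set (PrimeSpectrum R)} (a : Idx T) : qmap (le_refl a) = 𝟙 (Q a) := by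
  apply ModuleCat.hom_ext
  apply LinearMap.ext
  intro x
  obtain ⟨x, rfl⟩ := Submodule.Quotient.mk_surjective _ x
  rfl

lemma qmap_comp {T : Set (PrimeSpectrum R)} {a b c : Idx T} (h : a ≤ b) (h' : b ≤ c) :
    qmap h' ≫ qmap h = qmap (h.trans h') := by
  apply ModuleCat.hom_ext
  apply LinearMap.ext
  intro x
  obtain ⟨x, rfl⟩ := Submodule.Quotient.mk_surjective _ x
  rfl

/-- the object of the indexing category of the diagram attached to an index. -/
def toObj {T : Set (PrimeSpectrum R)} (a : Idx T) : (Dual2.IdealsIn T)ᵒᵖ :=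
  op (⟨a.J, a.hJ⟩ : ObjectProperty.FullSubcategory
    fun J : Ideal R => PrimeSpectrum.zeroLocus (J : Set R) ⊆ T)

/-- the index attached to an object of the indexing category. -/
def ofObj {T : Set (PrimeSpectrum R)} (j : (Dual2.IdealsIn T)ᵒᵖ) : Idx T :=
  ⟨(unop j).obj, (unop j).property⟩

lemma toObj_ofObj {T : Set (PrimeSpectrum R)} (j : (Dual2.IdealsIn T)ᵒᵖ) : toObj (ofObj j) = j :=
  rfl

/-- the morphism of the indexing category attached to an inequality. -/
def homOf {T : Set (PrimeSpectrum R)} {a b : Idx T} (h : a ≤ b) : toObj a ⟶ toObj b :=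
  (ObjectProperty.homMk (homOfLE h) :
    (⟨b.J, b.hJ⟩ : ObjectProperty.FullSubcategory
      fun J : Ideal R => PrimeSpectrum.zeroLocus (J : Set R) ⊆ T) ⟶ ⟨a.J, a.hJ⟩).op

lemma le_of_hom {T : Set (PrimeSpectrum R)} {j j' : (Dual2.IdealsIn T)ᵒᵖ} (w : j ⟶ j') :
    ofObj j ≤ ofObj j' :=
  leOfHom w.unop.hom

lemma qmap_eq {T : Set (PrimeSpectrum R)} {a b : Idx T} (h : a ≤ b) :
    qmap h = (localCohomology.ringModIdeals (Dual2.idealsInDiagram T)).map (homOf h).unop := rfl

section

variable (T : Set (PrimeSpectrum R)) (M : ModuleCat.{u} R) (i : ℕ)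

/-- transition maps of the system `J ↦ Ext^i(R ⧸ J, M)`. -/
noncomputable def tr {a b : Idx T} (h : a ≤ b) : Ext.{u} (Q a) M i →ₗ[R] Ext.{u} (Q b) M i :=
  Ext.precompOfLinear (Ext.mk₀ (qmap h)) R M (zero_add i)

lemma tr_apply {a b : Idx T} (h : a ≤ b) (x : Ext.{u} (Q a) M i) :
    tr T M i h x = (Ext.mk₀ (qmap h)).comp x (zero_add i) := rfl

/-- the transition maps as a family. -/
noncomputable def trF : ∀ a b : Idx T, a ≤ b → Ext.{u} (Q a) M i →ₗ[R] Ext.{u} (Q b) M i :=
  fun _ _ h => tr T M i h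

instance : DirectedSystem (fun a : Idx T => Ext.{u} (Q a) M i) (trF T M i · · ·) where
  map_self a x := by
    change (Ext.mk₀ (qmap (le_refl a))).comp x (zero_add i) = x
    rw [qmap_refl, Ext.mk₀_id_comp]
  map_map k j n hnj hjk x := by
    change (Ext.mk₀ (qmap hjk)).comp ((Ext.mk₀ (qmap hnj)).comp x (zero_add i)) (zero_add i) =
      (Ext.mk₀ (qmap (hnj.trans hjk))).comp x (zero_add i)
    rw [Ext.mk₀_comp_mk₀_assoc, qmap_comp]

/-- The direct-limit model of `H^i_T(M)`. -/
abbrev HHT : Type u := Module.DirectLimit (fun a : Idx T => Ext.{u} (Q a) M i) (trF T M i)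

/-- the canonical maps to the direct limit. -/
noncomputable def HHT.of (a : Idx T) : Ext.{u} (Q a) M i →ₗ[R] HHT T M i :=
  Module.DirectLimit.of R (Idx T) (fun a : Idx T => Ext.{u} (Q a) M i) (trF T M i) a

lemma HHT.of_tr {a b : Idx T} (h : a ≤ b) (y : Ext.{u} (Q a) M i) :
    HHT.of T M i b (tr T M i h y) = HHT.of T M i a y :=
  Module.DirectLimit.of_f (f := trF T M i) (hij := h) (x := y)

lemma HHT.exists_of (x : HHT T M i) : ∃ a y, HHT.of T M i a y = x :=
  Module.DirectLimit.exists_of x

lemma HHT.of_eq_zero_iff {a : Idx T} (y : Ext.{u} (Q a) M i) :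
    HHT.of T M i a y = 0 ↔ ∃ b, ∃ h : a ≤ b, tr T M i h y = 0 := by
  constructor
  · intro h
    obtain ⟨m, hm, h0⟩ := Module.DirectLimit.of.zero_exact (f := trF T M i) h
    exact ⟨m, hm, h0⟩
  · rintro ⟨m, h, h0⟩
    rw [← HHT.of_tr T M i h, h0, map_zero]

end

section map

variable (T : Set (PrimeSpectrum R)) {M M' M'' : ModuleCat.{u} R} (g : M ⟶ M') (i : ℕ)

/-- postcomposition with `g` on the stage `a`. -/
noncomputable def postF (a : Idx T) : Ext.{u} (Q a) M i →ₗ[R] Ext.{u} (Q a) M' i :=
  Ext.postcompOfLinear (Ext.mk₀ g) R (Q a) (add_zero i)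

lemma postF_apply (a : Idx T) (x : Ext.{u} (Q a) M i) :
    postF T g i a x = x.comp (Ext.mk₀ g) (add_zero i) := rfl

lemma postF_comm (a b : Idx T) (h : a ≤ b) :
    postF T g i b ∘ₗ trF T M i a b h = trF T M' i a b h ∘ₗ postF T g i a := by
  apply LinearMap.ext
  intro x
  change ((Ext.mk₀ (qmap h)).comp x (zero_add i)).comp (Ext.mk₀ g) (add_zero i) =
    (Ext.mk₀ (qmap h)).comp (x.comp (Ext.mk₀ g) (add_zero i)) (zero_add i)
  rw [Ext.comp_assoc_of_third_deg_zero]

/-- functoriality of `HHT` in the module. -/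
noncomputable def HHT.map : HHT T M i →ₗ[R] HHT T M' i :=
  Module.DirectLimit.map (f := trF T M i) (f' := trF T M' i) (postF T g i) (postF_comm T g i)

lemma HHT.map_of (a : Idx T) (y : Ext.{u} (Q a) M i) :
    HHT.map T g i (HHT.of T M i a y) = HHT.of T M' i a (y.comp (Ext.mk₀ g) (add_zero i)) :=
  Module.DirectLimit.map_apply_of (f := trF T M i) (f' := trF T M' i) (postF T g i)
    (postF_comm T g i) y

end map

section equiv

variable (T : Set (PrimeSpectrum R)) (M : ModuleCat.{u} R) (i : ℕ)

/-- the diagram defining local cohomology with supports in `T`. -/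
noncomputable abbrev diag : (Dual2.IdealsIn T)ᵒᵖ ⥤ ModuleCat.{u} R ⥤ ModuleCat.{u} R :=
  localCohomology.diagram (Dual2.idealsInDiagram T) i

/-- evaluation of the colimit cocone at `M` is a colimit. -/
noncomputable def evalColimit :
    IsColimit (((evaluation _ _).obj M).mapCocone (colimit.cocone (diag T i))) :=
  isColimitOfPreserves _ (colimit.isColimit _)

/-- the structure map `Ext^i_old(R/J, M) → H^i_T(M)`. -/
noncomputable def htι (a : Idx T) :
    (((Ext R (ModuleCat.{u} R) i).obj (op (Q a))).obj M) →ₗ[R] Dual2.HT T i M :=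
  ((colimit.ι (diag T i) (toObj a)).app M).hom

lemma htι_comp {a b : Idx T} (h : a ≤ b)
    (x : ((Ext R (ModuleCat.{u} R) i).obj (op (Q a))).obj M) :
    htι T M i b ((((Ext R (ModuleCat.{u} R) i).map (qmap h).op).app M).hom x) = htι T M i a x := by
  have hw := colimit.w (diag T i) (homOf h)
  have := congrArg (fun f => (f.app M).hom x) hw
  exact this

/-- the cocone with vertex `HHT`. -/
noncomputable def toHHTCocone : Cocone (diag T i ⋙ (evaluation _ _).obj M) where
  pt := ModuleCat.of R (HHT T M i)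
  ι :=
    { app := fun j => ModuleCat.ofHom
        (HHT.of T M i (ofObj j) ∘ₗ (extBridge.{u, u, u + 1, u} (Q (ofObj j)) M i).toLinearMap)
      naturality := fun j j' w => by
        apply ModuleCat.hom_ext
        apply LinearMap.ext
        intro x
        have hle : ofObj j ≤ ofObj j' := le_of_hom w
        have h1 := extBridge_map_left.{u, u, u + 1, u} (R := R) (qmap hle) M i x
        change HHT.of T M i (ofObj j') (extBridge.{u, u, u + 1, u} (Q (ofObj j')) M i
          ((((Ext R (ModuleCat.{u} R) i).map (qmap hle).op).app M).hom x)) =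
          HHT.of T M i (ofObj j) (extBridge.{u, u, u + 1, u} (Q (ofObj j)) M i x)
        rw [h1]
        exact HHT.of_tr T M i hle _ }

/-- the comparison map to the model. -/
noncomputable def toHHT : Dual2.HT T i M →ₗ[R] HHT T M i :=
  ((evalColimit T M i).desc (toHHTCocone T M i)).hom

lemma toHHT_htι (a : Idx T) (x : ((Ext R (ModuleCat.{u} R) i).obj (op (Q a))).obj M) :
    toHHT T M i (htι T M i a x) = HHT.of T M i a (extBridge.{u, u, u + 1, u} (Q a) M i x) := by
  have h := (evalColimit T M i).fac (toHHTCocone T M i) (toObj a)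
  have := congrArg (fun f => f.hom x) h
  exact this

/-- the leg at `a` of the comparison map from the model. -/
noncomputable def fromLeg (a : Idx T) : Ext.{u} (Q a) M i →ₗ[R] Dual2.HT T i M :=
  htι T M i a ∘ₗ (extBridge.{u, u, u + 1, u} (R := R) (Q a) M i).symm.toLinearMap

lemma fromLeg_apply (a : Idx T) (y : Ext.{u} (Q a) M i) :
    fromLeg T M i a y = htι T M i a ((extBridge.{u, u, u + 1, u} (R := R) (Q a) M i).symm y) :=
  rfl

lemma fromLeg_comm (a b : Idx T) (h : a ≤ b) (y : Ext.{u} (Q a) M i) :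
    fromLeg T M i b (trF T M i a b h y) = fromLeg T M i a y := by
  obtain ⟨x, rfl⟩ := (extBridge.{u, u, u + 1, u} (R := R) (Q a) M i).surjective y
  have h1 := extBridge_map_left.{u, u, u + 1, u} (R := R) (qmap h) M i x
  rw [fromLeg_apply, fromLeg_apply, LinearEquiv.symm_apply_apply]
  have h2 : trF T M i a b h (extBridge.{u, u, u + 1, u} (R := R) (Q a) M i x) =
      extBridge.{u, u, u + 1, u} (R := R) (Q b) M i
        ((((Ext R (ModuleCat.{u} R) i).map (qmap h).op).app M).hom x) := h1.symm
  rw [h2, LinearEquiv.symm_apply_apply]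
  exact htι_comp T M i h x

/-- the comparison map from the model. -/
noncomputable def fromHHT : HHT T M i →ₗ[R] Dual2.HT T i M :=
  Module.DirectLimit.lift R (Idx T) (fun a : Idx T => Ext.{u} (Q a) M i) (trF T M i)
    (fromLeg T M i) (fromLeg_comm T M i)

lemma fromHHT_of (a : Idx T) (y : Ext.{u} (Q a) M i) :
    fromHHT T M i (HHT.of T M i a y) =
      htι T M i a ((extBridge.{u, u, u + 1, u} (R := R) (Q a) M i).symm y) :=
  Module.DirectLimit.lift_of (f := trF T M i) (fromLeg T M i) (fromLeg_comm T M i) y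

lemma ht_hom_ext {W : Type u} [AddCommGroup W] [Module R W]
    (f g : Dual2.HT T i M →ₗ[R] W)
    (h : ∀ a x, f (htι T M i a x) = g (htι T M i a x)) : f = g := by
  have key := (evalColimit T M i).hom_ext (W := ModuleCat.of R W)
    (f := (ModuleCat.ofHom f :
      (((evaluation _ _).obj M).mapCocone (colimit.cocone (diag T i))).pt ⟶ ModuleCat.of R W))
    (f' := (ModuleCat.ofHom g :
      (((evaluation _ _).obj M).mapCocone (colimit.cocone (diag T i))).pt ⟶ ModuleCat.of R W))
    (fun j => by
      apply ModuleCat.hom_ext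
      apply LinearMap.ext
      intro x
      exact h (ofObj j) x)
  exact congrArg ModuleCat.Hom.hom key

/-- **The comparison isomorphism** between `Dual2.HT` and the model. -/
noncomputable def htEquiv : Dual2.HT T i M ≃ₗ[R] HHT T M i :=
  LinearEquiv.ofLinearMap (toHHT T M i) (fromHHT T M i)
    (by
      apply Module.DirectLimit.hom_ext
      intro a
      apply LinearMap.ext
      intro y
      change toHHT T M i (fromHHT T M i (HHT.of T M i a y)) = HHT.of T M i a y
      rw [fromHHT_of, toHHT_htι, LinearEquiv.apply_symm_apply])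
    (by
      apply ht_hom_ext
      intro a x
      change fromHHT T M i (toHHT T M i (htι T M i a x)) = htι T M i a x
      rw [toHHT_htι, fromHHT_of, LinearEquiv.symm_apply_apply])

lemma htEquiv_htι (a : Idx T) (x : ((Ext R (ModuleCat.{u} R) i).obj (op (Q a))).obj M) :
    htEquiv T M i (htι T M i a x) =
      HHT.of T M i a (extBridge.{u, u, u + 1, u} (R := R) (Q a) M i x) :=
  toHHT_htι T M i a x

end equiv

section nat

variable (T : Set (PrimeSpectrum R)) {M M' : ModuleCat.{u} R} (g : M ⟶ M') (i : ℕ)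

lemma htι_map (a : Idx T) (x : ((Ext R (ModuleCat.{u} R) i).obj (op (Q a))).obj M) :
    ((localCohomology.ofDiagram (Dual2.idealsInDiagram T) i).map g).hom (htι T M i a x) =
      htι T M' i a ((((Ext R (ModuleCat.{u} R) i).obj (op (Q a))).map g).hom x) := by
  have h := (colimit.ι (diag T i) (toObj a)).naturality g
  have := congrArg (fun f => f.hom x) h
  exact this.symm

/-- naturality of the comparison isomorphism. -/
lemma htEquiv_map (x : Dual2.HT T i M) :
    htEquiv T M' i (((localCohomology.ofDiagram (Dual2.idealsInDiagram T) i).map g).hom x) =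
      HHT.map T g i (htEquiv T M i x) := by
  have key : (htEquiv T M' i).toLinearMap ∘ₗ
      ((localCohomology.ofDiagram (Dual2.idealsInDiagram T) i).map g).hom =
      HHT.map T g i ∘ₗ (htEquiv T M i).toLinearMap := by
    apply ht_hom_ext
    intro a x
    change htEquiv T M' i (((localCohomology.ofDiagram (Dual2.idealsInDiagram T) i).map g).hom
      (htι T M i a x)) = HHT.map T g i (htEquiv T M i (htι T M i a x))
    rw [htι_map, htEquiv_htι, htEquiv_htι, HHT.map_of,
      extBridge_map_right.{u, u, u + 1, u} (R := R) (Q a) g i x]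
  exact congrArg (fun f => f x) key

end nat

end Groth.Agent.Lib.Helper20.HTModel
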