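import Groth.Agent.Lib.Helper20.HTLes
import Groth.Agent.Lib.Helper4.LC2

/-!
# Vanishing of `H^i_T` (i > 0) on modules killed by an ideal with zero locus in `T`
-/

set_option autoImplicit false
set_option linter.style.haveILetI false
set_option linter.unusedSectionVars false
set_option linter.unusedVariables false
set_option maxHeartbeats 400000

open CategoryTheory Limits Opposite Abelian

universe u

namespace Groth.Agent.Lib.Helper20.HTModel

open Groth.Agent.Lib.Helper4

variable {R : Type u} [CommRing R] (T : Set (PrimeSpectrum R))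

/-- **Torsion modules are acyclic** for local cohomology with supports in `T`. -/
theorem HHT.subsingleton_of_torsion [IsNoetherianRing R] (N : Type u) [AddCommGroup N]
    [Module R N] (a₀ : Idx T) (hN : ∀ r ∈ a₀.J, ∀ x : N, r • x = 0) (i : ℕ) :
    Subsingleton (HHT T (ModuleCat.of R N) (i + 1)) := by
  refine ⟨fun p q => ?_⟩
  have key : ∀ x : HHT T (ModuleCat.of R N) (i + 1), x = 0 := by
    intro x
    obtain ⟨a, y, rfl⟩ := HHT.exists_of T (ModuleCat.of R N) (i + 1) x
    -- the product ideal
    have hcJ : (a.mul a₀).J = a.J * a₀.J := rfl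
    have hK : LocCoh.IsPowerTorsion (a.mul a₀).J N := by
      intro x
      refine ⟨1, fun r hr => ?_⟩
      rw [pow_one, hcJ] at hr
      exact hN r (Ideal.mul_le_right hr) x
    have hsub := LC.HH.subsingleton_of_isPowerTorsion (a.mul a₀).J i N hK
    have hle1 : a ≤ (a.mul a₀).pow 1 one_pos := by
      change (a.mul a₀).J ^ 1 ≤ a.J
      rw [pow_one, hcJ]
      exact Ideal.mul_le_left
    have h0 : LC.HH.of (a.mul a₀).J (ModuleCat.of R N) (i + 1) 1
        (tr T (ModuleCat.of R N) (i + 1) hle1 y) = 0 := Subsingleton.elim _ _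
    rw [LC.HH.of_eq_zero_iff] at h0
    obtain ⟨m, hm, h1⟩ := h0
    have hlem : (a.mul a₀).pow 1 one_pos ≤ (a.mul a₀).pow m (by omega) := by
      change (a.mul a₀).J ^ m ≤ (a.mul a₀).J ^ 1
      exact Ideal.pow_le_pow_right hm
    have h2 : tr T (ModuleCat.of R N) (i + 1) hlem (tr T (ModuleCat.of R N) (i + 1) hle1 y) = 0 :=
      h1
    rw [← HHT.of_tr T (ModuleCat.of R N) (i + 1) hle1, ← HHT.of_tr T (ModuleCat.of R N) (i + 1) hlem,
      h2, map_zero]
  rw [key p, key q]

end Groth.Agent.Lib.Helper20.HTModel
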