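import Mathlib

/-!
# Linear algebra over a domain for the Hilbert–Burch degree inequalities (helper20)
-/

set_option autoImplicit false
set_option linter.unusedSectionVars false
set_option linter.unusedVariables false

universe u

open Matrix

namespace Groth.Agent.Lib.Helper20.HilbBurchLin

variable {S : Type u} [CommRing S] {I J : Type} [Fintype I] [Fintype J] [DecidableEq I]
  [DecidableEq J]

/-- extension by zero. -/
def ext0 (PJ : J → Prop) [DecidablePred PJ] (v : {j // PJ j} → S) : J → S :=
  fun j => if h : PJ j then v ⟨j, h⟩ else 0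

theorem ext0_apply_of_mem (PJ : J → Prop) [DecidablePred PJ] (v : {j // PJ j} → S)
    (j : {j // PJ j}) : ext0 PJ v j.1 = v j := by
  unfold ext0
  rw [dif_pos j.2]

theorem sum_ext0 (PJ : J → Prop) [DecidablePred PJ] (v : {j // PJ j} → S) (c : J → S) :
    ∑ j, c j * ext0 PJ v j = ∑ j : {j // PJ j}, c j.1 * v j := by
  classical
  have h1 : ∑ j, c j * ext0 PJ v j = ∑ j ∈ Finset.univ.filter PJ, c j * ext0 PJ v j := by
    symm
    apply Finset.sum_subset (Finset.filter_subset _ _)
    intro j _ hj
    have hj' : ¬ PJ j := by simpa using hj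
    unfold ext0
    rw [dif_neg hj', mul_zero]
  rw [h1, Finset.sum_subtype (Finset.univ.filter PJ) (p := PJ) (by simp)]
  apply Finset.sum_congr rfl
  intro j _
  rw [ext0_apply_of_mem]

variable (D : Matrix I J S) (PI : I → Prop) (PJ : J → Prop) [DecidablePred PI] [DecidablePred PJ]
  (hz : ∀ i j, ¬ PI i → PJ j → D i j = 0)

include hz in
theorem mulVec_ext0_eq_zero (v : {j // PJ j} → S)
    (hv : (D.submatrix (Subtype.val : {i // PI i} → I) (Subtype.val : {j // PJ j} → J)) *ᵥ v = 0) :
    D *ᵥ ext0 PJ v = 0 := by
  funext i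
  show ∑ j, D i j * ext0 PJ v j = 0
  rw [sum_ext0]
  by_cases hi : PI i
  · have := congrFun hv ⟨i, hi⟩
    exact this
  · apply Finset.sum_eq_zero
    intro j _
    rw [hz i j.1 hi j.2, zero_mul]

include hz in
theorem sub_mulVec_injective (hinj : Function.Injective D.mulVecLin) :
    Function.Injective
      (D.submatrix (Subtype.val : {i // PI i} → I) (Subtype.val : {j // PJ j} → J)).mulVecLin := by
  rw [← LinearMap.ker_eq_bot, LinearMap.ker_eq_bot']
  intro v hv
  have h1 : D.mulVecLin (ext0 PJ v) = 0 := mulVec_ext0_eq_zero D PI PJ hz v hv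
  have h2 : ext0 PJ v = 0 := by
    apply hinj
    rw [h1, map_zero]
  funext j
  rw [← ext0_apply_of_mem PJ v j, h2]
  rfl

include hz in
/-- a zero block forces an inequality of cardinalities. -/
theorem card_le [Nontrivial S] (hinj : Function.Injective D.mulVecLin) :
    Fintype.card {j // PJ j} ≤ Fintype.card {i // PI i} :=
  card_le_of_injective S _ (sub_mulVec_injective D PI PJ hz hinj)

include hz in
/-- a zero block with a square complementary block forces the row relations to vanish. -/
theorem row_eq_zero [IsDomain S] (g : I → S) (hg : g ᵥ* D = 0)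
    (hinj : Function.Injective D.mulVecLin) (e : {j // PJ j} ≃ {i // PI i}) (i : I) (hi : PI i) :
    g i = 0 := by
  classical
  set B := D.submatrix (Subtype.val : {i // PI i} → I) (Subtype.val : {j // PJ j} → J) with hB
  set B' : Matrix {i // PI i} {i // PI i} S := B.submatrix id e.symm with hB'
  have hBinj := sub_mulVec_injective D PI PJ hz hinj
  have hdet : B'.det ≠ 0 := by
    intro h0
    obtain ⟨v, hv0, hv⟩ := (Matrix.exists_mulVec_eq_zero_iff (M := B')).2 h0
    apply hv0
    have h1 : B *ᵥ (v ∘ e) = 0 := by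
      funext i'
      have h3 : ∑ i'', B i' (e.symm i'') * v i'' = 0 := congrFun hv i'
      show ∑ j, B i' j * v (e j) = 0
      rw [← h3, ← Equiv.sum_comp e]
      apply Finset.sum_congr rfl
      intro j _
      rw [Equiv.symm_apply_apply]
    have h2 : v ∘ e = 0 := by
      apply hBinj
      show B *ᵥ (v ∘ e) = B.mulVecLin 0
      rw [h1, map_zero]
    funext i'
    have := congrFun h2 (e.symm i')
    simpa using this
  have hγ : (fun i' : {i // PI i} => g i'.1) ᵥ* B' = 0 := by
    funext i'
    show ∑ i'' : {i // PI i}, g i''.1 * B i'' (e.symm i') = 0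
    have h1 := congrFun hg (e.symm i').1
    have h2 : (g ᵥ* D) (e.symm i').1 = ∑ i'', g i'' * D i'' (e.symm i').1 := rfl
    rw [h2] at h1
    have h3 : ∑ i'', g i'' * D i'' (e.symm i').1 =
        ∑ i'' ∈ Finset.univ.filter PI, g i'' * D i'' (e.symm i').1 := by
      symm
      apply Finset.sum_subset (Finset.filter_subset _ _)
      intro i'' _ hi''
      have hi3 : ¬ PI i'' := by simpa using hi''
      rw [hz i'' _ hi3 (e.symm i').2, mul_zero]
    rw [h3, Finset.sum_subtype (Finset.univ.filter PI) (p := PI) (by simp)] at h1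
    exact h1
  have := Matrix.eq_zero_of_vecMul_eq_zero hdet hγ
  exact congrFun this ⟨i, hi⟩

end Groth.Agent.Lib.Helper20.HilbBurchLin
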