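import Mathlib
import Groth.Prelude.Def_GrLC
import Groth.Prelude.Def_GrSyz
import Groth.Agent.Lib.Helper20.HilbBurchLin
import Groth.Agent.Lib.Helper22.GrMinRes

/-!
# Degree inequalities in a minimal resolution of length two (Hilbert–Burch shape) (helper20)
-/

set_option autoImplicit false
set_option linter.unusedSectionVars false
set_option linter.unusedVariables false

universe u

open Matrix Groth.Agent.Lib.Helper20.HilbBurchLin

namespace Groth.Agent.Lib.Helper20.HilbBurchDeg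

variable (k : Type u) [Field k] (r : ℕ)
  {M : Type u} [AddCommGroup M] [Module k M] [Module (MvPolynomial (Fin (r + 1)) k) M]
  [IsScalarTower k (MvPolynomial (Fin (r + 1)) k) M]
  (ℳ : ℤ → Submodule k M) [DirectSum.Decomposition ℳ]
  [SetLike.GradedSMul (GrSyz.stdGr k (Fin (r + 1))) ℳ]
  (F : GrSyz.FreeRes (GrSyz.stdGr k (Fin (r + 1))) ℳ)
  (hF : F.IsMinimal (GrSyz.irrel (GrSyz.stdGr k (Fin (r + 1)))).toIdeal)
  (hlen : F.HasLengthLE 2)

include hlen in
theorem d1_injective : Function.Injective (Matrix.mulVecLin (F.d 1)) := by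
  rw [← LinearMap.ker_eq_bot, F.exact_succ 1, LinearMap.range_eq_bot]
  have h3 : F.rk (1 + 1 + 1) = 0 := hlen 3 (by norm_num)
  haveI : IsEmpty (Fin (F.rk (1 + 1 + 1))) := by
    rw [h3]
    infer_instance
  apply LinearMap.ext
  intro v
  rw [Subsingleton.elim v 0, map_zero, map_zero]

theorem d0_vecMul_d1 (b₀ : Fin (F.rk 0)) : (fun i => F.d 0 b₀ i) ᵥ* (F.d 1) = 0 := by
  classical
  funext j
  have h1 : Matrix.mulVecLin (F.d 1) (Pi.single j 1) ∈ LinearMap.ker (Matrix.mulVecLin (F.d 0)) := by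
    rw [F.exact_succ 0]
    exact LinearMap.mem_range_self _ _
  rw [LinearMap.mem_ker] at h1
  have h2 := congrFun h1 b₀
  rw [Matrix.mulVecLin_apply, Matrix.mulVecLin_apply, Matrix.mulVec_mulVec] at h2
  rw [Matrix.mulVec_single_one] at h2
  show ∑ i, F.d 0 b₀ i * F.d 1 i j = 0
  have h3 : (F.d 0 * F.d 1) b₀ j = ∑ i, F.d 0 b₀ i * F.d 1 i j := Matrix.mul_apply
  rw [← h3]
  exact h2

include hF in
theorem entry_eq_zero (i : Fin (F.rk 1)) (j : Fin (F.rk 2)) (h : F.deg 2 j - F.deg 1 i ≤ 0) :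
    F.d 1 i j = 0 := by
  have h1 := F.d_mem 1 i j
  have h2 := hF 1 i j
  have h3 := Groth.Agent.Lib.Helper22.GrMinRes.stdGr_nonpos k r _ h _ h1
  have h4 := Groth.Agent.Lib.Helper22.GrMinRes.constantCoeff_irrel k r _ h2
  rw [MvPolynomial.constantCoeff_eq] at h4
  rw [h3, h4, map_zero]

include hF in
theorem not_forall_d0_eq_zero (i : Fin (F.rk 1)) (h : ∀ b, F.d 0 b i = 0) : False := by
  classical
  have h1 : (Pi.single i 1 : Fin (F.rk 1) → MvPolynomial (Fin (r + 1)) k) ∈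
      LinearMap.ker (Matrix.mulVecLin (F.d 0)) := by
    rw [LinearMap.mem_ker, Matrix.mulVecLin_apply, Matrix.mulVec_single_one]
    funext b
    exact h b
  rw [F.exact_succ 0] at h1
  obtain ⟨w, hw⟩ := h1
  have h2 := congrFun hw i
  rw [Pi.single_eq_same] at h2
  have h3 : (1 : MvPolynomial (Fin (r + 1)) k) ∈
      (GrSyz.irrel (GrSyz.stdGr k (Fin (r + 1)))).toIdeal := by
    rw [← h2]
    show (∑ c, F.d 1 i c * w c) ∈ _
    exact Ideal.sum_mem _ fun c _ => Ideal.mul_mem_right _ _ (hF 1 i c)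
  have h4 := Groth.Agent.Lib.Helper22.GrMinRes.constantCoeff_irrel k r _ h3
  rw [map_one] at h4
  exact one_ne_zero h4

variable (hrk : F.rk 1 = F.rk 2 + 1)
  (ha : ∀ i j : Fin (F.rk 1), i ≤ j → F.deg 1 j ≤ F.deg 1 i)
  (hb : ∀ i j : Fin (F.rk 2), i ≤ j → F.deg 2 j ≤ F.deg 2 i)

include hF hlen hrk ha hb in
/-- `e_i ≥ 1`. -/
theorem one_le_e (i₀ : ℕ) (hi₀ : i₀ < F.rk 2) :
    1 ≤ F.deg 2 ⟨i₀, hi₀⟩ - F.deg 1 ⟨i₀, by omega⟩ := by
  classical
  by_contra hcon
  push Not at hcon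
  have hz : ∀ (i : Fin (F.rk 1)) (j : Fin (F.rk 2)), ¬ (i₀ < i.val) → i₀ ≤ j.val →
      F.d 1 i j = 0 := by
    intro i j hi hj
    apply entry_eq_zero k r ℳ F hF
    have h1 : F.deg 2 j ≤ F.deg 2 ⟨i₀, hi₀⟩ := hb ⟨i₀, hi₀⟩ j hj
    have h2 : F.deg 1 ⟨i₀, by omega⟩ ≤ F.deg 1 i := ha i ⟨i₀, by omega⟩ (by
      rw [Fin.le_def]
      simp only
      omega)
    omega
  let e : {j : Fin (F.rk 2) // i₀ ≤ j.val} ≃ {i : Fin (F.rk 1) // i₀ < i.val} :=
    { toFun := fun j => ⟨⟨j.1.val + 1, by have := j.1.2; omega⟩, by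
        show i₀ < j.1.val + 1
        have := j.2
        omega⟩
      invFun := fun i => ⟨⟨i.1.val - 1, by have := i.1.2; have := i.2; omega⟩, by
        show i₀ ≤ i.1.val - 1
        have := i.2
        omega⟩
      left_inv := by
        intro j
        apply Subtype.ext
        apply Fin.ext
        show j.1.val + 1 - 1 = j.1.val
        omega
      right_inv := by
        intro i
        apply Subtype.ext
        apply Fin.ext
        show i.1.val - 1 + 1 = i.1.val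
        have := i.2
        omega }
  have key : ∀ b, F.d 0 b (⟨F.rk 2, by omega⟩ : Fin (F.rk 1)) = 0 := by
    intro b
    exact row_eq_zero (F.d 1) (fun i : Fin (F.rk 1) => i₀ < i.val) (fun j : Fin (F.rk 2) => i₀ ≤ j.val)
      hz (fun i => F.d 0 b i) (d0_vecMul_d1 k r ℳ F b) (d1_injective k r ℳ F hlen) e
      (⟨F.rk 2, by omega⟩ : Fin (F.rk 1)) hi₀
  exact not_forall_d0_eq_zero k r ℳ F hF (⟨F.rk 2, by omega⟩ : Fin (F.rk 1)) key

include hF hlen hrk ha hb in
/-- `f_i ≥ 1`. -/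
theorem one_le_f (i₀ : ℕ) (hi₀ : i₀ < F.rk 2) :
    1 ≤ F.deg 2 ⟨i₀, hi₀⟩ - F.deg 1 ⟨i₀ + 1, by omega⟩ := by
  by_contra hcon
  push Not at hcon
  have hz : ∀ (i : Fin (F.rk 1)) (j : Fin (F.rk 2)), ¬ (i₀ + 1 < i.val) → i₀ ≤ j.val →
      F.d 1 i j = 0 := by
    intro i j hi hj
    apply entry_eq_zero k r ℳ F hF
    have h1 : F.deg 2 j ≤ F.deg 2 ⟨i₀, hi₀⟩ := hb ⟨i₀, hi₀⟩ j hj
    have h2 : F.deg 1 ⟨i₀ + 1, by omega⟩ ≤ F.deg 1 i := ha i ⟨i₀ + 1, by omega⟩ (by
      rw [Fin.le_def]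
      simp only
      omega)
    omega
  have hle := card_le (F.d 1) (fun i : Fin (F.rk 1) => i₀ + 1 < i.val)
    (fun j : Fin (F.rk 2) => i₀ ≤ j.val) hz (d1_injective k r ℳ F hlen)
  let g : {i : Fin (F.rk 1) // i₀ + 1 < i.val} → {j : Fin (F.rk 2) // i₀ ≤ j.val} :=
    fun i => ⟨⟨i.1.val - 1, by have := i.1.2; have := i.2; omega⟩, by
      show i₀ ≤ i.1.val - 1
      have := i.2
      omega⟩
  have hg : Function.Injective g := by
    intro i i' h
    apply Subtype.ext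
    apply Fin.ext
    have h1 : i.1.val - 1 = i'.1.val - 1 := congrArg (fun j => j.1.val) h
    have := i.2
    have := i'.2
    omega
  have hlt := Fintype.card_lt_of_injective_of_notMem g hg
    (b := (⟨⟨i₀, hi₀⟩, le_refl _⟩ : {j : Fin (F.rk 2) // i₀ ≤ j.val})) (by
      rintro ⟨i, hi⟩
      have h1 : i.1.val - 1 = i₀ := congrArg (fun j => j.1.val) hi
      have := i.2
      omega)
  exact absurd hle (by
    rw [not_le]
    convert hlt)

end Groth.Agent.Lib.Helper20.HilbBurchDeg
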