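import Mathlib

/-!
# Modules which are finite over an Artinian algebra (helper20)

`FinArt A N`: the `A`-module `N` carries a compatible structure of finite module over some Artinian
`A`-algebra.  Closure under linear equivalences and finite products.
-/

set_option autoImplicit false
set_option linter.unusedSectionVars false
set_option linter.unusedVariables false
set_option linter.style.haveILetI false

universe u

namespace Groth.Agent.Lib.Helper20.InjColim

variable (A : Type u) [CommRing A]

/-- `N` is a finite module over some Artinian `A`-algebra, compatibly with its `A`-module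
structure. -/
def FinArt (N : Type u) [AddCommGroup N] [Module A N] : Prop :=
  ∃ (B : Type u) (_ : CommRing B) (_ : Algebra A B) (_ : IsArtinianRing B)
    (_ : Module B N) (_ : IsScalarTower A B N), Module.Finite B N

variable {A}

theorem FinArt.of_equiv {P Q : Type u} [AddCommGroup P] [Module A P] [AddCommGroup Q] [Module A Q]
    (e : P ≃ₗ[A] Q) (h : FinArt A P) : FinArt A Q := by
  obtain ⟨B, _, _, hB, _, _, hfin⟩ := h
  letI : Module B Q := AddEquiv.module B e.symm.toAddEquiv
  have hsmul : ∀ (b : B) (q : Q), b • q = e (b • e.symm q) := fun b q => rfl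
  haveI : IsScalarTower A B Q := ⟨fun a b q => by
    rw [hsmul, hsmul, smul_assoc, map_smul]⟩
  let eB : P ≃ₗ[B] Q :=
    { e.toAddEquiv with
      map_smul' := fun b x => by
        change e (b • x) = b • e x
        rw [hsmul, e.symm_apply_apply] }
  exact ⟨B, inferInstance, inferInstance, hB, inferInstance, inferInstance,
    Module.Finite.equiv eB⟩

theorem FinArt.pi {κ : Type u} [Fintype κ] [DecidableEq κ] (P : κ → Type u)
    [∀ k, AddCommGroup (P k)] [∀ k, Module A (P k)] (h : ∀ k, FinArt A (P k)) :
    FinArt A (∀ k, P k) := by
  classical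
  choose B hCR hAlg hArt hMod hTow hfin using h
  letI := hCR
  letI := hAlg
  letI := hMod
  haveI := hArt
  haveI := hTow
  haveI := hfin
  haveI : IsScalarTower A (∀ k, B k) (∀ k, P k) := ⟨fun a b x => by
    funext k
    change (a • b k) • x k = a • (b k • x k)
    rw [smul_assoc]⟩
  refine ⟨∀ k, B k, inferInstance, inferInstance, inferInstance, inferInstance, inferInstance, ?_⟩
  -- finiteness
  choose S hS using fun k => (hfin k).fg_top
  refine ⟨⟨Finset.univ.biUnion (fun k => (S k).image (Pi.single k)), ?_⟩⟩
  rw [eq_top_iff]
  intro x _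
  have hx : x = ∑ k, Pi.single k (x k) := by
    funext j
    rw [Finset.sum_apply, Finset.sum_eq_single j]
    · rw [Pi.single_eq_same]
    · intro b _ hb
      rw [Pi.single_eq_of_ne' hb]
    · intro hj
      exact absurd (Finset.mem_univ j) hj
  rw [hx]
  refine Submodule.sum_mem _ (fun k _ => ?_)
  have hk : x k ∈ Submodule.span (B k) (S k : Set (P k)) := by rw [hS k]; trivial
  refine Submodule.span_induction (p := fun y _ => Pi.single k y ∈ Submodule.span (∀ k, B k)
    ((Finset.univ.biUnion (fun k => (S k).image (Pi.single k)) : Finset (∀ k, P k)) :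
      Set (∀ k, P k))) ?_ ?_ ?_ ?_ hk
  · intro y hy
    apply Submodule.subset_span
    rw [Finset.coe_biUnion]
    simp only [Finset.coe_univ, Set.mem_univ, Set.iUnion_true, Set.mem_iUnion, Finset.coe_image]
    exact ⟨k, y, hy, rfl⟩
  · rw [Pi.single_zero]
    exact Submodule.zero_mem _
  · intro y z _ _ hy hz
    rw [Pi.single_add]
    exact Submodule.add_mem _ hy hz
  · intro b y _ hy
    have : (Pi.single k (b • y) : ∀ k, P k) = (Pi.single k b : ∀ k, B k) • Pi.single k y := by
      funext j
      by_cases hj : j = k
      · subst hj
        change _ = (Pi.single j b : ∀ k, B k) j • (Pi.single j y : ∀ k, P k) j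
        rw [Pi.single_eq_same, Pi.single_eq_same, Pi.single_eq_same]
      · change _ = (Pi.single k b : ∀ k, B k) j • (Pi.single k y : ∀ k, P k) j
        rw [Pi.single_eq_of_ne hj, Pi.single_eq_of_ne hj, Pi.single_eq_of_ne hj, zero_smul]
    rw [this]
    exact Submodule.smul_mem _ _ hy

end Groth.Agent.Lib.Helper20.InjColim
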