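import Groth.Agent.Lib.Helper20.InjColim1
import Groth.Agent.Lib.Helper1.MatlisBaseChange
import Groth.Agent.Lib.Helper1.InjHullLib
import Groth.Agent.S11661
import Groth.Agent.S0311

/-!
# Indecomposable injectives are exhausted by `FinArt` submodules (helper20)

For an indecomposable injective module `E'` over a Noetherian ring `A`, `E' ≅ E_{A_p}(κ(p))` is the
increasing union of the `E'[ (pA_p)^n ]`, each a finite module over the Artinian ring `A_p/(pA_p)^n`.
-/

set_option autoImplicit false
set_option linter.unusedSectionVars false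
set_option linter.unusedVariables false
set_option linter.style.haveILetI false
set_option maxHeartbeats 400000

universe u

open IsLocalRing

namespace Groth.Agent.Lib.Helper20.InjColim

/-- An indecomposable injective over a Noetherian ring is an injective hull of some `A/p`. -/
theorem exists_hull_quot (R : Type u) [CommRing R] [IsNoetherianRing R] (E : Type u)
    [AddCommGroup E] [Module R E] (hE : InjHull.IsIndecomposable R E)
    (hinj : Module.Injective R E) :
    ∃ (p : Ideal R) (_ : p.IsPrime) (φ : (R ⧸ p) →ₗ[R] E), InjHull.IsInjectiveHull φ := by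
  classical
  have hnt : Nontrivial E := hE.1
  obtain ⟨p, hp⟩ := associatedPrimes.nonempty R E
  obtain ⟨hprime, x, hpx⟩ := isAssociatedPrime_iff.1 hp
  have hmem : ∀ r : R, r ∈ p ↔ r • x = 0 := by
    intro r
    rw [hpx, Submodule.mem_colon_singleton, Submodule.mem_bot]
  have hx0 : x ≠ 0 := by
    intro h0
    apply hprime.ne_top
    rw [Ideal.eq_top_iff_one, hmem, h0, smul_zero]
  let φ : (R ⧸ p) →ₗ[R] E := p.liftQ (LinearMap.toSpanSingleton R E x) (by
    intro r hr
    rw [LinearMap.mem_ker, LinearMap.toSpanSingleton_apply]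
    exact (hmem r).1 hr)
  have hφmk : ∀ r : R, φ (Ideal.Quotient.mk p r) = r • x := fun r => rfl
  have hφinj : Function.Injective φ := by
    rw [injective_iff_map_eq_zero]
    intro a ha
    obtain ⟨r, rfl⟩ := Ideal.Quotient.mk_surjective a
    rw [hφmk] at ha
    exact Ideal.Quotient.eq_zero_iff_mem.2 ((hmem r).2 ha)
  have hrange : LinearMap.range φ ≠ ⊥ := by
    intro hbot
    apply hx0
    have : x ∈ LinearMap.range φ := ⟨Ideal.Quotient.mk p 1, by rw [hφmk, one_smul]⟩
    rw [hbot] at this
    exact (Submodule.mem_bot R).1 this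
  have hess := Groth.Agent.Lib.Helper1.InjHullLib.essIn_top_of_indecomposable hE _ hrange
  have hφ : InjHull.IsInjectiveHull φ :=
    ⟨(Groth.Agent.Lib.Helper1.InjHullLib.isEssentialInj_iff φ).2
      ⟨hφinj, fun y hy => hess.2 y trivial hy⟩, hinj⟩
  exact ⟨p, hprime, φ, hφ⟩

/-- Precomposing an injective hull with a linear equivalence gives an injective hull. -/
theorem isInjectiveHull_comp_equiv {R : Type u} [CommRing R] {M M' E : Type u}
    [AddCommGroup M] [Module R M] [AddCommGroup M'] [Module R M'] [AddCommGroup E] [Module R E]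
    (g : M →ₗ[R] E) (hg : InjHull.IsInjectiveHull g) (e : M' ≃ₗ[R] M) :
    InjHull.IsInjectiveHull (g ∘ₗ e.toLinearMap) := by
  refine ⟨⟨?_, ?_⟩, hg.isInjective⟩
  · exact hg.injective.comp e.injective
  · intro N hN
    have : LinearMap.range (g ∘ₗ e.toLinearMap) = LinearMap.range g := by
      rw [LinearMap.range_comp, LinearEquiv.range, Submodule.map_top]
    rw [this]
    exact hg.essential N hN

section local_

variable (R : Type u) [CommRing R] [IsLocalRing R] [IsNoetherianRing R]
  (E : Type u) [AddCommGroup E] [Module R E]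
  (f : ResidueField R →ₗ[R] E) (hf : InjHull.IsInjectiveHull f)

theorem isArtinianRing_quot_pow (n : ℕ) : IsArtinianRing (R ⧸ maximalIdeal R ^ n) := by
  have h := Groth.Agent.Lib.Helper1.Matlis.isFiniteLength_quotient_pow (R := R) n
  obtain ⟨_, hA⟩ := isFiniteLength_iff_isNoetherian_isArtinian.1 h
  exact isArtinian_of_tower R hA

include hf in
theorem finite_torsionBySet_pow (n : ℕ) :
    Module.Finite (R ⧸ maximalIdeal R ^ n)
      (Submodule.torsionBySet R E ((maximalIdeal R ^ n : Ideal R) : Set R)) := by
  have h1 := Groth.Agent.Lib.Helper1.Matlis.length_torsionBySet f hf (maximalIdeal R ^ n)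
    (Groth.Agent.Lib.Helper1.Matlis.isFiniteLength_quotient_pow (R := R) n)
  have h2 : IsFiniteLength R
      (Submodule.torsionBySet R E ((maximalIdeal R ^ n : Ideal R) : Set R)) := by
    rw [← Module.length_ne_top_iff, h1, Module.length_ne_top_iff]
    exact Groth.Agent.Lib.Helper1.Matlis.isFiniteLength_quotient_pow (R := R) n
  obtain ⟨hN, _⟩ := isFiniteLength_iff_isNoetherian_isArtinian.1 h2
  haveI : Module.Finite R
      (Submodule.torsionBySet R E ((maximalIdeal R ^ n : Ideal R) : Set R)) := inferInstance
  exact Module.Finite.of_restrictScalars_finite R _ _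

end local_

section exhaustion

variable (A : Type u) [CommRing A] [IsNoetherianRing A]

theorem exists_exhaustion (E' : Type u) [AddCommGroup E'] [Module A E']
    (hE : InjHull.IsIndecomposable A E') (hinj : Module.Injective A E') :
    ∃ T : ℕ → Submodule A E', Monotone T ∧ (∀ x, ∃ n, x ∈ T n) ∧ ∀ n, FinArt A ↥(T n) := by
  obtain ⟨p, hp, φ, hφ⟩ := exists_hull_quot A E' hE hinj
  haveI := hp
  obtain ⟨hbij, g, hg⟩ := (Groth.Agent.S11661.result A p.primeCompl p E' φ hφ).2 (by
    rw [Set.disjoint_left]
    intro a ha ha'
    exact ha' ha)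
  let e : E' ≃ₗ[A] LocalizedModule p.primeCompl E' :=
    LinearEquiv.ofBijective (LocalizedModule.mkLinearMap p.primeCompl E') hbij
  have hmax : p.map (algebraMap A (Localization.AtPrime p)) =
      maximalIdeal (Localization.AtPrime p) := Localization.AtPrime.map_eq_maximalIdeal
  let eq : (Localization.AtPrime p ⧸ maximalIdeal (Localization.AtPrime p))
      ≃ₗ[Localization.AtPrime p]
      (Localization.AtPrime p ⧸ p.map (algebraMap A (Localization.AtPrime p))) :=
    Submodule.quotEquivOfEq _ _ hmax.symm
  let f' : ResidueField (Localization.AtPrime p) →ₗ[Localization.AtPrime p]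
      LocalizedModule p.primeCompl E' := g ∘ₗ eq.toLinearMap
  have hf' : InjHull.IsInjectiveHull f' := isInjectiveHull_comp_equiv g hg eq
  have hpt := Groth.Agent.S0311.result (Localization.AtPrime p)
    (LocalizedModule p.primeCompl E') f' hf'
  let Tors : ℕ → Submodule (Localization.AtPrime p) (LocalizedModule p.primeCompl E') :=
    fun n => Submodule.torsionBySet (Localization.AtPrime p) (LocalizedModule p.primeCompl E')
      ((maximalIdeal (Localization.AtPrime p) ^ n : Ideal (Localization.AtPrime p)) :
        Set (Localization.AtPrime p))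
  refine ⟨fun n => Submodule.comap e.toLinearMap ((Tors n).restrictScalars A), ?_, ?_, ?_⟩
  · intro n m hnm x hx
    rw [Submodule.mem_comap, Submodule.restrictScalars_mem] at hx ⊢
    rw [Submodule.mem_torsionBySet_iff] at hx ⊢
    rintro ⟨a, ha⟩
    exact hx ⟨a, Ideal.pow_le_pow_right hnm ha⟩
  · intro x
    obtain ⟨n, hn⟩ := hpt (e x)
    refine ⟨n, ?_⟩
    rw [Submodule.mem_comap, Submodule.restrictScalars_mem, Submodule.mem_torsionBySet_iff]
    rintro ⟨a, ha⟩
    exact hn a ha
  · intro n
    have h1 : FinArt A ↥(Tors n) :=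
      ⟨Localization.AtPrime p ⧸ maximalIdeal (Localization.AtPrime p) ^ n, inferInstance,
        inferInstance, isArtinianRing_quot_pow _ n, inferInstance, inferInstance,
        finite_torsionBySet_pow _ _ f' hf' n⟩
    have h2 : FinArt A ↥((Tors n).restrictScalars A) :=
      FinArt.of_equiv ((Submodule.restrictScalarsEquiv A (Localization.AtPrime p)
        (LocalizedModule p.primeCompl E') (Tors n)).restrictScalars A).symm h1
    exact FinArt.of_equiv (LinearEquiv.ofSubmodule' e ((Tors n).restrictScalars A)).symm h2

end exhaustion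

end Groth.Agent.Lib.Helper20.InjColim
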