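import Groth.Agent.Lib.Helper20.InjColim2
import Groth.Agent.S0307

/-!
# Injective modules over Noetherian rings as filtered colimits of `FinArt` modules (helper20)
-/

set_option autoImplicit false
set_option linter.unusedSectionVars false
set_option linter.unusedVariables false
set_option linter.style.haveILetI false
set_option maxHeartbeats 400000

universe u

open CategoryTheory CategoryTheory.Limits

namespace Groth.Agent.Lib.Helper20.InjColim

variable {A : Type u} [CommRing A] {J : Type u} [AddCommGroup J] [Module A J]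

/-- A finite independent supremum of `FinArt` submodules is `FinArt`. -/
theorem finArt_iSup_of_indep {κ : Type u} [Fintype κ] [DecidableEq κ] (p : κ → Submodule A J)
    (hp : iSupIndep p) (h : ∀ k, FinArt A ↥(p k)) : FinArt A ↥(iSup p) := by
  have h1 : FinArt A (∀ k, ↥(p k)) := FinArt.pi (fun k => ↥(p k)) h
  have h2 : FinArt A (Π₀ k, ↥(p k)) :=
    FinArt.of_equiv (DFinsupp.linearEquivFunOnFintype (R := A) (M := fun k => ↥(p k))).symm h1
  have hinj := hp.dfinsupp_lsum_injective
  have h3 := FinArt.of_equiv (LinearEquiv.ofInjective _ hinj) h2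
  exact FinArt.of_equiv (LinearEquiv.ofEq _ _ (Submodule.iSup_eq_range_dfinsupp_lsum p).symm) h3

section union

variable {Λ : Type u} [Preorder Λ] (N : Λ → Submodule A J) (hN : Monotone N)

/-- The transition maps of the directed system of submodules. -/
def incl : ∀ i j, i ≤ j → ↥(N i) →ₗ[A] ↥(N j) := fun i j h => Submodule.inclusion (hN h)

instance directedSystem_incl :
    DirectedSystem (fun l => ↥(N l)) (fun i j h => incl N hN i j h) where
  map_self i x := rfl
  map_map k j i hij hjk x := rfl

variable [DecidableEq Λ] [IsDirected Λ (· ≤ ·)] [Nonempty Λ]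

/-- The direct limit of an exhaustive directed system of submodules is the whole module. -/
theorem nonempty_directLimit_equiv (hex : ∀ x : J, ∃ l, x ∈ N l) :
    Nonempty (Module.DirectLimit (fun l => ↥(N l)) (incl N hN) ≃ₗ[A] J) := by
  let φ : Module.DirectLimit (fun l => ↥(N l)) (incl N hN) →ₗ[A] J :=
    Module.DirectLimit.lift A Λ (fun l => ↥(N l)) (incl N hN) (fun l => (N l).subtype)
      (fun i j hij x => rfl)
  refine ⟨LinearEquiv.ofBijective φ ⟨?_, ?_⟩⟩
  · exact Module.DirectLimit.lift_injective _ _ (fun l => (N l).injective_subtype)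
  · intro x
    obtain ⟨l, hl⟩ := hex x
    refine ⟨Module.DirectLimit.of A Λ (fun l => ↥(N l)) (incl N hN) l ⟨x, hl⟩, ?_⟩
    exact Module.DirectLimit.lift_of _ _ _

end union

theorem main (A : Type u) [CommRing A] [IsNoetherianRing A]
    (J : Type u) [AddCommGroup J] [Module A J] [Module.Injective A J] :
    ∃ (ι : Type u) (_ : SmallCategory ι) (_ : IsFiltered ι) (D : ι ⥤ ModuleCat.{u} A)
      (c : Cocone D) (_ : IsColimit c), Nonempty (c.pt ≅ ModuleCat.of A J) ∧
      ∀ i : ι, FinArt A (D.obj i) := by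
  classical
  obtain ⟨ι₀, E, hint, hE⟩ := Groth.Agent.S0307.result A J inferInstance
  choose T hTmono hTex hTfin using fun i => exists_exhaustion A ↥(E i) (hE i).1 (hE i).2
  let Tj : ι₀ → ℕ → Submodule A J := fun i n => (T i n).map (E i).subtype
  have hTj_le : ∀ i n, Tj i n ≤ E i := fun i n => by
    rintro _ ⟨y, _, rfl⟩
    exact y.2
  have hTj_mono : ∀ i, Monotone (Tj i) := fun i n m h => Submodule.map_mono (hTmono i h)
  have hTj_fin : ∀ i n, FinArt A ↥(Tj i n) := fun i n =>
    FinArt.of_equiv (Submodule.equivMapOfInjective (E i).subtype (E i).injective_subtype (T i n))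
      (hTfin i n)
  let Λ := Finset ι₀ × ℕ
  let N : Λ → Submodule A J := fun l => ⨆ i : ↥l.1, Tj i.1 l.2
  have hN : Monotone N := by
    intro l l' h
    refine iSup_le fun i => ?_
    exact le_trans (hTj_mono i.1 h.2) (le_iSup (fun j : ↥l'.1 => Tj j.1 l'.2) ⟨i.1, h.1 i.2⟩)
  have hex : ∀ x : J, ∃ l, x ∈ N l := by
    intro x
    have hx : x ∈ iSup E := by rw [hint.submodule_iSup_eq_top]; trivial
    refine Submodule.iSup_induction E (motive := fun x => ∃ l, x ∈ N l) hx ?_ ?_ ?_
    · intro i y hy
      obtain ⟨n, hn⟩ := hTex i ⟨y, hy⟩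
      refine ⟨({i}, n), ?_⟩
      exact (le_iSup (fun j : ↥({i} : Finset ι₀) => Tj j.1 n)
        ⟨i, Finset.mem_singleton_self i⟩) ⟨⟨y, hy⟩, hn, rfl⟩
    · exact ⟨(∅, 0), Submodule.zero_mem _⟩
    · rintro y z ⟨l1, h1⟩ ⟨l2, h2⟩
      obtain ⟨l, hl1, hl2⟩ := exists_ge_ge l1 l2
      exact ⟨l, Submodule.add_mem _ (hN hl1 h1) (hN hl2 h2)⟩
  have hfin : ∀ l, FinArt A ↥(N l) := by
    intro l
    apply finArt_iSup_of_indep
    · exact (hint.submodule_iSupIndep.mono (fun i => hTj_le i l.2)).comp Subtype.val_injective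
    · intro k
      exact hTj_fin k.1 l.2
  obtain ⟨e⟩ := nonempty_directLimit_equiv N hN hex
  exact ⟨Λ, Preorder.smallCategory Λ, isFiltered_of_directed_le_nonempty Λ,
    ModuleCat.directLimitDiagram (fun l => ↥(N l)) (incl N hN),
    ModuleCat.directLimitCocone _ _, ModuleCat.directLimitIsColimit _ _, ⟨e.toModuleIso⟩,
    fun l => hfin l⟩

end Groth.Agent.Lib.Helper20.InjColim
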