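import Mathlib
import Groth.Prelude
import Groth.Agent.Lib.Helper12.SuppCons
import Groth.Agent.Lib.Helper12.UnramLocus3
import Groth.Agent.Lib.Helper12.ConstrNhds
import Groth.Agent.Lib.Helper17.SuppTensor
import Groth.Agent.Lib.Helper1.MaxAnnInt
import Groth.Agent.Lib.Helper3.QCProps
import Groth.Agent.Lib.Helper8.WtStrat

/-!
# Helper20: the support of a finitely presented module is closed with retrocompact complement,
hence locally constructible.
-/

set_option autoImplicit false
set_option linter.style.haveILetI false
universe u

open CategoryTheory CategoryTheory.Limits AlgebraicGeometry TopologicalSpace Opposite Topology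

namespace Groth.Agent.Lib.Helper20.IsoLoc

open Groth.Agent.Lib.Helper3 Groth.Agent.Lib.Helper17 Groth.Agent.Lib.Helper1
  Groth.Agent.Lib.Helper12

variable {X : Scheme.{u}}

theorem preimage_compl_support (M : X.Modules) [M.IsQuasicoherent] {W : X.Opens}
    (hW : IsAffineOpen W) :
    hW.fromSpec.base ⁻¹' (CohB1.support M)ᶜ = (Module.support Γ(X, W) Γ(M, W))ᶜ := by
  ext q
  have hmem : hW.fromSpec q ∈ W := by
    have : hW.fromSpec q ∈ Set.range hW.fromSpec := ⟨q, rfl⟩
    rwa [hW.range_fromSpec] at this
  have hq : hW.primeIdealOf ⟨hW.fromSpec q, hmem⟩ = q := by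
    apply hW.fromSpec.isOpenEmbedding.injective
    rw [hW.fromSpec_primeIdealOf]
  simp only [Set.mem_preimage, Set.mem_compl_iff]
  rw [SuppTensor.mem_support_iff_affine M hW _ hmem, hq]
  exact Iff.rfl

theorem isRetrocompact_compl_support (M : X.Modules)
    [SheafOfModules.IsFinitePresentation (R := X.ringCatSheaf) M] :
    IsRetrocompact (CohB1.support M)ᶜ := by
  haveI : M.IsQuasicoherent := inferInstance
  apply UnramLocus.isRetrocompact_of_forall_chart (𝟙 X)
  intro W V hW _ _
  haveI : Module.FinitePresentation Γ(X, W) Γ(M, W) := QCProps.finitePresentation_sections M hW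
  rw [preimage_compl_support M hW]
  exact SuppCons.isCompact_compl_support

theorem isClosed_support (M : X.Modules)
    [SheafOfModules.IsFinitePresentation (R := X.ringCatSheaf) M] :
    IsClosed (CohB1.support M) := by
  haveI : M.IsQuasicoherent := inferInstance
  haveI : M.IsFiniteType := inferInstance
  exact MaxAnnInt.isClosed_support M

theorem isLocallyConstructible_support (M : X.Modules)
    [SheafOfModules.IsFinitePresentation (R := X.ringCatSheaf) M] :
    IsLocallyConstructible (CohB1.support M) := by
  have h1 : IsLocallyConstructible (CohB1.support M)ᶜ :=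
    (isRetrocompact_compl_support M).isLocallyConstructible (isClosed_support M).isOpen_compl
  have h2 := ConstrNhds.isLocallyConstructible_compl h1
  rwa [compl_compl] at h2

/-- the open complement of the support. -/
noncomputable def complSupport (M : X.Modules)
    [SheafOfModules.IsFinitePresentation (R := X.ringCatSheaf) M] : X.Opens :=
  ⟨(CohB1.support M)ᶜ, (isClosed_support M).isOpen_compl⟩

theorem coe_complSupport (M : X.Modules)
    [SheafOfModules.IsFinitePresentation (R := X.ringCatSheaf) M] :
    ((complSupport M : X.Opens) : Set X) = (CohB1.support M)ᶜ := rfl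

/-- An open with retrocompact carrier has quasi-compact inclusion. -/
theorem quasiCompact_ι_of_isRetrocompact (U : X.Opens) (hU : IsRetrocompact (U : Set X)) :
    QuasiCompact U.ι := by
  rw [quasiCompact_iff_isSpectralMap]
  refine ⟨U.ι.continuous, ?_⟩
  intro s hso hsc
  have h := hU hsc hso
  -- preimage under the open embedding
  have hemb := U.ι.isOpenEmbedding
  have : U.ι.base ⁻¹' s = U.ι.base ⁻¹' ((U : Set X) ∩ s) := by
    ext z
    simp only [Set.mem_preimage, Set.mem_inter_iff]
    constructor
    · intro hz
      refine ⟨?_, hz⟩
      have : U.ι z ∈ Set.range U.ι := ⟨z, rfl⟩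
      rwa [Scheme.Opens.range_ι] at this
    · exact fun hz => hz.2
  rw [this]
  apply hemb.isInducing.isCompact_preimage' h
  rw [Scheme.Opens.range_ι]
  exact Set.inter_subset_left

theorem quasiCompact_ι_complSupport (M : X.Modules)
    [SheafOfModules.IsFinitePresentation (R := X.ringCatSheaf) M] :
    QuasiCompact (complSupport M).ι :=
  quasiCompact_ι_of_isRetrocompact _ (isRetrocompact_compl_support M)

end Groth.Agent.Lib.Helper20.IsoLoc
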