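import Mathlib
import Groth.Prelude
import Groth.Agent.Lib.Helper17.StalkInj
import Groth.Agent.Lib.Helper17.PbLimit
import Groth.Agent.Lib.Helper17.PbStalk
import Groth.Agent.Lib.Helper17.KerFPSheaf
import Groth.Agent.Lib.Helper3.StalkLin
import Groth.Agent.Lib.Helper3.QCProps
import Groth.Agent.Lib.Helper3.QCExact

/-!
# Helper20: base change of an epimorphism onto a flat module is an isomorphism iff the image avoids
the support of the kernel.
-/

set_option autoImplicit false
set_option linter.style.haveILetI false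
universe u

open CategoryTheory CategoryTheory.Limits AlgebraicGeometry TopologicalSpace Opposite Topology

namespace Groth.Agent.Lib.Helper20.IsoLoc

open Groth.Agent.Lib.Helper3 Groth.Agent.Lib.Helper17 Groth.Agent.Lib.Helper1

section A

variable {X Y : Scheme.{u}}

theorem qc_of_fp (K : X.Modules)
    [SheafOfModules.IsFinitePresentation (R := X.ringCatSheaf) K] :
    SheafOfModules.IsQuasicoherent.{u} (R := X.ringCatSheaf) K := by
  haveI : K.IsQuasicoherent := inferInstance
  exact this

theorem ft_of_fp (K : X.Modules)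
    [SheafOfModules.IsFinitePresentation (R := X.ringCatSheaf) K] :
    SheafOfModules.IsFiniteType.{u} (R := X.ringCatSheaf) K := by
  haveI : K.IsFiniteType := inferInstance
  exact this

/-- If the stalks of the (finite type) kernel of an epimorphism vanish along the image of `a`,
then the pullback along `a` is an isomorphism. -/
theorem isIso_pullback_of_stalk_kernel (a : Y ⟶ X) {F G : X.Modules} [F.IsQuasicoherent]
    [G.IsQuasicoherent] (u : F ⟶ G) [Epi u]
    [hK : SheafOfModules.IsFiniteType (R := X.ringCatSheaf) (kernel u)]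
    (h : ∀ y : Y, Subsingleton ((kernel u : X.Modules).presheaf.stalk (a y))) :
    IsIso ((Scheme.Modules.pullback a).map u) := by
  haveI : (kernel u : X.Modules).IsQuasicoherent := QCProps.isQuasicoherent_kernel u
  haveI : (kernel u : X.Modules).IsFiniteType := hK
  have hz : IsZero ((Scheme.Modules.pullback a).obj (kernel u)) :=
    QS.isZero_of_subsingleton_stalk _ fun y =>
      (PbStalk.subsingleton_stalk_pullback_iff a (kernel u) y).mpr (h y)
  exact PbLimit.isIso_map_of_map_kernel_ι_eq_zero (Scheme.Modules.pullback a) u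
    (hz.eq_of_src _ _)

end A

section B

variable {X₁ S T P : Scheme.{u}} {f₁ : X₁ ⟶ S} {t : T ⟶ S} {a : P ⟶ X₁} {f' : P ⟶ T}

/-- If the base change of an epimorphism onto a flat module is a monomorphism, then the stalks of
the pullback of the kernel vanish. -/
theorem subsingleton_stalk_kernel_of_mono_pullback (hc : IsPullback a f' f₁ t)
    {F₁ G₁ : X₁.Modules} [F₁.IsQuasicoherent] [G₁.IsQuasicoherent] (u₁ : F₁ ⟶ G₁) [Epi u₁]
    (hflat : FlatMod.IsFlatOver f₁ G₁)
    (hmono : Mono ((Scheme.Modules.pullback a).map u₁)) (y : P) :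
    Subsingleton (((Scheme.Modules.pullback a).obj (kernel u₁)).presheaf.stalk y) := by
  haveI : (kernel u₁ : X₁.Modules).IsQuasicoherent := QCProps.isQuasicoherent_kernel u₁
  obtain ⟨V, hV, hxV⟩ := QCProps.exists_affine_nbhd (f₁ (a y))
  obtain ⟨_, ⟨U, hU, rfl⟩, hxU, hUV⟩ := X₁.isBasis_affineOpens.exists_subset_of_mem_open
    (show a y ∈ ((f₁ ⁻¹ᵁ V : X₁.Opens) : Set X₁) from hxV) (f₁ ⁻¹ᵁ V).2
  have e : U ≤ f₁ ⁻¹ᵁ V := hUV
  have hinj := StalkInj.injective_stalkMap_pullback hc (kernel.ι u₁) u₁ (kernel.condition u₁)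
    (ShortComplex.exact_kernel u₁) hV hU e (fun x _ => hflat x) y (W := a ⁻¹ᵁ U) hxU le_rfl
    (by
      intro m hm
      have hm0 : m = 0 := by
        apply QCExact.injective_sections (kernel.ι u₁) U
        rw [hm]
        exact (map_zero _).symm
      rw [hm0, StalkInj.pullRes_zero, map_zero])
  have hz : (Scheme.Modules.pullback a).map (kernel.ι u₁) = 0 := by
    rw [← cancel_mono ((Scheme.Modules.pullback a).map u₁), ← Functor.map_comp, kernel.condition,
      Functor.map_zero, zero_comp]
  rw [hz] at hinj
  constructor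
  intro m m'
  apply hinj
  rw [QS.stalkMap_zero_apply, QS.stalkMap_zero_apply]

/-- **Isomorphy of the base change of an epimorphism onto a flat module.** -/
theorem isIso_pullback_iff (hc : IsPullback a f' f₁ t) [LocallyOfFinitePresentation f₁]
    {F₁ G₁ : X₁.Modules}
    [hF : SheafOfModules.IsFinitePresentation (R := X₁.ringCatSheaf) F₁]
    [hG : SheafOfModules.IsFinitePresentation (R := X₁.ringCatSheaf) G₁]
    (u₁ : F₁ ⟶ G₁) [Epi u₁] (hflat : FlatMod.IsFlatOver f₁ G₁) :
    IsIso ((Scheme.Modules.pullback a).map u₁) ↔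
      ∀ y : P, a y ∉ CohB1.support (kernel u₁ : X₁.Modules) := by
  haveI : F₁.IsQuasicoherent := inferInstance
  haveI : G₁.IsQuasicoherent := inferInstance
  haveI hKfp : SheafOfModules.IsFinitePresentation (R := X₁.ringCatSheaf) (kernel u₁) :=
    KerFPSheaf.isFinitePresentation_kernel f₁ hflat u₁
  haveI hKq : (kernel u₁ : X₁.Modules).IsQuasicoherent := QCProps.isQuasicoherent_kernel u₁
  have hKft0 : SheafOfModules.IsFiniteType (R := X₁.ringCatSheaf) (kernel u₁) :=
    @ft_of_fp _ _ hKfp
  haveI hKft : (kernel u₁ : X₁.Modules).IsFiniteType := hKft0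
  constructor
  · intro hiso y hy
    apply hy
    have h1 := subsingleton_stalk_kernel_of_mono_pullback hc u₁ hflat inferInstance y
    exact (PbStalk.subsingleton_stalk_pullback_iff a (kernel u₁) y).mp h1
  · intro h
    apply isIso_pullback_of_stalk_kernel a u₁
    intro y
    have := h y
    simp only [CohB1.support, Set.mem_ofPred_eq, not_not] at this
    exact this

end B

end Groth.Agent.Lib.Helper20.IsoLoc
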