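import Mathlib
import Groth.Prelude
import Groth.Agent.Lib.Helper20.IsoLoc1
import Groth.Agent.Lib.Helper20.IsoLoc2
import Groth.Agent.Lib.Helper17.PbEpi
import Groth.Agent.Lib.Helper17.PbCover
import Groth.Agent.Lib.Helper17.PbFinite
import Groth.Agent.Lib.Helper17.EtFlatDim
import Groth.Agent.Lib.Helper17.RightExactStage
import Groth.Agent.Lib.Helper8.WtStrat
import Groth.Agent.Lib.Helper12.ConstrNhds

/-!
# Helper20: the open subscheme representing "the base change of `u` is an isomorphism"
(`u : F ⟶ G` finitely presented modules on `X` proper of finite presentation over `S`, `G` flat).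
-/

set_option autoImplicit false
set_option linter.style.haveILetI false
universe u

open CategoryTheory CategoryTheory.Limits AlgebraicGeometry TopologicalSpace Opposite Topology

namespace Groth.Agent.Lib.Helper20.IsoLoc

open Groth.Agent.Lib.Helper3 Groth.Agent.Lib.Helper17 Groth.Agent.Lib.Helper1
  Groth.Agent.Lib.Helper12 Groth.Agent.Lib.Helper8

variable {X S : Scheme.{u}}

/-- The base change of `u` along `t` is an epimorphism iff the image of `t` avoids the image of the
support of the cokernel. -/
theorem epi_pullback_fst_iff (f : X ⟶ S) {F G : X.Modules} [F.IsQuasicoherent]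
    [G.IsQuasicoherent] [G.IsFiniteType] (u : F ⟶ G) {T : Scheme.{u}} (t : T ⟶ S) :
    Epi ((Scheme.Modules.pullback (pullback.fst f t)).map u) ↔
      Disjoint (Set.range t.base) (f.base '' CohB1.support (cokernel u : X.Modules)) := by
  rw [PbEpi.epi_pullback_map_iff, Set.disjoint_left]
  constructor
  · rintro h _ ⟨τ, rfl⟩ ⟨x, hx, hxt⟩
    obtain ⟨z, hz1, -⟩ := Scheme.Pullback.exists_preimage_pullback (f := f) (g := t) x τ hxt
    apply hx
    rw [← hz1]
    exact h z
  · intro h y
    by_contra hy
    refine h ⟨pullback.snd f t y, rfl⟩ ⟨pullback.fst f t y, hy, ?_⟩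
    rw [← Scheme.Hom.comp_apply, ← Scheme.Hom.comp_apply, pullback.condition]

theorem range_ι_complSupport (M : X.Modules)
    [SheafOfModules.IsFinitePresentation (R := X.ringCatSheaf) M] :
    Set.range (complSupport M).ι.base = (CohB1.support M)ᶜ := by
  rw [Scheme.Opens.range_ι]
  rfl

set_option maxHeartbeats 1600000 in
theorem main (f : X ⟶ S) [IsProper f] [LocallyOfFinitePresentation f]
    (F G : X.Modules) (hF : CohB1.IsFP F) (hG : CohB1.IsFP G)
    (hGfl : FlatMod.IsFlatOver f G) (u : F ⟶ G) :
    ∃ U : S.Opens, QuasiCompact U.ι ∧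
      ∀ (T : Scheme.{u}) (t : T ⟶ S),
        IsIso ((Scheme.Modules.pullback (pullback.fst f t)).map u) ↔
          Set.range t.base ⊆ (U : Set S) := by
  haveI := hF
  haveI := hG
  haveI qF : F.IsQuasicoherent := inferInstance
  haveI qG : G.IsQuasicoherent := inferInstance
  haveI ftF : F.IsFiniteType := inferInstance
  haveI ftG : G.IsFiniteType := inferInstance
  haveI hC : SheafOfModules.IsFinitePresentation (R := X.ringCatSheaf) (cokernel u) :=
    RightExactStage.isFinitePresentation_cokernel_of_ft u
  -- the open complement of the support of the cokernel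
  let C : X.Modules := cokernel u
  haveI hC' : SheafOfModules.IsFinitePresentation (R := X.ringCatSheaf) C := hC
  let X₁ : X.Opens := complSupport C
  let j₁ : (X₁ : Scheme.{u}) ⟶ X := X₁.ι
  haveI hj₁ : QuasiCompact j₁ := quasiCompact_ι_complSupport C
  let F₁ : (X₁ : Scheme.{u}).Modules := (Scheme.Modules.pullback j₁).obj F
  let G₁ : (X₁ : Scheme.{u}).Modules := (Scheme.Modules.pullback j₁).obj G
  let u₁ : F₁ ⟶ G₁ := (Scheme.Modules.pullback j₁).map u
  haveI hF₁ : SheafOfModules.IsFinitePresentation (R := (X₁ : Scheme.{u}).ringCatSheaf) F₁ :=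
    PbFinite.isFinitePresentation_pullback j₁ F
  haveI hG₁ : SheafOfModules.IsFinitePresentation (R := (X₁ : Scheme.{u}).ringCatSheaf) G₁ :=
    PbFinite.isFinitePresentation_pullback j₁ G
  haveI hepi : Epi u₁ := by
    refine (PbEpi.epi_pullback_map_iff j₁ u).mpr fun y => ?_
    have hy : j₁ y ∈ Set.range j₁.base := ⟨y, rfl⟩
    rw [range_ι_complSupport C] at hy
    by_contra hcon
    exact hy hcon
  let f₁ : (X₁ : Scheme.{u}) ⟶ S := j₁ ≫ f
  haveI : LocallyOfFinitePresentation f₁ := inferInstanceAs (LocallyOfFinitePresentation (j₁ ≫ f))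
  haveI : QuasiCompact f₁ := inferInstanceAs (QuasiCompact (j₁ ≫ f))
  have hflat₁ : FlatMod.IsFlatOver f₁ G₁ := fun y =>
    EtFlatDim.isFlatOverAt_pullback_of_flat j₁ f G y (hGfl _)
  haveI hK : SheafOfModules.IsFinitePresentation (R := (X₁ : Scheme.{u}).ringCatSheaf)
      (kernel u₁) := KerFPSheaf.isFinitePresentation_kernel f₁ hflat₁ u₁
  let K₁ : (X₁ : Scheme.{u}).Modules := kernel u₁
  haveI hK' : SheafOfModules.IsFinitePresentation (R := (X₁ : Scheme.{u}).ringCatSheaf) K₁ := hK
  -- the two closed sets
  let Z₁ : Set S := f.base '' CohB1.support C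
  let Z₂ : Set S := f₁.base '' CohB1.support K₁
  have hZ₁lc : IsLocallyConstructible Z₁ :=
    f.isLocallyConstructible_image (isLocallyConstructible_support C)
  have hZ₂lc : IsLocallyConstructible Z₂ :=
    f₁.isLocallyConstructible_image (isLocallyConstructible_support K₁)
  have hZ₂eq : Z₂ = f.base '' (j₁.base '' CohB1.support K₁) := by
    rw [Set.image_image]
    rfl
  have hSig : IsClosed (CohB1.support C ∪ j₁.base '' CohB1.support K₁) := by
    rw [← isOpen_compl_iff]
    have : (CohB1.support C ∪ j₁.base '' CohB1.support K₁)ᶜ = j₁.base '' (CohB1.support K₁)ᶜ := by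
      ext x
      simp only [Set.mem_compl_iff, Set.mem_union, not_or, Set.mem_image]
      constructor
      · rintro ⟨hx1, hx2⟩
        have hx : x ∈ Set.range j₁.base := by
          rw [range_ι_complSupport C]
          exact hx1
        obtain ⟨x₁, rfl⟩ := hx
        exact ⟨x₁, fun h => hx2 ⟨x₁, h, rfl⟩, rfl⟩
      · rintro ⟨x₁, hx₁, rfl⟩
        refine ⟨?_, ?_⟩
        · have hx : j₁ x₁ ∈ Set.range j₁.base := ⟨x₁, rfl⟩
          rw [range_ι_complSupport C] at hx
          exact hx
        · rintro ⟨x₂, hx₂, hx₂e⟩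
          have := j₁.isOpenEmbedding.injective hx₂e
          exact hx₁ (this ▸ hx₂)
    rw [this]
    exact j₁.isOpenEmbedding.isOpenMap _ (isClosed_support K₁).isOpen_compl
  have hZcl : IsClosed (Z₁ ∪ Z₂) := by
    rw [hZ₂eq, ← Set.image_union]
    exact f.isClosedMap _ hSig
  let U : S.Opens := ⟨(Z₁ ∪ Z₂)ᶜ, hZcl.isOpen_compl⟩
  refine ⟨U, ?_, ?_⟩
  · apply quasiCompact_ι_of_isRetrocompact
    exact WtStrat.isRetrocompact_of_isLocallyConstructible
      (ConstrNhds.isLocallyConstructible_compl (hZ₁lc.union hZ₂lc))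
  · intro T t
    -- reformulate the right hand side
    have hU : Set.range t.base ⊆ (U : Set S) ↔
        Disjoint (Set.range t.base) Z₁ ∧ Disjoint (Set.range t.base) Z₂ := by
      change Set.range t.base ⊆ (Z₁ ∪ Z₂)ᶜ ↔ _
      rw [Set.subset_compl_iff_disjoint_right, Set.disjoint_union_right]
    rw [hU]
    let pr := pullback.fst f t
    have hE := epi_pullback_fst_iff f u t
    -- given the first disjointness, the second is equivalent to isomorphy
    have key : Disjoint (Set.range t.base) Z₁ →
        (IsIso ((Scheme.Modules.pullback pr).map u) ↔ Disjoint (Set.range t.base) Z₂) := by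
      intro hd
      have hepiT : Epi ((Scheme.Modules.pullback pr).map u) := hE.mpr hd
      have hstalk := (PbEpi.epi_pullback_map_iff pr u).mp hepiT
      have hrange : Set.range pr.base ⊆ Set.range j₁.base := by
        rw [range_ι_complSupport C]
        rintro _ ⟨y, rfl⟩ hy
        exact hy (hstalk y)
      let pr₁ := IsOpenImmersion.lift j₁ pr hrange
      have hfac : pr₁ ≫ j₁ = pr := IsOpenImmersion.lift_fac j₁ pr hrange
      have hc : IsPullback pr₁ (pullback.snd f t) f₁ t := by
        have h1 : IsPullback pr₁ (𝟙 _) j₁ pr := IsOpenImmersion.isPullback_lift_id pr j₁ hrange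
        have h2 : IsPullback pr (pullback.snd f t) f t := IsPullback.of_hasPullback f t
        have h3 := h1.paste_vert h2
        rwa [Category.id_comp] at h3
      rw [PbCover.isIso_pullback_comp_iff pr₁ j₁ pr hfac u]
      rw [isIso_pullback_iff hc u₁ hflat₁, Set.disjoint_left]
      constructor
      · rintro h _ ⟨τ, rfl⟩ ⟨x₁, hx₁, hxt⟩
        have hxt' : f (j₁ x₁) = t τ := hxt
        obtain ⟨z, hz1, -⟩ :=
          Scheme.Pullback.exists_preimage_pullback (f := f) (g := t) (j₁ x₁) τ hxt'
        have hz : pr₁ z = x₁ := by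
          apply j₁.isOpenEmbedding.injective
          rw [← Scheme.Hom.comp_apply, hfac]
          exact hz1
        exact h z (hz ▸ hx₁)
      · intro h y hy
        refine h ⟨pullback.snd f t y, rfl⟩ ⟨pr₁ y, hy, ?_⟩
        have e1 : j₁ (pr₁ y) = pr y := by rw [← Scheme.Hom.comp_apply, hfac]
        have e2 : f (pr y) = t (pullback.snd f t y) := by
          have := congrArg (fun g => g.base y) (pullback.condition (f := f) (g := t))
          exact this
        change f (j₁ (pr₁ y)) = t (pullback.snd f t y)
        rw [e1, e2]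
    constructor
    · intro hiso
      have hd : Disjoint (Set.range t.base) Z₁ := hE.mp inferInstance
      exact ⟨hd, (key hd).mp hiso⟩
    · rintro ⟨hd1, hd2⟩
      exact (key hd1).mpr hd2

end Groth.Agent.Lib.Helper20.IsoLoc
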