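import Mathlib

/-!
# Hilbert 90 (multiplicative and additive) for locally constant cocycles of the
automorphism group `L ≃ₐ[K] L` with the Krull topology  (helper20)

The proofs use a Poincaré-series argument over the finitely many restrictions of automorphisms
to a finite-dimensional intermediate field, so no reduction to finite Galois groups is needed.
-/

set_option autoImplicit false
universe u

namespace Groth.Agent.Lib.Helper20.KrullCocycle

open scoped BigOperators

variable {K L : Type u} [Field K] [Field L] [Algebra K L]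

section core

variable (E : IntermediateField K L)

/-- restriction of an automorphism to `E` -/
noncomputable def res (σ : L ≃ₐ[K] L) : E →ₐ[K] L := (σ : L →ₐ[K] L).comp E.val

@[simp] theorem res_apply (σ : L ≃ₐ[K] L) (x : E) : res E σ x = σ x := rfl

/-- post-composition with an automorphism -/
noncomputable def post (σ : L ≃ₐ[K] L) : (E →ₐ[K] L) ≃ (E →ₐ[K] L) where
  toFun t := (σ : L →ₐ[K] L).comp t
  invFun t := (σ.symm : L →ₐ[K] L).comp t
  left_inv t := by ext x; simp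
  right_inv t := by ext x; simp

@[simp] theorem post_apply (σ : L ≃ₐ[K] L) (t : E →ₐ[K] L) (x : E) : post E σ t x = σ (t x) := rfl

theorem post_res (σ τ : L ≃ₐ[K] L) : post E σ (res E τ) = res E (σ * τ) := by
  ext x; simp [AlgEquiv.mul_apply]

theorem res_eq_imp {σ τ : L ≃ₐ[K] L} (h : res E σ = res E τ) : σ⁻¹ * τ ∈ E.fixingSubgroup := by
  rw [IntermediateField.mem_fixingSubgroup_iff]
  intro x hx
  have := DFunLike.congr_fun h ⟨x, hx⟩
  simp only [res_apply] at this
  rw [AlgEquiv.mul_apply, ← this]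
  exact σ.symm_apply_apply x

variable [FiniteDimensional K E]

open Classical in
/-- the finite set of restrictions of automorphisms -/
noncomputable def T : Finset (E →ₐ[K] L) :=
  Finset.univ.filter (fun t => ∃ σ : L ≃ₐ[K] L, res E σ = t)

theorem mem_T (t : E →ₐ[K] L) : t ∈ T E ↔ ∃ σ : L ≃ₐ[K] L, res E σ = t := by
  classical
  simp [T]

theorem res_mem_T (σ : L ≃ₐ[K] L) : res E σ ∈ T E := (mem_T E _).2 ⟨σ, rfl⟩

theorem post_mem_T (σ : L ≃ₐ[K] L) (t : E →ₐ[K] L) : t ∈ T E ↔ post E σ t ∈ T E := by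
  rw [mem_T, mem_T]
  constructor
  · rintro ⟨τ, rfl⟩
    exact ⟨σ * τ, (post_res E σ τ).symm⟩
  · rintro ⟨τ, hτ⟩
    refine ⟨σ⁻¹ * τ, ?_⟩
    rw [← post_res, hτ]
    exact (post E σ).symm_apply_apply t

theorem sum_post (σ : L ≃ₐ[K] L) (F : (E →ₐ[K] L) → L) :
    ∑ t ∈ T E, F (post E σ t) = ∑ t ∈ T E, F t :=
  Finset.sum_equiv (post E σ) (fun t => post_mem_T E σ t) (fun _ _ => rfl)

/-- values transported to restrictions -/
noncomputable def alpha (α₀ : (L ≃ₐ[K] L) → L) (t : E →ₐ[K] L) : L := by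
  classical
  exact if h : ∃ σ : L ≃ₐ[K] L, res E σ = t then α₀ h.choose else 0

theorem alpha_res (α₀ : (L ≃ₐ[K] L) → L)
    (hinv : ∀ σ : L ≃ₐ[K] L, ∀ h ∈ E.fixingSubgroup, α₀ (σ * h) = α₀ σ) (σ : L ≃ₐ[K] L) :
    alpha E α₀ (res E σ) = α₀ σ := by
  classical
  have hex : ∃ τ : L ≃ₐ[K] L, res E τ = res E σ := ⟨σ, rfl⟩
  unfold alpha
  rw [dif_pos hex]
  have h1 := res_eq_imp E hex.choose_spec
  have h2 := hinv hex.choose _ h1
  rw [← h2]
  congr 1
  group

/-- Dedekind: a nontrivial combination of distinct embeddings is nonzero somewhere. -/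
theorem exists_sum_ne_zero (S : Finset (E →ₐ[K] L)) (c : (E →ₐ[K] L) → L)
    (t₀ : E →ₐ[K] L) (ht₀ : t₀ ∈ S) (hc : c t₀ ≠ 0) : ∃ x : E, ∑ t ∈ S, c t * t x ≠ 0 := by
  by_contra hcon
  push Not at hcon
  have hli := linearIndependent_algHom_toLinearMap K E L
  have hsum : ∑ t ∈ S, c t • (AlgHom.toLinearMap t : E →ₗ[K] L) = 0 := by
    ext x
    rw [LinearMap.sum_apply]
    simpa using hcon x
  exact hc (linearIndependent_iff'.1 hli S c hsum t₀ ht₀)

end core

/-- a locally constant map is constant near `1`, on the fixing subgroup of a finite subextension -/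
theorem exists_fixingSubgroup_const {X : Type*} (f : (L ≃ₐ[K] L) → X) (hlc : IsLocallyConstant f) :
    ∃ E : IntermediateField K L, FiniteDimensional K E ∧
      ∀ h ∈ E.fixingSubgroup, f h = f 1 := by
  have hopen : IsOpen {σ | f σ = f 1} := hlc.isOpen_fiber (f 1)
  have hmem : {σ | f σ = f 1} ∈ nhds (1 : L ≃ₐ[K] L) := hopen.mem_nhds rfl
  obtain ⟨E, hE, hsub⟩ := (krullTopology_mem_nhds_one_iff K L _).1 hmem
  exact ⟨E, hE, fun h hh => hsub hh⟩

/-- **Multiplicative Hilbert 90** for locally constant cocycles. -/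
theorem mult_core (a : (L ≃ₐ[K] L) → Lˣ) (ha : ∀ σ τ : L ≃ₐ[K] L, a (σ * τ) = a σ * σ • a τ)
    (hlc : IsLocallyConstant a) : ∃ c : Lˣ, ∀ σ : L ≃ₐ[K] L, a σ = c⁻¹ * σ • c := by
  classical
  obtain ⟨E, hE, hconst⟩ := exists_fixingSubgroup_const a hlc
  have ha1 : a 1 = 1 := by
    have h := ha 1 1
    rw [one_mul, one_smul] at h
    have h2 : a 1 * 1 = a 1 * a 1 := by rw [mul_one]; exact h
    exact (mul_left_cancel h2).symm
  set α₀ : (L ≃ₐ[K] L) → L := fun σ => (a σ : L) with hα₀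
  have hcoc : ∀ σ τ : L ≃ₐ[K] L, α₀ (σ * τ) = α₀ σ * σ (α₀ τ) := by
    intro σ τ
    simp only [hα₀, ha σ τ, Units.val_mul, AlgEquiv.smul_units_def, Units.coe_map,
      MonoidHom.coe_coe]
  have hinv : ∀ σ : L ≃ₐ[K] L, ∀ h ∈ E.fixingSubgroup, α₀ (σ * h) = α₀ σ := by
    intro σ h hh
    rw [hcoc, hα₀]
    simp only [hconst h hh, ha1, Units.val_one, map_one, mul_one]
  have hαres := alpha_res E α₀ hinv
  have hα1 : alpha E α₀ (res E 1) ≠ 0 := by
    rw [hαres, hα₀]; simp [ha1]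
  obtain ⟨x, hx⟩ := exists_sum_ne_zero E (T E) (alpha E α₀) (res E 1) (res_mem_T E 1) hα1
  set b : L := ∑ t ∈ T E, alpha E α₀ t * t x with hb
  have hσb : ∀ σ : L ≃ₐ[K] L, α₀ σ * σ b = b := by
    intro σ
    have h1 : b = ∑ t ∈ T E, alpha E α₀ (post E σ t) * (post E σ t) x :=
      (sum_post E σ (fun t => alpha E α₀ t * t x)).symm
    have h2 : α₀ σ * σ b = ∑ t ∈ T E, α₀ σ * (σ (alpha E α₀ t) * σ (t x)) := by
      rw [hb, map_sum, Finset.mul_sum]
      simp only [map_mul]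
    rw [h2, h1]
    refine Finset.sum_congr rfl fun t ht => ?_
    obtain ⟨τ, rfl⟩ := (mem_T E t).1 ht
    rw [post_res, hαres, hαres, hcoc, ← post_res, post_apply]
    ring
  refine ⟨(Units.mk0 b hx)⁻¹, fun σ => ?_⟩
  apply Units.ext
  have h1 := hσb σ
  simp only [inv_inv, Units.val_mul, Units.val_mk0, AlgEquiv.smul_units_def, Units.coe_map,
    MonoidHom.coe_coe, Units.val_inv_eq_inv_val, map_inv₀]
  have hσb0 : σ b ≠ 0 := by
    intro h0; rw [h0, mul_zero] at h1; exact hx h1.symm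
  change (a σ : L) = b * (σ b)⁻¹
  rw [eq_mul_inv_iff_mul_eq₀ hσb0]
  exact h1

/-- **Additive Hilbert 90** for locally constant cocycles. -/
theorem add_core (a : (L ≃ₐ[K] L) → L) (ha : ∀ σ τ : L ≃ₐ[K] L, a (σ * τ) = a σ + σ (a τ))
    (hlc : IsLocallyConstant a) : ∃ y : L, ∀ σ : L ≃ₐ[K] L, a σ = σ y - y := by
  classical
  obtain ⟨E, hE, hconst⟩ := exists_fixingSubgroup_const a hlc
  have ha1 : a 1 = 0 := by
    have h := ha 1 1
    rw [one_mul, AlgEquiv.one_apply] at h
    have h2 : a 1 + 0 = a 1 + a 1 := by rw [add_zero]; exact h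
    exact (add_left_cancel h2).symm
  have hinv : ∀ σ : L ≃ₐ[K] L, ∀ h ∈ E.fixingSubgroup, a (σ * h) = a σ := by
    intro σ h hh
    rw [ha, hconst h hh, ha1, map_zero, add_zero]
  have hαres := alpha_res E a hinv
  obtain ⟨x, hx⟩ := exists_sum_ne_zero E (T E) (fun _ => (1 : L)) (res E 1) (res_mem_T E 1)
    one_ne_zero
  simp only [one_mul] at hx
  set s : L := ∑ t ∈ T E, t x with hs
  set b : L := ∑ t ∈ T E, alpha E a t * t x with hb
  have hσs : ∀ σ : L ≃ₐ[K] L, σ s = s := by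
    intro σ
    have h1 : s = ∑ t ∈ T E, (post E σ t) x := (sum_post E σ (fun t => t x)).symm
    have h2 : σ s = ∑ t ∈ T E, σ (t x) := by rw [hs, map_sum]
    rw [h2, h1]
    rfl
  have hσb : ∀ σ : L ≃ₐ[K] L, σ b = b - a σ * s := by
    intro σ
    have h1 : b = ∑ t ∈ T E, alpha E a (post E σ t) * (post E σ t) x :=
      (sum_post E σ (fun t => alpha E a t * t x)).symm
    have h3 : s = ∑ t ∈ T E, (post E σ t) x := (sum_post E σ (fun t => t x)).symm
    have h2 : σ b = ∑ t ∈ T E, σ (alpha E a t) * σ (t x) := by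
      rw [hb, map_sum]
      simp only [map_mul]
    rw [h2, h1, h3, Finset.mul_sum, ← Finset.sum_sub_distrib]
    refine Finset.sum_congr rfl fun t ht => ?_
    obtain ⟨τ, rfl⟩ := (mem_T E t).1 ht
    rw [post_res, hαres, hαres, ha, ← post_res, post_apply]
    ring
  refine ⟨-(b / s), fun σ => ?_⟩
  rw [map_neg, map_div₀, hσs, hσb]
  field_simp
  ring

end Groth.Agent.Lib.Helper20.KrullCocycle
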