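import Mathlib
import Groth.Prelude.Def_W4c6gradedringsgwSect
import Groth.Prelude.Def_CAlg

/-!
# The semigroup algebra of a numerical semigroup as a subalgebra of `k[X]` (helper20)

`semiAlg k H ⊆ k[X]`: polynomials supported in `H`; the artinian quotient `Bq = k[H]/(X^e)`.
-/

set_option autoImplicit false
set_option linter.unusedSectionVars false
set_option linter.unusedVariables false
set_option linter.style.haveILetI false

universe u

open Polynomial

namespace Groth.Agent.Lib.Helper20.Kunz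

variable (k : Type u) [Field k] (H : AddSubmonoid ℕ)

/-- the semigroup algebra `k[H]` as a subalgebra of `k[X]`. -/
def semiAlg : Subalgebra k k[X] where
  carrier := {p | ∀ n, p.coeff n ≠ 0 → n ∈ H}
  mul_mem' {p q} hp hq n hn := by
    rw [coeff_mul] at hn
    obtain ⟨x, hx, hx0⟩ := Finset.exists_ne_zero_of_sum_ne_zero hn
    have h1 : p.coeff x.1 ≠ 0 := left_ne_zero_of_mul hx0
    have h2 : q.coeff x.2 ≠ 0 := right_ne_zero_of_mul hx0
    rw [← Finset.HasAntidiagonal.mem_antidiagonal.mp hx]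
    exact H.add_mem (hp _ h1) (hq _ h2)
  add_mem' {p q} hp hq n hn := by
    rw [coeff_add] at hn
    by_cases h : p.coeff n = 0
    · rw [h, zero_add] at hn
      exact hq n hn
    · exact hp n h
  algebraMap_mem' c n hn := by
    rw [Polynomial.algebraMap_apply, coeff_C] at hn
    split_ifs at hn with h
    · subst h
      exact H.zero_mem
    · exact absurd rfl hn

variable {k H}

theorem mem_semiAlg {p : k[X]} : p ∈ semiAlg k H ↔ ∀ n, p.coeff n ≠ 0 → n ∈ H := Iff.rfl

theorem X_pow_mem {n : ℕ} (h : n ∈ H) : (X : k[X]) ^ n ∈ semiAlg k H := by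
  intro m hm
  rw [coeff_X_pow] at hm
  split_ifs at hm with h'
  · subst h'
    exact h
  · exact absurd rfl hm

open Classical in
/-- the monomial `X^n` of `k[H]` (zero if `n ∉ H`). -/
noncomputable def xp (n : ℕ) : semiAlg k H :=
  if h : n ∈ H then ⟨X ^ n, X_pow_mem h⟩ else 0

theorem xp_of_mem {n : ℕ} (h : n ∈ H) : ((xp n : semiAlg k H) : k[X]) = X ^ n := by
  unfold xp
  rw [dif_pos h]

theorem xp_eq {n : ℕ} (h : n ∈ H) : (xp n : semiAlg k H) = ⟨X ^ n, X_pow_mem h⟩ := by
  unfold xp
  rw [dif_pos h]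

theorem eq_sum_xp (p : semiAlg k H) :
    p = ∑ n ∈ p.1.support, p.1.coeff n • (xp n : semiAlg k H) := by
  apply Subtype.ext
  rw [AddSubmonoidClass.coe_finsetSum]
  conv_lhs => rw [p.1.as_sum_support_C_mul_X_pow]
  refine Finset.sum_congr rfl fun n hn => ?_
  have hn' : n ∈ H := p.2 n (Polynomial.mem_support_iff.1 hn)
  show _ = p.1.coeff n • ((xp n : semiAlg k H) : k[X])
  rw [xp_of_mem hn', Polynomial.smul_eq_C_mul]

theorem xp_mul {a b : ℕ} (ha : a ∈ H) (hb : b ∈ H) :
    (xp a : semiAlg k H) * xp b = xp (a + b) := by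
  apply Subtype.ext
  show ((xp a : semiAlg k H) : k[X]) * ((xp b : semiAlg k H) : k[X]) = _
  rw [xp_of_mem ha, xp_of_mem hb, xp_of_mem (H.add_mem ha hb), pow_add]

variable (k H) in
/-- the artinian quotient `k[H]/(X^e)`. -/
abbrev Bq (e : ℕ) : Type u := semiAlg k H ⧸ Ideal.span {(xp e : semiAlg k H)}

variable {e : ℕ} (he : e ∈ H)

include he in
theorem mem_span_iff (p : semiAlg k H) :
    p ∈ Ideal.span {(xp e : semiAlg k H)} ↔ ∀ n, p.1.coeff n ≠ 0 → e ≤ n ∧ n - e ∈ H := by
  rw [Ideal.mem_span_singleton']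
  constructor
  · rintro ⟨a, rfl⟩ n hn
    have h1 : ((a * xp e : semiAlg k H) : k[X]) = a.1 * X ^ e := by
      show a.1 * ((xp e : semiAlg k H) : k[X]) = _
      rw [xp_of_mem he]
    rw [h1, coeff_mul_X_pow'] at hn
    split_ifs at hn with hle
    · exact ⟨hle, a.2 _ hn⟩
    · exact absurd rfl hn
  · intro h
    have hdvd : (X : k[X]) ^ e ∣ p.1 := by
      rw [X_pow_dvd_iff]
      intro d hd
      by_contra h0
      have := (h d h0).1
      omega
    obtain ⟨q, hq⟩ := hdvd
    have hqm : q ∈ semiAlg k H := by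
      intro m hm
      have h1 : p.1.coeff (m + e) = q.coeff m := by
        rw [hq, coeff_X_pow_mul]
      have h2 := (h (m + e) (by rw [h1]; exact hm)).2
      rwa [Nat.add_sub_cancel] at h2
    refine ⟨⟨q, hqm⟩, ?_⟩
    apply Subtype.ext
    show q * ((xp e : semiAlg k H) : k[X]) = p.1
    rw [xp_of_mem he, hq, mul_comm]

include he in
theorem xp_mem_span {n : ℕ} (hn : n ∈ H) (hle : e ≤ n) (hsub : n - e ∈ H) :
    (xp n : semiAlg k H) ∈ Ideal.span {(xp e : semiAlg k H)} := by
  rw [mem_span_iff he]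
  intro m hm
  rw [xp_of_mem hn, coeff_X_pow] at hm
  split_ifs at hm with h'
  · subst h'
    exact ⟨hle, hsub⟩
  · exact absurd rfl hm

include he in
theorem finite_Bq (c : ℕ) (hc : ∀ n, c ≤ n → n ∈ H) : Module.Finite k (Bq k H e) := by
  classical
  rw [Module.finite_def]
  have htop : (⊤ : Submodule k (Bq k H e)) = Submodule.span k
      (Set.range fun i : Fin (e + c) =>
        (Ideal.Quotient.mk (Ideal.span {(xp e : semiAlg k H)}) (xp (i : ℕ)) : Bq k H e)) := by
    symm
    rw [eq_top_iff]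
    intro b _
    obtain ⟨p, rfl⟩ := Ideal.Quotient.mk_surjective b
    rw [eq_sum_xp p, map_sum]
    refine Submodule.sum_mem _ fun n hn => ?_
    have hsm : (Ideal.Quotient.mk (Ideal.span {(xp e : semiAlg k H)}))
        (p.1.coeff n • (xp n : semiAlg k H)) =
        p.1.coeff n • (Ideal.Quotient.mk (Ideal.span {(xp e : semiAlg k H)})) (xp n) :=
      map_smul (Ideal.Quotient.mkₐ k (Ideal.span {(xp e : semiAlg k H)})) _ _
    rw [hsm]
    refine Submodule.smul_mem _ _ ?_
    by_cases hlt : n < e + c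
    · exact Submodule.subset_span ⟨⟨n, hlt⟩, rfl⟩
    · have hn' : n ∈ H := p.2 n (Polynomial.mem_support_iff.1 hn)
      have h0 : (Ideal.Quotient.mk (Ideal.span {(xp e : semiAlg k H)})) (xp n) = 0 := by
        rw [Ideal.Quotient.eq_zero_iff_mem]
        exact xp_mem_span he hn' (by omega) (hc _ (by omega))
      rw [h0]
      exact Submodule.zero_mem _
  rw [htop]
  exact Submodule.fg_span (Set.finite_range _)

end Groth.Agent.Lib.Helper20.Kunz
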