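import Mathlib
import Groth.Agent.Lib.Helper20.Kunz1
import Groth.Agent.Lib.Helper4.Matlis2
import Groth.Agent.Lib.Helper4.GorLoc

/-!
# Kunz's theorem, easy half: a symmetric semigroup gives a Gorenstein artinian reduction (helper20)
-/

set_option autoImplicit false
set_option linter.unusedSectionVars false
set_option linter.unusedVariables false
set_option linter.style.haveILetI false

universe u

open Polynomial CategoryTheory

namespace Groth.Agent.Lib.Helper20.Kunz

variable {k : Type u} [Field k] {H : AddSubmonoid ℕ}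

/-- membership of an integer in `H`. -/
def inH (H : AddSubmonoid ℕ) (n : ℤ) : Prop := ∃ h ∈ (H : Set ℕ), (h : ℤ) = n

theorem inH_natCast {n : ℕ} : inH H (n : ℤ) ↔ n ∈ H := by
  constructor
  · rintro ⟨h, hh, he⟩
    have : h = n := by exact_mod_cast he
    rw [← this]
    exact hh
  · intro h
    exact ⟨n, h, rfl⟩

theorem not_inH_neg {n : ℤ} (hn : n < 0) : ¬ inH H n := by
  rintro ⟨h, _, he⟩
  omega

theorem isSymmetric_iff :
    W4c6gradedringsgw.IsSymmetric (H : Set ℕ) ↔ ∃ d : ℤ, ∀ n : ℤ, inH H n ↔ ¬ inH H (d - n) :=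
  Iff.rfl

section frob

variable {e : ℕ} (he : e ∈ H) (he0 : 0 < e) (d : ℤ) (hd : ∀ n : ℤ, inH H n ↔ ¬ inH H (d - n))

include hd in
theorem not_inH_d : ¬ inH H d := by
  have h0 : inH H 0 := ⟨0, H.zero_mem, rfl⟩
  have := (hd 0).1 h0
  rwa [sub_zero] at this

include hd in
theorem neg_one_le_d : -1 ≤ d := by
  have h1 : ¬ inH H (-1) := not_inH_neg (by omega)
  have h2 : inH H (d - (-1)) := by
    by_contra h
    exact h1 ((hd (-1)).2 h)
  obtain ⟨h, _, hh⟩ := h2
  omega

include hd in
theorem inH_of_not (n : ℤ) (h : ¬ inH H n) : inH H (d - n) := by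
  by_contra h'
  exact h ((hd n).2 h')

variable (k) in
/-- the top-coefficient functional on `k[H]`. -/
noncomputable def lamS (H : AddSubmonoid ℕ) (N : ℕ) : semiAlg k H →ₗ[k] k :=
  (Polynomial.lcoeff k N).comp (semiAlg k H).val.toLinearMap

theorem lamS_apply (N : ℕ) (p : semiAlg k H) : lamS k H N p = p.1.coeff N := rfl

include he hd in
theorem lamS_eq_zero_of_mem (N : ℕ) (hN : (N : ℤ) = d + e) (p : semiAlg k H)
    (hp : p ∈ Ideal.span {(xp e : semiAlg k H)}) : lamS k H N p = 0 := by
  rw [lamS_apply]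
  by_contra h0
  obtain ⟨hle, hsub⟩ := (mem_span_iff he p).1 hp N h0
  apply not_inH_d d hd
  refine ⟨N - e, hsub, ?_⟩
  omega

variable (k) in
/-- the induced functional on `k[H]/(X^e)`. -/
noncomputable def lamB (H : AddSubmonoid ℕ) (e N : ℕ)
    (h : ∀ p ∈ Ideal.span {(xp e : semiAlg k H)}, lamS k H N p = 0) : Bq k H e →ₗ[k] k :=
  (Submodule.liftQ ((Ideal.span {(xp e : semiAlg k H)}).restrictScalars k) (lamS k H N)
    (fun p hp => h p hp)).comp
    (Submodule.Quotient.restrictScalarsEquiv k (Ideal.span {(xp e : semiAlg k H)})).symm.toLinearMap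

theorem lamB_mk (e N : ℕ) (h : ∀ p ∈ Ideal.span {(xp e : semiAlg k H)}, lamS k H N p = 0)
    (p : semiAlg k H) :
    lamB k H e N h (Ideal.Quotient.mk (Ideal.span {(xp e : semiAlg k H)}) p) = p.1.coeff N := by
  unfold lamB
  rw [LinearMap.comp_apply]
  have h1 : (Submodule.Quotient.restrictScalarsEquiv k
      (Ideal.span {(xp e : semiAlg k H)})).symm.toLinearMap
      (Ideal.Quotient.mk (Ideal.span {(xp e : semiAlg k H)}) p) =
      Submodule.Quotient.mk p := rfl
  rw [h1, Submodule.liftQ_apply, lamS_apply]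

include he hd in
/-- nondegeneracy of the pairing. -/
theorem exists_lamB_ne_zero (N : ℕ) (hN : (N : ℤ) = d + e)
    (h : ∀ p ∈ Ideal.span {(xp e : semiAlg k H)}, lamS k H N p = 0)
    (b : Bq k H e) (hb : b ≠ 0) : ∃ x : Bq k H e, lamB k H e N h (x * b) ≠ 0 := by
  obtain ⟨p, rfl⟩ := Ideal.Quotient.mk_surjective b
  have hp : p ∉ Ideal.span {(xp e : semiAlg k H)} := by
    intro hp
    exact hb (Ideal.Quotient.eq_zero_iff_mem.2 hp)
  rw [mem_span_iff he] at hp
  push Not at hp
  obtain ⟨w, hw0, hw⟩ := hp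
  have h1 : ¬ inH H ((w : ℤ) - e) := by
    rintro ⟨h', hh', hhe⟩
    have hle : e ≤ w := by omega
    apply hw hle
    have : w - e = h' := by omega
    rw [this]
    exact hh'
  obtain ⟨h', hh', hhe⟩ := inH_of_not d hd _ h1
  refine ⟨Ideal.Quotient.mk _ (xp h'), ?_⟩
  rw [← map_mul, lamB_mk]
  show ((xp h' : semiAlg k H).1 * p.1).coeff N ≠ 0
  rw [xp_of_mem hh', coeff_X_pow_mul', if_pos (by omega)]
  have : N - h' = w := by omega
  rw [this]
  exact hw0

end frob

section frobenius

open Groth.Agent.Lib.Helper4.Matlis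

/-- **a finite-dimensional commutative Frobenius algebra is a Gorenstein ring.** -/
theorem gorRing_of_frobenius (B : Type u) [CommRing B] [Algebra k B] [Module.Finite k B]
    (lam : B →ₗ[k] k) (hnd : ∀ b : B, b ≠ 0 → ∃ x : B, lam (x * b) ≠ 0) :
    LocCoh.IsGorensteinRing B := by
  classical
  haveI : IsNoetherianRing B := by
    haveI : IsNoetherian k B := inferInstance
    exact isNoetherian_of_tower k inferInstance
  -- the pairing
  obtain ⟨Θ', hΘ'def⟩ : ∃ Θ' : B →ₗ[k] Module.Dual k B,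
      Θ' = (LinearMap.mul k B).compr₂ lam := ⟨_, rfl⟩
  have hΘ' : ∀ b x : B, Θ' b x = lam (b * x) := by
    intro b x; rw [hΘ'def]; rfl
  have hinj : Function.Injective Θ' := by
    rw [injective_iff_map_eq_zero]
    intro b hb
    by_contra hb0
    obtain ⟨x, hx⟩ := hnd b hb0
    apply hx
    have h1 : x * b = b * x := mul_comm x b
    rw [h1, ← hΘ', hb]
    rfl
  have hsurj : Function.Surjective Θ' :=
    (LinearMap.injective_iff_surjective_of_finrank_eq_finrank
      (Subspace.dual_finrank_eq (K := k) (V := B)).symm).mp hinj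
  -- the module map
  obtain ⟨Θ, hΘdef⟩ : ∃ Θ : B →ₗ[B] Dmod k B,
      Θ = LinearMap.toSpanSingleton B (Dmod k B) (toD lam) := ⟨_, rfl⟩
  have hΘ : ∀ b x : B, ev (Θ b) x = lam (x * b) := by
    intro b x
    rw [hΘdef]
    show ev (b • toD lam) x = _
    rw [ev_smul, ev_toD]
  have hbij : Function.Bijective Θ := by
    constructor
    · rw [injective_iff_map_eq_zero]
      intro b hb
      apply hinj
      rw [map_zero]
      refine LinearMap.ext fun x => ?_
      have h1 : b * x = x * b := mul_comm b x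
      rw [hΘ', h1, ← hΘ, hb, ev_zero]
      rfl
    · intro ψ
      obtain ⟨b, hb⟩ := hsurj (ofD ψ)
      refine ⟨b, ev_ext fun x => ?_⟩
      have h1 : x * b = b * x := mul_comm x b
      rw [hΘ, h1, ← hΘ', hb, ofD_apply]
  let eΘ : B ≃ₗ[B] Dmod k B := LinearEquiv.ofBijective Θ hbij
  haveI : Module.Injective B (Dmod k B) := injective_Dmod
  haveI : Injective (Dmod k B) :=
    Module.injective_object_of_injective_module B (Dmod k B)
  haveI : Injective (ModuleCat.of B B) :=
    Injective.of_iso (eΘ.toModuleIso).symm inferInstance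
  have hdim : HasInjectiveDimensionLT (ModuleCat.of B B) 1 := inferInstance
  exact { isGorensteinLocalRing_localization := fun p _ =>
    Groth.Agent.Lib.Helper4.LC.isGorensteinLocalRing_localization_of_injDim 1 hdim p }

end frobenius

section main

variable {e : ℕ} (he : e ∈ H) (he0 : 0 < e) (c : ℕ) (hc : ∀ n, c ≤ n → n ∈ H)

include he he0 hc in
/-- **a symmetric numerical semigroup has Gorenstein artinian reduction `k[H]/(X^e)`.** -/
theorem gorRing_Bq_of_isSymmetric (hsym : W4c6gradedringsgw.IsSymmetric (H : Set ℕ)) :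
    LocCoh.IsGorensteinRing (Bq k H e) := by
  obtain ⟨d, hd⟩ := isSymmetric_iff.1 hsym
  have hd1 := neg_one_le_d d hd
  obtain ⟨N, hN⟩ : ∃ N : ℕ, (N : ℤ) = d + e := ⟨(d + e).toNat, by
    rw [Int.toNat_of_nonneg]; omega⟩
  have hvan := lamS_eq_zero_of_mem (k := k) he d hd N hN
  haveI hfin : Module.Finite k (Bq k H e) := finite_Bq he c hc
  exact gorRing_of_frobenius (Bq k H e) (lamB k H e N hvan)
    (exists_lamB_ne_zero he d hd N hN hvan)

end main

end Groth.Agent.Lib.Helper20.Kunz
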