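import Mathlib
import Groth.Agent.Lib.Helper20.Kunz2
import Groth.Agent.Lib.Helper4.GorTop
import Groth.Agent.Lib.Helper4.GorRing

/-!
# Kunz's theorem, hard half: Gorenstein artinian reduction forces symmetry (helper20)
-/

set_option autoImplicit false
set_option linter.unusedSectionVars false
set_option linter.unusedVariables false
set_option linter.style.haveILetI false

universe u

open Polynomial CategoryTheory IsLocalRing

namespace Groth.Agent.Lib.Helper20.Kunz

section socle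

/-- **in a zero-dimensional Gorenstein local ring the socle is cyclic.** -/
theorem exists_mul_eq_of_socle (B : Type u) [CommRing B] [LocCoh.IsGorensteinLocalRing B]
    (hdim : ringKrullDim B = (0 : ℕ)) (s₁ s₂ : B) (h1 : s₁ ≠ 0)
    (hs₁ : ∀ a ∈ maximalIdeal B, a * s₁ = 0) (hs₂ : ∀ a ∈ maximalIdeal B, a * s₂ = 0) :
    ∃ b : B, s₂ = b * s₁ := by
  have hlen := Groth.Agent.Lib.Helper4.LC.gor_length_ext_residue B 0 hdim
  rw [Module.length_eq_one_iff] at hlen
  let e1 : Abelian.Ext.{u} (ModuleCat.of B (B ⧸ maximalIdeal B)) (ModuleCat.of B B) 0 ≃ₗ[B]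
      ((B ⧸ maximalIdeal B) →ₗ[B] B) :=
    (Abelian.Ext.linearEquiv₀ (R := B)).trans (ModuleCat.homLinearEquiv (S := B))
  haveI := hlen
  haveI : IsSimpleModule B ((B ⧸ maximalIdeal B) →ₗ[B] B) := IsSimpleModule.congr e1.symm
  have hf : ∀ s : B, (∀ a ∈ maximalIdeal B, a * s = 0) →
      ∃ f : (B ⧸ maximalIdeal B) →ₗ[B] B, f (Submodule.Quotient.mk 1) = s := by
    intro s hs
    refine ⟨Submodule.liftQ (maximalIdeal B) (LinearMap.toSpanSingleton B B s) ?_, ?_⟩
    · intro a ha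
      rw [LinearMap.mem_ker, LinearMap.toSpanSingleton_apply, smul_eq_mul]
      exact hs a ha
    · rw [Submodule.liftQ_apply, LinearMap.toSpanSingleton_apply, one_smul]
  obtain ⟨f₁, hf₁⟩ := hf s₁ hs₁
  obtain ⟨f₂, hf₂⟩ := hf s₂ hs₂
  have hf₁0 : f₁ ≠ 0 := by
    intro h0
    apply h1
    rw [← hf₁, h0]
    rfl
  obtain ⟨b, hb⟩ := IsSimpleModule.toSpanSingleton_surjective B hf₁0 f₂
  refine ⟨b, ?_⟩
  rw [← hf₂, ← hb, LinearMap.toSpanSingleton_apply, LinearMap.smul_apply, hf₁, smul_eq_mul]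

/-- the same for a finite-dimensional local algebra which is a Gorenstein ring. -/
theorem exists_mul_eq_of_socle' {k : Type u} [Field k] (B : Type u) [CommRing B] [Algebra k B]
    [Module.Finite k B] [IsLocalRing B] (hG : LocCoh.IsGorensteinRing B) (s₁ s₂ : B) (h1 : s₁ ≠ 0)
    (hs₁ : ∀ a ∈ maximalIdeal B, a * s₁ = 0) (hs₂ : ∀ a ∈ maximalIdeal B, a * s₂ = 0) :
    ∃ b : B, s₂ = b * s₁ := by
  haveI hGL : LocCoh.IsGorensteinLocalRing B :=
    (Groth.Agent.Lib.Helper4.GorRing.gor_atPrime_maximalIdeal_iff B).1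
      (hG.isGorensteinLocalRing_localization _)
  have hdim : ringKrullDim B = (0 : ℕ) := by
    haveI : IsArtinianRing B := IsArtinianRing.of_finite k B
    apply le_antisymm
    · exact Ring.krullDimLE_iff.1 inferInstance
    · exact ringKrullDim_nonneg_of_nontrivial
  exact exists_mul_eq_of_socle B hdim s₁ s₂ h1 hs₁ hs₂

end socle

variable {k : Type u} [Field k] {H : AddSubmonoid ℕ}

section frobnum

/-- the Frobenius number. -/
theorem exists_frobenius (c : ℕ) (hc : ∀ n, c ≤ n → n ∈ H) :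
    ∃ F : ℤ, -1 ≤ F ∧ ¬ inH H F ∧ ∀ n : ℤ, F < n → inH H n := by
  induction c with
  | zero =>
    refine ⟨-1, le_rfl, not_inH_neg (by omega), fun n hn => ?_⟩
    refine ⟨n.toNat, hc _ (Nat.zero_le _), ?_⟩
    rw [Int.toNat_of_nonneg]; omega
  | succ m ih =>
    by_cases hm : m ∈ H
    · apply ih
      intro n hn
      rcases Nat.eq_or_lt_of_le hn with h | h
      · rw [← h]; exact hm
      · exact hc n h
    · refine ⟨m, by omega, fun h => hm (inH_natCast.1 h), fun n hn => ?_⟩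
      refine ⟨n.toNat, hc _ (by omega), ?_⟩
      rw [Int.toNat_of_nonneg]; omega

theorem inH_add {a b : ℤ} (ha : inH H a) (hb : inH H b) : inH H (a + b) := by
  obtain ⟨x, hx, rfl⟩ := ha
  obtain ⟨y, hy, rfl⟩ := hb
  exact ⟨x + y, H.add_mem hx hy, by push_cast; rfl⟩

/-- symmetry from uniqueness of pseudo-Frobenius numbers. -/
theorem isSymmetric_of_pf (F : ℤ) (hF : ¬ inH H F) (hFmax : ∀ n : ℤ, F < n → inH H n)
    (hpf : ∀ y : ℤ, ¬ inH H y → (∀ h : ℤ, inH H h → h ≠ 0 → inH H (y + h)) → y = F) :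
    W4c6gradedringsgw.IsSymmetric (H : Set ℕ) := by
  rw [isSymmetric_iff]
  refine ⟨F, fun n => ⟨fun hn hn' => ?_, fun hn => ?_⟩⟩
  · apply hF
    have := inH_add hn hn'
    rwa [add_sub_cancel] at this
  · by_contra hx
    apply hn
    -- maximal element of `(n + H) \ H`
    obtain ⟨y, ⟨hy1, hy2⟩, hymax⟩ := Int.exists_greatest_of_bdd
      (P := fun y => ¬ inH H y ∧ inH H (y - n))
      ⟨F, fun z hz => by
        by_contra hlt
        exact hz.1 (hFmax z (by omega))⟩
      ⟨n, hx, by rw [sub_self]; exact ⟨0, H.zero_mem, rfl⟩⟩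
    have hyF : y = F := by
      apply hpf y hy1
      intro h hh hh0
      by_contra hcon
      have hle := hymax (y + h) ⟨hcon, by
        have := inH_add hy2 hh
        rwa [show y - n + h = y + h - n by ring] at this⟩
      obtain ⟨x, _, rfl⟩ := hh
      omega
    rw [← hyF]
    exact hy2

end frobnum

section loc

variable {e : ℕ} (he : e ∈ H) (he0 : 0 < e) (c : ℕ) (hc : ∀ n, c ≤ n → n ∈ H)

include he he0 in
/-- the augmentation `k[H]/(X^e) → k`. -/
theorem exists_epsB : ∃ ε : Bq k H e →+* k, (∀ p : semiAlg k H,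
    ε (Ideal.Quotient.mk (Ideal.span {(xp e : semiAlg k H)}) p) = p.1.coeff 0) ∧
    Function.Surjective ε := by
  have hex : ∃ ε : Bq k H e →+* k, ∀ p : semiAlg k H,
      ε (Ideal.Quotient.mk (Ideal.span {(xp e : semiAlg k H)}) p) = p.1.coeff 0 := by
    refine ⟨Ideal.Quotient.lift (Ideal.span {(xp e : semiAlg k H)})
      ((Polynomial.constantCoeff (R := k)).comp (semiAlg k H).val.toRingHom) ?_, fun p => ?_⟩
    · intro a ha
      show (a : k[X]).coeff 0 = 0
      by_contra h0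
      have := ((mem_span_iff he a).1 ha 0 h0).1
      omega
    · rw [Ideal.Quotient.lift_mk]
      rfl
  obtain ⟨ε, hε⟩ := hex
  refine ⟨ε, hε, ?_⟩
  intro a
  refine ⟨algebraMap k (Bq k H e) a, ?_⟩
  have h1 : algebraMap k (Bq k H e) a =
      Ideal.Quotient.mk (Ideal.span {(xp e : semiAlg k H)}) (algebraMap k (semiAlg k H) a) := rfl
  rw [h1, hε]
  show (algebraMap k k[X] a).coeff 0 = a
  rw [Polynomial.algebraMap_apply, coeff_C_zero]
  rfl

include he he0 hc in
theorem isNilpotent_of_eps (p : semiAlg k H) (hp : p.1.coeff 0 = 0) :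
    IsNilpotent (Ideal.Quotient.mk (Ideal.span {(xp e : semiAlg k H)}) p) := by
  refine ⟨e + c, ?_⟩
  rw [← map_pow, Ideal.Quotient.eq_zero_iff_mem, mem_span_iff he]
  intro m hm
  have hX : (X : k[X]) ∣ p.1 := by
    rw [X_dvd_iff]; exact hp
  have hXN : (X : k[X]) ^ (e + c) ∣ ((p ^ (e + c) : semiAlg k H) : k[X]) := by
    show (X : k[X]) ^ (e + c) ∣ p.1 ^ (e + c)
    exact pow_dvd_pow_of_dvd hX _
  rw [X_pow_dvd_iff] at hXN
  have hle : e + c ≤ m := by
    by_contra hlt
    exact hm (hXN m (by omega))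
  exact ⟨by omega, hc _ (by omega)⟩

include he he0 hc in
theorem isLocalRing_Bq : IsLocalRing (Bq k H e) := by
  obtain ⟨ε, hε, hsurj⟩ := exists_epsB (k := k) he he0
  have hmax0 : (RingHom.ker ε).IsMaximal := RingHom.ker_isMaximal_of_surjective ε hsurj
  obtain ⟨I, hI⟩ : ∃ I : Ideal (Bq k H e), I = RingHom.ker ε := ⟨_, rfl⟩
  have hmax : I.IsMaximal := by rw [hI]; exact hmax0
  suffices h : ∃! I : Ideal (Bq k H e), I.IsMaximal from
    IsLocalRing.of_unique_max_ideal (R := Bq k H e) h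
  refine ⟨I, hmax, fun M hM' => ?_⟩
  have hM : M.IsMaximal := hM'
  symm
  apply hmax.eq_of_le hM.ne_top
  intro a ha
  obtain ⟨p, rfl⟩ := Ideal.Quotient.mk_surjective a
  rw [hI, RingHom.mem_ker, hε] at ha
  obtain ⟨n, hn⟩ := isNilpotent_of_eps he he0 c hc p ha
  have hP : M.IsPrime := Ideal.IsMaximal.isPrime (α := Bq k H e) hM
  exact hP.mem_of_pow_mem n (by rw [hn]; exact M.zero_mem)

end loc

section main2

variable {e : ℕ} (he : e ∈ H) (he0 : 0 < e) (c : ℕ) (hc : ∀ n, c ≤ n → n ∈ H)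

local notation "mkB" => Ideal.Quotient.mk (Ideal.span {(xp e : semiAlg k H)})

include he he0 hc in
/-- **if `k[H]/(X^e)` is Gorenstein then `H` is symmetric.** -/
theorem isSymmetric_of_gorRing_Bq (hG : LocCoh.IsGorensteinRing (Bq k H e)) :
    W4c6gradedringsgw.IsSymmetric (H : Set ℕ) := by
  classical
  haveI hloc : IsLocalRing (Bq k H e) := isLocalRing_Bq he he0 c hc
  haveI hfin : Module.Finite k (Bq k H e) := finite_Bq he c hc
  obtain ⟨ε, hε, hsurj⟩ := exists_epsB (k := k) he he0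
  have hmax0 : (RingHom.ker ε).IsMaximal := RingHom.ker_isMaximal_of_surjective ε hsurj
  obtain ⟨I, hI⟩ : ∃ I : Ideal (Bq k H e), I = RingHom.ker ε := ⟨_, rfl⟩
  have hmax : I.IsMaximal := by rw [hI]; exact hmax0
  have hIm : I = maximalIdeal (Bq k H e) := IsLocalRing.eq_maximalIdeal (R := Bq k H e) hmax
  have hmem : ∀ a : Bq k H e, a ∈ maximalIdeal (Bq k H e) ↔ ε a = 0 := by
    intro a
    rw [← hIm, hI, RingHom.mem_ker]
  obtain ⟨F, hF1, hF, hFmax⟩ := exists_frobenius c hc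
  apply isSymmetric_of_pf F hF hFmax
  intro y hy hypf
  by_contra hne
  -- socle elements
  have key : ∀ z : ℤ, ¬ inH H z → (∀ h : ℤ, inH H h → h ≠ 0 → inH H (z + h)) →
      ∃ m : ℕ, (m : ℤ) = z + e ∧ m ∈ H ∧ mkB (xp m) ≠ 0 ∧
        ∀ a ∈ maximalIdeal (Bq k H e), a * mkB (xp m) = 0 := by
    intro z hz hzpf
    obtain ⟨m, hmH, hm⟩ := hzpf e (inH_natCast.2 he) (by omega)
    have hmH' : m ∈ H := hmH
    refine ⟨m, hm, hmH', ?_, ?_⟩
    · intro h0
      rw [Ideal.Quotient.eq_zero_iff_mem, mem_span_iff he] at h0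
      have h1 : ((xp m : semiAlg k H) : k[X]).coeff m ≠ 0 := by
        rw [xp_of_mem hmH', coeff_X_pow, if_pos rfl]
        exact one_ne_zero
      obtain ⟨hle, hsub⟩ := h0 m h1
      apply hz
      refine ⟨m - e, hsub, ?_⟩
      omega
    · intro a ha
      obtain ⟨q, rfl⟩ := Ideal.Quotient.mk_surjective a
      rw [hmem, hε] at ha
      rw [← map_mul, Ideal.Quotient.eq_zero_iff_mem, mem_span_iff he]
      intro j hj
      have h1 : ((q * xp m : semiAlg k H) : k[X]) = q.1 * X ^ m := by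
        show q.1 * ((xp m : semiAlg k H) : k[X]) = _
        rw [xp_of_mem hmH']
      rw [h1, coeff_mul_X_pow'] at hj
      split_ifs at hj with hle
      · have hjm : j - m ∈ H := q.2 _ hj
        have hjm0 : j - m ≠ 0 := by
          intro h0
          rw [h0] at hj
          exact hj ha
        obtain ⟨x, hxH, hx⟩ := hzpf ((j - m : ℕ) : ℤ) (inH_natCast.2 hjm) (by omega)
        have hxH' : x ∈ H := hxH
        have hxe : x = j - e := by omega
        refine ⟨by omega, ?_⟩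
        rw [← hxe]
        exact hxH'
      · exact absurd rfl hj
  obtain ⟨m₁, hm₁, hm₁H, hm₁0, hm₁s⟩ := key F hF (fun h hh hh0 => hFmax _ (by
    obtain ⟨x, _, rfl⟩ := hh
    omega))
  obtain ⟨m₂, hm₂, hm₂H, hm₂0, hm₂s⟩ := key y hy hypf
  obtain ⟨b, hb⟩ := exists_mul_eq_of_socle' (k := k) (Bq k H e) hG (mkB (xp m₁)) (mkB (xp m₂))
    hm₁0 hm₁s hm₂s
  obtain ⟨q, rfl⟩ := Ideal.Quotient.mk_surjective b
  -- split off the constant term
  have hq : mkB q * mkB (xp m₁) = mkB (q.1.coeff 0 • (xp m₁ : semiAlg k H)) := by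
    have h1 : q = algebraMap k (semiAlg k H) (q.1.coeff 0) +
        (q - algebraMap k (semiAlg k H) (q.1.coeff 0)) := by ring
    have h2 : mkB (q - algebraMap k (semiAlg k H) (q.1.coeff 0)) ∈ maximalIdeal (Bq k H e) := by
      rw [hmem, hε]
      show (q.1 - algebraMap k k[X] (q.1.coeff 0)).coeff 0 = 0
      rw [coeff_sub, Polynomial.algebraMap_apply, coeff_C_zero]
      exact sub_self _
    conv_lhs => rw [h1, map_add, add_mul, hm₁s _ h2, add_zero, ← map_mul]
    rw [Algebra.smul_def]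
  rw [hq] at hb
  have hmem2 : (xp m₂ : semiAlg k H) - q.1.coeff 0 • (xp m₁ : semiAlg k H) ∈
      Ideal.span {(xp e : semiAlg k H)} := by
    rw [← Ideal.Quotient.eq_zero_iff_mem, map_sub, hb, sub_self]
  rw [mem_span_iff he] at hmem2
  have hcoef : (((xp m₂ : semiAlg k H) - q.1.coeff 0 • (xp m₁ : semiAlg k H) : semiAlg k H) :
      k[X]).coeff m₂ ≠ 0 := by
    have h1 : (((xp m₂ : semiAlg k H) - q.1.coeff 0 • (xp m₁ : semiAlg k H) : semiAlg k H) :
        k[X]) = X ^ m₂ - q.1.coeff 0 • X ^ m₁ := by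
      show ((xp m₂ : semiAlg k H) : k[X]) - q.1.coeff 0 • ((xp m₁ : semiAlg k H) : k[X]) = _
      rw [xp_of_mem hm₂H, xp_of_mem hm₁H]
    rw [h1, coeff_sub, coeff_smul, coeff_X_pow, coeff_X_pow, if_pos rfl, if_neg (by omega),
      smul_zero, sub_zero]
    exact one_ne_zero
  obtain ⟨hle, hsub⟩ := hmem2 m₂ hcoef
  apply hy
  refine ⟨m₂ - e, hsub, ?_⟩
  omega

end main2

end Groth.Agent.Lib.Helper20.Kunz
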