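import Groth.Agent.Lib.Helper4.LC7

/-!
# Artinianness of local cohomology with support in a maximal ideal of a Noetherian ring (helper20)

Adaptation of helper4's `LC7` (local case) to a maximal ideal of an arbitrary Noetherian ring.
-/

set_option autoImplicit false
set_option linter.style.haveILetI false
set_option linter.unusedSectionVars false
set_option maxHeartbeats 400000

open CategoryTheory Limits Opposite Abelian

universe u

namespace Groth.Agent.Lib.Helper20.LCArtinMax

open Groth.Agent.Lib.Helper4.LC

variable {R : Type u} [CommRing R] [IsNoetherianRing R]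

lemma isArtinian_residue (a : Ideal R) [ha : a.IsMaximal] : IsArtinian R (R ⧸ a) := by
  letI : Field (R ⧸ a) := Ideal.Quotient.field _
  exact isArtinian_of_surjective_algebraMap (R := R ⧸ a)
    (M := R ⧸ a) (S := R) Ideal.Quotient.mk_surjective

/-- a finite power-torsion module for a maximal ideal is Artinian. -/
theorem isArtinian_of_finite_of_isPowerTorsion (a : Ideal R) [ha : a.IsMaximal]
    (N : Type u) [AddCommGroup N] [Module R N]
    [hfin : Module.Finite R N] (h : LocCoh.IsPowerTorsion a N) : IsArtinian R N := by
  revert h
  refine IsNoetherianRing.induction_on_isQuotientEquivQuotientPrime R hfin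
    (motive := fun (N : Type u) [AddCommGroup N] [Module R N] [Module.Finite R N] =>
      LocCoh.IsPowerTorsion a N → IsArtinian R N) ?_ ?_ ?_
  · intro N _ _ _ _ _
    exact isArtinian_of_finite
  · intro N _ _ _ p e h
    have hmp : a ≤ p.asIdeal := by
      intro b hb
      obtain ⟨k, hk⟩ := h (e.symm 1)
      have h1 := hk (b ^ k) (Ideal.pow_mem_pow hb k)
      have h2 : b ^ k • (1 : R ⧸ p.asIdeal) = 0 := by
        have := congrArg e h1
        rwa [map_smul, map_zero, LinearEquiv.apply_symm_apply] at this
      have h2' : (Submodule.Quotient.mk (b ^ k • (1 : R)) : R ⧸ p.asIdeal) = 0 := h2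
      rw [Submodule.Quotient.mk_eq_zero, smul_eq_mul, mul_one] at h2'
      exact p.isPrime.mem_of_pow_mem k h2'
    have hpm : p.asIdeal = a := (ha.eq_of_le p.isPrime.ne_top hmp).symm
    haveI : IsArtinian R (R ⧸ p.asIdeal) := by
      rw [hpm]
      exact isArtinian_residue a
    exact isArtinian_of_linearEquiv e.symm
  · intro N₁ _ _ _ N₂ _ _ _ N₃ _ _ _ f g hf hg hfg h1 h3 h
    haveI : IsArtinian R N₁ := h1 (isPowerTorsion_of_injective a f hf h)
    haveI : IsArtinian R N₃ := h3 (isPowerTorsion_of_surjective a g hg h)
    exact isArtinian_of_range_eq_ker f g (LinearMap.exact_iff.mp hfg).symm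

/-- Local cohomology `H^i_𝔪(N)` of a finite module over a Noetherian ring with support in a
maximal ideal is Artinian. -/
theorem HH.isArtinian_of_isMaximal (a : Ideal R) [ha : a.IsMaximal] (i : ℕ) :
    ∀ (N : Type u) [AddCommGroup N] [Module R N] [Module.Finite R N],
      IsArtinian R (HH a (ModuleCat.of R N) i) := by
  induction i with
  | zero =>
    intro N _ _ _
    haveI : IsNoetherian R N := isNoetherian_of_isNoetherianRing_of_finite R N
    haveI hT : IsArtinian R (DRing.torsionSub a N) :=
      isArtinian_of_finite_of_isPowerTorsion a _ (isPowerTorsion_torsionSub _ N)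
    exact isArtinian_of_linearEquiv (HH0Equiv a (ModuleCat.of R N)).symm
  | succ i ih =>
    intro N _ _ hfin
    refine IsNoetherianRing.induction_on_isQuotientEquivQuotientPrime R hfin
      (motive := fun (N : Type u) [AddCommGroup N] [Module R N] [Module.Finite R N] =>
          IsArtinian R (HH a (ModuleCat.of R N) (i + 1))) ?_ ?_ ?_
    · intro N _ _ _ _
      haveI := HH.subsingleton_of_subsingleton a N (i + 1)
      exact isArtinian_of_finite
    · intro N _ _ _ p e
      by_cases hIp : a ≤ p.asIdeal
      · haveI : Subsingleton (HH a (ModuleCat.of R N) (i + 1)) := by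
          refine HH.subsingleton_of_isPowerTorsion a i N (fun m => ⟨1, fun b hb => ?_⟩)
          rw [pow_one] at hb
          apply e.injective
          rw [map_smul, map_zero]
          generalize e m = y
          obtain ⟨r, rfl⟩ := Submodule.Quotient.mk_surjective _ y
          rw [← Submodule.Quotient.mk_smul, Submodule.Quotient.mk_eq_zero]
          exact Ideal.mul_mem_right _ _ (hIp hb)
        exact isArtinian_of_finite
      · obtain ⟨x, hxI, hxp⟩ := SetLike.not_le_iff_exists.1 hIp
        have hreg : IsSMulRegular N x := by
          intro m m' hmm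
          have hmm' : x • m = x • m' := hmm
          apply e.injective
          have h1 : x • e m = x • e m' := by rw [← map_smul, ← map_smul, hmm']
          generalize e m = y at h1 ⊢
          generalize e m' = y' at h1 ⊢
          obtain ⟨r, rfl⟩ := Submodule.Quotient.mk_surjective _ y
          obtain ⟨r', rfl⟩ := Submodule.Quotient.mk_surjective _ y'
          rw [← Submodule.Quotient.mk_smul, ← Submodule.Quotient.mk_smul,
            Submodule.Quotient.eq] at h1
          rw [Submodule.Quotient.eq]
          have h2 : x * (r - r') ∈ p.asIdeal := by rw [mul_sub]; exact h1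
          exact (p.isPrime.mem_or_mem h2).resolve_left hxp
        have hS := IsSMulRegular.smulShortComplex_shortExact (M := ModuleCat.of R N) hreg
        haveI h3 : IsArtinian R
            (HH a (ModuleCat.smulShortComplex (ModuleCat.of R N) x).X₃ i) :=
          ih (QuotSMulTop x N)
        show IsArtinian R (HH a (ModuleCat.smulShortComplex (ModuleCat.of R N) x).X₁ (i + 1))
        refine isArtinian_of_torsion_of_ker x
          (fun z => HH.exists_pow_smul_eq_zero a x hxI z) ?_
        have hK : LinearMap.range (HH.δ a hS i) = LinearMap.ker (LinearMap.lsmul R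
            (HH a (ModuleCat.smulShortComplex (ModuleCat.of R N) x).X₁ (i + 1)) x) := by
          ext z
          constructor
          · rintro ⟨w, rfl⟩
            exact LinearMap.mem_ker.2
              ((HH.smul_eq_map a (i + 1) x _).trans (HH.map_f_δ a hS i w))
          · intro hz
            have hz' : x • z = 0 := hz
            refine LinearMap.mem_range.2 (HH.exact₁ a hS i z ?_)
            exact (HH.smul_eq_map a (i + 1) x z).symm.trans hz'
        haveI hr : IsArtinian R (LinearMap.range (HH.δ a hS i)) := inferInstance
        exact isArtinian_of_linearEquiv (LinearEquiv.ofEq _ _ hK)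
    · intro N₁ _ _ _ N₂ _ _ _ N₃ _ _ _ f g hf hg hfg h1 h3
      have hS := sesOf_shortExact f g hfg hf hg
      haveI h1' : IsArtinian R (HH a (sesOf f g hfg).X₁ (i + 1)) := h1
      haveI h3' : IsArtinian R (HH a (sesOf f g hfg).X₃ (i + 1)) := h3
      have hr : LinearMap.range (HH.map a (sesOf f g hfg).f (i + 1)) =
          LinearMap.ker (HH.map a (sesOf f g hfg).g (i + 1)) := by
        ext z
        rw [LinearMap.mem_range, LinearMap.mem_ker]
        constructor
        · rintro ⟨w, rfl⟩
          exact HH.map_g_map_f a (S := sesOf f g hfg) (i + 1) w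
        · intro hz
          exact HH.exact₂ a hS (i + 1) z hz
      exact isArtinian_of_range_eq_ker _ _ hr

end Groth.Agent.Lib.Helper20.LCArtinMax
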