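import Mathlib
import Groth.Prelude.Def_DualLC
import Groth.Agent.Lib.Helper20.LCStalk

/-!
# The comparison maps `H^i_{I'}(M) → H^i_I(M)` and stalkwise vanishing

Taking the statement of S11682 as a hypothesis `Hfull`, we prove (by Noetherian induction) that the
comparison map is surjective (resp. injective) if the local cohomology of the stalks `M_p`
vanishes in degree `i` (resp. `i - 1`) at the primes of `V(I) \ V(I')`.
-/

set_option autoImplicit false
set_option linter.unusedSectionVars false
set_option linter.unusedVariables false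

universe u

open CategoryTheory TensorProduct Groth.Agent.Lib.Helper4.LC

namespace Groth.Agent.Lib.Helper20.LCStalk

section HmapOfLE

variable {A : Type u} [CommRing A]

lemma quotMapOfLE_refl (I : Ideal A) : Dual2.quotMapOfLE (le_refl I) = 𝟙 _ := by
  ext n x
  obtain ⟨x, rfl⟩ := Submodule.Quotient.mk_surjective _ x
  rfl

lemma quotMapOfLE_comp {I J K : Ideal A} (h1 : I ≤ J) (h2 : J ≤ K) :
    Dual2.quotMapOfLE h1 ≫ Dual2.quotMapOfLE h2 = Dual2.quotMapOfLE (h1.trans h2) := by
  ext n x
  obtain ⟨x, rfl⟩ := Submodule.Quotient.mk_surjective _ x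
  rfl

lemma HmapOfLE_refl (I : Ideal A) (i : ℕ) : Dual2.HmapOfLE (le_refl I) i = 𝟙 _ := by
  unfold Dual2.HmapOfLE
  rw [quotMapOfLE_refl]
  apply Limits.colimit.hom_ext
  intro j
  erw [Limits.ι_colimMap]
  simp
  rfl

lemma HmapOfLE_comp {I J K : Ideal A} (h1 : I ≤ J) (h2 : J ≤ K) (i : ℕ) :
    Dual2.HmapOfLE h2 i ≫ Dual2.HmapOfLE h1 i = Dual2.HmapOfLE (h1.trans h2) i := by
  unfold Dual2.HmapOfLE
  rw [← quotMapOfLE_comp h1 h2]
  apply Limits.colimit.hom_ext
  intro j
  erw [Limits.ι_colimMap_assoc, Limits.ι_colimMap, Limits.ι_colimMap]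
  simp
  exact (Category.assoc _ _ _).symm

end HmapOfLE

variable {R : Type u} [CommRing R]

/-- The full statement of S11682, as a hypothesis. -/
def Hfull (R : Type u) [CommRing R] : Prop :=
  ∀ (a : Ideal R) (b : R) (M : Type u) [AddCommGroup M] [Module R M] (i : ℕ),
    Function.Exact
        ((Dual2.HmapOfLE (le_sup_left : a ≤ (a ⊔ Ideal.span {b})) i).app (ModuleCat.of R M)).hom
        ((localCohomology a i).map
          (ModuleCat.ofHom (LocalizedModule.mkLinearMap (Submonoid.powers b) M))).hom ∧
      Function.Injective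
        ((Dual2.HmapOfLE (le_sup_left : a ≤ (a ⊔ Ideal.span {b})) 0).app (ModuleCat.of R M)).hom ∧
      Nonempty ((LocCoh.H a i (LocalizedModule (Submonoid.powers b) M) ⧸
          LinearMap.range ((localCohomology a i).map
            (ModuleCat.ofHom (LocalizedModule.mkLinearMap (Submonoid.powers b) M))).hom) ≃ₗ[R]
        LinearMap.ker
          ((Dual2.HmapOfLE (le_sup_left : a ≤ (a ⊔ Ideal.span {b})) (i + 1)).app
            (ModuleCat.of R M)).hom)

lemma Hfull.hex (h : Hfull R) : Hex R := fun a b N _ _ i => (h a b N i).1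

section loc

variable (S : Submonoid R) (f : R) (M : Type u) [AddCommGroup M] [Module R M]

/-- if `f` acts bijectively on `N` then also on every localization of `N`. -/
lemma smul_bijective_localizedModule_of_bijective (N : Type u) [AddCommGroup N] [Module R N]
    (hb : Function.Bijective (fun n : N => f • n)) :
    Function.Bijective (fun y : LocalizedModule S N => f • y) := by
  have hsinj : ∀ s : S, Function.Injective (fun m : LocalizedModule S N => s • m) :=
    fun s => IsLocalizedModule.smul_injective (LocalizedModule.mkLinearMap S N) s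
  constructor
  · intro y z hyz
    have h0 : f • (y - z) = 0 := by rw [smul_sub]; exact sub_eq_zero.2 hyz
    suffices h : y - z = 0 from sub_eq_zero.1 h
    generalize y - z = w at h0
    obtain ⟨⟨n, s⟩, hs⟩ := IsLocalizedModule.surj S (LocalizedModule.mkLinearMap S N) w
    have hs' : s • w = LocalizedModule.mkLinearMap S N n := hs
    have h1 : LocalizedModule.mkLinearMap S N (f • n) = 0 := by
      rw [map_smul, ← hs', smul_comm, h0, smul_zero]
    obtain ⟨c, hc⟩ := (IsLocalizedModule.eq_zero_iff S (LocalizedModule.mkLinearMap S N)).1 h1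
    have h3 : c • n = 0 := by
      apply hb.1
      change f • (c • n) = f • 0
      rw [smul_zero, smul_comm]
      exact hc
    have h4 : LocalizedModule.mkLinearMap S N n = 0 :=
      (IsLocalizedModule.eq_zero_iff S (LocalizedModule.mkLinearMap S N)).2 ⟨c, h3⟩
    apply hsinj s
    change s • w = s • 0
    rw [hs', h4, smul_zero]
  · intro w
    obtain ⟨⟨n, s⟩, hs⟩ := IsLocalizedModule.surj S (LocalizedModule.mkLinearMap S N) w
    have hs' : s • w = LocalizedModule.mkLinearMap S N n := hs
    obtain ⟨n', hn'⟩ := hb.2 n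
    have hn'' : f • n' = n := hn'
    refine ⟨IsLocalizedModule.mk' (LocalizedModule.mkLinearMap S N) n' s, ?_⟩
    apply hsinj s
    change s • (f • IsLocalizedModule.mk' (LocalizedModule.mkLinearMap S N) n' s) = s • w
    rw [smul_comm, IsLocalizedModule.mk'_cancel', hs', ← hn'', map_smul]

/-- the composite `M → M_f → (M_f)_S` is a localization at `S` when `f ∈ S`. -/
lemma isLocalizedModule_comp (hf : f ∈ S) :
    IsLocalizedModule S ((LocalizedModule.mkLinearMap S (LocalizedModule (Submonoid.powers f) M)) ∘ₗ
      (LocalizedModule.mkLinearMap (Submonoid.powers f) M)) where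
  map_units s := IsLocalizedModule.map_units
    (LocalizedModule.mkLinearMap S (LocalizedModule (Submonoid.powers f) M)) s
  surj y := by
    obtain ⟨⟨n, s⟩, hs⟩ := IsLocalizedModule.surj S
      (LocalizedModule.mkLinearMap S (LocalizedModule (Submonoid.powers f) M)) y
    obtain ⟨⟨m, t⟩, ht⟩ := IsLocalizedModule.surj (Submonoid.powers f)
      (LocalizedModule.mkLinearMap (Submonoid.powers f) M) n
    have htS : (t : R) ∈ S := by
      obtain ⟨k, hk⟩ := t.2
      rw [← hk]
      exact pow_mem hf k
    refine ⟨⟨m, ⟨t, htS⟩ * s⟩, ?_⟩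
    change (⟨t, htS⟩ * s : S) • y = _
    rw [mul_smul]
    change (t : R) • (s • y) = _
    rw [hs, LinearMap.comp_apply]
    change _ = LocalizedModule.mkLinearMap S _ (LocalizedModule.mkLinearMap _ M m)
    rw [← ht, ← map_smul]
    rfl
  exists_of_eq {m1 m2} h := by
    rw [LinearMap.comp_apply, LinearMap.comp_apply] at h
    obtain ⟨c, hc⟩ := IsLocalizedModule.exists_of_eq (S := S) h
    have hc' : LocalizedModule.mkLinearMap (Submonoid.powers f) M ((c : R) • m1) =
        LocalizedModule.mkLinearMap (Submonoid.powers f) M ((c : R) • m2) := by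
      rw [map_smul, map_smul]; exact hc
    obtain ⟨t, ht⟩ := IsLocalizedModule.exists_of_eq (S := Submonoid.powers f) hc'
    have htS : (t : R) ∈ S := by
      obtain ⟨k, hk⟩ := t.2
      rw [← hk]
      exact pow_mem hf k
    refine ⟨⟨t, htS⟩ * c, ?_⟩
    change ((t : R) * (c : R)) • m1 = ((t : R) * (c : R)) • m2
    rw [mul_smul, mul_smul]
    exact ht

end loc

section stalk

variable [IsNoetherianRing R]

/-- The stalk cohomology of `M_f` at `p`. -/
lemma subsingleton_stalk_away (p : PrimeSpectrum R) (f : R) (M : Type u) [AddCommGroup M]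
    [Module R M] (i : ℕ)
    (h : f ∉ p.asIdeal →
      Subsingleton (LocCoh.H (IsLocalRing.maximalIdeal (Localization.AtPrime p.asIdeal)) i
        (LocalizedModule p.asIdeal.primeCompl M))) :
    Subsingleton (LocCoh.H (IsLocalRing.maximalIdeal (Localization.AtPrime p.asIdeal)) i
      (LocalizedModule p.asIdeal.primeCompl (LocalizedModule (Submonoid.powers f) M))) := by
  by_cases hf : f ∈ p.asIdeal
  · rw [subsingleton_H_iff]
    refine HH.subsingleton_of_smul_bijective _ (algebraMap R (Localization.AtPrime p.asIdeal) f)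
      ((IsLocalization.AtPrime.to_map_mem_maximal_iff _ p.asIdeal f).2 hf) _ ?_ i
    have := smul_bijective_localizedModule_of_bijective p.asIdeal.primeCompl f
      (LocalizedModule (Submonoid.powers f) M) (smul_bijective_localizedModule f M)
    simpa only [algebraMap_smul] using this
  · have h1 := (subsingleton_H_iff _ _ i).1 (h hf)
    rw [subsingleton_H_iff]
    have hloc := isLocalizedModule_comp p.asIdeal.primeCompl f M hf
    let e0 : LocalizedModule p.asIdeal.primeCompl M ≃ₗ[R]
        LocalizedModule p.asIdeal.primeCompl (LocalizedModule (Submonoid.powers f) M) :=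
      IsLocalizedModule.linearEquiv p.asIdeal.primeCompl
        (LocalizedModule.mkLinearMap p.asIdeal.primeCompl M)
        ((LocalizedModule.mkLinearMap p.asIdeal.primeCompl
          (LocalizedModule (Submonoid.powers f) M)) ∘ₗ
            (LocalizedModule.mkLinearMap (Submonoid.powers f) M))
    let e : LocalizedModule p.asIdeal.primeCompl M ≃ₗ[Localization.AtPrime p.asIdeal]
        LocalizedModule p.asIdeal.primeCompl (LocalizedModule (Submonoid.powers f) M) :=
      e0.extendScalarsOfIsLocalization p.asIdeal.primeCompl (Localization.AtPrime p.asIdeal)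
    exact (HH.mapIso _ e.toModuleIso i).symm.toEquiv.subsingleton

end stalk

section main

variable [IsNoetherianRing R]

theorem surjective_HmapOfLE (h82 : Hfull R) (I' : Ideal R) (M : Type u) [AddCommGroup M]
    [Module R M] (i : ℕ) (I : Ideal R) (h : I ≤ I')
    (hyp : ∀ p : PrimeSpectrum R, I ≤ p.asIdeal → ¬ I' ≤ p.asIdeal →
      Subsingleton (LocCoh.H (IsLocalRing.maximalIdeal (Localization.AtPrime p.asIdeal)) i
        (LocalizedModule p.asIdeal.primeCompl M))) :
    Function.Surjective ((Dual2.HmapOfLE h i).app (ModuleCat.of R M)).hom := by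
  revert h hyp
  refine IsNoetherian.induction (P := fun I : Ideal R => ∀ (h : I ≤ I'),
    (∀ p : PrimeSpectrum R, I ≤ p.asIdeal → ¬ I' ≤ p.asIdeal →
      Subsingleton (LocCoh.H (IsLocalRing.maximalIdeal (Localization.AtPrime p.asIdeal)) i
        (LocalizedModule p.asIdeal.primeCompl M))) →
    Function.Surjective ((Dual2.HmapOfLE h i).app (ModuleCat.of R M)).hom) ?_ I
  intro (I : Ideal R) ih h hyp
  by_cases hII' : I = I'
  · subst hII'
    rw [HmapOfLE_refl]
    intro x
    exact ⟨x, rfl⟩
  · obtain ⟨f, hfI', hfI⟩ := SetLike.exists_of_lt (lt_of_le_of_ne h hII')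
    have hJ : I ⊔ Ideal.span {f} ≤ I' :=
      sup_le h ((Ideal.span_singleton_le_iff_mem _).2 hfI')
    have hlt : I < I ⊔ Ideal.span {f} := by
      refine lt_of_le_of_ne le_sup_left (fun h => hfI ?_)
      rw [h]
      exact Ideal.mem_sup_right (Ideal.subset_span rfl)
    have h1 := ih _ hlt hJ (fun p hp hp' => hyp p (le_trans le_sup_left hp) hp')
    have hcomp : Dual2.HmapOfLE h i = Dual2.HmapOfLE hJ i ≫ Dual2.HmapOfLE le_sup_left i :=
      (HmapOfLE_comp le_sup_left hJ i).symm
    have hvan : Subsingleton (LocCoh.H I i (LocalizedModule (Submonoid.powers f) M)) :=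
      subsingleton_of_stalks h82.hex i _ I (fun p hp => subsingleton_stalk_away p f M i
        (fun hfp => hyp p hp (fun hI'p => hfp (hI'p hfI'))))
    have h2 : Function.Surjective
        ((Dual2.HmapOfLE (le_sup_left : I ≤ I ⊔ Ideal.span {f}) i).app (ModuleCat.of R M)).hom := by
      intro x
      exact ((h82 I f M i).1 x).1 (Subsingleton.elim _ _)
    rw [hcomp]
    intro x
    obtain ⟨y, hy⟩ := h2 x
    obtain ⟨z, hz⟩ := h1 y
    refine ⟨z, ?_⟩
    rw [NatTrans.comp_app, ModuleCat.hom_comp, LinearMap.comp_apply, hz, hy]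

theorem injective_HmapOfLE (h82 : Hfull R) (I' : Ideal R) (M : Type u) [AddCommGroup M]
    [Module R M] (i : ℕ) (I : Ideal R) (h : I ≤ I')
    (hyp : ∀ p : PrimeSpectrum R, I ≤ p.asIdeal → ¬ I' ≤ p.asIdeal → ∀ j : ℕ, j + 1 = i →
      Subsingleton (LocCoh.H (IsLocalRing.maximalIdeal (Localization.AtPrime p.asIdeal)) j
        (LocalizedModule p.asIdeal.primeCompl M))) :
    Function.Injective ((Dual2.HmapOfLE h i).app (ModuleCat.of R M)).hom := by
  revert h hyp
  refine IsNoetherian.induction (P := fun I : Ideal R => ∀ (h : I ≤ I'),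
    (∀ p : PrimeSpectrum R, I ≤ p.asIdeal → ¬ I' ≤ p.asIdeal → ∀ j : ℕ, j + 1 = i →
      Subsingleton (LocCoh.H (IsLocalRing.maximalIdeal (Localization.AtPrime p.asIdeal)) j
        (LocalizedModule p.asIdeal.primeCompl M))) →
    Function.Injective ((Dual2.HmapOfLE h i).app (ModuleCat.of R M)).hom) ?_ I
  intro (I : Ideal R) ih h hyp
  by_cases hII' : I = I'
  · subst hII'
    rw [HmapOfLE_refl]
    intro x y hxy
    exact hxy
  · obtain ⟨f, hfI', hfI⟩ := SetLike.exists_of_lt (lt_of_le_of_ne h hII')
    have hJ : I ⊔ Ideal.span {f} ≤ I' :=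
      sup_le h ((Ideal.span_singleton_le_iff_mem _).2 hfI')
    have hlt : I < I ⊔ Ideal.span {f} := by
      refine lt_of_le_of_ne le_sup_left (fun h => hfI ?_)
      rw [h]
      exact Ideal.mem_sup_right (Ideal.subset_span rfl)
    have h1 := ih _ hlt hJ (fun p hp hp' => hyp p (le_trans le_sup_left hp) hp')
    have hcomp : Dual2.HmapOfLE h i = Dual2.HmapOfLE hJ i ≫ Dual2.HmapOfLE le_sup_left i :=
      (HmapOfLE_comp le_sup_left hJ i).symm
    have h2 : Function.Injective
        ((Dual2.HmapOfLE (le_sup_left : I ≤ I ⊔ Ideal.span {f}) i).app (ModuleCat.of R M)).hom := by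
      cases i with
      | zero => exact (h82 I f M 0).2.1
      | succ j =>
        have hvan : Subsingleton (LocCoh.H I j (LocalizedModule (Submonoid.powers f) M)) :=
          subsingleton_of_stalks h82.hex j _ I (fun p hp => subsingleton_stalk_away p f M j
            (fun hfp => hyp p hp (fun hI'p => hfp (hI'p hfI')) j rfl))
        obtain ⟨e⟩ := (h82 I f M j).2.2
        have hker : Subsingleton (LinearMap.ker
            ((Dual2.HmapOfLE (le_sup_left : I ≤ I ⊔ Ideal.span {f}) (j + 1)).app
              (ModuleCat.of R M)).hom) := e.symm.toEquiv.subsingleton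
        rw [← LinearMap.ker_eq_bot]
        exact Submodule.subsingleton_iff_eq_bot.1 hker
    rw [hcomp]
    intro x y hxy
    rw [NatTrans.comp_app, ModuleCat.hom_comp, LinearMap.comp_apply, LinearMap.comp_apply] at hxy
    exact h1 (h2 hxy)

end main

end Groth.Agent.Lib.Helper20.LCStalk
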