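import Groth.Agent.Lib.Helper20.LCTopSurj

/-!
# Top local cohomology is `M ⊗ H^n_I(R)` (helper20)

For a Noetherian ring `R` with `dim R ≤ n` the functor `T = H^n_I(-)` is right exact, so the
canonical map `M ⊗_R T(R) → T(M)` is bijective for finitely generated `M`.
-/

set_option autoImplicit false
set_option linter.style.haveILetI false
set_option linter.unusedSectionVars false
set_option linter.unusedVariables false
set_option maxHeartbeats 400000

open CategoryTheory Limits Opposite Abelian TensorProduct

universe u

namespace Groth.Agent.Lib.Helper20.LCWatts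

open Groth.Agent.Lib.Helper4.LC Groth.Agent.Lib.Helper20.LCTopSurj

variable {R : Type u} [CommRing R] (I : Ideal R) (n : ℕ)

section defs

variable (M : Type u) [AddCommGroup M] [Module R M]

variable (R) in
/-- the map `R → M`, `1 ↦ x`. -/
noncomputable def rho (x : M) : ModuleCat.of R R ⟶ ModuleCat.of R M :=
  ModuleCat.ofHom (LinearMap.toSpanSingleton R M x)

lemma rho_add (x y : M) : rho R M (x + y) = rho R M x + rho R M y := by
  apply ModuleCat.hom_ext
  apply LinearMap.ext
  intro r
  change r • (x + y) = r • x + r • y
  rw [smul_add]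

lemma rho_smul (r : R) (x : M) : rho R M (r • x) = r • rho R M x := by
  apply ModuleCat.hom_ext
  apply LinearMap.ext
  intro s
  change s • r • x = r • s • x
  rw [smul_comm]

variable {M} in
lemma rho_comp {N : Type u} [AddCommGroup N] [Module R N] (f : M →ₗ[R] N) (x : M) :
    rho R M x ≫ ModuleCat.ofHom f = rho R N (f x) := by
  apply ModuleCat.hom_ext
  apply LinearMap.ext
  intro s
  change f (s • x) = s • f x
  rw [map_smul]

lemma rho_self (r : R) : rho R R r = r • 𝟙 (ModuleCat.of R R) := by
  apply ModuleCat.hom_ext
  apply LinearMap.ext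
  intro s
  change s • r = r • s
  rw [smul_eq_mul, smul_eq_mul, mul_comm]

/-- `x ↦ H^n_I(ρ_x)`. -/
noncomputable def mu : M →ₗ[R] (HH I (ModuleCat.of R R) n →ₗ[R] HH I (ModuleCat.of R M) n) where
  toFun x := HH.map I (rho R M x) n
  map_add' x y := by
    apply LinearMap.ext
    intro h
    rw [rho_add, LinearMap.add_apply]
    exact map_add I _ _ n h
  map_smul' r x := by
    apply LinearMap.ext
    intro h
    rw [rho_smul, RingHom.id_apply, LinearMap.smul_apply]
    exact map_smul_hom I r _ n h

lemma mu_apply (x : M) (h : HH I (ModuleCat.of R R) n) :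
    mu I n M x h = HH.map I (rho R M x) n h := rfl

/-- the canonical map `M ⊗ T(R) → T(M)`. -/
noncomputable def theta : M ⊗[R] HH I (ModuleCat.of R R) n →ₗ[R] HH I (ModuleCat.of R M) n :=
  TensorProduct.lift (mu I n M)

lemma theta_tmul (x : M) (h : HH I (ModuleCat.of R R) n) :
    theta I n M (x ⊗ₜ h) = HH.map I (rho R M x) n h := rfl

variable {M} in
/-- naturality. -/
lemma map_theta {N : Type u} [AddCommGroup N] [Module R N] (f : M →ₗ[R] N)
    (t : M ⊗[R] HH I (ModuleCat.of R R) n) :
    HH.map I (ModuleCat.ofHom f) n (theta I n M t) =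
      theta I n N (LinearMap.rTensor _ f t) := by
  induction t using TensorProduct.induction_on with
  | zero => simp
  | tmul x h =>
    rw [theta_tmul, LinearMap.rTensor_tmul, theta_tmul, ← HH.map_comp, rho_comp]
  | add a b ha hb => rw [_root_.map_add, _root_.map_add, ha, hb, _root_.map_add, _root_.map_add]

/-- for `M = R` the map is the canonical identification. -/
lemma theta_self (t : R ⊗[R] HH I (ModuleCat.of R R) n) :
    theta I n R t = TensorProduct.lid R _ t := by
  induction t using TensorProduct.induction_on with
  | zero => simp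
  | tmul r h =>
    rw [theta_tmul, TensorProduct.lid_tmul, rho_self, ← HH.smul_eq_map]
  | add a b ha hb => rw [_root_.map_add, _root_.map_add, ha, hb]

lemma theta_self_bijective : Function.Bijective (theta I n R) := by
  have : (theta I n R : R ⊗[R] HH I (ModuleCat.of R R) n → _) = TensorProduct.lid R _ := by
    funext t
    exact theta_self I n t
  rw [this]
  exact (TensorProduct.lid R _).bijective

end defs

end Groth.Agent.Lib.Helper20.LCWatts
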