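import Groth.Agent.Lib.Helper20.LCWatts1

/-!
# Top local cohomology is `M ⊗ H^n_I(R)`: free and finitely generated modules (helper20)
-/

set_option autoImplicit false
set_option linter.style.haveILetI false
set_option linter.unusedSectionVars false
set_option linter.unusedVariables false
set_option maxHeartbeats 400000

open CategoryTheory Limits Opposite Abelian TensorProduct

universe u

namespace Groth.Agent.Lib.Helper20.LCWatts

open Groth.Agent.Lib.Helper4.LC Groth.Agent.Lib.Helper20.LCTopSurj

variable {R : Type u} [CommRing R] (I : Ideal R) (n : ℕ)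

section free

variable {ι : Type} [Fintype ι] [DecidableEq ι]

lemma id_eq_sum :
    𝟙 (ModuleCat.of R (ι → R)) =
      ∑ j : ι, (ModuleCat.ofHom (LinearMap.proj (R := R) (φ := fun _ : ι => R) j) ≫
        ModuleCat.ofHom (LinearMap.single R (fun _ : ι => R) j)) := by
  apply ModuleCat.hom_ext
  apply LinearMap.ext
  intro v
  funext i
  simp [Finset.sum_apply, Pi.single_apply]

lemma eq_sum_map (w : HH I (ModuleCat.of R (ι → R)) n) :
    w = ∑ j : ι, HH.map I (ModuleCat.ofHom (LinearMap.single R (fun _ : ι => R) j)) n
      (HH.map I (ModuleCat.ofHom (LinearMap.proj (R := R) (φ := fun _ : ι => R) j)) n w) := by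
  conv_lhs => rw [← HH.map_id I n w, id_eq_sum, LCTopSurj.map_sum]
  apply Finset.sum_congr rfl
  intro j _
  rw [HH.map_comp]

lemma eq_sum_rTensor (Q : Type u) [AddCommGroup Q] [Module R Q] (t : (ι → R) ⊗[R] Q) :
    t = ∑ j : ι, LinearMap.rTensor Q (LinearMap.single R (fun _ : ι => R) j)
      (LinearMap.rTensor Q (LinearMap.proj (R := R) (φ := fun _ : ι => R) j) t) := by
  induction t using TensorProduct.induction_on with
  | zero => simp
  | tmul v h =>
    simp only [LinearMap.rTensor_tmul, LinearMap.proj_apply, LinearMap.coe_single]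
    rw [← TensorProduct.sum_tmul, Finset.univ_sum_single]
  | add a b ha hb =>
    simp only [_root_.map_add, Finset.sum_add_distrib]
    rw [← ha, ← hb]

theorem theta_free_injective : Function.Injective (theta I n (ι → R)) := by
  rw [← LinearMap.ker_eq_bot, Submodule.eq_bot_iff]
  intro t ht
  rw [LinearMap.mem_ker] at ht
  rw [eq_sum_rTensor _ t]
  apply Finset.sum_eq_zero
  intro j _
  have h1 : theta I n R (LinearMap.rTensor _ (LinearMap.proj (R := R) (φ := fun _ : ι => R) j) t)
      = 0 := by
    rw [← map_theta, ht, _root_.map_zero]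
  have h2 := (theta_self_bijective I n).1 (h1.trans (_root_.map_zero _).symm)
  rw [h2, _root_.map_zero]

theorem theta_free_surjective : Function.Surjective (theta I n (ι → R)) := by
  intro w
  have hex : ∀ j : ι, ∃ u : R ⊗[R] HH I (ModuleCat.of R R) n, theta I n R u =
      HH.map I (ModuleCat.ofHom (LinearMap.proj (R := R) (φ := fun _ : ι => R) j)) n w :=
    fun j => (theta_self_bijective I n).2 _
  choose u hu using hex
  refine ⟨∑ j : ι, LinearMap.rTensor _ (LinearMap.single R (fun _ : ι => R) j) (u j), ?_⟩
  rw [_root_.map_sum]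
  conv_rhs => rw [eq_sum_map I n w]
  apply Finset.sum_congr rfl
  intro j _
  rw [← map_theta, hu]

end free

section fg

variable [IsNoetherianRing R] (hn : ringKrullDim R < ((n + 1 : ℕ) : WithBot ℕ∞))

include hn in
/-- `T = H^n_I` preserves surjections. -/
theorem map_surjective {M N : Type u} [AddCommGroup M] [Module R M] [AddCommGroup N] [Module R N]
    (π : M →ₗ[R] N) (hπ : Function.Surjective π) :
    Function.Surjective (HH.map I (ModuleCat.ofHom π) n) := by
  have hex : Function.Exact (LinearMap.ker π).subtype π := by
    rw [LinearMap.exact_iff, Submodule.range_subtype]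
  have hS := sesOf_shortExact (LinearMap.ker π).subtype π hex (Submodule.injective_subtype _) hπ
  have hK : Subsingleton (HH I (sesOf (LinearMap.ker π).subtype π hex).X₁ (n + 1)) :=
    HH.subsingleton_of_ringKrullDim_lt I _ (n + 1) hn
  exact HH.map_g_surjective I hS n hK

include hn in
theorem theta_surjective (M : Type u) [AddCommGroup M] [Module R M] [Module.Finite R M] :
    Function.Surjective (theta I n M) := by
  classical
  obtain ⟨a, π, hπ⟩ := Module.Finite.exists_fin' R M
  intro z
  obtain ⟨w, rfl⟩ := map_surjective I n hn π hπ z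
  obtain ⟨t, rfl⟩ := theta_free_surjective I n (ι := Fin a) w
  exact ⟨_, (map_theta I n π t).symm⟩

include hn in
theorem theta_injective (M : Type u) [AddCommGroup M] [Module R M] [Module.Finite R M] :
    Function.Injective (theta I n M) := by
  classical
  obtain ⟨a, π, hπ⟩ := Module.Finite.exists_fin' R M
  rw [← LinearMap.ker_eq_bot, Submodule.eq_bot_iff]
  intro u hu
  rw [LinearMap.mem_ker] at hu
  have hex : Function.Exact (LinearMap.ker π).subtype π := by
    rw [LinearMap.exact_iff, Submodule.range_subtype]
  have hS := sesOf_shortExact (LinearMap.ker π).subtype π hex (Submodule.injective_subtype _) hπ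
  obtain ⟨v, rfl⟩ := LinearMap.rTensor_surjective (HH I (ModuleCat.of R R) n) hπ u
  rw [← map_theta] at hu
  obtain ⟨w, hw⟩ := HH.exact₂ I hS n (theta I n (Fin a → R) v) hu
  haveI : Module.Finite R (LinearMap.ker π) := Module.Finite.of_injective _
    (Submodule.injective_subtype _)
  obtain ⟨w', rfl⟩ := theta_surjective I n hn (LinearMap.ker π) w
  have hw2 : theta I n (Fin a → R) (LinearMap.rTensor _ (LinearMap.ker π).subtype w') =
      theta I n (Fin a → R) v := by
    rw [← map_theta]
    exact hw
  have hv := theta_free_injective I n hw2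
  rw [← hv, ← LinearMap.rTensor_comp_apply]
  have : π ∘ₗ (LinearMap.ker π).subtype = 0 := by
    apply LinearMap.ext
    intro x
    exact x.2
  rw [this, LinearMap.rTensor_zero, LinearMap.zero_apply]

include hn in
/-- **`M ⊗ H^n_I(R) ≅ H^n_I(M)`** for finitely generated `M` when `dim R ≤ n`. -/
theorem theta_bijective (M : Type u) [AddCommGroup M] [Module R M] [Module.Finite R M] :
    Function.Bijective (theta I n M) :=
  ⟨theta_injective I n hn M, theta_surjective I n hn M⟩

end fg

end Groth.Agent.Lib.Helper20.LCWatts
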