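import Groth.Prelude.Def_LambdaSp
import Mathlib

/-!
# Basic facts on pre-λ-rings: λ-series, logarithmic derivative, Adams operations, Newton's formula
-/

set_option autoImplicit false
universe u

namespace Groth.Agent.Lib.Helper20.LamBasic

open PowerSeries LambdaRing

section

variable {K : Type u} [CommRing K] [LambdaOps K]

theorem coeff_lamSeries (x : K) (n : ℕ) : coeff n (lamSeries x) = LambdaOps.lam n x :=
  coeff_mk _ _

theorem constantCoeff_lamSeries (x : K) : constantCoeff (lamSeries x) = 1 := by
  rw [← coeff_zero_eq_constantCoeff_apply, coeff_lamSeries, LambdaOps.lam_zero]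

theorem lamSeries_add (x y : K) : lamSeries (x + y) = lamSeries x * lamSeries y := by
  ext n
  rw [coeff_lamSeries, LambdaOps.lam_add, coeff_mul,
    Finset.Nat.sum_antidiagonal_eq_sum_range_succ_mk]
  apply Finset.sum_congr rfl
  intro i _
  rw [coeff_lamSeries, coeff_lamSeries]

theorem lamSeries_mul_inv (x : K) : lamSeries x * (lamSeries x).invOfUnit 1 = 1 :=
  PowerSeries.mul_invOfUnit _ _ (by rw [constantCoeff_lamSeries]; rfl)

omit [LambdaOps K] in
/-- uniqueness of inverses for power series with constant coefficient one -/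
theorem invOfUnit_eq_of_mul_eq_one (F H : PowerSeries K) (hF : constantCoeff F = 1)
    (h : F * H = 1) : F.invOfUnit 1 = H := by
  have h1 : F * F.invOfUnit 1 = 1 := PowerSeries.mul_invOfUnit _ _ (by rw [hF]; rfl)
  calc F.invOfUnit 1 = (F * H) * F.invOfUnit 1 := by rw [h, one_mul]
    _ = H * (F * F.invOfUnit 1) := by ring
    _ = H := by rw [h1, mul_one]

theorem lamSeries_zero : lamSeries (0 : K) = 1 := by
  have h := lamSeries_add (0 : K) 0
  rw [add_zero] at h
  have h1 := lamSeries_mul_inv (0 : K)
  calc lamSeries (0 : K) = lamSeries (0 : K) * (lamSeries (0 : K) * (lamSeries (0 : K)).invOfUnit 1) := by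
        rw [h1, mul_one]
    _ = (lamSeries (0 : K) * lamSeries (0 : K)) * (lamSeries (0 : K)).invOfUnit 1 := by ring
    _ = 1 := by rw [← h, h1]

theorem derivative_lamSeries (x : K) :
    derivative K (lamSeries x) = lamSeries x * logDerivSeries x := by
  unfold logDerivSeries
  calc derivative K (lamSeries x) = derivative K (lamSeries x) * (lamSeries x * (lamSeries x).invOfUnit 1) := by
        rw [lamSeries_mul_inv, mul_one]
    _ = _ := by ring

theorem logDerivSeries_add (x y : K) :
    logDerivSeries (x + y) = logDerivSeries x + logDerivSeries y := by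
  have hinv : (lamSeries (x + y)).invOfUnit 1 =
      (lamSeries x).invOfUnit 1 * (lamSeries y).invOfUnit 1 := by
    apply invOfUnit_eq_of_mul_eq_one _ _ (constantCoeff_lamSeries _)
    rw [lamSeries_add]
    calc lamSeries x * lamSeries y * ((lamSeries x).invOfUnit 1 * (lamSeries y).invOfUnit 1)
        = (lamSeries x * (lamSeries x).invOfUnit 1) * (lamSeries y * (lamSeries y).invOfUnit 1) := by
          ring
      _ = 1 := by rw [lamSeries_mul_inv, lamSeries_mul_inv, one_mul]
  unfold logDerivSeries
  rw [hinv, lamSeries_add, Derivation.leibniz]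
  simp only [smul_eq_mul]
  calc (lamSeries x * derivative K (lamSeries y) + lamSeries y * derivative K (lamSeries x)) *
        ((lamSeries x).invOfUnit 1 * (lamSeries y).invOfUnit 1)
      = (lamSeries x * (lamSeries x).invOfUnit 1) * (derivative K (lamSeries y) * (lamSeries y).invOfUnit 1)
        + (lamSeries y * (lamSeries y).invOfUnit 1) * (derivative K (lamSeries x) * (lamSeries x).invOfUnit 1) := by
        ring
    _ = _ := by rw [lamSeries_mul_inv, lamSeries_mul_inv, one_mul, one_mul, add_comm]

theorem adamsOp_succ (k : ℕ) (x : K) :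
    adamsOp (k + 1) x = (-1) ^ k * coeff k (logDerivSeries x) := rfl

theorem coeff_logDerivSeries (k : ℕ) (x : K) :
    coeff k (logDerivSeries x) = (-1) ^ k * adamsOp (k + 1) x := by
  rw [adamsOp_succ, ← mul_assoc, ← mul_pow]; simp

theorem adamsOp_add (k : ℕ) (x y : K) : adamsOp k (x + y) = adamsOp k x + adamsOp k y := by
  cases k with
  | zero => simp [adamsOp]
  | succ k => rw [adamsOp_succ, adamsOp_succ, adamsOp_succ, logDerivSeries_add, map_add, mul_add]

/-- Newton's formula: `(n+1) λ^{n+1}(x) = Σ_{i ≤ n} (-1)^i ψ^{i+1}(x) λ^{n-i}(x)`. -/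
theorem newton (n : ℕ) (x : K) :
    LambdaOps.lam (n + 1) x * ((n : K) + 1) =
      ∑ i ∈ Finset.range (n + 1), LambdaOps.lam (n - i) x * ((-1) ^ i * adamsOp (i + 1) x) := by
  have h := congrArg (coeff n) (derivative_lamSeries x)
  rw [coeff_derivative, coeff_lamSeries, coeff_mul,
    Finset.Nat.sum_antidiagonal_eq_sum_range_succ_mk] at h
  rw [h]
  rw [← Finset.sum_flip]
  apply Finset.sum_congr rfl
  intro i hi
  have hi' : i ≤ n := Nat.lt_succ_iff.mp (Finset.mem_range.mp hi)
  rw [coeff_lamSeries, coeff_logDerivSeries, Nat.sub_sub_self hi']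

theorem adamsOp_one (x : K) : adamsOp 1 x = x := by
  have h := newton 0 x
  simp only [Nat.cast_zero, zero_add, mul_one, Finset.range_one, Finset.sum_singleton, Nat.sub_zero,
    pow_zero, one_mul, LambdaOps.lam_zero, LambdaOps.lam_one] at h
  exact h.symm

/-- Newton's formula with the top term split off. -/
theorem newton' (n : ℕ) (x : K) :
    LambdaOps.lam (n + 1) x * ((n : K) + 1) =
      ∑ i ∈ Finset.range n, LambdaOps.lam (n - i) x * ((-1) ^ i * adamsOp (i + 1) x)
        + (-1) ^ n * adamsOp (n + 1) x := by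
  rw [newton, Finset.sum_range_succ, Nat.sub_self, LambdaOps.lam_zero, one_mul]

end

theorem isUnit_natCast_succ (K : Type u) [CommRing K] [Algebra ℚ K] (n : ℕ) :
    IsUnit ((n : K) + 1) := by
  have h : (algebraMap ℚ K) ((n : ℚ) + 1) = (n : K) + 1 := by
    rw [map_add, map_natCast, map_one]
  rw [← h]
  apply IsUnit.map
  exact isUnit_iff_ne_zero.mpr (by positivity)

end Groth.Agent.Lib.Helper20.LamBasic
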