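import Mathlib

/-!
# Lengths along a six-term exact sequence (helper20, for helper7 / S3325)
-/

set_option autoImplicit false
set_option linter.style.haveILetI false

namespace Groth.Agent.Lib.Helper20.LengthSix

/-- rank-nullity for lengths -/
theorem length_eq_ker_add_range {R : Type*} [Ring R] {M P : Type*} [AddCommGroup M] [Module R M]
    [AddCommGroup P] [Module R P] (g : M →ₗ[R] P) :
    Module.length R M = Module.length R (LinearMap.ker g) + Module.length R (LinearMap.range g) := by
  refine Module.length_eq_add_of_exact (LinearMap.ker g).subtype g.rangeRestrict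
    Subtype.val_injective g.surjective_rangeRestrict ?_
  intro y
  constructor
  · intro hy
    have : g y = 0 := congrArg Subtype.val hy
    exact ⟨⟨y, this⟩, rfl⟩
  · rintro ⟨z, rfl⟩
    apply Subtype.ext
    exact z.2

/-- (A2) -/
theorem length_six_term {R : Type*} [Ring R] {M₁ M₂ M₃ M₄ M₅ M₆ : Type*}
    [AddCommGroup M₁] [Module R M₁] [AddCommGroup M₂] [Module R M₂] [AddCommGroup M₃] [Module R M₃]
    [AddCommGroup M₄] [Module R M₄] [AddCommGroup M₅] [Module R M₅] [AddCommGroup M₆] [Module R M₆]
    (f₁ : M₁ →ₗ[R] M₂) (f₂ : M₂ →ₗ[R] M₃) (f₃ : M₃ →ₗ[R] M₄) (f₄ : M₄ →ₗ[R] M₅) (f₅ : M₅ →ₗ[R] M₆)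
    (hinj : Function.Injective f₁) (e₁ : Function.Exact f₁ f₂) (e₂ : Function.Exact f₂ f₃)
    (e₃ : Function.Exact f₃ f₄) (e₄ : Function.Exact f₄ f₅) (hsurj : Function.Surjective f₅) :
    Module.length R M₁ + Module.length R M₃ + Module.length R M₅ =
      Module.length R M₂ + Module.length R M₄ + Module.length R M₆ := by
  have h1 : Module.length R M₁ = Module.length R (LinearMap.range f₁) :=
    (LinearEquiv.ofInjective f₁ hinj).length_eq
  have k2 : Module.length R (LinearMap.ker f₂) = Module.length R (LinearMap.range f₁) :=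
    (LinearEquiv.ofEq _ _ (LinearMap.exact_iff.mp e₁)).length_eq
  have k3 : Module.length R (LinearMap.ker f₃) = Module.length R (LinearMap.range f₂) :=
    (LinearEquiv.ofEq _ _ (LinearMap.exact_iff.mp e₂)).length_eq
  have k4 : Module.length R (LinearMap.ker f₄) = Module.length R (LinearMap.range f₃) :=
    (LinearEquiv.ofEq _ _ (LinearMap.exact_iff.mp e₃)).length_eq
  have k5 : Module.length R (LinearMap.ker f₅) = Module.length R (LinearMap.range f₄) :=
    (LinearEquiv.ofEq _ _ (LinearMap.exact_iff.mp e₄)).length_eq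
  have r5 : Module.length R (LinearMap.range f₅) = Module.length R M₆ := by
    have : LinearMap.range f₅ = ⊤ := LinearMap.range_eq_top.mpr hsurj
    exact ((LinearEquiv.ofEq _ _ this).trans Submodule.topEquiv).length_eq
  rw [length_eq_ker_add_range f₂, length_eq_ker_add_range f₃, length_eq_ker_add_range f₄,
    length_eq_ker_add_range f₅, k2, k3, k4, k5, r5, h1]
  ring

end Groth.Agent.Lib.Helper20.LengthSix
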