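import Mathlib
import Groth.Prelude
import Groth.Agent.Lib.Helper17.FpqcFinite
import Groth.Agent.Lib.Helper25.FTDescent

set_option autoImplicit false
set_option linter.style.haveILetI false
universe u

open CategoryTheory CategoryTheory.Limits AlgebraicGeometry TopologicalSpace Opposite

namespace Groth.Agent.Lib.Helper20.LocGenFpqc

open Groth.Agent.Lib.Helper3 Groth.Agent.Lib.Helper17

variable {ι : Type u} {X : Scheme.{u}} {Xi : ι → Scheme.{u}}

/-- fpqc descent (for a family) of finite generation of sections of a quasi-coherent module. -/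
theorem finite_sections_of_fpqc (f : ∀ i, Xi i ⟶ X)
    (hf : Presieve.ofArrows Xi f ∈ Scheme.fpqcPrecoverage X) (M : X.Modules) [M.IsQuasicoherent]
    (hft : ∀ i, ((Scheme.Modules.pullback (f i)).obj M).IsFiniteType) {U : X.Opens}
    (hU : IsAffineOpen U) : Module.Finite Γ(X, U) Γ(M, U) := by
  haveI : QuasiCompactCover (⟨ι, Xi, f⟩ : PreZeroHypercover.{u} X) :=
    Scheme.presieve₀_mem_qcPrecoverage_iff.1 hf.1
  have hflat : ∀ i, Flat (f i) := ((Scheme.ofArrows_mem_precoverage_iff (P := @Flat)).1 hf.2).2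
  obtain ⟨n, a, V, hV, hVU⟩ := QuasiCompactCover.exists_isAffineOpen_of_isCompact
    (⟨ι, Xi, f⟩ : PreZeroHypercover.{u} X) hU.isCompact
  have hle : ∀ k, V k ≤ (f (a k)) ⁻¹ᵁ U := by
    intro k x' hx'
    show (f (a k)) x' ∈ (U : Set X)
    rw [← hVU]
    exact Set.mem_iUnion.2 ⟨k, x', hx', rfl⟩
  haveI : ∀ i, Flat (f i) := hflat
  letI alg : ∀ k, Algebra Γ(X, U) Γ(Xi (a k), V k) :=
    fun k => ((f (a k)).appLE U (V k) (hle k)).hom.toAlgebra
  haveI flat : ∀ k, Module.Flat Γ(X, U) Γ(Xi (a k), V k) :=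
    fun k => (f (a k)).flat_appLE hU (hV k) (hle k)
  refine JointDescent.finite_of_family (A := Γ(X, U)) (M := Γ(M, U))
    (fun k : Fin n => Γ(Xi (a k), V k)) ?_ ?_
  · intro p
    have hpU : hU.fromSpec p ∈ (U : Set X) := by
      have : hU.fromSpec p ∈ Set.range hU.fromSpec := ⟨p, rfl⟩
      rw [hU.range_fromSpec] at this
      exact this
    rw [← hVU] at hpU
    obtain ⟨k, x', hx'V, hx'⟩ := Set.mem_iUnion.1 hpU
    refine ⟨k, ?_⟩
    have hp : hU.primeIdealOf ⟨(f (a k)) x', hle k hx'V⟩ = p := by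
      apply hU.fromSpec.isOpenEmbedding.injective
      rw [hU.fromSpec_primeIdealOf ⟨(f (a k)) x', hle k hx'V⟩]
      exact hx'
    intro htop
    have hle' := FpqcFinite.map_primeIdealOf_le (f (a k)) hU (hV k) (hle k) x' hx'V
    rw [hp] at hle'
    have : ((hV k).primeIdealOf ⟨x', hx'V⟩).asIdeal = ⊤ := top_le_iff.mp (htop ▸ hle')
    exact ((hV k).primeIdealOf ⟨x', hx'V⟩).isPrime.ne_top this
  · intro k
    haveI := PbStalk.isQuasicoherent_pullback (f (a k)) M
    letI : Module Γ(X, U) Γ((Scheme.Modules.pullback (f (a k))).obj M, V k) :=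
      Module.compHom _ ((f (a k)).appLE U (V k) (hle k)).hom
    obtain ⟨hst, β, hβ⟩ := PbStalk.exists_isBaseChange_sections (f (a k)) M hU (hV k) (hle k)
    haveI := hft (a k)
    haveI : Module.Finite Γ(Xi (a k), V k) Γ((Scheme.Modules.pullback (f (a k))).obj M, V k) :=
      QCProps.finite_sections _ (hV k)
    exact Module.Finite.equiv hβ.equiv.symm

theorem isFiniteType_of_fpqc (f : ∀ i, Xi i ⟶ X)
    (hf : Presieve.ofArrows Xi f ∈ Scheme.fpqcPrecoverage X) (M : X.Modules) [M.IsQuasicoherent]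
    (hft : ∀ i, ((Scheme.Modules.pullback (f i)).obj M).IsFiniteType) :
    SheafOfModules.IsFiniteType (R := X.ringCatSheaf) M :=
  (QCProps.isFiniteType_iff_finite_sections M).2
    (fun _ hU => finite_sections_of_fpqc f hf M hft hU)

end Groth.Agent.Lib.Helper20.LocGenFpqc
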