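import Mathlib

set_option autoImplicit false
set_option linter.style.haveILetI false
universe u

open TensorProduct IsLocalRing

namespace Groth.Agent.Lib.Helper20.LocGenFpqc

section Alg

variable {A B : Type u} [CommRing A] [CommRing B] [Algebra A B] [IsLocalRing A] [IsLocalRing B]
  [IsLocalHom (algebraMap A B)]
  (M : Type u) [AddCommGroup M] [Module A M] [Module.Finite A M]

/-- the dimension of the closed fibre of `M` is bounded by the number of generators of
`B ⊗ M`. -/
theorem finrank_fibre_le {d : ℕ} (t : Fin d → B ⊗[A] M)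
    (ht : Submodule.span B (Set.range t) = ⊤) :
    Module.finrank (ResidueField A) (ResidueField A ⊗[A] M) ≤ d := by
  have e1 : (ResidueField B ⊗[B] (B ⊗[A] M)) ≃ₗ[ResidueField B] (ResidueField B ⊗[A] M) :=
    TensorProduct.AlgebraTensorModule.cancelBaseChange A B (ResidueField B) (ResidueField B) M
  have e2 : (ResidueField B ⊗[ResidueField A] (ResidueField A ⊗[A] M)) ≃ₗ[ResidueField B]
      (ResidueField B ⊗[A] M) :=
    TensorProduct.AlgebraTensorModule.cancelBaseChange A (ResidueField A) (ResidueField B)
      (ResidueField B) M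
  have h1 : Module.finrank (ResidueField B)
      (ResidueField B ⊗[ResidueField A] (ResidueField A ⊗[A] M)) =
      Module.finrank (ResidueField A) (ResidueField A ⊗[A] M) := Module.finrank_baseChange
  have h2 : Module.finrank (ResidueField B) (ResidueField B ⊗[B] (B ⊗[A] M)) ≤ d := by
    have hs : Submodule.span (ResidueField B)
        (Set.range fun i => (1 : ResidueField B) ⊗ₜ[B] t i) = ⊤ := by
      have h3 := Submodule.baseChange_span (R := B) (A := ResidueField B) (M := B ⊗[A] M)
        (Set.range t)
      rw [ht, Submodule.baseChange_top] at h3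
      rw [h3]
      congr 1
      ext z
      constructor
      · rintro ⟨i, rfl⟩
        exact ⟨t i, ⟨i, rfl⟩, rfl⟩
      · rintro ⟨_, ⟨i, rfl⟩, rfl⟩
        exact ⟨i, rfl⟩
    have := finrank_le_of_span_eq_top (R := ResidueField B) hs
    simpa using this
  rw [← h1, (e2.trans e1.symm).finrank_eq]
  exact h2

/-- a finite module over a local ring is generated by as many elements as the dimension of its
closed fibre. -/
theorem exists_span_eq_top_of_finrank_fibre_le {d : ℕ}
    (h : Module.finrank (ResidueField A) (ResidueField A ⊗[A] M) ≤ d) :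
    ∃ (e : ℕ) (_ : e ≤ d) (s : Fin e → M), Submodule.span A (Set.range s) = ⊤ := by
  let b := Module.finBasis (ResidueField A) (ResidueField A ⊗[A] M)
  have hsurj : Function.Surjective (TensorProduct.mk A (ResidueField A) M 1) := by
    intro z
    induction z using TensorProduct.induction_on with
    | zero => exact ⟨0, by simp⟩
    | tmul a m =>
      obtain ⟨a, rfl⟩ := IsLocalRing.residue_surjective a
      refine ⟨a • m, ?_⟩
      show (1 : ResidueField A) ⊗ₜ[A] (a • m) = (residue A a) ⊗ₜ[A] m
      rw [← TensorProduct.smul_tmul, Algebra.smul_def, mul_one]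
      rfl
    | add x y hx hy =>
      obtain ⟨x', rfl⟩ := hx
      obtain ⟨y', rfl⟩ := hy
      exact ⟨x' + y', by simp [TensorProduct.tmul_add]⟩
  choose s hs using fun i => hsurj (b i)
  exact ⟨_, h, s, IsLocalRing.span_eq_top_of_tmul_eq_basis s b hs⟩

theorem exists_span_eq_top_of_baseChange {d : ℕ} (t : Fin d → B ⊗[A] M)
    (ht : Submodule.span B (Set.range t) = ⊤) :
    ∃ (e : ℕ) (_ : e ≤ d) (s : Fin e → M), Submodule.span A (Set.range s) = ⊤ :=
  exists_span_eq_top_of_finrank_fibre_le M (finrank_fibre_le M t ht)

end Alg

end Groth.Agent.Lib.Helper20.LocGenFpqc
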