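import Mathlib
import Groth.Prelude
import Groth.Agent.Lib.Helper25.LocGenSite

set_option autoImplicit false
set_option linter.style.haveILetI false
universe u

open CategoryTheory CategoryTheory.Limits Opposite SheafOfModules TopologicalSpace
open Groth.Agent.Lib.Helper21.StalkFlatP Groth.Agent.Lib.Helper21.StalkFlatQ
open Groth.Agent.Lib.Helper25.LocGenSite

namespace Groth.Agent.Lib.Helper20.LocGenFpqc

section Top

variable {X : TopCat.{u}} {R : Sheaf (Opens.grothendieckTopology X) RingCat.{u}}

/-- forward direction of `exists_generatingSections_iff`, remembering the index type. -/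
theorem locSpanT_of_generatingSections (M : SheafOfModules.{u} R) (U : Opens X)
    (σ : (M.over U).GeneratingSections) [Fintype σ.I] :
    ∃ (s : σ.I → M.val.obj (op U)), LocSpanT M U s := by
  refine ⟨fun i => (show M.val.obj (op U) from secAt (σ.s i) (op (T U))), ?_⟩
  intro W hW m y hy
  obtain ⟨S, hS, hS'⟩ := exists_sum_of_epi (M.over U) σ.s (Over.mk (homOfLE hW))
    (show (M.over U).val.obj (op (Over.mk (homOfLE hW))) from m)
  obtain ⟨W', g, hg, hyW'⟩ := ((Opens.grothendieckTopology X).mem_over_iff S).1 hS y hy
  rw [Sieve.overEquiv_iff] at hg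
  obtain ⟨r, hr⟩ := hS' _ hg
  refine ⟨W', g.le, hyW', r, ?_⟩
  refine hr.trans (Finset.sum_congr rfl (fun i _ => ?_))
  congr 1
  exact (PresheafOfModules.sections_property (σ.s i)
    (toT (Over.mk (g ≫ homOfLE hW))).op).symm

/-- backward direction of `exists_generatingSections_iff`, remembering the index type. -/
noncomputable def generatingSectionsOfLocSpanT (M : SheafOfModules.{u} R) (U : Opens X)
    {ι : Type u} [Fintype ι] (s : ι → M.val.obj (op U)) (hs : LocSpanT M U s) :
    (M.over U).GeneratingSections where
  I := ι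
  s := fun i => overSec M (s i)
  epi := by
    classical
    apply epi_over_of_pointwise
    intro Y n y hy
    obtain ⟨W', hW', hyW', r, hr⟩ :=
      hs Y.left Y.hom.le (show M.val.obj (op Y.left) from n) y hy
    refine ⟨W', homOfLE hW', hyW',
      ∑ i, (show (R.over U).obj.obj (op (Over.mk (homOfLE hW' ≫ Y.hom))) from r i) •
        secAt (freeSection (R := R.over U) i) (op (Over.mk (homOfLE hW' ≫ Y.hom))), ?_⟩
    have e1 : ∀ i, (((M.over U).freeHomEquiv.symm (fun i => overSec M (s i))).val.app
        (op (Over.mk (homOfLE hW' ≫ Y.hom)))).hom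
          (secAt (freeSection (R := R.over U) i) (op (Over.mk (homOfLE hW' ≫ Y.hom)))) =
        M.val.map (homOfLE hW' ≫ Y.hom).op (s i) := fun i =>
      congrArg (fun σ => secAt σ (op (Over.mk (homOfLE hW' ≫ Y.hom))))
        (sectionsMap_freeHomEquiv_symm_freeSection (fun i => overSec M (s i)) i)
    rw [map_sum]
    simp only [map_smul, e1]
    exact hr.symm

theorem generatingSectionsOfLocSpanT_I (M : SheafOfModules.{u} R) (U : Opens X)
    {ι : Type u} [Fintype ι] (s : ι → M.val.obj (op U)) (hs : LocSpanT M U s) :
    (generatingSectionsOfLocSpanT M U s hs).I = ι := rfl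

end Top

end Groth.Agent.Lib.Helper20.LocGenFpqc
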