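import Mathlib
import Groth.Prelude
import Groth.Agent.Lib.Helper20.LocGenFpqc1
import Groth.Agent.Lib.Helper20.LocGenFpqc2
import Groth.Agent.Lib.Helper20.LocGenFpqc3
import Groth.Agent.Lib.Helper16.FpqcOpen

set_option autoImplicit false
set_option linter.style.haveILetI false
universe u

open CategoryTheory CategoryTheory.Limits AlgebraicGeometry TopologicalSpace Opposite
open Groth.Agent.Lib.Helper2.Stk Groth.Agent.Lib.Helper3
open Groth.Agent.Lib.Helper25

namespace Groth.Agent.Lib.Helper20.LocGenFpqc

variable {X X' : Scheme.{u}}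

/-- if the stalk of `f^*F` at `x'` is spanned by `d` elements then so is the stalk of `F` at
`f x'` (when it is finite). -/
theorem exists_span_stalk_of_pullback (f : X' ⟶ X) (F : X.Modules) (x' : X')
    (hfin : Module.Finite (X.presheaf.stalk (f.base x')) ((Φ (f.base x')).obj F))
    {d : ℕ} (t : Fin d → ((Φ x').obj ((Scheme.Modules.pullback f).obj F)))
    (ht : Submodule.span (X'.presheaf.stalk x') (Set.range t) = ⊤) :
    ∃ (e : ℕ) (_ : e ≤ d) (s : Fin e → ((Φ (f.base x')).obj F)),
      Submodule.span (X.presheaf.stalk (f.base x')) (Set.range s) = ⊤ := by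
  letI := (φst f x').toAlgebra
  haveI : IsLocalHom (algebraMap (X.presheaf.stalk (f.base x')) (X'.presheaf.stalk x')) :=
    f.toLRSHom.prop x'
  let E : ((Scheme.Modules.pullback f ⋙ Φ x').obj F) ≃ₗ[X'.presheaf.stalk x']
      (TensorProduct (X.presheaf.stalk (f.base x')) (X'.presheaf.stalk x')
        ((Φ (f.base x')).obj F)) := ((pullStalkIso f x').app F).toLinearEquiv
  refine exists_span_eq_top_of_baseChange ((Φ (f.base x')).obj F) (fun i => E (t i)) ?_
  rw [eq_top_iff]
  intro z _
  obtain ⟨w, rfl⟩ := E.surjective z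
  have hw : w ∈ Submodule.span (X'.presheaf.stalk x') (Set.range t) := by
    rw [ht]; exact Submodule.mem_top
  refine Submodule.span_induction (p := fun w _ => E w ∈ Submodule.span (X'.presheaf.stalk x')
    (Set.range fun i => E (t i))) ?_ ?_ ?_ ?_ hw
  · rintro _ ⟨i, rfl⟩
    exact Submodule.subset_span ⟨i, rfl⟩
  · rw [map_zero]; exact Submodule.zero_mem _
  · intro a b _ _ ha hb
    rw [map_add]; exact Submodule.add_mem _ ha hb
  · intro c a _ ha
    rw [map_smul]; exact Submodule.smul_mem _ c ha

end Groth.Agent.Lib.Helper20.LocGenFpqc
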