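import Mathlib
import Groth.Prelude
import Groth.Agent.Lib.Helper20.LocGenFpqc4

set_option autoImplicit false
set_option linter.style.haveILetI false
universe u

open CategoryTheory CategoryTheory.Limits AlgebraicGeometry TopologicalSpace Opposite
open Groth.Agent.Lib.Helper2.Stk Groth.Agent.Lib.Helper3
open Groth.Agent.Lib.Helper25

namespace Groth.Agent.Lib.Helper20.LocGenFpqc

set_option maxHeartbeats 1600000 in
/-- fpqc descent of "locally generated by at most `r` sections". -/
theorem locallyGeneratedBy_le_of_fpqc {ι : Type u} {X : Scheme.{u}} {Xi : ι → Scheme.{u}}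
    (f : ∀ i, Xi i ⟶ X)
    (hf : Presieve.ofArrows Xi f ∈ Scheme.fpqcPrecoverage X) (F : X.Modules) [F.IsQuasicoherent]
    (r : ℕ)
    (h : ∀ i, ∃ σ : SheafOfModules.LocalGeneratorsData.{u} (R := (Xi i).ringCatSheaf)
        ((Scheme.Modules.pullback (f i)).obj F),
      ∀ k, Finite (σ.generators k).I ∧ Nat.card (σ.generators k).I ≤ r) :
    ∃ σ : SheafOfModules.LocalGeneratorsData.{u} (R := X.ringCatSheaf) F,
      ∀ k, Finite (σ.generators k).I ∧ Nat.card (σ.generators k).I ≤ r := by
  classical
  have hft : ∀ i, ((Scheme.Modules.pullback (f i)).obj F).IsFiniteType := by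
    intro i
    obtain ⟨σ, hσ⟩ := h i
    exact { exists_localGeneratorsData := ⟨σ, { isFiniteType := fun k => ⟨(hσ k).1⟩ }⟩ }
  have hFT : SheafOfModules.IsFiniteType (R := X.ringCatSheaf) F :=
    isFiniteType_of_fpqc f hf F hft
  have key : ∀ y : X, ∃ (U : X.Opens) (_ : y ∈ U)
      (σ : (SheafOfModules.over (R := X.ringCatSheaf) F U).GeneratingSections),
      Finite σ.I ∧ Nat.card σ.I ≤ r := by
    intro y
    obtain ⟨i, x', rfl⟩ := Groth.Agent.Lib.Helper16.fpqc_cover_surjective f hf y
    obtain ⟨σ, hσ⟩ := h i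
    have hcov := (Opens.coversTop_iff _ σ.X).1 σ.coversTop
    have hx : x' ∈ ⨆ k, σ.X k := by
      rw [IsOpenCover] at hcov
      rw [hcov]; trivial
    obtain ⟨k, hxk⟩ := Opens.mem_iSup.1 hx
    haveI : Finite (σ.generators k).I := (hσ k).1
    letI : Fintype (σ.generators k).I := Fintype.ofFinite _
    obtain ⟨s0, hs0⟩ := locSpanT_of_generatingSections
      ((Scheme.Modules.pullback (f i)).obj F) (σ.X k) (σ.generators k)
    have hsp0 := EpiColim.span_germ_eq_top _ (σ.X k) s0 hs0 x' hxk
    let eq : (σ.generators k).I ≃ Fin (Nat.card (σ.generators k).I) := Finite.equivFin _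
    let t : Fin (Nat.card (σ.generators k).I) →
        (((Scheme.Modules.pullback (f i)).obj F).presheaf.stalk x') := fun j =>
      ((Scheme.Modules.pullback (f i)).obj F).presheaf.germ (σ.X k) x' hxk (s0 (eq.symm j))
    have ht : Submodule.span ((Xi i).presheaf.stalk x') (Set.range t) = ⊤ := by
      rw [eq_top_iff, ← hsp0, Submodule.span_le]
      rintro _ ⟨a, rfl⟩
      refine Submodule.subset_span ⟨eq a, ?_⟩
      show ((Scheme.Modules.pullback (f i)).obj F).presheaf.germ (σ.X k) x' hxk
        (s0 (eq.symm (eq a))) = _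
      rw [Equiv.symm_apply_apply]
    have hfin : Module.Finite (X.presheaf.stalk ((f i).base x')) ((Φ ((f i).base x')).obj F) :=
      SplitFibre.finite_stalk_of_isFiniteType F hFT _
    obtain ⟨e, hed, s1', hs1'⟩ := exists_span_stalk_of_pullback (f i) F x' hfin t ht
    let s1 : Fin e → F.presheaf.stalk ((f i).base x') := s1'
    have hs1 : Submodule.span (X.presheaf.stalk ((f i).base x')) (Set.range s1) = ⊤ := hs1'
    have hrep : ∀ j : Fin e, ∃ (V : X.Opens) (hV : (f i).base x' ∈ V)
        (τ : F.presheaf.obj (op V)), F.presheaf.germ V ((f i).base x') hV τ = s1 j :=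
      fun j => TopCat.Presheaf.exists_germ_eq F.presheaf (s1 j)
    choose V' hV' σ' hσ' using hrep
    obtain ⟨V, hyV, hVV'⟩ := FTDescent.exists_opens_le_of_finite ((f i).base x') V' hV'
    let s : ULift.{u} (Fin e) → Γ(F, V) := fun j =>
      F.presheaf.map (homOfLE (hVV' j.down)).op (σ' j.down)
    have hs : ∀ j, F.presheaf.germ V ((f i).base x') hyV (s j) = s1 j.down := fun j =>
      (TopCat.Presheaf.germ_res_apply F.presheaf (homOfLE (hVV' j.down)) ((f i).base x') hyV
        (σ' j.down)).trans (hσ' j.down)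
    have hspan : Submodule.span (X.presheaf.stalk ((f i).base x'))
        (Set.range fun j => F.presheaf.germ V ((f i).base x') hyV (s j)) = ⊤ := by
      rw [eq_top_iff, ← hs1, Submodule.span_le]
      rintro _ ⟨j, rfl⟩
      exact Submodule.subset_span ⟨⟨j⟩, hs ⟨j⟩⟩
    obtain ⟨U', hU'le, hyU', hU'⟩ :=
      FTDescent.exists_nhd_span_germ F hFT V s ((f i).base x') hyV hspan
    let s' : ULift.{u} (Fin e) → F.val.obj (op U') := fun j => LocGenSite.res F hU'le (s j)
    have hloc : LocGenSite.LocSpanT (R := X.ringCatSheaf) F U' s' := by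
      apply FTDescent.locSpanT_of_span_germ
      intro z hz
      have hfun : (fun j => F.presheaf.germ U' z hz (s' j)) =
          fun j => F.presheaf.germ V z (hU'le hz) (s j) :=
        funext fun j => TopCat.Presheaf.germ_res_apply F.presheaf (homOfLE hU'le) z hz (s j)
      rw [hfun]
      exact hU' z hz
    refine ⟨U', hyU', generatingSectionsOfLocSpanT F U' s' hloc, ?_, ?_⟩
    · show Finite (ULift.{u} (Fin e))
      infer_instance
    · show Nat.card (ULift.{u} (Fin e)) ≤ r
      rw [Nat.card_eq_fintype_card, Fintype.card_ulift, Fintype.card_fin]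
      exact hed.trans (hσ k).2
  choose U hyU σ hσ using key
  have hcov : IsOpenCover U := by
    rw [IsOpenCover, eq_top_iff]
    intro x _
    exact Opens.mem_iSup.mpr ⟨x, hyU x⟩
  exact ⟨{ I := X
           X := U
           coversTop := (Opens.coversTop_iff _ U).mpr hcov
           generators := σ }, hσ⟩

end Groth.Agent.Lib.Helper20.LocGenFpqc
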