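import Groth.Prelude.Def_GSzMilK
import Mathlib

/-!
# Basic lemmas on Milnor K-groups (helper20)
-/

set_option autoImplicit false
universe u

namespace Groth.Agent.Lib.Helper20.MilKLemmas

open MilK

section Abstract

variable {F : Type u} [Field F] {M : Type*} [AddCommGroup M]

/-- A "Steinberg symbol": bimultiplicative map on units vanishing on pairs with sum one. -/
structure IsSteinbergSymbol (φ : Fˣ → Fˣ → M) : Prop where
  mul_left : ∀ a b c, φ (a * b) c = φ a c + φ b c
  mul_right : ∀ a b c, φ a (b * c) = φ a b + φ a c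
  steinberg : ∀ a b : Fˣ, (a : F) + (b : F) = 1 → φ a b = 0

namespace IsSteinbergSymbol

variable {φ : Fˣ → Fˣ → M} (h : IsSteinbergSymbol φ)
include h

theorem one_left (c : Fˣ) : φ 1 c = 0 := by
  have := h.mul_left 1 1 c
  rw [mul_one] at this
  exact left_eq_add.mp this

theorem one_right (c : Fˣ) : φ c 1 = 0 := by
  have := h.mul_right c 1 1
  rw [mul_one] at this
  exact left_eq_add.mp this

theorem inv_left (a c : Fˣ) : φ a⁻¹ c = - φ a c := by
  have := h.mul_left a a⁻¹ c
  rw [mul_inv_cancel, h.one_left] at this
  exact eq_neg_of_add_eq_zero_right this.symm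

theorem inv_right (a c : Fˣ) : φ a c⁻¹ = - φ a c := by
  have := h.mul_right a c c⁻¹
  rw [mul_inv_cancel, h.one_right] at this
  exact eq_neg_of_add_eq_zero_right this.symm

/-- `{x, -x} = 0`. -/
theorem self_neg (x : Fˣ) : φ x (-x) = 0 := by
  by_cases hx : x = 1
  · subst hx; exact h.one_left _
  · have hx' : (x : F) ≠ 1 := fun e => hx (Units.ext e)
    have h1 : (1 - (x : F)) ≠ 0 := sub_ne_zero.2 (Ne.symm hx')
    have hxi : ((x⁻¹ : Fˣ) : F) ≠ 1 := fun e => hx (by
      have : x⁻¹ = 1 := Units.ext e
      simpa using this)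
    have h2 : (1 - ((x⁻¹ : Fˣ) : F)) ≠ 0 := sub_ne_zero.2 (Ne.symm hxi)
    let u : Fˣ := Units.mk0 _ h1
    let v : Fˣ := Units.mk0 _ h2
    have huv : -x = u * v⁻¹ := by
      apply Units.ext
      simp only [Units.val_neg, Units.val_mul, u, v, Units.val_mk0, Units.val_inv_eq_inv_val]
      have hx0 : (x : F) ≠ 0 := x.ne_zero
      field_simp
      ring
    have e1 : φ x u = 0 := h.steinberg x u (by simp [u])
    have e2 : φ x⁻¹ v = 0 := h.steinberg x⁻¹ v (by simp [v])
    rw [huv, h.mul_right, h.inv_right, e1, zero_add]
    rw [h.inv_left] at e2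
    rw [neg_eq_zero] at e2 ⊢
    exact e2

/-- Skew-symmetry: `{a, b} = -{b, a}`. -/
theorem skew (a b : Fˣ) : φ a b = - φ b a := by
  have h0 := h.self_neg (a * b)
  have e1 : -(a * b) = (-a) * b := by rw [neg_mul]
  have e2 : -(a * b) = a * (-b) := by rw [mul_neg]
  rw [h.mul_left] at h0
  nth_rewrite 1 [e1] at h0
  rw [e2, h.mul_right, h.mul_right, h.self_neg, h.self_neg, zero_add, add_zero] at h0
  exact eq_neg_of_add_eq_zero_left h0

/-- `{x, x} = {x, -1}`. -/
theorem self_self (x : Fˣ) : φ x x = φ x (-1) := by
  have e : x = (-1) * (-x) := by rw [neg_mul_neg, one_mul]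
  nth_rewrite 2 [e]
  rw [h.mul_right, h.self_neg, add_zero]

theorem zpow_left (a c : Fˣ) (i : ℤ) : φ (a ^ i) c = i • φ a c := by
  let f : Fˣ →* Multiplicative M :=
    { toFun := fun a => Multiplicative.ofAdd (φ a c)
      map_one' := by rw [h.one_left]; rfl
      map_mul' := fun a b => by rw [h.mul_left]; rfl }
  have := map_zpow f a i
  exact congrArg Multiplicative.toAdd this

theorem zpow_right (a c : Fˣ) (i : ℤ) : φ a (c ^ i) = i • φ a c := by
  let f : Fˣ →* Multiplicative M :=
    { toFun := fun c => Multiplicative.ofAdd (φ a c)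
      map_one' := by rw [h.one_right]; rfl
      map_mul' := fun b c => by rw [h.mul_right]; rfl }
  have := map_zpow f c i
  exact congrArg Multiplicative.toAdd this

omit h in
theorem comp {N : Type*} [AddCommGroup N] (h : IsSteinbergSymbol φ) (f : M →+ N) :
    IsSteinbergSymbol (fun a b => f (φ a b)) where
  mul_left a b c := by rw [h.mul_left, map_add]
  mul_right a b c := by rw [h.mul_right, map_add]
  steinberg a b hab := by rw [h.steinberg a b hab, map_zero]

end IsSteinbergSymbol

end Abstract

section Symbol

variable {F : Type u} [Field F]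

/-- The symbol as a multilinear map. -/
noncomputable def symbolMultilinear (n : ℕ) :
    MultilinearMap ℤ (fun _ : Fin n => Additive Fˣ) (K F n) :=
  (mk F n).toIntLinearMap.compMultilinearMap (PiTensorProduct.tprod ℤ)

theorem symbolMultilinear_apply {n : ℕ} (x : Fin n → Additive Fˣ) :
    symbolMultilinear n x = symbol (fun i => (x i).toMul) := rfl

theorem symbol_eq_symbolMultilinear {n : ℕ} (x : Fin n → Fˣ) :
    symbol x = symbolMultilinear n (fun i => Additive.ofMul (x i)) := rfl

/-- multiplicativity of the symbol in one slot -/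
theorem symbol_update_mul {n : ℕ} (x : Fin n → Fˣ) (i : Fin n) (a b : Fˣ) :
    symbol (Function.update x i (a * b)) =
      symbol (Function.update x i a) + symbol (Function.update x i b) := by
  classical
  have key : ∀ t : Fˣ, (fun j => (Function.update (fun i => Additive.ofMul (x i)) i
      (Additive.ofMul t) j).toMul) = Function.update x i t := by
    intro t
    funext j
    by_cases hj : j = i
    · subst hj; simp
    · simp [Function.update_of_ne hj]
  have := (symbolMultilinear (F := F) n).map_update_add (fun i => Additive.ofMul (x i)) i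
    (Additive.ofMul a) (Additive.ofMul b)
  rw [symbolMultilinear_apply, symbolMultilinear_apply, symbolMultilinear_apply, ← ofMul_mul,
    key, key, key] at this
  exact this

/-- The degree-two symbol is a Steinberg symbol. -/
theorem isSteinbergSymbol_two :
    IsSteinbergSymbol (fun a b : Fˣ => (symbol ![a, b] : K F 2)) where
  mul_left a b c := by
    have := symbol_update_mul (F := F) ![a, c] 0 a b
    have e : ∀ t : Fˣ, Function.update ![a, c] 0 t = ![t, c] := by
      intro t; funext j; fin_cases j <;> simp
    rw [e, e, e] at this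
    exact this
  mul_right a b c := by
    have := symbol_update_mul (F := F) ![a, b] 1 b c
    have e : ∀ t : Fˣ, Function.update ![a, b] 1 t = ![a, t] := by
      intro t; funext j; fin_cases j <;> simp
    rw [e, e, e] at this
    exact this
  steinberg a b hab := symbol_eq_zero_of_isSteinberg _ ⟨0, 1, by decide, by simpa using hab⟩

/-- The degree-one symbol is additive. -/
theorem symbol_one_mul (a b : Fˣ) :
    (symbol ![a * b] : K F 1) = symbol ![a] + symbol ![b] := by
  have := symbol_update_mul (F := F) ![a] 0 a b
  have e : ∀ t : Fˣ, Function.update ![a] 0 t = ![t] := by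
    intro t; funext j; fin_cases j; simp
  rw [e, e, e] at this
  exact this

/-- The degree-one symbol as a monoid homomorphism into `Multiplicative`. -/
noncomputable def symbolOneHom : Fˣ →* Multiplicative (K F 1) where
  toFun a := Multiplicative.ofAdd (symbol ![a])
  map_one' := by
    have := symbol_one_mul (F := F) 1 1
    rw [mul_one] at this
    have h0 : (symbol ![(1 : Fˣ)] : K F 1) = 0 := left_eq_add.mp this
    rw [h0]; rfl
  map_mul' a b := by rw [symbol_one_mul]; rfl

theorem symbol_one_zpow (a : Fˣ) (i : ℤ) : (symbol ![a ^ i] : K F 1) = i • symbol ![a] :=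
  congrArg Multiplicative.toAdd (map_zpow (symbolOneHom (F := F)) a i)

/-- Additive maps out of `K F n` are determined by their values on symbols. -/
theorem hom_ext_symbol {n : ℕ} {M : Type*} [AddCommGroup M] {f g : K F n →+ M}
    (h : ∀ x : Fin n → Fˣ, f (symbol x) = g (symbol x)) : f = g := by
  ext y
  obtain ⟨t, rfl⟩ := mk_surjective F n y
  induction t using PiTensorProduct.induction_on with
  | smul_tprod r x =>
    rw [map_zsmul, map_zsmul, map_zsmul, mk_tprod, h]
  | add a b ha hb => rw [map_add, map_add, map_add, ha, hb]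

/-- The symbol, as a function of the entries in two slots `i < j`, is a Steinberg symbol. -/
theorem isSteinbergSymbol_slots {n : ℕ} (z : Fin n → Fˣ) (i j : Fin n) (hij : i < j) :
    IsSteinbergSymbol
      (fun a b : Fˣ => (symbol (Function.update (Function.update z i a) j b) : K F n)) where
  mul_left a a' b := by
    have hne : i ≠ j := ne_of_lt hij
    have e : ∀ t : Fˣ, Function.update (Function.update z i t) j b =
        Function.update (Function.update z j b) i t := fun t => Function.update_comm hne _ _ _
    simp only [e]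
    exact symbol_update_mul _ i a a'
  mul_right a b b' := symbol_update_mul _ j b b'
  steinberg a b hab := by
    refine symbol_eq_zero_of_isSteinberg _ ⟨i, j, hij, ?_⟩
    rw [Function.update_self, Function.update_of_ne (ne_of_lt hij), Function.update_self]
    exact hab

/-- If slot `i` holds `-p`, a power of `p` in a later slot `j` can be dropped. -/
theorem symbol_update_zpow_mul_eq {n : ℕ} (z : Fin n → Fˣ) (i j : Fin n) (hij : i < j) (p : Fˣ)
    (hz : z i = -p) (e : ℤ) (b : Fˣ) :
    (symbol (Function.update z j (p ^ e * b)) : K F n) = symbol (Function.update z j b) := by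
  have h := isSteinbergSymbol_slots z i j hij
  have hself : Function.update z i (-p) = z := by rw [← hz, Function.update_eq_self]
  have h1 := h.mul_right (-p) (p ^ e) b
  have h2 := h.zpow_right (-p) p e
  have h3 : (symbol (Function.update (Function.update z i (-p)) j p) : K F n) = 0 := by
    have := h.skew (-p) p
    rw [this, neg_eq_zero]
    exact h.self_neg p
  rw [h2, h3, smul_zero, zero_add, hself] at h1
  exact h1

end Symbol

section DVR

universe v
variable (A : Type u) [CommRing A] [IsDomain A] [IsDiscreteValuationRing A]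
  (L : Type v) [Field L] [Algebra A L] [IsFractionRing A L]

/-- Every nonzero element of the fraction field of a DVR is a power of the uniformizer times a
unit. -/
theorem exists_zpow_mul_unit (ϖ : A) (hϖ : Irreducible ϖ) (y : Lˣ) :
    ∃ (e : ℤ) (u : Aˣ), y = unitFrac A L ϖ hϖ.ne_zero ^ e * unitToFrac A L u := by
  obtain ⟨a, b, hb, hab⟩ := IsFractionRing.div_surjective (A := A) (y : L)
  have hb0 : b ≠ 0 := nonZeroDivisors.ne_zero hb
  have ha0 : a ≠ 0 := by
    rintro rfl
    rw [map_zero, zero_div] at hab
    exact y.ne_zero hab.symm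
  obtain ⟨n, u, rfl⟩ := IsDiscreteValuationRing.eq_unit_mul_pow_irreducible ha0 hϖ
  obtain ⟨m, v, rfl⟩ := IsDiscreteValuationRing.eq_unit_mul_pow_irreducible hb0 hϖ
  refine ⟨(n : ℤ) - (m : ℤ), u * v⁻¹, Units.ext ?_⟩
  have hP0 : algebraMap A L ϖ ≠ 0 :=
    mt (IsFractionRing.to_map_eq_zero_iff (K := L)).mp hϖ.ne_zero
  have hv0 : algebraMap A L (v : A) ≠ 0 :=
    mt (IsFractionRing.to_map_eq_zero_iff (K := L)).mp v.ne_zero
  have hvinv : algebraMap A L ((v⁻¹ : Aˣ) : A) = (algebraMap A L (v : A))⁻¹ := by
    apply eq_inv_of_mul_eq_one_left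
    rw [← map_mul, Units.inv_mul, map_one]
  rw [← hab, Units.val_mul, Units.val_zpow_eq_zpow_val, coe_unitFrac, zpow_sub₀ hP0, zpow_natCast,
    zpow_natCast]
  simp only [unitToFrac, Units.coe_map, MonoidHom.coe_coe, Units.val_mul, map_mul, map_pow, hvinv]
  field_simp

variable {A L}

/-- A tame symbol vanishes on symbols all of whose entries are units. -/
theorem tame_units_eq_zero {n : ℕ} (d : K L (n + 1) →+ K (IsLocalRing.ResidueField A) n)
    (hd : IsTameSymbol A L n d) (ϖ : A) (hϖ : Irreducible ϖ) (v : Aˣ) (u : Fin n → Aˣ) :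
    d (symbol (Fin.cons (unitToFrac A L v) fun i => unitToFrac A L (u i))) = 0 := by
  classical
  have hirr : Irreducible (ϖ * (v : A)) := (irreducible_mul_units v).2 hϖ
  have e : unitFrac A L (ϖ * (v : A)) hirr.ne_zero =
      unitFrac A L ϖ hϖ.ne_zero * unitToFrac A L v := by
    apply Units.ext
    simp [unitToFrac]
  have a1 := hd (ϖ * (v : A)) hirr u
  have a2 := hd ϖ hϖ u
  rw [e] at a1
  have a3 := symbol_update_mul (F := L)
    (Fin.cons (unitFrac A L ϖ hϖ.ne_zero) fun i => unitToFrac A L (u i)) 0
    (unitFrac A L ϖ hϖ.ne_zero) (unitToFrac A L v)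
  rw [Fin.update_cons_zero, Fin.update_cons_zero, Fin.update_cons_zero] at a3
  rw [a3, map_add, a2] at a1
  exact add_left_cancel (a1.trans (add_zero _).symm)

end DVR

end Groth.Agent.Lib.Helper20.MilKLemmas
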