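import Mathlib
import Groth.Agent.Lib.Helper4.LCBridge
import Groth.Agent.Lib.Helper4.Depth
import Groth.Agent.Lib.Helper4.Depth2
import Groth.Agent.Lib.Helper20.MinCx3

/-!
# The acyclicity lemma for cochain complexes indexed by `ℕ`  (helper20)
-/

set_option autoImplicit false
set_option linter.unusedSectionVars false
set_option linter.unusedVariables false

universe u

open CategoryTheory RingTheory.Sequence Groth.Agent.Lib.Helper4.LCBridge.ModCx
  Groth.Agent.Lib.Helper4

namespace Groth.Agent.Lib.Helper20.MinCx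

variable {A : Type u} [CommRing A] [IsNoetherianRing A] [IsLocalRing A]
  (M : CochainComplex (ModuleCat.{u} A) ℕ)

/-- coboundaries. -/
def Bc : (i : ℕ) → Submodule A (M.X i)
  | 0 => ⊥
  | (n + 1) => LinearMap.range (M.d n (n + 1)).hom

lemma mem_Zc (n : ℕ) (z : M.X n) : z ∈ Z M n ↔ (M.d n (n + 1)).hom z = 0 :=
  mem_Z_iff M n (n + 1) (by simp) z

lemma dc_dc_apply (i j k : ℕ) (x : M.X i) : (M.d j k).hom ((M.d i j).hom x) = 0 := by
  have := congrArg (fun f => f.hom x) (M.d_comp_d i j k)
  exact this

lemma Bc_le_Z (i : ℕ) : Bc M i ≤ Z M i := by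
  cases i with
  | zero =>
    intro z hz
    have : z = 0 := hz
    rw [this]
    exact Submodule.zero_mem _
  | succ n =>
    rintro _ ⟨w, rfl⟩
    rw [mem_Zc]
    exact dc_dc_apply M _ _ _ w

lemma cls_eq_zero_iff_mem_Bc (i : ℕ) (z : Z M i) : cls M i z = 0 ↔ z.1 ∈ Bc M i := by
  cases i with
  | zero =>
    rw [cls_eq_zero_iff' M 0 0 (by simp)]
    have h0 : M.d 0 0 = 0 := M.shape 0 0 (by simp)
    constructor
    · rintro ⟨y, hy⟩
      rw [h0] at hy
      exact hy.symm
    · intro hz
      have : z.1 = 0 := hz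
      exact ⟨0, by rw [this, map_zero]⟩
  | succ n =>
    rw [cls_eq_zero_iff' M (n + 1) n (by simp)]
    rfl

lemma isZero_homology_of_depth_c (hfin : ∀ i, Module.Finite A (M.X i)) (i : ℕ)
    (hfl : IsFiniteLength A (M.homology i))
    (hx : ∃ x ∈ IsLocalRing.maximalIdeal A, IsSMulRegular (M.X i) x)
    (hB : (2 : ℕ∞) ≤ LocCoh.idealDepth (IsLocalRing.maximalIdeal A) (Bc M i)) :
    Limits.IsZero (M.homology i) := by
  rw [ModuleCat.isZero_iff_subsingleton]
  by_contra hcon
  rw [not_subsingleton_iff_nontrivial] at hcon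
  have hfi := hfin i
  have hZfin : Module.Finite A (Z M i) := inferInstance
  have hBfin : Module.Finite A (Bc M i) := inferInstance
  have hHfin : Module.Finite A (M.homology i) :=
    Module.Finite.of_surjective (cls M i) (cls_surjective M i)
  have hH0 := idealDepth_eq_zero_of_isFiniteLength (A := A) hfl
  have hZnt : Nontrivial (Z M i) := by
    by_contra hc
    rw [not_nontrivial_iff_subsingleton] at hc
    have : Subsingleton (M.homology i) := by
      refine ⟨fun a b => ?_⟩
      obtain ⟨a', rfl⟩ := cls_surjective M i a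
      obtain ⟨b', rfl⟩ := cls_surjective M i b
      rw [Subsingleton.elim a' b']
    exact not_subsingleton _ this
  have hZ1 : (1 : ℕ∞) ≤ LocCoh.idealDepth (IsLocalRing.maximalIdeal A) (Z M i) := by
    rw [one_le_idealDepth_iff _ maximalIdeal_smul_top_ne_top]
    obtain ⟨x, hxm, hreg⟩ := hx
    exact ⟨x, hxm, hreg.submodule _ x⟩
  have hses := idealDepth_shortExact (IsLocalRing.maximalIdeal A)
    (Submodule.inclusion (Bc_le_Z M i)) (cls M i) (Submodule.inclusion_injective _)
    (cls_surjective M i) (by
      intro z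
      rw [cls_eq_zero_iff_mem_Bc]
      constructor
      · intro hz
        exact ⟨⟨z.1, hz⟩, Subtype.ext rfl⟩
      · rintro ⟨⟨w, hw⟩, rfl⟩
        exact hw)
  have h2 := hses.2.1
  rw [hH0] at h2
  have h3 : (1 : ℕ∞) ≤ LocCoh.idealDepth (IsLocalRing.maximalIdeal A) (Bc M i) - 1 := by
    have := sub_one_le 1 _ (by exact_mod_cast hB)
    exact_mod_cast this
  have h4 : (1 : ℕ∞) ≤ 0 := le_trans (le_min hZ1 h3) h2
  simp at h4

lemma idealDepth_Bc_ge (hfin : ∀ i, Module.Finite A (M.X i)) (i : ℕ)
    (hH : Limits.IsZero (M.homology i)) :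
    min (LocCoh.idealDepth (IsLocalRing.maximalIdeal A) (M.X i))
      (LocCoh.idealDepth (IsLocalRing.maximalIdeal A) (Bc M i) - 1) ≤
      LocCoh.idealDepth (IsLocalRing.maximalIdeal A) (Bc M (i + 1)) := by
  rw [ModuleCat.isZero_iff_subsingleton] at hH
  have hfi := hfin i
  have hfi1 := hfin (i + 1)
  have hBfin : Module.Finite A (Bc M i) := inferInstance
  have hBfin1 : Module.Finite A (Bc M (i + 1)) := inferInstance
  have hses := idealDepth_shortExact (IsLocalRing.maximalIdeal A)
    (Bc M i).subtype ((M.d i (i + 1)).hom.rangeRestrict : M.X i →ₗ[A] Bc M (i + 1))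
    (Submodule.injective_subtype _)
    (LinearMap.surjective_rangeRestrict _) (by
      intro y
      constructor
      · intro hy
        have hy' : (M.d i (i + 1)).hom y = 0 := congrArg Subtype.val hy
        have hyZ : y ∈ Z M i := (mem_Zc M i y).2 hy'
        have h0 : cls M i ⟨y, hyZ⟩ = 0 := Subsingleton.elim _ _
        rw [cls_eq_zero_iff_mem_Bc] at h0
        exact ⟨⟨y, h0⟩, rfl⟩
      · rintro ⟨⟨w, hw⟩, rfl⟩
        apply Subtype.ext
        exact (mem_Zc M i w).1 (Bc_le_Z M i hw))
  exact hses.2.1

/-- **Acyclicity lemma, cochain version**: a complex `M⁰ → M¹ → ⋯` of finite free modules over a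
local ring of depth `d` whose cohomology has finite length is exact in degrees `< d`. -/
theorem isZero_homology_below
    (hfree : ∀ i, Module.Free A (M.X i)) (hfin : ∀ i, Module.Finite A (M.X i))
    (hfl : ∀ i, IsFiniteLength A (M.homology i))
    (d : ℕ) (hd : LocCoh.depth A A = d) :
    ∀ i, i < d → Limits.IsZero (M.homology i) := by
  have key : ∀ i, i ≤ d →
      ((d + 1 - i : ℕ) : ℕ∞) ≤ LocCoh.idealDepth (IsLocalRing.maximalIdeal A) (Bc M i) := by
    intro i
    induction i with
    | zero =>
      intro _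
      have hB : Subsingleton (Bc M 0) := by
        refine ⟨fun a b => Subtype.ext ?_⟩
        have ha : a.1 = 0 := a.2
        have hb : b.1 = 0 := b.2
        rw [ha, hb]
      rw [idealDepth_of_smul_top_eq _ (Subsingleton.elim _ _)]
      exact le_top
    | succ i ih =>
      intro hi
      have h1 := ih (by omega)
      have hH : Limits.IsZero (M.homology i) := by
        refine isZero_homology_of_depth_c M hfin i (hfl _)
          (exists_regular_of_free d hd (by omega)) (le_trans ?_ h1)
        exact_mod_cast (by omega : 2 ≤ d + 1 - i)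
      refine le_trans (le_min ?_ ?_) (idealDepth_Bc_ge M hfin i hH)
      · refine le_trans ?_ (le_idealDepth_of_free (G := M.X i) d hd)
        exact_mod_cast (by omega : d + 1 - (i + 1) ≤ d)
      · apply sub_one_le
        refine le_trans ?_ h1
        exact_mod_cast (by omega : d + 1 - (i + 1) + 1 ≤ d + 1 - i)
  intro i hi
  have h1 := key i (by omega)
  refine isZero_homology_of_depth_c M hfin i (hfl _)
    (exists_regular_of_free d hd (by omega)) (le_trans ?_ h1)
  exact_mod_cast (by omega : 2 ≤ d + 1 - i)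

end Groth.Agent.Lib.Helper20.MinCx
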