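import Mathlib
import Groth.Prelude.Def_W4c1hilbpnTgt

/-! Monomial ideals of finite colength: basic facts (helper20). -/

namespace Groth.Agent.Lib.Helper20.MonoIdeal

open MvPolynomial W4c1hilbpn

variable {σ : Type*} {k : Type*} [Field k]

lemma exps_add {I : Ideal (MvPolynomial σ k)} {β : σ →₀ ℕ} (hβ : β ∈ exps I) (γ : σ →₀ ℕ) :
    β + γ ∈ exps I := by
  show monomial (β + γ) (1 : k) ∈ I
  have : monomial (β + γ) (1 : k) = monomial β 1 * monomial γ 1 := by
    rw [monomial_mul, one_mul]
  rw [this]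
  exact I.mul_mem_right _ hβ

lemma exps_of_le {I : Ideal (MvPolynomial σ k)} {β γ : σ →₀ ℕ} (hβ : β ∈ exps I) (h : β ≤ γ) :
    γ ∈ exps I := by
  have : γ = β + (γ - β) := (add_tsub_cancel_of_le h).symm
  rw [this]
  exact exps_add hβ _

/-- monomials outside a monomial ideal are linearly independent in the quotient -/
lemma linearIndependent_mk_monomial (I : Ideal (MvPolynomial σ k)) (hI : IsMonomial I) :
    LinearIndependent k (fun β : {β : σ →₀ ℕ // β ∉ exps I} =>
      Ideal.Quotient.mk I (monomial β.1 (1 : k))) := by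
  classical
  rw [linearIndependent_iff']
  intro s g hg i hi
  by_contra hne
  have h1 : (∑ j ∈ s, monomial j.1 (g j) : MvPolynomial σ k) ∈ I := by
    rw [← Ideal.Quotient.eq_zero_iff_mem, map_sum, ← hg]
    refine Finset.sum_congr rfl fun j _ => ?_
    have : monomial j.1 (g j) = g j • monomial j.1 (1 : k) := by
      rw [smul_monomial, smul_eq_mul, mul_one]
    rw [this]
    exact map_smul (Ideal.Quotient.mkₐ k I) _ _
  have h2 : coeff i.1 (∑ j ∈ s, monomial j.1 (g j) : MvPolynomial σ k) = g i := by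
    rw [coeff_sum]
    rw [Finset.sum_eq_single i]
    · simp
    · intro j _ hji
      rw [coeff_monomial, if_neg]
      exact fun h => hji (Subtype.ext h)
    · intro h; exact absurd hi h
  have h3 : i.1 ∈ (∑ j ∈ s, monomial j.1 (g j) : MvPolynomial σ k).support := by
    rw [mem_support_iff, h2]; exact hne
  exact i.2 (hI _ h1 _ h3)

lemma finite_compl_exps (I : Ideal (MvPolynomial σ k)) (hI : IsMonomial I)
    [Module.Finite k (MvPolynomial σ k ⧸ I)] : Finite {β : σ →₀ ℕ // β ∉ exps I} :=
  (linearIndependent_mk_monomial I hI).finite_of_isNoetherian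

/-- membership in a monomial ideal is checked on the support -/
lemma mem_iff_support {I : Ideal (MvPolynomial σ k)} (hI : IsMonomial I) (p : MvPolynomial σ k) :
    p ∈ I ↔ ∀ β ∈ p.support, β ∈ exps I := by
  constructor
  · intro hp β hβ
    exact hI p hp β hβ
  · intro h
    rw [← support_sum_monomial_coeff p]
    refine I.sum_mem fun β hβ => ?_
    have : monomial β (coeff β p) = C (coeff β p) * monomial β (1 : k) := by
      rw [C_mul_monomial, mul_one]
    rw [this]
    exact I.mul_mem_left _ (h β hβ)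

section slice

lemma e3_zero (a b c : ℕ) : e3 a b c 0 = a := by simp [e3]
lemma e3_one (a b c : ℕ) : e3 a b c 1 = b := by simp [e3]
lemma e3_two (a b c : ℕ) : e3 a b c 2 = c := by simp [e3]

lemma mapDomain_succ_add (a : ℕ) (β : Fin 2 →₀ ℕ) :
    Finsupp.mapDomain Fin.succ β + Finsupp.single (0 : Fin 3) a = e3 a (β 0) (β 1) := by
  have hinj : Function.Injective (Fin.succ : Fin 2 → Fin 3) := Fin.succ_injective 2
  ext t
  fin_cases t
  · have h0 : (0 : Fin 3) ∉ Set.range (Fin.succ : Fin 2 → Fin 3) := by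
      rintro ⟨x, hx⟩; exact Fin.succ_ne_zero x hx
    simp only [Fin.zero_eta, Finsupp.add_apply, Finsupp.mapDomain_of_notMem_range _ _ h0,
      Finsupp.single_eq_same, zero_add]
    exact (e3_zero _ _ _).symm
  · have : ((⟨1, by omega⟩ : Fin 3)) = Fin.succ (0 : Fin 2) := rfl
    rw [this, Finsupp.add_apply, Finsupp.mapDomain_apply hinj]
    simp [e3_one]
  · have : ((⟨2, by omega⟩ : Fin 3)) = Fin.succ (1 : Fin 2) := rfl
    rw [this, Finsupp.add_apply, Finsupp.mapDomain_apply hinj]
    simp [e3_two]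

lemma mem_sliceX_iff {I : Ideal (MvPolynomial (Fin 3) k)} (hI : IsMonomial I) (a : ℕ)
    (f : MvPolynomial (Fin 2) k) :
    f ∈ sliceX I a ↔ ∀ β ∈ f.support, e3 a (β 0) (β 1) ∈ exps I := by
  have hinj : Function.Injective (Fin.succ : Fin 2 → Fin 3) := Fin.succ_injective 2
  have h1 : f ∈ sliceX I a ↔ rename Fin.succ f * X 0 ^ a ∈ I := by
    unfold sliceX
    rw [Ideal.mem_comap, Submodule.mem_colon_singleton, smul_eq_mul]
    rfl
  rw [h1, mem_iff_support hI, X_pow_eq_monomial]
  constructor
  · intro h β hβ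
    rw [← mapDomain_succ_add]
    apply h
    rw [mem_support_iff, coeff_mul_monomial, mul_one, coeff_rename_mapDomain _ hinj]
    exact mem_support_iff.mp hβ
  · intro h γ hγ
    rw [mem_support_iff, coeff_mul_monomial'] at hγ
    split_ifs at hγ with hle
    · rw [mul_one] at hγ
      have : ∃ u : Fin 2 →₀ ℕ, u.mapDomain Fin.succ = γ - Finsupp.single 0 a ∧ coeff u f ≠ 0 := by
        by_contra hcon
        push Not at hcon
        exact hγ (coeff_rename_eq_zero _ _ _ hcon)
      obtain ⟨u, hu1, hu2⟩ := this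
      have hγ' : γ = Finsupp.mapDomain Fin.succ u + Finsupp.single 0 a := by
        rw [hu1, tsub_add_cancel_of_le hle]
      rw [hγ', mapDomain_succ_add]
      exact h u (mem_support_iff.mpr hu2)
    · exact absurd rfl hγ

lemma mem_exps_sliceX_iff {I : Ideal (MvPolynomial (Fin 3) k)} (hI : IsMonomial I) (a : ℕ)
    (β : Fin 2 →₀ ℕ) : β ∈ exps (sliceX I a) ↔ e3 a (β 0) (β 1) ∈ exps I := by
  classical
  show monomial β (1 : k) ∈ sliceX I a ↔ _
  rw [mem_sliceX_iff hI, support_monomial, if_neg one_ne_zero]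
  simp

theorem sliceX_stronglyStable (I : Ideal (MvPolynomial (Fin 3) k)) (hI : IsStronglyStable I)
    (i : ℕ) :
    IsStronglyStable (sliceX I i) ∧
      (sliceX I i).colon {(MvPolynomial.X 0 : MvPolynomial (Fin 2) k)} ≤ sliceX I (i + 1) := by
  classical
  have hmono : IsMonomial I := hI.1
  have hmono' : IsMonomial (sliceX I i) := by
    intro p hp β hβ
    show β ∈ exps (sliceX I i)
    rw [mem_exps_sliceX_iff hmono]
    exact (mem_sliceX_iff hmono i p).mp hp β hβ
  refine ⟨⟨hmono', ?_⟩, ?_⟩
  · intro β hβ i' j' hij hpos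
    rw [mem_exps_sliceX_iff hmono] at hβ ⊢
    have hi' : i' = 0 := by
      fin_cases i' <;> fin_cases j' <;> simp_all
    have hj' : j' = 1 := by
      fin_cases i' <;> fin_cases j' <;> simp_all
    subst hi' hj'
    have := hI.2 _ hβ 1 2 (by decide) (by rw [e3_two]; exact hpos)
    convert this using 1
    ext t
    fin_cases t <;> simp [e3_zero, e3_one, e3_two]
  · intro f hf
    rw [Submodule.mem_colon_singleton, smul_eq_mul, mem_sliceX_iff hmono, support_mul_X] at hf
    rw [mem_sliceX_iff hmono]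
    intro β hβ
    have h1 := hf (β + Finsupp.single 0 1) (by
      rw [Finset.mem_map]; exact ⟨β, hβ, rfl⟩)
    have := hI.2 _ h1 0 1 (by decide) (by rw [e3_one]; simp)
    convert this using 1
    ext t
    fin_cases t <;> simp [e3_zero, e3_one, e3_two]

end slice

end Groth.Agent.Lib.Helper20.MonoIdeal
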