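import Mathlib
import Groth.Agent.Lib.Helper17.FlatStagePt
import Groth.Agent.Lib.Helper17.PbFlatOver
import Groth.Agent.Lib.Helper17.PbFinite

/-!
# Helper20: descending a flat family from a finite stage to a finitely generated subring
-/

set_option autoImplicit false
set_option linter.style.haveILetI false
set_option linter.unusedSectionVars false
universe u
open CategoryTheory CategoryTheory.Limits AlgebraicGeometry

namespace Groth.Agent.Lib.Helper20.NDesc

open Groth.Agent.Lib.Helper17 Groth.Agent.Lib.Helper3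

theorem exists_subalgebra_factor {A : Type u} [CommRing A] (T : Scheme.{u}) [IsAffine T]
    (hft : Algebra.FiniteType ℤ Γ(T, ⊤)) (u : Spec (CommRingCat.of A) ⟶ T) :
    ∃ (A₀ : Subalgebra ℤ A) (_ : A₀.FG) (v : Spec (CommRingCat.of ↥A₀) ⟶ T),
      Spec.map (CommRingCat.ofHom A₀.val.toRingHom) ≫ v = u := by
  let ψc : Γ(T, ⊤) ⟶ CommRingCat.of A := u.appTop ≫ (Scheme.ΓSpecIso (CommRingCat.of A)).hom
  let ψ : Γ(T, ⊤) →ₐ[ℤ] A := ψc.hom.toIntAlgHom
  refine ⟨ψ.range, ?_, Spec.map (CommRingCat.ofHom ψ.rangeRestrict.toRingHom) ≫ T.isoSpec.inv, ?_⟩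
  · rw [← Algebra.map_top]
    exact hft.out.map ψ
  · rw [← Category.assoc, ← Spec.map_comp]
    have h1 : CommRingCat.ofHom ψ.rangeRestrict.toRingHom ≫
        CommRingCat.ofHom ψ.range.val.toRingHom = ψc := by
      ext r
      rfl
    rw [h1]
    show Spec.map (u.appTop ≫ (Scheme.ΓSpecIso (CommRingCat.of A)).hom) ≫ T.isoSpec.inv = u
    rw [Spec.map_comp, Category.assoc, Scheme.isoSpec_inv_naturality, ← Category.assoc,
      ← Scheme.isoSpec_Spec_hom, Iso.hom_inv_id, Category.id_comp]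

set_option maxHeartbeats 1600000 in
theorem descend_to_subalgebra {A : Type u} [CommRing A] {S₀ X₀ X : Scheme.{u}} (f₀ : X₀ ⟶ S₀)
    [LocallyOfFinitePresentation f₀] [QuasiCompact f₀]
    (F₀ : X₀.Modules) [F₀.IsQuasicoherent]
    [SheafOfModules.IsFinitePresentation (R := X₀.ringCatSheaf) F₀]
    (uA : Spec (CommRingCat.of A) ⟶ S₀) (Tk : Over S₀) [IsAffine Tk.left]
    (hft : Algebra.FiniteType ℤ Γ(Tk.left, ⊤))
    (m : Over.mk uA ⟶ Tk)
    (f : X ⟶ Spec (CommRingCat.of A)) (p : X ⟶ X₀) (hsq : IsPullback p f f₀ uA)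
    (F : X.Modules) (e : (Scheme.Modules.pullback p).obj F₀ ≅ F) :
    ∃ (A₀ : Subalgebra ℤ A) (_ : A₀.FG) (X₀' : Scheme.{u})
      (f₀' : X₀' ⟶ Spec (CommRingCat.of ↥A₀))
      (_ : LocallyOfFiniteType f₀') (_ : QuasiCompact f₀') (F₀' : X₀'.Modules)
      (_ : Coh.IsCoh F₀') (q : X ⟶ X₀')
      (_ : IsPullback q f f₀' (Spec.map (CommRingCat.ofHom A₀.val.toRingHom)))
      (_ : (Scheme.Modules.pullback q).obj F₀' ≅ F),
      (∀ x : X, FlatMod.IsFlatOverAt (pullback.snd f₀ Tk.hom)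
          ((Scheme.Modules.pullback (pullback.fst f₀ Tk.hom)).obj F₀)
          (PbCover.bcMap f₀ m (hsq.isoPullback.hom x)) → FlatMod.IsFlatOverAt f₀' F₀' (q x)) ∧
      (FlatMod.IsFlatOver (pullback.snd f₀ Tk.hom)
          ((Scheme.Modules.pullback (pullback.fst f₀ Tk.hom)).obj F₀) →
        FlatMod.IsFlatOver f₀' F₀') := by
  obtain ⟨A₀, hA₀, v, hv⟩ := exists_subalgebra_factor Tk.left hft m.left
  let T₀ : Over S₀ := Over.mk (v ≫ Tk.hom)
  let g₀ : T₀ ⟶ Tk := Over.homMk v rfl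
  let gA : Over.mk uA ⟶ T₀ := Over.homMk (Spec.map (CommRingCat.ofHom A₀.val.toRingHom)) (by
    show Spec.map (CommRingCat.ofHom A₀.val.toRingHom) ≫ v ≫ Tk.hom = uA
    rw [← Category.assoc, hv]
    exact Over.w m)
  have hm : gA ≫ g₀ = m := by
    apply Over.OverMorphism.ext
    exact hv
  let F₀' : (pullback f₀ T₀.hom).Modules :=
    (Scheme.Modules.pullback (pullback.fst f₀ T₀.hom)).obj F₀
  haveI : F₀'.IsQuasicoherent := PbStalk.isQuasicoherent_pullback _ F₀
  haveI : SheafOfModules.IsFinitePresentation (R := (pullback f₀ T₀.hom).ringCatSheaf) F₀' :=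
    PbFinite.isFinitePresentation_pullback _ F₀
  have hcoh : Coh.IsCoh F₀' := ⟨inferInstance, inferInstance⟩
  have hleft : IsPullback hsq.isoPullback.hom f (pullback.snd f₀ uA)
      (𝟙 (Spec (CommRingCat.of A))) :=
    IsPullback.of_horiz_isIso ⟨by rw [IsPullback.isoPullback_hom_snd, Category.comp_id]⟩
  have hq := hleft.paste_horiz (PbCover.isPullback_bcMap f₀ gA)
  rw [Category.id_comp] at hq
  let E : (Scheme.Modules.pullback (hsq.isoPullback.hom ≫ PbCover.bcMap f₀ gA)).obj F₀' ≅ F :=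
    ((Scheme.Modules.pullbackComp hsq.isoPullback.hom (PbCover.bcMap f₀ gA)).app F₀').symm ≪≫
      (Scheme.Modules.pullback hsq.isoPullback.hom).mapIso (PbFlatOver.bcIso f₀ gA F₀) ≪≫
      (Scheme.Modules.pullbackComp hsq.isoPullback.hom (pullback.fst f₀ uA)).app F₀ ≪≫
      eqToIso (by rw [IsPullback.isoPullback_hom_fst]) ≪≫ e
  refine ⟨A₀, hA₀, pullback f₀ T₀.hom, pullback.snd f₀ T₀.hom, inferInstance, inferInstance,
    F₀', hcoh, hsq.isoPullback.hom ≫ PbCover.bcMap f₀ gA, hq, E, ?_, ?_⟩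
  · intro x hx
    rw [← hm, ← FlatStagePt.bcMap_comp_apply] at hx
    have := FlatStagePt.isFlatOverAt_bcMap f₀ F₀ g₀ _ hx
    rw [Scheme.Hom.comp_apply]
    exact this
  · intro h
    exact PbFlatOver.isFlatOver_of_hom f₀ F₀ g₀ h

end Groth.Agent.Lib.Helper20.NDesc
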