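import Mathlib
import Groth.Agent.Lib.Helper20.NDesc1
import Groth.Agent.Lib.Helper20.FlatBC1
import Groth.Agent.Lib.Helper20.GRkM1
import Groth.Agent.Lib.Helper12.FpLimit
import Groth.Agent.Lib.Helper12.FpDesc
import Groth.Agent.Lib.Helper12.PbDiag
import Groth.Agent.Lib.Helper1.ModDescNoeth
import Groth.Agent.Lib.Helper17.FlatStageMain
import Groth.Agent.Lib.Helper17.FlatStagePt

/-!
# Helper20: EGA IV 11.2.7 — Noetherian descent of flatness to a finitely generated subring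
-/

set_option autoImplicit false
set_option linter.style.haveILetI false
set_option linter.unusedSectionVars false
universe u
open CategoryTheory CategoryTheory.Limits AlgebraicGeometry

namespace Groth.Agent.Lib.Helper20.NDesc

open Groth.Agent.Lib.Helper17 Groth.Agent.Lib.Helper3 Groth.Agent.Lib.Helper1
  Groth.Agent.Lib.Helper12.FpDesc Groth.Agent.Lib.Helper12.PbDiag Groth.Agent.Lib.Helper12
  Groth.Agent.Lib.Helper12.ConsPropGen

theorem finiteType_int_of_lfp {T : Scheme.{u}} [IsAffine T]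
    (t : T ⟶ Spec (CommRingCat.of (ULift.{u} ℤ))) [LocallyOfFinitePresentation t] :
    Algebra.FiniteType ℤ Γ(T, ⊤) := by
  have h1 : t.appTop.hom.FinitePresentation :=
    (HasRingHomProperty.iff_of_isAffine (P := @LocallyOfFinitePresentation)).1 inferInstance
  have h2 : t.appTop.hom.FiniteType := RingHom.FiniteType.of_finitePresentation h1
  let e : Γ(Spec (CommRingCat.of (ULift.{u} ℤ)), ⊤) ≃+* ℤ :=
    (Scheme.ΓSpecIso (CommRingCat.of (ULift.{u} ℤ))).commRingCatIsoToRingEquiv.trans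
      ULift.ringEquiv
  have hsurj : Function.Surjective
      (Int.castRingHom Γ(Spec (CommRingCat.of (ULift.{u} ℤ)), ⊤)) := by
    intro z
    refine ⟨e z, ?_⟩
    apply e.injective
    show e ((e z : ℤ) : Γ(Spec (CommRingCat.of (ULift.{u} ℤ)), ⊤)) = e z
    rw [map_intCast]
    exact Int.cast_id
  have h3 := h2.comp (RingHom.FiniteType.of_surjective _ hsurj)
  have h4 : (t.appTop.hom).comp (Int.castRingHom _) = algebraMap ℤ Γ(T, ⊤) :=
    RingHom.ext_int _ _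
  rw [h4] at h3
  exact RingHom.finiteType_algebraMap.mp h3

set_option backward.isDefEq.respectTransparency false in
set_option maxHeartbeats 3200000 in
theorem main {A : Type u} [CommRing A] {X : Scheme.{u}}
    (f : X ⟶ Spec (CommRingCat.of A)) [LocallyOfFinitePresentation f] [QuasiCompact f]
    [QuasiSeparated f]
    (F : X.Modules) [F.IsQuasicoherent] (hF : CohB1.IsFP F) (x : X) :
    (FlatMod.IsFlatOverAt f F x →
      ∃ (A₀ : Subalgebra ℤ A) (_ : A₀.FG) (X₀ : Scheme.{u})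
        (f₀ : X₀ ⟶ Spec (CommRingCat.of ↥A₀))
        (_ : LocallyOfFiniteType f₀) (_ : QuasiCompact f₀) (F₀ : X₀.Modules) (_ : Coh.IsCoh F₀)
        (q : X ⟶ X₀)
        (_ : IsPullback q f f₀ (Spec.map (CommRingCat.ofHom A₀.val.toRingHom)))
        (_ : (Scheme.Modules.pullback q).obj F₀ ≅ F),
        FlatMod.IsFlatOverAt f₀ F₀ (q x)) ∧
    (FlatMod.IsFlatOver f F →
      ∃ (A₀ : Subalgebra ℤ A) (_ : A₀.FG) (X₀ : Scheme.{u})
        (f₀ : X₀ ⟶ Spec (CommRingCat.of ↥A₀))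
        (_ : LocallyOfFiniteType f₀) (_ : QuasiCompact f₀) (F₀ : X₀.Modules) (_ : Coh.IsCoh F₀)
        (q : X ⟶ X₀)
        (_ : IsPullback q f f₀ (Spec.map (CommRingCat.ofHom A₀.val.toRingHom)))
        (_ : (Scheme.Modules.pullback q).obj F₀ ≅ F),
        FlatMod.IsFlatOver f₀ F₀) := by
  haveI : SheafOfModules.IsFinitePresentation (R := X.ringCatSheaf) F := hF
  obtain ⟨J, _, _, 𝔇, τ, π, hπ, haff, hlfp, -⟩ :=
    FpLimit.exists_limit_of_ringHom (R := CommRingCat.of (ULift.{u} ℤ)) (B := CommRingCat.of A)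
      (CommRingCat.ofHom ((Int.castRingHom A).comp (ULift.ringEquiv (R := ℤ)).toRingHom))
  haveI : ∀ {i j : J} (a : i ⟶ j), IsAffineHom (𝔇.map a) := fun a => inferInstance
  haveI : ∀ (i j : J) (a : i ⟶ j), IsAffineHom (𝔇.map a) := fun _ _ a => inferInstance
  have hnoeth : ∀ j, IsNoetherian (𝔇.obj j) := fun j => by
    haveI := haff j
    obtain ⟨t, ht⟩ : ∃ t : 𝔇.obj j ⟶ Spec (.of (ULift.{u} ℤ)), t = τ.app j := ⟨_, rfl⟩
    haveI : LocallyOfFinitePresentation t := ht ▸ hlfp j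
    haveI : IsLocallyNoetherian (𝔇.obj j) := LocallyOfFiniteType.isLocallyNoetherian t
    exact ⟨⟩
  have hft : ∀ j, Algebra.FiniteType ℤ Γ(𝔇.obj j, ⊤) := fun j => by
    haveI := haff j
    obtain ⟨t, ht⟩ : ∃ t : 𝔇.obj j ⟶ Spec (.of (ULift.{u} ℤ)), t = τ.app j := ⟨_, rfl⟩
    haveI : LocallyOfFinitePresentation t := ht ▸ hlfp j
    exact finiteType_int_of_lfp t
  obtain ⟨i₁, X₁, x₁, qX₁, _, _, _, sq₁⟩ := descends_of_fp (D := 𝔇) (c := Cone.mk _ π) hπ f
  haveI := haff i₁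
  haveI := hnoeth i₁
  let i₀' : Over i₁ := Over.mk (𝟙 i₁)
  haveI : CompactSpace ((pbDiagram 𝔇 i₁ x₁).obj i₀') := compactSpace_pbDiagram_obj 𝔇 i₁ x₁ i₀'
  haveI : QuasiSeparatedSpace ((pbDiagram 𝔇 i₁ x₁).obj i₀') :=
    quasiSeparatedSpace_pbDiagram_obj 𝔇 i₁ x₁ i₀'
  haveI : IsLocallyNoetherian ((pbDiagram 𝔇 i₁ x₁).obj i₀') :=
    LocallyOfFiniteType.isLocallyNoetherian (pullback.snd x₁ (𝔇.map i₀'.hom))
  haveI : ∀ (j k : Over i₁) (a : j ⟶ k), IsAffineHom ((pbDiagram 𝔇 i₁ x₁).map a) :=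
    fun _ _ a => inferInstance
  obtain ⟨j, φ, Fj, hFjq, hFjfp, ⟨e⟩⟩ := ModDescNoeth.exists_descent (pbDiagram 𝔇 i₁ x₁)
    (pbCone (Cone.mk _ π) qX₁ f sq₁)
    (isLimitPbCone (Cone.mk _ π) hπ qX₁ f sq₁) i₀' F
  haveI := hFjq
  haveI := hFjfp
  have hsqj := isPullback_pbCone_π (Cone.mk _ π) qX₁ f sq₁ j
  -- the system over `S₀ = 𝔇.obj j.left`
  obtain ⟨f₀, hf₀⟩ : ∃ f₀ : pullback x₁ (𝔇.map j.hom) ⟶ 𝔇.obj j.left,
    f₀ = pullback.snd x₁ (𝔇.map j.hom) := ⟨_, rfl⟩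
  obtain ⟨p, hp⟩ : ∃ p : X ⟶ pullback x₁ (𝔇.map j.hom),
    p = (pbCone (Cone.mk _ π) qX₁ f sq₁).π.app j := ⟨_, rfl⟩
  rw [← hf₀, ← hp] at hsqj
  haveI : LocallyOfFinitePresentation f₀ := by rw [hf₀]; infer_instance
  haveI : QuasiCompact f₀ := by rw [hf₀]; infer_instance
  have e' : (Scheme.Modules.pullback p).obj Fj ≅ F := by rw [hp]; exact e
  let D₀ : Over j.left ⥤ Over (𝔇.obj j.left) := Over.post 𝔇
  let c₀ : Cone D₀ := (Over.conePost 𝔇 j.left).obj (Cone.mk _ π)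
  have hc₀ : IsLimit ((Over.forget (𝔇.obj j.left)).mapCone c₀) :=
    (Functor.Initial.isLimitWhiskerEquiv (Over.forget j.left) (Cone.mk _ π)).symm hπ
  have hD₀ : ∀ i, IsAffine (D₀.obj i).left := fun i => haff i.left
  have hT₀ : IsAffine c₀.pt.left := by
    show IsAffine (Spec (CommRingCat.of A))
    infer_instance
  have haff₀ : ∀ {i k : Over j.left} (g : i ⟶ k), IsAffineHom (D₀.map g).left := fun g => by
    show IsAffineHom (𝔇.map g.left)
    infer_instance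
  -- the module on the canonical pullback
  let a := hsqj.isoPullback
  let G : (pullback f₀ (π.app j.left)).Modules :=
    (Scheme.Modules.pullback (pullback.fst f₀ (π.app j.left))).obj Fj
  haveI : G.IsQuasicoherent := PbStalk.isQuasicoherent_pullback _ Fj
  let eG : (Scheme.Modules.pullback a.hom).obj G ≅ F :=
    (Scheme.Modules.pullbackComp a.hom (pullback.fst f₀ (π.app j.left))).app Fj ≪≫
      eqToIso (by rw [IsPullback.isoPullback_hom_fst]) ≪≫ e'
  have hwa : a.hom ≫ pullback.snd f₀ (π.app j.left) = f ≫ 𝟙 _ := by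
    rw [IsPullback.isoPullback_hom_snd, Category.comp_id]
  have key : ∀ y : X, FlatMod.IsFlatOverAt f F y →
      FlatMod.IsFlatOverAt (pullback.snd f₀ (π.app j.left)) G (a.hom y) := by
    intro y hy
    exact FlatBC.isFlatOverAt_of_flat_square (pullback.snd f₀ (π.app j.left)) f a.hom (𝟙 _) hwa G y
      (Flat.stalkMap _ _) (Flat.stalkMap _ _) (PbFlatOver.isFlatOverAt_of_iso _ eG.symm y hy)
  constructor
  · intro hx
    have hP : FlatMod.IsFlatOverAt (pullback.snd f₀ c₀.pt.hom)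
        ((Scheme.Modules.pullback (pullback.fst f₀ c₀.pt.hom)).obj Fj) (a.hom x) := key x hx
    obtain ⟨i, hi⟩ := FlatStagePt.exists_stage_pt f₀ Fj D₀ c₀ hc₀ haff₀ (a.hom x) hP
    have hii := hi i (𝟙 i)
    haveI : IsAffine (D₀.obj i).left := hD₀ i
    obtain ⟨A₀, hA₀, X₀', f₀', h1, h2, F₀', h3, q, h4, h5, h6, -⟩ :=
      descend_to_subalgebra f₀ Fj (π.app j.left) (D₀.obj i) (hft i.left) (c₀.π.app i) f p hsqj F e'
    exact ⟨A₀, hA₀, X₀', f₀', h1, h2, F₀', h3, q, h4, h5, h6 x hii⟩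
  · intro hfl
    have hP : FlatMod.IsFlatOver (pullback.snd f₀ c₀.pt.hom)
        ((Scheme.Modules.pullback (pullback.fst f₀ c₀.pt.hom)).obj Fj) := by
      intro z
      have hz : a.hom (a.inv z) = z := by
        rw [← Scheme.Hom.comp_apply, Iso.inv_hom_id]
        rfl
      have := key (a.inv z) (hfl _)
      rw [hz] at this
      exact this
    obtain ⟨i, hi⟩ := FlatStageMain.exists_stage f₀ Fj D₀ c₀ hc₀ hD₀ hT₀ hP
    haveI : IsAffine (D₀.obj i).left := hD₀ i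
    obtain ⟨A₀, hA₀, X₀', f₀', h1, h2, F₀', h3, q, h4, h5, -, h7⟩ :=
      descend_to_subalgebra f₀ Fj (π.app j.left) (D₀.obj i) (hft i.left) (c₀.π.app i) f p hsqj F e'
    exact ⟨A₀, hA₀, X₀', f₀', h1, h2, F₀', h3, q, h4, h5, h7 hi⟩

end Groth.Agent.Lib.Helper20.NDesc
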