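import Mathlib

/-! Abstract category-theoretic lemmas about hom-set bijectivity of a functor
(used for formal manipulations of the Néron mapping property). helper20 -/

namespace Groth.Agent.Lib.Helper20.NMPAbstract

open CategoryTheory Limits MonoidalCategory CartesianMonoidalCategory

universe v₁ v₂ u₁ u₂

variable {C : Type u₁} [Category.{v₁} C] {D : Type u₂} [Category.{v₂} D]

/-- `F.map` on a hom set -/
abbrev mapHom (F : C ⥤ D) (Z N : C) : (Z ⟶ N) → (F.obj Z ⟶ F.obj N) := fun g => F.map g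

lemma bijective_of_natIso {F F' : C ⥤ D} (α : F ≅ F') {Z N : C}
    (h : Function.Bijective (fun g : Z ⟶ N => F.map g)) :
    Function.Bijective (fun g : Z ⟶ N => F'.map g) := by
  have : (fun g : Z ⟶ N => F'.map g) =
      (Iso.homCongr (α.app Z) (α.app N)) ∘ (fun g : Z ⟶ N => F.map g) := by
    funext g
    simp [Iso.homCongr]
  rw [this]
  exact (Equiv.bijective _).comp h

lemma bijective_natIso_iff {F F' : C ⥤ D} (α : F ≅ F') {Z N : C} :
    Function.Bijective (fun g : Z ⟶ N => F.map g) ↔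
    Function.Bijective (fun g : Z ⟶ N => F'.map g) :=
  ⟨bijective_of_natIso α, bijective_of_natIso α.symm⟩

lemma bijective_comp_fullyFaithful_iff {E : Type*} [Category E] (F : C ⥤ D) (G : D ⥤ E)
    [G.Full] [G.Faithful] {Z N : C} :
    Function.Bijective (fun g : Z ⟶ N => (F ⋙ G).map g) ↔
    Function.Bijective (fun g : Z ⟶ N => F.map g) := by
  have : (fun g : Z ⟶ N => (F ⋙ G).map g) =
      (fun h : F.obj Z ⟶ F.obj N => G.map h) ∘ (fun g : Z ⟶ N => F.map g) := rfl
  rw [this]
  exact Function.Bijective.of_comp_iff' (f := fun h : F.obj Z ⟶ F.obj N => G.map h)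
    ⟨G.map_injective, G.map_surjective⟩ _

lemma bijective_comp_iff_of_bijective {E : Type*} [Category E] (F : C ⥤ D) (G : D ⥤ E) {Z N : C}
    (hG : Function.Bijective (fun h : F.obj Z ⟶ F.obj N => G.map h)) :
    Function.Bijective (fun g : Z ⟶ N => (F ⋙ G).map g) ↔
    Function.Bijective (fun g : Z ⟶ N => F.map g) := by
  have : (fun g : Z ⟶ N => (F ⋙ G).map g) =
      (fun h : F.obj Z ⟶ F.obj N => G.map h) ∘ (fun g : Z ⟶ N => F.map g) := rfl
  rw [this]
  exact Function.Bijective.of_comp_iff' hG _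

/-- products -/
lemma bijective_map_tensor [CartesianMonoidalCategory C] (F : C ⥤ D) {Z P Q : C}
    [PreservesLimit (pair P Q) F]
    (hP : Function.Bijective (fun g : Z ⟶ P => F.map g))
    (hQ : Function.Bijective (fun g : Z ⟶ Q => F.map g)) :
    Function.Bijective (fun g : Z ⟶ P ⊗ Q => F.map g) := by
  have hl : IsLimit (BinaryFan.mk (F.map (fst P Q)) (F.map (snd P Q))) :=
    mapIsLimitOfPreservesOfIsLimit F _ _ (tensorProductIsBinaryProduct P Q)
  constructor
  · intro g g' h
    simp only at h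
    apply CartesianMonoidalCategory.hom_ext
    · apply hP.1
      simp only [F.map_comp, h]
    · apply hQ.1
      simp only [F.map_comp, h]
  · intro h
    obtain ⟨g₁, hg₁⟩ := hP.2 (h ≫ F.map (fst P Q))
    obtain ⟨g₂, hg₂⟩ := hQ.2 (h ≫ F.map (snd P Q))
    refine ⟨lift g₁ g₂, ?_⟩
    simp only at hg₁ hg₂ ⊢
    apply BinaryFan.IsLimit.hom_ext hl
    · change F.map (lift g₁ g₂) ≫ F.map (fst P Q) = h ≫ F.map (fst P Q)
      rw [← F.map_comp, lift_fst, hg₁]
    · change F.map (lift g₁ g₂) ≫ F.map (snd P Q) = h ≫ F.map (snd P Q)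
      rw [← F.map_comp, lift_snd, hg₂]

/-- pullbacks -/
lemma bijective_map_of_isPullback (F : C ⥤ D) {Z K G T H : C} {p₁ : K ⟶ G} {p₂ : K ⟶ T}
    {f : G ⟶ H} {e : T ⟶ H} (sq : IsPullback p₁ p₂ f e) [PreservesLimit (cospan f e) F]
    (hG : Function.Bijective (fun g : Z ⟶ G => F.map g))
    (hT : Function.Bijective (fun g : Z ⟶ T => F.map g))
    (hH : Function.Injective (fun g : Z ⟶ H => F.map g)) :
    Function.Bijective (fun g : Z ⟶ K => F.map g) := by
  have sq' : IsPullback (F.map p₁) (F.map p₂) (F.map f) (F.map e) := sq.map F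
  constructor
  · intro g g' h
    simp only at h
    apply sq.hom_ext
    · apply hG.1
      simp only [F.map_comp, h]
    · apply hT.1
      simp only [F.map_comp, h]
  · intro h
    obtain ⟨g₁, hg₁⟩ := hG.2 (h ≫ F.map p₁)
    obtain ⟨g₂, hg₂⟩ := hT.2 (h ≫ F.map p₂)
    simp only at hg₁ hg₂
    have hc : g₁ ≫ f = g₂ ≫ e := by
      apply hH
      simp only [F.map_comp, hg₁, hg₂, Category.assoc, sq'.w]
    refine ⟨sq.lift g₁ g₂ hc, ?_⟩
    simp only
    apply sq'.hom_ext
    · rw [← F.map_comp, IsPullback.lift_fst, hg₁]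
    · rw [← F.map_comp, IsPullback.lift_snd, hg₂]

/-- terminal objects -/
lemma bijective_map_of_isTerminal (F : C ⥤ D) {Z T : C} (hT : IsTerminal T)
    [PreservesLimit (Functor.empty.{0} C) F] :
    Function.Bijective (fun g : Z ⟶ T => F.map g) := by
  have hT' : IsTerminal (F.obj T) := IsTerminal.isTerminalObj F T hT
  constructor
  · intro g g' _
    exact hT.hom_ext _ _
  · intro h
    exact ⟨hT.from Z, hT'.hom_ext _ _⟩

/-- detecting isomorphisms -/
lemma isIso_of_isIso_map (F : C ⥤ D) {P Q : C} (f : P ⟶ Q) (hf : IsIso (F.map f))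
    (hQP : Function.Surjective (fun g : Q ⟶ P => F.map g))
    (hPP : Function.Injective (fun g : P ⟶ P => F.map g))
    (hQQ : Function.Injective (fun g : Q ⟶ Q => F.map g)) : IsIso f := by
  obtain ⟨g, hg⟩ := hQP (inv (F.map f))
  simp only at hg
  refine ⟨g, ?_, ?_⟩
  · apply hPP
    simp only [F.map_comp, hg, IsIso.hom_inv_id, F.map_id]
  · apply hQQ
    simp only [F.map_comp, hg, IsIso.inv_hom_id, F.map_id]

end Groth.Agent.Lib.Helper20.NMPAbstract
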