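import Groth.Agent.Lib.Helper20.NMPAbstract

/-! Extension form of the Néron mapping property, and composition with étale maps. helper20 -/

namespace Groth.Agent.Lib.Helper20.NMPExt

open CategoryTheory Limits AlgebraicGeometry

universe u

section general

variable {C : Type*} [Category C] [HasPullbacks C]

/-- Extension form of bijectivity of `Over.pullback` on a hom set. -/
lemma bijective_iff_ext {B U : C} (ι : U ⟶ B) (Z N : Over B) {W : C} (ε : W ⟶ Z.left)
    (θ : W ≅ pullback Z.hom ι) (hθ : θ.hom ≫ pullback.fst Z.hom ι = ε) :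
    Function.Bijective (fun g : Z ⟶ N => (Over.pullback ι).map g) ↔
      ∀ v : W ⟶ N.left, v ≫ N.hom = ε ≫ Z.hom →
        ∃! u : Z.left ⟶ N.left, u ≫ N.hom = Z.hom ∧ ε ≫ u = v := by
  have hθ' : θ.inv ≫ ε = pullback.fst Z.hom ι := by rw [← hθ, Iso.inv_hom_id_assoc]
  have hmapfst : ∀ g : Z ⟶ N, ((Over.pullback ι).map g).left ≫ pullback.fst N.hom ι =
      pullback.fst Z.hom ι ≫ g.left := by
    intro g; exact pullback.lift_fst _ _ _
  have hleft : ∀ h : (Over.pullback ι).obj Z ⟶ (Over.pullback ι).obj N,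
      h.left ≫ pullback.snd N.hom ι = pullback.snd Z.hom ι := fun h => Over.w h
  constructor
  · intro hb v hv
    have hcond : (θ.inv ≫ v) ≫ N.hom = pullback.snd Z.hom ι ≫ ι := by
      rw [Category.assoc, hv, ← Category.assoc, hθ', pullback.condition]
    let h : (Over.pullback ι).obj Z ⟶ (Over.pullback ι).obj N :=
      Over.homMk (pullback.lift (θ.inv ≫ v) (pullback.snd Z.hom ι) hcond)
        (pullback.lift_snd _ _ _)
    have hhfst : h.left ≫ pullback.fst N.hom ι = θ.inv ≫ v := pullback.lift_fst _ _ _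
    obtain ⟨g, hg⟩ := hb.2 h
    simp only at hg
    refine ⟨g.left, ⟨Over.w g, ?_⟩, ?_⟩
    · rw [← hθ, Category.assoc, ← hmapfst g, hg, hhfst, Iso.hom_inv_id_assoc]
    · rintro u' ⟨hu1, hu2⟩
      have e1 : (Over.homMk u' hu1 : Z ⟶ N).left = u' := rfl
      have : Over.homMk u' hu1 = g := by
        apply hb.1
        simp only
        rw [hg]
        ext
        apply pullback.hom_ext
        · rw [hmapfst, hhfst, e1, ← hθ', Category.assoc, hu2]
        · rw [hleft, hleft]
      rw [← this, e1]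
  · intro hext
    constructor
    · intro g g' hgg
      simp only at hgg
      obtain ⟨u, -, hu⟩ := hext (ε ≫ g.left) (by rw [Category.assoc, Over.w g])
      have h1 : g.left = u := hu _ ⟨Over.w g, rfl⟩
      have h2 : g'.left = u := by
        apply hu _ ⟨Over.w g', ?_⟩
        rw [← hθ, Category.assoc, ← hmapfst g', ← hgg, hmapfst g, Category.assoc]
      exact Over.OverMorphism.ext (h1.trans h2.symm)
    · intro h
      have hv : (θ.hom ≫ h.left ≫ pullback.fst N.hom ι) ≫ N.hom = ε ≫ Z.hom := by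
        rw [Category.assoc, Category.assoc, pullback.condition, ← Category.assoc h.left, hleft h,
          ← pullback.condition, ← Category.assoc, hθ]
      obtain ⟨u, ⟨hu1, hu2⟩, -⟩ := hext _ hv
      have e1 : (Over.homMk u hu1 : Z ⟶ N).left = u := rfl
      refine ⟨Over.homMk u hu1, ?_⟩
      simp only
      ext
      apply pullback.hom_ext
      · rw [hmapfst, e1, ← hθ', Category.assoc, hu2, Iso.inv_hom_id_assoc]
      · rw [hleft, hleft]

end general

set_option backward.isDefEq.respectTransparency.types false in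
/-- cancellation: if `a ≫ f` is smooth and `f` is étale, then `a` is smooth -/
lemma smooth_of_comp_etale {X Y Z : Scheme.{u}} (a : X ⟶ Y) (f : Y ⟶ Z) [Etale f]
    [Smooth (a ≫ f)] : Smooth a := by
  have : MorphismProperty.IsMultiplicative @Smooth := { id_mem := fun _ => inferInstance }
  have h : MorphismProperty.HasOfPostcompProperty @Smooth
      (@LocallyOfFiniteType ⊓ @FormallyUnramified) := by
    rw [MorphismProperty.hasOfPostcompProperty_iff_le_diagonal]
    intro X Y f ⟨hft, hfu⟩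
    have : Etale (pullback.diagonal f) := inferInstance
    exact inferInstanceAs <| Smooth (pullback.diagonal f)
  exact MorphismProperty.of_postcomp (W := @Smooth)
    (W' := @LocallyOfFiniteType ⊓ @FormallyUnramified) a f ⟨inferInstance, inferInstance⟩ ‹_›

/-- NMP of a composite `N ⟶ S ⟶ T` with `S ⟶ T` étale. -/
theorem nmp_comp_etale {T : Scheme.{u}} (T₀ : T.Opens) {S N : Scheme.{u}} (f : S ⟶ T) [Etale f]
    (g : N ⟶ S)
    (hS : ∀ Z : Over T, Smooth Z.hom →
      Function.Bijective (fun g : Z ⟶ Over.mk f => (Over.pullback T₀.ι).map g))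
    (hN : ∀ Z : Over S, Smooth Z.hom →
      Function.Bijective (fun g : Z ⟶ Over.mk g => (Over.pullback (f ⁻¹ᵁ T₀).ι).map g)) :
    ∀ Z : Over T, Smooth Z.hom →
      Function.Bijective (fun g : Z ⟶ Over.mk (g ≫ f) => (Over.pullback T₀.ι).map g) := by
  intro Z hZ
  rw [bijective_iff_ext T₀.ι Z (Over.mk (g ≫ f)) (pullback.fst Z.hom T₀.ι) (Iso.refl _)
    (by simp)]
  have hS' := (bijective_iff_ext T₀.ι Z (Over.mk f) (pullback.fst Z.hom T₀.ι) (Iso.refl _)
    (by simp)).mp (hS Z hZ)
  intro v hv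
  simp only [Over.mk_left, Over.mk_hom] at hv hS' ⊢
  obtain ⟨a, ⟨ha1, ha2⟩, ha3⟩ := hS' (v ≫ g) (by rw [Category.assoc, hv])
  have hsm : Smooth a := by
    have : Smooth (a ≫ f) := by rw [ha1]; exact hZ
    exact smooth_of_comp_etale a f
  have hrange : Set.range (pullback.fst Z.hom T₀.ι) =
      Set.range (pullback.fst a (f ⁻¹ᵁ T₀).ι) := by
    rw [Scheme.Pullback.range_fst, Scheme.Pullback.range_fst, Scheme.Opens.range_ι,
      Scheme.Opens.range_ι, ← ha1]
    rfl
  have hN' := (bijective_iff_ext (f ⁻¹ᵁ T₀).ι (Over.mk a) (Over.mk g) (pullback.fst Z.hom T₀.ι)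
    (IsOpenImmersion.isoOfRangeEq _ _ hrange)
    (IsOpenImmersion.isoOfRangeEq_hom_fac _ _ hrange)).mp (hN (Over.mk a) hsm)
  simp only [Over.mk_left, Over.mk_hom] at hN'
  obtain ⟨u, ⟨hu1, hu2⟩, hu3⟩ := hN' v ha2.symm
  refine ⟨u, ⟨by rw [← Category.assoc, hu1, ha1], hu2⟩, ?_⟩
  rintro u' ⟨hu1', hu2'⟩
  have : u' ≫ g = a := ha3 _ ⟨by rw [Category.assoc, hu1'], by rw [← Category.assoc, hu2']⟩
  exact hu3 _ ⟨this, hu2'⟩

end Groth.Agent.Lib.Helper20.NMPExt
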