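import Groth.Agent.Lib.Helper20.NMPAbstract

/-! Transitivity of `Over.pullback` along nested opens, for the Néron mapping property. helper20 -/

namespace Groth.Agent.Lib.Helper20.NMPOpens

open CategoryTheory Limits AlgebraicGeometry
open Groth.Agent.Lib.Helper20.NMPAbstract

universe u

section general

variable {C : Type*} [Category C] [HasPullbacks C]

lemma pullback_congr {X Y : C} {f f' : X ⟶ Y} (h : f = f') :
    Over.pullback f = Over.pullback f' := by subst h; rfl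

lemma bijective_pullback_comp_iff {S S₁ W U : C} (j : W ⟶ U) [IsIso j] (ι₀ : U ⟶ S)
    (ι₁ : S₁ ⟶ S) (ι₁₀ : W ⟶ S₁) (hj : j ≫ ι₀ = ι₁₀ ≫ ι₁) (Z N : Over S) :
    Function.Bijective
      (fun g : Z ⟶ N => (Over.pullback ι₁₀).map ((Over.pullback ι₁).map g)) ↔
    Function.Bijective (fun g : Z ⟶ N => (Over.pullback ι₀).map g) := by
  have hE : (Over.pullback j).IsEquivalence :=
    (Over.mapPullbackAdj j).isEquivalence_right_of_isEquivalence_left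
  have e1 : Over.pullback ι₁ ⋙ Over.pullback ι₁₀ ≅ Over.pullback ι₀ ⋙ Over.pullback j :=
    (Over.pullbackComp ι₁₀ ι₁).symm ≪≫ eqToIso (pullback_congr hj.symm) ≪≫ Over.pullbackComp j ι₀
  rw [← bijective_comp_fullyFaithful_iff (Over.pullback ι₀) (Over.pullback j)]
  exact bijective_natIso_iff e1

end general

variable {S : Scheme.{u}} (S₀ S₁ : S.Opens)

lemma range_eq (h01 : S₀ ≤ S₁) :
    Set.range ((S₁.ι ⁻¹ᵁ S₀).ι ≫ S₁.ι) = Set.range S₀.ι := by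
  have h1 : ((S₁.ι ⁻¹ᵁ S₀).ι ≫ S₁.ι).opensRange = S₀.ι.opensRange := by
    rw [Scheme.Hom.opensRange_comp, Scheme.Opens.opensRange_ι, Scheme.Opens.opensRange_ι,
      Scheme.Hom.image_preimage_eq_opensRange_inf, Scheme.Opens.opensRange_ι]
    exact inf_eq_right.mpr h01
  exact congrArg (fun U : S.Opens => (U : Set S)) h1

/-- the iso `↑(S₁.ι ⁻¹ᵁ S₀) ≅ ↑S₀` -/
noncomputable def jIso (h01 : S₀ ≤ S₁) :
    ((S₁.ι ⁻¹ᵁ S₀ : (S₁ : Scheme.{u}).Opens) : Scheme.{u}) ≅ (S₀ : Scheme.{u}) :=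
  IsOpenImmersion.isoOfRangeEq ((S₁.ι ⁻¹ᵁ S₀).ι ≫ S₁.ι) S₀.ι (range_eq S₀ S₁ h01)

lemma jIso_hom_ι (h01 : S₀ ≤ S₁) :
    (jIso S₀ S₁ h01).hom ≫ S₀.ι = (S₁.ι ⁻¹ᵁ S₀).ι ≫ S₁.ι :=
  IsOpenImmersion.isoOfRangeEq_hom_fac _ _ _

lemma bijective_opens_iff (h01 : S₀ ≤ S₁) (Z N : Over S) :
    Function.Bijective
      (fun g : Z ⟶ N => (Over.pullback (S₁.ι ⁻¹ᵁ S₀).ι).map ((Over.pullback S₁.ι).map g)) ↔
    Function.Bijective (fun g : Z ⟶ N => (Over.pullback S₀.ι).map g) :=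
  bijective_pullback_comp_iff (jIso S₀ S₁ h01).hom S₀.ι S₁.ι (S₁.ι ⁻¹ᵁ S₀).ι
    (jIso_hom_ι S₀ S₁ h01) Z N

end Groth.Agent.Lib.Helper20.NMPOpens
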