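import Mathlib

/-!
# The fundamental theorem of symmetric polynomials for two families of variables
-/

set_option autoImplicit false

namespace Groth.Agent.Lib.Helper20.SymFT

open MvPolynomial

/-- `k`-th elementary symmetric polynomial in the first family of variables -/
noncomputable def eT (N k : ℕ) : MvPolynomial (Fin N ⊕ Fin N) ℤ :=
  rename Sum.inl (esymm (Fin N) ℤ k)

/-- `k`-th elementary symmetric polynomial in the second family of variables -/
noncomputable def eU (N k : ℕ) : MvPolynomial (Fin N ⊕ Fin N) ℤ :=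
  rename Sum.inr (esymm (Fin N) ℤ k)

/-- substitution `X_k ↦ e_k(T)`, `Y_k ↦ e_k(U)` -/
noncomputable def Phi (n N : ℕ) :
    MvPolynomial (Fin n ⊕ Fin n) ℤ →ₐ[ℤ] MvPolynomial (Fin N ⊕ Fin N) ℤ :=
  aeval (Sum.elim (fun k : Fin n => eT N ((k : ℕ) + 1)) (fun k : Fin n => eU N ((k : ℕ) + 1)))

/-- one family: `Y_k ↦ e_k(U)` -/
noncomputable def epsU (n N : ℕ) : MvPolynomial (Fin n) ℤ →ₐ[ℤ] MvPolynomial (Fin N) ℤ :=
  aeval (fun j : Fin n => esymm (Fin N) ℤ ((j : ℕ) + 1))

theorem epsU_injective {n N : ℕ} (h : n ≤ N) : Function.Injective (epsU n N) := by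
  intro p q hpq
  apply esymmAlgHom_fin_injective ℤ h
  apply Subtype.ext
  rw [esymmAlgHom_apply, esymmAlgHom_apply]
  exact hpq

/-- the iterated polynomial ring -/
abbrev It (N : ℕ) := MvPolynomial (Fin N) (MvPolynomial (Fin N) ℤ)

/-- `X_k ↦ e_k(T)` over the coefficient ring `ℤ[U]` -/
noncomputable def aevE (n N : ℕ) :
    MvPolynomial (Fin n) (MvPolynomial (Fin N) ℤ) →ₐ[MvPolynomial (Fin N) ℤ] It N :=
  aeval (fun i : Fin n => esymm (Fin N) (MvPolynomial (Fin N) ℤ) ((i : ℕ) + 1))

theorem aevE_injective {n N : ℕ} (h : n ≤ N) : Function.Injective (aevE n N) := by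
  intro p q hpq
  apply esymmAlgHom_fin_injective (MvPolynomial (Fin N) ℤ) h
  apply Subtype.ext
  rw [esymmAlgHom_apply, esymmAlgHom_apply]
  exact hpq

/-- the two-step substitution -/
noncomputable def Psi (n N : ℕ) : It n →+* It N :=
  (aevE n N).toRingHom.comp (MvPolynomial.map (epsU n N).toRingHom)

theorem Psi_injective {n N : ℕ} (h : n ≤ N) : Function.Injective (Psi n N) := by
  intro p q hpq
  have h1 : aevE n N (MvPolynomial.map (epsU n N).toRingHom p) =
      aevE n N (MvPolynomial.map (epsU n N).toRingHom q) := hpq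
  exact MvPolynomial.map_injective _ (epsU_injective h) (aevE_injective h h1)

/-- the iteration isomorphism -/
noncomputable abbrev A (N : ℕ) : MvPolynomial (Fin N ⊕ Fin N) ℤ ≃ₐ[ℤ] It N :=
  sumAlgEquiv ℤ (Fin N) (Fin N)

theorem A_X_inl (N : ℕ) (k : Fin N) : A N (X (Sum.inl k)) = X k := sumAlgEquiv_X_inl ..

theorem A_X_inr (N : ℕ) (k : Fin N) : A N (X (Sum.inr k)) = C (X k) := sumAlgEquiv_X_inr ..

theorem A_eT (N k : ℕ) : A N (eT N k) = esymm (Fin N) (MvPolynomial (Fin N) ℤ) k := by
  simp only [eT, esymm, map_sum, map_prod, rename_X, sumAlgEquiv_X_inl]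

theorem A_eU (N k : ℕ) : A N (eU N k) = C (esymm (Fin N) ℤ k) := by
  simp only [eU, esymm, map_sum, map_prod, rename_X, sumAlgEquiv_X_inr]

theorem A_Phi (n N : ℕ) (P : MvPolynomial (Fin n ⊕ Fin n) ℤ) :
    A N (Phi n N P) = Psi n N (A n P) := by
  have h : (A N).toAlgHom.toRingHom.comp (Phi n N).toRingHom =
      (Psi n N).comp (A n).toAlgHom.toRingHom := by
    apply MvPolynomial.ringHom_ext
    · intro r
      rw [eq_intCast (C : ℤ →+* MvPolynomial (Fin n ⊕ Fin n) ℤ) r]
      simp only [map_intCast]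
    · intro i
      rcases i with k | k
      · show A N (Phi n N (X (Sum.inl k))) = Psi n N (A n (X (Sum.inl k)))
        rw [Phi, aeval_X, Sum.elim_inl, A_eT, A_X_inl]
        show _ = aevE n N (MvPolynomial.map (epsU n N).toRingHom (X k))
        rw [map_X, aevE, aeval_X]
      · show A N (Phi n N (X (Sum.inr k))) = Psi n N (A n (X (Sum.inr k)))
        rw [Phi, aeval_X, Sum.elim_inr, A_eU, A_X_inr]
        show _ = aevE n N (MvPolynomial.map (epsU n N).toRingHom (C (X k)))
        rw [map_C, aevE, aeval_C, algebraMap_eq]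
        show _ = C (epsU n N (X k))
        rw [epsU, aeval_X]
  exact RingHom.congr_fun h P

theorem Phi_injective {n N : ℕ} (h : n ≤ N) : Function.Injective (Phi n N) := by
  intro p q hpq
  have h1 : Psi n N (A n p) = Psi n N (A n q) := by
    rw [← A_Phi, ← A_Phi, hpq]
  exact (A n).injective (Psi_injective h h1)

theorem A_rename_left (N : ℕ) (σ : Equiv.Perm (Fin N)) (g : MvPolynomial (Fin N ⊕ Fin N) ℤ) :
    A N (rename (Sum.map σ id) g) = rename σ (A N g) := by
  have h : (A N).toAlgHom.toRingHom.comp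
        (rename (Sum.map σ id) : MvPolynomial (Fin N ⊕ Fin N) ℤ →ₐ[ℤ] _).toRingHom =
      (rename σ : It N →ₐ[MvPolynomial (Fin N) ℤ] It N).toRingHom.comp (A N).toAlgHom.toRingHom := by
    apply MvPolynomial.ringHom_ext
    · intro r
      rw [eq_intCast (C : ℤ →+* MvPolynomial (Fin N ⊕ Fin N) ℤ) r]
      simp only [map_intCast]
    · intro i
      rcases i with k | k
      · show A N (rename (Sum.map σ id) (X (Sum.inl k))) = rename σ (A N (X (Sum.inl k)))
        rw [rename_X, Sum.map_inl, A_X_inl, A_X_inl, rename_X]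
      · show A N (rename (Sum.map σ id) (X (Sum.inr k))) = rename σ (A N (X (Sum.inr k)))
        rw [rename_X, Sum.map_inr, id_eq, A_X_inr, rename_C]
  exact RingHom.congr_fun h g

theorem A_rename_right (N : ℕ) (τ : Equiv.Perm (Fin N)) (g : MvPolynomial (Fin N ⊕ Fin N) ℤ) :
    A N (rename (Sum.map id τ) g) =
      MvPolynomial.map (rename τ : MvPolynomial (Fin N) ℤ →ₐ[ℤ] _).toRingHom (A N g) := by
  have h : (A N).toAlgHom.toRingHom.comp
        (rename (Sum.map id τ) : MvPolynomial (Fin N ⊕ Fin N) ℤ →ₐ[ℤ] _).toRingHom =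
      (MvPolynomial.map (rename τ : MvPolynomial (Fin N) ℤ →ₐ[ℤ] _).toRingHom).comp
        (A N).toAlgHom.toRingHom := by
    apply MvPolynomial.ringHom_ext
    · intro r
      rw [eq_intCast (C : ℤ →+* MvPolynomial (Fin N ⊕ Fin N) ℤ) r]
      simp only [map_intCast]
    · intro i
      rcases i with k | k
      · show A N (rename (Sum.map id τ) (X (Sum.inl k))) =
          MvPolynomial.map (rename τ : MvPolynomial (Fin N) ℤ →ₐ[ℤ] _).toRingHom (A N (X (Sum.inl k)))
        rw [rename_X, Sum.map_inl, id_eq, A_X_inl, map_X]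
      · show A N (rename (Sum.map id τ) (X (Sum.inr k))) =
          MvPolynomial.map (rename τ : MvPolynomial (Fin N) ℤ →ₐ[ℤ] _).toRingHom (A N (X (Sum.inr k)))
        rw [rename_X, Sum.map_inr, A_X_inr, A_X_inr, map_C]
        show _ = C (rename τ (X k))
        rw [rename_X]
  exact RingHom.congr_fun h g

theorem map_aevE (N : ℕ) (φ : MvPolynomial (Fin N) ℤ →+* MvPolynomial (Fin N) ℤ)
    (Q : MvPolynomial (Fin N) (MvPolynomial (Fin N) ℤ)) :
    MvPolynomial.map φ (aevE N N Q) = aevE N N (MvPolynomial.map φ Q) := by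
  have h : (MvPolynomial.map φ).comp (aevE N N).toRingHom =
      (aevE N N).toRingHom.comp (MvPolynomial.map φ) := by
    apply MvPolynomial.ringHom_ext
    · intro r
      simp only [RingHom.comp_apply, AlgHom.toRingHom_eq_coe, RingHom.coe_coe, aevE, aeval_C,
        algebraMap_eq, map_C]
    · intro i
      simp only [RingHom.comp_apply, AlgHom.toRingHom_eq_coe, RingHom.coe_coe, aevE, aeval_X,
        map_esymm, map_X]
  exact RingHom.congr_fun h Q

/-- two-family fundamental theorem: existence -/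
theorem exists_Phi_eq (N : ℕ) (f : MvPolynomial (Fin N ⊕ Fin N) ℤ)
    (hT : ∀ σ : Equiv.Perm (Fin N), rename (Sum.map σ id) f = f)
    (hU : ∀ τ : Equiv.Perm (Fin N), rename (Sum.map id τ) f = f) :
    ∃ P : MvPolynomial (Fin N ⊕ Fin N) ℤ, Phi N N P = f := by
  have hsym : (A N f).IsSymmetric := by
    intro σ
    rw [← A_rename_left, hT]
  obtain ⟨Q, hQ⟩ := (esymmAlgHom_fin_bijective (MvPolynomial (Fin N) ℤ) N).2 ⟨A N f, hsym⟩
  have hQ' : aevE N N Q = A N f := by
    have := congrArg Subtype.val hQ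
    rw [esymmAlgHom_apply] at this
    exact this
  have hcoeff : ∀ m : Fin N →₀ ℕ, (coeff m Q).IsSymmetric := by
    intro m τ
    have h1 : aevE N N (MvPolynomial.map (rename τ : MvPolynomial (Fin N) ℤ →ₐ[ℤ] _).toRingHom Q) =
        aevE N N Q := by
      rw [← map_aevE, hQ', ← A_rename_right, hU]
    have h2 := aevE_injective le_rfl h1
    have h3 := congrArg (coeff m) h2
    rw [coeff_map] at h3
    exact h3
  have hR : ∀ m : Fin N →₀ ℕ, ∃ Rm : MvPolynomial (Fin N) ℤ, epsU N N Rm = coeff m Q := by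
    intro m
    obtain ⟨Rm, hRm⟩ := (esymmAlgHom_fin_bijective ℤ N).2 ⟨coeff m Q, hcoeff m⟩
    refine ⟨Rm, ?_⟩
    have := congrArg Subtype.val hRm
    rw [esymmAlgHom_apply] at this
    exact this
  choose Rm hRm using hR
  let Qt : It N := ∑ m ∈ Q.support, monomial m (Rm m)
  have hQt : MvPolynomial.map (epsU N N).toRingHom Qt = Q := by
    simp only [Qt, map_sum, map_monomial, AlgHom.toRingHom_eq_coe, RingHom.coe_coe, hRm]
    exact Q.support_sum_monomial_coeff
  refine ⟨(A N).symm Qt, ?_⟩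
  apply (A N).injective
  rw [A_Phi, AlgEquiv.apply_symm_apply]
  show aevE N N (MvPolynomial.map (epsU N N).toRingHom Qt) = A N f
  rw [hQt, hQ']

end Groth.Agent.Lib.Helper20.SymFT
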