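import Mathlib
import Groth.Prelude.Def_LambdaSp
import Groth.Agent.Lib.Helper20.SymFT

/-!
# Weighted homogeneity under substitution; symmetry and homogeneity of `mulGen`, `compGen`
-/

set_option autoImplicit false

namespace Groth.Agent.Lib.Helper20.SymWeights

open MvPolynomial Groth.Agent.Lib.Helper20.SymFT

section General

variable {σ τ M R : Type*} [CommSemiring R] [AddCommMonoid M]

theorem aeval_isWeightedHomogeneous (w : σ → M) (w' : τ → M) (g : σ → MvPolynomial τ R)
    (hg : ∀ i, IsWeightedHomogeneous w' (g i) (w i)) {P : MvPolynomial σ R} {m : M}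
    (hP : IsWeightedHomogeneous w P m) : IsWeightedHomogeneous w' (aeval g P) m := by
  rw [P.as_sum, map_sum]
  apply IsWeightedHomogeneous.sum
  intro d hd
  rw [aeval_monomial, algebraMap_eq]
  have hd' : Finsupp.weight w d = m := hP (mem_support_iff.mp hd)
  have h1 : IsWeightedHomogeneous w' (d.prod fun i k => g i ^ k) (Finsupp.weight w d) := by
    rw [Finsupp.weight_apply]
    exact IsWeightedHomogeneous.prod _ _ _ (fun i _ => (hg i).pow (d i))
  rw [hd'] at h1
  exact h1.C_mul _

theorem aeval_weightedHomogeneousComponent [DecidableEq M] (w : σ → M) (w' : τ → M)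
    (g : σ → MvPolynomial τ R) (hg : ∀ i, IsWeightedHomogeneous w' (g i) (w i)) (m : M)
    (P : MvPolynomial σ R) :
    aeval g (weightedHomogeneousComponent w m P) = weightedHomogeneousComponent w' m (aeval g P) := by
  induction P using MvPolynomial.induction_on' with
  | monomial d c =>
    have h1 : monomial d c ∈ weightedHomogeneousSubmodule R w (Finsupp.weight w d) :=
      (mem_weightedHomogeneousSubmodule R w _ _).mpr (isWeightedHomogeneous_monomial w d c rfl)
    have h2 : aeval g (monomial d c) ∈ weightedHomogeneousSubmodule R w' (Finsupp.weight w d) :=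
      (mem_weightedHomogeneousSubmodule R w' _ _).mpr
        (aeval_isWeightedHomogeneous w w' g hg (isWeightedHomogeneous_monomial w d c rfl))
    rw [weightedHomogeneousComponent_of_mem h1, weightedHomogeneousComponent_of_mem h2]
    split_ifs
    · rfl
    · rw [map_zero]
  | add p q hp hq => rw [map_add, map_add, hp, hq, map_add, map_add]

theorem esymm_isWeightedHomogeneous_const [Fintype σ] (c : M) (k : ℕ) :
    IsWeightedHomogeneous (fun _ : σ => c) (esymm σ R k) (k • c) := by
  rw [esymm]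
  apply IsWeightedHomogeneous.sum
  intro t ht
  have h := IsWeightedHomogeneous.prod (R := R) t (fun i => (X i : MvPolynomial σ R))
    (fun _ => c) (w := fun _ : σ => c) (fun i _ => isWeightedHomogeneous_X R _ i)
  rw [Finset.sum_const, (Finset.mem_powersetCard.mp ht).2] at h
  exact h

end General

/-- the bigrading of `ℤ[T, U]` -/
def wTU (N : ℕ) : Fin N ⊕ Fin N → ℕ × ℕ := Sum.elim (fun _ => (1, 0)) (fun _ => (0, 1))

/-- the biweights of the variables `X_k`, `Y_k` -/
def wXY (n : ℕ) : Fin n ⊕ Fin n → ℕ × ℕ :=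
  Sum.elim (fun k : Fin n => (((k : ℕ) + 1, 0) : ℕ × ℕ)) (fun k : Fin n => ((0, (k : ℕ) + 1) : ℕ × ℕ))

theorem eT_isWeightedHomogeneous (N k : ℕ) : IsWeightedHomogeneous (wTU N) (eT N k) (k, 0) := by
  have h1 : eT N k = aeval (fun a : Fin N => (X (Sum.inl a) : MvPolynomial (Fin N ⊕ Fin N) ℤ))
      (esymm (Fin N) ℤ k) := by
    simp only [eT, esymm, map_sum, map_prod, rename_X, aeval_X]
  rw [h1]
  have h2 := aeval_isWeightedHomogeneous (fun _ : Fin N => ((1, 0) : ℕ × ℕ)) (wTU N)
    (fun a : Fin N => (X (Sum.inl a) : MvPolynomial (Fin N ⊕ Fin N) ℤ))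
    (fun a => isWeightedHomogeneous_X ℤ (wTU N) (Sum.inl a))
    (esymm_isWeightedHomogeneous_const (σ := Fin N) (R := ℤ) ((1, 0) : ℕ × ℕ) k)
  simpa using h2

theorem eU_isWeightedHomogeneous (N k : ℕ) : IsWeightedHomogeneous (wTU N) (eU N k) (0, k) := by
  have h1 : eU N k = aeval (fun a : Fin N => (X (Sum.inr a) : MvPolynomial (Fin N ⊕ Fin N) ℤ))
      (esymm (Fin N) ℤ k) := by
    simp only [eU, esymm, map_sum, map_prod, rename_X, aeval_X]
  rw [h1]
  have h2 := aeval_isWeightedHomogeneous (fun _ : Fin N => ((0, 1) : ℕ × ℕ)) (wTU N)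
    (fun a : Fin N => (X (Sum.inr a) : MvPolynomial (Fin N ⊕ Fin N) ℤ))
    (fun a => isWeightedHomogeneous_X ℤ (wTU N) (Sum.inr a))
    (esymm_isWeightedHomogeneous_const (σ := Fin N) (R := ℤ) ((0, 1) : ℕ × ℕ) k)
  simpa using h2

theorem Phi_gen_isWeightedHomogeneous (n N : ℕ) (i : Fin n ⊕ Fin n) :
    IsWeightedHomogeneous (wTU N)
      (Sum.elim (fun k : Fin n => eT N ((k : ℕ) + 1)) (fun k : Fin n => eU N ((k : ℕ) + 1)) i)
      (wXY n i) := by
  rcases i with k | k
  · exact eT_isWeightedHomogeneous N _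
  · exact eU_isWeightedHomogeneous N _

theorem Phi_weightedHomogeneousComponent (n N : ℕ) (m : ℕ × ℕ) (P : MvPolynomial (Fin n ⊕ Fin n) ℤ) :
    Phi n N (weightedHomogeneousComponent (wXY n) m P) =
      weightedHomogeneousComponent (wTU N) m (Phi n N P) :=
  aeval_weightedHomogeneousComponent (wXY n) (wTU N) _ (Phi_gen_isWeightedHomogeneous n N) m P

/-! ### `mulGen` -/

theorem mulGen_eq_aeval (N k : ℕ) :
    LambdaRing.mulGen N k =
      aeval (fun ab : Fin N × Fin N =>
        (X (Sum.inl ab.1) * X (Sum.inr ab.2) : MvPolynomial (Fin N ⊕ Fin N) ℤ))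
        (esymm (Fin N × Fin N) ℤ k) := by
  rw [aeval_esymm_eq_multiset_esymm]; rfl

theorem mulGen_rename (N k : ℕ) (σ τ : Equiv.Perm (Fin N)) :
    rename (Sum.map σ τ) (LambdaRing.mulGen N k) = LambdaRing.mulGen N k := by
  rw [mulGen_eq_aeval]
  have h1 : rename (Sum.map σ τ) (aeval (fun ab : Fin N × Fin N =>
        (X (Sum.inl ab.1) * X (Sum.inr ab.2) : MvPolynomial (Fin N ⊕ Fin N) ℤ))
        (esymm (Fin N × Fin N) ℤ k)) =
      aeval (fun ab : Fin N × Fin N =>
        (X (Sum.inl ab.1) * X (Sum.inr ab.2) : MvPolynomial (Fin N ⊕ Fin N) ℤ))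
        (rename (Equiv.prodCongr σ τ) (esymm (Fin N × Fin N) ℤ k)) := by
    rw [aeval_rename, ← AlgHom.comp_apply, comp_aeval]
    refine congrArg (fun f => aeval f (esymm (Fin N × Fin N) ℤ k)) (funext fun ab => ?_)
    simp only [map_mul, rename_X, Sum.map_inl, Sum.map_inr, Function.comp_apply,
      Equiv.prodCongr_apply, Prod.map_fst, Prod.map_snd]
  rw [h1, rename_esymm]

theorem mulGen_isWeightedHomogeneous (N k : ℕ) :
    IsWeightedHomogeneous (wTU N) (LambdaRing.mulGen N k) (k, k) := by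
  rw [mulGen_eq_aeval]
  have h2 := aeval_isWeightedHomogeneous (fun _ : Fin N × Fin N => ((1, 1) : ℕ × ℕ)) (wTU N)
    (fun ab : Fin N × Fin N =>
        (X (Sum.inl ab.1) * X (Sum.inr ab.2) : MvPolynomial (Fin N ⊕ Fin N) ℤ))
    (fun ab => by
      have := (isWeightedHomogeneous_X ℤ (wTU N) (Sum.inl ab.1)).mul
        (isWeightedHomogeneous_X ℤ (wTU N) (Sum.inr ab.2))
      simpa [wTU] using this)
    (esymm_isWeightedHomogeneous_const (σ := Fin N × Fin N) (R := ℤ) ((1, 1) : ℕ × ℕ) k)
  simpa using h2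

/-! ### `compGen` -/

/-- the index type of `i`-element subsets -/
abbrev Sub (N i : ℕ) := ↥((Finset.univ : Finset (Fin N)).powersetCard i)

theorem compGen_eq_aeval (N i j : ℕ) :
    LambdaRing.compGen N i j =
      aeval (fun s : Sub N i => (∏ a ∈ s.1, X a : MvPolynomial (Fin N) ℤ))
        (esymm (Sub N i) ℤ j) := by
  rw [aeval_esymm_eq_multiset_esymm, LambdaRing.compGen]
  congr 1
  rw [Finset.univ_eq_attach, Finset.attach_val]
  exact (Multiset.attach_map_val' _ _).symm

/-- permutation of subsets induced by a permutation of the variables -/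
noncomputable def subPerm (N i : ℕ) (σ : Equiv.Perm (Fin N)) : Equiv.Perm (Sub N i) :=
  Equiv.subtypeEquiv (Equiv.finsetCongr σ) (by
    intro s
    simp only [Finset.mem_powersetCard_univ, Equiv.finsetCongr_apply, Finset.card_map])

theorem compGen_rename (N i j : ℕ) (σ : Equiv.Perm (Fin N)) :
    rename σ (LambdaRing.compGen N i j) = LambdaRing.compGen N i j := by
  rw [compGen_eq_aeval]
  have h1 : rename σ (aeval (fun s : Sub N i => (∏ a ∈ s.1, X a : MvPolynomial (Fin N) ℤ))
        (esymm (Sub N i) ℤ j)) =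
      aeval (fun s : Sub N i => (∏ a ∈ s.1, X a : MvPolynomial (Fin N) ℤ))
        (rename (subPerm N i σ) (esymm (Sub N i) ℤ j)) := by
    rw [aeval_rename, ← AlgHom.comp_apply, comp_aeval]
    refine congrArg (fun f => aeval f (esymm (Sub N i) ℤ j)) (funext fun s => ?_)
    simp only [map_prod, rename_X, Function.comp_apply, subPerm, Equiv.subtypeEquiv_apply,
      Equiv.finsetCongr_apply, Finset.prod_map, Equiv.coe_toEmbedding]
  rw [h1, rename_esymm]

theorem compGen_isWeightedHomogeneous (N i j : ℕ) :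
    IsWeightedHomogeneous (fun _ : Fin N => (1 : ℕ)) (LambdaRing.compGen N i j) (i * j) := by
  rw [compGen_eq_aeval]
  have h2 := aeval_isWeightedHomogeneous (fun _ : Sub N i => i) (fun _ : Fin N => (1 : ℕ))
    (fun s : Sub N i => (∏ a ∈ s.1, X a : MvPolynomial (Fin N) ℤ))
    (fun s => by
      have h := IsWeightedHomogeneous.prod (R := ℤ) s.1 (fun a => (X a : MvPolynomial (Fin N) ℤ))
        (fun _ => (1 : ℕ)) (w := fun _ : Fin N => (1 : ℕ)) (fun a _ => isWeightedHomogeneous_X ℤ _ a)
      rw [Finset.sum_const, (Finset.mem_powersetCard.mp s.2).2] at h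
      simpa using h)
    (esymm_isWeightedHomogeneous_const (σ := Sub N i) (R := ℤ) i j)
  rw [mul_comm]
  simpa using h2

theorem esymm_isWeightedHomogeneous_one (N k : ℕ) :
    IsWeightedHomogeneous (fun _ : Fin N => (1 : ℕ)) (esymm (Fin N) ℤ k) k := by
  have := esymm_isWeightedHomogeneous_const (σ := Fin N) (R := ℤ) (1 : ℕ) k
  simpa using this

end Groth.Agent.Lib.Helper20.SymWeights
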