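import Mathlib
import Groth.Prelude.Def_LambdaSp
import Groth.Agent.Lib.Helper20.SymFT
import Groth.Agent.Lib.Helper20.SymWeights

/-!
# Stability of the universal polynomials: the defining identity holds in any number of variables
-/

set_option autoImplicit false

namespace Groth.Agent.Lib.Helper20.SymStab

open MvPolynomial Groth.Agent.Lib.Helper20.SymFT Groth.Agent.Lib.Helper20.SymWeights

/-- zeros do not contribute to elementary symmetric functions of a multiset -/
theorem esymm_map_val_of_zero {ι ι' R : Type*} [CommRing R] (s : Finset ι) (s' : Finset ι')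
    (e : ι' → ι) (g : ι → R) (hinj : Set.InjOn e s') (hmem : ∀ i' ∈ s', e i' ∈ s)
    (hzero : ∀ i ∈ s, (∀ i' ∈ s', e i' ≠ i) → g i = 0) (k : ℕ) :
    (s.val.map g).esymm k = (s'.val.map (g ∘ e)).esymm k := by
  classical
  have h1 : s'.val.map (g ∘ e) = (s'.image e).val.map g := by
    rw [Finset.image_val_of_injOn hinj, Multiset.map_map]
  rw [h1, Finset.esymm_map_val, Finset.esymm_map_val]
  symm
  apply Finset.sum_subset
  · apply Finset.powersetCard_mono
    intro i hi
    obtain ⟨i', hi', rfl⟩ := Finset.mem_image.mp hi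
    exact hmem i' hi'
  · intro t ht ht'
    rw [Finset.mem_powersetCard] at ht ht'
    have : ¬ t ⊆ s'.image e := fun hsub => ht' ⟨hsub, ht.2⟩
    obtain ⟨i, hit, hi⟩ := Finset.not_subset.mp this
    apply Finset.prod_eq_zero hit
    apply hzero i (ht.1 hit)
    intro i' hi' heq
    exact hi (Finset.mem_image.mpr ⟨i', hi', heq⟩)

/-- specialisation killing the variables of index `≥ n` (one family) -/
noncomputable def rho1 (N n : ℕ) : MvPolynomial (Fin N) ℤ →ₐ[ℤ] MvPolynomial (Fin n) ℤ :=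
  aeval (fun a : Fin N => if h : (a : ℕ) < n then (X ⟨a, h⟩ : MvPolynomial (Fin n) ℤ) else 0)

/-- specialisation killing the variables of index `≥ n` (two families) -/
noncomputable def rho2 (N n : ℕ) :
    MvPolynomial (Fin N ⊕ Fin N) ℤ →ₐ[ℤ] MvPolynomial (Fin n ⊕ Fin n) ℤ :=
  aeval (Sum.elim
    (fun a : Fin N => if h : (a : ℕ) < n then (X (Sum.inl ⟨a, h⟩) : MvPolynomial (Fin n ⊕ Fin n) ℤ) else 0)
    (fun a : Fin N => if h : (a : ℕ) < n then (X (Sum.inr ⟨a, h⟩) : MvPolynomial (Fin n ⊕ Fin n) ℤ) else 0))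

theorem rho1_X_castLE {n N : ℕ} (h : n ≤ N) (a : Fin n) : rho1 N n (X (Fin.castLE h a)) = X a := by
  rw [rho1, aeval_X, dif_pos (by simp)]
  rfl

theorem rho1_esymm {n N : ℕ} (h : n ≤ N) (k : ℕ) :
    rho1 N n (esymm (Fin N) ℤ k) = esymm (Fin n) ℤ k := by
  rw [rho1, aeval_esymm_eq_multiset_esymm, esymm_eq_multiset_esymm]
  rw [esymm_map_val_of_zero Finset.univ Finset.univ (Fin.castLE h) _
    (fun a _ b _ hab => Fin.castLE_injective h hab) (fun _ _ => Finset.mem_univ _) ?_ k]
  · congr 2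
    funext a
    simp only [Function.comp_apply, Fin.val_castLE, Fin.is_lt, dite_true]
  · intro i _ hi
    rw [dif_neg]
    intro hlt
    exact hi ⟨i, hlt⟩ (Finset.mem_univ _) (Fin.ext rfl)

theorem rho2_eT {n N : ℕ} (h : n ≤ N) (k : ℕ) : rho2 N n (eT N k) = eT n k := by
  have hc : (rho2 N n).comp (rename Sum.inl) =
      (rename Sum.inl : MvPolynomial (Fin n) ℤ →ₐ[ℤ] _).comp (rho1 N n) := by
    apply MvPolynomial.algHom_ext
    intro a
    simp only [AlgHom.comp_apply, rename_X, rho2, rho1, aeval_X, Sum.elim_inl]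
    split_ifs
    · rw [rename_X]
    · rw [map_zero]
  rw [eT, ← AlgHom.comp_apply, hc, AlgHom.comp_apply, rho1_esymm h, eT]

theorem rho2_eU {n N : ℕ} (h : n ≤ N) (k : ℕ) : rho2 N n (eU N k) = eU n k := by
  have hc : (rho2 N n).comp (rename Sum.inr) =
      (rename Sum.inr : MvPolynomial (Fin n) ℤ →ₐ[ℤ] _).comp (rho1 N n) := by
    apply MvPolynomial.algHom_ext
    intro a
    simp only [AlgHom.comp_apply, rename_X, rho2, rho1, aeval_X, Sum.elim_inr]
    split_ifs
    · rw [rename_X]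
    · rw [map_zero]
  rw [eU, ← AlgHom.comp_apply, hc, AlgHom.comp_apply, rho1_esymm h, eU]

theorem rho2_Phi {n N : ℕ} (h : n ≤ N) (P : MvPolynomial (Fin n ⊕ Fin n) ℤ) :
    rho2 N n (Phi n N P) = Phi n n P := by
  have hc : (rho2 N n).comp (Phi n N) = Phi n n := by
    apply MvPolynomial.algHom_ext
    intro i
    rcases i with k | k
    · simp only [AlgHom.comp_apply, Phi, aeval_X, Sum.elim_inl, rho2_eT h]
    · simp only [AlgHom.comp_apply, Phi, aeval_X, Sum.elim_inr, rho2_eU h]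
  exact AlgHom.congr_fun hc P

theorem rho1_epsU {n N : ℕ} (h : n ≤ N) (Q : MvPolynomial (Fin n) ℤ) :
    rho1 N n (epsU n N Q) = epsU n n Q := by
  have hc : (rho1 N n).comp (epsU n N) = epsU n n := by
    apply MvPolynomial.algHom_ext
    intro i
    simp only [AlgHom.comp_apply, epsU, aeval_X, rho1_esymm h]
  exact AlgHom.congr_fun hc Q

theorem rho2_mulGen {n N : ℕ} (h : n ≤ N) (k : ℕ) :
    rho2 N n (LambdaRing.mulGen N k) = LambdaRing.mulGen n k := by
  rw [mulGen_eq_aeval, ← AlgHom.comp_apply, comp_aeval, aeval_esymm_eq_multiset_esymm,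
    LambdaRing.mulGen]
  rw [esymm_map_val_of_zero Finset.univ Finset.univ (Prod.map (Fin.castLE h) (Fin.castLE h)) _
    (fun a _ b _ hab => Prod.ext (Fin.castLE_injective h (congrArg Prod.fst hab))
      (Fin.castLE_injective h (congrArg Prod.snd hab)))
    (fun _ _ => Finset.mem_univ _) ?_ k]
  · congr 2
    funext ab
    simp only [Function.comp_apply, Prod.map_fst, Prod.map_snd, map_mul, rho2, aeval_X,
      Sum.elim_inl, Sum.elim_inr, Fin.val_castLE, Fin.is_lt, dite_true]
  · intro ab _ hab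
    simp only [map_mul, rho2, aeval_X, Sum.elim_inl, Sum.elim_inr]
    by_cases h1 : (ab.1 : ℕ) < n
    · by_cases h2 : (ab.2 : ℕ) < n
      · exact absurd (Prod.ext (Fin.ext rfl) (Fin.ext rfl)) (hab (⟨ab.1, h1⟩, ⟨ab.2, h2⟩) (Finset.mem_univ _))
      · rw [dif_neg h2, mul_zero]
    · rw [dif_neg h1, zero_mul]

/-- subsets of `Fin n` as subsets of `Fin N` -/
noncomputable def subEmb {n N : ℕ} (h : n ≤ N) (i : ℕ) (s : Sub n i) : Sub N i :=
  ⟨s.1.map (Fin.castLEEmb h), by
    have := s.2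
    simp only [Finset.mem_powersetCard_univ] at this ⊢
    rw [Finset.card_map, this]⟩

theorem rho1_compGen {n N : ℕ} (h : n ≤ N) (i j : ℕ) :
    rho1 N n (LambdaRing.compGen N i j) = LambdaRing.compGen n i j := by
  classical
  rw [compGen_eq_aeval, compGen_eq_aeval, ← AlgHom.comp_apply, comp_aeval,
    aeval_esymm_eq_multiset_esymm, aeval_esymm_eq_multiset_esymm]
  rw [esymm_map_val_of_zero Finset.univ Finset.univ (subEmb h i) _ ?_
    (fun _ _ => Finset.mem_univ _) ?_ j]
  · congr 2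
    funext s
    simp only [Function.comp_apply, subEmb, map_prod, Finset.prod_map, Fin.castLEEmb_apply,
      rho1_X_castLE h]
  · intro a _ b _ hab
    have := congrArg Subtype.val hab
    simp only [subEmb] at this
    exact Subtype.ext (Finset.map_injective _ this)
  · intro S _ hS
    simp only [map_prod]
    by_cases hall : ∀ a ∈ S.1, (a : ℕ) < n
    · exfalso
      have hcard : (Finset.univ.filter (fun a : Fin n => Fin.castLE h a ∈ S.1)).map (Fin.castLEEmb h) = S.1 := by
        ext b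
        simp only [Finset.mem_map, Finset.mem_filter, Finset.mem_univ, true_and, Fin.castLEEmb_apply]
        constructor
        · rintro ⟨a, ha, rfl⟩; exact ha
        · intro hb
          have hbb : Fin.castLE h ⟨b, hall b hb⟩ = b := Fin.ext rfl
          exact ⟨⟨b, hall b hb⟩, by rw [hbb]; exact hb, hbb⟩
      have hmem : Finset.univ.filter (fun a : Fin n => Fin.castLE h a ∈ S.1) ∈
          (Finset.univ : Finset (Fin n)).powersetCard i := by
        have hS2 := S.2
        simp only [Finset.mem_powersetCard_univ] at hS2 ⊢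
        rw [← hcard, Finset.card_map] at hS2
        exact hS2
      exact hS ⟨_, hmem⟩ (Finset.mem_univ _) (Subtype.ext hcard)
    · push Not at hall
      obtain ⟨a, haS, han⟩ := hall
      apply Finset.prod_eq_zero haS
      rw [rho1, aeval_X, dif_neg (by omega)]

/-! ### Variables of isobaric polynomials -/

theorem lt_of_mem_vars_one {N d : ℕ} {Q : MvPolynomial (Fin N) ℤ}
    (hQ : IsWeightedHomogeneous (fun k : Fin N => (k : ℕ) + 1) Q d) {x : Fin N} (hx : x ∈ Q.vars) :
    (x : ℕ) < d := by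
  obtain ⟨m, hm, hxm⟩ := (mem_vars_iff_mem_support x).mp hx
  have hw := hQ (mem_support_iff.mp hm)
  rw [Finsupp.weight_apply, Finsupp.sum] at hw
  have h1 : m x • ((x : ℕ) + 1) ≤ ∑ y ∈ m.support, m y • ((y : ℕ) + 1) :=
    Finset.single_le_sum (f := fun y => m y • ((y : ℕ) + 1)) (fun _ _ => Nat.zero_le _) hxm
  rw [hw] at h1
  have h2 : 1 ≤ m x := Nat.one_le_iff_ne_zero.mpr (Finsupp.mem_support_iff.mp hxm)
  rw [smul_eq_mul] at h1
  nlinarith

theorem lt_of_mem_vars_two {N d : ℕ} {P : MvPolynomial (Fin N ⊕ Fin N) ℤ}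
    (hP : IsWeightedHomogeneous (wXY N) P (d, d)) {x : Fin N ⊕ Fin N} (hx : x ∈ P.vars) :
    (Sum.elim (fun a : Fin N => (a : ℕ)) (fun a : Fin N => (a : ℕ)) x) < d := by
  obtain ⟨m, hm, hxm⟩ := (mem_vars_iff_mem_support x).mp hx
  have hw := hP (mem_support_iff.mp hm)
  rw [Finsupp.weight_apply, Finsupp.sum] at hw
  have h2 : 1 ≤ m x := Nat.one_le_iff_ne_zero.mpr (Finsupp.mem_support_iff.mp hxm)
  rcases x with a | a
  · have hw1 := congrArg Prod.fst hw
    rw [Prod.fst_sum] at hw1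
    have h1 : (m (Sum.inl a) • wXY N (Sum.inl a)).1 ≤ ∑ y ∈ m.support, (m y • wXY N y).1 :=
      Finset.single_le_sum (f := fun y => (m y • wXY N y).1) (fun _ _ => Nat.zero_le _) hxm
    rw [hw1] at h1
    simp only [wXY, Sum.elim_inl, Prod.smul_fst, smul_eq_mul] at h1
    simp only [Sum.elim_inl]
    nlinarith
  · have hw1 := congrArg Prod.snd hw
    rw [Prod.snd_sum] at hw1
    have h1 : (m (Sum.inr a) • wXY N (Sum.inr a)).2 ≤ ∑ y ∈ m.support, (m y • wXY N y).2 :=
      Finset.single_le_sum (f := fun y => (m y • wXY N y).2) (fun _ _ => Nat.zero_le _) hxm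
    rw [hw1] at h1
    simp only [wXY, Sum.elim_inr, Prod.smul_snd, smul_eq_mul] at h1
    simp only [Sum.elim_inr]
    nlinarith

/-! ### Existence at level `N` -/

theorem exists_Phi_eq_mulGen (N k : ℕ) :
    ∃ P : MvPolynomial (Fin N ⊕ Fin N) ℤ, Phi N N P = LambdaRing.mulGen N k ∧
      IsWeightedHomogeneous (wXY N) P (k, k) := by
  classical
  obtain ⟨P₀, hP₀⟩ := exists_Phi_eq N (LambdaRing.mulGen N k)
    (fun σ => by
      have := mulGen_rename N k σ (Equiv.refl _)
      rwa [Equiv.coe_refl] at this)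
    (fun τ => by
      have := mulGen_rename N k (Equiv.refl _) τ
      rwa [Equiv.coe_refl] at this)
  refine ⟨weightedHomogeneousComponent (wXY N) (k, k) P₀, ?_, ?_⟩
  · rw [Phi_weightedHomogeneousComponent, hP₀]
    exact (mulGen_isWeightedHomogeneous N k).weightedHomogeneousComponent_same
  · exact weightedHomogeneousComponent_isWeightedHomogeneous (k, k) P₀

theorem exists_epsU_eq (N d : ℕ) (f : MvPolynomial (Fin N) ℤ) (hsym : f.IsSymmetric)
    (hf : IsWeightedHomogeneous (fun _ : Fin N => (1 : ℕ)) f d) :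
    ∃ Q : MvPolynomial (Fin N) ℤ, epsU N N Q = f ∧
      IsWeightedHomogeneous (fun k : Fin N => (k : ℕ) + 1) Q d := by
  classical
  obtain ⟨Q₀, hQ₀⟩ := (esymmAlgHom_fin_bijective ℤ N).2 ⟨f, hsym⟩
  have hQ₀' : epsU N N Q₀ = f := by
    have := congrArg Subtype.val hQ₀
    rw [esymmAlgHom_apply] at this
    exact this
  refine ⟨weightedHomogeneousComponent (fun k : Fin N => (k : ℕ) + 1) d Q₀, ?_,
    weightedHomogeneousComponent_isWeightedHomogeneous d Q₀⟩
  have h := aeval_weightedHomogeneousComponent (fun k : Fin N => (k : ℕ) + 1)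
    (fun _ : Fin N => (1 : ℕ)) (fun j : Fin N => esymm (Fin N) ℤ ((j : ℕ) + 1))
    (fun j => esymm_isWeightedHomogeneous_one N _) d Q₀
  show aeval (fun j : Fin N => esymm (Fin N) ℤ ((j : ℕ) + 1)) _ = f
  rw [h]
  show weightedHomogeneousComponent _ d (epsU N N Q₀) = f
  rw [hQ₀']
  exact hf.weightedHomogeneousComponent_same

/-! ### Stability -/

theorem Phi_rename_castLE {n N : ℕ} (h : n ≤ N) (P : MvPolynomial (Fin n ⊕ Fin n) ℤ) :
    Phi N N (rename (Sum.map (Fin.castLE h) (Fin.castLE h)) P) = Phi n N P := by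
  rw [Phi, aeval_rename, Phi]
  congr 2
  funext i
  rcases i with k | k <;> simp

theorem epsU_rename_castLE {n N : ℕ} (h : n ≤ N) (Q : MvPolynomial (Fin n) ℤ) :
    epsU N N (rename (Fin.castLE h) Q) = epsU n N Q := by
  rw [epsU, aeval_rename, epsU]
  congr 2

/-- stability for `P_n`: the defining identity holds with any number `N ≥ n` of variables -/
theorem Phi_eq_mulGen_of_isMulPoly {n N : ℕ} (h : n ≤ N) {P : MvPolynomial (Fin n ⊕ Fin n) ℤ}
    (hP : LambdaRing.IsMulPoly n P) : Phi n N P = LambdaRing.mulGen N n := by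
  obtain ⟨P2, hP2, hP2w⟩ := exists_Phi_eq_mulGen N n
  have hinj : Function.Injective (Sum.map (Fin.castLE h) (Fin.castLE h)) :=
    Sum.map_injective.mpr ⟨Fin.castLE_injective h, Fin.castLE_injective h⟩
  obtain ⟨P3, hP3⟩ := exists_rename_eq_of_vars_subset_range P2 _ hinj (by
    intro x hx
    have hlt := lt_of_mem_vars_two hP2w (Finset.mem_coe.mp hx)
    rcases x with a | a
    · exact ⟨Sum.inl ⟨a, hlt⟩, by
        show Sum.inl (Fin.castLE h ⟨a, hlt⟩) = Sum.inl a
        rw [show Fin.castLE h ⟨a, hlt⟩ = a from Fin.ext rfl]⟩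
    · exact ⟨Sum.inr ⟨a, hlt⟩, by
        show Sum.inr (Fin.castLE h ⟨a, hlt⟩) = Sum.inr a
        rw [show Fin.castLE h ⟨a, hlt⟩ = a from Fin.ext rfl]⟩)
  have h1 : Phi n N P3 = LambdaRing.mulGen N n := by
    rw [← Phi_rename_castLE h, hP3, hP2]
  have h2 : Phi n n P3 = Phi n n P := by
    rw [← rho2_Phi h, h1, rho2_mulGen h]
    exact hP.1.symm
  rw [← Phi_injective le_rfl h2]
  exact h1

/-- stability for `Q_{i,j}` -/
theorem epsU_eq_compGen_of_isCompPoly {i j N : ℕ} (h : i * j ≤ N)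
    {Q : MvPolynomial (Fin (i * j)) ℤ} (hQ : LambdaRing.IsCompPoly i j Q) :
    epsU (i * j) N Q = LambdaRing.compGen N i j := by
  obtain ⟨Q2, hQ2, hQ2w⟩ := exists_epsU_eq N (i * j) (LambdaRing.compGen N i j)
    (fun σ => compGen_rename _ _ _ σ) (compGen_isWeightedHomogeneous _ _ _)
  obtain ⟨Q3, hQ3⟩ := exists_rename_eq_of_vars_subset_range Q2 _ (Fin.castLE_injective h) (by
    intro x hx
    have hlt := lt_of_mem_vars_one hQ2w (Finset.mem_coe.mp hx)
    exact ⟨⟨x, hlt⟩, Fin.ext rfl⟩)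
  have h1 : epsU (i * j) N Q3 = LambdaRing.compGen N i j := by
    rw [← epsU_rename_castLE h, hQ3, hQ2]
  have h2 : epsU (i * j) (i * j) Q3 = epsU (i * j) (i * j) Q := by
    rw [← rho1_epsU h, h1, rho1_compGen h]
    exact hQ.1.symm
  rw [← epsU_injective le_rfl h2]
  exact h1

end Groth.Agent.Lib.Helper20.SymStab
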