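import Groth.Agent.Lib.Helper20.LamBasic
import Groth.Agent.Lib.Helper20.SymStab
import Mathlib

/-!
# Newton polynomials `ν_m` expressing power sums in terms of elementary symmetric functions,
and the resulting polynomial identities for Adams operations.
-/

set_option autoImplicit false
universe u

namespace Groth.Agent.Lib.Helper20.NewtonNu

open Finset LambdaRing MvPolynomial
open Groth.Agent.Lib.Helper20.SymFT Groth.Agent.Lib.Helper20.SymWeights
  Groth.Agent.Lib.Helper20.SymStab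

/-- Newton polynomials: `nu c m` is the `m`-th power sum written in terms of the "elementary
symmetric functions" `c 1, …, c m`. -/
def nu {R : Type*} [CommRing R] (c : ℕ → R) : ℕ → R
  | 0 => 0
  | (n + 1) => (-1) ^ n * ((n : R) + 1) * c (n + 1)
      - ∑ i ∈ range n, (-1) ^ (i + 1) * c (i + 1) * nu c (n - i)
termination_by n => n
decreasing_by omega

section basic

variable {R : Type*} [CommRing R]

theorem nu_zero (c : ℕ → R) : nu c 0 = 0 := by rw [nu]

theorem nu_succ (c : ℕ → R) (n : ℕ) :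
    nu c (n + 1) = (-1) ^ n * ((n : R) + 1) * c (n + 1)
      - ∑ i ∈ range n, (-1) ^ (i + 1) * c (i + 1) * nu c (n - i) := by rw [nu]

theorem eq_nu_of_rec (c p : ℕ → R) (M : ℕ)
    (hp : ∀ n, n + 1 ≤ M → p (n + 1) = (-1) ^ n * ((n : R) + 1) * c (n + 1)
      - ∑ i ∈ range n, (-1) ^ (i + 1) * c (i + 1) * p (n - i)) :
    ∀ m, 1 ≤ m → m ≤ M → p m = nu c m := by
  intro m
  induction m using Nat.strong_induction_on with
  | _ m ih =>
    intro h1 hM
    obtain ⟨n, rfl⟩ : ∃ n, m = n + 1 := ⟨m - 1, by omega⟩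
    rw [hp n hM, nu_succ]
    congr 1
    apply Finset.sum_congr rfl
    intro i hi
    rw [Finset.mem_range] at hi
    rw [ih (n - i) (by omega) (by omega) (by omega)]

theorem map_nu {S F : Type*} [CommRing S] [FunLike F R S] [RingHomClass F R S] (f : F)
    (c : ℕ → R) (m : ℕ) : f (nu c m) = nu (fun j => f (c j)) m := by
  induction m using Nat.strong_induction_on with
  | _ m ih =>
    cases m with
    | zero => rw [nu_zero, nu_zero, map_zero]
    | succ n =>
      rw [nu_succ, nu_succ, map_sub, map_mul, map_mul, map_pow, map_neg, map_one, map_add,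
        map_natCast, map_one, map_sum]
      congr 1
      apply Finset.sum_congr rfl
      intro i hi
      rw [map_mul, map_mul, map_pow, map_neg, map_one, ih (n - i) (by omega)]

theorem nu_congr {c c' : ℕ → R} (m : ℕ) (h : ∀ j, 1 ≤ j → j ≤ m → c j = c' j) :
    nu c m = nu c' m := by
  induction m using Nat.strong_induction_on with
  | _ m ih =>
    cases m with
    | zero => rw [nu_zero, nu_zero]
    | succ n =>
      rw [nu_succ, nu_succ, h (n + 1) (by omega) le_rfl]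
      congr 1
      apply Finset.sum_congr rfl
      intro i hi
      rw [Finset.mem_range] at hi
      rw [h (i + 1) (by omega) (by omega),
        ih (n - i) (by omega) (fun j h1 h2 => h j h1 (by omega))]

/-- over a `ℚ`-algebra the Newton polynomials determine the `c j` -/
theorem nu_injective [Algebra ℚ R] (c c' : ℕ → R) (n : ℕ)
    (h : ∀ m, 1 ≤ m → m ≤ n → nu c m = nu c' m) : ∀ j, 1 ≤ j → j ≤ n → c j = c' j := by
  intro j
  induction j using Nat.strong_induction_on with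
  | _ j ih =>
    intro h1 hn
    obtain ⟨k, rfl⟩ : ∃ k, j = k + 1 := ⟨j - 1, by omega⟩
    have e := h (k + 1) h1 hn
    rw [nu_succ, nu_succ] at e
    have hs : ∑ i ∈ range k, (-1 : R) ^ (i + 1) * c (i + 1) * nu c (k - i) =
        ∑ i ∈ range k, (-1 : R) ^ (i + 1) * c' (i + 1) * nu c' (k - i) := by
      apply Finset.sum_congr rfl
      intro i hi
      rw [Finset.mem_range] at hi
      rw [ih (i + 1) (by omega) (by omega) (by omega), h (k - i) (by omega) (by omega)]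
    rw [hs] at e
    have e2 : (-1 : R) ^ k * ((k : R) + 1) * c (k + 1) = (-1) ^ k * ((k : R) + 1) * c' (k + 1) :=
      sub_left_injective e
    have hu : IsUnit ((-1 : R) ^ k * ((k : R) + 1)) :=
      ((isUnit_one.neg).pow k).mul (LamBasic.isUnit_natCast_succ R k)
    exact hu.mul_right_injective e2

end basic

/-! ### Adams operations are Newton polynomials in the `λ^j` -/

section adams

variable {K : Type u} [CommRing K] [LambdaOps K]

theorem adamsOp_rec (z : K) (n : ℕ) :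
    adamsOp (n + 1) z = (-1) ^ n * ((n : K) + 1) * LambdaOps.lam (n + 1) z
      - ∑ i ∈ range n, (-1) ^ (i + 1) * LambdaOps.lam (i + 1) z * adamsOp (n - i) z := by
  have h := LamBasic.newton' n z
  have hrefl : ∑ i ∈ range n, (-1 : K) ^ (i + 1) * LambdaOps.lam (i + 1) z * adamsOp (n - i) z
      = (-1) ^ n * ∑ i ∈ range n, LambdaOps.lam (n - i) z * ((-1) ^ i * adamsOp (i + 1) z) := by
    rw [Finset.mul_sum]
    refine (Finset.sum_range_reflect
      (fun i => (-1 : K) ^ (i + 1) * LambdaOps.lam (i + 1) z * adamsOp (n - i) z) n).symm.trans ?_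
    apply Finset.sum_congr rfl
    intro j hj
    rw [Finset.mem_range] at hj
    have e1 : n - 1 - j + 1 = n - j := by omega
    have e2 : n - (n - 1 - j) = j + 1 := by omega
    have e3 : (-1 : K) ^ n * (-1) ^ j = (-1) ^ (n - j) := by
      rw [← pow_add]
      have : n + j = (n - j) + 2 * j := by omega
      rw [this, pow_add, pow_mul, neg_one_sq, one_pow, mul_one]
    show (-1 : K) ^ (n - 1 - j + 1) * LambdaOps.lam (n - 1 - j + 1) z *
      adamsOp (n - (n - 1 - j)) z = _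
    rw [e1, e2, ← e3]
    ring
  rw [hrefl]
  have h2 : (-1 : K) ^ n * (-1) ^ n = 1 := by rw [← mul_pow]; simp
  calc adamsOp (n + 1) z = (-1) ^ n * ((-1) ^ n * adamsOp (n + 1) z) := by
        rw [← mul_assoc, h2, one_mul]
    _ = (-1) ^ n * (LambdaOps.lam (n + 1) z * ((n : K) + 1) -
          ∑ i ∈ range n, LambdaOps.lam (n - i) z * ((-1) ^ i * adamsOp (i + 1) z)) := by
        rw [h]; ring
    _ = _ := by ring

theorem adamsOp_eq_nu (z : K) (m : ℕ) :
    adamsOp m z = nu (fun j => LambdaOps.lam j z) m := by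
  rcases Nat.eq_zero_or_pos m with rfl | hm
  · rw [nu_zero]; rfl
  · exact eq_nu_of_rec (fun j => LambdaOps.lam j z) (fun m => adamsOp m z) m
      (fun n _ => adamsOp_rec z n) m hm le_rfl

end adams

/-! ### Newton's identities -/

theorem sum_antidiagonal_Ioo {M : Type*} [AddCommMonoid M] (f : ℕ × ℕ → M) (n : ℕ)
    [DecidablePred fun a : ℕ × ℕ => a.1 ∈ Set.Ioo 0 (n + 1)] :
    ∑ a ∈ antidiagonal (n + 1) with a.1 ∈ Set.Ioo 0 (n + 1), f a =
      ∑ i ∈ range n, f (i + 1, n - i) := by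
  rw [Finset.sum_filter, Finset.Nat.sum_antidiagonal_eq_sum_range_succ_mk, Finset.sum_range_succ,
    Finset.sum_range_succ']
  have h0 : ¬ ((0 : ℕ) ∈ Set.Ioo 0 (n + 1)) := by simp
  have h1 : ¬ ((n + 1 : ℕ) ∈ Set.Ioo 0 (n + 1)) := by simp
  rw [if_neg h0, if_neg h1, add_zero, add_zero]
  apply Finset.sum_congr rfl
  intro i hi
  rw [Finset.mem_range] at hi
  have : (i + 1) ∈ Set.Ioo 0 (n + 1) := ⟨by omega, by omega⟩
  rw [if_pos this, Nat.add_sub_add_right]

theorem nu_esymm (σ R : Type*) [Fintype σ] [CommRing R] (m : ℕ) (hm : 1 ≤ m) :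
    nu (fun j => esymm σ R j) m = psum σ R m := by
  classical
  refine (eq_nu_of_rec (fun j => esymm σ R j) (fun m => psum σ R m) m (fun n _ => ?_) m hm
    le_rfl).symm
  rw [psum_eq_mul_esymm_sub_sum σ R (n + 1) (Nat.succ_pos n), sum_antidiagonal_Ioo]
  have e : (-1 : MvPolynomial σ R) ^ (n + 1 + 1) = (-1) ^ n := by
    rw [pow_succ, pow_succ]; ring
  rw [e]
  push_cast
  rfl

theorem nu_aeval_esymm {σ R S : Type*} [Fintype σ] [CommRing R] [CommRing S] [Algebra R S]
    (g : σ → S) (m : ℕ) (hm : 1 ≤ m) :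
    nu (fun j => aeval g (esymm σ R j)) m = ∑ i, g i ^ m := by
  rw [← map_nu (aeval g) (fun j => esymm σ R j) m, nu_esymm σ R m hm, psum, map_sum]
  apply Finset.sum_congr rfl
  intro i _
  rw [map_pow, aeval_X]

/-! ### The variables `X_j`, `Y_j` indexed from `1` -/

/-- `X_j` for `1 ≤ j ≤ N`, else `0` -/
noncomputable def Xl (N j : ℕ) : MvPolynomial (Fin N ⊕ Fin N) ℤ :=
  if h : 1 ≤ j ∧ j ≤ N then X (Sum.inl ⟨j - 1, by omega⟩) else 0

/-- `Y_j` for `1 ≤ j ≤ N`, else `0` -/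
noncomputable def Xr (N j : ℕ) : MvPolynomial (Fin N ⊕ Fin N) ℤ :=
  if h : 1 ≤ j ∧ j ≤ N then X (Sum.inr ⟨j - 1, by omega⟩) else 0

/-- `X_j` for `1 ≤ j ≤ N`, else `0` (one family) -/
noncomputable def X1 (N j : ℕ) : MvPolynomial (Fin N) ℤ :=
  if h : 1 ≤ j ∧ j ≤ N then X ⟨j - 1, by omega⟩ else 0

theorem aeval_Xl {S : Type*} [CommRing S] [Algebra ℤ S] (N j : ℕ) (h1 : 1 ≤ j) (h2 : j ≤ N)
    (f : Fin N ⊕ Fin N → S) : aeval f (Xl N j) = f (Sum.inl ⟨j - 1, by omega⟩) := by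
  rw [Xl, dif_pos ⟨h1, h2⟩, aeval_X]

theorem aeval_Xr {S : Type*} [CommRing S] [Algebra ℤ S] (N j : ℕ) (h1 : 1 ≤ j) (h2 : j ≤ N)
    (f : Fin N ⊕ Fin N → S) : aeval f (Xr N j) = f (Sum.inr ⟨j - 1, by omega⟩) := by
  rw [Xr, dif_pos ⟨h1, h2⟩, aeval_X]

theorem aeval_X1 {S : Type*} [CommRing S] [Algebra ℤ S] (N j : ℕ) (h1 : 1 ≤ j) (h2 : j ≤ N)
    (f : Fin N → S) : aeval f (X1 N j) = f ⟨j - 1, by omega⟩ := by
  rw [X1, dif_pos ⟨h1, h2⟩, aeval_X]

theorem Phi_Xl (N j : ℕ) (h1 : 1 ≤ j) (h2 : j ≤ N) : Phi N N (Xl N j) = eT N j := by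
  rw [Phi, aeval_Xl N j h1 h2, Sum.elim_inl]
  show eT N (j - 1 + 1) = eT N j
  rw [Nat.sub_add_cancel h1]

theorem Phi_Xr (N j : ℕ) (h1 : 1 ≤ j) (h2 : j ≤ N) : Phi N N (Xr N j) = eU N j := by
  rw [Phi, aeval_Xr N j h1 h2, Sum.elim_inr]
  show eU N (j - 1 + 1) = eU N j
  rw [Nat.sub_add_cancel h1]

theorem epsU_X1 (N j : ℕ) (h1 : 1 ≤ j) (h2 : j ≤ N) :
    epsU N N (X1 N j) = esymm (Fin N) ℤ j := by
  rw [epsU, aeval_X1 N j h1 h2]
  show esymm (Fin N) ℤ (j - 1 + 1) = _
  rw [Nat.sub_add_cancel h1]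

/-! ### Power sums of the generating families -/

theorem nu_eT (N m : ℕ) (hm : 1 ≤ m) :
    nu (fun j => eT N j) m = ∑ a : Fin N, (X (Sum.inl a) : MvPolynomial (Fin N ⊕ Fin N) ℤ) ^ m := by
  have h := map_nu (rename Sum.inl : MvPolynomial (Fin N) ℤ →ₐ[ℤ] MvPolynomial (Fin N ⊕ Fin N) ℤ)
    (fun j => esymm (Fin N) ℤ j) m
  rw [nu_esymm _ _ m hm, psum, map_sum] at h
  refine h.symm.trans ?_
  apply Finset.sum_congr rfl
  intro a _
  rw [map_pow, rename_X]

theorem nu_eU (N m : ℕ) (hm : 1 ≤ m) :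
    nu (fun j => eU N j) m = ∑ a : Fin N, (X (Sum.inr a) : MvPolynomial (Fin N ⊕ Fin N) ℤ) ^ m := by
  have h := map_nu (rename Sum.inr : MvPolynomial (Fin N) ℤ →ₐ[ℤ] MvPolynomial (Fin N ⊕ Fin N) ℤ)
    (fun j => esymm (Fin N) ℤ j) m
  rw [nu_esymm _ _ m hm, psum, map_sum] at h
  refine h.symm.trans ?_
  apply Finset.sum_congr rfl
  intro a _
  rw [map_pow, rename_X]

theorem nu_mulGen (N m : ℕ) (hm : 1 ≤ m) :
    nu (fun j => mulGen N j) m =
      ∑ ab : Fin N × Fin N,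
        (X (Sum.inl ab.1) * X (Sum.inr ab.2) : MvPolynomial (Fin N ⊕ Fin N) ℤ) ^ m := by
  have e : (fun j => mulGen N j) = fun j => aeval (fun ab : Fin N × Fin N =>
      (X (Sum.inl ab.1) * X (Sum.inr ab.2) : MvPolynomial (Fin N ⊕ Fin N) ℤ))
      (esymm (Fin N × Fin N) ℤ j) := funext fun j => mulGen_eq_aeval N j
  rw [e, nu_aeval_esymm _ m hm]

theorem nu_compGen (N j k : ℕ) (hk : 1 ≤ k) :
    nu (fun i => compGen N j i) k =
      aeval (fun a : Fin N => (X a : MvPolynomial (Fin N) ℤ) ^ k) (esymm (Fin N) ℤ j) := by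
  have e : (fun i => compGen N j i) = fun i => aeval (fun s : Sub N j =>
      (∏ a ∈ s.1, X a : MvPolynomial (Fin N) ℤ)) (esymm (Sub N j) ℤ i) :=
    funext fun i => compGen_eq_aeval N j i
  rw [e, nu_aeval_esymm _ k hk, esymm, map_sum]
  refine (Finset.sum_coe_sort ((Finset.univ : Finset (Fin N)).powersetCard j)
    (fun t => (∏ a ∈ t, (X a : MvPolynomial (Fin N) ℤ)) ^ k)).trans ?_
  apply Finset.sum_congr rfl
  intro s _
  rw [map_prod, ← Finset.prod_pow]
  apply Finset.prod_congr rfl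
  intro a _
  rw [aeval_X]

/-! ### The two polynomial identities -/

/-- `ν_m(P_1, …, P_m) = ν_m(X) ν_m(Y)` -/
theorem nu_mul_identity (N m : ℕ) (hm1 : 1 ≤ m) (hmN : m ≤ N)
    (G : ℕ → MvPolynomial (Fin N ⊕ Fin N) ℤ)
    (hG : ∀ j, 1 ≤ j → j ≤ m → Phi N N (G j) = mulGen N j) :
    nu G m = nu (Xl N) m * nu (Xr N) m := by
  apply Phi_injective (le_refl N)
  rw [map_mul, map_nu, map_nu, map_nu]
  have h1 : nu (fun j => Phi N N (G j)) m = nu (fun j => mulGen N j) m := nu_congr m hG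
  have h2 : nu (fun j => Phi N N (Xl N j)) m = nu (fun j => eT N j) m :=
    nu_congr m (fun j h1 h2 => Phi_Xl N j h1 (h2.trans hmN))
  have h3 : nu (fun j => Phi N N (Xr N j)) m = nu (fun j => eU N j) m :=
    nu_congr m (fun j h1 h2 => Phi_Xr N j h1 (h2.trans hmN))
  rw [h1, h2, h3, nu_mulGen N m hm1, nu_eT N m hm1, nu_eU N m hm1, Finset.sum_mul_sum,
    Fintype.sum_prod_type]
  apply Finset.sum_congr rfl
  intro a _
  apply Finset.sum_congr rfl
  intro b _
  rw [mul_pow]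

/-- `ν_{k'}(j ↦ ν_k(Q_{j,1}, …, Q_{j,k})) = ν_{kk'}(X)` -/
theorem nu_comp_identity (N k k' : ℕ) (hk : 1 ≤ k) (hk' : 1 ≤ k') (hN : N = k * k')
    (G : ℕ → ℕ → MvPolynomial (Fin N) ℤ)
    (hG : ∀ j i, 1 ≤ j → j ≤ k' → 1 ≤ i → i ≤ k → epsU N N (G j i) = compGen N j i) :
    nu (fun j => nu (G j) k) k' = nu (X1 N) N := by
  have hN1 : 1 ≤ N := by rw [hN]; exact Nat.mul_pos hk hk'
  apply epsU_injective (le_refl N)
  rw [map_nu, map_nu]
  have h1 : nu (fun j => epsU N N (nu (G j) k)) k' =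
      nu (fun j => aeval (fun a : Fin N => (X a : MvPolynomial (Fin N) ℤ) ^ k)
        (esymm (Fin N) ℤ j)) k' := by
    apply nu_congr
    intro j hj1 hj2
    show epsU N N (nu (G j) k) = _
    rw [map_nu]
    have h : nu (fun i => epsU N N (G j i)) k = nu (fun i => compGen N j i) k :=
      nu_congr k (fun i hi1 hi2 => hG j i hj1 hj2 hi1 hi2)
    rw [h, nu_compGen N j k hk]
  have h2 : nu (fun j => epsU N N (X1 N j)) N = nu (fun j => esymm (Fin N) ℤ j) N :=
    nu_congr N (fun j hj1 hj2 => epsU_X1 N j hj1 hj2)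
  rw [h1, h2, nu_aeval_esymm _ k' hk', nu_esymm _ _ N hN1, psum]
  apply Finset.sum_congr rfl
  intro a _
  rw [← pow_mul]
  exact congrArg (fun e => (X a : MvPolynomial (Fin N) ℤ) ^ e) hN.symm


/-! ### Further tools for the converse (Adams operations determine specialness over `ℚ`) -/

theorem map_nu_of_ringHomLike {R : Type*} [CommRing R] (f : R → R) (h1 : f 1 = 1)
    (hmul : ∀ x y, f (x * y) = f x * f y) (hadd : ∀ x y, f (x + y) = f x + f y)
    (c : ℕ → R) (m : ℕ) : f (nu c m) = nu (fun j => f (c j)) m := by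
  have h0 : f 0 = 0 := by
    have h := hadd 0 0
    rw [add_zero] at h
    linear_combination (-1 : R) * h
  let φ : R →+* R :=
    { toFun := f
      map_one' := h1
      map_mul' := hmul
      map_zero' := h0
      map_add' := hadd }
  exact map_nu φ c m

theorem nu_of_one {R : Type*} [CommRing R] (c : ℕ → R) (h1 : c 1 = 1)
    (h2 : ∀ j, 2 ≤ j → c j = 0) (m : ℕ) (hm : 1 ≤ m) : nu c m = 1 := by
  induction m with
  | zero => omega
  | succ n ih =>
    rw [nu_succ]
    rcases Nat.eq_zero_or_pos n with rfl | hn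
    · simp [h1]
    · rw [h2 (n + 1) (by omega), mul_zero, zero_sub, Finset.sum_eq_single 0]
      · simp [h1, ih hn]
      · intro i _ hi
        rw [h2 (i + 1) (by omega)]
        ring
      · intro h
        exact absurd (Finset.mem_range.mpr hn) h

theorem mulGen_zero (N : ℕ) : mulGen N 0 = 1 := by
  simp [mulGen, Multiset.esymm, Multiset.powersetCard_zero_left]

theorem compGen_zero (N i : ℕ) : compGen N i 0 = 1 := by
  simp [compGen, Multiset.esymm, Multiset.powersetCard_zero_left]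

/-- the substitution `T_a ↦ T_a^m` -/
noncomputable def theta (N m : ℕ) : MvPolynomial (Fin N) ℤ →ₐ[ℤ] MvPolynomial (Fin N) ℤ :=
  aeval (fun a : Fin N => (X a : MvPolynomial (Fin N) ℤ) ^ m)

theorem exists_epsU_eq_theta (N m r : ℕ) :
    ∃ W : MvPolynomial (Fin N) ℤ, epsU N N W = theta N m (esymm (Fin N) ℤ r) := by
  have hsym : (theta N m (esymm (Fin N) ℤ r)).IsSymmetric := by
    intro σ
    have hc : (rename σ : MvPolynomial (Fin N) ℤ →ₐ[ℤ] _).comp (theta N m) =
        (theta N m).comp (rename σ) := by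
      apply MvPolynomial.algHom_ext
      intro a
      simp only [AlgHom.comp_apply, theta, aeval_X, rename_X, map_pow]
    have h := DFunLike.congr_fun hc (esymm (Fin N) ℤ r)
    simp only [AlgHom.comp_apply] at h
    rw [h, (esymm_isSymmetric (Fin N) ℤ r) σ]
  obtain ⟨Q₀, hQ₀⟩ := (esymmAlgHom_fin_bijective ℤ N).2 ⟨_, hsym⟩
  refine ⟨Q₀, ?_⟩
  have h := congrArg Subtype.val hQ₀
  rw [esymmAlgHom_apply] at h
  exact h

theorem nu_theta_esymm (N m s : ℕ) (hs : 1 ≤ s) :
    nu (fun r => theta N m (esymm (Fin N) ℤ r)) s = psum (Fin N) ℤ (m * s) := by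
  show nu (fun r => aeval (fun a : Fin N => (X a : MvPolynomial (Fin N) ℤ) ^ m)
    (esymm (Fin N) ℤ r)) s = _
  rw [nu_aeval_esymm _ s hs, psum]
  apply Finset.sum_congr rfl
  intro a _
  rw [pow_mul]

/-- `ν_s(W_{m,1}, …, W_{m,s}) = ν_{ms}(X)` when `W_{m,r}` represents `e_r(T^m)` -/
theorem nu_theta_identity (N m s : ℕ) (hm : 1 ≤ m) (hs : 1 ≤ s) (hms : m * s ≤ N)
    (W : ℕ → MvPolynomial (Fin N) ℤ)
    (hW : ∀ r, 1 ≤ r → r ≤ s → epsU N N (W r) = theta N m (esymm (Fin N) ℤ r)) :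
    nu W s = nu (X1 N) (m * s) := by
  apply epsU_injective (le_refl N)
  rw [map_nu, map_nu]
  have h1 : nu (fun r => epsU N N (W r)) s = nu (fun r => theta N m (esymm (Fin N) ℤ r)) s :=
    nu_congr s hW
  have h2 : nu (fun r => epsU N N (X1 N r)) (m * s) = nu (fun r => esymm (Fin N) ℤ r) (m * s) :=
    nu_congr _ (fun r h1 h2 => epsU_X1 N r h1 (h2.trans hms))
  rw [h1, h2, nu_theta_esymm N m s hs, nu_esymm _ _ (m * s) (Nat.mul_pos hm hs)]

/-- `ν_m(Q_{i,1}, …, Q_{i,m}) = W_{m,i}` -/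
theorem nu_comp_identity' (N i m : ℕ) (hm : 1 ≤ m) (G : ℕ → MvPolynomial (Fin N) ℤ)
    (hG : ∀ t, 1 ≤ t → t ≤ m → epsU N N (G t) = compGen N i t)
    (W : MvPolynomial (Fin N) ℤ) (hW : epsU N N W = theta N m (esymm (Fin N) ℤ i)) :
    nu G m = W := by
  apply epsU_injective (le_refl N)
  rw [map_nu, hW]
  have h1 : nu (fun t => epsU N N (G t)) m = nu (fun t => compGen N i t) m := nu_congr m hG
  rw [h1, nu_compGen N i m hm]
  rfl

end Groth.Agent.Lib.Helper20.NewtonNu
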