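import Mathlib
import Groth.Agent.Lib.Helper20.NormFlat

/-!
# Normal flatness along a nilpotent ideal: dimension and depth
-/

set_option autoImplicit false

universe u

open LocCoh Groth.Agent.Lib.Helper4

namespace Groth.Agent.Lib.Helper20.NormFlat

variable {A : Type u} [CommRing A] [IsNoetherianRing A] [IsLocalRing A] (I : Ideal A)
  (M : Type u) [AddCommGroup M] [Module A M] [Module.Finite A M]

/-- the `n`-th piece of the `I`-adic filtration. -/
abbrev Mn (n : ℕ) : Submodule A M := I ^ n • (⊤ : Submodule A M)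

/-- the next piece, inside `Mn n`. -/
abbrev Kn (n : ℕ) : Submodule A ↥(Mn I M n) := I • (⊤ : Submodule A ↥(Mn I M n))

/-- the graded piece. -/
abbrev Gn (n : ℕ) : Type u := ↥(Mn I M n) ⧸ Kn I M n

/-- `Kn n ≃ Mn (n+1)`. -/
noncomputable def knEquiv (n : ℕ) : ↥(Kn I M n) ≃ₗ[A] ↥(Mn I M (n + 1)) := by
  have h : Submodule.map (Mn I M n).subtype (Kn I M n) = Mn I M (n + 1) := by
    rw [Submodule.map_smul'', Submodule.map_top, Submodule.range_subtype, ← mul_smul,
      ← pow_succ']
  exact (Submodule.equivMapOfInjective (Mn I M n).subtype (Mn I M n).injective_subtype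
    (Kn I M n)).trans (LinearEquiv.ofEq _ _ h)

variable {I M}

/-- the graded pieces of a normally flat module are free over `A/I`. -/
lemma gn_equiv (hI : I ≠ ⊤) (hM : EGA4.IsNormallyFlat I M) (n : ℕ) :
    ∃ r : ℕ, Nonempty (Gn I M n ≃ₗ[A] (Fin r → A ⧸ I)) := by
  have : Nontrivial (A ⧸ I) := Ideal.Quotient.nontrivial_iff.2 hI
  have : IsLocalRing (A ⧸ I) :=
    IsLocalRing.of_surjective' (Ideal.Quotient.mk I) Ideal.Quotient.mk_surjective
  have hflat : Module.Flat (A ⧸ I) (Gn I M n) := hM n
  have hfin : Module.Finite (A ⧸ I) (Gn I M n) :=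
    Module.Finite.of_restrictScalars_finite A (A ⧸ I) (Gn I M n)
  have hfree : Module.Free (A ⧸ I) (Gn I M n) := Module.free_of_flat_of_isLocalRing
  let b := Module.Free.chooseBasis (A ⧸ I) (Gn I M n)
  let r := Fintype.card (Module.Free.ChooseBasisIndex (A ⧸ I) (Gn I M n))
  let e1 : Gn I M n ≃ₗ[A ⧸ I] (Fin r → A ⧸ I) :=
    b.equivFun.trans (LinearEquiv.funCongrLeft (A ⧸ I) (A ⧸ I)
      (Fintype.equivFin (Module.Free.ChooseBasisIndex (A ⧸ I) (Gn I M n))).symm)
  exact ⟨r, ⟨e1.restrictScalars A⟩⟩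

/-- the graded pieces of a normally flat module are either zero or of the depth of `A/I`. -/
lemma gn_depth (hI : I ≠ ⊤) (hM : EGA4.IsNormallyFlat I M) (n : ℕ) :
    Subsingleton (Gn I M n) ∨
      idealDepth (IsLocalRing.maximalIdeal A) (Gn I M n) =
        idealDepth (IsLocalRing.maximalIdeal A) (A ⧸ I) := by
  have : Nontrivial (A ⧸ I) := Ideal.Quotient.nontrivial_iff.2 hI
  obtain ⟨r, ⟨e⟩⟩ := gn_equiv hI hM n
  rcases Nat.eq_zero_or_pos r with hr | hr
  · left
    have : IsEmpty (Fin r) := by rw [hr]; infer_instance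
    exact e.toEquiv.subsingleton
  · right
    obtain ⟨r', hr'⟩ : ∃ r', r = r' + 1 := ⟨r - 1, by omega⟩
    subst hr'
    rw [idealDepth_congr _ e]
    exact idealDepth_pi (IsLocalRing.maximalIdeal A) (N := A ⧸ I) r'

/-- each piece of the filtration is zero or has the depth of `A/I`. -/
lemma mn_depth (hI : I ≠ ⊤) (hM : EGA4.IsNormallyFlat I M) (c : ℕ) (hc : I ^ c = ⊥) :
    ∀ k n : ℕ, n + k = c → Subsingleton ↥(Mn I M n) ∨
      idealDepth (IsLocalRing.maximalIdeal A) ↥(Mn I M n) =
        idealDepth (IsLocalRing.maximalIdeal A) (A ⧸ I) := by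
  intro k
  induction k with
  | zero =>
    intro n hn
    left
    have : Mn I M n = ⊥ := by
      rw [add_zero] at hn
      rw [Mn, hn, hc, Submodule.bot_smul]
    rw [this]
    infer_instance
  | succ k ih =>
    intro n hn
    have h1 := ih (n + 1) (by omega)
    by_cases hs : Subsingleton ↥(Mn I M n)
    · exact Or.inl hs
    · right
      have : Nontrivial ↥(Mn I M n) := not_subsingleton_iff_nontrivial.1 hs
      refine idealDepth_eq_of_ses _ _ (Kn I M n).subtype (Kn I M n).mkQ
        (Kn I M n).injective_subtype (Kn I M n).mkQ_surjective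
        (LinearMap.exact_subtype_mkQ _) ?_ (gn_depth hI hM n)
      rcases h1 with h1 | h1
      · left
        exact (knEquiv I M n).toEquiv.subsingleton
      · right
        rw [idealDepth_congr _ (knEquiv I M n), h1]

/-- depth of a module normally flat along a nilpotent ideal. -/
theorem depth_eq (hI : IsNilpotent I) [Nontrivial M] (hM : EGA4.IsNormallyFlat I M) :
    idealDepth (IsLocalRing.maximalIdeal A) M =
      idealDepth (IsLocalRing.maximalIdeal A) (A ⧸ I) := by
  obtain ⟨c, hc⟩ := hI
  have hItop : I ≠ ⊤ := by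
    rintro rfl
    rw [Ideal.top_pow] at hc
    exact absurd hc (by
      intro h
      have : (1 : A) ∈ (⊤ : Ideal A) := Submodule.mem_top
      rw [h] at this
      exact one_ne_zero ((Submodule.mem_bot A).1 this))
  have h0 : Mn I M 0 = ⊤ := by
    rw [Mn, pow_zero, Ideal.one_eq_top, Submodule.top_smul]
  let e : ↥(Mn I M 0) ≃ₗ[A] M := (LinearEquiv.ofEq _ _ h0).trans Submodule.topEquiv
  have : Nontrivial ↥(Mn I M 0) := e.toEquiv.nontrivial
  rcases mn_depth hItop hM c hc c 0 (by omega) with h | h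
  · exact absurd h (not_subsingleton _)
  · rw [← idealDepth_congr _ e, h]

/-- the annihilator of a nonzero module normally flat along `I ≠ ⊤` lies in `I`. -/
lemma annihilator_le (hI : I ≠ ⊤) [Nontrivial M] (hM : EGA4.IsNormallyFlat I M) :
    Module.annihilator A M ≤ I := by
  intro a ha
  rw [Module.mem_annihilator] at ha
  obtain ⟨r, ⟨e⟩⟩ := gn_equiv hI hM 0
  have h0 : Mn I M 0 = ⊤ := by
    rw [Mn, pow_zero, Ideal.one_eq_top, Submodule.top_smul]
  let e0 : ↥(Mn I M 0) ≃ₗ[A] M := (LinearEquiv.ofEq _ _ h0).trans Submodule.topEquiv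
  have hnt : Nontrivial ↥(Mn I M 0) := e0.toEquiv.nontrivial
  -- `G_0 ≠ 0` by Nakayama
  have hK : Kn I M 0 ≠ ⊤ := by
    intro h
    have hfg : (⊤ : Submodule A ↥(Mn I M 0)).FG := Module.finite_def.1 inferInstance
    have hjac : I ≤ Ideal.jacobson ⊥ := by
      rw [IsLocalRing.jacobson_eq_maximalIdeal ⊥ bot_ne_top]
      exact IsLocalRing.le_maximalIdeal hI
    have := Submodule.eq_bot_of_le_smul_of_le_jacobson_bot I ⊤ hfg (by rw [← Kn, h]) hjac
    exact top_ne_bot this
  have hG : Nontrivial (Gn I M 0) := Submodule.Quotient.nontrivial_iff.2 hK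
  rcases Nat.eq_zero_or_pos r with hr | hr
  · have : IsEmpty (Fin r) := by rw [hr]; infer_instance
    have : Subsingleton (Gn I M 0) := e.toEquiv.subsingleton
    exact absurd this (not_subsingleton _)
  · -- `a` kills `G_0`
    have hkill : ∀ g : Gn I M 0, a • g = 0 := by
      intro g
      obtain ⟨x, rfl⟩ := Submodule.Quotient.mk_surjective _ g
      rw [← Submodule.Quotient.mk_smul]
      have : a • x = 0 := by
        apply Subtype.ext
        rw [Submodule.coe_smul, ha, Submodule.coe_zero]
      rw [this, Submodule.Quotient.mk_zero]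
    have h1 := hkill (e.symm (Pi.single ⟨0, hr⟩ 1))
    have h2 : a • (Pi.single ⟨0, hr⟩ 1 : Fin r → A ⧸ I) = 0 := by
      have := congrArg e h1
      rwa [map_smul, LinearEquiv.apply_symm_apply, map_zero] at this
    have h3 := congrFun h2 ⟨0, hr⟩
    rw [Pi.smul_apply, Pi.single_eq_same, Pi.zero_apply] at h3
    have h4 : (Ideal.Quotient.mk I a) = 0 := by
      rw [← h3, Algebra.smul_def, mul_one]
      rfl
    exact Ideal.Quotient.eq_zero_iff_mem.1 h4

/-- dimension of a module normally flat along a nilpotent ideal. -/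
theorem supportDim_eq (hI : IsNilpotent I) [Nontrivial M] (hM : EGA4.IsNormallyFlat I M) :
    Module.supportDim A M = ringKrullDim (A ⧸ I) := by
  obtain ⟨c, hc⟩ := hI
  have hItop : I ≠ ⊤ := by
    rintro rfl
    rw [Ideal.top_pow] at hc
    exact absurd hc (by
      intro h
      have : (1 : A) ∈ (⊤ : Ideal A) := Submodule.mem_top
      rw [h] at this
      exact one_ne_zero ((Submodule.mem_bot A).1 this))
  have hle : ∀ p : Ideal A, p.IsPrime → I ≤ p := by
    intro p hp
    apply hp.le_of_pow_le (n := c)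
    rw [hc]
    exact bot_le
  rw [Module.supportDim, ringKrullDim_quotient, Module.support_eq_zeroLocus]
  have h1 : PrimeSpectrum.zeroLocus (Module.annihilator A M : Set A) =
      PrimeSpectrum.zeroLocus (I : Set A) := by
    apply le_antisymm
    · intro p _
      exact hle p.asIdeal p.isPrime
    · exact PrimeSpectrum.zeroLocus_anti_mono (annihilator_le hItop hM)
  rw [h1]

end Groth.Agent.Lib.Helper20.NormFlat
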