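import Mathlib

/-!
# Localizations of a product of domains at a prime ideal
-/

set_option autoImplicit false
universe u

namespace Groth.Agent.Lib.Helper20.PiLocal

variable {ι : Type u} (R : ι → Type u) [∀ i, CommRing (R i)] (P : Ideal (∀ i, R i)) [hP : P.IsPrime]
  (L : Type u) [CommRing L] [Algebra (∀ i, R i) L] [hL : IsLocalization.AtPrime L P]

include P hP hL

open Classical in
/-- two componentwise identities holding on complementary sets of indices: one of them holds in the
localization at a prime -/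
theorem map_eq_or_map_eq (p : ι → Prop) (x y x' y' : ∀ i, R i)
    (h1 : ∀ i, p i → x i = y i) (h2 : ∀ i, ¬ p i → x' i = y' i) :
    algebraMap _ L x = algebraMap _ L y ∨
    algebraMap _ L x' = algebraMap _ L y' := by
  let e : ∀ i, R i := fun i => if p i then 1 else 0
  let e' : ∀ i, R i := fun i => if p i then 0 else 1
  have hsum : e + e' = 1 := by
    funext i
    by_cases hp : p i <;> simp [e, e', hp]
  have he1 : e * (x - y) = 0 := by
    funext i
    by_cases hp : p i
    · simp [e, hp, h1 i hp]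
    · simp [e, hp]
  have he2 : e' * (x' - y') = 0 := by
    funext i
    by_cases hp : p i
    · simp [e', hp]
    · simp [e', hp, h2 i hp]
  by_cases heP : e ∈ P
  · have he'P : e' ∉ P := fun h =>
      (Ideal.ne_top_iff_one P).mp (Ideal.IsPrime.ne_top ‹_›) (hsum ▸ P.add_mem heP h)
    right
    rw [← sub_eq_zero, ← map_sub, IsLocalization.map_eq_zero_iff P.primeCompl L]
    exact ⟨⟨e', he'P⟩, he2⟩
  · left
    rw [← sub_eq_zero, ← map_sub, IsLocalization.map_eq_zero_iff P.primeCompl L]
    exact ⟨⟨e, heP⟩, he1⟩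

theorem isDomain [∀ i, IsDomain (R i)] : IsDomain L := by
  have : Nontrivial L := (IsLocalization.AtPrime.isLocalRing L P).toNontrivial
  have : NoZeroDivisors L := ⟨by
    intro a b hab
    obtain ⟨x, s, rfl⟩ := IsLocalization.exists_mk'_eq P.primeCompl a
    obtain ⟨y, t, rfl⟩ := IsLocalization.exists_mk'_eq P.primeCompl b
    rw [← IsLocalization.mk'_mul, IsLocalization.mk'_eq_zero_iff] at hab
    obtain ⟨u, hu⟩ := hab
    rcases map_eq_or_map_eq R P L (fun i => x i = 0) x 0 (u * y) 0 (fun i h => h) (fun i h => by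
        have h3 := congrFun hu i
        simp only [Pi.mul_apply, Pi.zero_apply] at h3 ⊢
        rcases mul_eq_zero.mp h3 with h0 | h0
        · rw [h0, zero_mul]
        · rcases mul_eq_zero.mp h0 with h0 | h0
          · exact absurd h0 h
          · rw [h0, mul_zero]) with h | h
    · left
      rw [IsLocalization.mk'_eq_zero_iff]
      rw [map_zero, IsLocalization.map_eq_zero_iff P.primeCompl L] at h
      exact h
    · right
      rw [IsLocalization.mk'_eq_zero_iff]
      rw [map_zero, IsLocalization.map_eq_zero_iff P.primeCompl L] at h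
      obtain ⟨m, hm⟩ := h
      exact ⟨m * u, by rw [Submonoid.coe_mul, mul_assoc]; exact hm⟩⟩
  exact NoZeroDivisors.to_isDomain _


theorem isIntegrallyClosed [∀ i, IsDomain (R i)] [∀ i, IsIntegrallyClosed (R i)] [IsDomain L] :
    IsIntegrallyClosed L := by
  classical
  rw [isIntegrallyClosed_iff (FractionRing L)]
  intro z hz
  obtain ⟨w, hw⟩ := IsIntegral.exists_multiple_integral_of_isLocalization P.primeCompl z hz
  obtain ⟨p, hpm, hp⟩ := hw
  obtain ⟨a, b, hb, hzab⟩ := IsFractionRing.div_surjective (A := L) z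
  obtain ⟨x, s, rfl⟩ := IsLocalization.exists_mk'_eq P.primeCompl a
  obtain ⟨y, t, rfl⟩ := IsLocalization.exists_mk'_eq P.primeCompl b
  obtain ⟨φ, hφ⟩ : ∃ φ : (∀ i, R i) →+* L, φ = algebraMap _ _ := ⟨_, rfl⟩
  obtain ⟨ψ, hψd⟩ : ∃ ψ : L →+* FractionRing L,
      ψ = algebraMap _ _ := ⟨_, rfl⟩
  have hψ : Function.Injective ψ := by
    rw [hψd]
    exact IsFractionRing.injective _ _
  have hK : ∀ r : (∀ i, R i),
      algebraMap (∀ i, R i) (FractionRing L) r = ψ (φ r) := by
    intro r
    rw [hψd, hφ]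
    exact IsScalarTower.algebraMap_apply _ L _ r
  have hb0 : IsLocalization.mk' L y t ≠ 0 := nonZeroDivisors.ne_zero hb
  have ha := IsLocalization.mk'_spec L x s
  have hb' := IsLocalization.mk'_spec L y t
  rw [← hφ] at ha hb'
  have hunit : ∀ m : P.primeCompl, φ m ≠ 0 := by
    intro m
    rw [hφ]
    exact (IsLocalization.map_units L m).ne_zero
  have hzb : z * ψ (IsLocalization.mk' L y t) =
      ψ (IsLocalization.mk' L x s) := by
    rw [← hzab, ← hψd]
    exact div_mul_cancel₀ _ (fun h => hb0 (hψ (h.trans (map_zero ψ).symm)))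
  have hsmul : w • z = ψ (φ w) * z := by
    rw [Submonoid.smul_def, Algebra.smul_def, hK]
  obtain ⟨X, hX⟩ : ∃ X : (∀ i, R i), X = (w : ∀ i, R i) * x * t := ⟨_, rfl⟩
  obtain ⟨Y, hY⟩ : ∃ Y : (∀ i, R i), Y = y * s := ⟨_, rfl⟩
  have hY0 : φ Y ≠ 0 := by
    rw [hY, map_mul, ← hb']
    exact mul_ne_zero (mul_ne_zero hb0 (hunit t)) (hunit s)
  have hYK : ψ (φ Y) ≠ 0 := fun h => hY0 (hψ (h.trans (map_zero ψ).symm))
  have hwK : ψ (φ w) ≠ 0 := fun h => hunit w (hψ (h.trans (map_zero ψ).symm))
  have hαβ : (w • z) * ψ (φ Y) = ψ (φ X) := by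
    rw [hsmul, hY, hX, map_mul φ, map_mul φ, map_mul φ, ← hb', ← ha, map_mul ψ, map_mul ψ, map_mul ψ,
      map_mul ψ, map_mul ψ, ← hzb]
    ring
  -- the homogenised equation
  have hh : ψ (φ (Polynomial.eval X (p.scaleRoots Y))) = 0 := by
    have e3 := Polynomial.scaleRoots_eval₂_mul (p := p)
      (algebraMap (∀ i, R i) (FractionRing L)) (w • z) Y
    rw [hp, mul_zero, hK Y, mul_comm, hαβ, ← hK X, Polynomial.eval₂_at_apply, hK] at e3
    exact e3
  have hh' : φ (Polynomial.eval X (p.scaleRoots Y)) = 0 := hψ (hh.trans (map_zero ψ).symm)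
  rw [hφ, IsLocalization.map_eq_zero_iff P.primeCompl L] at hh'
  obtain ⟨u, hu⟩ := hh'
  have hq : ∀ i, ∃ q : R i, ((u : ∀ i, R i) i ≠ 0 ∧ Y i ≠ 0 → X i = Y i * q) := by
    intro i
    by_cases hi : (u : ∀ i, R i) i ≠ 0 ∧ Y i ≠ 0
    · have h3 := congrFun hu i
      have hhi : (Polynomial.eval X (p.scaleRoots Y)) i = 0 :=
        (mul_eq_zero.mp h3).resolve_left hi.1
      have hpi : (p.map (Pi.evalRingHom R i)).Monic := hpm.map _
      have e1 : (p.scaleRoots Y).map (Pi.evalRingHom R i) =
          (p.map (Pi.evalRingHom R i)).scaleRoots (Y i) :=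
        Polynomial.map_scaleRoots p Y (Pi.evalRingHom R i) (by
          rw [hpm.leadingCoeff, map_one]
          exact one_ne_zero)
      have e2 : ((p.map (Pi.evalRingHom R i)).scaleRoots (Y i)).eval (X i) = 0 := by
        rw [← e1, Polynomial.eval_map]
        exact (Polynomial.eval₂_at_apply (p := p.scaleRoots Y) (Pi.evalRingHom R i) X).trans hhi
      have hfY : algebraMap (R i) (FractionRing (R i)) (Y i) ≠ 0 :=
        (map_ne_zero_iff _ (IsFractionRing.injective (R i) (FractionRing (R i)))).mpr hi.2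
      have e5 : algebraMap (R i) (FractionRing (R i)) (Y i) *
          (algebraMap (R i) (FractionRing (R i)) (X i) / algebraMap (R i) (FractionRing (R i)) (Y i))
          = algebraMap (R i) (FractionRing (R i)) (X i) := by
        field_simp
      have e3 := Polynomial.scaleRoots_eval₂_mul (p := p.map (Pi.evalRingHom R i))
        (algebraMap (R i) (FractionRing (R i)))
        (algebraMap (R i) (FractionRing (R i)) (X i) / algebraMap (R i) (FractionRing (R i)) (Y i))
        (Y i)
      rw [e5, Polynomial.eval₂_at_apply, e2, map_zero] at e3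
      have e4 : Polynomial.eval₂ (algebraMap (R i) (FractionRing (R i)))
          (algebraMap (R i) (FractionRing (R i)) (X i) / algebraMap (R i) (FractionRing (R i)) (Y i))
          (p.map (Pi.evalRingHom R i)) = 0 :=
        (mul_eq_zero.mp e3.symm).resolve_left (pow_ne_zero _ hfY)
      obtain ⟨qi, hqi⟩ := IsIntegrallyClosed.algebraMap_eq_of_integral (R := R i)
        (K := FractionRing (R i)) ⟨p.map (Pi.evalRingHom R i), hpi, e4⟩
      refine ⟨qi, fun _ => ?_⟩
      apply IsFractionRing.injective (R i) (FractionRing (R i))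
      rw [map_mul, hqi, e5]
    · exact ⟨0, fun h' => absurd h' hi⟩
  choose q hq using hq
  rcases map_eq_or_map_eq R P L
    (fun i => (u : ∀ i, R i) i ≠ 0 ∧ Y i ≠ 0) X (Y * q) ((u : ∀ i, R i) * Y) 0
    (fun i h => hq i h) (fun i h => by
      simp only [Pi.mul_apply, Pi.zero_apply]
      by_cases hu0 : (u : ∀ i, R i) i = 0
      · rw [hu0, zero_mul]
      · have hY0' : Y i = 0 := by
          by_contra hYi
          exact h ⟨hu0, hYi⟩
        rw [hY0', mul_zero]) with h1 | h1
  · rw [← hφ] at h1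
    refine ⟨IsLocalization.mk' L q w, ?_⟩
    have hβ : (w • z) * ψ (φ Y) = ψ (φ q) * ψ (φ Y) := by
      rw [hαβ, h1, map_mul, map_mul, mul_comm]
    have h2 : w • z = ψ (φ q) := mul_right_cancel₀ hYK hβ
    have h3 := IsLocalization.mk'_spec L q w
    rw [← hφ] at h3
    have h4 : ψ (φ w) * z = ψ (φ w) * ψ (IsLocalization.mk' L q w) := by
      rw [← hsmul, h2, ← h3, map_mul, mul_comm]
    rw [← hψd]
    exact (mul_left_cancel₀ hwK h4).symm
  · exfalso
    rw [← hφ, map_zero, map_mul] at h1
    rcases mul_eq_zero.mp h1 with h | h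
    · exact hunit u h
    · exact hY0 h


end Groth.Agent.Lib.Helper20.PiLocal
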