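import Mathlib
import Groth.Prelude.Def_PolLaw

/-!
# Helper lemmas on kernels of polynomial laws (helper20)

General lemmas about `PolLaw.ker` and `PolLaw.kerBC` (membership unfolding, easy inclusion,
naturality of `rid`, a "T-trick" turning `m • F(x + w b) = m • F x` identically into
`m • b ∈ ker F`).
-/

set_option autoImplicit false
universe u
open scoped TensorProduct

namespace Groth.Agent.Lib.Helper20.PolLawKer

variable {A : Type u} [CommRing A] {B : Type u} [CommRing B] [Algebra A B]
  {C : Type u} [CommRing C] [Algebra A C]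

theorem mem_ker_iff (F : B →ₚₗ[A] C) (b : B) :
    b ∈ PolLaw.ker F ↔ ∀ (S : Type u) [CommSemiring S] [Algebra A S] (x w : S ⊗[A] B),
      F.toFun' S (x + w * (1 ⊗ₜ[A] b)) = F.toFun' S x := Iff.rfl

theorem mem_kerBC_iff (F : B →ₚₗ[A] C) (A' : Type u) [CommRing A'] [Algebra A A']
    (b' : A' ⊗[A] B) :
    b' ∈ PolLaw.kerBC F A' ↔ ∀ (R : Type u) [CommSemiring R] [Algebra A R] [Algebra A' R]
      [IsScalarTower A A' R] (x w : R ⊗[A] B),
      F.toFun' R (x + w * Algebra.TensorProduct.map (IsScalarTower.toAlgHom A A' R)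
        (AlgHom.id A B) b') = F.toFun' R x := Iff.rfl

theorem rTensor_eq_map {S S' : Type u} [CommSemiring S] [Algebra A S] [CommSemiring S']
    [Algebra A S'] (M : Type u) [CommRing M] [Algebra A M] (φ : S →ₐ[A] S') (z : S ⊗[A] M) :
    (φ.toLinearMap.rTensor M) z = (Algebra.TensorProduct.map φ (AlgHom.id A M)) z := by
  induction z using TensorProduct.induction_on with
  | zero => simp
  | tmul a b => rfl
  | add a b ha hb => simp [ha, hb]

theorem map_map_apply {R1 R2 R3 : Type u} [CommSemiring R1] [Algebra A R1] [CommSemiring R2]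
    [Algebra A R2] [CommSemiring R3] [Algebra A R3] (f : R1 →ₐ[A] R2) (g : R2 →ₐ[A] R3)
    (z : R1 ⊗[A] B) :
    Algebra.TensorProduct.map g (AlgHom.id A B)
      (Algebra.TensorProduct.map f (AlgHom.id A B) z) =
      Algebra.TensorProduct.map (g.comp f) (AlgHom.id A B) z := by
  induction z using TensorProduct.induction_on with
  | zero => simp
  | tmul a b => rfl
  | add a b ha hb => simp [ha, hb]

theorem map_id_apply' {R1 : Type u} [CommSemiring R1] [Algebra A R1] (z : R1 ⊗[A] B) :
    Algebra.TensorProduct.map (AlgHom.id A R1) (AlgHom.id A B) z = z := by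
  induction z using TensorProduct.induction_on with
  | zero => simp
  | tmul a b => rfl
  | add a b ha hb => simp [ha, hb]

/-- `(s ⊗ 1) * y = s • y`. -/
theorem tmul_one_mul {S : Type u} [CommSemiring S] [Algebra A S] (s : S) (y : S ⊗[A] B) :
    (s ⊗ₜ[A] (1 : B)) * y = s • y := by
  induction y using TensorProduct.induction_on with
  | zero => simp
  | tmul a b => simp [TensorProduct.smul_tmul']
  | add a b ha hb => simp [mul_add, ha, hb]

/-- easy inclusion, for any base change `A'` -/
theorem map_ker_le (F : B →ₚₗ[A] C) (A' : Type u) [CommRing A'] [Algebra A A'] :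
    (PolLaw.ker F).map
      (Algebra.TensorProduct.includeRight : B →ₐ[A] A' ⊗[A] B) ≤ PolLaw.kerBC F A' := by
  rw [Ideal.map_le_iff_le_comap]
  intro b hb
  rw [Ideal.mem_comap, mem_kerBC_iff]
  intro R _ _ _ _ x w
  rw [mem_ker_iff] at hb
  have := hb R x w
  simpa using this

/-- naturality of `rid` with respect to algebra maps of the test ring -/
theorem rid_rTensor {S S' : Type u} [CommSemiring S] [Algebra A S] [CommSemiring S']
    [Algebra A S'] (φ : S →ₐ[A] S') (u : S ⊗[A] A) :
    TensorProduct.rid A S' (φ.toLinearMap.rTensor A u) = φ (TensorProduct.rid A S u) := by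
  induction u using TensorProduct.induction_on with
  | zero => simp
  | tmul s a => simp
  | add a b ha hb => simp [ha, hb]

/-- expressing elements of `S ⊗ B` through a finite generating family of `B` -/
theorem exists_sum_tmul {n : ℕ} (s : Fin n → B) (hs : Submodule.span A (Set.range s) = ⊤)
    {S : Type u} [CommSemiring S] [Algebra A S] (x : S ⊗[A] B) :
    ∃ c : Fin n → S, x = ∑ i, c i ⊗ₜ[A] s i := by
  induction x using TensorProduct.induction_on with
  | zero => exact ⟨0, by simp⟩
  | tmul t b =>
    have hb : b ∈ Submodule.span A (Set.range s) := by rw [hs]; trivial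
    obtain ⟨a, rfl⟩ := (Submodule.mem_span_range_iff_exists_fun A).mp hb
    refine ⟨fun i => a i • t, ?_⟩
    rw [TensorProduct.tmul_sum]
    refine Finset.sum_congr rfl fun i _ => ?_
    rw [TensorProduct.tmul_smul, TensorProduct.smul_tmul']
  | add x y hx hy =>
    obtain ⟨c, rfl⟩ := hx
    obtain ⟨c', rfl⟩ := hy
    exact ⟨c + c', by simp [TensorProduct.add_tmul, Finset.sum_add_distrib]⟩

theorem eval_eq_of_smul_eq {S : Type u} [CommSemiring S] [Algebra A S] (m : A)
    (P : Polynomial S) (q : S) (h0 : P.eval 0 = q) (hm : m • P = m • Polynomial.C q) :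
    P.eval (algebraMap A S m) = q := by
  have hk : ∀ k, m • P.coeff (k + 1) = 0 := fun k => by
    have := congrArg (fun p => Polynomial.coeff p (k + 1)) hm
    simpa [Polynomial.coeff_smul, Polynomial.coeff_C] using this
  rw [Polynomial.eval_eq_sum_range, Finset.sum_range_succ']
  rw [Finset.sum_eq_zero, zero_add, pow_zero, mul_one, Polynomial.coeff_zero_eq_eval_zero, h0]
  intro k _
  rw [pow_succ', ← mul_assoc, mul_comm (P.coeff (k + 1)), ← Algebra.smul_def, hk, zero_mul]

section Ttrick

variable {S : Type u} [CommSemiring S] [Algebra A S]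

/-- evaluation `T ↦ r` as an `A`-algebra map -/
noncomputable def ev (r : S) : Polynomial S →ₐ[A] S := (Polynomial.aeval r).restrictScalars A

theorem ev_apply (r : S) (p : Polynomial S) : ev (A := A) r p = p.eval r := by
  simp [ev, Polynomial.coe_aeval_eq_eval]

theorem ev_comp_C (r : S) :
    (ev (A := A) r).comp (Polynomial.CAlgHom : S →ₐ[A] Polynomial S) = AlgHom.id A S := by
  ext a
  simp [ev, Polynomial.CAlgHom]

theorem evB_CB (r : S) (z : S ⊗[A] B) :
    Algebra.TensorProduct.map (ev (A := A) r) (AlgHom.id A B)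
      (Algebra.TensorProduct.map (Polynomial.CAlgHom : S →ₐ[A] Polynomial S) (AlgHom.id A B) z)
      = z := by
  rw [map_map_apply, ev_comp_C, map_id_apply']

theorem eval_rid (F : B →ₚₗ[A] A) (y : Polynomial S ⊗[A] B) (r : S) :
    (TensorProduct.rid A (Polynomial S) (F.toFun' (Polynomial S) y)).eval r =
      TensorProduct.rid A S
        (F.toFun' S (Algebra.TensorProduct.map (ev (A := A) r) (AlgHom.id A B) y)) := by
  have h := rid_rTensor (ev (A := A) r) (F.toFun' (Polynomial S) y)
  rw [PolynomialLaw.isCompat_apply', rTensor_eq_map, ev_apply] at h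
  exact h.symm

theorem C_rid (F : B →ₚₗ[A] A) (x : S ⊗[A] B) :
    TensorProduct.rid A (Polynomial S) (F.toFun' (Polynomial S)
      (Algebra.TensorProduct.map (Polynomial.CAlgHom : S →ₐ[A] Polynomial S) (AlgHom.id A B) x))
      = Polynomial.C (TensorProduct.rid A S (F.toFun' S x)) := by
  have h := rid_rTensor (Polynomial.CAlgHom : S →ₐ[A] Polynomial S) (F.toFun' S x)
  rw [PolynomialLaw.isCompat_apply', rTensor_eq_map] at h
  exact h

/-- evaluating the universal element `ι x + (T • ι w) (1 ⊗ b)` at `T ↦ r` -/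
theorem evB_univ (x w : S ⊗[A] B) (b : B) (r : S) :
    Algebra.TensorProduct.map (ev (A := A) r) (AlgHom.id A B)
      (Algebra.TensorProduct.map (Polynomial.CAlgHom : S →ₐ[A] Polynomial S) (AlgHom.id A B) x +
        ((Polynomial.X : Polynomial S) •
          Algebra.TensorProduct.map (Polynomial.CAlgHom : S →ₐ[A] Polynomial S) (AlgHom.id A B) w) *
          ((1 : Polynomial S) ⊗ₜ[A] b)) =
      x + (r • w) * ((1 : S) ⊗ₜ[A] b) := by
  rw [map_add, map_mul, ← tmul_one_mul, map_mul, evB_CB, evB_CB, Algebra.TensorProduct.map_tmul,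
    Algebra.TensorProduct.map_tmul, ev_apply, Polynomial.eval_X, map_one, map_one, tmul_one_mul,
    AlgHom.id_apply]

end Ttrick

/-- The T-trick: if `m • F(x + w b) = m • F x` identically, then `m • b ∈ ker F`. -/
theorem smul_mem_ker_of_forall (F : B →ₚₗ[A] A) (m : A) (b : B)
    (h : ∀ (S : Type u) [CommSemiring S] [Algebra A S] (x w : S ⊗[A] B),
      m • F.toFun' S (x + w * (1 ⊗ₜ[A] b)) = m • F.toFun' S x) :
    m • b ∈ PolLaw.ker F := by
  rw [mem_ker_iff]
  intro S _ _ x w
  let ιB := Algebra.TensorProduct.map (Polynomial.CAlgHom : S →ₐ[A] Polynomial S) (AlgHom.id A B)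
  -- the element over `S[T]`
  have hy : ∀ r : S, Algebra.TensorProduct.map (ev (A := A) r) (AlgHom.id A B)
      (ιB x + ((Polynomial.X : Polynomial S) • ιB w) * ((1 : Polynomial S) ⊗ₜ[A] b)) =
      x + (r • w) * ((1 : S) ⊗ₜ[A] b) := by
    intro r
    rw [map_add, map_mul, ← tmul_one_mul, map_mul]
    simp only [ιB]
    rw [evB_CB, evB_CB, Algebra.TensorProduct.map_tmul, Algebra.TensorProduct.map_tmul, ev_apply,
      Polynomial.eval_X, map_one, map_one, tmul_one_mul, AlgHom.id_apply]
  have h1 := h (Polynomial S) (ιB x) ((Polynomial.X : Polynomial S) • ιB w)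
  have h2 := congrArg (TensorProduct.rid A (Polynomial S)) h1
  rw [map_smul, map_smul, C_rid] at h2
  have h0 : (TensorProduct.rid A (Polynomial S) (F.toFun' (Polynomial S)
      (ιB x + ((Polynomial.X : Polynomial S) • ιB w) * ((1 : Polynomial S) ⊗ₜ[A] b)))).eval 0 =
      TensorProduct.rid A S (F.toFun' S x) := by
    rw [eval_rid, hy, zero_smul, zero_mul, add_zero]
  have h3 := eval_eq_of_smul_eq m _ _ h0 h2
  rw [eval_rid, hy] at h3
  have h4 := (TensorProduct.rid A S).injective h3
  have h5 : (algebraMap A S m • w) * ((1 : S) ⊗ₜ[A] b) = w * ((1 : S) ⊗ₜ[A] (m • b)) := by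
    rw [algebraMap_smul, smul_mul_assoc, TensorProduct.tmul_smul, mul_smul_comm]
  rw [← h5]
  exact h4

end Groth.Agent.Lib.Helper20.PolLawKer
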