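import Mathlib

/-!
# Polynomial laws are determined by (and can be built from) compatible families on
polynomial rings in finitely many variables (Roby).  Helper for S13174 (helper20).
-/

set_option autoImplicit false
universe u v w
open scoped TensorProduct
open LinearMap TensorProduct

namespace Groth.Agent.Lib.Helper20.PolyLaw

variable {A : Type u} [CommRing A] {M : Type v} [AddCommGroup M] [Module A M]
  {N : Type w} [AddCommGroup N] [Module A N]

/-- A compatible family of maps on the polynomial rings `A[t_1..t_n]`. -/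
def Compat (T : ∀ n : ℕ, MvPolynomial (Fin n) A ⊗[A] M → MvPolynomial (Fin n) A ⊗[A] N) : Prop :=
  ∀ (n m : ℕ) (φ : MvPolynomial (Fin n) A →ₐ[A] MvPolynomial (Fin m) A),
    φ.toLinearMap.rTensor N ∘ T n = T m ∘ φ.toLinearMap.rTensor M

variable {T : ∀ n : ℕ, MvPolynomial (Fin n) A ⊗[A] M → MvPolynomial (Fin n) A ⊗[A] N}

theorem Compat.apply (hT : Compat T) {n m : ℕ}
    (φ : MvPolynomial (Fin n) A →ₐ[A] MvPolynomial (Fin m) A) (q : MvPolynomial (Fin n) A ⊗[A] M) :
    φ.toLinearMap.rTensor N (T n q) = T m (φ.toLinearMap.rTensor M q) :=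
  congr_fun (hT n m φ) q

section Ring

variable {S : Type*} [CommRing S] [Algebra A S]

theorem lemmaA (hT : Compat T) {n m : ℕ}
    (g : MvPolynomial (Fin n) A →ₐ[A] MvPolynomial (Fin m) A)
    (Ψ : MvPolynomial (Fin m) A →ₐ[A] S) (q : MvPolynomial (Fin n) A ⊗[A] M) :
    Ψ.toLinearMap.rTensor N (T m (g.toLinearMap.rTensor M q)) =
      (Ψ.comp g).toLinearMap.rTensor N (T n q) := by
  rw [← hT.apply, AlgHom.comp_toLinearMap, LinearMap.rTensor_comp, LinearMap.comp_apply]

theorem lemmaB (hT : Compat T) {n : ℕ} (Ψ : MvPolynomial (Fin n) A →ₐ[A] S)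
    (i : MvPolynomial (Fin n) A) (hi : Ψ i = 0) (m : M) (Q : MvPolynomial (Fin n) A ⊗[A] M) :
    Ψ.toLinearMap.rTensor N (T n (Q + i ⊗ₜ[A] m)) = Ψ.toLinearMap.rTensor N (T n Q) := by
  classical
  let ι : MvPolynomial (Fin n) A →ₐ[A] MvPolynomial (Fin (n + 1)) A :=
    MvPolynomial.rename Fin.castSucc
  let c : MvPolynomial (Fin n) A → Fin (n + 1) → MvPolynomial (Fin n) A :=
    fun x j => if h : (j : ℕ) < n then MvPolynomial.X ⟨j, h⟩ else x
  let α : MvPolynomial (Fin (n + 1)) A →ₐ[A] MvPolynomial (Fin n) A := MvPolynomial.aeval (c i)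
  let β : MvPolynomial (Fin (n + 1)) A →ₐ[A] MvPolynomial (Fin n) A := MvPolynomial.aeval (c 0)
  have hαι : α.comp ι = AlgHom.id A _ := by
    apply MvPolynomial.algHom_ext; intro j
    simp [α, ι, c]
  have hβι : β.comp ι = AlgHom.id A _ := by
    apply MvPolynomial.algHom_ext; intro j
    simp [β, ι, c]
  have hαβ : Ψ.comp α = Ψ.comp β := by
    apply MvPolynomial.algHom_ext; intro j
    simp only [AlgHom.comp_apply, α, β, MvPolynomial.aeval_X, c]
    split_ifs with h
    · rfl
    · rw [hi, map_zero]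
  let Z : MvPolynomial (Fin (n + 1)) A ⊗[A] M :=
    ι.toLinearMap.rTensor M Q + MvPolynomial.X (Fin.last n) ⊗ₜ m
  have hαZ : α.toLinearMap.rTensor M Z = Q + i ⊗ₜ m := by
    simp only [Z, map_add, rTensor_tmul, AlgHom.toLinearMap_apply]
    rw [← LinearMap.comp_apply, ← rTensor_comp, ← AlgHom.comp_toLinearMap, hαι]
    simp [α, c]
  have hβZ : β.toLinearMap.rTensor M Z = Q := by
    simp only [Z, map_add, rTensor_tmul, AlgHom.toLinearMap_apply]
    rw [← LinearMap.comp_apply, ← rTensor_comp, ← AlgHom.comp_toLinearMap, hβι]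
    simp [β, c]
  rw [← hαZ, lemmaA hT, hαβ, ← lemmaA hT, hβZ]

theorem lemmaC (hT : Compat T) {n : ℕ} (Ψ : MvPolynomial (Fin n) A →ₐ[A] S)
    (K : Submodule A (MvPolynomial (Fin n) A)) (hK : ∀ x ∈ K, Ψ x = 0) (d : K ⊗[A] M) :
    ∀ Q : MvPolynomial (Fin n) A ⊗[A] M,
      Ψ.toLinearMap.rTensor N (T n (Q + K.subtype.rTensor M d)) =
        Ψ.toLinearMap.rTensor N (T n Q) := by
  induction d using TensorProduct.induction_on with
  | zero => intro Q; simp
  | tmul x m =>
    intro Q
    simp only [rTensor_tmul, Submodule.subtype_apply]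
    exact lemmaB hT Ψ x (hK x x.2) m Q
  | add x y hx hy =>
    intro Q
    rw [map_add, ← add_assoc, hy, hx]

theorem lemmaD (hT : Compat T) {n : ℕ} (Ψ : MvPolynomial (Fin n) A →ₐ[A] S)
    (Q Q' : MvPolynomial (Fin n) A ⊗[A] M)
    (h : Ψ.rangeRestrict.toLinearMap.rTensor M Q = Ψ.rangeRestrict.toLinearMap.rTensor M Q') :
    Ψ.toLinearMap.rTensor N (T n Q) = Ψ.toLinearMap.rTensor N (T n Q') := by
  set g : MvPolynomial (Fin n) A →ₗ[A] Ψ.range := Ψ.rangeRestrict.toLinearMap with hg
  have hex := rTensor_exact M (LinearMap.exact_subtype_ker_map g) (Ψ.rangeRestrict_surjective)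
  have h0 : g.rTensor M (Q - Q') = 0 := by rw [map_sub, h, sub_self]
  obtain ⟨d, hd⟩ := (hex (Q - Q')).1 h0
  have hQ : Q = Q' + (LinearMap.ker g).subtype.rTensor M d := by rw [hd]; abel
  rw [hQ]
  apply lemmaC hT Ψ (LinearMap.ker g) _ d Q'
  intro x hx
  have h1 : g x = 0 := hx
  have h2 := congrArg Subtype.val h1
  simpa [hg] using h2

theorem exists_factor {n m : ℕ} (ψ : MvPolynomial (Fin n) A →ₐ[A] S)
    (Ψ : MvPolynomial (Fin m) A →ₐ[A] S) (h : ψ.range ≤ Ψ.range) :
    ∃ g : MvPolynomial (Fin n) A →ₐ[A] MvPolynomial (Fin m) A, Ψ.comp g = ψ := by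
  have : ∀ j : Fin n, ∃ c, Ψ c = ψ (MvPolynomial.X j) := fun j => h ⟨MvPolynomial.X j, rfl⟩
  choose c hc using this
  refine ⟨MvPolynomial.aeval c, ?_⟩
  apply MvPolynomial.algHom_ext; intro j
  simp [hc]

theorem lemmaW (hT : Compat T) {n n' : ℕ} (ψ : MvPolynomial (Fin n) A →ₐ[A] S)
    (ψ' : MvPolynomial (Fin n') A →ₐ[A] S) (q : MvPolynomial (Fin n) A ⊗[A] M)
    (q' : MvPolynomial (Fin n') A ⊗[A] M)
    (h : ψ.toLinearMap.rTensor M q = ψ'.toLinearMap.rTensor M q') :
    ψ.toLinearMap.rTensor N (T n q) = ψ'.toLinearMap.rTensor N (T n' q') := by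
  set u := rTensor M ψ.rangeRestrict.toLinearMap q with hu
  have uFG : Subalgebra.FG (R := A) ψ.range := by
    rw [← Algebra.map_top]
    exact Subalgebra.FG.map _ Algebra.FiniteType.out
  set u' := rTensor M ψ'.rangeRestrict.toLinearMap q' with hu'
  have u'FG : Subalgebra.FG (R := A) ψ'.range := by
    rw [← Algebra.map_top]
    exact Subalgebra.FG.map _ Algebra.FiniteType.out
  have huu' : rTensor M (Subalgebra.val _).toLinearMap u =
      rTensor M (Subalgebra.val _).toLinearMap u' := by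
    simp only [hu, hu', ← LinearMap.comp_apply, ← rTensor_comp, ← AlgHom.comp_toLinearMap,
      AlgHom.val_comp_rangeRestrict, h]
  obtain ⟨B, hAB, hA'B, hBfg, hB⟩ :=
    TensorProduct.Algebra.eq_of_fg_of_subtype_eq' (R := A) uFG u'FG huu'
  obtain ⟨t, ht⟩ := PolynomialLaw.exists_range_φ_eq_of_fg hBfg
  set Ψ := PolynomialLaw.φ A t with hΨ
  have hBΨ : B ≤ Ψ.range := le_of_eq ht.symm
  obtain ⟨g, hg⟩ := exists_factor ψ Ψ (hAB.trans hBΨ)
  obtain ⟨g', hg'⟩ := exists_factor ψ' Ψ (hA'B.trans hBΨ)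
  have e1 : Ψ.rangeRestrict.comp g = (Subalgebra.inclusion (hAB.trans hBΨ)).comp ψ.rangeRestrict := by
    ext x
    exact DFunLike.congr_fun hg (MvPolynomial.X x)
  have e2 : Ψ.rangeRestrict.comp g' =
      (Subalgebra.inclusion (hA'B.trans hBΨ)).comp ψ'.rangeRestrict := by
    ext x
    exact DFunLike.congr_fun hg' (MvPolynomial.X x)
  have key : Ψ.rangeRestrict.toLinearMap.rTensor M (g.toLinearMap.rTensor M q) =
      Ψ.rangeRestrict.toLinearMap.rTensor M (g'.toLinearMap.rTensor M q') := by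
    rw [← LinearMap.comp_apply, ← rTensor_comp, ← AlgHom.comp_toLinearMap, e1,
      ← LinearMap.comp_apply, ← rTensor_comp, ← AlgHom.comp_toLinearMap, e2]
    have i1 : Subalgebra.inclusion (hAB.trans hBΨ) =
        (Subalgebra.inclusion hBΨ).comp (Subalgebra.inclusion hAB) := by ext; rfl
    have i2 : Subalgebra.inclusion (hA'B.trans hBΨ) =
        (Subalgebra.inclusion hBΨ).comp (Subalgebra.inclusion hA'B) := by ext; rfl
    rw [i1, i2]
    simp only [AlgHom.comp_toLinearMap, rTensor_comp, LinearMap.comp_apply]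
    rw [← hu, ← hu', hB]
  have := lemmaD hT Ψ _ _ key
  rw [lemmaA hT, lemmaA hT, hg, hg'] at this
  exact this

end Ring

/-- A commutative semiring which is an algebra over a commutative ring is a commutative ring. -/
abbrev toCommRing (A : Type*) (S : Type*) [CommRing A] [CommSemiring S] [Algebra A S] :
    CommRing S :=
  { Algebra.semiringToRing A with mul_comm := mul_comm }

theorem lemmaW' {S : Type*} [CommSemiring S] [Algebra A S] (hT : Compat T) {n n' : ℕ}
    (ψ : MvPolynomial (Fin n) A →ₐ[A] S)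
    (ψ' : MvPolynomial (Fin n') A →ₐ[A] S) (q : MvPolynomial (Fin n) A ⊗[A] M)
    (q' : MvPolynomial (Fin n') A ⊗[A] M)
    (h : ψ.toLinearMap.rTensor M q = ψ'.toLinearMap.rTensor M q') :
    ψ.toLinearMap.rTensor N (T n q) = ψ'.toLinearMap.rTensor N (T n' q') :=
  @lemmaW A _ M _ _ N _ _ T S (toCommRing A S) _ hT n n' ψ ψ' q q' h

/-- The polynomial law attached to a compatible family. -/
noncomputable def lawOf (T : ∀ n : ℕ, MvPolynomial (Fin n) A ⊗[A] M → MvPolynomial (Fin n) A ⊗[A] N)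
    (hT : Compat T) : M →ₚₗ[A] N where
  toFun' S _ _ p :=
    let h := PolynomialLaw.exists_lift (R := A) (M := M) (S := S) p
    (h.choose_spec.choose).toLinearMap.rTensor N (T h.choose h.choose_spec.choose_spec.choose)
  isCompat' {S _ _ S' _ _} φ := by
    funext p
    simp only [Function.comp_apply]
    have h := PolynomialLaw.exists_lift (R := A) (M := M) (S := S) p
    have h' := PolynomialLaw.exists_lift (R := A) (M := M) (S := S') (φ.toLinearMap.rTensor M p)
    rw [← LinearMap.comp_apply, ← rTensor_comp, ← AlgHom.comp_toLinearMap]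
    apply lemmaW' hT
    rw [AlgHom.comp_toLinearMap, rTensor_comp, LinearMap.comp_apply,
      h.choose_spec.choose_spec.choose_spec, h'.choose_spec.choose_spec.choose_spec]

theorem lawOf_apply (hT : Compat T) {S : Type u} [CommSemiring S] [Algebra A S] {n : ℕ}
    (ψ : MvPolynomial (Fin n) A →ₐ[A] S) (q : MvPolynomial (Fin n) A ⊗[A] M) :
    (lawOf T hT).toFun' S (ψ.toLinearMap.rTensor M q) = ψ.toLinearMap.rTensor N (T n q) := by
  have h := PolynomialLaw.exists_lift (R := A) (M := M) (S := S) (ψ.toLinearMap.rTensor M q)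
  exact lemmaW' hT _ _ _ _ h.choose_spec.choose_spec.choose_spec

theorem lawOf_restrict (hT : Compat T) (n : ℕ) :
    (lawOf T hT).toFun' (MvPolynomial (Fin n) A) = T n := by
  funext q
  have := lawOf_apply hT (AlgHom.id A (MvPolynomial (Fin n) A)) q
  simpa using this

/-- A polynomial law is determined by its restriction to polynomial rings. -/
theorem law_ext {F G : M →ₚₗ[A] N}
    (h : ∀ n, F.toFun' (MvPolynomial (Fin n) A) = G.toFun' (MvPolynomial (Fin n) A)) : F = G := by
  apply PolynomialLaw.ext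
  funext S _ _ p
  obtain ⟨n, ψ, q, rfl⟩ := PolynomialLaw.exists_lift (R := A) (M := M) (S := S) p
  have h1 := congr_fun (F.isCompat' ψ) q
  have h2 := congr_fun (G.isCompat' ψ) q
  simp only [Function.comp_apply] at h1 h2
  rw [← h1, ← h2, h n]

end Groth.Agent.Lib.Helper20.PolyLaw
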