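import Mathlib
import Groth.Prelude.Def_PolLaw
import Groth.Agent.Lib.Helper20.PolLawKer
import Groth.Agent.Lib.Helper20.PolyLaw

/-!
# Descent of polynomial laws to a quotient algebra (helper20)

If `π : B → B'` is a surjective algebra map and a law `G` on `B` kills `ker π` (in the sense of
`PolLaw.ker`), then `G` descends to a law on `B'`; multiplicative homogeneous laws descend to
multiplicative homogeneous laws.
-/

set_option autoImplicit false
universe u
open scoped TensorProduct

namespace Groth.Agent.Lib.Helper20.PolLawQuot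

open Groth.Agent.Lib.Helper20.PolLawKer

variable {A : Type u} [CommRing A] {B B' : Type u} [CommRing B] [Algebra A B] [CommRing B']
  [Algebra A B'] {N : Type u} [AddCommGroup N] [Module A N]

/-- the law `G` kills the kernel of `π` -/
def KerCond (G : B →ₚₗ[A] N) (π : B →ₐ[A] B') : Prop :=
  ∀ b : B, π b = 0 → ∀ (S : Type u) [CommSemiring S] [Algebra A S] (x w : S ⊗[A] B),
    G.toFun' S (x + w * ((1 : S) ⊗ₜ[A] b)) = G.toFun' S x

theorem eq_of_lTensor_eq_ring (G : B →ₚₗ[A] N) (π : B →ₐ[A] B') (hπ : Function.Surjective π)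
    (hker : KerCond G π) (S : Type u) [CommRing S] [Algebra A S] (x x' : S ⊗[A] B)
    (h : π.toLinearMap.lTensor S x = π.toLinearMap.lTensor S x') :
    G.toFun' S x = G.toFun' S x' := by
  have hex := lTensor_exact S (LinearMap.exact_subtype_ker_map π.toLinearMap) hπ
  have hk : π.toLinearMap.lTensor S (x' - x) = 0 := by rw [map_sub, h, sub_self]
  obtain ⟨k₀, hk₀⟩ := (hex (x' - x)).mp hk
  have key : ∀ (k₀ : S ⊗[A] (LinearMap.ker π.toLinearMap)) (x : S ⊗[A] B),
      G.toFun' S (x + (LinearMap.ker π.toLinearMap).subtype.lTensor S k₀) = G.toFun' S x := by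
    intro k₀
    induction k₀ using TensorProduct.induction_on with
    | zero => intro x; simp
    | tmul s b =>
      intro x
      have hsb : (LinearMap.ker π.toLinearMap).subtype.lTensor S (s ⊗ₜ[A] b) =
          (s ⊗ₜ[A] (1 : B)) * ((1 : S) ⊗ₜ[A] (b : B)) := by
        rw [LinearMap.lTensor_tmul, Algebra.TensorProduct.tmul_mul_tmul, mul_one, one_mul]
        rfl
      rw [hsb]
      exact hker b.1 b.2 S x _
    | add k₁ k₂ h₁ h₂ =>
      intro x
      rw [map_add, ← add_assoc, h₂, h₁]
  have h3 := key k₀ x
  rw [hk₀, add_sub_cancel] at h3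
  exact h3.symm

theorem eq_of_lTensor_eq (G : B →ₚₗ[A] N) (π : B →ₐ[A] B') (hπ : Function.Surjective π)
    (hker : KerCond G π) (S : Type u) [CommSemiring S] [Algebra A S] (x x' : S ⊗[A] B)
    (h : π.toLinearMap.lTensor S x = π.toLinearMap.lTensor S x') :
    G.toFun' S x = G.toFun' S x' := by
  letI := PolyLaw.toCommRing A S
  exact eq_of_lTensor_eq_ring G π hπ hker S x x' h

/-- the descended law -/
noncomputable def descend (G : B →ₚₗ[A] N) (π : B →ₐ[A] B') (hπ : Function.Surjective π)
    (hker : KerCond G π) : B' →ₚₗ[A] N where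
  toFun' S _ _ y :=
    G.toFun' S (Classical.choose (LinearMap.lTensor_surjective S (g := π.toLinearMap) hπ y))
  isCompat' {S _ _ S' _ _} φ := by
    funext y
    simp only [Function.comp_apply]
    have h1 := Classical.choose_spec (LinearMap.lTensor_surjective S (g := π.toLinearMap) hπ y)
    have h2 := Classical.choose_spec
      (LinearMap.lTensor_surjective S' (g := π.toLinearMap) hπ (φ.toLinearMap.rTensor B' y))
    rw [PolynomialLaw.isCompat_apply']
    apply eq_of_lTensor_eq G π hπ hker
    rw [h2, ← LinearMap.comp_apply, LinearMap.lTensor_comp_rTensor,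
      ← LinearMap.rTensor_comp_lTensor, LinearMap.comp_apply, h1]

theorem descend_apply (G : B →ₚₗ[A] N) (π : B →ₐ[A] B') (hπ : Function.Surjective π)
    (hker : KerCond G π) (S : Type u) [CommSemiring S] [Algebra A S] (x : S ⊗[A] B) :
    (descend G π hπ hker).toFun' S (π.toLinearMap.lTensor S x) = G.toFun' S x :=
  eq_of_lTensor_eq G π hπ hker S _ _
    (Classical.choose_spec (LinearMap.lTensor_surjective S (g := π.toLinearMap) hπ _))

/-- descent of multiplicative homogeneous laws -/
noncomputable def descendMul {C : Type u} [CommRing C] [Algebra A C] {d : ℕ}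
    (G : PolLaw.MulLaw A B C d) (π : B →ₐ[A] B') (hπ : Function.Surjective π)
    (hker : KerCond G.law π) : PolLaw.MulLaw A B' C d where
  law := descend G.law π hπ hker
  homog S _ _ s y := by
    obtain ⟨x, rfl⟩ := LinearMap.lTensor_surjective S (g := π.toLinearMap) hπ y
    have hs : s • π.toLinearMap.lTensor S x = π.toLinearMap.lTensor S (s • x) := by
      rw [PolLaw.lTensor_algHom_apply, PolLaw.lTensor_algHom_apply, map_smul]
    rw [hs, descend_apply, descend_apply, G.homog]
  mult S _ _ := by
    refine ⟨?_, fun y y' => ?_⟩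
    · have h1 : (1 : S ⊗[A] B') = π.toLinearMap.lTensor S 1 := by
        rw [PolLaw.lTensor_algHom_apply, map_one]
      rw [h1, descend_apply, (G.mult S).1]
    · obtain ⟨x, rfl⟩ := LinearMap.lTensor_surjective S (g := π.toLinearMap) hπ y
      obtain ⟨x', rfl⟩ := LinearMap.lTensor_surjective S (g := π.toLinearMap) hπ y'
      have hm : π.toLinearMap.lTensor S x * π.toLinearMap.lTensor S x' =
          π.toLinearMap.lTensor S (x * x') := by
        rw [PolLaw.lTensor_algHom_apply, PolLaw.lTensor_algHom_apply,
          PolLaw.lTensor_algHom_apply, map_mul]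
      rw [hm, descend_apply, descend_apply, descend_apply, (G.mult S).2]

theorem descendMul_apply {C : Type u} [CommRing C] [Algebra A C] {d : ℕ}
    (G : PolLaw.MulLaw A B C d) (π : B →ₐ[A] B') (hπ : Function.Surjective π)
    (hker : KerCond G.law π) (S : Type u) [CommSemiring S] [Algebra A S] (x : S ⊗[A] B) :
    (descendMul G π hπ hker).law.toFun' S (π.toLinearMap.lTensor S x) = G.law.toFun' S x :=
  descend_apply G.law π hπ hker S x

end Groth.Agent.Lib.Helper20.PolLawQuot
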