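import Groth.Agent.Lib.Helper20.FrobLift

/-!
# Helper library (helper20): first order Taylor expansion for `MvPolynomial.eval₂` and the standard
Frobenius lift `FrobAlg.polyFrob` of a polynomial ring over `W₂(k)`.
-/

set_option autoImplicit false
universe u v

namespace Groth.Agent.Lib.Helper20

open FrobAlg MvPolynomial

section taylor

variable {σ : Type*} [Fintype σ] {W₀ S : Type*} [CommRing W₀] [CommRing S]

/-- First order Taylor expansion at a point displaced by a vector with `e i * e j = 0`. -/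
theorem eval₂_add_of_mul_eq_zero (ψ : W₀ →+* S) (a e : σ → S) (he : ∀ i j, e i * e j = 0)
    (g : MvPolynomial σ W₀) :
    eval₂ ψ (a + e) g = eval₂ ψ a g + ∑ j, eval₂ ψ a (pderiv j g) * e j := by
  induction g using MvPolynomial.induction_on with
  | C c => simp [eval₂_C, pderiv_C]
  | add g₁ g₂ h₁ h₂ =>
    rw [eval₂_add, h₁, h₂, eval₂_add]
    simp only [map_add, eval₂_add, add_mul, Finset.sum_add_distrib]
    ring
  | mul_X g i hg =>
    rw [eval₂_mul, eval₂_X, hg, eval₂_mul, eval₂_X, Pi.add_apply]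
    have hsum : ∑ j, eval₂ ψ a (pderiv j (g * X i)) * e j =
        (∑ j, eval₂ ψ a (pderiv j g) * e j) * a i + eval₂ ψ a g * e i := by
      simp only [pderiv_mul, eval₂_add, eval₂_mul, eval₂_X, add_mul, Finset.sum_add_distrib]
      congr 1
      · rw [Finset.sum_mul]
        refine Finset.sum_congr rfl (fun j _ => ?_)
        ring
      · rw [Finset.sum_eq_single i]
        · rw [pderiv_X_self, eval₂_one, mul_one]
        · intro j _ hji
          rw [pderiv_X_of_ne (Ne.symm hji), eval₂_zero, mul_zero, zero_mul]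
        · intro hi
          exact absurd (Finset.mem_univ i) hi
    have hzero : (∑ j, eval₂ ψ a (pderiv j g) * e j) * e i = 0 := by
      rw [Finset.sum_mul]
      apply Finset.sum_eq_zero
      intro j _
      rw [mul_assoc, he, mul_zero]
    rw [hsum]
    linear_combination hzero

end taylor

section polyfrob

variable (p : ℕ) [Fact p.Prime] (k : Type u) [Field k] [CharP k p] [PerfectRing k p]
  (σ : Type v)

theorem mvPoly_p_mul_p : (p : MvPolynomial σ (W2 p k)) * (p : MvPolynomial σ (W2 p k)) = 0 := by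
  have := congrArg (C : W2 p k →+* MvPolynomial σ (W2 p k)) (p_mul_p p k)
  simpa using this

theorem ker_map_res : RingHom.ker (MvPolynomial.map (σ := σ) (res p k)) =
    Ideal.span {(p : MvPolynomial σ (W2 p k))} := by
  rw [MvPolynomial.ker_map, ker_res, Ideal.map_span, Set.image_singleton, map_natCast]

theorem polyFrob_C (w : W2 p k) : polyFrob p k σ (C w) = C (sigma p k w) := by
  unfold polyFrob
  rw [eval₂Hom_C]
  rfl

theorem polyFrob_X (i : σ) : polyFrob p k σ (X i) = X i ^ p := by
  unfold polyFrob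
  rw [eval₂Hom_X']

/-- The standard Frobenius lift is congruent to the `p`-th power map modulo `p`. -/
theorem polyFrob_sub_pow_mem (g : MvPolynomial σ (W2 p k)) :
    polyFrob p k σ g - g ^ p ∈ Ideal.span {(p : MvPolynomial σ (W2 p k))} := by
  have hp : p.Prime := Fact.out
  induction g using MvPolynomial.induction_on with
  | C w =>
    obtain ⟨v, hv⟩ := exists_sigma_eq p k w
    rw [polyFrob_C, hv, ← map_pow, ← map_sub, add_sub_cancel_left, map_mul, map_natCast]
    exact Ideal.mem_span_singleton.mpr ⟨_, rfl⟩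
  | add g₁ g₂ h₁ h₂ =>
    rw [map_add, add_pow_eq_Wp hp]
    have : polyFrob p k σ g₁ + polyFrob p k σ g₂ - (g₁ ^ p + g₂ ^ p + (p : MvPolynomial σ (W2 p k)) * Wp p g₁ g₂) =
        (polyFrob p k σ g₁ - g₁ ^ p) + (polyFrob p k σ g₂ - g₂ ^ p) -
          (p : MvPolynomial σ (W2 p k)) * Wp p g₁ g₂ := by ring
    rw [this]
    exact Ideal.sub_mem _ (Ideal.add_mem _ h₁ h₂) (Ideal.mem_span_singleton.mpr ⟨_, rfl⟩)
  | mul_X g i hg =>
    rw [map_mul, polyFrob_X, mul_pow, ← sub_mul]
    exact Ideal.mul_mem_right _ _ hg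

theorem p_mul_polyFrob (g : MvPolynomial σ (W2 p k)) :
    (p : MvPolynomial σ (W2 p k)) * polyFrob p k σ g = (p : MvPolynomial σ (W2 p k)) * g ^ p := by
  obtain ⟨t, ht⟩ := Ideal.mem_span_singleton.mp (polyFrob_sub_pow_mem p k σ g)
  have : polyFrob p k σ g = g ^ p + (p : MvPolynomial σ (W2 p k)) * t := by rw [← ht]; ring
  rw [this, mul_add, ← mul_assoc, mvPoly_p_mul_p, zero_mul, add_zero]

variable [Fintype σ]

/-- The `σ₂`-semilinear endomorphism with `x_j ↦ x_j ^ p - p h_j`. -/
noncomputable def frobWith (h : σ → MvPolynomial σ (W2 p k)) :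
    MvPolynomial σ (W2 p k) →+* MvPolynomial σ (W2 p k) :=
  eval₂Hom (C.comp (sigma p k)) (fun j => X j ^ p - (p : MvPolynomial σ (W2 p k)) * h j)

theorem frobWith_C (h : σ → MvPolynomial σ (W2 p k)) (w : W2 p k) :
    frobWith p k σ h (C w) = C (sigma p k w) := by
  unfold frobWith
  rw [eval₂Hom_C]
  rfl

theorem frobWith_X (h : σ → MvPolynomial σ (W2 p k)) (j : σ) :
    frobWith p k σ h (X j) = X j ^ p - (p : MvPolynomial σ (W2 p k)) * h j := by
  unfold frobWith
  rw [eval₂Hom_X']

theorem frobWith_apply (h : σ → MvPolynomial σ (W2 p k)) (g : MvPolynomial σ (W2 p k)) :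
    frobWith p k σ h g = polyFrob p k σ g -
      (p : MvPolynomial σ (W2 p k)) * ∑ j, pderiv j g ^ p * h j := by
  have hfun : (fun j => X j ^ p - (p : MvPolynomial σ (W2 p k)) * h j) =
      (fun j => (X j : MvPolynomial σ (W2 p k)) ^ p) +
        (fun j => -((p : MvPolynomial σ (W2 p k)) * h j)) := by
    funext j
    simp [sub_eq_add_neg]
  have he : ∀ i j, (-((p : MvPolynomial σ (W2 p k)) * h i)) * (-((p : MvPolynomial σ (W2 p k)) * h j)) = 0 := by
    intro i j
    calc (-((p : MvPolynomial σ (W2 p k)) * h i)) * (-((p : MvPolynomial σ (W2 p k)) * h j))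
        = ((p : MvPolynomial σ (W2 p k)) * (p : MvPolynomial σ (W2 p k))) * (h i * h j) := by ring
      _ = 0 := by rw [mvPoly_p_mul_p, zero_mul]
  unfold frobWith
  rw [coe_eval₂Hom, hfun, eval₂_add_of_mul_eq_zero _ _ _ he]
  have hpf : ∀ g', eval₂ (C.comp (sigma p k)) (fun j => (X j : MvPolynomial σ (W2 p k)) ^ p) g' =
      polyFrob p k σ g' := fun g' => rfl
  simp only [hpf]
  rw [sub_eq_add_neg, Finset.mul_sum, ← Finset.sum_neg_distrib]
  congr 1
  refine Finset.sum_congr rfl (fun j _ => ?_)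
  have := p_mul_polyFrob p k σ (pderiv j g)
  linear_combination (-(h j)) * this

end polyfrob

end Groth.Agent.Lib.Helper20
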