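import Mathlib

set_option autoImplicit false
universe u

namespace Groth.Agent.Lib.Helper20.ProCompl

open CategoryTheory ProfiniteGrp ProfiniteGrp.ProfiniteCompletion

variable (G : GrpCat.{u})

instance discrete_obj (H : FiniteIndexNormalSubgroup G) :
    DiscreteTopology ((diagram G).obj H) := ⟨rfl⟩

theorem continuous_eval (H : FiniteIndexNormalSubgroup G) :
    Continuous (fun x : completion G => x.val H) :=
  (continuous_apply H).comp continuous_subtype_val

theorem val_compat (x : completion G) {H K : FiniteIndexNormalSubgroup G} (h : H ≤ K) :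
    QuotientGroup.map _ _ (MonoidHom.id G) h (x.val H) = x.val K := x.property h.hom

theorem etaFn_val (g : G) (H : FiniteIndexNormalSubgroup G) :
    (etaFn G g).val H = QuotientGroup.mk g := rfl

variable {G}

theorem map_etaFn {G' : GrpCat.{u}} (f : G ⟶ G') (g : G) :
    (profiniteCompletion.map f).hom (etaFn G g) = etaFn G' (f.hom g) := by
  have h := ConcreteCategory.congr_hom (lift_eta (f ≫ eta G')) g
  exact h

/-- the map induced on finite quotients -/
def qmap {G' : GrpCat.{u}} (f : G ⟶ G') (H' : FiniteIndexNormalSubgroup G') :
    (diagram G).obj (H'.comap f.hom) → (diagram G').obj H' :=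
  fun q => QuotientGroup.map (H'.comap f.hom).toSubgroup H'.toSubgroup f.hom (le_refl _) q

/-- the component formula for the completion of a homomorphism -/
theorem map_val {G' : GrpCat.{u}} (f : G ⟶ G') (x : completion G)
    (H' : FiniteIndexNormalSubgroup G') :
    ((profiniteCompletion.map f).hom x).val H' = qmap f H' (x.val (H'.comap f.hom)) := by
  have hc1 : Continuous (fun x : completion G => ((profiniteCompletion.map f).hom x).val H') :=
    (continuous_eval G' H').comp (profiniteCompletion.map f).hom.continuous_toFun
  have hc2 : Continuous (fun x : completion G => qmap f H' (x.val (H'.comap f.hom))) :=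
    (continuous_of_discreteTopology (f := qmap f H')).comp (continuous_eval G (H'.comap f.hom))
  have h := Continuous.ext_on (denseRange G) hc1 hc2 (by
    rintro _ ⟨g, rfl⟩
    show ((profiniteCompletion.map f).hom (etaFn G g)).val H' = _
    rw [map_etaFn]
    rfl)
  exact congrFun h x

/-- basic neighbourhoods of a point of the completion -/
theorem exists_subgroup_nhds (x : completion G) (U : Set (completion G)) (hU : IsOpen U)
    (hx : x ∈ U) :
    ∃ M : FiniteIndexNormalSubgroup G, ∀ y : completion G, y.val M = x.val M → y ∈ U := by
  obtain ⟨s, hsO, hsv⟩ := isOpen_induced_iff.mp hU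
  have hx' : x.val ∈ s := by
    rw [← hsv] at hx
    exact hx
  rcases (isOpen_pi_iff.mp hsO) _ hx' with ⟨J, fJ, hJ1, hJ2⟩
  let M : Subgroup G := iInf fun (j : J) => j.val.toSubgroup
  have hM : M.Normal := Subgroup.normal_iInf_normal fun j => inferInstance
  have hMFinite : M.FiniteIndex := by
    apply Subgroup.finiteIndex_iInf
    infer_instance
  let m : FiniteIndexNormalSubgroup G := { toSubgroup := M }
  refine ⟨m, fun y hy => ?_⟩
  rw [← hsv]
  apply hJ2
  intro a haJ
  have hle : m ≤ a := iInf_le (fun (j : J) => (j.val.toSubgroup)) ⟨a, haJ⟩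
  show y.val a ∈ fJ a
  rw [← val_compat G y hle, hy, val_compat G x hle]
  exact (hJ1 a haJ).2

end Groth.Agent.Lib.Helper20.ProCompl
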