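import Groth.Agent.Lib.Helper3.VACore
import Groth.Agent.Lib.Helper3.VARel
import Groth.Agent.Lib.Helper20.Graded

/-!
# Very ampleness of `O(n)` on `Proj` from chart-wise generation (helper20)

`isVA_twist`: criterion for helper3's `VACore.IsVA` for `O(n)` on `Proj 𝒜` over `Spec R`.
`exists_closedImmersion_of_isVA`: upgrade to a closed immersion into `P^N_R` when `Proj` is proper.
-/

set_option autoImplicit false
set_option linter.unusedSectionVars false
universe u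
open CategoryTheory CategoryTheory.Limits AlgebraicGeometry TopologicalSpace Opposite
open Scheme.Modules

namespace Groth.Agent.Lib.Helper20.ProjVA

open Groth.Agent.Lib.Helper3
open QCSec InvGen TwistBasic GrTildeQC ProjFrac GrTildeHom ProjMapFn TwistProj PbBasic ToProj
  SecCoord VACore ProjPullGen ProjUniq

variable {R A : Type u} [CommRing R] [CommRing A] [Algebra R A] {𝒜 : ℕ → Submodule R A}
  [GradedAlgebra 𝒜]

variable (R 𝒜) in
/-- the structure morphism `Proj 𝒜 ⟶ Spec R` -/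
noncomputable abbrev fR : Proj 𝒜 ⟶ Spec (CommRingCat.of R) :=
  Proj.toSpecZero 𝒜 ≫ Spec.map (CommRingCat.ofHom (algebraMap R (𝒜 0)))

/-- transport of the generation condition along an equality of opens -/
theorem closure_eq_top_of_eq {n : ℕ} {κ : Type u} (b : κ → 𝒜 n) (k : κ) (g0 : A)
    (hg0 : Proj.basicOpen 𝒜 g0 ≤ Proj.basicOpen 𝒜 ((b k : A)))
    (hgen : Subring.closure (Set.range ((fR R 𝒜).appLE ⊤ (Proj.basicOpen 𝒜 g0) le_top).hom ∪
      Set.range (fun k' => fn (Proj.basicOpen 𝒜 g0) ((b k' : A)) ((b k : A)))) = ⊤)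
    (U : (Proj 𝒜).Opens) (hU : U = Proj.basicOpen 𝒜 g0) (h : U ≤ (fR R 𝒜) ⁻¹ᵁ ⊤)
    (ρ : κ → Γ(Proj 𝒜, U))
    (hρ : ∀ k', ρ k' • res (Twist.twist 𝒜 (n : ℤ)) (le_top : U ≤ ⊤) (gsec (b k)) =
      res (Twist.twist 𝒜 (n : ℤ)) (le_top : U ≤ ⊤) (gsec (b k'))) :
    Subring.closure (Set.range ((fR R 𝒜).appLE ⊤ U h).hom ∪ Set.range ρ) = ⊤ := by
  subst hU
  have hρ' : ρ = fun k' => fn (Proj.basicOpen 𝒜 g0) ((b k' : A)) ((b k : A)) := by
    funext k'
    have hgen' : IsGenAt (Twist.twist 𝒜 (n : ℤ)) (Proj.basicOpen 𝒜 g0)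
        (res (Twist.twist 𝒜 (n : ℤ)) (le_top : Proj.basicOpen 𝒜 g0 ≤ ⊤) (gsec (b k))) :=
      (isGen_res_gsec (b k) hg0).self
    apply hgen'.smul_inj
    rw [hρ k']
    exact res_gsec_eq_fn_smul (b k).2 hg0 (b k').2
  rw [hρ']
  exact hgen

/-- **Criterion**: `O(n)` on `Proj 𝒜` satisfies helper3's very-ampleness data `IsVA` relative to
`Spec R` as soon as finitely many `b k ∈ 𝒜 n` are given, the `D₊(b k)`, `k ∈ K`, cover, and on
each such chart the functions are generated by `R` and the ratios `b k' / b k`. -/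
theorem isVA_twist {n : ℕ} (hn : 0 < n) {κ : Type u} [Finite κ] (b : κ → 𝒜 n) (K : Set κ)
    (g0 : κ → A)
    (hg0 : ∀ k ∈ K, Proj.basicOpen 𝒜 ((b k : A)) = Proj.basicOpen 𝒜 (g0 k))
    (hcov : ∀ x : Proj 𝒜, ∃ k ∈ K, x ∈ Proj.basicOpen 𝒜 ((b k : A)))
    (hgen : ∀ k ∈ K,
      Subring.closure (Set.range ((fR R 𝒜).appLE ⊤ (Proj.basicOpen 𝒜 (g0 k)) le_top).hom ∪
        Set.range (fun k' => fn (Proj.basicOpen 𝒜 (g0 k)) ((b k' : A)) ((b k : A)))) = ⊤) :
    IsVA (fR R 𝒜) (Twist.twist 𝒜 (n : ℤ)) := by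
  have hu : ∀ x : Proj 𝒜, ∃ U : (Proj 𝒜).Opens, x ∈ U ∧ HasUnitFrac (n : ℤ) U := fun x => by
    obtain ⟨k, -, hk⟩ := hcov x
    exact ⟨_, hk, hasUnitFrac_basicOpen (b k).2⟩
  have hloc : ∀ k, locus (Twist.twist 𝒜 (n : ℤ)) (gsec (b k)) = Proj.basicOpen 𝒜 ((b k : A)) :=
    fun k => genLocus_gsec (b k) hu
  refine ⟨κ, inferInstance, fun k => gsec (b k), K, fun _ => ⊤, ?_, ?_⟩
  · intro x
    obtain ⟨k, hk, hx⟩ := hcov x
    exact ⟨k, hk, by rw [hloc]; exact hx⟩
  · intro k hk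
    refine ⟨isAffineOpen_top _, ?_, fun x _ => trivial, ?_⟩
    · rw [hloc]
      exact Proj.isAffineOpen_basicOpen 𝒜 _ (b k).2 hn
    · refine closure_eq_top_of_eq b k (g0 k) (hg0 k hk).ge (hgen k hk) _
        ((hloc k).trans (hg0 k hk)) _ _ (fun k' => ?_)
      exact ratio_smul (Twist.twist 𝒜 (n : ℤ)) (gsec (b k)) (gsec (b k'))

/-- when `Proj 𝒜` is proper over `Spec R`, very-ampleness data give a *closed* immersion -/
theorem exists_closedImmersion_of_isVA [Algebra.FiniteType (𝒜 0) A]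
    (hsurj : Function.Surjective (algebraMap R (𝒜 0))) {n : ℤ}
    (h : IsVA (fR R 𝒜) (Twist.twist 𝒜 n)) :
    ∃ (N : ℕ) (i : Proj 𝒜 ⟶ CohB1.ProjSpaceOver N (Spec (CommRingCat.of R))),
      IsClosedImmersion i ∧
      i ≫ pullback.snd (CohB1.ProjSpace.toSpec N (ULift.{u} ℤ))
        (specULiftZIsTerminal.from (Spec (CommRingCat.of R))) =
        Proj.toSpecZero 𝒜 ≫ Spec.map (CommRingCat.ofHom (algebraMap R (𝒜 0))) ∧
      Nonempty (Twist.twist 𝒜 n ≅
        (Scheme.Modules.pullback i).obj (Twist.twistOver N (Spec (CommRingCat.of R)) 1)) := by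
  obtain ⟨N, i, hi, hcomp, hiso⟩ := isRelVeryAmplePn_of_isVA _ h
  refine ⟨N, i, ?_, hcomp, hiso⟩
  let i' : Proj 𝒜 ⟶ Limits.pullback (CohB1.ProjSpace.toSpec N (ULift.{u} ℤ))
    (specULiftZIsTerminal.from (Spec (CommRingCat.of R))) := i
  haveI : IsImmersion i' := hi
  haveI : IsClosedImmersion (Spec.map (CommRingCat.ofHom (algebraMap R (𝒜 0)))) :=
    IsClosedImmersion.spec_of_surjective _ hsurj
  haveI : IsProper (fR R 𝒜) := inferInstance
  haveI : IsSeparated (CohB1.ProjSpace.toSpec N (ULift.{u} ℤ)) := VARel.isSeparated_toSpec _ _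
  haveI : IsProper (i' ≫ pullback.snd (CohB1.ProjSpace.toSpec N (ULift.{u} ℤ))
      (specULiftZIsTerminal.from (Spec (CommRingCat.of R)))) := by
    have : i' ≫ pullback.snd (CohB1.ProjSpace.toSpec N (ULift.{u} ℤ))
      (specULiftZIsTerminal.from (Spec (CommRingCat.of R))) = fR R 𝒜 := hcomp
    rw [this]; infer_instance
  haveI : IsProper i' := IsProper.of_comp i' (pullback.snd (CohB1.ProjSpace.toSpec N (ULift.{u} ℤ))
      (specULiftZIsTerminal.from (Spec (CommRingCat.of R))))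
  exact IsClosedImmersion.of_isPreimmersion i' i'.isClosedMap.isClosed_range

/-- the function `r / 1` coming from the base lies in the range of the structure map -/
theorem fn_algebraMap_mem_range {g : A} {n : ℕ} (hg : g ∈ 𝒜 n) (hn : 0 < n) (r : R) :
    fn (Proj.basicOpen 𝒜 g) (algebraMap R A r) 1 ∈
      Set.range ((fR R 𝒜).appLE ⊤ (Proj.basicOpen 𝒜 g) le_top).hom :=
  ⟨(Scheme.ΓSpecIso (CommRingCat.of R)).inv r, toSpec_appLE_fn hg hn r⟩

theorem pow_le_graded (n : ℕ) (m : ℕ) : (𝒜 n) ^ m ≤ 𝒜 (m • n) := by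
  induction m with
  | zero =>
    rw [pow_zero, zero_smul, Submodule.one_le]
    exact SetLike.GradedOne.one_mem
  | succ m ih =>
    rw [pow_succ, succ_nsmul]
    exact le_trans (mul_le_mul' ih le_rfl) (Groth.Agent.Lib.Helper20.Graded.mul_le 𝒜 _ _)

/-- **Generation on a chart `D₊(g)`, `g ∈ 𝒜 n`**, when `𝒜 (m n) = (𝒜 n)^m` and the `b k'` span
`𝒜 n`. -/
theorem closure_eq_top_of_pow {n : ℕ} (hn : 0 < n) {g : A} (hg : g ∈ 𝒜 n) {κ : Type u}
    (b : κ → 𝒜 n)
    (hspan : 𝒜 n ≤ Submodule.span R (Set.range fun k => (b k : A)))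
    (hpow : ∀ m : ℕ, 𝒜 (m • n) ≤ (𝒜 n) ^ m) :
    Subring.closure (Set.range ((fR R 𝒜).appLE ⊤ (Proj.basicOpen 𝒜 g) le_top).hom ∪
      Set.range (fun k' => fn (Proj.basicOpen 𝒜 g) ((b k' : A)) g)) = ⊤ := by
  set S := Subring.closure (Set.range ((fR R 𝒜).appLE ⊤ (Proj.basicOpen 𝒜 g) le_top).hom ∪
      Set.range (fun k' => fn (Proj.basicOpen 𝒜 g) ((b k' : A)) g)) with hS
  have hone : (1 : A) ∈ 𝒜 0 := SetLike.GradedOne.one_mem
  have hG1 : ∀ r : R, Good (Proj.basicOpen 𝒜 g) (algebraMap R A r) 1 := fun r =>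
    good_of_mem (SetLike.algebraMap_mem_graded 𝒜 r) hone (fun x => one_notMem x.1)
  have hGn : ∀ y ∈ 𝒜 n, Good (Proj.basicOpen 𝒜 g) y g := fun y hy =>
    good_of_mem hy hg (fun x => x.2)
  have hR : ∀ r : R, fn (Proj.basicOpen 𝒜 g) (algebraMap R A r) 1 ∈ S := fun r =>
    Subring.subset_closure (Or.inl (fn_algebraMap_mem_range hg hn r))
  -- degree `n` numerators
  have h1 : ∀ y ∈ 𝒜 n, fn (Proj.basicOpen 𝒜 g) y g ∈ S := by
    intro y hy
    have hy' := hspan hy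
    have key : ∀ z ∈ Submodule.span R (Set.range fun k => (b k : A)),
        z ∈ 𝒜 n ∧ fn (Proj.basicOpen 𝒜 g) z g ∈ S := by
      intro z hz
      induction hz using Submodule.span_induction with
      | mem z hz =>
        obtain ⟨k, rfl⟩ := hz
        exact ⟨(b k).2, Subring.subset_closure (Or.inr ⟨k, rfl⟩)⟩
      | zero =>
        refine ⟨zero_mem _, ?_⟩
        rw [fn_zero (hGn 0 (zero_mem _))]
        exact zero_mem _
      | add z z' _ _ ih ih' =>
        refine ⟨add_mem ih.1 ih'.1, ?_⟩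
        rw [← fn_add (hGn z ih.1) (hGn z' ih'.1) (hGn _ (add_mem ih.1 ih'.1))]
        exact add_mem ih.2 ih'.2
      | smul r z _ ih =>
        refine ⟨Submodule.smul_mem _ r ih.1, ?_⟩
        have h2 := fn_mul (hG1 r) (hGn z ih.1)
        rw [one_mul, ← Algebra.smul_def] at h2
        rw [← h2]
        exact mul_mem (hR r) ih.2
    exact (key y hy').2
  -- all numerators
  have h2 : ∀ m : ℕ, ∀ a ∈ (𝒜 n) ^ m,
      a ∈ 𝒜 (m • n) ∧ fn (Proj.basicOpen 𝒜 g) a (g ^ m) ∈ S := by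
    intro m
    induction m with
    | zero =>
      intro a ha
      rw [pow_zero, Submodule.mem_one] at ha
      obtain ⟨r, rfl⟩ := ha
      refine ⟨by rw [zero_smul]; exact SetLike.algebraMap_mem_graded 𝒜 r, ?_⟩
      rw [pow_zero]
      exact hR r
    | succ m ih =>
      intro a ha
      rw [pow_succ] at ha
      refine Submodule.mul_induction_on ha ?_ ?_
      · intro a' ha' y hy
        obtain ⟨hm1, hm2⟩ := ih a' ha'
        have hGa : Good (Proj.basicOpen 𝒜 g) a' (g ^ m) := goodD hg hm1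
        refine ⟨?_, ?_⟩
        · rw [succ_nsmul]; exact SetLike.mul_mem_graded hm1 hy
        · rw [pow_succ, ← fn_mul hGa (hGn y hy)]
          exact mul_mem hm2 (h1 y hy)
      · intro z z' ih1 ih2
        refine ⟨add_mem ih1.1 ih2.1, ?_⟩
        rw [← fn_add (goodD hg ih1.1) (goodD hg ih2.1) (goodD hg (add_mem ih1.1 ih2.1))]
        exact add_mem ih1.2 ih2.2
  rw [eq_top_iff]
  intro c _
  obtain ⟨m, a, ha, rfl⟩ := exists_awayToSection hn hg c
  rw [awayToSection_mk hg m a ha]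
  exact (h2 m a (hpow m ha)).2

/-- **Generation on a chart `D₊(g)`, `g ∈ 𝒜 1`**, for the sections `g ^ n` and `y * g ^ (n - e)`,
`y` running through homogeneous algebra generators of degrees `e ≤ n`. -/
theorem closure_eq_top_of_degOne {n : ℕ} {g : A} (hg : g ∈ 𝒜 1) {κ : Type u}
    (b : κ → 𝒜 n) (Y : Set A) (hY : Algebra.adjoin R Y = ⊤)
    (hYb : ∀ y ∈ Y, ∃ e : ℕ, e ≤ n ∧ y ∈ 𝒜 e ∧ ∃ k', (b k' : A) = y * g ^ (n - e)) :
    Subring.closure (Set.range ((fR R 𝒜).appLE ⊤ (Proj.basicOpen 𝒜 g) le_top).hom ∪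
      Set.range (fun k' => fn (Proj.basicOpen 𝒜 g) ((b k' : A)) (g ^ n))) = ⊤ := by
  set S := Subring.closure (Set.range ((fR R 𝒜).appLE ⊤ (Proj.basicOpen 𝒜 g) le_top).hom ∪
      Set.range (fun k' => fn (Proj.basicOpen 𝒜 g) ((b k' : A)) (g ^ n))) with hS
  have key : ∀ a ∈ Algebra.adjoin R Y, deh hg a ∈ S := by
    intro a ha
    induction ha using Algebra.adjoin_induction with
    | mem y hy =>
      obtain ⟨e, hen, hye, k', hk'⟩ := hYb y hy
      rw [deh_of_mem hg hye]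
      have h1 : fn (Proj.basicOpen 𝒜 g) y (g ^ e) =
          fn (Proj.basicOpen 𝒜 g) ((b k' : A)) (g ^ n) := by
        refine fn_eq (goodD1 hg hye) (goodD1 hg (b k').2) ?_
        rw [hk', mul_assoc, ← pow_add, Nat.sub_add_cancel hen]
      rw [h1]
      exact Subring.subset_closure (Or.inr ⟨k', rfl⟩)
    | algebraMap r =>
      rw [deh_of_mem hg (SetLike.algebraMap_mem_graded 𝒜 r), pow_zero]
      exact Subring.subset_closure (Or.inl (fn_algebraMap_mem_range hg Nat.one_pos r))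
    | add x y _ _ hx hy => rw [map_add]; exact add_mem hx hy
    | mul x y _ _ hx hy => rw [map_mul]; exact mul_mem hx hy
  rw [eq_top_iff]
  intro c _
  obtain ⟨a, rfl⟩ := deh_surjective hg c
  exact key a (by rw [hY]; trivial)

end Groth.Agent.Lib.Helper20.ProjVA
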