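import Groth.Agent.Lib.Helper20.ProjVA

/-!
# Auxiliary lemmas for S13183 (helper20)
-/

set_option autoImplicit false
universe u
open CategoryTheory CategoryTheory.Limits AlgebraicGeometry TopologicalSpace Opposite

namespace Groth.Agent.Lib.Helper20.ProjVA2

/-- a generating set of a finite type algebra contains a finite generating subset -/
theorem exists_finset_subset_adjoin_eq_top {R A : Type*} [CommRing R] [CommRing A] [Algebra R A]
    [Algebra.FiniteType R A] (S : Set A) (hS : Algebra.adjoin R S = ⊤) :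
    ∃ T : Finset A, (T : Set A) ⊆ S ∧ Algebra.adjoin R (T : Set A) = ⊤ := by
  classical
  have key : ∀ x ∈ Algebra.adjoin R S, ∃ T : Finset A, (T : Set A) ⊆ S ∧
      x ∈ Algebra.adjoin R (T : Set A) := by
    intro x hx
    induction hx using Algebra.adjoin_induction with
    | mem x hx =>
      exact ⟨{x}, by simpa using hx, Algebra.subset_adjoin (by simp)⟩
    | algebraMap r => exact ⟨∅, by simp, Subalgebra.algebraMap_mem _ r⟩
    | add x y _ _ hx hy =>
      obtain ⟨T1, h1, h1'⟩ := hx
      obtain ⟨T2, h2, h2'⟩ := hy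
      refine ⟨T1 ∪ T2, by rw [Finset.coe_union]; exact Set.union_subset h1 h2, ?_⟩
      refine add_mem (Algebra.adjoin_mono ?_ h1') (Algebra.adjoin_mono ?_ h2')
      · rw [Finset.coe_union]; exact Set.subset_union_left
      · rw [Finset.coe_union]; exact Set.subset_union_right
    | mul x y _ _ hx hy =>
      obtain ⟨T1, h1, h1'⟩ := hx
      obtain ⟨T2, h2, h2'⟩ := hy
      refine ⟨T1 ∪ T2, by rw [Finset.coe_union]; exact Set.union_subset h1 h2, ?_⟩
      refine mul_mem (Algebra.adjoin_mono ?_ h1') (Algebra.adjoin_mono ?_ h2')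
      · rw [Finset.coe_union]; exact Set.subset_union_left
      · rw [Finset.coe_union]; exact Set.subset_union_right
  obtain ⟨t0, ht0⟩ := (Algebra.FiniteType.out : (⊤ : Subalgebra R A).FG)
  have key' : ∀ x : A, ∃ T : Finset A, (T : Set A) ⊆ S ∧ x ∈ Algebra.adjoin R (T : Set A) :=
    fun x => key x (by rw [hS]; trivial)
  choose T hT hT' using key'
  refine ⟨t0.biUnion T, ?_, ?_⟩
  · intro y hy
    rw [Finset.mem_coe, Finset.mem_biUnion] at hy
    obtain ⟨x, -, hyx⟩ := hy
    exact hT x hyx
  · rw [eq_top_iff, ← ht0]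
    refine Algebra.adjoin_le ?_
    intro x hx
    refine Algebra.adjoin_mono ?_ (hT' x)
    intro y hy
    rw [Finset.mem_coe, Finset.mem_biUnion]
    exact ⟨x, hx, hy⟩

end Groth.Agent.Lib.Helper20.ProjVA2
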