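import Mathlib
import Groth.Prelude
import Groth.Agent.Lib.Helper20.DescHom3

/-!
# Helper20: homomorphisms into finite locally free modules over a pushout of ringed spaces.
-/

set_option autoImplicit false
set_option linter.style.haveILetI false
universe u

open CategoryTheory CategoryTheory.Limits AlgebraicGeometry TopologicalSpace Opposite
open Scheme.Modules

namespace Groth.Agent.Lib.Helper20.PushHom

open Groth.Agent.Lib.Helper3 Groth.Agent.Lib.Helper3.QCSec Groth.Agent.Lib.Helper3.FreeBasis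
  Groth.Agent.Lib.Helper3.PbBasic Groth.Agent.Lib.Helper3.PullLemmas
  Groth.Agent.Lib.Helper20.DescHom

variable {X Y Z T : Scheme.{u}}

/-- joint injectivity of the two pullbacks on sections over an open with a basis. -/
theorem pull_pair_injective_of_isBasis (gX : X ⟶ T) (gY : Y ⟶ T)
    (hext : ∀ (U : T.Opens) (s s' : Γ(T, U)), gX.app U s = gX.app U s' →
      gY.app U s = gY.app U s' → s = s')
    (N : T.Modules) {V : T.Opens} {n : ℕ} {e : Fin n → Γ(N, V)} (hb : IsBasis N V e)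
    (x x' : Γ(N, V)) (h1 : pull gX N V x = pull gX N V x')
    (h2 : pull gY N V x = pull gY N V x') : x = x' := by
  have hV : IsBasisAt N V e := hb.self
  obtain ⟨c, rfl⟩ := hV.2 x
  obtain ⟨c', rfl⟩ := hV.2 x'
  have hX : IsBasisAt ((Scheme.Modules.pullback gX).obj N) (gX ⁻¹ᵁ V)
      (fun i => pull gX N V (e i)) := (Groth.Agent.Lib.Helper13.PullBasis.isBasis_pull gX hb).self
  have hY : IsBasisAt ((Scheme.Modules.pullback gY).obj N) (gY ⁻¹ᵁ V)
      (fun i => pull gY N V (e i)) := (Groth.Agent.Lib.Helper13.PullBasis.isBasis_pull gY hb).self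
  simp only [] at h1 h2
  rw [pull_sum_smul, pull_sum_smul] at h1 h2
  have e1 := hX.1 h1
  have e2 := hY.1 h2
  have : c = c' := by
    funext i
    exact hext V _ _ (congrFun e1 i) (congrFun e2 i)
  rw [this]

theorem congr_side_hom {g₁ g₂ : Z ⟶ T} (c : g₁ = g₂) (M : T.Modules) (V : T.Opens)
    (hQ : g₁ ⁻¹ᵁ V ≤ g₂ ⁻¹ᵁ V) {n : ℕ} (a : Fin n → Γ(Z, g₁ ⁻¹ᵁ V)) (e : Fin n → Γ(M, V)) :
    ((pullbackCongr c).hom.app M).app (g₁ ⁻¹ᵁ V) (∑ j, a j • pull g₁ M V (e j)) =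
      ∑ j, a j • res _ hQ (pull g₂ M V (e j)) := by
  rw [app_sum_smul]
  refine Finset.sum_congr rfl fun j _ => ?_
  have := pullbackCongr_hom_pull c M V (e j) (g₁ ⁻¹ᵁ V) le_rfl hQ
  rw [res_self] at this
  rw [this]

theorem comp_inv_sum (fY : Z ⟶ Y) (gY : Y ⟶ T) (N : T.Modules) (V : T.Opens) (W : Z.Opens)
    (hQ : W ≤ (fY ≫ gY) ⁻¹ᵁ V) {n : ℕ} (a : Fin n → Γ(Z, W)) (e : Fin n → Γ(N, V)) :
    ((pullbackComp fY gY).inv.app N).app W (∑ j, a j • res _ hQ (pull (fY ≫ gY) N V (e j))) =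
      ∑ j, a j • res _ hQ (pull fY ((Scheme.Modules.pullback gY).obj N) (gY ⁻¹ᵁ V)
        (pull gY N V (e j))) := by
  rw [app_sum_smul]
  refine Finset.sum_congr rfl fun j _ => ?_
  have h1 := (QCExact.app_res' ((pullbackComp fY gY).inv.app N) hQ
    (pull (fY ≫ gY) N V (e j))).trans
    (congrArg (fun z => res _ hQ z) (pullbackComp_inv_pull fY gY N V (e j)))
  exact congrArg (fun z => a j • z) h1

set_option maxHeartbeats 1600000 in
/-- the equation on sections given by the compatibility of `a` and `b` over `Z`. -/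
theorem compat_eq (fX : Z ⟶ X) (fY : Z ⟶ Y) (gX : X ⟶ T) (gY : Y ⟶ T) (hw : fX ≫ gX = fY ≫ gY)
    {M N : T.Modules}
    (a : (Scheme.Modules.pullback gX).obj M ⟶ (Scheme.Modules.pullback gX).obj N)
    (b : (Scheme.Modules.pullback gY).obj M ⟶ (Scheme.Modules.pullback gY).obj N)
    (hab : (Scheme.Modules.pullback fX).map a ≫
        ((pullbackComp fX gX).app N ≪≫ (pullbackCongr hw).app N ≪≫
          ((pullbackComp fY gY).app N).symm).hom =
      ((pullbackComp fX gX).app M ≪≫ (pullbackCongr hw).app M ≪≫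
          ((pullbackComp fY gY).app M).symm).hom ≫ (Scheme.Modules.pullback fY).map b)
    (V : T.Opens) (s : Γ(M, V)) (hQ : (fX ≫ gX) ⁻¹ᵁ V ≤ (fY ≫ gY) ⁻¹ᵁ V) :
    ((pullbackComp fY gY).inv.app N).app ((fX ≫ gX) ⁻¹ᵁ V)
      (((pullbackCongr hw).hom.app N).app ((fX ≫ gX) ⁻¹ᵁ V)
        (side fX gX N V (a.app (gX ⁻¹ᵁ V) (pull gX M V s)))) =
      res _ hQ (pull fY ((Scheme.Modules.pullback gY).obj N) (gY ⁻¹ᵁ V)
        (b.app (gY ⁻¹ᵁ V) (pull gY M V s))) := by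
  have h := congrArg (fun α => (Scheme.Modules.Hom.app α ((fX ≫ gX) ⁻¹ᵁ V))
    (pull fX ((Scheme.Modules.pullback gX).obj M) (gX ⁻¹ᵁ V) (pull gX M V s))) hab
  have hL : (Scheme.Modules.Hom.app ((Scheme.Modules.pullback fX).map a ≫
        ((pullbackComp fX gX).app N ≪≫ (pullbackCongr hw).app N ≪≫
          ((pullbackComp fY gY).app N).symm).hom) ((fX ≫ gX) ⁻¹ᵁ V))
      (pull fX ((Scheme.Modules.pullback gX).obj M) (gX ⁻¹ᵁ V) (pull gX M V s)) =
      ((pullbackComp fY gY).inv.app N).app ((fX ≫ gX) ⁻¹ᵁ V)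
      (((pullbackCongr hw).hom.app N).app ((fX ≫ gX) ⁻¹ᵁ V)
        (side fX gX N V (a.app (gX ⁻¹ᵁ V) (pull gX M V s)))) := by
    change ((pullbackComp fY gY).inv.app N).app ((fX ≫ gX) ⁻¹ᵁ V)
      (((pullbackCongr hw).hom.app N).app ((fX ≫ gX) ⁻¹ᵁ V)
        (((pullbackComp fX gX).hom.app N).app ((fX ≫ gX) ⁻¹ᵁ V)
          (((Scheme.Modules.pullback fX).map a).app ((fX ≫ gX) ⁻¹ᵁ V)
            (pull fX ((Scheme.Modules.pullback gX).obj M) (gX ⁻¹ᵁ V) (pull gX M V s))))) = _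
    unfold side
    congr 3
    exact pull_app fX a (gX ⁻¹ᵁ V) (pull gX M V s)
  have hR : (Scheme.Modules.Hom.app (((pullbackComp fX gX).app M ≪≫ (pullbackCongr hw).app M ≪≫
          ((pullbackComp fY gY).app M).symm).hom ≫ (Scheme.Modules.pullback fY).map b)
        ((fX ≫ gX) ⁻¹ᵁ V))
      (pull fX ((Scheme.Modules.pullback gX).obj M) (gX ⁻¹ᵁ V) (pull gX M V s)) =
      res _ hQ (pull fY ((Scheme.Modules.pullback gY).obj N) (gY ⁻¹ᵁ V)
        (b.app (gY ⁻¹ᵁ V) (pull gY M V s))) := by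
    change ((Scheme.Modules.pullback fY).map b).app ((fX ≫ gX) ⁻¹ᵁ V)
      (((pullbackComp fY gY).inv.app M).app ((fX ≫ gX) ⁻¹ᵁ V)
        (((pullbackCongr hw).hom.app M).app ((fX ≫ gX) ⁻¹ᵁ V)
          (((pullbackComp fX gX).hom.app M).app ((fX ≫ gX) ⁻¹ᵁ V)
            (pull fX ((Scheme.Modules.pullback gX).obj M) (gX ⁻¹ᵁ V) (pull gX M V s))))) = _
    have e1 : ((pullbackComp fX gX).hom.app M).app ((fX ≫ gX) ⁻¹ᵁ V)
        (pull fX ((Scheme.Modules.pullback gX).obj M) (gX ⁻¹ᵁ V) (pull gX M V s)) =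
        pull (fX ≫ gX) M V s := pullbackComp_hom_pull fX gX M V s
    have e2 : ((pullbackCongr hw).hom.app M).app ((fX ≫ gX) ⁻¹ᵁ V) (pull (fX ≫ gX) M V s) =
        res _ hQ (pull (fY ≫ gY) M V s) := by
      have := pullbackCongr_hom_pull hw M V s ((fX ≫ gX) ⁻¹ᵁ V) le_rfl hQ
      rwa [res_self] at this
    have e3 : ((pullbackComp fY gY).inv.app M).app ((fX ≫ gX) ⁻¹ᵁ V)
        (res _ hQ (pull (fY ≫ gY) M V s)) =
        res _ hQ (pull fY ((Scheme.Modules.pullback gY).obj M) (gY ⁻¹ᵁ V) (pull gY M V s)) :=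
      (QCExact.app_res' ((pullbackComp fY gY).inv.app M) hQ _).trans
        (congrArg (fun z => res _ hQ z) (pullbackComp_inv_pull fY gY M V s))
    have e4 : ((Scheme.Modules.pullback fY).map b).app ((fX ≫ gX) ⁻¹ᵁ V)
        (res _ hQ (pull fY ((Scheme.Modules.pullback gY).obj M) (gY ⁻¹ᵁ V) (pull gY M V s))) =
        res _ hQ (pull fY ((Scheme.Modules.pullback gY).obj N) (gY ⁻¹ᵁ V)
          (b.app (gY ⁻¹ᵁ V) (pull gY M V s))) :=
      (QCExact.app_res' ((Scheme.Modules.pullback fY).map b) hQ _).trans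
        (congrArg (fun z => res _ hQ z) (pull_app fY b (gY ⁻¹ᵁ V) (pull gY M V s)))
    have c1 := (congrArg (fun z => ((pullbackCongr hw).hom.app M).app ((fX ≫ gX) ⁻¹ᵁ V) z) e1).trans e2
    have c2 := (congrArg (fun z => ((pullbackComp fY gY).inv.app M).app
      ((fX ≫ gX) ⁻¹ᵁ V) z) c1).trans e3
    exact (congrArg (fun z => ((Scheme.Modules.pullback fY).map b).app
      ((fX ≫ gX) ⁻¹ᵁ V) z) c2).trans e4
  rw [← hL, ← hR]
  exact h

set_option maxHeartbeats 1600000 in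
/-- over an open where `N` has a basis, the pair `(a (gX^* s), b (gY^* s))` comes from a section of
`N`. -/
theorem exists_section (fX : Z ⟶ X) (fY : Z ⟶ Y) (gX : X ⟶ T) (gY : Y ⟶ T)
    (hw : fX ≫ gX = fY ≫ gY)
    (hglue : ∀ (U : T.Opens) (sX : Γ(X, gX ⁻¹ᵁ U)) (sY : Γ(Y, gY ⁻¹ᵁ U))
      (hO : fX ⁻¹ᵁ (gX ⁻¹ᵁ U) = fY ⁻¹ᵁ (gY ⁻¹ᵁ U)),
      fX.app (gX ⁻¹ᵁ U) sX = Z.presheaf.map (eqToHom hO).op (fY.app (gY ⁻¹ᵁ U) sY) →
      ∃ s : Γ(T, U), gX.app U s = sX ∧ gY.app U s = sY)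
    {M N : T.Modules}
    (a : (Scheme.Modules.pullback gX).obj M ⟶ (Scheme.Modules.pullback gX).obj N)
    (b : (Scheme.Modules.pullback gY).obj M ⟶ (Scheme.Modules.pullback gY).obj N)
    (hab : (Scheme.Modules.pullback fX).map a ≫
        ((pullbackComp fX gX).app N ≪≫ (pullbackCongr hw).app N ≪≫
          ((pullbackComp fY gY).app N).symm).hom =
      ((pullbackComp fX gX).app M ≪≫ (pullbackCongr hw).app M ≪≫
          ((pullbackComp fY gY).app M).symm).hom ≫ (Scheme.Modules.pullback fY).map b)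
    (V : T.Opens) {m : ℕ} (e : Fin m → Γ(N, V)) (hb : IsBasis N V e) (s : Γ(M, V)) :
    ∃ x : Γ(N, V), pull gX N V x = a.app (gX ⁻¹ᵁ V) (pull gX M V s) ∧
      pull gY N V x = b.app (gY ⁻¹ᵁ V) (pull gY M V s) := by
  have hbX : IsBasisAt ((Scheme.Modules.pullback gX).obj N) (gX ⁻¹ᵁ V)
      (fun j => pull gX N V (e j)) := (Groth.Agent.Lib.Helper13.PullBasis.isBasis_pull gX hb).self
  have hbY : IsBasisAt ((Scheme.Modules.pullback gY).obj N) (gY ⁻¹ᵁ V)
      (fun j => pull gY N V (e j)) := (Groth.Agent.Lib.Helper13.PullBasis.isBasis_pull gY hb).self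
  obtain ⟨α, hα⟩ := hbX.2 (a.app (gX ⁻¹ᵁ V) (pull gX M V s))
  obtain ⟨β, hβ⟩ := hbY.2 (b.app (gY ⁻¹ᵁ V) (pull gY M V s))
  have hα' : ∑ j, α j • pull gX N V (e j) = a.app (gX ⁻¹ᵁ V) (pull gX M V s) := hα
  have hβ' : ∑ j, β j • pull gY N V (e j) = b.app (gY ⁻¹ᵁ V) (pull gY M V s) := hβ
  have hO : fX ⁻¹ᵁ (gX ⁻¹ᵁ V) = fY ⁻¹ᵁ (gY ⁻¹ᵁ V) := by
    change (fX ≫ gX) ⁻¹ᵁ V = (fY ≫ gY) ⁻¹ᵁ V
    rw [hw]
  have hQ : (fX ≫ gX) ⁻¹ᵁ V ≤ (fY ≫ gY) ⁻¹ᵁ V := le_of_eq hO
  have key := compat_eq fX fY gX gY hw a b hab V s hQ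
  rw [← hα', ← hβ', side_sum, congr_side_hom hw N V hQ, comp_inv_sum fY gY N V _ hQ,
    pull_sum_smul] at key
  have hQ' : (fX ≫ gX) ⁻¹ᵁ V ≤ fY ⁻¹ᵁ (gY ⁻¹ᵁ V) := hQ
  have hR := res_sum_smul ((Scheme.Modules.pullback fY).obj ((Scheme.Modules.pullback gY).obj N))
    hQ' (fun i => fY.app (gY ⁻¹ᵁ V) (β i))
    (fun i => pull fY ((Scheme.Modules.pullback gY).obj N) (gY ⁻¹ᵁ V) (pull gY N V (e i)))
  replace key := key.trans hR
  have hbZ : IsBasis ((Scheme.Modules.pullback fY).obj ((Scheme.Modules.pullback gY).obj N))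
      (fY ⁻¹ᵁ (gY ⁻¹ᵁ V)) (fun j => pull fY ((Scheme.Modules.pullback gY).obj N) (gY ⁻¹ᵁ V)
        (pull gY N V (e j))) :=
    Groth.Agent.Lib.Helper13.PullBasis.isBasis_pull fY
      (Groth.Agent.Lib.Helper13.PullBasis.isBasis_pull gY hb)
  have hcoef := (hbZ ((fX ≫ gX) ⁻¹ᵁ V) hQ').1 key
  have hdesc : ∀ j, ∃ c : Γ(T, V), gX.app V c = α j ∧ gY.app V c = β j := by
    intro j
    apply hglue V (α j) (β j) hO
    have h1 := congrFun hcoef j
    have h2 : (homOfLE hQ) = eqToHom hO := Subsingleton.elim _ _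
    rw [← h2]
    exact h1
  choose c hc using hdesc
  refine ⟨∑ j, c j • e j, ?_, ?_⟩
  · rw [pull_sum_smul, ← hα']
    exact Finset.sum_congr rfl fun j _ => by rw [(hc j).1]
  · rw [pull_sum_smul, ← hβ']
    exact Finset.sum_congr rfl fun j _ => by rw [(hc j).2]

set_option maxHeartbeats 1600000 in
theorem main (fX : Z ⟶ X) (fY : Z ⟶ Y) (gX : X ⟶ T) (gY : Y ⟶ T)
    (hw : fX ≫ gX = fY ≫ gY)
    (hext : ∀ (U : T.Opens) (s s' : Γ(T, U)), gX.app U s = gX.app U s' →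
      gY.app U s = gY.app U s' → s = s')
    (hglue : ∀ (U : T.Opens) (sX : Γ(X, gX ⁻¹ᵁ U)) (sY : Γ(Y, gY ⁻¹ᵁ U))
      (hO : fX ⁻¹ᵁ (gX ⁻¹ᵁ U) = fY ⁻¹ᵁ (gY ⁻¹ᵁ U)),
      fX.app (gX ⁻¹ᵁ U) sX = Z.presheaf.map (eqToHom hO).op (fY.app (gY ⁻¹ᵁ U) sY) →
      ∃ s : Γ(T, U), gX.app U s = sX ∧ gY.app U s = sY)
    (M N : T.Modules) (hN : FlatMod.IsFinLocFree N) :
    (∀ φ ψ : M ⟶ N, (Scheme.Modules.pullback gX).map φ = (Scheme.Modules.pullback gX).map ψ →
        (Scheme.Modules.pullback gY).map φ = (Scheme.Modules.pullback gY).map ψ → φ = ψ) ∧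
      (∀ (a : (Scheme.Modules.pullback gX).obj M ⟶ (Scheme.Modules.pullback gX).obj N)
        (b : (Scheme.Modules.pullback gY).obj M ⟶ (Scheme.Modules.pullback gY).obj N),
        (Scheme.Modules.pullback fX).map a ≫
            ((pullbackComp fX gX).app N ≪≫ (pullbackCongr hw).app N ≪≫
              ((pullbackComp fY gY).app N).symm).hom =
          ((pullbackComp fX gX).app M ≪≫ (pullbackCongr hw).app M ≪≫
              ((pullbackComp fY gY).app M).symm).hom ≫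
            (Scheme.Modules.pullback fY).map b →
        ∃ φ : M ⟶ N, (Scheme.Modules.pullback gX).map φ = a ∧
          (Scheme.Modules.pullback gY).map φ = b) := by
  let Small : T.Opens → Prop := fun V => ∃ (m : ℕ) (e : Fin m → Γ(N, V)), IsBasis N V e
  have hmono : ∀ {V V' : T.Opens}, V' ≤ V → Small V → Small V' := by
    rintro V V' h ⟨m, e, he⟩
    exact ⟨m, _, he.mono h⟩
  have hcov : ∀ y : T, ∃ V : T.Opens, Small V ∧ y ∈ V := by
    intro y
    obtain ⟨U, n, hyU, ⟨iso⟩⟩ := hN y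
    obtain ⟨e, he⟩ := exists_isBasis_of_iso iso
    exact ⟨U, ⟨n, e, he⟩, hyU⟩
  have hcov' : ∀ (W : T.Opens) (y : T), y ∈ W → ∃ V : T.Opens, Small V ∧ y ∈ V ∧ V ≤ W := by
    intro W y hy
    obtain ⟨V, hV, hyV⟩ := hcov y
    exact ⟨V ⊓ W, hmono inf_le_left hV, ⟨hyV, hy⟩, inf_le_right⟩
  have hinjV : ∀ V : T.Opens, Small V → ∀ x x' : Γ(N, V), pull gX N V x = pull gX N V x' →
      pull gY N V x = pull gY N V x' → x = x' := by
    rintro V ⟨m, e, he⟩ x x' h1 h2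
    exact pull_pair_injective_of_isBasis gX gY hext N he x x' h1 h2
  refine ⟨?_, ?_⟩
  · intro φ ψ h1 h2
    apply ModGlue.hom_ext_of_small Small hcov'
    intro V hV s
    apply hinjV V hV
    · rw [← pull_app, ← pull_app, h1]
    · rw [← pull_app, ← pull_app, h2]
  · intro a b hab
    have hexists : ∀ (V : T.Opens), Small V → ∀ s : Γ(M, V),
        ∃ x : Γ(N, V), pull gX N V x = a.app (gX ⁻¹ᵁ V) (pull gX M V s) ∧
          pull gY N V x = b.app (gY ⁻¹ᵁ V) (pull gY M V s) := by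
      rintro V ⟨m, e, he⟩ s
      exact exists_section fX fY gX gY hw hglue a b hab V e he s
    choose D hD using hexists
    obtain ⟨φ, hφ⟩ := ModGlue.exists_hom_of_small (M := M) (N := N) Small hmono hcov D
      (by
        intro V hV s s'
        apply hinjV V hV
        · rw [(hD V hV (s + s')).1, pull_add, pull_add, QCExact.app_add, (hD V hV s).1,
            (hD V hV s').1]
        · rw [(hD V hV (s + s')).2, pull_add, pull_add, QCExact.app_add, (hD V hV s).2,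
            (hD V hV s').2])
      (by
        intro V hV r s
        apply hinjV V hV
        · rw [(hD V hV (r • s)).1, pull_smul, pull_smul, Scheme.Modules.Hom.app_smul,
            (hD V hV s).1]
        · rw [(hD V hV (r • s)).2, pull_smul, pull_smul, Scheme.Modules.Hom.app_smul,
            (hD V hV s).2])
      (by
        intro V V' h hV hV' s
        apply hinjV V' hV'
        · rw [(hD V' hV' (res M h s)).1, ← res_pull gX N h, (hD V hV s).1, ← res_pull gX M h,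
            QCExact.app_res']
        · rw [(hD V' hV' (res M h s)).2, ← res_pull gY N h, (hD V hV s).2, ← res_pull gY M h,
            QCExact.app_res'])
    refine ⟨φ, ?_, ?_⟩
    · apply hom_ext_pull gX Small hcov'
      intro U hUs e
      rw [pull_app, hφ U hUs e, (hD U hUs e).1]
    · apply hom_ext_pull gY Small hcov'
      intro U hUs e
      rw [pull_app, hφ U hUs e, (hD U hUs e).2]

end Groth.Agent.Lib.Helper20.PushHom
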