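import Mathlib
import Groth.Agent.Lib.Helper28.Pinch.ShSp

set_option autoImplicit false
set_option linter.style.haveILetI false
universe u

open CategoryTheory Limits AlgebraicGeometry TopologicalSpace Opposite

namespace Groth.Agent.Lib.Helper20.PushSec

section Free

variable {Tt : TopCat.{u}} (U : Opens Tt)

/-- the free presheaf of commutative rings on the representable presheaf of `U`. -/
noncomputable def freeP : TopCat.Presheaf CommRingCat.{u} Tt :=
  yoneda.obj U ⋙ CommRingCat.free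

/-- the generator. -/
noncomputable def gen : (freeP U).obj (op U) :=
  (MvPolynomial.X (𝟙 U) : MvPolynomial (U ⟶ U) ℤ)

theorem freeP_map_X {V V' : (Opens Tt)ᵒᵖ} (f : V ⟶ V') (h : unop V ⟶ U) :
    ((freeP U).map f).hom (MvPolynomial.X h : MvPolynomial (unop V ⟶ U) ℤ) =
      (MvPolynomial.X (f.unop ≫ h) : MvPolynomial (unop V' ⟶ U) ℤ) := by
  change MvPolynomial.rename _ (MvPolynomial.X h) = _
  rw [MvPolynomial.rename_X]
  rfl

/-- natural transformation out of `freeP U` determined by a section over `U`. -/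
noncomputable def sigma (G : TopCat.Presheaf CommRingCat.{u} Tt) (s : G.obj (op U)) :
    freeP U ⟶ G where
  app V := CommRingCat.ofHom (MvPolynomial.eval₂Hom (Int.castRingHom _)
    (fun h : (unop V ⟶ U) => (G.map h.op).hom s))
  naturality V V' f := by
    apply CommRingCat.hom_ext
    apply MvPolynomial.ringHom_ext
    · intro n
      simp
    · intro h
      change (MvPolynomial.eval₂Hom (Int.castRingHom _)
        (fun h : (unop V' ⟶ U) => (G.map h.op).hom s)) (((freeP U).map f).hom (MvPolynomial.X h)) =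
        (G.map f).hom ((MvPolynomial.eval₂Hom (Int.castRingHom _)
        (fun h : (unop V ⟶ U) => (G.map h.op).hom s)) (MvPolynomial.X h))
      rw [freeP_map_X, MvPolynomial.eval₂Hom_X', MvPolynomial.eval₂Hom_X']
      have : (f.unop ≫ h).op = h.op ≫ f := rfl
      rw [this, G.map_comp]
      rfl

theorem sigma_app_X (G : TopCat.Presheaf CommRingCat.{u} Tt) (s : G.obj (op U))
    (V : (Opens Tt)ᵒᵖ) (h : unop V ⟶ U) :
    ((sigma U G s).app V).hom (MvPolynomial.X h : MvPolynomial (unop V ⟶ U) ℤ) =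
      (G.map h.op).hom s := by
  change (MvPolynomial.eval₂Hom (Int.castRingHom _)
    (fun h : (unop V ⟶ U) => (G.map h.op).hom s)) (MvPolynomial.X h) = _
  rw [MvPolynomial.eval₂Hom_X']

theorem sigma_gen (G : TopCat.Presheaf CommRingCat.{u} Tt) (s : G.obj (op U)) :
    ((sigma U G s).app (op U)).hom (gen U) = s := by
  unfold gen
  rw [sigma_app_X]
  have : (𝟙 U : U ⟶ U).op = 𝟙 (op U) := rfl
  rw [this, G.map_id]
  rfl

theorem hom_ext_X {V : (Opens Tt)ᵒᵖ} {R : CommRingCat.{u}} {φ ψ : (freeP U).obj V ⟶ R}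
    (h : ∀ k : unop V ⟶ U, φ.hom (MvPolynomial.X k : MvPolynomial (unop V ⟶ U) ℤ) =
      ψ.hom (MvPolynomial.X k : MvPolynomial (unop V ⟶ U) ℤ)) : φ = ψ := by
  apply CommRingCat.hom_ext
  refine MvPolynomial.ringHom_ext (fun n => ?_) (fun k => h k)
  simp

theorem eq_sigma {G : TopCat.Presheaf CommRingCat.{u} Tt} (τ : freeP U ⟶ G) :
    τ = sigma U G ((τ.app (op U)).hom (gen U)) := by
  apply NatTrans.ext
  funext V
  apply hom_ext_X
  · intro h
    rw [sigma_app_X]
    have h1 : (MvPolynomial.X h : MvPolynomial (unop V ⟶ U) ℤ) =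
        ((freeP U).map h.op).hom (gen U) := by
      unfold gen
      rw [freeP_map_X]
      congr 1
    rw [h1]
    have := congrArg (fun k => k.hom (gen U)) (τ.naturality h.op)
    exact this

theorem hom_ext_gen {G : TopCat.Presheaf CommRingCat.{u} Tt} {τ τ' : freeP U ⟶ G}
    (h : (τ.app (op U)).hom (gen U) = (τ'.app (op U)).hom (gen U)) : τ = τ' := by
  rw [eq_sigma U τ, eq_sigma U τ', h]

end Free

section PSh

/-- the test presheafed space. -/
noncomputable abbrev W (T' : PresheafedSpace.{_, _, u} CommRingCat.{u}) (U : Opens T') :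
    PresheafedSpace.{_, _, u} CommRingCat.{u} :=
  ⟨T'.carrier, freeP U⟩

/-- morphism into the test space. -/
noncomputable def toW {A T' : PresheafedSpace.{_, _, u} CommRingCat.{u}} (U : Opens T')
    (g : (A : TopCat) ⟶ (T' : TopCat))
    (s : A.presheaf.obj (op ((Opens.map g).obj U))) : A ⟶ W T' U where
  base := g
  c := sigma U (g _* A.presheaf) s

theorem toW_c_gen {A T' : PresheafedSpace.{_, _, u} CommRingCat.{u}} (U : Opens T')
    (g : (A : TopCat) ⟶ (T' : TopCat))
    (s : A.presheaf.obj (op ((Opens.map g).obj U))) :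
    ((toW U g s).c.app (op U)).hom (gen U) = s :=
  sigma_gen U (g _* A.presheaf) s

theorem comp_toW {Z' A T' : PresheafedSpace.{_, _, u} CommRingCat.{u}} (U : Opens T') (i : Z' ⟶ A)
    (g : (A : TopCat) ⟶ (T' : TopCat))
    (s : A.presheaf.obj (op ((Opens.map g).obj U))) :
    i ≫ toW U g s = toW U (i.base ≫ g) ((i.c.app (op ((Opens.map g).obj U))).hom s) := by
  refine PresheafedSpace.hext _ _ rfl (heq_of_eq ?_)
  apply hom_ext_gen U
  exact ((congrArg (fun z => (i.c.app (op ((Opens.map g).obj U))).hom z) (toW_c_gen U g s)).trans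
    (toW_c_gen U (i.base ≫ g) _).symm)

theorem toW_congr {A T' : PresheafedSpace.{_, _, u} CommRingCat.{u}} (U : Opens T')
    {g g' : (A : TopCat) ⟶ (T' : TopCat)} (hg : g = g')
    (s : A.presheaf.obj (op ((Opens.map g).obj U)))
    (s' : A.presheaf.obj (op ((Opens.map g').obj U)))
    (hs : s = (A.presheaf.map (eqToHom (by rw [hg])).op).hom s') :
    toW U g s = toW U g' s' := by
  subst hg
  have : s = s' := by
    rw [hs]
    simp
  rw [this]

theorem exists_section_of_isPushout {Z' A B T' : PresheafedSpace.{_, _, u} CommRingCat.{u}}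
    {i : Z' ⟶ A} {j : Z' ⟶ B} {a : A ⟶ T'} {b : B ⟶ T'}
    (hp : IsPushout i j a b)
    (hsurj : ∀ t : T', (∃ x, a.base x = t) ∨ (∃ y, b.base y = t))
    (U : Opens T')
    (sA : A.presheaf.obj (op ((Opens.map a.base).obj U)))
    (sB : B.presheaf.obj (op ((Opens.map b.base).obj U)))
    (hO : (Opens.map (i.base ≫ a.base)).obj U = (Opens.map (j.base ≫ b.base)).obj U)
    (hc : (i.c.app (op ((Opens.map a.base).obj U))).hom sA =
       (Z'.presheaf.map (eqToHom hO).op).hom ((j.c.app (op ((Opens.map b.base).obj U))).hom sB)) :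
    ∃ s : T'.presheaf.obj (op U), (a.c.app (op U)).hom s = sA ∧ (b.c.app (op U)).hom s = sB := by
  have hbase : i.base ≫ a.base = j.base ≫ b.base := congrArg (fun k => k.base) hp.w
  have h : i ≫ toW U a.base sA = j ≫ toW U b.base sB := by
    rw [comp_toW, comp_toW]
    exact toW_congr U hbase _ _ hc
  obtain ⟨m, hm1, hm2⟩ : ∃ m : T' ⟶ W T' U, a ≫ m = toW U a.base sA ∧ b ≫ m = toW U b.base sB :=
    ⟨hp.desc (toW U a.base sA) (toW U b.base sB) h, hp.inl_desc (toW U a.base sA) (toW U b.base sB) h,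
      hp.inr_desc (toW U a.base sA) (toW U b.base sB) h⟩
  obtain ⟨mb, mc⟩ := m
  have hmb : mb = 𝟙 _ := by
    ext t
    rcases hsurj t with ⟨x, rfl⟩ | ⟨y, rfl⟩
    · have h1 : a.base ≫ mb = a.base := congrArg (fun k => k.base) hm1
      exact congrArg (fun k => k x) h1
    · have h1 : b.base ≫ mb = b.base := congrArg (fun k => k.base) hm2
      exact congrArg (fun k => k y) h1
  subst hmb
  refine ⟨(mc.app (op U)).hom (gen U), ?_, ?_⟩
  · have h1 := PresheafedSpace.congr_app hm1 (op U)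
    have h2 := congrArg (fun k => k.hom (gen U)) h1
    simp only [] at h2
    refine h2.trans ?_
    change (A.presheaf.map (𝟙 (op ((Opens.map a.base).obj U)))).hom
      (((toW U a.base sA).c.app (op U)).hom (gen U)) = sA
    rw [A.presheaf.map_id, toW_c_gen]
    rfl
  · have h1 := PresheafedSpace.congr_app hm2 (op U)
    have h2 := congrArg (fun k => k.hom (gen U)) h1
    simp only [] at h2
    refine h2.trans ?_
    change (B.presheaf.map (𝟙 (op ((Opens.map b.base).obj U)))).hom
      (((toW U b.base sB).c.app (op U)).hom (gen U)) = sB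
    rw [B.presheaf.map_id, toW_c_gen]
    rfl

theorem section_ext_of_isPushout {Z' A B T' : PresheafedSpace.{_, _, u} CommRingCat.{u}}
    {i : Z' ⟶ A} {j : Z' ⟶ B} {a : A ⟶ T'} {b : B ⟶ T'}
    (hp : IsPushout i j a b) (U : Opens T') (s s' : T'.presheaf.obj (op U))
    (hA : (a.c.app (op U)).hom s = (a.c.app (op U)).hom s')
    (hB : (b.c.app (op U)).hom s = (b.c.app (op U)).hom s') : s = s' := by
  have h1 : a ≫ toW (A := T') U (𝟙 _) s = a ≫ toW (A := T') U (𝟙 _) s' := by
    rw [comp_toW, comp_toW]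
    exact congrArg (toW U (a.base ≫ 𝟙 _)) hA
  have h2 : b ≫ toW (A := T') U (𝟙 _) s = b ≫ toW (A := T') U (𝟙 _) s' := by
    rw [comp_toW, comp_toW]
    exact congrArg (toW U (b.base ≫ 𝟙 _)) hB
  have h3 := hp.hom_ext h1 h2
  have h4 : sigma U ((𝟙 (T' : TopCat)) _* T'.presheaf) s =
      sigma U ((𝟙 (T' : TopCat)) _* T'.presheaf) s' := by
    have h3' := h3
    unfold toW at h3'
    exact eq_of_heq (PresheafedSpace.Hom.mk.inj h3').2
  have h5 := congrArg (fun k => (k.app (op U)).hom (gen U)) h4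
  exact (sigma_gen U _ s).symm.trans (h5.trans (sigma_gen U _ s'))

end PSh

section Sch

variable {X Y Z T : Scheme.{u}} (fX : Z ⟶ X) (fY : Z ⟶ Y) (gX : X ⟶ T) (gY : Y ⟶ T)

theorem isPushout_psh
    (hpo : IsPushout ((Scheme.forgetToLocallyRingedSpace ⋙ LocallyRingedSpace.forgetToSheafedSpace).map fX)
      ((Scheme.forgetToLocallyRingedSpace ⋙ LocallyRingedSpace.forgetToSheafedSpace).map fY)
      ((Scheme.forgetToLocallyRingedSpace ⋙ LocallyRingedSpace.forgetToSheafedSpace).map gX)
      ((Scheme.forgetToLocallyRingedSpace ⋙ LocallyRingedSpace.forgetToSheafedSpace).map gY)) :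
    IsPushout fX.toPshHom fY.toPshHom gX.toPshHom gY.toPshHom :=
  hpo.map SheafedSpace.forgetToPresheafedSpace

theorem sections_ext
    (hpo : IsPushout ((Scheme.forgetToLocallyRingedSpace ⋙ LocallyRingedSpace.forgetToSheafedSpace).map fX)
      ((Scheme.forgetToLocallyRingedSpace ⋙ LocallyRingedSpace.forgetToSheafedSpace).map fY)
      ((Scheme.forgetToLocallyRingedSpace ⋙ LocallyRingedSpace.forgetToSheafedSpace).map gX)
      ((Scheme.forgetToLocallyRingedSpace ⋙ LocallyRingedSpace.forgetToSheafedSpace).map gY))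
    (U : T.Opens) (s s' : Γ(T, U)) (hA : gX.app U s = gX.app U s') (hB : gY.app U s = gY.app U s') :
    s = s' :=
  section_ext_of_isPushout (isPushout_psh fX fY gX gY hpo) U s s' hA hB

theorem sections_glue
    (hpo : IsPushout ((Scheme.forgetToLocallyRingedSpace ⋙ LocallyRingedSpace.forgetToSheafedSpace).map fX)
      ((Scheme.forgetToLocallyRingedSpace ⋙ LocallyRingedSpace.forgetToSheafedSpace).map fY)
      ((Scheme.forgetToLocallyRingedSpace ⋙ LocallyRingedSpace.forgetToSheafedSpace).map gX)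
      ((Scheme.forgetToLocallyRingedSpace ⋙ LocallyRingedSpace.forgetToSheafedSpace).map gY))
    (U : T.Opens) (sX : Γ(X, gX ⁻¹ᵁ U)) (sY : Γ(Y, gY ⁻¹ᵁ U))
    (hO : fX ⁻¹ᵁ (gX ⁻¹ᵁ U) = fY ⁻¹ᵁ (gY ⁻¹ᵁ U))
    (hc : fX.app (gX ⁻¹ᵁ U) sX = Z.presheaf.map (eqToHom hO).op (fY.app (gY ⁻¹ᵁ U) sY)) :
    ∃ s : Γ(T, U), gX.app U s = sX ∧ gY.app U s = sY := by
  refine exists_section_of_isPushout (isPushout_psh fX fY gX gY hpo) ?_ U sX sY hO hc
  intro t
  rcases Groth.Agent.Lib.Helper28.Pinch.jointly_surjective_of_sheafedSpace fX fY gX gY hpo t with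
    ⟨x, hx⟩ | ⟨y, hy⟩
  · exact Or.inl ⟨x, hx⟩
  · exact Or.inr ⟨y, hy⟩

end Sch

end Groth.Agent.Lib.Helper20.PushSec
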