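import Mathlib
import Groth.Prelude
import Groth.Agent.S2331
import Groth.Agent.S2337

/-!
# Helper20: quasi-projective followed by a quasi-compact open immersion is quasi-projective
(G3 for helper3, S19377)
-/

set_option autoImplicit false
set_option linter.style.haveILetI false
universe u
open CategoryTheory CategoryTheory.Limits AlgebraicGeometry

namespace Groth.Agent.Lib.Helper20.QProjComp

/-- a quasi-compact open immersion is quasi-affine -/
theorem isQuasiAffine_of_isOpenImmersion_of_quasiCompact {V S : Scheme.{u}} (j : V ⟶ S)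
    [IsOpenImmersion j] [QuasiCompact j] : Mor2.IsQuasiAffine j := by
  refine ⟨inferInstance, fun W hW => ?_⟩
  haveI : IsAffine (W : Scheme.{u}) := hW
  haveI : CompactSpace (j ⁻¹ᵁ W : Scheme.{u}) :=
    isCompact_iff_compactSpace.mp (QuasiCompact.isCompact_preimage (f := j) _ W.2 hW.isCompact)
  haveI : IsOpenImmersion (j ∣_ W) := inferInstance
  exact Scheme.IsQuasiAffine.of_isImmersion (j ∣_ W)

/-- the structure sheaf is ample relative to a quasi-compact open immersion -/
theorem isRelAmple_structureModule_of_isOpenImmersion {V S : Scheme.{u}} (j : V ⟶ S)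
    [IsOpenImmersion j] [QuasiCompact j] : RelAmple.IsRelAmple j (Coh.structureModule V) :=
  (Groth.Agent.S2337.result j).mp (isQuasiAffine_of_isOpenImmersion_of_quasiCompact j)

/-- **G3** -/
theorem isQuasiProjective_comp_openImmersion {X V S : Scheme.{u}} [CompactSpace S] (h : X ⟶ V)
    (j : V ⟶ S) [IsOpenImmersion j] [QuasiCompact j] (hq : RelProj.IsQuasiProjective h) :
    RelProj.IsQuasiProjective (h ≫ j) := by
  obtain ⟨hlft, hqc, L, hL⟩ := hq
  haveI := hlft
  haveI := hqc
  have hK : RelAmple.IsRelAmple j (Coh.structureModule V) :=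
    isRelAmple_structureModule_of_isOpenImmersion j
  obtain ⟨n₀, _, hn⟩ := Groth.Agent.S2331.result h j L (Coh.structureModule V) hL hK
  exact ⟨inferInstance, inferInstance, _, hn n₀ le_rfl⟩

end Groth.Agent.Lib.Helper20.QProjComp
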