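import Groth.Agent.Lib.Helper20.QcohVanishCore
import Groth.Agent.S0042
import Groth.Agent.S2128
import Groth.Agent.S0800

/-!
# Helper20: vanishing of `R^i f_*` on quasi-coherent modules above the fibre dimension
(K1 for helper12, S7411) - instantiation of `QcohVanishCore` with the landed S0042, S2128, S0800.
-/

set_option autoImplicit false
set_option linter.style.haveILetI false
universe u
open CategoryTheory CategoryTheory.Limits AlgebraicGeometry

namespace Groth.Agent.Lib.Helper20.QcohVanish

theorem isZero_RpushAb_qcoh_of_fibre_dim_le {X Y : Scheme.{u}} (f : X ⟶ Y) [IsProper f]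
    [IsNoetherian Y] (d : ℕ) (hd : ∀ y : Y, topologicalKrullDim ↥(f.fiber y) ≤ d)
    (M : X.Modules) (hM : Coh.IsQCoh M) (i : ℕ) (hi : d < i) :
    Limits.IsZero ((Coh.RpushAb f i).obj (Coh.toAb M)) := by
  haveI : CompactSpace X := QuasiCompact.compactSpace_of_compactSpace f
  haveI : QuasiSeparatedSpace X := quasiSeparatedSpace_of_quasiSeparated f
  exact Groth.Agent.Lib.Helper20.QcohVanishCore.isZero_RpushAb_qcoh_core f M i
    (fun y N hN => Groth.Agent.S0042.result f y d (hd y) N hN i hi)
    (Groth.Agent.S2128.result X M hM)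
    (fun J _ _ => Groth.Agent.S0800.result f i J)

end Groth.Agent.Lib.Helper20.QcohVanish
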