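import Mathlib

/-!
# Helper20: a point whose infinitesimal neighbourhood factors through `xi` is in the range of `xi`
(L3' for helper27, S5309)
-/

set_option autoImplicit false
set_option linter.style.haveILetI false
universe u
open CategoryTheory CategoryTheory.Limits AlgebraicGeometry PrimeSpectrum

namespace Groth.Agent.Lib.Helper20.QfFiltL3p

/-- (L3') the point is in the range -/
theorem mem_range_of_factor {X Xi : Scheme.{u}} (xi : Xi ⟶ X) (p : X) (n : ℕ)
    (μ : Spec (CommRingCat.of (X.presheaf.stalk p ⧸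
        IsLocalRing.maximalIdeal (X.presheaf.stalk p) ^ (n + 1))) ⟶ Xi)
    (hμ : μ ≫ xi = Spec.map (CommRingCat.ofHom (Ideal.Quotient.mk
        (IsLocalRing.maximalIdeal (X.presheaf.stalk p) ^ (n + 1)))) ≫ X.fromSpecStalk p) :
    p ∈ Set.range xi := by
  have hmem : IsLocalRing.closedPoint (X.presheaf.stalk p) ∈ Set.range (PrimeSpectrum.comap
      (Ideal.Quotient.mk (IsLocalRing.maximalIdeal (X.presheaf.stalk p) ^ (n + 1)))) := by
    rw [range_comap_of_surjective _ _ Ideal.Quotient.mk_surjective, Ideal.mk_ker]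
    exact Ideal.pow_le_self (Nat.succ_ne_zero n)
  obtain ⟨c, hc⟩ := hmem
  refine ⟨μ c, ?_⟩
  have h1 : xi (μ c) = (μ ≫ xi) c := rfl
  rw [h1, hμ]
  have h2 : (Spec.map (CommRingCat.ofHom (Ideal.Quotient.mk
      (IsLocalRing.maximalIdeal (X.presheaf.stalk p) ^ (n + 1)))) ≫ X.fromSpecStalk p) c =
      X.fromSpecStalk p (IsLocalRing.closedPoint (X.presheaf.stalk p)) := by
    rw [← hc]
    rfl
  rw [h2, Scheme.fromSpecStalk_closedPoint]

end Groth.Agent.Lib.Helper20.QfFiltL3p
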