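import Mathlib

/-!
# Helper20: a closed immersion which is injective on sections of an affine cover is an isomorphism
(L5 for helper27, S5309)
-/

set_option autoImplicit false
set_option linter.style.haveILetI false
universe u
open CategoryTheory CategoryTheory.Limits AlgebraicGeometry

namespace Groth.Agent.Lib.Helper20.QfFiltL5

/-- (L5) closed immersion injective on sections of an affine cover is iso -/
theorem isIso_of_isClosedImmersion_of_app_injective {X Y : Scheme.{u}} (f : X ⟶ Y)
    [IsClosedImmersion f] {κ : Type u} (W : κ → Y.Opens) (hW : ∀ k, IsAffineOpen (W k))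
    (hcov : ⨆ k, W k = ⊤) (hinj : ∀ k, Function.Injective (f.app (W k))) : IsIso f := by
  change MorphismProperty.isomorphisms Scheme.{u} f
  refine IsZariskiLocalAtTarget.of_iSup_eq_top (P := MorphismProperty.isomorphisms Scheme.{u})
    W hcov (fun k => ?_)
  change IsIso (f ∣_ W k)
  haveI : IsAffine (W k : Scheme.{u}) := hW k
  haveI : IsClosedImmersion (f ∣_ W k) := inferInstance
  apply IsClosedImmersion.isIso_of_injective_of_isAffine
  rw [morphismRestrict_appTop]
  have h1 : ∀ V : Y.Opens, V = W k → Function.Injective (f.app V) := by
    rintro V rfl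
    exact hinj k
  have h2 : Function.Injective (f.app ((W k).ι ''ᵁ ⊤)) := h1 _ (by simp)
  have h3 : Function.Injective (X.presheaf.map
      (eqToHom (image_morphismRestrict_preimage f (W k) ⊤)).op) :=
    (ConcreteCategory.bijective_of_isIso _).1
  intro a b hab
  apply h2
  apply h3
  exact hab

end Groth.Agent.Lib.Helper20.QfFiltL5
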