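import Mathlib
import Groth.Prelude.Def_Found
import Groth.Agent.Lib.Helper12.JacSupport
import Groth.Agent.Lib.Helper12.ClosedSub
import Groth.Agent.Lib.Helper14.CMUnivCat
import Groth.Agent.Lib.Helper14.CMFlat
import Groth.Agent.Lib.Helper26.RegularRing
import Groth.Agent.Lib.Helper20.Biequi1

/-!
# Rectified depth (EGA IV 10.8): dimension-theoretic part

Dimension of closures of points on schemes locally of finite type over a Jacobson universally
catenary base with equidimensional components.
-/

set_option autoImplicit false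
set_option maxHeartbeats 400000
universe u
open AlgebraicGeometry CategoryTheory

namespace Groth.Agent.Lib.Helper20.RectDepth

open Groth.Agent.Lib.Helper12 Groth.Agent.Lib.Helper12.SchemeDimIneq
open Groth.Agent.Lib.Helper12.JacDim Groth.Agent.Lib.Helper12.JacLocalDim
open Groth.Agent.Lib.Helper20.Biequi

theorem isUniversallyCatenary_of_isRegularLocalRing (R : Type u) [CommRing R]
    [IsRegularLocalRing R] : CAlg.IsUniversallyCatenary R := by
  haveI : IsRegularRing R :=
    Groth.Agent.Lib.Helper26.RegularRing.isRegularRing_of_isRegularLocalRing R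
  haveI : LocCoh.IsCohenMacaulayRing R := Groth.Agent.Lib.Helper14.CMFlat.cm_of_isRegularRing R
  exact Groth.Agent.Lib.Helper14.CMUnivCat.isUniversallyCatenary R

section LFT

variable {X S : Scheme.{u}} [IsLocallyNoetherian S] [JacobsonSpace S]
  (h2 : ∀ s : S, CAlg.IsUniversallyCatenary (S.presheaf.stalk s))
  (h3 : ∀ S' ∈ irreducibleComponents (S : Type u), ∀ s ∈ S', IsClosed ({s} : Set S) →
      topologicalKrullDim (↥S' : Type u) = topologicalKrullDim ↥{t : S | t ∈ S' ∧ t ⤳ s})

include h2 h3

/-- The dimension of the closure of a point of a scheme locally of finite type over `S`. -/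
theorem dim_closure_eq_add_trn (g : X ⟶ S) [LocallyOfFiniteType g] (x : X) (c : ℕ)
    (hc : ∀ s0 : S, IsClosed ({s0} : Set S) → g x ⤳ s0 →
      Order.krullDim (Set.Icc s0 (g x)) = c) :
    topologicalKrullDim ↥(closure ({x} : Set X)) =
      (c : WithBot ℕ∞) + ((trn g x : ℕ∞) : WithBot ℕ∞) := by
  haveI : IsLocallyNoetherian X := LocallyOfFiniteType.isLocallyNoetherian g
  haveI : JacobsonSpace X := LocallyOfFiniteType.jacobsonSpace g
  have hcat := isCatenary_stalk_of_lft g h2
  have h3X := equidim_components_of_lft h2 h3 g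
  obtain ⟨x0, -, hx0, hxx0⟩ := exists_closed_specialization_open (X := X) Set.univ isOpen_univ x
    trivial
  rw [dim_closure_eq' hcat h3X x x0 hx0 hxx0]
  have hgx0 : IsClosed ({g x0} : Set S) := g.closePoints_subset_preimage_closedPoints hx0
  have DF := scheme_dimFormula g x0 x hxx0 (h2 (g x0))
  rw [trn_eq_zero_of_isClosed g x0 hx0, hc (g x0) hgx0 (hxx0.map g.continuous)] at DF
  simpa using DF

/-- Closures of corresponding points have the same dimension in `X` and in a scheme `P` into
which an open of `X` is immersed over `S`. -/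
theorem dim_closure_eq_of_comm {P U : Scheme.{u}} (g : X ⟶ S) [LocallyOfFiniteType g]
    (π : P ⟶ S) [LocallyOfFiniteType π] (j : U ⟶ X) [IsPreimmersion j] (i : U ⟶ P)
    [IsPreimmersion i] (h : j ≫ g = i ≫ π) (z : U) :
    topologicalKrullDim ↥(closure ({j z} : Set X)) =
      topologicalKrullDim ↥(closure ({i z} : Set P)) := by
  obtain ⟨c, hc⟩ := exists_const_krullDim_Icc h2 h3 (g (j z))
  have e : π (i z) = g (j z) := by
    have := congrArg (fun f => f z) h
    exact this.symm
  rw [dim_closure_eq_add_trn h2 h3 g (j z) c hc,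
    dim_closure_eq_add_trn h2 h3 π (i z) c (by rw [e]; exact hc),
    ← Groth.Agent.Lib.Helper12.ClosedSub.trn_comp_preimmersion j g z,
    ← Groth.Agent.Lib.Helper12.ClosedSub.trn_comp_preimmersion i π z, h]

/-- The dimension of the closure of a point is finite. -/
theorem exists_nat_dim_closure (g : X ⟶ S) [LocallyOfFiniteType g] (x : X) :
    ∃ m : ℕ, topologicalKrullDim ↥(closure ({x} : Set X)) = m := by
  obtain ⟨c, hc⟩ := exists_const_krullDim_Icc h2 h3 (g x)
  obtain ⟨t, ht⟩ := exists_trn_eq g x
  refine ⟨c + t, ?_⟩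
  rw [dim_closure_eq_add_trn h2 h3 g x c hc, ht]
  push_cast
  rfl

end LFT

section P

variable {P : Scheme.{u}} [IsLocallyNoetherian P] [JacobsonSpace P]
  (hcat : ∀ y : P, CAlg.IsCatenary (P.presheaf.stalk y))
  (h3 : ∀ P' ∈ irreducibleComponents (P : Type u), ∀ y ∈ P', IsClosed ({y} : Set P) →
      topologicalKrullDim (↥P' : Type u) = topologicalKrullDim ↥{t : P | t ∈ P' ∧ t ⤳ y})

include hcat h3 in
theorem dim_closure_genPt (y : P) [IsDomain (P.presheaf.stalk y)] :
    topologicalKrullDim ↥(closure ({genPt y} : Set P)) =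
      topologicalKrullDim ↥(closure ({y} : Set P)) + ringKrullDim (P.presheaf.stalk y) := by
  rw [dim_closure_add' hcat h3 y (genPt y) (genPt_specializes y), ← dim_generizations y,
    topologicalKrullDim_generizations y (genPt y) (genPt_specializes y)]

omit [IsLocallyNoetherian P] [JacobsonSpace P] in
theorem genPt_eq_of_specializes (y y' : P) [IsDomain (P.presheaf.stalk y)]
    [IsDomain (P.presheaf.stalk y')] (h : y' ⤳ y) : genPt y' = genPt y := by
  have h1 : genPt y ⤳ y' := genPt_specializes_of_specializes y y' h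
  have h2 : genPt y' ⤳ genPt y := genPt_specializes_of_specializes y' (genPt y) h1
  have h3 : genPt y ⤳ genPt y' :=
    genPt_specializes_of_specializes y (genPt y') ((genPt_specializes y').trans h)
  exact (h2.antisymm h3).eq

end P

end Groth.Agent.Lib.Helper20.RectDepth
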