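import Mathlib
import Groth.Prelude.Def_Found
import Groth.Agent.Lib.Helper20.Biequi1
import Groth.Agent.Lib.Helper20.RectDepth1
import Groth.Agent.Lib.Helper26.PdOpen
import Groth.Agent.Lib.Helper12.ProductDim

/-!
# Rectified depth (EGA IV 10.8): local constancy of the generic point, Auslander–Buchsbaum
for regular local rings, and the open loci of bounded projective dimension.
-/

set_option autoImplicit false
set_option maxHeartbeats 400000
set_option linter.style.haveILetI false
universe u
open AlgebraicGeometry CategoryTheory

namespace Groth.Agent.Lib.Helper20.RectDepth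

open Groth.Agent.Lib.Helper20.Biequi

section genPt

variable {P : Scheme.{u}}

/-- On a Noetherian scheme with integral local rings, the generic point of the component through
a point is locally constant. -/
theorem exists_open_genPt_eq [TopologicalSpace.NoetherianSpace P]
    (hdom : ∀ y : P, IsDomain (P.presheaf.stalk y)) (y : P) :
    ∃ N : Set P, IsOpen N ∧ y ∈ N ∧ ∀ y' ∈ N, @genPt P y' (hdom y') = @genPt P y (hdom y) := by
  classical
  haveI := hdom y
  have hfin : (irreducibleComponents (P : Type u)).Finite :=
    TopologicalSpace.NoetherianSpace.finite_irreducibleComponents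
  let T : Set (Set P) := {Z | Z ∈ irreducibleComponents (P : Type u) ∧ y ∉ Z}
  have hTfin : T.Finite := hfin.subset (fun Z hZ => hZ.1)
  have hcl : IsClosed (⋃₀ T) := by
    rw [Set.sUnion_eq_biUnion]
    exact hTfin.isClosed_biUnion (fun Z hZ => isClosed_of_mem_irreducibleComponents Z hZ.1)
  -- key: a point all of whose components contain `y` has the same generic point
  have key : ∀ z : P, (∀ Z ∈ irreducibleComponents (P : Type u), z ∈ Z → y ∈ Z) →
      @genPt P z (hdom z) = genPt y := by
    intro z hz
    haveI := hdom z
    have hyZ : y ∈ closure ({genPt z} : Set P) :=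
      hz _ (closure_genPt_mem_irreducibleComponents z) (genPt_specializes z).mem_closure
    have h1 : genPt z ⤳ y := specializes_iff_mem_closure.mpr hyZ
    have h2 : genPt y ⤳ genPt z := genPt_specializes_of_specializes y (genPt z) h1
    -- `genPt z` is maximal: closure {genPt z} is a component
    have hmax := closure_genPt_mem_irreducibleComponents z
    have hsub : closure ({genPt z} : Set P) ⊆ closure ({genPt y} : Set P) :=
      closure_minimal (by
        intro w hw
        rw [Set.mem_singleton_iff] at hw
        rw [hw]
        exact h2.mem_closure) isClosed_closure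
    have hle : closure ({genPt y} : Set P) ⊆ closure ({genPt z} : Set P) :=
      hmax.2 isIrreducible_singleton.closure hsub
    have h3 : genPt z ⤳ genPt y :=
      specializes_iff_mem_closure.mpr (hle (subset_closure rfl))
    exact (h3.antisymm h2).eq
  refine ⟨(⋃₀ T)ᶜ, hcl.isOpen_compl, ?_, ?_⟩
  · rintro ⟨Z, hZ, hyZ⟩
    exact hZ.2 hyZ
  · intro y' hy'
    apply key
    intro Z hZ hy'Z
    by_contra hyZ
    exact hy' ⟨Z, ⟨hZ, hyZ⟩, hy'Z⟩

end genPt

section AB

/-- Auslander–Buchsbaum over a regular local ring, in numerical form. -/
theorem exists_depth_pd (R : Type u) [CommRing R] [IsRegularLocalRing R] (N : Type u)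
    [AddCommGroup N] [Module R N] [Module.Finite R N] [Nontrivial N] :
    ∃ k e : ℕ, LocCoh.depth R N = (k : ℕ∞) ∧
      projectiveDimension (ModuleCat.of R N) = ((e : ℕ∞) : WithBot ℕ∞) ∧
      ringKrullDim R = (((k + e : ℕ) : ℕ∞) : WithBot ℕ∞) := by
  obtain ⟨d, hd⟩ := Groth.Agent.Lib.Helper4.RegCM.exists_nat_ringKrullDim (R := R)
  have hpdlt : HasProjectiveDimensionLT (ModuleCat.of R N) (d + 1) :=
    Groth.Agent.S0563.result _ d hd _
  have hne_bot : projectiveDimension (ModuleCat.of R N) ≠ ⊥ := by
    rw [Ne, projectiveDimension_eq_bot_iff]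
    intro hz
    haveI : Subsingleton N := ModuleCat.subsingleton_of_isZero hz
    exact not_subsingleton _ ‹_›
  have hlt : projectiveDimension (ModuleCat.of R N) < ((d + 1 : ℕ) : WithBot ℕ∞) :=
    projectiveDimension_lt_iff.2 hpdlt
  obtain ⟨e, he⟩ : ∃ e : ℕ, projectiveDimension (ModuleCat.of R N) = e := by
    rcases Groth.Agent.Lib.Helper12.ProductDim.withBot_enat_cases
      (projectiveDimension (ModuleCat.of R N)) with h | h | ⟨m, h⟩
    · exact absurd h hne_bot
    · rw [h] at hlt
      exact absurd hlt (by simp)
    · exact ⟨m, h⟩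
  have hAB := Groth.Agent.S0604.result R N e he
  have hreg' := Groth.Agent.Lib.Helper4.RegCM.depth_eq_ringKrullDim (R := R)
  rw [hd] at hreg'
  have h1 : LocCoh.depth R R = (d : ℕ∞) := by exact_mod_cast hreg'
  rw [h1] at hAB
  have hk : LocCoh.depth R N ≠ ⊤ := by
    intro htop
    rw [htop] at hAB
    simp at hAB
  obtain ⟨k, hk'⟩ := ENat.ne_top_iff_exists.mp hk
  refine ⟨k, e, hk'.symm, he, ?_⟩
  rw [← hk'] at hAB
  have h2 : d = e + k := by exact_mod_cast hAB
  rw [hd, h2, add_comm]
  rfl

end AB

section pdLT

variable {A : Type u} [CommRing A] [IsNoetherianRing A]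

/-- the locus of primes where the localization has projective dimension `< m`. -/
def pdLTLocus (M : ModuleCat.{u} A) (m : ℕ) : Set (PrimeSpectrum A) :=
  {p | HasProjectiveDimensionLT (M.localizedModule p.asIdeal.primeCompl) m}

omit [IsNoetherianRing A] in
theorem pdLTLocus_succ (M : ModuleCat.{u} A) (m : ℕ) :
    pdLTLocus M (m + 1) = Groth.Agent.Lib.Helper26.PdOpen.pdLocus M m := rfl

theorem isOpen_pdLTLocus (M : ModuleCat.{u} A) [Module.Finite A M] (m : ℕ) :
    IsOpen (pdLTLocus M m) := by
  cases m with
  | succ m => exact Groth.Agent.Lib.Helper26.PdOpen.isOpen_pdLocus m M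
  | zero =>
    have : pdLTLocus M 0 = (Module.support A M)ᶜ := by
      ext p
      haveI hloc := ModuleCat.localizedModule_isLocalizedModule M p.asIdeal.primeCompl
      simp only [pdLTLocus, Set.mem_setOf_eq, Set.mem_compl_iff]
      rw [hasProjectiveDimensionLT_zero_iff_isZero,
        Module.notMem_support_iff' ]
      constructor
      · intro h m
        haveI : Subsingleton ↑(M.localizedModule p.asIdeal.primeCompl) :=
          ModuleCat.subsingleton_of_isZero h
        have h0 : M.localizedModuleMkLinearMap p.asIdeal.primeCompl m = 0 :=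
          Subsingleton.elim _ _
        obtain ⟨r, hr⟩ := (IsLocalizedModule.eq_zero_iff p.asIdeal.primeCompl
          (M.localizedModuleMkLinearMap p.asIdeal.primeCompl)).mp h0
        exact ⟨r.1, r.2, hr⟩
      · intro h
        haveI : Subsingleton ↑(M.localizedModule p.asIdeal.primeCompl) := by
          refine ⟨fun a b => ?_⟩
          have hz : ∀ a : ↑(M.localizedModule p.asIdeal.primeCompl), a = 0 := by
            intro a
            obtain ⟨⟨m, s⟩, hms⟩ := IsLocalizedModule.surj p.asIdeal.primeCompl
              (M.localizedModuleMkLinearMap p.asIdeal.primeCompl) a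
            obtain ⟨r, hr1, hr2⟩ := h m
            have h0 : M.localizedModuleMkLinearMap p.asIdeal.primeCompl m = 0 :=
              (IsLocalizedModule.eq_zero_iff p.asIdeal.primeCompl
                (M.localizedModuleMkLinearMap p.asIdeal.primeCompl)).mpr ⟨⟨r, hr1⟩, hr2⟩
            rw [h0] at hms
            have hu := IsLocalizedModule.map_units
              (M.localizedModuleMkLinearMap p.asIdeal.primeCompl) s
            have h1 : (algebraMap A (Module.End A ↑(M.localizedModule p.asIdeal.primeCompl)) s) a
                = 0 := by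
              rw [Module.algebraMap_end_apply]
              simpa [Submonoid.smul_def] using hms
            exact (Module.End.isUnit_iff _).mp hu |>.injective (by rw [h1, map_zero])
          rw [hz a, hz b]
        exact ModuleCat.isZero_of_subsingleton _
    rw [this]
    rw [Module.support_eq_zeroLocus]
    exact (PrimeSpectrum.isClosed_zeroLocus _).isOpen_compl

end pdLT

end Groth.Agent.Lib.Helper20.RectDepth
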