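import Mathlib
import Groth.Prelude.Def_Found
import Groth.Agent.Lib.Helper20.RectDepth2
import Groth.Agent.Lib.Helper26.RegularSch
import Groth.Agent.Lib.Helper1.DepthOpen2

/-!
# Rectified depth (EGA IV 10.8): the local chart `U ↪ Spec A[T₁,…,Tₙ]`
-/

set_option autoImplicit false
set_option maxHeartbeats 400000
set_option linter.style.haveILetI false
universe u
open AlgebraicGeometry CategoryTheory

namespace Groth.Agent.Lib.Helper20.RectDepth

section specStalk

variable (C : Type u) [CommRing C]

/-- The stalk of `Spec C` at a prime is the localization. -/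
noncomputable def specStalkEquiv (y : Spec (CommRingCat.of C)) :
    (Spec (CommRingCat.of C)).presheaf.stalk y ≃+* Localization.AtPrime y.asIdeal :=
  (AlgebraicGeometry.StructureSheaf.stalkIso C y).symm.toRingEquiv

end specStalk

section chart

variable {X S : Scheme.{u}} (g : X ⟶ S)
  {V : S.Opens} (hV : IsAffineOpen V) {U : X.Opens} (hU : IsAffineOpen U) (hUV : U ≤ g ⁻¹ᵁ V)
  (n : ℕ) (φ : MvPolynomial (Fin n) Γ(S, V) →+* Γ(X, U))

/-- the ambient affine space of the chart -/
noncomputable abbrev chartP (V : S.Opens) (n : ℕ) : Scheme.{u} :=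
  Spec (CommRingCat.of (MvPolynomial (Fin n) Γ(S, V)))

/-- the closed immersion of the chart -/
noncomputable def chartI : (U : Scheme.{u}) ⟶ chartP V n :=
  hU.isoSpec.hom ≫ Spec.map (CommRingCat.ofHom φ)

/-- the structure morphism of the ambient affine space -/
noncomputable def chartπ : chartP V n ⟶ S :=
  Spec.map (CommRingCat.ofHom (MvPolynomial.C (σ := Fin n) (R := Γ(S, V)))) ≫ hV.fromSpec

include hUV in
theorem chart_comm (hφC : φ.comp MvPolynomial.C = (g.appLE V U hUV).hom) :
    U.ι ≫ g = chartI hU n φ ≫ chartπ hV n := by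
  unfold chartI chartπ
  rw [Category.assoc, ← Category.assoc (Spec.map _), ← Spec.map_comp, ← CommRingCat.ofHom_comp,
    hφC, CommRingCat.ofHom_hom, IsAffineOpen.SpecMap_appLE_fromSpec g hV hU hUV,
    ← Category.assoc, hU.isoSpec_hom_fromSpec]

instance chartI_isClosedImmersion [Fact (Function.Surjective φ)] :
    IsClosedImmersion (chartI hU n φ) := by
  unfold chartI
  haveI : IsClosedImmersion (Spec.map (CommRingCat.ofHom φ)) :=
    IsClosedImmersion.spec_of_surjective _ (Fact.out : Function.Surjective φ)
  infer_instance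

instance chartπ_lft : LocallyOfFiniteType (chartπ hV n) := by
  unfold chartπ
  haveI : LocallyOfFiniteType
      (Spec.map (CommRingCat.ofHom (MvPolynomial.C (σ := Fin n) (R := Γ(S, V))))) := by
    rw [HasRingHomProperty.Spec_iff (P := @LocallyOfFiniteType)]
    show RingHom.FiniteType (algebraMap Γ(S, V) (MvPolynomial (Fin n) Γ(S, V)))
    exact RingHom.finiteType_algebraMap.mpr inferInstance
  infer_instance

theorem chartI_asIdeal (z : U) :
    (chartI hU n φ z).asIdeal = (hU.primeIdealOf z).asIdeal.comap φ := rfl

theorem chartπ_apply (y : chartP V n) :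
    chartπ hV n y = hV.fromSpec (PrimeSpectrum.comap MvPolynomial.C y) := rfl

end chart

end Groth.Agent.Lib.Helper20.RectDepth
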