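import Mathlib
import Groth.Prelude.Def_Found
import Groth.Agent.Lib.Helper20.RectDepth3
import Groth.Agent.Lib.Helper20.Biequi3

/-!
# Rectified depth (EGA IV 10.8): ring-level formula and regularity of the chart
-/

set_option autoImplicit false
set_option maxHeartbeats 400000
set_option linter.style.haveILetI false
universe u
open AlgebraicGeometry CategoryTheory

namespace Groth.Agent.Lib.Helper20.RectDepth

open Groth.Agent.Lib.Helper20.Biequi

section ring

variable {C : Type u} [CommRing C] [IsNoetherianRing C] (N : Type u) [AddCommGroup N]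
  [Module C N] [Module.Finite C N] (Q : PrimeSpectrum C)

theorem mem_pdLTLocus_iff (m : ℕ) :
    Q ∈ pdLTLocus (ModuleCat.of C N) m ↔
      HasProjectiveDimensionLT (ModuleCat.of (Localization.AtPrime Q.asIdeal)
        (LocalizedModule Q.asIdeal.primeCompl N)) m := by
  haveI hloc := ModuleCat.localizedModule_isLocalizedModule (ModuleCat.of C N)
    Q.asIdeal.primeCompl
  show HasProjectiveDimensionLT (ModuleCat.of (Localization Q.asIdeal.primeCompl)
    ↑((ModuleCat.of C N).localizedModule Q.asIdeal.primeCompl)) m ↔ _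
  exact hasPdLT_model_iff Q.asIdeal.primeCompl m
    ((ModuleCat.of C N).localizedModuleMkLinearMap Q.asIdeal.primeCompl)
    (LocalizedModule.mkLinearMap Q.asIdeal.primeCompl N)

theorem ring_main [IsRegularLocalRing (Localization.AtPrime Q.asIdeal)]
    [Nontrivial (LocalizedModule Q.asIdeal.primeCompl N)] :
    ∃ k e : ℕ, LocCoh.depth (Localization.AtPrime Q.asIdeal)
        (LocalizedModule Q.asIdeal.primeCompl N) = (k : ℕ∞) ∧
      ringKrullDim (Localization.AtPrime Q.asIdeal) = (((k + e : ℕ) : ℕ∞) : WithBot ℕ∞) ∧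
      ∀ m : ℕ, Q ∈ pdLTLocus (ModuleCat.of C N) m ↔ e < m := by
  haveI : Module.Finite (Localization.AtPrime Q.asIdeal)
      (LocalizedModule Q.asIdeal.primeCompl N) :=
    Module.Finite.of_isLocalizedModule Q.asIdeal.primeCompl
      (LocalizedModule.mkLinearMap Q.asIdeal.primeCompl N)
  obtain ⟨k, e, hk, he, hd⟩ := exists_depth_pd (Localization.AtPrime Q.asIdeal)
    (LocalizedModule Q.asIdeal.primeCompl N)
  refine ⟨k, e, hk, hd, fun m => ?_⟩
  rw [mem_pdLTLocus_iff, ← projectiveDimension_lt_iff, he]
  exact_mod_cast Iff.rfl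

theorem mem_pdLTLocus_of_subsingleton
    (h : Subsingleton (LocalizedModule Q.asIdeal.primeCompl N)) (m : ℕ) :
    Q ∈ pdLTLocus (ModuleCat.of C N) m := by
  rw [mem_pdLTLocus_iff]
  have hz : Limits.IsZero (ModuleCat.of (Localization.AtPrime Q.asIdeal)
      (LocalizedModule Q.asIdeal.primeCompl N)) := ModuleCat.isZero_of_subsingleton _
  haveI := hz.hasProjectiveDimensionLT_zero
  exact hasProjectiveDimensionLT_of_ge _ 0 _ (Nat.zero_le _)

end ring

section reg

variable {S : Scheme.{u}} (hreg : ∀ s : S, IsRegularLocalRing (S.presheaf.stalk s))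
  {V : S.Opens} (hV : IsAffineOpen V) (n : ℕ)

include hreg hV in
theorem isRegularLocalRing_atPrime_chart (y : PrimeSpectrum (MvPolynomial (Fin n) Γ(S, V))) :
    IsRegularLocalRing (Localization.AtPrime y.asIdeal) := by
  set p : PrimeSpectrum Γ(S, V) := PrimeSpectrum.comap MvPolynomial.C y with hp
  have hs : hV.fromSpec p ∈ V := Groth.Agent.Lib.Helper1.DepthOpen.fromSpec_mem hV p
  haveI : IsRegularLocalRing (Localization.AtPrime p.asIdeal) := by
    have h := (Groth.Agent.Lib.Helper26.RegularSch.isRegularLocalRing_stalk_iff hV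
      ⟨hV.fromSpec p, hs⟩).mp (hreg _)
    rw [Groth.Agent.Lib.Helper1.DepthOpen.primeIdealOf_fromSpec hV p hs] at h
    exact h
  exact Groth.Agent.Lib.Helper26.RegularSch.isRegularLocalRing_mvPolynomial_atPrime Γ(S, V) n
    p.asIdeal y.asIdeal rfl

include hreg hV in
theorem isRegularLocalRing_stalk_chart (y : chartP V n) :
    IsRegularLocalRing ((chartP V n).presheaf.stalk y) := by
  haveI := isRegularLocalRing_atPrime_chart hreg hV n y
  exact IsRegularLocalRing.of_ringEquiv (specStalkEquiv _ y).symm

end reg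

end Groth.Agent.Lib.Helper20.RectDepth
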