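import Mathlib
import Groth.Prelude.Def_Found
import Groth.Agent.Lib.Helper20.RectDepth4
import Groth.Agent.Lib.Helper4.SkOpen
import Groth.Agent.Lib.Helper3.AssPoints
import Groth.Agent.Lib.Helper3.QCProps
import Groth.Agent.Lib.Helper9.RegLocal

/-!
# Rectified depth (EGA IV 10.8): the main local formula
-/

set_option autoImplicit false
set_option maxHeartbeats 1000000
set_option linter.style.haveILetI false
universe u
open AlgebraicGeometry CategoryTheory

namespace Groth.Agent.Lib.Helper20.RectDepth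

open Groth.Agent.Lib.Helper20.Biequi Groth.Agent.Lib.Helper12.JacLocalDim

section supp

variable {B C : Type u} [CommRing B] [CommRing C] (φ : C →+* B) (hφ : Function.Surjective φ)
  (N : Type u) [AddCommGroup N] [Module B N]

include hφ in
/-- Support along restriction of scalars through a surjection. -/
theorem mem_support_comap_iff (q : PrimeSpectrum B) :
    letI : Module C N := Module.compHom N φ
    PrimeSpectrum.comap φ q ∈ Module.support C N ↔ q ∈ Module.support B N := by
  letI : Module C N := Module.compHom N φ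
  rw [← not_iff_not, Module.notMem_support_iff', Module.notMem_support_iff']
  constructor
  · intro h m
    obtain ⟨c, hc, hcm⟩ := h m
    exact ⟨φ c, hc, hcm⟩
  · intro h m
    obtain ⟨b, hb, hbm⟩ := h m
    obtain ⟨c, rfl⟩ := hφ b
    exact ⟨c, hb, hbm⟩

end supp

section main

variable {X S : Scheme.{u}} [IsLocallyNoetherian S] [JacobsonSpace S]

theorem chart_main (hreg : ∀ s : S, IsRegularLocalRing ↑(S.presheaf.stalk s))
    (h3 : ∀ S' ∈ irreducibleComponents (S : Type u), ∀ s ∈ S', IsClosed ({s} : Set S) →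
      topologicalKrullDim (↥S' : Type u) = topologicalKrullDim ↥{t : S | t ∈ S' ∧ t ⤳ s})
    (g : X ⟶ S) [LocallyOfFiniteType g] (F : X.Modules) (hF : Coh.IsCoh F) (x1 : X) :
    ∃ (O : Set X) (E : ℕ) (L : ℕ → Set X), IsOpen O ∧ x1 ∈ O ∧ (∀ m, IsOpen (L m)) ∧
      ∀ x ∈ O,
        (x ∉ CohB1.support F → ∀ m, x ∈ L m) ∧
        (x ∈ CohB1.support F → ∃ k e dl : ℕ,
          LocCoh.depth ↑(X.presheaf.stalk x) ↑(F.presheaf.stalk x) = (k : ℕ∞) ∧
          topologicalKrullDim ↥(closure ({x} : Set X)) = ((dl : ℕ∞) : WithBot ℕ∞) ∧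
          k + e + dl = E ∧ ∀ m, (x ∈ L m ↔ e < m)) := by
  classical
  have h2 : ∀ s : S, CAlg.IsUniversallyCatenary (S.presheaf.stalk s) := fun s => by
    haveI := hreg s
    exact isUniversallyCatenary_of_isRegularLocalRing _
  haveI : IsLocallyNoetherian X := LocallyOfFiniteType.isLocallyNoetherian g
  haveI : F.IsQuasicoherent := hF.1
  haveI : F.IsFiniteType := hF.2
  obtain ⟨_, ⟨V, hV, rfl⟩, hxV, -⟩ := S.isBasis_affineOpens.exists_subset_of_mem_open
    (Set.mem_univ (g x1)) isOpen_univ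
  obtain ⟨_, ⟨U, hU, rfl⟩, hxU, hUV⟩ := X.isBasis_affineOpens.exists_subset_of_mem_open
    hxV (g ⁻¹ᵁ V).2
  letI algAB : Algebra Γ(S, V) Γ(X, U) := (g.appLE V U hUV).hom.toAlgebra
  haveI hft : Algebra.FiniteType Γ(S, V) Γ(X, U) := Scheme.Hom.finiteType_appLE g hV hU hUV
  obtain ⟨n, φ', hφ'⟩ := Algebra.FiniteType.iff_quotient_mvPolynomial''.mp hft
  obtain ⟨φ, hφdef⟩ : ∃ φ : MvPolynomial (Fin n) Γ(S, V) →+* Γ(X, U), φ = φ'.toRingHom :=
    ⟨_, rfl⟩
  have hφs : Function.Surjective φ := by rw [hφdef]; exact hφ'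
  have hφC : φ.comp MvPolynomial.C = (g.appLE V U hUV).hom := by
    rw [hφdef]
    ext a
    exact φ'.commutes a
  haveI : Fact (Function.Surjective φ) := ⟨hφs⟩
  haveI : IsNoetherianRing Γ(S, V) := IsLocallyNoetherian.component_noetherian ⟨V, hV⟩
  haveI : IsNoetherianRing Γ(X, U) := IsLocallyNoetherian.component_noetherian ⟨U, hU⟩
  -- the ambient scheme
  haveI : IsLocallyNoetherian (chartP V n) :=
    LocallyOfFiniteType.isLocallyNoetherian (chartπ hV n)
  haveI : JacobsonSpace (chartP V n) := LocallyOfFiniteType.jacobsonSpace (chartπ hV n)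
  have hcatP := isCatenary_stalk_of_lft (chartπ hV n) h2
  have h3P := equidim_components_of_lft h2 h3 (chartπ hV n)
  have hregP := isRegularLocalRing_stalk_chart hreg hV n
  have hdomP : ∀ y : chartP V n, IsDomain ((chartP V n).presheaf.stalk y) := fun y => by
    haveI := hregP y
    exact Groth.Agent.Lib.Helper9.RegLocal.isDomain_of_isRegularLocalRing _
  haveI : TopologicalSpace.NoetherianSpace (chartP V n) :=
    inferInstanceAs (TopologicalSpace.NoetherianSpace
      (PrimeSpectrum (MvPolynomial (Fin n) Γ(S, V))))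
  have hcomm := chart_comm g hV hU hUV n φ hφC
  obtain ⟨Nb, hNbo, hy1Nb, hNb⟩ := exists_open_genPt_eq hdomP (chartI hU n φ ⟨x1, hxU⟩)
  obtain ⟨E, hE⟩ := exists_nat_dim_closure h2 h3 (chartπ hV n)
    (@genPt _ (chartI hU n φ ⟨x1, hxU⟩) (hdomP _))
  -- modules
  letI algCB : Algebra (MvPolynomial (Fin n) Γ(S, V)) Γ(X, U) := φ.toAlgebra
  letI modCN : Module (MvPolynomial (Fin n) Γ(S, V)) Γ(F, U) := Module.compHom Γ(F, U) φ
  haveI tow : IsScalarTower (MvPolynomial (Fin n) Γ(S, V)) Γ(X, U) Γ(F, U) :=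
    IsScalarTower.of_algebraMap_smul (fun r y => rfl)
  haveI finB : Module.Finite Γ(X, U) Γ(F, U) :=
    Groth.Agent.Lib.Helper3.QCProps.finite_sections F hU
  haveI finCB : Module.Finite (MvPolynomial (Fin n) Γ(S, V)) Γ(X, U) :=
    Module.Finite.of_surjective (Algebra.linearMap (MvPolynomial (Fin n) Γ(S, V)) Γ(X, U)) hφs
  haveI finC : Module.Finite (MvPolynomial (Fin n) Γ(S, V)) Γ(F, U) :=
    Module.Finite.trans Γ(X, U) Γ(F, U)
  have hcont : Continuous (fun z : U => chartI hU n φ z) := (chartI hU n φ).continuous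
  refine ⟨Subtype.val '' ((fun z : U => chartI hU n φ z) ⁻¹' Nb), E,
    fun m => Subtype.val '' ((fun z : U => chartI hU n φ z) ⁻¹'
      (Nb ∩ pdLTLocus (ModuleCat.of (MvPolynomial (Fin n) Γ(S, V)) Γ(F, U)) m)),
    U.isOpen.isOpenMap_subtype_val _ (hNbo.preimage hcont), ⟨⟨x1, hxU⟩, hy1Nb, rfl⟩,
    fun m => U.isOpen.isOpenMap_subtype_val _
      ((hNbo.inter (isOpen_pdLTLocus _ m)).preimage hcont), ?_⟩
  rintro _ ⟨⟨x, hx⟩, hzNb, rfl⟩
  have hinj : ∀ (T : Set U) (w : U), (w : X) ∈ Subtype.val '' T ↔ w ∈ T := fun T w =>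
    ⟨fun ⟨w', hw', e⟩ => by rwa [Subtype.ext e] at hw', fun h => ⟨w, h, rfl⟩⟩
  -- the prime
  set q : PrimeSpectrum Γ(X, U) := hU.primeIdealOf ⟨x, hx⟩ with hq
  set y : chartP V n := chartI hU n φ ⟨x, hx⟩ with hy
  have hyq : y = PrimeSpectrum.comap φ q := rfl
  have hsuppB : x ∈ CohB1.support F ↔ q ∈ Module.support Γ(X, U) Γ(F, U) := by
    rw [← not_iff_not, Module.notMem_support_iff']
    show ¬¬ Subsingleton _ ↔ _
    rw [not_not]
    exact Groth.Agent.Lib.Helper3.QS.subsingleton_stalk_iff hU F x hx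
  have hsuppC : x ∈ CohB1.support F ↔
      y ∈ Module.support (MvPolynomial (Fin n) Γ(S, V)) Γ(F, U) := by
    rw [hsuppB, hyq]
    exact (mem_support_comap_iff φ hφs Γ(F, U) q).symm
  constructor
  · intro hns m
    rw [hinj]
    refine ⟨hzNb, ?_⟩
    apply mem_pdLTLocus_of_subsingleton
    rw [hsuppC] at hns
    exact Module.notMem_support_iff.mp hns
  · intro hs
    haveI ntC : Nontrivial (LocalizedModule y.asIdeal.primeCompl Γ(F, U)) :=
      Module.mem_support_iff.mp (hsuppC.mp hs)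
    haveI ntB : Nontrivial (LocalizedModule q.asIdeal.primeCompl Γ(F, U)) :=
      Module.mem_support_iff.mp (hsuppB.mp hs)
    haveI regC : IsRegularLocalRing (Localization.AtPrime y.asIdeal) :=
      isRegularLocalRing_atPrime_chart hreg hV n y
    obtain ⟨k, e, hk, hdim, hpd⟩ := ring_main Γ(F, U) y
    obtain ⟨dl, hdl⟩ := exists_nat_dim_closure h2 h3 g x
    refine ⟨k, e, dl, ?_, hdl, ?_, fun m => ?_⟩
    · -- depth
      rw [Groth.Agent.Lib.Helper1.DepthOpen.depth_stalk_eq F hU x hx, ← hk]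
      exact ((Groth.Agent.Lib.Helper4.SkOpen.depth_supportDim_of_surjective
        (A := MvPolynomial (Fin n) Γ(S, V)) (B := Γ(X, U)) hφs Γ(F, U) y.asIdeal q.asIdeal
        rfl).2).symm
    · -- dimension
      haveI := hdomP y
      have e1 : topologicalKrullDim ↥(closure ({genPt y} : Set (chartP V n))) = E := by
        rw [← hE]
        have := hNb y hzNb
        rw [this]
      have e2 := dim_closure_genPt hcatP h3P y
      have e3 := dim_closure_eq_of_comm h2 h3 g (chartπ hV n) (Scheme.Opens.ι U) (chartI hU n φ)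
        hcomm ⟨x, hx⟩
      have e4 : ringKrullDim ((chartP V n).presheaf.stalk y) =
          ringKrullDim (Localization.AtPrime y.asIdeal) :=
        ringKrullDim_eq_of_ringEquiv (specStalkEquiv _ y)
      have e5 : (Scheme.Opens.ι U ⟨x, hx⟩ : X) = x := rfl
      rw [e5] at e3
      rw [e1, ← e3, hdl, e4, hdim] at e2
      have : E = dl + (k + e) := by exact_mod_cast e2
      omega
    · rw [hinj]
      constructor
      · intro h
        exact (hpd m).mp h.2
      · intro h
        exact ⟨hzNb, (hpd m).mpr h⟩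

end main

end Groth.Agent.Lib.Helper20.RectDepth
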