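import Mathlib
import Groth.Prelude
import Groth.Agent.Lib.Helper23.T2A

/-!
# Helper20: cohomology of a finite coproduct is generated by the summands
(G1 for helper23, S19496)
-/

set_option autoImplicit false
set_option linter.style.haveILetI false
universe u
open CategoryTheory CategoryTheory.Limits AlgebraicGeometry

namespace Groth.Agent.Lib.Helper20.RelNefG1

open Groth.Agent.Lib.Helper23.T2

variable {X : Scheme.{u}}

lemma Hmap_add {M N : X.Modules} (φ ψ : M ⟶ N) (n : ℕ) (x : Coh.HH X M n) :
    Hmap (φ + ψ) n x = Hmap φ n x + Hmap ψ n x := by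
  rw [Hmap_apply, Hmap_apply, Hmap_apply, Functor.map_add]
  exact Sheaf.H.map_add_apply _ _ x

lemma Hmap_sum {M N : X.Modules} {ι : Type*} (s : Finset ι) (φ : ι → (M ⟶ N)) (n : ℕ)
    (x : Coh.HH X M n) : Hmap (∑ i ∈ s, φ i) n x = ∑ i ∈ s, Hmap (φ i) n x := by
  classical
  induction s using Finset.induction_on with
  | empty => rw [Finset.sum_empty, Finset.sum_empty]; exact Hmap_zero n x
  | insert a s ha ih => rw [Finset.sum_insert ha, Finset.sum_insert ha, Hmap_add, ih]

/-- (G1) cohomology of a finite coproduct is generated by the summands. -/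
theorem G1_exists_sum (L : X.Modules) (r : ℕ) (p : ℕ)
    (z : Coh.HH X (∐ fun _ : Fin r => L) p) :
    ∃ zs : Fin r → Coh.HH X L p, z = ∑ i, Hmap (Sigma.ι (fun _ : Fin r => L) i) p (zs i) := by
  classical
  let pr : Fin r → ((∐ fun _ : Fin r => L) ⟶ L) := fun i =>
    Sigma.desc (fun j => if j = i then 𝟙 L else 0)
  have hid : 𝟙 (∐ fun _ : Fin r => L) = ∑ i, pr i ≫ Sigma.ι (fun _ : Fin r => L) i := by
    apply Sigma.hom_ext
    intro j
    rw [Category.comp_id, Preadditive.comp_sum]
    rw [Finset.sum_eq_single j]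
    · simp only [pr, Sigma.ι_desc_assoc, if_true, Category.id_comp]
    · intro i _ hij
      simp only [pr, Sigma.ι_desc_assoc]
      rw [if_neg (Ne.symm hij), zero_comp]
    · intro h
      exact absurd (Finset.mem_univ j) h
  refine ⟨fun i => Hmap (pr i) p z, ?_⟩
  have h1 : z = Hmap (𝟙 (∐ fun _ : Fin r => L)) p z := (Hmap_id _ p z).symm
  rw [hid, Hmap_sum] at h1
  refine h1.trans ?_
  refine Finset.sum_congr rfl fun i _ => ?_
  exact Hmap_comp _ _ p z

end Groth.Agent.Lib.Helper20.RelNefG1
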