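import Mathlib
import Groth.Agent.Lib.Helper20.S2ify
import Groth.Agent.Lib.Helper20.FaltAnn2
import Groth.Agent.Lib.Helper20.FaltMainB
import Groth.Agent.Lib.Helper4.DT5

/-!
# `S₂`-ification along `T`: depth and the main existence statement
-/

set_option autoImplicit false
set_option linter.style.haveILetI false
set_option linter.unusedSectionVars false
set_option linter.unusedVariables false
set_option maxHeartbeats 800000

universe u

open CategoryTheory CategoryTheory.Limits

attribute [local instance] HasDerivedCategory.standard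

namespace Groth.Agent.Lib.Helper20.FaltLoc

open Groth.Agent.Lib.Helper20.HTModel Groth.Agent.Lib.Helper20.Falt Groth.Agent.Lib.Helper4

variable {A : Type u} [CommRing A] [IsNoetherianRing A]

/-- vanishing of `H^0_T` and `H^1_T` gives depth `≥ 2` at the points of `T`. -/
theorem two_le_depth_of_subsingleton_HHT (T : Set (PrimeSpectrum A))
    (hT : StableUnderSpecialization T) (N : Type u) [AddCommGroup N] [Module A N]
    [Module.Finite A N]
    (h : ∀ i : ℕ, i ≤ 1 → Subsingleton (HHT T (ModuleCat.of A N) i))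
    (p : PrimeSpectrum A) (hp : p ∈ T) :
    2 ≤ LocCoh.depth (Localization.AtPrime p.asIdeal)
      (LocalizedModule p.asIdeal.primeCompl N) := by
  have hsub : PrimeSpectrum.zeroLocus (p.asIdeal : Set A) ⊆ T := by
    intro q hq
    rw [PrimeSpectrum.mem_zeroLocus, SetLike.coe_subset_coe] at hq
    exact hT ((PrimeSpectrum.le_iff_specializes p q).1 hq) hp
  have h1 := kills_sub hsub 1 (⊤ : Ideal A) N (fun b hb a _ x => by
    haveI := h b hb
    exact Subsingleton.elim _ _)
  haveI : IsNoetherianRing (Localization.AtPrime p.asIdeal) :=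
    IsLocalization.isNoetherianRing p.asIdeal.primeCompl _ inferInstance
  have h2 : ∀ i : ℕ, i ≤ 1 → Subsingleton (LC.HH (mP p)
      (ModuleCat.of (Rp p) (LocalizedModule p.asIdeal.primeCompl N)) i) := by
    intro i hi
    have h3 : ∀ x : HHT (PrimeSpectrum.zeroLocus (p.asIdeal : Set A)) (ModuleCat.of A N) i,
        (1 : A) • x = 0 := fun x => h1 i hi 1 (by
          rw [Ideal.top_pow]
          trivial) x
    have h4 := (kills_HH_iff p.asIdeal (PrimeSpectrum.zeroLocus (p.asIdeal : Set A)) le_rfl
      (ModuleCat.of A N) i le_rfl 1).2 h3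
    have key : ∀ z : LC.HH (mP p)
        (ModuleCat.of (Rp p) (LocalizedModule p.asIdeal.primeCompl N)) i, z = 0 := by
      intro z
      have h5 := kills_loc p N i 1 h4 z
      rwa [map_one, one_smul] at h5
    exact ⟨fun y y' => by rw [key y, key y']⟩
  by_cases hN : Subsingleton (LocalizedModule p.asIdeal.primeCompl N)
  · rw [depth_eq_top_of_subsingleton]
    exact le_top
  · haveI : Nontrivial (LocalizedModule p.asIdeal.primeCompl N) :=
      not_subsingleton_iff_nontrivial.1 hN
    obtain ⟨m, hm⟩ := exists_nat_depth (R := Localization.AtPrime p.asIdeal)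
      (M := LocalizedModule p.asIdeal.primeCompl N)
    have hH := (DT.depth_eq_iff_HH (LocalizedModule p.asIdeal.primeCompl N) m).1 hm
    rw [hm]
    by_contra hcon
    have hm1 : m ≤ 1 := by
      by_contra h'
      apply hcon
      have : 2 ≤ m := by omega
      exact_mod_cast this
    exact absurd (h2 m hm1) (not_subsingleton_iff_nontrivial.2 hH.2)

/-- the depth hypothesis for `s = 1` from the covering condition. -/
lemma one_lt_depth_add_krullDim (T' : Set (PrimeSpectrum A)) (M : Type u) [AddCommGroup M]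
    [Module A M] [Module.Finite A M]
    (hM : ∀ p q : PrimeSpectrum A, p ⋖ q → q ∈ T' → p ∉ T' →
      1 ≤ LocCoh.depth (Localization.AtPrime p.asIdeal) (LocalizedModule p.asIdeal.primeCompl M))
    (p q : PrimeSpectrum A) (hp : p ∉ T') (hq : q ∈ T') (hpq : p ≤ q) :
    ((1 : ℕ) : WithBot ℕ∞) < ((LocCoh.depth (Localization.AtPrime p.asIdeal)
      (LocalizedModule p.asIdeal.primeCompl M) : ℕ∞) : WithBot ℕ∞) +
        Order.krullDim (Set.Icc p q) := by
  have hne : p ≠ q := fun h => hp (h ▸ hq)
  have hlt : p < q := lt_of_le_of_ne hpq hne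
  by_cases hcov : p ⋖ q
  · have hd := hM p q hcov hq hp
    -- `krullDim (Icc p q) ≥ 1`
    have hk : (1 : WithBot ℕ∞) ≤ Order.krullDim (Set.Icc p q) := by
      let x : LTSeries (Set.Icc p q) :=
        { length := 1
          toFun := ![⟨p, le_rfl, hpq⟩, ⟨q, hpq, le_rfl⟩]
          step := by
            intro i
            fin_cases i
            exact hlt }
      have := Order.LTSeries.length_le_krullDim x
      exact_mod_cast this
    have hd' : ((1 : ℕ∞) : WithBot ℕ∞) ≤ ((LocCoh.depth (Localization.AtPrime p.asIdeal)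
        (LocalizedModule p.asIdeal.primeCompl M) : ℕ∞) : WithBot ℕ∞) := by
      exact_mod_cast hd
    calc ((1 : ℕ) : WithBot ℕ∞) < ((1 : ℕ∞) : WithBot ℕ∞) + (1 : WithBot ℕ∞) := by
          change ((1 : ℕ∞) : WithBot ℕ∞) < ((1 : ℕ∞) : WithBot ℕ∞) + ((1 : ℕ∞) : WithBot ℕ∞)
          rw [← WithBot.coe_add, WithBot.coe_lt_coe]
          decide
      _ ≤ _ := add_le_add hd' hk
  · -- there is `r` strictly between
    obtain ⟨r, hpr, hrq⟩ := (not_covBy_iff hlt).1 hcov
    have hk : (2 : WithBot ℕ∞) ≤ Order.krullDim (Set.Icc p q) := by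
      let x : LTSeries (Set.Icc p q) :=
        { length := 2
          toFun := ![⟨p, le_rfl, hpq⟩, ⟨r, hpr.le, hrq.le⟩, ⟨q, hpq, le_rfl⟩]
          step := by
            intro i
            fin_cases i
            · exact hpr
            · exact hrq }
      have := Order.LTSeries.length_le_krullDim x
      exact_mod_cast this
    have hd' : ((0 : ℕ∞) : WithBot ℕ∞) ≤ ((LocCoh.depth (Localization.AtPrime p.asIdeal)
        (LocalizedModule p.asIdeal.primeCompl M) : ℕ∞) : WithBot ℕ∞) := by
      exact_mod_cast (bot_le : (0 : ℕ∞) ≤ _)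
    calc ((1 : ℕ) : WithBot ℕ∞) < ((0 : ℕ∞) : WithBot ℕ∞) + (2 : WithBot ℕ∞) := by
          change ((1 : ℕ∞) : WithBot ℕ∞) < ((0 : ℕ∞) : WithBot ℕ∞) + ((2 : ℕ∞) : WithBot ℕ∞)
          rw [← WithBot.coe_add, WithBot.coe_lt_coe]
          decide
      _ ≤ _ := add_le_add hd' hk

/-- **`S₂`-ification along `T'`**. -/
theorem exists_map_depth_ge_two_along (ω : Dual.D A) (hω : Dual.IsDualizing A ω)
    (T' : Set (PrimeSpectrum A)) (hT : StableUnderSpecialization T') (M : Type u)
    [AddCommGroup M] [Module A M] [Module.Finite A M]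
    (hM : ∀ p q : PrimeSpectrum A, p ⋖ q → q ∈ T' → p ∉ T' →
      1 ≤ LocCoh.depth (Localization.AtPrime p.asIdeal) (LocalizedModule p.asIdeal.primeCompl M)) :
    ∃ (M'' : Type u) (_ : AddCommGroup M'') (_ : Module A M'') (_ : Module.Finite A M'')
      (f : M →ₗ[A] M''),
      (∀ p : PrimeSpectrum A, p ∉ T' →
        Function.Bijective (LocalizedModule.map p.asIdeal.primeCompl f)) ∧
      ∀ p : PrimeSpectrum A, p ∈ T' →
        2 ≤ LocCoh.depth (Localization.AtPrime p.asIdeal)
          (LocalizedModule p.asIdeal.primeCompl M'') := by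
  obtain ⟨J, hJ, hkill⟩ := kills_of_depth ω hω T' T' hT hT 1 M
    (fun p q hp hq hpq => one_lt_depth_add_krullDim T' M hM p q hp hq hpq)
  obtain ⟨M'', i1, i2, i3, F, hF, hvan⟩ := exists_s2ify T' M J hJ hkill
  refine ⟨M'', i1, i2, i3, F, hF, fun p hp => ?_⟩
  exact two_le_depth_of_subsingleton_HHT T' hT M'' hvan p hp

end Groth.Agent.Lib.Helper20.FaltLoc
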