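import Mathlib
import Groth.Prelude
import Groth.Agent.Lib.Helper11.SNScheme
import Groth.Agent.S13110

/-!
# Helper20: two small lemmas on pointwise functions (G2, G12 for helper9, S13109)
-/

set_option autoImplicit false
set_option linter.style.haveILetI false
universe u
open CategoryTheory CategoryTheory.Limits AlgebraicGeometry TopologicalSpace W4c1hilbchowinc

namespace Groth.Agent.Lib.Helper20.SN13109

/-- (G2) varying algebraically along DVRs is stable under pullback. -/
theorem variesAlongDVR_pullback {X Y : Scheme.{u}} (g : Y ⟶ X) (f : PtFun X)
    (hf : f.VariesAlongDVR) : (f.pullback g).VariesAlongDVR := by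
  intro R _ _ _ g'
  rw [Groth.Agent.S13110.pullback_comp]
  exact hf R (g' ≫ g)

/-- (G12) a pointwise function whose pullback along a surjective morphism is the pointwise function
of `π^* t` is the pointwise function of `t`. -/
theorem ofSection_eq_of_pullback_eq {X Y : Scheme.{u}} (π : Y ⟶ X) [Surjective π] (t : Γ(X, ⊤))
    (f : PtFun X) (h : PtFun.ofSection Y (π.appTop t) = f.pullback π) :
    PtFun.ofSection X t = f := by
  funext x
  obtain ⟨y, rfl⟩ := π.surjective x
  have h1 := congrFun h y
  rw [← Groth.Agent.S13110.pullback_ofSection] at h1
  exact (π.residueFieldMap y).hom.injective h1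

end Groth.Agent.Lib.Helper20.SN13109
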