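import Mathlib
import Groth.Prelude.Def_W4c6gradedringsgwSect
import Groth.Prelude.Def_GrLC
import Groth.Agent.Lib.Helper23.FFSect8
import Groth.Agent.Lib.Helper27.FunFld7

/-!
# The section ring `R_{X,P}` as a ℤ-graded ring (helper20)
-/

set_option autoImplicit false
set_option linter.unusedSectionVars false
set_option linter.unusedVariables false
set_option linter.style.haveILetI false

universe u

open FunFld Polynomial W4c6gradedringsgw Groth.Agent.Lib.Helper23.FF GrLC DirectSum

namespace Groth.Agent.Lib.Helper20.SectGr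

variable {k : Type u} {K : Type u} [Field k] [Field K] [Algebra k K] (P : Place k K)

/-- the section ring of the point divisor `P`. -/
abbrev RP : Type u := ↥(sectRing (Finsupp.single P 1 : Divisor k K))

/-- the grading of `R_{X,P}` by the degree in `T`. -/
def gr (i : ℤ) : AddSubgroup (RP P) where
  carrier := {p | ∀ n : ℕ, (n : ℤ) ≠ i → p.1.coeff n = 0}
  zero_mem' := fun n _ => Polynomial.coeff_zero n
  add_mem' := by
    intro p q hp hq n hn
    show (p.1 + q.1).coeff n = 0
    rw [coeff_add, hp n hn, hq n hn, add_zero]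
  neg_mem' := by
    intro p hp n hn
    show (-p.1).coeff n = 0
    rw [coeff_neg, hp n hn, neg_zero]

theorem mem_gr {i : ℤ} {p : RP P} : p ∈ gr P i ↔ ∀ n : ℕ, (n : ℤ) ≠ i → p.1.coeff n = 0 := Iff.rfl

theorem mono_mem_gr (n : ℕ) (f : K) (hf : f ∈ L (Finsupp.single P (n : ℤ) : Divisor k K)) :
    mono P n f hf ∈ gr P (n : ℤ) := by
  intro m hm
  show (Polynomial.monomial n f).coeff m = 0
  rw [coeff_monomial, if_neg]
  intro h
  exact hm (by rw [h])

instance gradedMonoid : SetLike.GradedMonoid (gr P) where
  one_mem := by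
    intro n hn
    show (1 : K[X]).coeff n = 0
    rw [coeff_one, if_neg]
    intro h
    exact hn (by rw [h]; rfl)
  mul_mem := by
    intro i j p q hp hq n hn
    show (p.1 * q.1).coeff n = 0
    rw [coeff_mul]
    refine Finset.sum_eq_zero fun x hx => ?_
    have hx' := Finset.HasAntidiagonal.mem_antidiagonal.mp hx
    by_cases h1 : (x.1 : ℤ) = i
    · have h2 : (x.2 : ℤ) ≠ j := by
        intro h2
        apply hn
        rw [← hx', ← h1, ← h2]
        push_cast
        rfl
      rw [hq x.2 h2, mul_zero]
    · rw [hp x.1 h1, zero_mul]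

/-- coefficients of a sum of components. -/
theorem coeff_coe (x : ⨁ i, gr P i) (n : ℕ) :
    (DirectSum.coeAddMonoidHom (gr P) x).1.coeff n = ((x (n : ℤ) : gr P n) : RP P).1.coeff n := by
  classical
  induction x using DirectSum.induction_on with
  | zero => simp
  | of i z =>
    rw [DirectSum.coeAddMonoidHom_of]
    by_cases h : i = (n : ℤ)
    · subst h
      rw [DirectSum.of_eq_same]
    · rw [DirectSum.of_eq_of_ne _ _ _ (Ne.symm h)]
      have := z.2 n (Ne.symm h)
      rw [this]
      rfl
  | add x y hx hy =>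
    rw [map_add]
    show ((DirectSum.coeAddMonoidHom (gr P) x).1 + (DirectSum.coeAddMonoidHom (gr P) y).1).coeff n = _
    rw [coeff_add, hx, hy, DirectSum.add_apply]
    rfl

theorem isInternal_gr : DirectSum.IsInternal (gr P) := by
  classical
  constructor
  · rw [injective_iff_map_eq_zero]
    intro x hx
    refine DFinsupp.ext fun i => ?_
    apply Subtype.ext
    apply Subtype.ext
    ext n
    show ((x i : gr P i) : RP P).1.coeff n = (0 : K[X]).coeff n
    rw [coeff_zero]
    by_cases h : (n : ℤ) = i
    · subst h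
      rw [← coeff_coe, hx]
      rfl
    · exact (x i).2 n h
  · intro p
    refine ⟨∑ n ∈ p.1.support, DirectSum.of (fun i => gr P i) (n : ℤ)
      ⟨mono P n (p.1.coeff n) (coeff_mem_L_single P p n), mono_mem_gr P n _ _⟩, ?_⟩
    rw [map_sum]
    conv_rhs => rw [eq_sum_mono P p]
    refine Finset.sum_congr rfl fun n _ => ?_
    rw [DirectSum.coeAddMonoidHom_of]

noncomputable instance gradedRing : GradedRing (gr P) :=
  { gradedMonoid P with
    toDecomposition := (isInternal_gr P).chooseDecomposition }

theorem gr_neg (n : ℤ) (hn : n < 0) : gr P n = ⊥ := by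
  rw [eq_bot_iff]
  intro p hp
  rw [AddSubgroup.mem_bot]
  apply Subtype.ext
  ext m
  show p.1.coeff m = (0 : K[X]).coeff m
  rw [coeff_zero]
  exact hp m (by omega)

/-- degree zero elements are constants. -/
theorem exists_eq_algebraMap (hK : IsFunctionField k K) {p : RP P} (hp : p ∈ gr P 0) :
    ∃ c : k, p = algebraMap k (RP P) c := by
  have h1 := p.2 0
  rw [Nat.cast_zero, zero_smul, Groth.Agent.Lib.Helper27.FF.L_zero hK] at h1
  obtain ⟨c, hc⟩ := Submodule.mem_one.mp h1
  refine ⟨c, ?_⟩
  apply Subtype.ext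
  ext m
  show p.1.coeff m = (algebraMap k K[X] c).coeff m
  rw [Polynomial.algebraMap_apply, coeff_C]
  split_ifs with h
  · subst h
    exact hc.symm
  · exact hp m (by
      intro h'
      apply h
      exact_mod_cast h')

theorem algebraMap_mem_gr (c : k) : algebraMap k (RP P) c ∈ gr P 0 := by
  intro n hn
  show (algebraMap k K[X] c).coeff n = 0
  rw [Polynomial.algebraMap_apply, coeff_C, if_neg]
  intro h
  apply hn
  rw [h]
  rfl

theorem isField_deg0 (hK : IsFunctionField k K) : IsField (deg0 (gr P)) where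
  exists_pair_ne := ⟨0, 1, fun h => by
    have := congrArg Subtype.val h
    exact zero_ne_one this⟩
  mul_comm := mul_comm
  mul_inv_cancel := by
    intro a ha
    obtain ⟨c, hc⟩ := exists_eq_algebraMap P hK a.2
    have hc0 : c ≠ 0 := by
      intro h0
      apply ha
      apply Subtype.ext
      rw [hc, h0, map_zero]
      rfl
    refine ⟨⟨algebraMap k (RP P) c⁻¹, algebraMap_mem_gr P _⟩, ?_⟩
    apply Subtype.ext
    show (a : RP P) * algebraMap k (RP P) c⁻¹ = 1
    rw [hc, ← map_mul, mul_inv_cancel₀ hc0, map_one]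

/-- the irrelevant ideal is generated by the elements of positive degree. -/
theorem irr_eq_span :
    irr P = Ideal.span (⋃ n ∈ Set.Ioi (0 : ℤ), (gr P n : Set (RP P))) := by
  apply le_antisymm
  · intro p hp
    rw [mem_irr] at hp
    rw [eq_sum_mono P p]
    refine Ideal.sum_mem _ fun n hn => ?_
    apply Ideal.subset_span
    simp only [Set.mem_iUnion, Set.mem_Ioi, SetLike.mem_coe]
    refine ⟨(n : ℤ), ?_, mono_mem_gr P n _ _⟩
    rw [Polynomial.mem_support_iff] at hn
    have : n ≠ 0 := by
      rintro rfl
      exact hn hp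
    omega
  · rw [Ideal.span_le]
    intro p hp
    simp only [Set.mem_iUnion, Set.mem_Ioi, SetLike.mem_coe] at hp
    obtain ⟨n, hn, hpn⟩ := hp
    show p ∈ irr P
    rw [mem_irr]
    exact hpn 0 (by
      intro h
      rw [Nat.cast_zero] at h
      omega)

/-- the irrelevant ideal as a homogeneous ideal. -/
noncomputable def irrH : HomogeneousIdeal (gr P) :=
  ⟨irr P, by
    rw [irr_eq_span]
    apply Ideal.homogeneous_span
    intro x hx
    simp only [Set.mem_iUnion, Set.mem_Ioi, SetLike.mem_coe] at hx
    obtain ⟨n, _, hxn⟩ := hx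
    exact ⟨n, hxn⟩⟩

theorem irrH_toIdeal : (irrH P).toIdeal = irr P := rfl

instance irr_isPrime : (irr P).IsPrime := by
  unfold irr
  exact RingHom.ker_isPrime _

end Groth.Agent.Lib.Helper20.SectGr
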