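import Mathlib
import Groth.Agent.Lib.Helper20.SectGr1

/-!
# The section ring `R_{X,P}` is a finitely generated algebra, hence noetherian (helper20)
-/

set_option autoImplicit false
set_option linter.unusedSectionVars false
set_option linter.unusedVariables false
set_option linter.style.haveILetI false

universe u

open FunFld Polynomial W4c6gradedringsgw Groth.Agent.Lib.Helper23.FF GrLC DirectSum

namespace Groth.Agent.Lib.Helper20.SectGr

variable {k : Type u} {K : Type u} [Field k] [Field K] [Algebra k K]

theorem mono_zero_eq (hK : IsFunctionField k K) (P : Place k K) (f : K)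
    (hf : f ∈ L (Finsupp.single P ((0 : ℕ) : ℤ) : Divisor k K)) :
    ∃ c : k, mono P 0 f hf = algebraMap k (RP P) c :=
  exists_eq_algebraMap P hK (mono_mem_gr P 0 f hf)

theorem mono_mem_of_gens' (hK : IsFunctionField k K) (P : Place k K) (hP : P.deg = 1)
    (A : Subalgebra k (RP P))
    (ht : tElt P ∈ A)
    (hM : ∀ h ∈ minGens (poleOrders P),
      ∃ (f : K) (hf : f ∈ L (Finsupp.single P (h : ℤ) : Divisor k K)),
        P.1 f = WithZero.exp (h : ℤ) ∧ mono P h f hf ∈ A) :
    ∀ n : ℕ, ∀ (f : K) (hf : f ∈ L (Finsupp.single P (n : ℤ) : Divisor k K)),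
      mono P n f hf ∈ A := by
  classical
  intro n
  induction n using Nat.strong_induction_on with
  | _ n ih =>
    intro f hf
    rcases Nat.eq_zero_or_pos n with rfl | hn
    · obtain ⟨c, hc⟩ := mono_zero_eq hK P f hf
      rw [hc]
      exact A.algebraMap_mem c
    have hn : 1 ≤ n := hn
    have hlow : ∀ (f' : K) (hf' : f' ∈ L (Finsupp.single P (n : ℤ) : Divisor k K)),
        f' ∈ L (Finsupp.single P ((n - 1 : ℕ) : ℤ) : Divisor k K) → mono P n f' hf' ∈ A := by
      intro f' hf' hf''
      rw [mono_eq_tElt_mul P n hn f' hf' hf'']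
      exact A.mul_mem ht (ih (n - 1) (by omega) f' hf'')
    have htop : ∀ (g : K) (hg : g ∈ L (Finsupp.single P (n : ℤ) : Divisor k K)),
        P.1 g = WithZero.exp (n : ℤ) → mono P n g hg ∈ A → mono P n f hf ∈ A := by
      intro g hg hgP hgI
      obtain ⟨c, hc⟩ := exists_sub_smul_mem_L P hP (Finsupp.single P (n : ℤ)) hf hg
        (by rw [Finsupp.single_eq_same]; exact hgP)
      rw [← Finsupp.single_sub] at hc
      have hc' : f - c • g ∈ L (Finsupp.single P ((n - 1 : ℕ) : ℤ) : Divisor k K) := by
        rw [Nat.cast_sub hn, Nat.cast_one]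
        exact hc
      have hfg : f - c • g ∈ L (Finsupp.single P (n : ℤ) : Divisor k K) :=
        Submodule.sub_mem _ hf (Submodule.smul_mem _ c hg)
      have e : mono P n f hf = mono P n (f - c • g) hfg + c • mono P n g hg := by
        apply Subtype.ext
        show Polynomial.monomial n f
          = Polynomial.monomial n (f - c • g) + c • Polynomial.monomial n g
        rw [Polynomial.smul_monomial, ← map_add]
        congr 1
        ring
      rw [e]
      exact A.add_mem (hlow _ hfg hc') (A.smul_mem hgI c)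
    by_cases hpn : n ∈ poleOrders P
    · by_cases hmin : n ∈ minGens (poleOrders P)
      · obtain ⟨g, hg, hgP, hgI⟩ := hM n hmin
        exact htop g hg hgP hgI
      · have hex : ∃ a ∈ poleOrders P, ∃ b ∈ poleOrders P, a ≠ 0 ∧ b ≠ 0 ∧ a + b = n := by
          by_contra hcon
          push Not at hcon
          exact hmin ⟨hpn, by omega, fun a ha b hb ha0 hb0 => hcon a ha b hb ha0 hb0⟩
        obtain ⟨a, ha, b, hb, ha0, hb0, rfl⟩ := hex
        rw [mem_poleOrders_iff hK P hP] at ha hb
        obtain ⟨fa, hfa0, hfa, hfao⟩ := ha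
        obtain ⟨fb, hfb0, hfb, hfbo⟩ := hb
        have hfab : fa * fb ∈ L (Finsupp.single P ((a + b : ℕ) : ℤ) : Divisor k K) := by
          rw [Nat.cast_add, Finsupp.single_add]
          exact mul_mem_L_add hfa hfb
        refine htop (fa * fb) hfab ?_ ?_
        · rw [map_mul, val_eq_exp_neg_ord P hfa0, val_eq_exp_neg_ord P hfb0, hfao, hfbo, neg_neg,
            neg_neg, ← WithZero.exp_add, Nat.cast_add]
        · rw [mono_mul P a b fa fb hfa hfb hfab]
          exact A.mul_mem (ih a (by omega) fa hfa) (ih b (by omega) fb hfb)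
    · rw [mem_poleOrders_iff hK P hP, isPoleNumber_iff, not_not] at hpn
      apply hlow f hf
      rw [Nat.cast_sub hn, Nat.cast_one, ← hpn]
      exact hf

/-- **`R_{X,P}` is a finitely generated `k`-algebra.** -/
theorem finiteType (hK : IsFunctionField k K) (P : Place k K) (hP : P.deg = 1) :
    Algebra.FiniteType k (RP P) := by
  classical
  have hfin := minGens_finite hK P hP
  haveI : Finite ↥(minGens (poleOrders P)) := hfin.to_subtype
  have hw : ∀ h : ↥(minGens (poleOrders P)), ∃ f : K,
      f ∈ L (Finsupp.single P ((h : ℕ) : ℤ) : Divisor k K) ∧ P.1 f = WithZero.exp ((h : ℕ) : ℤ) :=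
    fun h => exists_mem_L_val_eq_of_mem_poleOrders hK P hP h.2.1
  choose f hfL hfP using hw
  set G : Set (RP P) :=
    insert (tElt P) (Set.range fun h : ↥(minGens (poleOrders P)) => mono P h (f h) (hfL h))
    with hG
  have hGfin : G.Finite := (Set.finite_range _).insert _
  have htop : Algebra.adjoin k G = ⊤ := by
    rw [eq_top_iff]
    intro p _
    rw [eq_sum_mono P p]
    refine Subalgebra.sum_mem _ fun n _ => ?_
    apply mono_mem_of_gens' hK P hP
    · exact Algebra.subset_adjoin (Set.mem_insert _ _)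
    · intro h hh
      exact ⟨f ⟨h, hh⟩, hfL ⟨h, hh⟩, hfP ⟨h, hh⟩,
        Algebra.subset_adjoin (Set.mem_insert_of_mem _ ⟨⟨h, hh⟩, rfl⟩)⟩
  exact ⟨⟨hGfin.toFinset, by rw [Set.Finite.coe_toFinset]; exact htop⟩⟩

theorem isNoetherianRing (hK : IsFunctionField k K) (P : Place k K) (hP : P.deg = 1) :
    IsNoetherianRing (RP P) := by
  haveI := finiteType hK P hP
  exact Algebra.FiniteType.isNoetherianRing k (RP P)

end Groth.Agent.Lib.Helper20.SectGr
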