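import Mathlib
import Groth.Agent.Lib.Helper20.SectGr2
import Groth.Agent.Lib.Helper20.Kunz3
import Groth.Agent.Lib.Helper20.GorStarTransfer
import Groth.Agent.Lib.Helper20.GrFieldLocal

/-!
# `R_{X,P}` is Gorenstein iff the Weierstrass semigroup is symmetric (helper20)
-/

set_option autoImplicit false
set_option linter.unusedSectionVars false
set_option linter.unusedVariables false
set_option linter.style.haveILetI false

universe u

open FunFld Polynomial W4c6gradedringsgw Groth.Agent.Lib.Helper23.FF GrLC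
  Groth.Agent.Lib.Helper20.Kunz

namespace Groth.Agent.Lib.Helper20.SectGr

variable {k : Type u} {K : Type u} [Field k] [Field K] [Algebra k K]
  (hK : IsFunctionField k K) (hg : 1 ≤ genus k K) (P : Place k K) (hP : P.deg = 1)
  (π : K) (hπ : P.1 π = WithZero.exp (-1))

/-- the Weierstrass semigroup as a submonoid. -/
abbrev HP : AddSubmonoid ℕ := AddSubmonoid.closure (poleOrders P)

include hK hP hπ in
theorem coe_HP : ((HP P : AddSubmonoid ℕ) : Set ℕ) = poleOrders P := by
  apply Set.Subset.antisymm
  · intro n hn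
    obtain ⟨p, hp⟩ := X_pow_mem_range_psi hK P hP π hπ hn
    apply mem_poleOrders_of_lc_ne_zero hK P hP π hπ p n
    rw [← coeff_psi P hP π hπ p n]
    have hp' : psi P hP π hπ p = X ^ n := hp
    rw [hp', coeff_X_pow, if_pos rfl]
    exact one_ne_zero
  · exact AddSubmonoid.subset_closure

include hK in
theorem psi_mem_semiAlg (p : RP P) : psi P hP π hπ p ∈ semiAlg k (HP P) := by
  intro n hn
  rw [coeff_psi] at hn
  exact AddSubmonoid.subset_closure (mem_poleOrders_of_lc_ne_zero hK P hP π hπ p n hn)

/-- the leading coefficient map onto the semigroup algebra. -/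
noncomputable def phi : RP P →ₐ[k] semiAlg k (HP P) :=
  (psi P hP π hπ).codRestrict (semiAlg k (HP P)) (psi_mem_semiAlg hK P hP π hπ)

theorem phi_coe (p : RP P) : ((phi hK P hP π hπ p : semiAlg k (HP P)) : k[X]) = psi P hP π hπ p :=
  rfl

theorem phi_surjective : Function.Surjective (phi hK P hP π hπ) := by
  classical
  intro q
  have hmem : ∀ n ∈ (HP P), (xp n : semiAlg k (HP P)) ∈ (phi hK P hP π hπ).range := by
    intro n hn
    obtain ⟨p, hp⟩ := X_pow_mem_range_psi hK P hP π hπ hn
    refine ⟨p, ?_⟩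
    apply Subtype.ext
    rw [xp_of_mem hn]
    exact hp
  have hq : q ∈ (phi hK P hP π hπ).range := by
    rw [eq_sum_xp q]
    refine Subalgebra.sum_mem _ fun n hn => ?_
    exact Subalgebra.smul_mem _ (hmem n (q.2 n (Polynomial.mem_support_iff.1 hn))) _
  exact hq

include hg in
theorem ker_phi : RingHom.ker (phi hK P hP π hπ).toRingHom = Ideal.span {tElt P} := by
  rw [← ker_psi hK hg P hP π hπ (tElt P) 1 one_ne_zero (by
    show Polynomial.monomial 1 (1 : K) = Polynomial.C 1 * Polynomial.X
    rw [Polynomial.C_1, one_mul, Polynomial.monomial_one_one_eq_X])]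
  ext p
  rw [RingHom.mem_ker, RingHom.mem_ker]
  constructor
  · intro h
    have := congrArg Subtype.val h
    exact this
  · intro h
    apply Subtype.ext
    exact h

theorem tElt_ne_zero : tElt P ≠ 0 := by
  intro h
  have h1 := congrArg (fun p : RP P => p.1.coeff 1) h
  have h2 : (tElt P).1.coeff 1 = (1 : K) := by
    show (Polynomial.monomial 1 (1 : K)).coeff 1 = 1
    rw [coeff_monomial, if_pos rfl]
  simp only [h2] at h1
  exact one_ne_zero h1

/-- the augmentation ideal of the semigroup algebra. -/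
noncomputable def augS (H : AddSubmonoid ℕ) : Ideal (semiAlg k H) :=
  RingHom.ker ((Polynomial.constantCoeff (R := k)).comp (semiAlg k H).val.toRingHom)

instance augS_isPrime (H : AddSubmonoid ℕ) : (augS (k := k) H).IsPrime := by
  unfold augS
  exact RingHom.ker_isPrime _

theorem mem_augS {H : AddSubmonoid ℕ} (q : semiAlg k H) : q ∈ augS H ↔ q.1.coeff 0 = 0 := by
  unfold augS
  rw [RingHom.mem_ker]
  rfl

include hK in
theorem irr_eq_comap :
    irr P = (augS (HP P)).comap (phi hK P hP π hπ).toRingHom := by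
  ext p
  rw [Ideal.mem_comap, mem_augS, mem_irr]
  show p.1.coeff 0 = 0 ↔ (psi P hP π hπ p).coeff 0 = 0
  rw [coeff_psi, pow_zero, mul_one]
  have h1 := p.2 0
  rw [Nat.cast_zero, zero_smul, Groth.Agent.Lib.Helper27.FF.L_zero hK] at h1
  obtain ⟨c, hc⟩ := Submodule.mem_one.mp h1
  rw [← hc, lc_algebraMap]
  constructor
  · intro h
    exact (algebraMap k K).injective (by rw [h, map_zero])
  · intro h
    rw [h, map_zero]

include hK hg hP hπ in
/-- **`R_{X,P}` is Gorenstein iff the Weierstrass semigroup `H_{X,P}` is symmetric.** -/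
theorem gorRing_iff_isSymmetric :
    LocCoh.IsGorensteinRing (RP P) ↔ W4c6gradedringsgw.IsSymmetric (poleOrders P) := by
  classical
  haveI hN : IsNoetherianRing (RP P) := isNoetherianRing hK P hP
  obtain ⟨N, hNmem⟩ := exists_forall_mem_poleOrders hK P hP
  have hc : ∀ n, N ≤ n → n ∈ HP P := fun n hn => AddSubmonoid.subset_closure (hNmem n hn)
  have he : N + 1 ∈ HP P := hc _ (by omega)
  have he0 : 0 < N + 1 := by omega
  have hφ := phi_surjective hK P hP π hπ
  have hker := ker_phi hK hg P hP π hπ
  have ht : IsSMulRegular (RP P) (tElt P) :=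
    (IsRegular.of_ne_zero (tElt_ne_zero P)).left.isSMulRegular
  have hx0 : (xp (N + 1) : semiAlg k (HP P)) ≠ 0 := by
    intro h
    have h1 := congrArg (fun p : semiAlg k (HP P) => p.1.coeff (N + 1)) h
    simp only [xp_of_mem he, coeff_X_pow] at h1
    exact one_ne_zero h1
  have hx : IsSMulRegular (semiAlg k (HP P)) (xp (N + 1) : semiAlg k (HP P)) :=
    (IsRegular.of_ne_zero hx0).left.isSMulRegular
  rw [← coe_HP hK P hP π hπ]
  constructor
  · intro hR
    have h1 := Groth.Agent.Lib.Helper20.GorStarTransfer.gorRing_quot_of_gorRing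
      (phi hK P hP π hπ).toRingHom hφ (tElt P) ht hker (xp (N + 1)) hx hR
    exact isSymmetric_of_gorRing_Bq he he0 N hc h1
  · intro hsym
    have hQ : LocCoh.IsGorensteinRing (Bq k (HP P) (N + 1)) :=
      gorRing_Bq_of_isSymmetric he he0 N hc hsym
    have hxQ : (xp (N + 1) : semiAlg k (HP P)) ∈ augS (HP P) := by
      rw [mem_augS, xp_of_mem he, coeff_X_pow, if_neg (by omega)]
    have hG : LocCoh.IsGorensteinLocalRing (Localization.AtPrime (irr P)) :=
      Groth.Agent.Lib.Helper20.GorStarTransfer.gor_atPrime_comap_of_gorRing_quot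
        (phi hK P hP π hπ).toRingHom hφ (tElt P) ht hker (xp (N + 1)) hx hQ (augS (HP P)) hxQ
        (irr P) (irr_eq_comap hK P hP π hπ)
    have hm : IsStarLocal (gr P) (irrH P) :=
      Groth.Agent.Lib.Helper20.GrFieldLocal.isStarLocal (gr P) (gr_neg P) (isField_deg0 P hK)
        (irrH P) (irr_eq_span P)
    haveI : (irrH P).toIdeal.IsPrime := irr_isPrime P
    exact Groth.Agent.Lib.Helper20.GorStarTransfer.gorRing_of_starLocal (gr P) (irrH P) hm hG

end Groth.Agent.Lib.Helper20.SectGr
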