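import Mathlib
import Groth.Agent.Lib.Helper20.SegFin1

/-!
# Degree `d` pieces of graded local cohomology over one ring as cohomology of vector space complexes
(helper20)
-/

set_option autoImplicit false
set_option linter.unusedSectionVars false
set_option linter.unusedVariables false
set_option linter.style.haveILetI false

universe u

open TensorProduct DirectSum Groth.Agent.Lib.Helper20.SegKun Groth.Agent.Lib.Helper20.SegTP
  Groth.Agent.Lib.Helper20.GrConv GrLC Groth.Agent.Lib.Helper4.LC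
  Groth.Agent.Lib.Helper20.SegAcyc Groth.Agent.Lib.Helper20.GrLCBasic

namespace Groth.Agent.Lib.Helper20.SegGr

variable {k : Type u} [Field k]

/-- dimensions over `k` and over a subring identified with `k`. -/
theorem finrank_eq_of_addEquiv_sub {R : Type u} [CommRing R] [Nontrivial R] [Algebra k R]
    (R0 : Subring R) (hR0 : ∀ r : R, r ∈ R0 ↔ ∃ c : k, algebraMap k R c = r)
    {V : Type u} [AddCommGroup V] [Module k V] {X : Type u} [AddCommGroup X] [Module R X]
    (W : Submodule R0 X) (j : V ≃+ ↥W)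
    (hj : ∀ (c : k) (v : V), ((j (c • v) : ↥W) : X) = algebraMap k R c • ((j v : ↥W) : X)) :
    Module.finrank k V = Module.finrank R0 ↥W := by
  let i : k → R0 := fun c => ⟨algebraMap k R c, (hR0 _).2 ⟨c, rfl⟩⟩
  have hi : Function.Bijective i := by
    constructor
    · intro c c' h
      exact (algebraMap k R).injective (congrArg Subtype.val h)
    · rintro ⟨r, hr⟩
      obtain ⟨c, rfl⟩ := (hR0 r).1 hr
      exact ⟨c, rfl⟩
  have hrank := rank_eq_of_equiv_equiv i j hi (fun c v => by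
    apply Subtype.ext
    rw [hj]
    rfl)
  unfold Module.finrank
  rw [hrank]

section single

variable {R : Type u} [CommRing R] [Algebra k R] (𝒜 : ℤ → Submodule k R) [GradedAlgebra 𝒜]
  {M : Type u} [AddCommGroup M] [Module R M] [Module k M] [IsScalarTower k R M]
  (ℳ : ℤ → AddSubgroup M) [DirectSum.Decomposition ℳ] [SetLike.GradedSMul 𝒜 ℳ]
  (E : StarInjRes 𝒜 ℳ) (m : HomogeneousIdeal 𝒜) (d : ℤ)

/-- the degree `d` component of an element of a term of the resolution. -/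
lemma decompose_mem_gam (j : ℕ) (y : (E.X j).carrier)
    (hy : y ∈ GrLC.gam m.toIdeal (E.X j).carrier) :
    ((DirectSum.decompose (E.X j).gr y d : (E.X j).gr d) : (E.X j).carrier) ∈
      GrLC.gam m.toIdeal (E.X j).carrier := by
  haveI := gradedSMul_toAS 𝒜 (E.X j).gr
  exact Groth.Agent.S13225.gam_isHomogeneous (toAS 𝒜) (E.X j).gr (idealTo 𝒜 m) d hy

/-- the torsion subcomplex of the degree `d` part. -/
noncomputable abbrev Sd : VCx k :=
  (Vd (gcxOf 𝒜 ℳ E) d).sub (Vd' (gcxOf 𝒜 ℳ E) d m.toIdeal)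
    (Vd'_stable (gcxOf 𝒜 ℳ E) d m.toIdeal)

lemma Sd_cocycle_mem (i : ℕ) (v : (Sd 𝒜 ℳ E m d).Z i) :
    (show (E.X i).carrier from v.1.1.1) ∈ E.cocyc m i := by
  refine ⟨v.1.2, ?_⟩
  have h := v.2
  rw [VCx.mem_Z] at h
  have h2 := congrArg Subtype.val (congrArg Subtype.val h)
  exact h2

/-- **pieces of graded local cohomology as cohomology of the torsion subcomplex.** -/
theorem exists_addEquiv_Hcomp_single (i : ℕ) :
    ∃ j : (Sd 𝒜 ℳ E m d).H i ≃+ ↥(E.Hcomp m i d),
      ∀ (c : k) (x : (Sd 𝒜 ℳ E m d).H i),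
        ((j (c • x) : ↥(E.Hcomp m i d)) : E.H m i) =
          algebraMap k R c • ((j x : ↥(E.Hcomp m i d)) : E.H m i) := by
  classical
  letI : Module k (E.H m i) := Module.compHom _ (algebraMap k R)
  let Ξ : (Sd 𝒜 ℳ E m d).Z i → E.cocyc m i := fun v => ⟨_, Sd_cocycle_mem 𝒜 ℳ E m d i v⟩
  let ν₀ : (Sd 𝒜 ℳ E m d).Z i →ₗ[k] E.H m i :=
    { toFun := fun v => E.toH m i (Ξ v)
      map_add' := fun u v => by
        have : Ξ (u + v) = Ξ u + Ξ v := rfl
        rw [this, map_add]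
      map_smul' := fun c v => by
        have : Ξ (c • v) = algebraMap k R c • Ξ v := rfl
        rw [this, map_smul]
        rfl }
  have hν₀ : ∀ v, ν₀ v = E.toH m i (Ξ v) := fun v => rfl
  have hker : ∀ v : (Sd 𝒜 ℳ E m d).Z i, ν₀ v = 0 ↔ v.1 ∈ (Sd 𝒜 ℳ E m d).B i := by
    intro v
    rw [hν₀, Submodule.mkQ_apply, Submodule.Quotient.mk_eq_zero, Submodule.mem_comap]
    cases i with
    | zero =>
      change (Ξ v).1 ∈ (⊥ : Submodule R _) ↔ v.1 ∈ (⊥ : Submodule k _)
      rw [Submodule.mem_bot, Submodule.mem_bot]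
      constructor
      · intro h
        exact Subtype.ext (Subtype.ext h)
      · intro h
        have h1 : (v.1.1.1 : (gcxOf 𝒜 ℳ E).X 0) = 0 := by rw [h]; rfl
        exact h1
    | succ j =>
      constructor
      · rintro ⟨y, hy, hyv⟩
        have hyd := decompose_mem_gam 𝒜 ℳ E m d j y hy
        have hpiece : (show (gcxOf 𝒜 ℳ E).X j from
            ((DirectSum.decompose (E.X j).gr y d : (E.X j).gr d) : (E.X j).carrier)) ∈
            ((gcxOf 𝒜 ℳ E).P j).piece d :=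
          (mem_piece_gcxOf 𝒜 ℳ E j d _).2 (SetLike.coe_mem _)
        refine ⟨⟨⟨_, hpiece⟩, hyd⟩, ?_⟩
        apply Subtype.ext
        apply Subtype.ext
        change E.d j ((DirectSum.decompose (E.X j).gr y d : (E.X j).gr d) : (E.X j).carrier) =
          v.1.1.1
        rw [← decompose_map (E.X j).gr (E.X (j + 1)).gr (E.d j) (E.d_grHom j) y d]
        have h1 : E.d j y = v.1.1.1 := hyv
        rw [h1]
        exact DirectSum.decompose_of_mem_same _
          ((mem_piece_gcxOf 𝒜 ℳ E (j + 1) d v.1.1.1).1 v.1.1.2)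
      · rintro ⟨w, hw⟩
        refine ⟨w.1.1, w.2, ?_⟩
        have := congrArg Subtype.val (congrArg Subtype.val hw)
        exact this
  have hrange1 : ∀ v, ν₀ v ∈ E.Hcomp m i d := by
    intro v
    exact ⟨Ξ v, (mem_piece_gcxOf 𝒜 ℳ E i d v.1.1.1).1 v.1.1.2, rfl⟩
  have hrange2 : ∀ y ∈ E.Hcomp m i d, ∃ v, ν₀ v = y := by
    rintro y ⟨z, hz, rfl⟩
    have hzp : (show (gcxOf 𝒜 ℳ E).X i from z.1) ∈ ((gcxOf 𝒜 ℳ E).P i).piece d :=
      (mem_piece_gcxOf 𝒜 ℳ E i d _).2 hz
    refine ⟨⟨⟨⟨z.1, hzp⟩, z.2.1⟩, ?_⟩, rfl⟩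
    rw [VCx.mem_Z]
    apply Subtype.ext
    apply Subtype.ext
    exact z.2.2
  let νb : (Sd 𝒜 ℳ E m d).H i →ₗ[k] E.H m i :=
    Submodule.liftQ _ ν₀ (fun u hu => by
      rw [LinearMap.mem_ker]
      exact (hker u).2 hu)
  have hνb : ∀ u, νb ((Sd 𝒜 ℳ E m d).cls i u) = ν₀ u := fun u => rfl
  let f : (Sd 𝒜 ℳ E m d).H i →+ ↥(E.Hcomp m i d) :=
    νb.toAddMonoidHom.codRestrict (E.Hcomp m i d) (fun x => by
      obtain ⟨u, rfl⟩ := (Sd 𝒜 ℳ E m d).cls_surjective i x
      exact hrange1 u)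
  have hf : ∀ x, ((f x : ↥(E.Hcomp m i d)) : E.H m i) = νb x := fun x => rfl
  have hbij : Function.Bijective f := by
    constructor
    · rw [injective_iff_map_eq_zero]
      intro x hx
      obtain ⟨u, rfl⟩ := (Sd 𝒜 ℳ E m d).cls_surjective i x
      have h1 : ν₀ u = 0 := by
        rw [← hνb, ← hf, hx]
        rfl
      rw [VCx.cls_eq_zero_iff]
      exact (hker u).1 h1
    · rintro ⟨y, hy⟩
      obtain ⟨u, hu⟩ := hrange2 y hy
      exact ⟨(Sd 𝒜 ℳ E m d).cls i u, Subtype.ext hu⟩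
  refine ⟨AddEquiv.ofBijective f hbij, fun c x => ?_⟩
  change νb (c • x) = algebraMap k R c • νb x
  rw [map_smul]
  rfl

end single

end Groth.Agent.Lib.Helper20.SegGr
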