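import Mathlib
import Groth.Agent.Lib.Helper20.SegFin2
import Groth.Agent.Lib.Helper20.GrFin2

/-!
# Exactness, `H⁰` and finiteness for the degree `d` parts (helper20)
-/

set_option autoImplicit false
set_option linter.unusedSectionVars false
set_option linter.unusedVariables false
set_option linter.style.haveILetI false

universe u

open TensorProduct DirectSum Groth.Agent.Lib.Helper20.SegKun Groth.Agent.Lib.Helper20.SegTP
  Groth.Agent.Lib.Helper20.GrConv GrLC Groth.Agent.Lib.Helper4.LC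
  Groth.Agent.Lib.Helper20.SegAcyc Groth.Agent.Lib.Helper20.GrLCBasic

namespace Groth.Agent.Lib.Helper20.SegGr

variable {k : Type u} [Field k]

/-- ranks over `k` and over a subring identified with `k`. -/
theorem rank_eq_of_addEquiv_sub {R : Type u} [CommRing R] [Nontrivial R] [Algebra k R]
    (R0 : Subring R) (hR0 : ∀ r : R, r ∈ R0 ↔ ∃ c : k, algebraMap k R c = r)
    {V : Type u} [AddCommGroup V] [Module k V] {X : Type u} [AddCommGroup X] [Module R X]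
    (W : Submodule R0 X) (j : V ≃+ ↥W)
    (hj : ∀ (c : k) (v : V), ((j (c • v) : ↥W) : X) = algebraMap k R c • ((j v : ↥W) : X)) :
    Module.rank k V = Module.rank R0 ↥W := by
  let i : k → R0 := fun c => ⟨algebraMap k R c, (hR0 _).2 ⟨c, rfl⟩⟩
  have hi : Function.Bijective i := by
    constructor
    · intro c c' h
      exact (algebraMap k R).injective (congrArg Subtype.val h)
    · rintro ⟨r, hr⟩
      obtain ⟨c, rfl⟩ := (hR0 r).1 hr
      exact ⟨c, rfl⟩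
  exact rank_eq_of_equiv_equiv i j hi (fun c v => by
    apply Subtype.ext
    rw [hj]
    rfl)

theorem finite_of_addEquiv_sub {R : Type u} [CommRing R] [Nontrivial R] [Algebra k R]
    (R0 : Subring R) (hR0 : ∀ r : R, r ∈ R0 ↔ ∃ c : k, algebraMap k R c = r)
    {V : Type u} [AddCommGroup V] [Module k V] {X : Type u} [AddCommGroup X] [Module R X]
    (W : Submodule R0 X) (j : V ≃+ ↥W)
    (hj : ∀ (c : k) (v : V), ((j (c • v) : ↥W) : X) = algebraMap k R c • ((j v : ↥W) : X))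
    [Module.Finite R0 ↥W] : Module.Finite k V := by
  rw [← Module.rank_lt_aleph0_iff, rank_eq_of_addEquiv_sub R0 hR0 W j hj]
  exact Module.rank_lt_aleph0 R0 ↥W

section exact

variable {R : Type u} [CommRing R] [Algebra k R] {𝒜 : ℤ → Submodule k R} (G : GCx k R 𝒜) (d : ℤ)

lemma Vd_exact (hG : ∀ n, G.toVCx.ExactAt (n + 1)) (n : ℕ) : (Vd G d).ExactAt (n + 1) := by
  intro x hx
  have hx' : G.toVCx.d (n + 1) x.1 = 0 := congrArg Subtype.val hx
  obtain ⟨y, hy⟩ := hG n x.1 hx'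
  have hy' : G.d n y = x.1 := hy
  refine ⟨⟨(G.P n).p d y, (G.P n).p_mem d y⟩, Subtype.ext ?_⟩
  change G.d n ((G.P n).p d y) = x.1
  rw [G.d_p, hy', (G.P (n + 1)).p_of_mem x.2]

end exact

section single

variable {R : Type u} [CommRing R] [Nontrivial R] [Algebra k R] (𝒜 : ℤ → Submodule k R)
  [GradedAlgebra 𝒜]
  {M : Type u} [AddCommGroup M] [Module R M] [Module k M] [IsScalarTower k R M]
  (ℳ : ℤ → AddSubgroup M) [DirectSum.Decomposition ℳ] [SetLike.GradedSMul 𝒜 ℳ]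
  (E : StarInjRes 𝒜 ℳ) (m : HomogeneousIdeal 𝒜) (d : ℤ)
  (h0 : 𝒜 0 = Submodule.span k {(1 : R)})

include h0 in
omit [Nontrivial R] in
lemma mem_deg0_iff (r : R) : r ∈ deg0 𝒜 ↔ ∃ c : k, algebraMap k R c = r := by
  change r ∈ 𝒜 0 ↔ _
  rw [h0, Submodule.mem_span_singleton]
  constructor
  · rintro ⟨c, rfl⟩
    exact ⟨c, Algebra.algebraMap_eq_smul_one c⟩
  · rintro ⟨c, rfl⟩
    exact ⟨c, (Algebra.algebraMap_eq_smul_one c).symm⟩

include h0 in
omit [Nontrivial R] in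
lemma mem_deg0_toAS_iff (r : R) : r ∈ deg0 (toAS 𝒜) ↔ ∃ c : k, algebraMap k R c = r :=
  mem_deg0_iff 𝒜 h0 r

omit [Nontrivial R] in
lemma Sd_exact (q : ℕ) (h : E.Hcomp m q d = ⊥) : (Sd 𝒜 ℳ E m d).ExactAt q := by
  rw [VCx.exactAt_iff_subsingleton]
  obtain ⟨j, -⟩ := exists_addEquiv_Hcomp_single 𝒜 ℳ E m d q
  refine ⟨fun x y => j.injective ?_⟩
  apply Subtype.ext
  have hx := (Submodule.eq_bot_iff _).1 h _ (j x).2
  have hy := (Submodule.eq_bot_iff _).1 h _ (j y).2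
  rw [hx, hy]

include h0 in
theorem finrank_Sd_H (i : ℕ) :
    Module.finrank k ((Sd 𝒜 ℳ E m d).H i) = Module.finrank (deg0 𝒜) (E.Hcomp m i d) := by
  obtain ⟨j, hj⟩ := exists_addEquiv_Hcomp_single 𝒜 ℳ E m d i
  have := rank_eq_of_addEquiv_sub (deg0 𝒜) (mem_deg0_iff 𝒜 h0) (E.Hcomp m i d) j hj
  unfold Module.finrank
  rw [this]

include h0 in
theorem finite_Sd_H [IsNoetherianRing R] [Module.Finite R M]
    (hm : m.toIdeal = Ideal.span (⋃ n ∈ Set.Ioi (0 : ℤ), (𝒜 n : Set R))) (i : ℕ) :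
    Module.Finite k ((Sd 𝒜 ℳ E m d).H i) := by
  obtain ⟨j, hj⟩ := exists_addEquiv_Hcomp_single 𝒜 ℳ E m d i
  have hgood := (Groth.Agent.Lib.Helper20.GrFin2.good (idealTo 𝒜 m) hm i M (toAS ℳ)
    (resTo 𝒜 ℳ E)).1 d
  let e : ↥(E.Hcomp m i d) ≃+ ↥((resTo 𝒜 ℳ E).Hcomp (idealTo 𝒜 m) i d) :=
    { toFun := fun x => ⟨x.1, x.2⟩
      invFun := fun x => ⟨x.1, x.2⟩
      left_inv := fun _ => rfl
      right_inv := fun _ => rfl
      map_add' := fun _ _ => rfl }
  haveI : Module.Finite (deg0 (toAS 𝒜)) ↥((resTo 𝒜 ℳ E).Hcomp (idealTo 𝒜 m) i d) :=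
    Module.IsNoetherian.finite _ _
  exact finite_of_addEquiv_sub (deg0 (toAS 𝒜)) (mem_deg0_toAS_iff 𝒜 h0)
    ((resTo 𝒜 ℳ E).Hcomp (idealTo 𝒜 m) i d) (j.trans e) (fun c v => hj c v)

end single

end Groth.Agent.Lib.Helper20.SegGr
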