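import Mathlib
import Groth.Agent.Lib.Helper20.SegFin3
import Groth.Agent.Lib.Helper20.GrFin1

/-!
# `H⁰` of the degree `d` part of a resolution; the Segre data from `IsSegreMod` (helper20)
-/

set_option autoImplicit false
set_option linter.unusedSectionVars false
set_option linter.unusedVariables false
set_option linter.style.haveILetI false

universe u

open TensorProduct DirectSum Groth.Agent.Lib.Helper20.SegKun Groth.Agent.Lib.Helper20.SegTP
  Groth.Agent.Lib.Helper20.GrConv GrLC Groth.Agent.Lib.Helper4.LC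
  Groth.Agent.Lib.Helper20.SegAcyc Groth.Agent.Lib.Helper20.GrLCBasic

namespace Groth.Agent.Lib.Helper20.SegGr

variable {k : Type u} [Field k]

section H0

variable {R : Type u} [CommRing R] [Algebra k R] {𝒜 : ℤ → Submodule k R} {G : GCx k R 𝒜}
  {M : Type u} [AddCommGroup M] [Module R M] [Module k M] [IsScalarTower k R M]
  (εM : GAug G M) (d : ℤ)

lemma ε_mem_piece (x : M) (hx : x ∈ εM.PM.piece d) : εM.ε x ∈ (G.P 0).piece d := by
  rw [PFam.mem_piece_iff, ← εM.ε_p, εM.PM.p_of_mem hx]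

lemma d_ε_zero (x : M) : G.d 0 (εM.ε x) = 0 := by
  have : εM.ε x ∈ LinearMap.ker (G.d 0) := by
    rw [εM.exact_zero]
    exact LinearMap.mem_range_self _ _
  exact this

/-- the cocycle of the degree `d` part given by an element of `M_d`. -/
noncomputable def H0Z : ↥(εM.PM.piece d) →ₗ[k] ↥((Vd G d).Z 0) where
  toFun x := ⟨⟨εM.ε x.1, ε_mem_piece εM d x.1 x.2⟩, by
    rw [VCx.mem_Z]
    apply Subtype.ext
    exact d_ε_zero εM x.1⟩
  map_add' x y := by
    apply Subtype.ext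
    apply Subtype.ext
    change εM.ε ((x + y : ↥(εM.PM.piece d)) : M) = εM.ε x.1 + εM.ε y.1
    rw [Submodule.coe_add, map_add]
  map_smul' c x := by
    apply Subtype.ext
    apply Subtype.ext
    change εM.ε ((c • x : ↥(εM.PM.piece d)) : M) = c • εM.ε x.1
    rw [Submodule.coe_smul, LinearMap.map_smul_of_tower]

lemma H0Z_coe (x : ↥(εM.PM.piece d)) : ((H0Z εM d x).1.1 : G.X 0) = εM.ε x.1 := rfl

/-- **`H⁰` of the degree `d` part of a resolution of `M` is `M_d`.** -/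
noncomputable def H0Equiv : ↥(εM.PM.piece d) ≃ₗ[k] (Vd G d).H 0 :=
  LinearEquiv.ofBijective ((Vd G d).cls 0 ∘ₗ H0Z εM d) (by
    constructor
    · rw [← LinearMap.ker_eq_bot, LinearMap.ker_eq_bot']
      intro x hx
      rw [LinearMap.comp_apply, VCx.cls_eq_zero_iff] at hx
      have h0 : ((H0Z εM d x).1 : (Vd G d).X 0) = 0 := hx
      have h1 : εM.ε x.1 = 0 := by
        rw [← H0Z_coe, h0]
        rfl
      have h2 : x.1 = 0 := εM.ε_inj (h1.trans (map_zero _).symm)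
      exact Subtype.ext h2
    · intro y
      obtain ⟨z, rfl⟩ := (Vd G d).cls_surjective 0 y
      have hz : G.d 0 z.1.1 = 0 := by
        have := z.2
        rw [VCx.mem_Z] at this
        exact congrArg Subtype.val this
      have hz' : z.1.1 ∈ LinearMap.range εM.ε := by
        rw [← εM.exact_zero]
        exact hz
      obtain ⟨x, hx⟩ := hz'
      have hxd : x ∈ εM.PM.piece d := by
        rw [PFam.mem_piece_iff]
        apply εM.ε_inj
        rw [εM.ε_p, hx, (G.P 0).p_of_mem z.1.2]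
      refine ⟨⟨x, hxd⟩, ?_⟩
      rw [LinearMap.comp_apply]
      congr 1
      apply Subtype.ext
      apply Subtype.ext
      exact hx)

end H0

section H0fin

variable {R : Type u} [CommRing R] [Nontrivial R] [Algebra k R] (𝒜 : ℤ → Submodule k R)
  [GradedAlgebra 𝒜]
  {M : Type u} [AddCommGroup M] [Module R M] [Module k M] [IsScalarTower k R M]
  (ℳ : ℤ → AddSubgroup M) [DirectSum.Decomposition ℳ] [SetLike.GradedSMul 𝒜 ℳ]
  (E : StarInjRes 𝒜 ℳ) (d : ℤ)
  (h0 : 𝒜 0 = Submodule.span k {(1 : R)})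

/-- the piece `M_d` as a `k`-space and as a module over the degree zero subring. -/
noncomputable def pieceAddEquiv : ↥((gaugOf 𝒜 ℳ E).PM.piece d) ≃+ ↥(comp 𝒜 ℳ d) where
  toFun x := ⟨x.1, (PFam.mem_piece_ofDec ℳ (smul_mem_piece 𝒜 ℳ) d x.1).1 x.2⟩
  invFun x := ⟨x.1, (PFam.mem_piece_ofDec ℳ (smul_mem_piece 𝒜 ℳ) d x.1).2 x.2⟩
  left_inv _ := rfl
  right_inv _ := rfl
  map_add' _ _ := rfl

lemma pieceAddEquiv_smul (c : k) (x : ↥((gaugOf 𝒜 ℳ E).PM.piece d)) :
    ((pieceAddEquiv 𝒜 ℳ E d (c • x) : ↥(comp 𝒜 ℳ d)) : M) =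
      algebraMap k R c • ((pieceAddEquiv 𝒜 ℳ E d x : ↥(comp 𝒜 ℳ d)) : M) := by
  change c • x.1 = algebraMap k R c • x.1
  rw [algebraMap_smul]

include h0 in
theorem finrank_Vd_H0 :
    Module.finrank k ((Vd (gcxOf 𝒜 ℳ E) d).H 0) =
      Module.finrank (deg0 𝒜) (comp 𝒜 ℳ d) := by
  rw [← (H0Equiv (gaugOf 𝒜 ℳ E) d).finrank_eq]
  have := rank_eq_of_addEquiv_sub (deg0 𝒜) (mem_deg0_iff 𝒜 h0) (comp 𝒜 ℳ d)
    (pieceAddEquiv 𝒜 ℳ E d) (pieceAddEquiv_smul 𝒜 ℳ E d)
  unfold Module.finrank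
  rw [this]

include h0 in
theorem finite_Vd_H0 [IsNoetherianRing R] [Module.Finite R M] :
    Module.Finite k ((Vd (gcxOf 𝒜 ℳ E) d).H 0) := by
  haveI : IsNoetherian R M := isNoetherian_of_isNoetherianRing_of_finite R M
  have hN := Groth.Agent.Lib.Helper20.GrFin1.isNoetherian_comp (toAS 𝒜) (toAS ℳ) d
  haveI : Module.Finite (deg0 (toAS 𝒜)) ↥(comp (toAS 𝒜) (toAS ℳ) d) :=
    Module.IsNoetherian.finite _ _
  let e : ↥(comp 𝒜 ℳ d) ≃+ ↥(comp (toAS 𝒜) (toAS ℳ) d) :=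
    { toFun := fun x => ⟨x.1, x.2⟩
      invFun := fun x => ⟨x.1, x.2⟩
      left_inv := fun _ => rfl
      right_inv := fun _ => rfl
      map_add' := fun _ _ => rfl }
  haveI : Module.Finite k ↥((gaugOf 𝒜 ℳ E).PM.piece d) :=
    finite_of_addEquiv_sub (deg0 (toAS 𝒜)) (mem_deg0_toAS_iff 𝒜 h0)
      (comp (toAS 𝒜) (toAS ℳ) d) ((pieceAddEquiv 𝒜 ℳ E d).trans e)
      (fun c v => pieceAddEquiv_smul 𝒜 ℳ E d c v)
  exact Module.Finite.equiv (H0Equiv (gaugOf 𝒜 ℳ E) d)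

end H0fin

end Groth.Agent.Lib.Helper20.SegGr
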