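import Mathlib
import Groth.Agent.Lib.Helper20.SegTP4
import Groth.Agent.Lib.Helper20.GrVeronese

/-!
# The irrelevant ideal of a Segre product and the ideals of the two factors have the same radical in
`R ⊗ S` (helper20)
-/

set_option autoImplicit false
set_option linter.unusedSectionVars false
set_option linter.unusedVariables false
set_option linter.style.haveILetI false

universe u

open TensorProduct Groth.Agent.Lib.Helper20.SegTP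

namespace Groth.Agent.Lib.Helper20.SegRad

variable {k : Type u} [Field k] {R S T : Type u} [CommRing R] [CommRing S] [CommRing T]
  [Algebra k R] [Algebra k S] [Algebra k T]
  (𝒜 : ℤ → Submodule k R) [GradedAlgebra 𝒜] (ℬ : ℤ → Submodule k S) [GradedAlgebra ℬ]
  (𝒯 : ℤ → Submodule k T) [GradedAlgebra 𝒯] (ψ : T →ₐ[k] R ⊗[k] S)
  (hT : GrSeg.IsSegreRing 𝒜 ℬ 𝒯 ψ)
  (mR : Ideal R) (hmR : mR = Ideal.span (⋃ n ∈ Set.Ioi (0 : ℤ), (𝒜 n : Set R)))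
  (mS : Ideal S) (hmS : mS = Ideal.span (⋃ n ∈ Set.Ioi (0 : ℤ), (ℬ n : Set S)))
  (mT : Ideal T) (hmT : mT = Ideal.span (⋃ n ∈ Set.Ioi (0 : ℤ), (𝒯 n : Set T)))

include hT in
lemma ψ_mem_segrePiece (i : ℤ) (t : T) (ht : t ∈ 𝒯 i) : ψ t ∈ GrSeg.segrePiece k 𝒜 ℬ i := by
  rw [← hT.2 i]
  exact Submodule.mem_map_of_mem ht

include hmR in
lemma mem_mR {n : ℤ} (hn : 0 < n) {r : R} (hr : r ∈ 𝒜 n) : r ∈ mR := by
  rw [hmR]
  exact Ideal.subset_span (Set.mem_iUnion₂.2 ⟨n, hn, hr⟩)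

include hT hmR hmS hmT in
lemma map_le_inf : mT.map ψ ≤ mR.map (algebraMap R (R ⊗[k] S)) ⊓
    mS.map (Algebra.TensorProduct.includeRight : S →ₐ[k] R ⊗[k] S) := by
  rw [Ideal.map_le_iff_le_comap, hmT, Ideal.span_le]
  intro t ht
  obtain ⟨n, hn, htn⟩ := Set.mem_iUnion₂.1 ht
  have h1 := ψ_mem_segrePiece 𝒜 ℬ 𝒯 ψ hT n t htn
  have h2 : GrSeg.segrePiece k 𝒜 ℬ n ≤ (mR.map (algebraMap R (R ⊗[k] S)) ⊓
      mS.map (Algebra.TensorProduct.includeRight : S →ₐ[k] R ⊗[k] S)).restrictScalars k := by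
    apply Submodule.span_le.2
    rintro _ ⟨r, hr, s, hs, rfl⟩
    exact tmul_mem_inf mR mS (mem_mR 𝒜 mR hmR hn hr)
      (mem_mR ℬ mS hmS hn hs)
  exact h2 h1

include hT hmT in
lemma tmul_pow_mem {p q : ℤ} (hp : 0 < p) (hq : 0 < q) {r : R} (hr : r ∈ 𝒜 p) {s : S}
    (hs : s ∈ ℬ q) : (r ⊗ₜ[k] s) ^ (p.toNat + q.toNat) ∈ mT.map ψ := by
  have hp' : (p.toNat : ℤ) = p := Int.toNat_of_nonneg hp.le
  have hq' : (q.toNat : ℤ) = q := Int.toNat_of_nonneg hq.le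
  have h1 : r ^ q.toNat ∈ 𝒜 (p * q) := by
    have := SetLike.pow_mem_graded q.toNat hr
    rw [nsmul_eq_mul, hq', mul_comm] at this
    exact this
  have h2 : s ^ p.toNat ∈ ℬ (p * q) := by
    have := SetLike.pow_mem_graded p.toNat hs
    rw [nsmul_eq_mul, hp'] at this
    exact this
  have h3 : (r ^ q.toNat) ⊗ₜ[k] (s ^ p.toNat) ∈ GrSeg.segrePiece k 𝒜 ℬ (p * q) :=
    Submodule.subset_span ⟨_, h1, _, h2, rfl⟩
  rw [← hT.2 (p * q)] at h3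
  obtain ⟨t, ht, hψt⟩ := h3
  have ht' : t ∈ mT := by
    rw [hmT]
    exact Ideal.subset_span (Set.mem_iUnion₂.2 ⟨p * q, mul_pos hp hq, ht⟩)
  have h4 : (r ^ q.toNat) ⊗ₜ[k] (s ^ p.toNat) ∈ mT.map ψ := by
    rw [← hψt]
    exact Ideal.mem_map_of_mem ψ ht'
  have h5 : (r ⊗ₜ[k] s) ^ (p.toNat + q.toNat) =
      ((r ^ q.toNat) ⊗ₜ[k] (s ^ p.toNat)) * ((r ^ p.toNat) ⊗ₜ[k] (s ^ q.toNat)) := by
    rw [Algebra.TensorProduct.tmul_pow, Algebra.TensorProduct.tmul_mul_tmul, ← pow_add, ← pow_add,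
      add_comm q.toNat p.toNat]
  rw [h5]
  exact Ideal.mul_mem_right _ _ h4

include hT hmR hmS hmT in
lemma mul_le_radical : mR.map (algebraMap R (R ⊗[k] S)) *
    mS.map (Algebra.TensorProduct.includeRight : S →ₐ[k] R ⊗[k] S) ≤ (mT.map ψ).radical := by
  rw [hmR, hmS, Ideal.map_span, Ideal.map_span, Ideal.span_mul_span', Ideal.span_le]
  rintro _ ⟨_, ⟨r, hr, rfl⟩, _, ⟨s, hs, rfl⟩, rfl⟩
  obtain ⟨p, hp, hrp⟩ := Set.mem_iUnion₂.1 hr
  obtain ⟨q, hq, hsq⟩ := Set.mem_iUnion₂.1 hs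
  refine ⟨p.toNat + q.toNat, ?_⟩
  have h1 : algebraMap R (R ⊗[k] S) r *
      (Algebra.TensorProduct.includeRight : S →ₐ[k] R ⊗[k] S) s = r ⊗ₜ[k] s := by
    change (r ⊗ₜ[k] (1 : S)) * ((1 : R) ⊗ₜ[k] s) = _
    rw [Algebra.TensorProduct.tmul_mul_tmul, mul_one, one_mul]
  change (algebraMap R (R ⊗[k] S) r *
      (Algebra.TensorProduct.includeRight : S →ₐ[k] R ⊗[k] S) s) ^ _ ∈ _
  rw [h1]
  exact tmul_pow_mem 𝒜 ℬ 𝒯 ψ hT mT hmT hp hq hrp hsq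

include hT hmR hmS hmT in
/-- **the torsion functors of `T_+ (R ⊗ S)` and of `R_+(R ⊗ S) ⊓ S_+(R ⊗ S)` agree.** -/
theorem gam_eq [IsNoetherianRing (R ⊗[k] S)] (N : Type u) [AddCommGroup N]
    [Module (R ⊗[k] S) N] :
    GrLC.gam (mT.map ψ) N = GrLC.gam (mR.map (algebraMap R (R ⊗[k] S)) ⊓
      mS.map (Algebra.TensorProduct.includeRight : S →ₐ[k] R ⊗[k] S)) N := by
  apply le_antisymm
  · have h1 : mR.map (algebraMap R (R ⊗[k] S)) ⊓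
        mS.map (Algebra.TensorProduct.includeRight : S →ₐ[k] R ⊗[k] S) ≤ (mT.map ψ).radical := by
      intro x hx
      have h2 : x ^ 2 ∈ (mT.map ψ).radical := by
        apply mul_le_radical 𝒜 ℬ 𝒯 ψ hT mR hmR mS hmS mT hmT
        rw [pow_two]
        exact Ideal.mul_mem_mul hx.1 hx.2
      obtain ⟨n, hn⟩ := h2
      exact ⟨2 * n, by rw [pow_mul]; exact hn⟩
    obtain ⟨n, hn⟩ := Ideal.exists_pow_le_of_le_radical_of_fg_radical h1
      (IsNoetherian.noetherian _)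
    exact Groth.Agent.Lib.Helper20.GrVeronese.gam_le_of_pow_le hn N
  · apply Groth.Agent.Lib.Helper20.GrVeronese.gam_le_of_pow_le (k := 1)
    rw [pow_one]
    exact map_le_inf 𝒜 ℬ 𝒯 ψ hT mR hmR mS hmS mT hmT

end Groth.Agent.Lib.Helper20.SegRad
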