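import Mathlib
import Groth.Agent.Lib.Helper20.SegFin4
import Groth.Agent.Lib.Helper20.SegRad

/-!
# The Segre data of `IsSegreMod`, and the standing facts on the Segre ring (helper20)
-/

set_option autoImplicit false
set_option linter.unusedSectionVars false
set_option linter.unusedVariables false
set_option linter.style.haveILetI false

universe u

open TensorProduct DirectSum Groth.Agent.Lib.Helper20.SegKun Groth.Agent.Lib.Helper20.SegTP
  Groth.Agent.Lib.Helper20.GrConv GrLC Groth.Agent.Lib.Helper4.LC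
  Groth.Agent.Lib.Helper20.SegAcyc Groth.Agent.Lib.Helper20.GrLCBasic

namespace Groth.Agent.Lib.Helper20.SegGr

attribute [local instance] actModule smulCommClass_base isScalarTower_base

variable {k : Type u} [Field k]

section pdata

variable {R S T : Type u} [CommRing R] [CommRing S] [CommRing T] [Algebra k R] [Algebra k S]
  [Algebra k T]
  (𝒜 : ℤ → Submodule k R) [GradedAlgebra 𝒜] (ℬ : ℤ → Submodule k S) [GradedAlgebra ℬ]
  (𝒯 : ℤ → Submodule k T) [GradedAlgebra 𝒯] (ψ : T →ₐ[k] R ⊗[k] S)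
  {M : Type u} [AddCommGroup M] [Module R M] [Module k M] [IsScalarTower k R M]
  (ℳ : ℤ → AddSubgroup M) [DirectSum.Decomposition ℳ] [SetLike.GradedSMul 𝒜 ℳ]
  (EM : StarInjRes 𝒜 ℳ)
  {N : Type u} [AddCommGroup N] [Module S N] [Module k N] [IsScalarTower k S N]
  (𝒩 : ℤ → AddSubgroup N) [DirectSum.Decomposition 𝒩] [SetLike.GradedSMul ℬ 𝒩]
  (EN : StarInjRes ℬ 𝒩)
  {P : Type u} [AddCommGroup P] [Module T P] [Module k P] [IsScalarTower k T P]
  (𝒬 : ℤ → AddSubgroup P) [DirectSum.Decomposition 𝒬] [SetLike.GradedSMul 𝒯 𝒬]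
  (φ : P →ₗ[k] M ⊗[k] N) (hP : GrSeg.IsSegreMod ψ ℳ 𝒩 𝒬 φ)

lemma segSub_eq_segrePiece (e : ℤ) :
    segSub (gaugOf 𝒜 ℳ EM).PM (gaugOf ℬ 𝒩 EN).PM e = GrSeg.segrePiece k ℳ 𝒩 e := by
  unfold segSub GrSeg.segrePiece
  congr 1
  ext w
  constructor
  · rintro ⟨x, hx, y, hy, rfl⟩
    exact ⟨x, (PFam.mem_piece_ofDec ℳ (smul_mem_piece 𝒜 ℳ) e x).1 hx, y,
      (PFam.mem_piece_ofDec 𝒩 (smul_mem_piece ℬ 𝒩) e y).1 hy, rfl⟩
  · rintro ⟨x, hx, y, hy, rfl⟩
    exact ⟨x, (PFam.mem_piece_ofDec ℳ (smul_mem_piece 𝒜 ℳ) e x).2 hx, y,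
      (PFam.mem_piece_ofDec 𝒩 (smul_mem_piece ℬ 𝒩) e y).2 hy, rfl⟩

include hP in
lemma φ_mem_segSub (e : ℤ) (p : P) (hp : p ∈ 𝒬 e) :
    φ p ∈ segSub (gaugOf 𝒜 ℳ EM).PM (gaugOf ℬ 𝒩 EN).PM e := by
  rw [segSub_eq_segrePiece]
  have h : φ p ∈ φ '' (𝒬 e : Set P) := Set.mem_image_of_mem φ hp
  rw [hP.image_piece e] at h
  exact h

include hP in
/-- the Segre data of a Segre product of modules. -/
theorem pdata_of_isSegreMod :
    PData ψ (gaugOf 𝒜 ℳ EM) (gaugOf ℬ 𝒩 EN) (toAS 𝒬) φ where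
  inj := hP.injective
  smul t p := hP.map_smul t p
  diag p := by
    induction p using DirectSum.Decomposition.inductionOn 𝒬 with
    | zero => rw [map_zero, map_zero]
    | @homogeneous e p =>
      exact diag_of_mem_segSub _ _ (φ_mem_segSub 𝒜 ℬ ψ ℳ EM 𝒩 EN 𝒬 φ hP e p.1 p.2)
    | add p p' h h' => rw [map_add, map_add, h, h']
  surj u hu := by
    have h1 := diag_mem_iSup_segSub (gaugOf 𝒜 ℳ EM).PM (gaugOf ℬ 𝒩 EN).PM u
    rw [hu] at h1
    have h2 : (⨆ e, segSub (gaugOf 𝒜 ℳ EM).PM (gaugOf ℬ 𝒩 EN).PM e) ≤ LinearMap.range φ := by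
      apply iSup_le
      intro e
      rw [segSub_eq_segrePiece]
      intro w hw
      have hw' : w ∈ (GrSeg.segrePiece k ℳ 𝒩 e : Set (M ⊗[k] N)) := hw
      rw [← hP.image_piece e] at hw'
      obtain ⟨p, -, rfl⟩ := hw'
      exact LinearMap.mem_range_self _ _
    exact h2 h1
  deg e p hp := segSub_le_pieceL _ _ e (φ_mem_segSub 𝒜 ℬ ψ ℳ EM 𝒩 EN 𝒬 φ hP e p hp)

end pdata

section ring

variable {R S T : Type u} [CommRing R] [CommRing S] [CommRing T] [Algebra k R] [Algebra k S]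
  [Algebra k T] [Nontrivial R] [Nontrivial S]
  (𝒜 : ℤ → Submodule k R) [GradedAlgebra 𝒜] (ℬ : ℤ → Submodule k S) [GradedAlgebra ℬ]
  (𝒯 : ℤ → Submodule k T) [GradedAlgebra 𝒯] (ψ : T →ₐ[k] R ⊗[k] S)
  (hT : GrSeg.IsSegreRing 𝒜 ℬ 𝒯 ψ)
  (h0R : 𝒜 0 = Submodule.span k {(1 : R)}) (h0S : ℬ 0 = Submodule.span k {(1 : S)})

omit [Nontrivial R] [Nontrivial S] in
include hT h0R h0S in
/-- the degree zero part of the Segre product is `k`. -/
theorem segre_zero : 𝒯 0 = Submodule.span k {(1 : T)} := by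
  apply le_antisymm
  · intro t ht
    have h1 : ψ t ∈ (𝒯 0).map ψ.toLinearMap := ⟨t, ht, rfl⟩
    rw [hT.2 0] at h1
    have h2 : GrSeg.segrePiece k 𝒜 ℬ 0 ≤ Submodule.span k {(1 : R ⊗[k] S)} := by
      apply Submodule.span_le.2
      rintro _ ⟨a, ha, b, hb, rfl⟩
      rw [h0R, Submodule.mem_span_singleton] at ha
      rw [h0S, Submodule.mem_span_singleton] at hb
      obtain ⟨c, rfl⟩ := ha
      obtain ⟨c', rfl⟩ := hb
      rw [SetLike.mem_coe, Submodule.mem_span_singleton]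
      refine ⟨c * c', ?_⟩
      rw [TensorProduct.smul_tmul_smul]
      rfl
    have h3 := h2 h1
    rw [Submodule.mem_span_singleton] at h3 ⊢
    obtain ⟨c, hc⟩ := h3
    refine ⟨c, hT.1 ?_⟩
    rw [map_smul, map_one, hc]
  · apply Submodule.span_le.2
    rintro _ rfl
    exact SetLike.GradedOne.one_mem (A := 𝒯)

omit [CommRing T] [Algebra k T] in
/-- the tensor product of two non-zero algebras over a field is non-zero. -/
theorem nontrivial_tensor : Nontrivial (R ⊗[k] S) := by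
  have h : Function.Injective (Algebra.TensorProduct.includeLeft : R →ₐ[k] R ⊗[k] S) :=
    Algebra.TensorProduct.includeLeft_injective (algebraMap k S).injective
  exact h.nontrivial

include hT in
theorem nontrivial_segre : Nontrivial T := by
  haveI := nontrivial_tensor (k := k) (R := R) (S := S)
  refine ⟨⟨0, 1, fun h => ?_⟩⟩
  have := congrArg ψ h
  rw [map_zero, map_one] at this
  exact zero_ne_one this

end ring

end Groth.Agent.Lib.Helper20.SegGr
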