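import Mathlib
import Groth.Agent.Lib.Helper20.SegFin5
import Groth.Agent.S18646

/-!
# The Künneth formula of Goto–Watanabe for the graded local cohomology of Segre products (helper20)
-/

set_option autoImplicit false
set_option linter.unusedSectionVars false
set_option linter.unusedVariables false
set_option linter.style.haveILetI false

universe u

open TensorProduct DirectSum Groth.Agent.Lib.Helper20.SegKun Groth.Agent.Lib.Helper20.SegTP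
  Groth.Agent.Lib.Helper20.GrConv GrLC Groth.Agent.Lib.Helper4.LC
  Groth.Agent.Lib.Helper20.SegAcyc Groth.Agent.Lib.Helper20.GrLCBasic

namespace Groth.Agent.Lib.Helper20.SegGr

attribute [local instance] actModule smulCommClass_base isScalarTower_base

section abstract

variable {k : Type u} [Field k] (V W : VCx k) (V' : ∀ n, Submodule k (V.X n)) (hV' : V.Stable V')
  (W' : ∀ n, Submodule k (W.X n)) (hW' : W.Stable W')
  (hV : ∀ n, V.ExactAt (n + 1)) (hW : ∀ n, W.ExactAt (n + 1))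
  (hV0 : (V.sub V' hV').ExactAt 0) (hV1 : (V.sub V' hV').ExactAt 1)
  (hW0 : (W.sub W' hW').ExactAt 0) (hW1 : (W.sub W' hW').ExactAt 1)
  [Module.Finite k (V.H 0)] [Module.Finite k (W.H 0)]
  [∀ a, Module.Finite k ((V.sub V' hV').H a)] [∀ a, Module.Finite k ((W.sub W' hW').H a)]

include hV hV0 hV1 in
lemma finite_quot_H (a : ℕ) : Module.Finite k ((V.quot V' hV').H a) := by
  cases a with
  | zero =>
    exact Module.Finite.equiv (LinearEquiv.ofBijective _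
      (quotHom_mapH_zero_bijective V V' hV' hV0 hV1))
  | succ a =>
    obtain ⟨e⟩ := nonempty_quot_H_succ_equiv V V' hV' hV a
    exact Module.Finite.equiv e.symm

include hV hW hV0 hV1 hW0 hW1 in
/-- the abstract Künneth count. -/
theorem finrank_KCx_H (q : ℕ) :
    Module.finrank k ((KCx V W V' hV' W' hW').H q) =
      Module.finrank k (V.H 0) * Module.finrank k ((W.sub W' hW').H q) +
      Module.finrank k ((V.sub V' hV').H q) * Module.finrank k (W.H 0) +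
      ∑ i ∈ Finset.range (q + 2), Module.finrank k ((V.sub V' hV').H i) *
        Module.finrank k ((W.sub W' hW').H (q + 1 - i)) := by
  have v0 := VCx.finrank_H_eq_zero_of_exactAt _ hV0
  have v1 := VCx.finrank_H_eq_zero_of_exactAt _ hV1
  have w0 := VCx.finrank_H_eq_zero_of_exactAt _ hW0
  have w1 := VCx.finrank_H_eq_zero_of_exactAt _ hW1
  have hK := KCx_exactAt_zero_one V W V' hV' W' hW' hV hW hV0 hV1 hW0 hW1
  match q with
  | 0 =>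
    rw [VCx.finrank_H_eq_zero_of_exactAt _ hK.1, v0, w0]
    simp [Finset.sum_range_succ, v0, v1, w0, w1]
  | 1 =>
    rw [VCx.finrank_H_eq_zero_of_exactAt _ hK.2, v1, w1]
    simp [Finset.sum_range_succ, v0, v1, w0, w1]
  | q + 2 =>
    obtain ⟨e⟩ := nonempty_KCx_H_equiv V W V' hV' W' hW' hV hW q
    rw [← e.finrank_eq]
    haveI : ∀ a, Module.Finite k ((V.quot V' hV').H a) := finite_quot_H V V' hV' hV hV0 hV1
    haveI : ∀ a, Module.Finite k ((W.quot W' hW').H a) := finite_quot_H W W' hW' hW hW0 hW1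
    rw [finrank_tot_H]
    apply sum_rearrange (fun i => Module.finrank k ((V.sub V' hV').H i))
      (fun i => Module.finrank k ((W.sub W' hW').H i)) _ _ w0 w1 v0 v1
      (fun a => Module.finrank k ((V.quot V' hV').H a))
      (fun a => Module.finrank k ((W.quot W' hW').H a))
    · exact (LinearEquiv.ofBijective _
        (quotHom_mapH_zero_bijective V V' hV' hV0 hV1)).finrank_eq.symm
    · intro a
      obtain ⟨e'⟩ := nonempty_quot_H_succ_equiv V V' hV' hV a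
      exact e'.finrank_eq
    · exact (LinearEquiv.ofBijective _
        (quotHom_mapH_zero_bijective W W' hW' hW0 hW1)).finrank_eq.symm
    · intro a
      obtain ⟨e'⟩ := nonempty_quot_H_succ_equiv W W' hW' hW a
      exact e'.finrank_eq

end abstract

section concrete

open GrSeg

/-- **the Künneth formula for Segre products** (Goto–Watanabe), degree by degree. -/
theorem kunneth (k : Type u) [Field k] (R : Type u) [CommRing R] [Nontrivial R] [Algebra k R]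
    (𝒜 : ℤ → Submodule k R) [GradedAlgebra 𝒜] (hposR : ∀ n : ℤ, n < 0 → 𝒜 n = ⊥)
    (h0R : 𝒜 0 = Submodule.span k {(1 : R)}) [Algebra.FiniteType k R]
    (S : Type u) [CommRing S] [Nontrivial S] [Algebra k S] (ℬ : ℤ → Submodule k S)
    [GradedAlgebra ℬ] (hposS : ∀ n : ℤ, n < 0 → ℬ n = ⊥)
    (h0S : ℬ 0 = Submodule.span k {(1 : S)}) [Algebra.FiniteType k S]
    (T : Type u) [CommRing T] [Algebra k T] (𝒯 : ℤ → Submodule k T) [GradedAlgebra 𝒯]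
    (ψ : T →ₐ[k] TensorProduct k R S) (hT : GrSeg.IsSegreRing 𝒜 ℬ 𝒯 ψ)
    (mR : HomogeneousIdeal 𝒜)
    (hmR : mR.toIdeal = Ideal.span (⋃ n ∈ Set.Ioi (0 : ℤ), (𝒜 n : Set R)))
    (mS : HomogeneousIdeal ℬ)
    (hmS : mS.toIdeal = Ideal.span (⋃ n ∈ Set.Ioi (0 : ℤ), (ℬ n : Set S)))
    (mT : HomogeneousIdeal 𝒯)
    (hmT : mT.toIdeal = Ideal.span (⋃ n ∈ Set.Ioi (0 : ℤ), (𝒯 n : Set T)))
    (M : Type u) [AddCommGroup M] [Module R M] [Module k M] [IsScalarTower k R M]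
    (ℳ : ℤ → AddSubgroup M) [DirectSum.Decomposition ℳ] [SetLike.GradedSMul 𝒜 ℳ]
    [Module.Finite R M] (EM : GrLC.StarInjRes 𝒜 ℳ)
    (N : Type u) [AddCommGroup N] [Module S N] [Module k N] [IsScalarTower k S N]
    (𝒩 : ℤ → AddSubgroup N) [DirectSum.Decomposition 𝒩] [SetLike.GradedSMul ℬ 𝒩]
    [Module.Finite S N] (EN : GrLC.StarInjRes ℬ 𝒩)
    (P : Type u) [AddCommGroup P] [Module T P] [Module k P] [IsScalarTower k T P]
    (𝒬 : ℤ → AddSubgroup P) [DirectSum.Decomposition 𝒬] [SetLike.GradedSMul 𝒯 𝒬]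
    (φ : P →ₗ[k] TensorProduct k M N) (hP : GrSeg.IsSegreMod ψ ℳ 𝒩 𝒬 φ)
    (EP : GrLC.StarInjRes 𝒯 𝒬)
    (hM : ∀ (q : ℕ) (d : ℤ), q ≤ 1 → EM.Hcomp mR q d = ⊥)
    (hN : ∀ (q : ℕ) (d : ℤ), q ≤ 1 → EN.Hcomp mS q d = ⊥) (q : ℕ) (d : ℤ) :
    Module.finrank (GrLC.deg0 𝒯) (EP.Hcomp mT q d) =
      Module.finrank (GrLC.deg0 𝒜) (GrLC.comp 𝒜 ℳ d) *
          Module.finrank (GrLC.deg0 ℬ) (EN.Hcomp mS q d) +
        Module.finrank (GrLC.deg0 𝒜) (EM.Hcomp mR q d) *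
          Module.finrank (GrLC.deg0 ℬ) (GrLC.comp ℬ 𝒩 d) +
        (Finset.range (q + 2)).sum (fun i => Module.finrank (GrLC.deg0 𝒜) (EM.Hcomp mR i d) *
          Module.finrank (GrLC.deg0 ℬ) (EN.Hcomp mS (q + 1 - i) d)) := by
  classical
  haveI : IsNoetherianRing R := Algebra.FiniteType.isNoetherianRing k R
  haveI : IsNoetherianRing S := Algebra.FiniteType.isNoetherianRing k S
  haveI hft : Algebra.FiniteType k (R ⊗[k] S) :=
    Algebra.FiniteType.trans (S := R) inferInstance inferInstance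
  haveI : IsNoetherianRing (R ⊗[k] S) := Algebra.FiniteType.isNoetherianRing k _
  haveI : IsNoetherianRing T :=
    Groth.Agent.S18646.result k R 𝒜 hposR h0R S ℬ hposS h0S T 𝒯 ψ hT.1 hT.2
  haveI : Nontrivial T := nontrivial_segre 𝒜 ℬ 𝒯 ψ hT
  have h0T : 𝒯 0 = Submodule.span k {(1 : T)} := segre_zero 𝒜 ℬ 𝒯 ψ hT h0R h0S
  have hψ := SegRad.ψ_mem_segrePiece 𝒜 ℬ 𝒯 ψ hT
  have hPD := pdata_of_isSegreMod 𝒜 ℬ ψ ℳ EM 𝒩 EN 𝒬 φ hP
  have hGex : ∀ n, (gcxOf 𝒜 ℳ EM).toVCx.ExactAt (n + 1) := gcxOf_exact 𝒜 ℳ EM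
  have hHex : ∀ n, (gcxOf ℬ 𝒩 EN).toVCx.ExactAt (n + 1) := gcxOf_exact ℬ 𝒩 EN
  have hex : ∀ n, (Tot (gcxOf 𝒜 ℳ EM).toVCx (gcxOf ℬ 𝒩 EN).toVCx).ExactAt (n + 1) :=
    tot_exactAt_succ _ _ hGex hHex
  have hgam : ∀ (N' : Type u) [AddCommGroup N'] [Module (R ⊗[k] S) N'],
      GrLC.gam ((idealTo 𝒯 mT).toIdeal.map ψ) N' =
        GrLC.gam (mR.toIdeal.map (algebraMap R (R ⊗[k] S)) ⊓
          mS.toIdeal.map (Algebra.TensorProduct.includeRight : S →ₐ[k] R ⊗[k] S)) N' :=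
    fun N' _ _ => SegRad.gam_eq 𝒜 ℬ 𝒯 ψ hT mR.toIdeal hmR mS.toIdeal hmS mT.toIdeal hmT N'
  obtain ⟨j, hj⟩ := exists_addEquiv_Hcomp 𝒯 ψ hψ (gaugOf 𝒜 ℳ EM) (gaugOf ℬ 𝒩 EN) (toAS 𝒬) φ hPD
    hex mR.toIdeal mS.toIdeal (idealTo 𝒯 mT) hgam (gcxOf_acyclic 𝒜 ℳ EM mR)
    (gcxOf_acyclic ℬ 𝒩 EN mS) (resTo 𝒯 𝒬 EP) d q
  -- the left side
  let e : ↥((resTo 𝒯 𝒬 EP).Hcomp (idealTo 𝒯 mT) q d) ≃+ ↥(EP.Hcomp mT q d) :=
    { toFun := fun x => ⟨x.1, x.2⟩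
      invFun := fun x => ⟨x.1, x.2⟩
      left_inv := fun _ => rfl
      right_inv := fun _ => rfl
      map_add' := fun _ _ => rfl }
  have hL : Module.finrank (GrLC.deg0 𝒯) (EP.Hcomp mT q d) =
      Module.finrank k ((Kd (gcxOf 𝒜 ℳ EM) (gcxOf ℬ 𝒩 EN) mR.toIdeal mS.toIdeal d).H q) := by
    have := rank_eq_of_addEquiv_sub (deg0 𝒯) (mem_deg0_iff 𝒯 h0T) (EP.Hcomp mT q d) (j.trans e)
      (fun c v => hj c v)
    unfold Module.finrank
    rw [this]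
  rw [hL]
  -- the hypotheses of the abstract count
  have hV := Vd_exact (gcxOf 𝒜 ℳ EM) d hGex
  have hW := Vd_exact (gcxOf ℬ 𝒩 EN) d hHex
  have hV0 := Sd_exact 𝒜 ℳ EM mR d 0 (hM 0 d zero_le_one)
  have hV1 := Sd_exact 𝒜 ℳ EM mR d 1 (hM 1 d le_rfl)
  have hW0 := Sd_exact ℬ 𝒩 EN mS d 0 (hN 0 d zero_le_one)
  have hW1 := Sd_exact ℬ 𝒩 EN mS d 1 (hN 1 d le_rfl)
  haveI := finite_Vd_H0 𝒜 ℳ EM d h0R
  haveI := finite_Vd_H0 ℬ 𝒩 EN d h0S
  haveI : ∀ a, Module.Finite k ((Sd 𝒜 ℳ EM mR d).H a) := finite_Sd_H 𝒜 ℳ EM mR d h0R hmR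
  haveI : ∀ a, Module.Finite k ((Sd ℬ 𝒩 EN mS d).H a) := finite_Sd_H ℬ 𝒩 EN mS d h0S hmS
  have key := finrank_KCx_H (Vd (gcxOf 𝒜 ℳ EM) d) (Vd (gcxOf ℬ 𝒩 EN) d)
    (Vd' (gcxOf 𝒜 ℳ EM) d mR.toIdeal) (Vd'_stable (gcxOf 𝒜 ℳ EM) d mR.toIdeal)
    (Vd' (gcxOf ℬ 𝒩 EN) d mS.toIdeal) (Vd'_stable (gcxOf ℬ 𝒩 EN) d mS.toIdeal)
    hV hW hV0 hV1 hW0 hW1 q
  rw [key, finrank_Vd_H0 𝒜 ℳ EM d h0R, finrank_Vd_H0 ℬ 𝒩 EN d h0S]
  have hs1 : ∀ i, Module.finrank k ((Sd 𝒜 ℳ EM mR d).H i) =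
      Module.finrank (deg0 𝒜) (EM.Hcomp mR i d) := finrank_Sd_H 𝒜 ℳ EM mR d h0R
  have hs2 : ∀ i, Module.finrank k ((Sd ℬ 𝒩 EN mS d).H i) =
      Module.finrank (deg0 ℬ) (EN.Hcomp mS i d) := finrank_Sd_H ℬ 𝒩 EN mS d h0S
  simp only [hs1, hs2]

end concrete

end Groth.Agent.Lib.Helper20.SegGr
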