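import Mathlib
import Groth.Agent.Lib.Helper20.SegMain

/-!
# The ring case of the Künneth formula: conversions (helper20)
-/

set_option autoImplicit false
set_option linter.unusedSectionVars false
set_option linter.unusedVariables false
set_option linter.style.haveILetI false

universe u

open TensorProduct DirectSum Groth.Agent.Lib.Helper20.SegKun Groth.Agent.Lib.Helper20.SegTP
  Groth.Agent.Lib.Helper20.GrConv GrLC Groth.Agent.Lib.Helper4.LC
  Groth.Agent.Lib.Helper20.SegAcyc Groth.Agent.Lib.Helper20.GrLCBasic

namespace Groth.Agent.Lib.Helper20.SegGr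

section modconv

variable {ι : Type} [AddCommGroup ι] [DecidableEq ι] {R : Type u} [CommRing R] {σ : Type u}
  [SetLike σ R] [AddSubgroupClass σ R] (𝒜 : ι → σ) [GradedRing 𝒜]
  {M : Type u} [AddCommGroup M] [Module R M] {τ : Type u} [SetLike τ M] [AddSubgroupClass τ M]
  (ℳ : ι → τ) [DirectSum.Decomposition ℳ] [SetLike.GradedSMul 𝒜 ℳ]

/-- the module grading by the underlying additive subgroups, over the same graded ring. -/
lemma gradedSMul_modToAS : SetLike.GradedSMul 𝒜 (toAS ℳ) where
  smul_mem := by
    intro i j a b hi hj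
    exact SetLike.GradedSMul.smul_mem (A := 𝒜) (B := ℳ) hi hj

/-- conversion of a *injective resolution to the module grading by additive subgroups. -/
noncomputable def resModTo (E : StarInjRes 𝒜 ℳ) :
    haveI := gradedSMul_modToAS 𝒜 ℳ
    StarInjRes 𝒜 (toAS ℳ) :=
  haveI := gradedSMul_modToAS 𝒜 ℳ
  { X := E.X
    d := E.d
    ε := E.ε
    d_grHom := E.d_grHom
    ε_grHom := fun g m hm => E.ε_grHom g m hm
    ε_injective := E.ε_injective
    exact_zero := E.exact_zero
    exact_succ := E.exact_succ
    starInj := E.starInj }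

end modconv

section act

variable {k : Type u} [Field k] {R S : Type u} [CommRing R] [CommRing S] [Algebra k R]
  [Algebra k S]

/-- the action of `R ⊗ S` on itself is multiplication. -/
lemma act_self (x y : R ⊗[k] S) : GrSeg.act k R S R S x y = x * y := by
  induction x using TensorProduct.induction_on with
  | zero => rw [map_zero, LinearMap.zero_apply, zero_mul]
  | add x x' hx hx' => rw [map_add, LinearMap.add_apply, hx, hx', add_mul]
  | tmul r s =>
    induction y using TensorProduct.induction_on with
    | zero => rw [map_zero, mul_zero]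
    | add y y' hy hy' => rw [map_add, hy, hy', mul_add]
    | tmul r' s' =>
      rw [GrSeg.act_tmul, Algebra.TensorProduct.tmul_mul_tmul, smul_eq_mul, smul_eq_mul]

end act

section ringcase

variable {k : Type u} [Field k] {R : Type u} [CommRing R] [Nontrivial R] [Algebra k R]
  (𝒜 : ℤ → Submodule k R) [GradedAlgebra 𝒜] (h0 : 𝒜 0 = Submodule.span k {(1 : R)})

include h0 in
/-- the dimension of a piece of the ring over `k` and over the degree zero subring. -/
theorem finrank_comp_self (d : ℤ) :
    haveI := gradedSMul_modToAS 𝒜 𝒜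
    Module.finrank (deg0 𝒜) (comp 𝒜 (toAS 𝒜) d) = Module.finrank k (𝒜 d) := by
  haveI := gradedSMul_modToAS 𝒜 𝒜
  let j : ↥(𝒜 d) ≃+ ↥(comp 𝒜 (toAS 𝒜) d) :=
    { toFun := fun x => ⟨x.1, x.2⟩
      invFun := fun x => ⟨x.1, x.2⟩
      left_inv := fun _ => rfl
      right_inv := fun _ => rfl
      map_add' := fun _ _ => rfl }
  have := rank_eq_of_addEquiv_sub (deg0 𝒜) (mem_deg0_iff 𝒜 h0) (comp 𝒜 (toAS 𝒜) d) j
    (fun c v => by
      change c • v.1 = algebraMap k R c • v.1
      rw [Algebra.smul_def, smul_eq_mul])
  unfold Module.finrank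
  rw [this]

end ringcase

end Groth.Agent.Lib.Helper20.SegGr
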