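import Mathlib
import Groth.Agent.Lib.Helper20.SegConv
import Groth.Agent.Lib.Helper20.SegCM1
import Groth.Agent.Lib.Helper20.GrAinvPoly
import Groth.Agent.Lib.Helper20.GrVanishAbove
import Groth.Agent.Lib.Helper20.GrConv2
import Groth.Agent.S13225

/-!
# Standing facts on a graded ring defined over a field `k` (pieces `k`-subspaces, `R_0 = k`)
(helper20)
-/

set_option autoImplicit false
set_option linter.unusedSectionVars false
set_option linter.unusedVariables false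
set_option linter.style.haveILetI false

universe u

open DirectSum GrLC Groth.Agent.Lib.Helper20.GrConv Groth.Agent.Lib.Helper4.LC
  Groth.Agent.Lib.Helper20.SegGr

namespace Groth.Agent.Lib.Helper20.SegBase

variable {k : Type u} [Field k] {R : Type u} [CommRing R] [Algebra k R]
  (𝒜 : ℤ → Submodule k R) [GradedAlgebra 𝒜]
  (hpos : ∀ n : ℤ, n < 0 → 𝒜 n = ⊥) (h0 : 𝒜 0 = Submodule.span k {(1 : R)})
  (m : HomogeneousIdeal 𝒜)
  (hm : m.toIdeal = Ideal.span (⋃ n ∈ Set.Ioi (0 : ℤ), (𝒜 n : Set R)))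

include hpos in
lemma hposAS : ∀ n : ℤ, n < 0 → toAS 𝒜 n = ⊥ := by
  intro n hn
  ext x
  change x ∈ 𝒜 n ↔ x ∈ (⊥ : AddSubgroup R)
  rw [hpos n hn, Submodule.mem_bot, AddSubgroup.mem_bot]

include h0 in
theorem isField_deg0 [Nontrivial R] : IsField (deg0 (toAS 𝒜)) := by
  refine { exists_pair_ne := ⟨0, 1, zero_ne_one⟩
           mul_comm := mul_comm
           mul_inv_cancel := fun {a} ha => ?_ }
  obtain ⟨c, hc⟩ := (mem_deg0_toAS_iff 𝒜 h0 a.1).1 a.2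
  have hc0 : c ≠ 0 := by
    rintro rfl
    apply ha
    apply Subtype.ext
    rw [← hc, map_zero]
    rfl
  refine ⟨⟨algebraMap k R c⁻¹, (mem_deg0_toAS_iff 𝒜 h0 _).2 ⟨_, rfl⟩⟩, Subtype.ext ?_⟩
  change a.1 * algebraMap k R c⁻¹ = 1
  rw [← hc, ← map_mul, mul_inv_cancel₀ hc0, map_one]

include hm in
lemma hmAS : (idealTo 𝒜 m).toIdeal =
    Ideal.span (⋃ n ∈ Set.Ioi (0 : ℤ), (toAS 𝒜 n : Set R)) := hm

include hpos h0 hm in
theorem isStarLocal [Nontrivial R] : IsStarLocal (toAS 𝒜) (idealTo 𝒜 m) :=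
  Groth.Agent.Lib.Helper20.GrFieldLocal.isStarLocal (toAS 𝒜) (hposAS 𝒜 hpos) (isField_deg0 𝒜 h0)
    (idealTo 𝒜 m) (hmAS 𝒜 m hm)

include hpos h0 hm in
theorem isMaximal [Nontrivial R] : m.toIdeal.IsMaximal :=
  Groth.Agent.Lib.Helper20.GrFieldLocal.isMaximal (toAS 𝒜) (hposAS 𝒜 hpos) (isField_deg0 𝒜 h0)
    (idealTo 𝒜 m) (hmAS 𝒜 m hm)

include hpos h0 hm in
theorem height_eq [Nontrivial R] [IsNoetherianRing R] (n : ℕ) (hn : ringKrullDim R = n) :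
    m.toIdeal.height = n := by
  have hdim := Groth.Agent.Lib.Helper20.GrHeight2.ringKrullDim_eq_height (toAS 𝒜) (idealTo 𝒜 m)
    (isStarLocal 𝒜 hpos h0 m hm) (hposAS 𝒜 hpos)
  rw [hn] at hdim
  have : ((m.toIdeal.height : ℕ∞) : WithBot ℕ∞) = (((n : ℕ) : ℕ∞) : WithBot ℕ∞) := hdim.symm
  exact_mod_cast this

section modules

variable {M : Type u} [AddCommGroup M] [Module R M] {τ : Type u} [SetLike τ M]
  [AddSubgroupClass τ M] (ℳ : ℤ → τ) [DirectSum.Decomposition ℳ] [SetLike.GradedSMul 𝒜 ℳ]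
  (E : StarInjRes 𝒜 ℳ)

/-- the comparison with ungraded local cohomology. -/
noncomputable def cmp [IsNoetherianRing R] (i : ℕ) :
    E.H m i ≃ₗ[R] HH m.toIdeal (ModuleCat.of R M) i :=
  Groth.Agent.Lib.Helper20.GrLES.cmpE (resTo 𝒜 ℳ E) (idealTo 𝒜 m) i

theorem Hcomp_eq_bot_of_subsingleton (i : ℕ) (h : Subsingleton (E.H m i)) (d : ℤ) :
    E.Hcomp m i d = ⊥ := by
  rw [Submodule.eq_bot_iff]
  intro z _
  exact Subsingleton.elim _ _

theorem Hcomp_eq_bot_of_HH [IsNoetherianRing R] (i : ℕ)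
    (h : Subsingleton (HH m.toIdeal (ModuleCat.of R M) i)) (d : ℤ) : E.Hcomp m i d = ⊥ :=
  Hcomp_eq_bot_of_subsingleton 𝒜 m ℳ E i (cmp 𝒜 m ℳ E i).toEquiv.subsingleton d

theorem subsingleton_H_of_Hcomp_eq_bot [IsNoetherianRing R] (i : ℕ)
    (h : ∀ d, E.Hcomp m i d = ⊥) : Subsingleton (E.H m i) := by
  have hint := Groth.Agent.S13225.result R (toAS 𝒜) (idealTo 𝒜 m) M (toAS ℳ) (resTo 𝒜 ℳ E) i
  have hbot : ∀ d, (resTo 𝒜 ℳ E).Hgr (idealTo 𝒜 m) i d = ⊥ := by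
    intro d
    rw [AddSubgroup.eq_bot_iff_forall]
    intro x hx
    have hx' : x ∈ E.Hcomp m i d := hx
    rw [h d] at hx'
    exact hx'
  have hzero : ∀ x : (resTo 𝒜 ℳ E).H (idealTo 𝒜 m) i, x = 0 := by
    intro x
    obtain ⟨y, rfl⟩ := hint.2 x
    have hy : y = 0 := by
      apply DFinsupp.ext
      intro d
      apply Subtype.ext
      exact (AddSubgroup.eq_bot_iff_forall _).1 (hbot d) _ (y d).2
    rw [hy, map_zero]
  exact ⟨fun x y => (hzero x).trans (hzero y).symm⟩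

theorem subsingleton_HH_of_Hcomp_eq_bot [IsNoetherianRing R] (i : ℕ)
    (h : ∀ d, E.Hcomp m i d = ⊥) : Subsingleton (HH m.toIdeal (ModuleCat.of R M) i) :=
  haveI := subsingleton_H_of_Hcomp_eq_bot 𝒜 m ℳ E i h
  (cmp 𝒜 m ℳ E i).symm.toEquiv.subsingleton

include hpos h0 hm in
/-- Grothendieck vanishing. -/
theorem Hcomp_eq_bot_of_gt [Nontrivial R] [IsNoetherianRing R] (n : ℕ)
    (hn : ringKrullDim R = n) (i : ℕ) (hi : n < i) (d : ℤ) : E.Hcomp m i d = ⊥ := by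
  haveI : (idealTo 𝒜 m).toIdeal.IsPrime := (isMaximal 𝒜 hpos h0 m hm).isPrime
  have := Groth.Agent.Lib.Helper20.GrVanishAbove.subsingleton_H_of_gt_height (toAS 𝒜)
    (idealTo 𝒜 m) (isStarLocal 𝒜 hpos h0 m hm) (toAS ℳ) (resTo 𝒜 ℳ E) n
    (height_eq 𝒜 hpos h0 m hm n hn) i hi
  exact Hcomp_eq_bot_of_subsingleton 𝒜 m ℳ E i this d

end modules

section cm

variable [Nontrivial R] [IsNoetherianRing R] (I : StarInjRes 𝒜 𝒜) (r : ℕ)
  (hr : ringKrullDim R = r)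

include hpos h0 hm hr in
/-- **the graded Cohen–Macaulay criterion** for graded rings defined over a field. -/
theorem isCohenMacaulayRing_iff :
    LocCoh.IsCohenMacaulayRing R ↔ ∀ i < r, ∀ d, I.Hcomp m i d = ⊥ := by
  constructor
  · intro hCM i hi d
    letI : Field (deg0 (toAS 𝒜)) := (isField_deg0 𝒜 h0).toField
    have := Groth.Agent.Lib.Helper20.GrAinvPoly.Hcomp_eq_bot_of_lt (toAS 𝒜) (hposAS 𝒜 hpos)
      (idealTo 𝒜 m) (isStarLocal 𝒜 hpos h0 m hm) r hr (resTo 𝒜 𝒜 I) i hi d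
    exact (Hcomp_eq_bot_iff 𝒜 𝒜 I m i d).1 this
  · intro h
    apply Groth.Agent.Lib.Helper20.SegCM.isCohenMacaulayRing_of_HH_vanishing (toAS 𝒜)
      (hposAS 𝒜 hpos) (isField_deg0 𝒜 h0) (idealTo 𝒜 m) (hmAS 𝒜 m hm) r hr
    intro i hi
    exact subsingleton_HH_of_Hcomp_eq_bot 𝒜 m 𝒜 I i (h i hi)

end cm

end Groth.Agent.Lib.Helper20.SegBase
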