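import Mathlib
import Groth.Agent.Lib.Helper20.SegBase
import Groth.Agent.S13215
import Groth.Agent.S18647

/-!
# The Cohen–Macaulay property of a Segre product through the Künneth formula (helper20)
-/

set_option autoImplicit false
set_option linter.unusedSectionVars false
set_option linter.unusedVariables false
set_option linter.style.haveILetI false

universe u

open DirectSum GrLC TensorProduct Groth.Agent.Lib.Helper20.GrConv Groth.Agent.Lib.Helper4.LC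
  Groth.Agent.Lib.Helper20.SegGr Groth.Agent.Lib.Helper20.SegKun

namespace Groth.Agent.Lib.Helper20.SegBase

section resOf

variable {R : Type u} [CommRing R] {σ' : Type u} [SetLike σ' R] [AddSubgroupClass σ' R]
  (𝒜 : ℤ → σ') [GradedRing 𝒜]
  {M : Type u} [AddCommGroup M] [Module R M] {τ : Type u} [SetLike τ M] [AddSubgroupClass τ M]
  (ℳ : ℤ → τ) [DirectSum.Decomposition ℳ] [SetLike.GradedSMul 𝒜 ℳ]

lemma isStarInj_of_toAS {X : Type u} [AddCommGroup X] [Module R X] (𝒳 : ℤ → AddSubgroup X)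
    [DirectSum.Decomposition 𝒳] [SetLike.GradedSMul 𝒜 𝒳]
    (h : haveI := gradedSMul_toAS 𝒜 𝒳
      IsStarInj (toAS 𝒜) 𝒳) : IsStarInj 𝒜 𝒳 := by
  intro A B f hf hinj g hg
  exact h (gmodTo 𝒜 A) (gmodTo 𝒜 B) f hf hinj g hg

/-- conversion of *injective resolutions, backwards. -/
noncomputable def resOf (E : StarInjRes (toAS 𝒜) (toAS ℳ)) : StarInjRes 𝒜 ℳ where
  X n := gmodOf 𝒜 (E.X n)
  d := E.d
  ε := E.ε
  d_grHom := E.d_grHom
  ε_grHom := fun g m hm => E.ε_grHom g m hm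
  ε_injective := E.ε_injective
  exact_zero := E.exact_zero
  exact_succ := E.exact_succ
  starInj n :=
    haveI := gradedSMul_of_toAS 𝒜 (E.X n).gr
    isStarInj_of_toAS 𝒜 (E.X n).gr (E.starInj n)

/-- *injective resolutions exist. -/
theorem nonempty_starInjRes [IsNoetherianRing R] : Nonempty (StarInjRes 𝒜 ℳ) := by
  obtain ⟨E⟩ := Groth.Agent.S13215.result R (toAS 𝒜) M (toAS ℳ)
  exact ⟨resOf 𝒜 ℳ E⟩

end resOf

section irr

variable {k : Type u} [Field k] {R : Type u} [CommRing R] [Algebra k R]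
  (𝒜 : ℤ → Submodule k R) [GradedAlgebra 𝒜]

/-- the irrelevant ideal. -/
noncomputable def irr : HomogeneousIdeal 𝒜 :=
  ⟨Ideal.span (⋃ n ∈ Set.Ioi (0 : ℤ), (𝒜 n : Set R)), Ideal.homogeneous_span 𝒜 _ (by
    intro x hx
    obtain ⟨n, -, hxn⟩ := Set.mem_iUnion₂.1 hx
    exact ⟨n, hxn⟩)⟩

lemma irr_toIdeal : (irr 𝒜).toIdeal = Ideal.span (⋃ n ∈ Set.Ioi (0 : ℤ), (𝒜 n : Set R)) := rfl

end irr

section segre

variable {k : Type u} [Field k] {R S T : Type u} [CommRing R] [CommRing S] [CommRing T]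
  [Algebra k R] [Algebra k S] [Algebra k T]
  (𝒜 : ℤ → Submodule k R) [GradedAlgebra 𝒜] (ℬ : ℤ → Submodule k S) [GradedAlgebra ℬ]
  (𝒯 : ℤ → Submodule k T) [GradedAlgebra 𝒯] (ψ : T →ₐ[k] R ⊗[k] S)
  (hT : GrSeg.IsSegreRing 𝒜 ℬ 𝒯 ψ)

include hT in
theorem segre_pos (hposR : ∀ n : ℤ, n < 0 → 𝒜 n = ⊥) : ∀ n : ℤ, n < 0 → 𝒯 n = ⊥ := by
  intro n hn
  rw [Submodule.eq_bot_iff]
  intro t ht
  have h1 : ψ t ∈ (𝒯 n).map ψ.toLinearMap := ⟨t, ht, rfl⟩
  rw [hT.2 n] at h1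
  have h2 : GrSeg.segrePiece k 𝒜 ℬ n ≤ ⊥ := by
    apply Submodule.span_le.2
    rintro _ ⟨a, ha, b, hb, rfl⟩
    rw [hposR n hn, Submodule.mem_bot] at ha
    rw [ha, zero_tmul]
    exact Submodule.zero_mem _
  have h3 := h2 h1
  rw [Submodule.mem_bot] at h3
  exact hT.1 (h3.trans (map_zero ψ).symm)

end segre

section finrank

variable {k : Type u} [Field k] {R : Type u} [CommRing R] [Nontrivial R] [Algebra k R]
  (𝒜 : ℤ → Submodule k R) [GradedAlgebra 𝒜]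
  (h0 : 𝒜 0 = Submodule.span k {(1 : R)})
  (m : HomogeneousIdeal 𝒜)
  (hm : m.toIdeal = Ideal.span (⋃ n ∈ Set.Ioi (0 : ℤ), (𝒜 n : Set R)))
  [IsNoetherianRing R]

include h0 in
theorem finite_piece (d : ℤ) : Module.Finite k ↥(𝒜 d) := by
  haveI : IsNoetherian R R := inferInstance
  have hN := Groth.Agent.Lib.Helper20.GrFin1.isNoetherian_comp (toAS 𝒜) (toAS 𝒜) d
  haveI : Module.Finite (deg0 (toAS 𝒜)) ↥(comp (toAS 𝒜) (toAS 𝒜) d) :=
    Module.IsNoetherian.finite _ _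
  let j : ↥(𝒜 d) ≃+ ↥(comp (toAS 𝒜) (toAS 𝒜) d) :=
    { toFun := fun x => ⟨x.1, x.2⟩
      invFun := fun x => ⟨x.1, x.2⟩
      left_inv := fun _ => rfl
      right_inv := fun _ => rfl
      map_add' := fun _ _ => rfl }
  exact finite_of_addEquiv_sub (deg0 (toAS 𝒜)) (mem_deg0_toAS_iff 𝒜 h0)
    (comp (toAS 𝒜) (toAS 𝒜) d) j (fun c v => by
      change c • v.1 = algebraMap k R c • v.1
      rw [Algebra.smul_def, smul_eq_mul])

include h0 in
theorem piece_eq_bot_iff (d : ℤ) : 𝒜 d = ⊥ ↔ Module.finrank k ↥(𝒜 d) = 0 := by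
  haveI := finite_piece 𝒜 h0 d
  exact Submodule.finrank_eq_zero.symm

variable {M : Type u} [AddCommGroup M] [Module R M] [Module k M] [IsScalarTower k R M]
  (ℳ : ℤ → AddSubgroup M) [DirectSum.Decomposition ℳ] [SetLike.GradedSMul 𝒜 ℳ]
  [Module.Finite R M] (E : StarInjRes 𝒜 ℳ)

include h0 hm in
theorem Hcomp_eq_bot_iff_finrank (i : ℕ) (d : ℤ) :
    E.Hcomp m i d = ⊥ ↔ Module.finrank (deg0 𝒜) (E.Hcomp m i d) = 0 := by
  constructor
  · intro h
    rw [← finrank_Sd_H 𝒜 ℳ E m d h0 i]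
    exact VCx.finrank_H_eq_zero_of_exactAt _ (Sd_exact 𝒜 ℳ E m d i h)
  · intro h
    rw [← finrank_Sd_H 𝒜 ℳ E m d h0 i] at h
    haveI := finite_Sd_H 𝒜 ℳ E m d h0 hm i
    haveI : Subsingleton ((Sd 𝒜 ℳ E m d).H i) := Module.finrank_zero_iff.1 h
    obtain ⟨j, -⟩ := exists_addEquiv_Hcomp_single 𝒜 ℳ E m d i
    rw [Submodule.eq_bot_iff]
    intro x hx
    have : (⟨x, hx⟩ : ↥(E.Hcomp m i d)) = 0 := j.symm.injective (Subsingleton.elim _ _)
    exact congrArg Subtype.val this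

end finrank

end Groth.Agent.Lib.Helper20.SegBase
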