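import Mathlib
import Groth.Agent.Lib.Helper20.SegCM2
import Groth.Agent.S18673

/-!
# The Cohen–Macaulay property of a Segre product of rings of depth at least two (helper20)
-/

set_option autoImplicit false
set_option linter.unusedSectionVars false
set_option linter.unusedVariables false
set_option linter.style.haveILetI false

universe u

open DirectSum GrLC TensorProduct Groth.Agent.Lib.Helper20.GrConv Groth.Agent.Lib.Helper4.LC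
  Groth.Agent.Lib.Helper20.SegGr Groth.Agent.Lib.Helper20.SegKun

namespace Groth.Agent.Lib.Helper20.SegBase

/-- the Cohen–Macaulay property of a Segre product, through the Künneth formula. -/
theorem segre_cm_iff (k : Type u) [Field k] (R : Type u) [CommRing R] [Nontrivial R] [Algebra k R]
    (𝒜 : ℤ → Submodule k R) [GradedAlgebra 𝒜] (hposR : ∀ n : ℤ, n < 0 → 𝒜 n = ⊥)
    (h0R : 𝒜 0 = Submodule.span k {(1 : R)}) [Algebra.FiniteType k R]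
    (S : Type u) [CommRing S] [Nontrivial S] [Algebra k S] (ℬ : ℤ → Submodule k S)
    [GradedAlgebra ℬ] (hposS : ∀ n : ℤ, n < 0 → ℬ n = ⊥)
    (h0S : ℬ 0 = Submodule.span k {(1 : S)}) [Algebra.FiniteType k S]
    (T : Type u) [CommRing T] [Algebra k T] (𝒯 : ℤ → Submodule k T) [GradedAlgebra 𝒯]
    (ψ : T →ₐ[k] TensorProduct k R S) (hψ : Function.Injective ψ)
    (hdegT : ∀ n : ℤ, (𝒯 n).map ψ.toLinearMap = Submodule.span k
      {x : TensorProduct k R S | ∃ a ∈ 𝒜 n, ∃ b ∈ ℬ n, x = a ⊗ₜ[k] b})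
    (mR : HomogeneousIdeal 𝒜)
    (hmR : mR.toIdeal = Ideal.span (⋃ n ∈ Set.Ioi (0 : ℤ), (𝒜 n : Set R)))
    (I : GrLC.StarInjRes 𝒜 𝒜) (mS : HomogeneousIdeal ℬ)
    (hmS : mS.toIdeal = Ideal.span (⋃ n ∈ Set.Ioi (0 : ℤ), (ℬ n : Set S)))
    (J : GrLC.StarInjRes ℬ ℬ) (r s : ℕ) (hr : ringKrullDim R = r) (hs : ringKrullDim S = s)
    (h1r : 1 ≤ r) (h1s : 1 ≤ s)
    (hR : ∀ (q : ℕ) (d : ℤ), q ≤ 1 → I.Hcomp mR q d = ⊥)
    (hS : ∀ (q : ℕ) (d : ℤ), q ≤ 1 → J.Hcomp mS q d = ⊥) :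
    LocCoh.IsCohenMacaulayRing T ↔ ∀ q < r + s - 1, ∀ d : ℤ,
      Module.finrank k (𝒜 d) * Module.finrank (GrLC.deg0 ℬ) (J.Hcomp mS q d) +
        Module.finrank (GrLC.deg0 𝒜) (I.Hcomp mR q d) * Module.finrank k (ℬ d) +
        (Finset.range (q + 2)).sum (fun i => Module.finrank (GrLC.deg0 𝒜) (I.Hcomp mR i d) *
          Module.finrank (GrLC.deg0 ℬ) (J.Hcomp mS (q + 1 - i) d)) = 0 := by
  have hT : GrSeg.IsSegreRing 𝒜 ℬ 𝒯 ψ := ⟨hψ, hdegT⟩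
  haveI : IsNoetherianRing T :=
    Groth.Agent.S18646.result k R 𝒜 hposR h0R S ℬ hposS h0S T 𝒯 ψ hT.1 hT.2
  haveI : Nontrivial T := nontrivial_segre 𝒜 ℬ 𝒯 ψ hT
  have h0T : 𝒯 0 = Submodule.span k {(1 : T)} := segre_zero 𝒜 ℬ 𝒯 ψ hT h0R h0S
  have hposT := segre_pos 𝒜 ℬ 𝒯 ψ hT hposR
  obtain ⟨IT⟩ := nonempty_starInjRes 𝒯 𝒯
  have hdim := Groth.Agent.S18647.result k R 𝒜 hposR h0R S ℬ hposS h0S T 𝒯 ψ hψ hdegT r s hr hs
    h1r h1s
  rw [isCohenMacaulayRing_iff 𝒯 hposT h0T (irr 𝒯) (irr_toIdeal 𝒯) IT (r + s - 1) hdim]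
  have := gradedSMul_modToAS 𝒯 𝒯
  have key : ∀ (q : ℕ) (d : ℤ), IT.Hcomp (irr 𝒯) q d = ⊥ ↔
      Module.finrank k (𝒜 d) * Module.finrank (GrLC.deg0 ℬ) (J.Hcomp mS q d) +
        Module.finrank (GrLC.deg0 𝒜) (I.Hcomp mR q d) * Module.finrank k (ℬ d) +
        (Finset.range (q + 2)).sum (fun i => Module.finrank (GrLC.deg0 𝒜) (I.Hcomp mR i d) *
          Module.finrank (GrLC.deg0 ℬ) (J.Hcomp mS (q + 1 - i) d)) = 0 := by
    intro q d
    rw [← Groth.Agent.S18673.result k R 𝒜 hposR h0R S ℬ hposS h0S T 𝒯 ψ hψ hdegT mR hmR I mS hmS J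
      (irr 𝒯) (irr_toIdeal 𝒯) IT hR hS q d]
    exact Hcomp_eq_bot_iff_finrank 𝒯 h0T (irr 𝒯) (irr_toIdeal 𝒯) (toAS 𝒯) (resModTo 𝒯 𝒯 IT) q d
  constructor
  · intro h q hq d
    exact (key q d).1 (h q hq d)
  · intro h q hq d
    exact (key q d).2 (h q hq d)

end Groth.Agent.Lib.Helper20.SegBase
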