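import Mathlib
import Groth.Agent.Lib.Helper20.SegKun4

/-!
# The top cohomology of the kernel complex (no depth hypothesis) (helper20)
-/

set_option autoImplicit false
set_option linter.unusedSectionVars false
set_option linter.unusedVariables false

universe u

open TensorProduct DirectSum

namespace Groth.Agent.Lib.Helper20.SegKun

variable {k : Type u} [Field k]

section single

variable {ι : Type} [DecidableEq ι] (X : ι → Type u) [∀ i, AddCommGroup (X i)]
  [∀ i, Module k (X i)]

/-- a direct sum with a single non-zero summand. -/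
theorem finrank_directSum_single (i₀ : ι) (h : ∀ i, i ≠ i₀ → Subsingleton (X i)) :
    Module.finrank k (⨁ i, X i) = Module.finrank k (X i₀) := by
  have hinj : Function.Injective (DirectSum.lof k ι X i₀) := DirectSum.of_injective i₀
  have hsurj : Function.Surjective (DirectSum.lof k ι X i₀) := by
    intro x
    refine ⟨x i₀, ?_⟩
    apply DFinsupp.ext
    intro i
    by_cases hi : i = i₀
    · subst hi
      exact DirectSum.of_eq_same i (x i)
    · haveI := h i hi
      exact Subsingleton.elim _ _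
  exact (LinearEquiv.ofBijective _ ⟨hinj, hsurj⟩).finrank_eq.symm

end single

section tot

variable (V W : VCx k)

/-- the cohomology of the total complex when only one Künneth summand survives. -/
theorem finrank_tot_H_single (n a₀ b₀ : ℕ) (h : a₀ + b₀ = n)
    (hvan : ∀ a b, a + b = n → a ≠ a₀ → Subsingleton (V.H a) ∨ Subsingleton (W.H b)) :
    Module.finrank k ((Tot V W).H n) = Module.finrank k (V.H a₀) * Module.finrank k (W.H b₀) := by
  obtain ⟨e⟩ := nonempty_kunneth V W n
  rw [e.finrank_eq]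
  have h1 := finrank_directSum_single (k := k) (fun p : Idx n => V.H p.1.1 ⊗[k] W.H p.1.2)
    ⟨(a₀, b₀), h⟩ (by
      rintro ⟨⟨a, b⟩, hab⟩ hne
      have ha : a ≠ a₀ := by
        intro ha
        apply hne
        apply Subtype.ext
        have hab' : a + b = n := hab
        have hb : b = b₀ := by omega
        change (a, b) = (a₀, b₀)
        rw [ha, hb]
      rcases hvan a b hab ha with h' | h'
      · change Subsingleton (V.H a ⊗[k] W.H b)
        infer_instance
      · change Subsingleton (V.H a ⊗[k] W.H b)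
        infer_instance)
  rw [h1]
  exact Module.finrank_tensorProduct

end tot

section top

variable (V W : VCx k) (V' : ∀ n, Submodule k (V.X n)) (hV' : V.Stable V')
  (W' : ∀ n, Submodule k (W.X n)) (hW' : W.Stable W')
  (hV : ∀ n, V.ExactAt (n + 1)) (hW : ∀ n, W.ExactAt (n + 1))

include hV hW in
/-- **the top cohomology of the kernel complex.** -/
theorem finrank_KCx_H_top (r s : ℕ) (hr : 2 ≤ r) (hs : 2 ≤ s)
    (hv : ∀ i, r < i → Subsingleton ((V.sub V' hV').H i))
    (hw : ∀ j, s < j → Subsingleton ((W.sub W' hW').H j)) :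
    Module.finrank k ((KCx V W V' hV' W' hW').H (r + s - 1)) =
      Module.finrank k ((V.sub V' hV').H r) * Module.finrank k ((W.sub W' hW').H s) := by
  obtain ⟨q, hq⟩ : ∃ q, r + s - 1 = q + 2 := ⟨r + s - 3, by omega⟩
  obtain ⟨a₀, ha₀⟩ : ∃ a₀, r = a₀ + 1 := ⟨r - 1, by omega⟩
  obtain ⟨b₀, hb₀⟩ : ∃ b₀, s = b₀ + 1 := ⟨s - 1, by omega⟩
  obtain ⟨a₁, ha₁⟩ : ∃ a₁, a₀ = a₁ + 1 := ⟨a₀ - 1, by omega⟩
  obtain ⟨b₁, hb₁⟩ : ∃ b₁, b₀ = b₁ + 1 := ⟨b₀ - 1, by omega⟩
  rw [hq]
  obtain ⟨e⟩ := nonempty_KCx_H_equiv V W V' hV' W' hW' hV hW q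
  rw [← e.finrank_eq]
  have hVq : ∀ a, r ≤ a → Subsingleton ((V.quot V' hV').H a) := by
    intro a ha
    obtain ⟨a', rfl⟩ : ∃ a', a = a' + 1 := ⟨a - 1, by omega⟩
    obtain ⟨e'⟩ := nonempty_quot_H_succ_equiv V V' hV' hV a'
    haveI := hv (a' + 2) (by omega)
    exact e'.toEquiv.subsingleton
  have hWq : ∀ b, s ≤ b → Subsingleton ((W.quot W' hW').H b) := by
    intro b hb
    obtain ⟨b', rfl⟩ : ∃ b', b = b' + 1 := ⟨b - 1, by omega⟩
    obtain ⟨e'⟩ := nonempty_quot_H_succ_equiv W W' hW' hW b'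
    haveI := hw (b' + 2) (by omega)
    exact e'.toEquiv.subsingleton
  rw [finrank_tot_H_single (V.quot V' hV') (W.quot W' hW') (q + 1) a₀ b₀ (by omega) (by
    intro a b hab ha
    by_cases h1 : r ≤ a
    · exact Or.inl (hVq a h1)
    · exact Or.inr (hWq b (by omega)))]
  obtain ⟨e1⟩ := nonempty_quot_H_succ_equiv V V' hV' hV a₁
  obtain ⟨e2⟩ := nonempty_quot_H_succ_equiv W W' hW' hW b₁
  subst ha₁ hb₁ ha₀ hb₀
  rw [e1.finrank_eq, e2.finrank_eq]

end top

end Groth.Agent.Lib.Helper20.SegKun
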