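import Mathlib
import Groth.Agent.Lib.Helper20.SegKun5

/-!
# The low degree part of the long exact sequence, and the Künneth count under depth one
(helper20)
-/

set_option autoImplicit false
set_option linter.unusedSectionVars false
set_option linter.unusedVariables false

universe u

open TensorProduct DirectSum

namespace Groth.Agent.Lib.Helper20.SegKun

variable {k : Type u} [Field k]

section conn2

variable {Bc Q : VCx k} (g : VHom Bc Q) (hg : ∀ n, Function.Surjective (g.f n))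

include hg in
/-- the connecting map `H^n(Q) → H^{n+1}(ker g)`: it is surjective when the middle complex is exact
at `n + 1`, and its kernel is the image of `H^n(B)`. -/
theorem exists_conn (n : ℕ) (h2 : Bc.ExactAt (n + 1)) :
    ∃ δ : Q.H n →ₗ[k] g.kerCx.H (n + 1), Function.Surjective δ ∧
      LinearMap.ker δ = LinearMap.range (g.mapH n) := by
  have hsec : ∀ m, ∃ σ : Q.X m →ₗ[k] Bc.X m, ∀ q, g.f m (σ q) = q := by
    intro m
    obtain ⟨σ, hσ⟩ := LinearMap.exists_rightInverse_of_surjective (g.f m)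
      (LinearMap.range_eq_top.2 (hg m))
    exact ⟨σ, fun q => LinearMap.congr_fun hσ q⟩
  obtain ⟨σ, hσ'⟩ := hsec n
  have hmem : ∀ q : Q.Z n, g.f (n + 1) (Bc.d n (σ q)) = 0 := by
    intro q
    rw [g.comm, hσ']
    exact q.2
  let φ : ↥(Q.Z n) →ₗ[k] ↥(g.kerCx.Z (n + 1)) :=
    { toFun := fun q => ⟨⟨Bc.d n (σ q), hmem q⟩, by
        rw [VCx.mem_Z]
        apply Subtype.ext
        exact Bc.d_comp_d n (σ q)⟩
      map_add' := fun q q' => by
        apply Subtype.ext
        apply Subtype.ext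
        change Bc.d n (σ ((q + q' : Q.Z n) : Q.X n)) = Bc.d n (σ q) + Bc.d n (σ q')
        rw [Submodule.coe_add, map_add, map_add]
      map_smul' := fun c q => by
        apply Subtype.ext
        apply Subtype.ext
        change Bc.d n (σ ((c • q : Q.Z n) : Q.X n)) = c • Bc.d n (σ q)
        rw [Submodule.coe_smul, map_smul, map_smul] }
  have hφ : ∀ q : Q.Z n, (φ q).1.1 = Bc.d n (σ q) := fun q => rfl
  have hB : ∀ q : Q.Z n, (q : Q.X n) ∈ Q.B n → (φ q).1 ∈ g.kerCx.B (n + 1) := by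
    intro q hq
    cases n with
    | zero =>
      have hq0 : (q : Q.X 0) = 0 := hq
      refine ⟨0, ?_⟩
      apply Subtype.ext
      rw [map_zero, hφ, hq0, map_zero, map_zero]
      rfl
    | succ m =>
      obtain ⟨q', hq'⟩ := hq
      obtain ⟨σm, hσm⟩ := hsec m
      have hk : g.f (m + 1) (σ q - Bc.d m (σm q')) = 0 := by
        rw [map_sub, hσ', g.comm, hσm, hq', sub_self]
      refine ⟨⟨σ q - Bc.d m (σm q'), hk⟩, ?_⟩
      apply Subtype.ext
      change Bc.d (m + 1) (σ q - Bc.d m (σm q')) = Bc.d (m + 1) (σ q)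
      rw [map_sub, Bc.d_comp_d, sub_zero]
  let δ : Q.H n →ₗ[k] g.kerCx.H (n + 1) :=
    Submodule.mapQ _ _ φ (fun q hq => hB q hq)
  have hδ : ∀ q : Q.Z n, δ (Q.cls n q) = g.kerCx.cls (n + 1) (φ q) := fun q => rfl
  refine ⟨δ, ?_, ?_⟩
  · intro y
    obtain ⟨z, rfl⟩ := g.kerCx.cls_surjective (n + 1) y
    have hz : Bc.d (n + 1) z.1.1 = 0 := by
      have := z.2
      rw [VCx.mem_Z] at this
      exact congrArg Subtype.val this
    obtain ⟨b, hb⟩ := h2 _ hz
    have hgb : g.f n b ∈ Q.Z n := by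
      rw [VCx.mem_Z, ← g.comm, hb]
      exact z.1.2
    refine ⟨Q.cls n ⟨g.f n b, hgb⟩, ?_⟩
    rw [hδ, ← sub_eq_zero, ← map_sub, VCx.cls_eq_zero_iff]
    have hk : g.f n (σ (g.f n b) - b) = 0 := by
      rw [map_sub, hσ', sub_self]
    refine ⟨⟨σ (g.f n b) - b, hk⟩, ?_⟩
    apply Subtype.ext
    change Bc.d n (σ (g.f n b) - b) = Bc.d n (σ (g.f n b)) - z.1.1
    rw [map_sub, hb]
  · ext y
    constructor
    · intro hy
      obtain ⟨q, rfl⟩ := Q.cls_surjective n y
      rw [LinearMap.mem_ker, hδ, VCx.cls_eq_zero_iff] at hy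
      obtain ⟨a, ha⟩ := hy
      have ha' : Bc.d n a.1 = Bc.d n (σ q) := by
        have := congrArg Subtype.val ha
        exact this
      have hcoc : σ q - a.1 ∈ Bc.Z n := by
        rw [VCx.mem_Z, map_sub, ha', sub_self]
      refine ⟨Bc.cls n ⟨σ q - a.1, hcoc⟩, ?_⟩
      rw [VHom.mapH_cls]
      congr 1
      apply Subtype.ext
      change g.f n (σ q - a.1) = (q : Q.X n)
      have hga : g.f n a.1 = 0 := a.2
      rw [map_sub, hσ', hga, sub_zero]
    · rintro ⟨x, rfl⟩
      obtain ⟨b, rfl⟩ := Bc.cls_surjective n x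
      rw [LinearMap.mem_ker, VHom.mapH_cls, hδ, VCx.cls_eq_zero_iff]
      have hk : g.f n (σ (g.f n b.1) - b.1) = 0 := by
        rw [map_sub, hσ', sub_self]
      refine ⟨⟨σ (g.f n b.1) - b.1, hk⟩, ?_⟩
      apply Subtype.ext
      have hb : Bc.d n b.1 = 0 := b.2
      change Bc.d n (σ (g.f n b.1) - b.1) = Bc.d n (σ (g.f n b.1))
      rw [map_sub, hb, sub_zero]

include hg in
/-- the dimension count of the low degree exact sequence. -/
theorem finrank_kerCx_H_succ (n : ℕ) (h2 : Bc.ExactAt (n + 1)) [Module.Finite k (Q.H n)] :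
    Module.finrank k (g.kerCx.H (n + 1)) + Module.finrank k (LinearMap.range (g.mapH n)) =
      Module.finrank k (Q.H n) := by
  obtain ⟨δ, hsurj, hker⟩ := exists_conn g hg n h2
  have h1 := LinearMap.finrank_range_add_finrank_ker δ
  rw [LinearMap.range_eq_top.2 hsurj, finrank_top, hker] at h1
  exact h1

/-- `H^0(B) → H^0(Q)` is injective when `H^0` of the kernel vanishes. -/
theorem mapH_zero_injective (h0 : g.kerCx.ExactAt 0) : Function.Injective (g.mapH 0) := by
  rw [← LinearMap.ker_eq_bot, LinearMap.ker_eq_bot']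
  intro y hy
  obtain ⟨z, rfl⟩ := Bc.cls_surjective 0 y
  rw [VHom.mapH_cls, VCx.cls_eq_zero_iff] at hy
  have hy0 : g.f 0 (z : Bc.X 0) = 0 := hy
  have hz : Bc.d 0 (z : Bc.X 0) = 0 := z.2
  have := h0 ⟨(z : Bc.X 0), hy0⟩ (Subtype.ext hz)
  have hz0 : (z : Bc.X 0) = 0 :=
    congrArg Subtype.val (show (⟨(z : Bc.X 0), hy0⟩ : g.kerCx.X 0) = 0 from this)
  rw [VCx.cls_eq_zero_iff, hz0]
  exact Submodule.zero_mem _

/-- `H^0` of the kernel vanishes when `H^0(B) → H^0(Q)` is injective. -/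
theorem kerCx_exactAt_zero_of_injective (h : Function.Injective (g.mapH 0)) :
    g.kerCx.ExactAt 0 := by
  intro a ha
  have ha' : Bc.d 0 a.1 = 0 := congrArg Subtype.val ha
  have hcls : g.mapH 0 (Bc.cls 0 ⟨a.1, ha'⟩) = 0 := by
    rw [VHom.mapH_cls, VCx.cls_eq_zero_iff]
    change g.f 0 a.1 ∈ Q.B 0
    have : g.f 0 a.1 = 0 := a.2
    rw [this]
    exact Submodule.zero_mem _
  have h0 := h (hcls.trans (map_zero _).symm)
  rw [VCx.cls_eq_zero_iff] at h0
  have h00 : a.1 = 0 := h0
  change a = 0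
  exact Subtype.ext h00

end conn2

section h0inj

variable {V V' W W' : VCx k} (f : VHom V V') (g : VHom W W')

theorem totHom_mapH_zero_injective (hf : Function.Injective (f.mapH 0))
    (hg : Function.Injective (g.mapH 0)) : Function.Injective ((totHom f g).mapH 0) := by
  obtain ⟨r, hr⟩ := exists_HRx V
  obtain ⟨s, hs⟩ := exists_HRx W
  obtain ⟨r', hr'⟩ := exists_HRx V'
  obtain ⟨s', hs'⟩ := exists_HRx W'
  let E := (HRx.tot r s).equivH 0
  let E' := (HRx.tot r' s').equivH 0
  let L : HTot (k := k) V.H W.H 0 →ₗ[k] HTot (k := k) V'.H W'.H 0 :=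
    DirectSum.lmap (fun p : Idx 0 => TensorProduct.map (f.mapH p.1.1) (g.mapH p.1.2))
  have hcomp : ∀ p : Idx 0,
      Function.Injective (TensorProduct.map (f.mapH p.1.1) (g.mapH p.1.2)) := by
    rintro ⟨⟨a, b⟩, hab⟩
    obtain ⟨rfl, rfl⟩ : a = 0 ∧ b = 0 := by
      change a + b = 0 at hab
      omega
    exact TensorProduct.map_injective_of_flat_flat _ _ hf hg
  have hL : Function.Injective L := (DirectSum.lmap_injective _).2 hcomp
  have hkey : ∀ w : HTot (k := k) V.H W.H 0,
      totπ r' s' 0 (totMap f.f g.f 0 (totι r s 0 w)) = L w := by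
    intro w
    have : totπ r' s' 0 ∘ₗ totMap f.f g.f 0 ∘ₗ totι r s 0 = L := by
      apply htot_ext
      intro a b hab u v
      rw [LinearMap.comp_apply, LinearMap.comp_apply, totι_lof, totMap_inj_tmul, totπ_inj,
        π_map_ι f r hr r' hr', π_map_ι g s hs s' hs']
      change _ = DirectSum.lmap _ _
      rw [DirectSum.lmap_lof, TensorProduct.map_tmul]
    exact LinearMap.congr_fun this w
  have hcomm : ∀ y, E' ((totHom f g).mapH 0 y) = L (E y) := by
    intro y
    obtain ⟨z, rfl⟩ := (Tot V W).cls_surjective 0 y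
    have hz : totD V W 0 z.1 = 0 := z.2
    have h0 := tot_h0 r s z.1
    rw [hz, map_zero, sub_eq_zero] at h0
    rw [VHom.mapH_cls]
    change totπ r' s' 0 (totMap f.f g.f 0 z.1) = L (totπ r s 0 z.1)
    rw [← hkey, ← h0]
  have : ((totHom f g).mapH 0 : (Tot V W).H 0 → (Tot V' W').H 0) = E'.symm ∘ L ∘ E := by
    funext y
    apply E'.injective
    rw [hcomm]
    simp
  rw [this]
  exact E'.symm.injective.comp (hL.comp E.injective)

end h0inj

end Groth.Agent.Lib.Helper20.SegKun
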