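import Mathlib
import Groth.Agent.Lib.Helper20.SegKun6

/-!
# The abstract Künneth count under depth one (helper20)
-/

set_option autoImplicit false
set_option linter.unusedSectionVars false
set_option linter.unusedVariables false
set_option linter.style.haveILetI false

universe u

open TensorProduct DirectSum

namespace Groth.Agent.Lib.Helper20.SegKun

variable {k : Type u} [Field k]

section numeric2

/-- the re-summation used in the Künneth formula, depth one version. -/
lemma sum_rearrange' (v' w' : ℕ → ℕ) (m n : ℕ) (hw0 : w' 0 = 0) (hv0 : v' 0 = 0)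
    (vb wb : ℕ → ℕ) (hvb0 : vb 0 = m + v' 1) (hvbs : ∀ a, vb (a + 1) = v' (a + 2))
    (hwb0 : wb 0 = n + w' 1) (hwbs : ∀ a, wb (a + 1) = w' (a + 2)) (q : ℕ) :
    ∑ a ∈ Finset.range (q + 2), vb a * wb (q + 1 - a) =
      m * w' (q + 2) + v' (q + 2) * n +
        ∑ i ∈ Finset.range (q + 2 + 2), v' i * w' (q + 2 + 1 - i) := by
  have hL : ∑ a ∈ Finset.range (q + 2), vb a * wb (q + 1 - a) =
      (m + v' 1) * w' (q + 2) + v' (q + 2) * (n + w' 1) +
        ∑ a ∈ Finset.range q, v' (a + 2) * w' (q - a + 1) := by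
    rw [Finset.sum_range_succ', Finset.sum_range_succ]
    simp only [Nat.sub_zero, hvb0, hvbs, hwbs, Nat.add_sub_add_right, Nat.sub_self, hwb0]
    have : ∑ x ∈ Finset.range q, v' (x + 2) * wb (q - x) =
        ∑ a ∈ Finset.range q, v' (a + 2) * w' (q - a + 1) := by
      apply Finset.sum_congr rfl
      intro a ha
      rw [Finset.mem_range] at ha
      obtain ⟨c, hc⟩ : ∃ c, q - a = c + 1 := ⟨q - a - 1, by omega⟩
      rw [hc, hwbs]
    rw [this]
    ring
  have hR : ∑ i ∈ Finset.range (q + 2 + 2), v' i * w' (q + 2 + 1 - i) =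
      v' 1 * w' (q + 2) + v' (q + 2) * w' 1 +
        ∑ a ∈ Finset.range q, v' (a + 2) * w' (q - a + 1) := by
    rw [Finset.sum_range_succ', Finset.sum_range_succ', Finset.sum_range_succ,
      Finset.sum_range_succ]
    simp only [hv0, zero_mul, add_zero]
    have h1 : q + 2 + 1 - (q + 1 + 1 + 1) = 0 := by omega
    have h2 : q + 2 + 1 - (q + 1 + 1) = 1 := by omega
    have h4 : q + 2 + 1 - (0 + 1) = q + 2 := by omega
    rw [h1, h2, h4, hw0, mul_zero, add_zero]
    have : ∑ x ∈ Finset.range q, v' (x + 1 + 1) * w' (q + 2 + 1 - (x + 1 + 1)) =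
        ∑ a ∈ Finset.range q, v' (a + 2) * w' (q - a + 1) := by
      apply Finset.sum_congr rfl
      intro a ha
      rw [Finset.mem_range] at ha
      have h3 : q + 2 + 1 - (a + 1 + 1) = q - a + 1 := by omega
      rw [h3]
    rw [this]
    ring
  rw [hL, hR]
  ring

end numeric2

section final2

variable (V W : VCx k) (V' : ∀ n, Submodule k (V.X n)) (hV' : V.Stable V')
  (W' : ∀ n, Submodule k (W.X n)) (hW' : W.Stable W')
  (hV : ∀ n, V.ExactAt (n + 1)) (hW : ∀ n, W.ExactAt (n + 1))
  (hV0 : (V.sub V' hV').ExactAt 0) (hW0 : (W.sub W' hW').ExactAt 0)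
  [Module.Finite k (V.H 0)] [Module.Finite k (W.H 0)]
  [∀ a, Module.Finite k ((V.sub V' hV').H a)] [∀ a, Module.Finite k ((W.sub W' hW').H a)]

include hV0 in
lemma quotHom_mapH_zero_injective : Function.Injective ((V.quotHom V' hV').mapH 0) :=
  mapH_zero_injective _
    (V.sub_exactAt_congr V' _ (quotHom_kerFam_eq V V' hV').symm hV' _ 0 hV0)

include hV in
/-- `H¹` of the kernel of `V → V/V'` is `H¹(V')`. -/
lemma finrank_quotHom_kerCx_H (a : ℕ) :
    Module.finrank k ((V.quotHom V' hV').kerCx.H a) = Module.finrank k ((V.sub V' hV').H a) := by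
  obtain ⟨e'⟩ := V.nonempty_sub_H_equiv _ V' (quotHom_kerFam_eq V V' hV')
    (V.quotHom V' hV').kerFam_stable hV' a
  exact e'.finrank_eq

include hV in
lemma finite_quot_H_zero : Module.Finite k ((V.quot V' hV').H 0) := by
  obtain ⟨δ, hsurj, hker⟩ := exists_conn (V.quotHom V' hV') (V.quotHom_surjective V' hV') 0 (hV 0)
  obtain ⟨e'⟩ := V.nonempty_sub_H_equiv _ V' (quotHom_kerFam_eq V V' hV')
    (V.quotHom V' hV').kerFam_stable hV' 1
  haveI : Module.Finite k ((V.quotHom V' hV').kerCx.H 1) := Module.Finite.equiv e'.symm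
  haveI : Module.Finite k ↥(LinearMap.ker δ) := by
    rw [hker]
    infer_instance
  haveI : Module.Finite k ((V.quot V' hV').H 0 ⧸ LinearMap.ker δ) :=
    Module.Finite.equiv (δ.quotKerEquivOfSurjective hsurj).symm
  exact Module.Finite.of_submodule_quotient (LinearMap.ker δ)

include hV in
lemma finite_quot_H' (a : ℕ) : Module.Finite k ((V.quot V' hV').H a) := by
  cases a with
  | zero => exact finite_quot_H_zero V V' hV' hV
  | succ a =>
    obtain ⟨e⟩ := nonempty_quot_H_succ_equiv V V' hV' hV a
    exact Module.Finite.equiv e.symm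

include hV hV0 in
/-- `dim H⁰(V/V') = dim H⁰(V) + dim H¹(V')` under depth one. -/
lemma finrank_quot_H_zero :
    Module.finrank k ((V.quot V' hV').H 0) =
      Module.finrank k (V.H 0) + Module.finrank k ((V.sub V' hV').H 1) := by
  haveI := finite_quot_H_zero V V' hV' hV
  have h1 := finrank_kerCx_H_succ (V.quotHom V' hV') (V.quotHom_surjective V' hV') 0 (hV 0)
  rw [finrank_quotHom_kerCx_H V V' hV' hV 1,
    LinearMap.finrank_range_of_inj (quotHom_mapH_zero_injective V V' hV' hV0)] at h1
  omega

include hV hW hV0 hW0 in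
/-- the abstract Künneth count, depth one. -/
theorem finrank_KCx_H' (q : ℕ) :
    Module.finrank k ((KCx V W V' hV' W' hW').H q) =
      Module.finrank k (V.H 0) * Module.finrank k ((W.sub W' hW').H q) +
      Module.finrank k ((V.sub V' hV').H q) * Module.finrank k (W.H 0) +
      ∑ i ∈ Finset.range (q + 2), Module.finrank k ((V.sub V' hV').H i) *
        Module.finrank k ((W.sub W' hW').H (q + 1 - i)) := by
  have v0 := VCx.finrank_H_eq_zero_of_exactAt _ hV0
  have w0 := VCx.finrank_H_eq_zero_of_exactAt _ hW0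
  have hinj : Function.Injective ((quotTotHom V W V' hV' W' hW').mapH 0) :=
    totHom_mapH_zero_injective _ _ (quotHom_mapH_zero_injective V V' hV' hV0)
      (quotHom_mapH_zero_injective W W' hW' hW0)
  haveI : ∀ a, Module.Finite k ((V.quot V' hV').H a) := finite_quot_H' V V' hV' hV
  haveI : ∀ a, Module.Finite k ((W.quot W' hW').H a) := finite_quot_H' W W' hW' hW
  match q with
  | 0 =>
    have hK := kerCx_exactAt_zero_of_injective (quotTotHom V W V' hV' W' hW') hinj
    rw [VCx.finrank_H_eq_zero_of_exactAt _ hK, v0, w0]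
    simp [Finset.sum_range_succ, v0, w0]
  | 1 =>
    haveI : Module.Finite k ((Tot (V.quot V' hV') (W.quot W' hW')).H 0) := by
      obtain ⟨e⟩ := nonempty_kunneth (V.quot V' hV') (W.quot W' hW') 0
      exact Module.Finite.equiv e.symm
    have h1 := finrank_kerCx_H_succ (quotTotHom V W V' hV' W' hW')
      (quotTotHom_surjective V W V' hV' W' hW') 0 (tot_exactAt_succ V W hV hW 0)
    rw [LinearMap.finrank_range_of_inj hinj,
      finrank_tot_H_single V W 0 0 0 rfl (by intro a b hab ha; omega),
      finrank_tot_H_single (V.quot V' hV') (W.quot W' hW') 0 0 0 rfl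
        (by intro a b hab ha; omega),
      finrank_quot_H_zero V V' hV' hV hV0, finrank_quot_H_zero W W' hW' hW hW0] at h1
    simp only [Finset.sum_range_succ, Finset.sum_range_zero, v0, w0, zero_mul, mul_zero,
      zero_add, add_zero]
    have h2 : 1 + 1 - 1 = 1 := rfl
    rw [h2]
    have h3 : ∀ m n x y a : ℕ, a + m * n = (m + x) * (n + y) → a = m * y + x * n + x * y := by
      intro m n x y a h
      have : (m + x) * (n + y) = m * n + (m * y + x * n + x * y) := by ring
      omega
    exact h3 _ _ _ _ _ h1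
  | q + 2 =>
    obtain ⟨e⟩ := nonempty_KCx_H_equiv V W V' hV' W' hW' hV hW q
    rw [← e.finrank_eq]
    rw [finrank_tot_H]
    apply sum_rearrange' (fun i => Module.finrank k ((V.sub V' hV').H i))
      (fun i => Module.finrank k ((W.sub W' hW').H i)) _ _ w0 v0
      (fun a => Module.finrank k ((V.quot V' hV').H a))
      (fun a => Module.finrank k ((W.quot W' hW').H a))
    · exact finrank_quot_H_zero V V' hV' hV hV0
    · intro a
      obtain ⟨e'⟩ := nonempty_quot_H_succ_equiv V V' hV' hV a
      exact e'.finrank_eq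
    · exact finrank_quot_H_zero W W' hW' hW hW0
    · intro a
      obtain ⟨e'⟩ := nonempty_quot_H_succ_equiv W W' hW' hW a
      exact e'.finrank_eq

end final2

end Groth.Agent.Lib.Helper20.SegKun
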