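import Mathlib
import Groth.Agent.Lib.Helper20.SegMain
import Groth.Agent.Lib.Helper20.SegKun5

/-!
# The graded local cohomology of a Segre product as the cohomology of the kernel complex; the top
local cohomology (helper20)
-/

set_option autoImplicit false
set_option linter.unusedSectionVars false
set_option linter.unusedVariables false
set_option linter.style.haveILetI false

universe u

open TensorProduct DirectSum Groth.Agent.Lib.Helper20.SegKun Groth.Agent.Lib.Helper20.SegTP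
  Groth.Agent.Lib.Helper20.GrConv GrLC Groth.Agent.Lib.Helper4.LC
  Groth.Agent.Lib.Helper20.SegAcyc Groth.Agent.Lib.Helper20.GrLCBasic

namespace Groth.Agent.Lib.Helper20.SegGr

attribute [local instance] actModule smulCommClass_base isScalarTower_base

open GrSeg

/-- the pieces of the graded local cohomology of a Segre product are computed by the kernel
complex. -/
theorem finrank_Hcomp_eq_Kd (k : Type u) [Field k] (R : Type u) [CommRing R] [Nontrivial R]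
    [Algebra k R]
    (𝒜 : ℤ → Submodule k R) [GradedAlgebra 𝒜] (hposR : ∀ n : ℤ, n < 0 → 𝒜 n = ⊥)
    (h0R : 𝒜 0 = Submodule.span k {(1 : R)}) [Algebra.FiniteType k R]
    (S : Type u) [CommRing S] [Nontrivial S] [Algebra k S] (ℬ : ℤ → Submodule k S)
    [GradedAlgebra ℬ] (hposS : ∀ n : ℤ, n < 0 → ℬ n = ⊥)
    (h0S : ℬ 0 = Submodule.span k {(1 : S)}) [Algebra.FiniteType k S]
    (T : Type u) [CommRing T] [Algebra k T] (𝒯 : ℤ → Submodule k T) [GradedAlgebra 𝒯]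
    (ψ : T →ₐ[k] TensorProduct k R S) (hT : GrSeg.IsSegreRing 𝒜 ℬ 𝒯 ψ)
    (mR : HomogeneousIdeal 𝒜)
    (hmR : mR.toIdeal = Ideal.span (⋃ n ∈ Set.Ioi (0 : ℤ), (𝒜 n : Set R)))
    (mS : HomogeneousIdeal ℬ)
    (hmS : mS.toIdeal = Ideal.span (⋃ n ∈ Set.Ioi (0 : ℤ), (ℬ n : Set S)))
    (mT : HomogeneousIdeal 𝒯)
    (hmT : mT.toIdeal = Ideal.span (⋃ n ∈ Set.Ioi (0 : ℤ), (𝒯 n : Set T)))
    (M : Type u) [AddCommGroup M] [Module R M] [Module k M] [IsScalarTower k R M]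
    (ℳ : ℤ → AddSubgroup M) [DirectSum.Decomposition ℳ] [SetLike.GradedSMul 𝒜 ℳ]
    (EM : GrLC.StarInjRes 𝒜 ℳ)
    (N : Type u) [AddCommGroup N] [Module S N] [Module k N] [IsScalarTower k S N]
    (𝒩 : ℤ → AddSubgroup N) [DirectSum.Decomposition 𝒩] [SetLike.GradedSMul ℬ 𝒩]
    (EN : GrLC.StarInjRes ℬ 𝒩)
    (P : Type u) [AddCommGroup P] [Module T P] [Module k P] [IsScalarTower k T P]
    (𝒬 : ℤ → AddSubgroup P) [DirectSum.Decomposition 𝒬] [SetLike.GradedSMul 𝒯 𝒬]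
    (φ : P →ₗ[k] TensorProduct k M N) (hP : GrSeg.IsSegreMod ψ ℳ 𝒩 𝒬 φ)
    (EP : GrLC.StarInjRes 𝒯 𝒬) (q : ℕ) (d : ℤ) :
    Module.finrank (GrLC.deg0 𝒯) (EP.Hcomp mT q d) =
      Module.finrank k ((Kd (gcxOf 𝒜 ℳ EM) (gcxOf ℬ 𝒩 EN) mR.toIdeal mS.toIdeal d).H q) := by
  classical
  haveI : IsNoetherianRing R := Algebra.FiniteType.isNoetherianRing k R
  haveI : IsNoetherianRing S := Algebra.FiniteType.isNoetherianRing k S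
  haveI hft : Algebra.FiniteType k (R ⊗[k] S) :=
    Algebra.FiniteType.trans (S := R) inferInstance inferInstance
  haveI : IsNoetherianRing (R ⊗[k] S) := Algebra.FiniteType.isNoetherianRing k _
  haveI : IsNoetherianRing T :=
    Groth.Agent.S18646.result k R 𝒜 hposR h0R S ℬ hposS h0S T 𝒯 ψ hT.1 hT.2
  haveI : Nontrivial T := nontrivial_segre 𝒜 ℬ 𝒯 ψ hT
  have h0T : 𝒯 0 = Submodule.span k {(1 : T)} := segre_zero 𝒜 ℬ 𝒯 ψ hT h0R h0S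
  have hψ := SegRad.ψ_mem_segrePiece 𝒜 ℬ 𝒯 ψ hT
  have hPD := pdata_of_isSegreMod 𝒜 ℬ ψ ℳ EM 𝒩 EN 𝒬 φ hP
  have hGex : ∀ n, (gcxOf 𝒜 ℳ EM).toVCx.ExactAt (n + 1) := gcxOf_exact 𝒜 ℳ EM
  have hHex : ∀ n, (gcxOf ℬ 𝒩 EN).toVCx.ExactAt (n + 1) := gcxOf_exact ℬ 𝒩 EN
  have hex : ∀ n, (Tot (gcxOf 𝒜 ℳ EM).toVCx (gcxOf ℬ 𝒩 EN).toVCx).ExactAt (n + 1) :=
    tot_exactAt_succ _ _ hGex hHex
  have hgam : ∀ (N' : Type u) [AddCommGroup N'] [Module (R ⊗[k] S) N'],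
      GrLC.gam ((idealTo 𝒯 mT).toIdeal.map ψ) N' =
        GrLC.gam (mR.toIdeal.map (algebraMap R (R ⊗[k] S)) ⊓
          mS.toIdeal.map (Algebra.TensorProduct.includeRight : S →ₐ[k] R ⊗[k] S)) N' :=
    fun N' _ _ => SegRad.gam_eq 𝒜 ℬ 𝒯 ψ hT mR.toIdeal hmR mS.toIdeal hmS mT.toIdeal hmT N'
  obtain ⟨j, hj⟩ := exists_addEquiv_Hcomp 𝒯 ψ hψ (gaugOf 𝒜 ℳ EM) (gaugOf ℬ 𝒩 EN) (toAS 𝒬) φ hPD
    hex mR.toIdeal mS.toIdeal (idealTo 𝒯 mT) hgam (gcxOf_acyclic 𝒜 ℳ EM mR)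
    (gcxOf_acyclic ℬ 𝒩 EN mS) (resTo 𝒯 𝒬 EP) d q
  let e : ↥((resTo 𝒯 𝒬 EP).Hcomp (idealTo 𝒯 mT) q d) ≃+ ↥(EP.Hcomp mT q d) :=
    { toFun := fun x => ⟨x.1, x.2⟩
      invFun := fun x => ⟨x.1, x.2⟩
      left_inv := fun _ => rfl
      right_inv := fun _ => rfl
      map_add' := fun _ _ => rfl }
  have := rank_eq_of_addEquiv_sub (deg0 𝒯) (mem_deg0_iff 𝒯 h0T) (EP.Hcomp mT q d) (j.trans e)
    (fun c v => hj c v)
  unfold Module.finrank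
  rw [this]

/-- **the top graded local cohomology of a Segre product**: no depth hypothesis. -/
theorem top_kunneth (k : Type u) [Field k] (R : Type u) [CommRing R] [Nontrivial R]
    [Algebra k R]
    (𝒜 : ℤ → Submodule k R) [GradedAlgebra 𝒜] (hposR : ∀ n : ℤ, n < 0 → 𝒜 n = ⊥)
    (h0R : 𝒜 0 = Submodule.span k {(1 : R)}) [Algebra.FiniteType k R]
    (S : Type u) [CommRing S] [Nontrivial S] [Algebra k S] (ℬ : ℤ → Submodule k S)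
    [GradedAlgebra ℬ] (hposS : ∀ n : ℤ, n < 0 → ℬ n = ⊥)
    (h0S : ℬ 0 = Submodule.span k {(1 : S)}) [Algebra.FiniteType k S]
    (T : Type u) [CommRing T] [Algebra k T] (𝒯 : ℤ → Submodule k T) [GradedAlgebra 𝒯]
    (ψ : T →ₐ[k] TensorProduct k R S) (hT : GrSeg.IsSegreRing 𝒜 ℬ 𝒯 ψ)
    (mR : HomogeneousIdeal 𝒜)
    (hmR : mR.toIdeal = Ideal.span (⋃ n ∈ Set.Ioi (0 : ℤ), (𝒜 n : Set R)))
    (mS : HomogeneousIdeal ℬ)
    (hmS : mS.toIdeal = Ideal.span (⋃ n ∈ Set.Ioi (0 : ℤ), (ℬ n : Set S)))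
    (mT : HomogeneousIdeal 𝒯)
    (hmT : mT.toIdeal = Ideal.span (⋃ n ∈ Set.Ioi (0 : ℤ), (𝒯 n : Set T)))
    (M : Type u) [AddCommGroup M] [Module R M] [Module k M] [IsScalarTower k R M]
    (ℳ : ℤ → AddSubgroup M) [DirectSum.Decomposition ℳ] [SetLike.GradedSMul 𝒜 ℳ]
    (EM : GrLC.StarInjRes 𝒜 ℳ)
    (N : Type u) [AddCommGroup N] [Module S N] [Module k N] [IsScalarTower k S N]
    (𝒩 : ℤ → AddSubgroup N) [DirectSum.Decomposition 𝒩] [SetLike.GradedSMul ℬ 𝒩]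
    (EN : GrLC.StarInjRes ℬ 𝒩)
    (P : Type u) [AddCommGroup P] [Module T P] [Module k P] [IsScalarTower k T P]
    (𝒬 : ℤ → AddSubgroup P) [DirectSum.Decomposition 𝒬] [SetLike.GradedSMul 𝒯 𝒬]
    (φ : P →ₗ[k] TensorProduct k M N) (hP : GrSeg.IsSegreMod ψ ℳ 𝒩 𝒬 φ)
    (EP : GrLC.StarInjRes 𝒯 𝒬) (r s : ℕ) (hr : 2 ≤ r) (hs : 2 ≤ s)
    (hvM : ∀ i, r < i → ∀ d, EM.Hcomp mR i d = ⊥)
    (hvN : ∀ j, s < j → ∀ d, EN.Hcomp mS j d = ⊥) (d : ℤ) :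
    Module.finrank (GrLC.deg0 𝒯) (EP.Hcomp mT (r + s - 1) d) =
      Module.finrank (GrLC.deg0 𝒜) (EM.Hcomp mR r d) *
        Module.finrank (GrLC.deg0 ℬ) (EN.Hcomp mS s d) := by
  rw [finrank_Hcomp_eq_Kd k R 𝒜 hposR h0R S ℬ hposS h0S T 𝒯 ψ hT mR hmR mS hmS mT hmT M ℳ EM N 𝒩
    EN P 𝒬 φ hP EP (r + s - 1) d]
  have hGex : ∀ n, (gcxOf 𝒜 ℳ EM).toVCx.ExactAt (n + 1) := gcxOf_exact 𝒜 ℳ EM
  have hHex : ∀ n, (gcxOf ℬ 𝒩 EN).toVCx.ExactAt (n + 1) := gcxOf_exact ℬ 𝒩 EN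
  have hV := Vd_exact (gcxOf 𝒜 ℳ EM) d hGex
  have hW := Vd_exact (gcxOf ℬ 𝒩 EN) d hHex
  have key := finrank_KCx_H_top (Vd (gcxOf 𝒜 ℳ EM) d) (Vd (gcxOf ℬ 𝒩 EN) d)
    (Vd' (gcxOf 𝒜 ℳ EM) d mR.toIdeal) (Vd'_stable (gcxOf 𝒜 ℳ EM) d mR.toIdeal)
    (Vd' (gcxOf ℬ 𝒩 EN) d mS.toIdeal) (Vd'_stable (gcxOf ℬ 𝒩 EN) d mS.toIdeal)
    hV hW r s hr hs
    (fun i hi => (VCx.exactAt_iff_subsingleton _ i).1 (Sd_exact 𝒜 ℳ EM mR d i (hvM i hi d)))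
    (fun j hj => (VCx.exactAt_iff_subsingleton _ j).1 (Sd_exact ℬ 𝒩 EN mS d j (hvN j hj d)))
  rw [key]
  have hs1 := finrank_Sd_H 𝒜 ℳ EM mR d h0R r
  have hs2 := finrank_Sd_H ℬ 𝒩 EN mS d h0S s
  rw [← hs1, ← hs2]

end Groth.Agent.Lib.Helper20.SegGr
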