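import Mathlib
import Groth.Agent.Lib.Helper20.SegMain2
import Groth.Agent.Lib.Helper20.SegKun7
import Groth.Agent.Lib.Helper20.SegConv

/-!
# The Künneth formula for Segre products of modules of depth at least one (helper20)
-/

set_option autoImplicit false
set_option linter.unusedSectionVars false
set_option linter.unusedVariables false
set_option linter.style.haveILetI false

universe u

open TensorProduct DirectSum Groth.Agent.Lib.Helper20.SegKun Groth.Agent.Lib.Helper20.SegTP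
  Groth.Agent.Lib.Helper20.GrConv GrLC Groth.Agent.Lib.Helper4.LC
  Groth.Agent.Lib.Helper20.SegAcyc Groth.Agent.Lib.Helper20.GrLCBasic

namespace Groth.Agent.Lib.Helper20.SegGr

attribute [local instance] actModule smulCommClass_base isScalarTower_base

open GrSeg

/-- **the Künneth formula for Segre products**, assuming only that `H^0` of both modules
vanishes. -/
theorem kunneth' (k : Type u) [Field k] (R : Type u) [CommRing R] [Nontrivial R] [Algebra k R]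
    (𝒜 : ℤ → Submodule k R) [GradedAlgebra 𝒜] (hposR : ∀ n : ℤ, n < 0 → 𝒜 n = ⊥)
    (h0R : 𝒜 0 = Submodule.span k {(1 : R)}) [Algebra.FiniteType k R]
    (S : Type u) [CommRing S] [Nontrivial S] [Algebra k S] (ℬ : ℤ → Submodule k S)
    [GradedAlgebra ℬ] (hposS : ∀ n : ℤ, n < 0 → ℬ n = ⊥)
    (h0S : ℬ 0 = Submodule.span k {(1 : S)}) [Algebra.FiniteType k S]
    (T : Type u) [CommRing T] [Algebra k T] (𝒯 : ℤ → Submodule k T) [GradedAlgebra 𝒯]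
    (ψ : T →ₐ[k] TensorProduct k R S) (hT : GrSeg.IsSegreRing 𝒜 ℬ 𝒯 ψ)
    (mR : HomogeneousIdeal 𝒜)
    (hmR : mR.toIdeal = Ideal.span (⋃ n ∈ Set.Ioi (0 : ℤ), (𝒜 n : Set R)))
    (mS : HomogeneousIdeal ℬ)
    (hmS : mS.toIdeal = Ideal.span (⋃ n ∈ Set.Ioi (0 : ℤ), (ℬ n : Set S)))
    (mT : HomogeneousIdeal 𝒯)
    (hmT : mT.toIdeal = Ideal.span (⋃ n ∈ Set.Ioi (0 : ℤ), (𝒯 n : Set T)))
    (M : Type u) [AddCommGroup M] [Module R M] [Module k M] [IsScalarTower k R M]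
    (ℳ : ℤ → AddSubgroup M) [DirectSum.Decomposition ℳ] [SetLike.GradedSMul 𝒜 ℳ]
    [Module.Finite R M] (EM : GrLC.StarInjRes 𝒜 ℳ)
    (N : Type u) [AddCommGroup N] [Module S N] [Module k N] [IsScalarTower k S N]
    (𝒩 : ℤ → AddSubgroup N) [DirectSum.Decomposition 𝒩] [SetLike.GradedSMul ℬ 𝒩]
    [Module.Finite S N] (EN : GrLC.StarInjRes ℬ 𝒩)
    (P : Type u) [AddCommGroup P] [Module T P] [Module k P] [IsScalarTower k T P]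
    (𝒬 : ℤ → AddSubgroup P) [DirectSum.Decomposition 𝒬] [SetLike.GradedSMul 𝒯 𝒬]
    (φ : P →ₗ[k] TensorProduct k M N) (hP : GrSeg.IsSegreMod ψ ℳ 𝒩 𝒬 φ)
    (EP : GrLC.StarInjRes 𝒯 𝒬)
    (hM : ∀ d : ℤ, EM.Hcomp mR 0 d = ⊥)
    (hN : ∀ d : ℤ, EN.Hcomp mS 0 d = ⊥) (q : ℕ) (d : ℤ) :
    Module.finrank (GrLC.deg0 𝒯) (EP.Hcomp mT q d) =
      Module.finrank (GrLC.deg0 𝒜) (GrLC.comp 𝒜 ℳ d) *
          Module.finrank (GrLC.deg0 ℬ) (EN.Hcomp mS q d) +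
        Module.finrank (GrLC.deg0 𝒜) (EM.Hcomp mR q d) *
          Module.finrank (GrLC.deg0 ℬ) (GrLC.comp ℬ 𝒩 d) +
        (Finset.range (q + 2)).sum (fun i => Module.finrank (GrLC.deg0 𝒜) (EM.Hcomp mR i d) *
          Module.finrank (GrLC.deg0 ℬ) (EN.Hcomp mS (q + 1 - i) d)) := by
  classical
  rw [finrank_Hcomp_eq_Kd k R 𝒜 hposR h0R S ℬ hposS h0S T 𝒯 ψ hT mR hmR mS hmS mT hmT M ℳ EM N 𝒩
    EN P 𝒬 φ hP EP q d]
  haveI : IsNoetherianRing R := Algebra.FiniteType.isNoetherianRing k R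
  haveI : IsNoetherianRing S := Algebra.FiniteType.isNoetherianRing k S
  have hGex : ∀ n, (gcxOf 𝒜 ℳ EM).toVCx.ExactAt (n + 1) := gcxOf_exact 𝒜 ℳ EM
  have hHex : ∀ n, (gcxOf ℬ 𝒩 EN).toVCx.ExactAt (n + 1) := gcxOf_exact ℬ 𝒩 EN
  have hV := Vd_exact (gcxOf 𝒜 ℳ EM) d hGex
  have hW := Vd_exact (gcxOf ℬ 𝒩 EN) d hHex
  have hV0 := Sd_exact 𝒜 ℳ EM mR d 0 (hM d)
  have hW0 := Sd_exact ℬ 𝒩 EN mS d 0 (hN d)
  haveI := finite_Vd_H0 𝒜 ℳ EM d h0R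
  haveI := finite_Vd_H0 ℬ 𝒩 EN d h0S
  haveI : ∀ a, Module.Finite k ((Sd 𝒜 ℳ EM mR d).H a) := finite_Sd_H 𝒜 ℳ EM mR d h0R hmR
  haveI : ∀ a, Module.Finite k ((Sd ℬ 𝒩 EN mS d).H a) := finite_Sd_H ℬ 𝒩 EN mS d h0S hmS
  have key := finrank_KCx_H' (Vd (gcxOf 𝒜 ℳ EM) d) (Vd (gcxOf ℬ 𝒩 EN) d)
    (Vd' (gcxOf 𝒜 ℳ EM) d mR.toIdeal) (Vd'_stable (gcxOf 𝒜 ℳ EM) d mR.toIdeal)
    (Vd' (gcxOf ℬ 𝒩 EN) d mS.toIdeal) (Vd'_stable (gcxOf ℬ 𝒩 EN) d mS.toIdeal)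
    hV hW hV0 hW0 q
  rw [key, finrank_Vd_H0 𝒜 ℳ EM d h0R, finrank_Vd_H0 ℬ 𝒩 EN d h0S]
  have hs1 : ∀ i, Module.finrank k ((Sd 𝒜 ℳ EM mR d).H i) =
      Module.finrank (deg0 𝒜) (EM.Hcomp mR i d) := finrank_Sd_H 𝒜 ℳ EM mR d h0R
  have hs2 : ∀ i, Module.finrank k ((Sd ℬ 𝒩 EN mS d).H i) =
      Module.finrank (deg0 ℬ) (EN.Hcomp mS i d) := finrank_Sd_H ℬ 𝒩 EN mS d h0S
  simp only [hs1, hs2]

/-- the ring case. -/
theorem kunneth_ring' (k : Type u) [Field k] (R : Type u) [CommRing R] [Nontrivial R]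
    [Algebra k R]
    (𝒜 : ℤ → Submodule k R) [GradedAlgebra 𝒜] (hposR : ∀ n : ℤ, n < 0 → 𝒜 n = ⊥)
    (h0R : 𝒜 0 = Submodule.span k {(1 : R)}) [Algebra.FiniteType k R]
    (S : Type u) [CommRing S] [Nontrivial S] [Algebra k S] (ℬ : ℤ → Submodule k S)
    [GradedAlgebra ℬ] (hposS : ∀ n : ℤ, n < 0 → ℬ n = ⊥)
    (h0S : ℬ 0 = Submodule.span k {(1 : S)}) [Algebra.FiniteType k S]
    (T : Type u) [CommRing T] [Algebra k T] (𝒯 : ℤ → Submodule k T) [GradedAlgebra 𝒯]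
    (ψ : T →ₐ[k] TensorProduct k R S) (hT : GrSeg.IsSegreRing 𝒜 ℬ 𝒯 ψ)
    (mR : HomogeneousIdeal 𝒜)
    (hmR : mR.toIdeal = Ideal.span (⋃ n ∈ Set.Ioi (0 : ℤ), (𝒜 n : Set R)))
    (I : GrLC.StarInjRes 𝒜 𝒜)
    (mS : HomogeneousIdeal ℬ)
    (hmS : mS.toIdeal = Ideal.span (⋃ n ∈ Set.Ioi (0 : ℤ), (ℬ n : Set S)))
    (J : GrLC.StarInjRes ℬ ℬ)
    (mT : HomogeneousIdeal 𝒯)
    (hmT : mT.toIdeal = Ideal.span (⋃ n ∈ Set.Ioi (0 : ℤ), (𝒯 n : Set T)))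
    (IT : GrLC.StarInjRes 𝒯 𝒯)
    (hR : ∀ d : ℤ, I.Hcomp mR 0 d = ⊥) (hS : ∀ d : ℤ, J.Hcomp mS 0 d = ⊥) (q : ℕ) (d : ℤ) :
    Module.finrank (GrLC.deg0 𝒯) (IT.Hcomp mT q d) =
      Module.finrank k (𝒜 d) * Module.finrank (GrLC.deg0 ℬ) (J.Hcomp mS q d) +
        Module.finrank (GrLC.deg0 𝒜) (I.Hcomp mR q d) * Module.finrank k (ℬ d) +
        (Finset.range (q + 2)).sum (fun i => Module.finrank (GrLC.deg0 𝒜) (I.Hcomp mR i d) *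
          Module.finrank (GrLC.deg0 ℬ) (J.Hcomp mS (q + 1 - i) d)) := by
  classical
  have := gradedSMul_modToAS 𝒜 𝒜
  have := gradedSMul_modToAS ℬ ℬ
  have := gradedSMul_modToAS 𝒯 𝒯
  have hP : GrSeg.IsSegreMod ψ (toAS 𝒜) (toAS ℬ) (toAS 𝒯) ψ.toLinearMap :=
    { injective := hT.1
      image_piece := fun n => by
        have h := hT.2 n
        have h2 := congrArg (fun X : Submodule k (TensorProduct k R S) =>
          (X : Set (TensorProduct k R S))) h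
        exact h2
      map_smul := fun t p => by
        rw [act_self]
        exact map_mul ψ t p }
  have key := kunneth' k R 𝒜 hposR h0R S ℬ hposS h0S T 𝒯 ψ hT mR hmR
    mS hmS mT hmT R (toAS 𝒜) (resModTo 𝒜 𝒜 I) S (toAS ℬ) (resModTo ℬ ℬ J) T (toAS 𝒯)
    ψ.toLinearMap hP (resModTo 𝒯 𝒯 IT) hR hS q d
  rw [finrank_comp_self 𝒜 h0R d, finrank_comp_self ℬ h0S d] at key
  exact key

end Groth.Agent.Lib.Helper20.SegGr
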