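import Mathlib
import Groth.Agent.Lib.Helper20.SegCM3
import Groth.Agent.S18654

/-!
# Standard graded Cohen–Macaulay rings over a field: nonvanishing of pieces; the end of a graded
object (helper20)
-/

set_option autoImplicit false
set_option linter.unusedSectionVars false
set_option linter.unusedVariables false
set_option linter.style.haveILetI false

universe u

open DirectSum GrLC TensorProduct Groth.Agent.Lib.Helper20.GrConv Groth.Agent.Lib.Helper4.LC
  Groth.Agent.Lib.Helper20.SegGr Groth.Agent.Lib.Helper20.SegKun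

namespace Groth.Agent.Lib.Helper20.SegBase

section endDeg

variable {N : Type u} [AddCommGroup N] (𝒩 : ℤ → AddSubgroup N)

theorem endDeg_lt_zero_iff : endDeg 𝒩 < 0 ↔ ∀ n : ℤ, 0 ≤ n → 𝒩 n = ⊥ := by
  constructor
  · intro h n hn
    apply Groth.Agent.Lib.Helper20.GrLES2.eq_bot_of_endDeg_lt
    refine lt_of_lt_of_le h ?_
    exact_mod_cast hn
  · intro h
    have hle : endDeg 𝒩 ≤ (((-1 : ℤ) : WithTop ℤ) : WithBot (WithTop ℤ)) := by
      apply iSup₂_le
      intro n hn
      have hn0 : n < 0 := by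
        by_contra hcon
        exact hn (h n (not_lt.1 hcon))
      exact_mod_cast (by omega : n ≤ -1)
    refine lt_of_le_of_lt hle ?_
    exact_mod_cast (by norm_num : (-1 : ℤ) < 0)

end endDeg

section std

variable {k : Type u} [Field k] {R : Type u} [CommRing R] [Nontrivial R] [Algebra k R]
  (𝒜 : ℤ → Submodule k R) [GradedAlgebra 𝒜]
  (hpos : ∀ n : ℤ, n < 0 → 𝒜 n = ⊥) (h0 : 𝒜 0 = Submodule.span k {(1 : R)})

include h0 in
theorem finrank_comp_toAS (d : ℤ) :
    Module.finrank (deg0 (toAS 𝒜)) (comp (toAS 𝒜) (toAS 𝒜) d) = Module.finrank k (𝒜 d) := by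
  let j : ↥(𝒜 d) ≃+ ↥(comp (toAS 𝒜) (toAS 𝒜) d) :=
    { toFun := fun x => ⟨x.1, x.2⟩
      invFun := fun x => ⟨x.1, x.2⟩
      left_inv := fun _ => rfl
      right_inv := fun _ => rfl
      map_add' := fun _ _ => rfl }
  have := rank_eq_of_addEquiv_sub (deg0 (toAS 𝒜)) (mem_deg0_toAS_iff 𝒜 h0)
    (comp (toAS 𝒜) (toAS 𝒜) d) j (fun c v => by
      change c • v.1 = algebraMap k R c • v.1
      rw [Algebra.smul_def, smul_eq_mul])
  unfold Module.finrank
  rw [this]

include hpos h0 in
/-- the Hilbert function of a standard graded Cohen–Macaulay ring of positive dimension is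
non-decreasing. -/
theorem finrank_piece_mono [LocCoh.IsCohenMacaulayRing R]
    (hstd : Ideal.span (⋃ n ∈ Set.Ioi (0 : ℤ), (𝒜 n : Set R)) =
      Ideal.span ((𝒜 1 : Submodule k R) : Set R)) (h1 : 1 ≤ ringKrullDim R) (n : ℤ) :
    Module.finrank k (𝒜 n) ≤ Module.finrank k (𝒜 (n + 1)) := by
  have := Groth.Agent.S18654.result R (toAS 𝒜) (hposAS 𝒜 hpos) (isField_deg0 𝒜 h0) hstd h1 n
  rw [finrank_comp_toAS 𝒜 h0, finrank_comp_toAS 𝒜 h0] at this
  exact this

include hpos h0 in
theorem piece_ne_bot [LocCoh.IsCohenMacaulayRing R]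
    (hstd : Ideal.span (⋃ n ∈ Set.Ioi (0 : ℤ), (𝒜 n : Set R)) =
      Ideal.span ((𝒜 1 : Submodule k R) : Set R)) (h1 : 1 ≤ ringKrullDim R) (n : ℤ)
    (hn : 0 ≤ n) : 𝒜 n ≠ ⊥ := by
  have key : ∀ j : ℕ, 1 ≤ Module.finrank k (𝒜 (j : ℤ)) := by
    intro j
    induction j with
    | zero =>
      have : Module.finrank k (𝒜 ((0 : ℕ) : ℤ)) = 1 := by
        rw [Nat.cast_zero, h0]
        exact finrank_span_singleton one_ne_zero
      rw [this]
    | succ j ih =>
      refine le_trans ih ?_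
      have := finrank_piece_mono 𝒜 hpos h0 hstd h1 (j : ℤ)
      rw [Nat.cast_succ]
      exact this
  intro hbot
  have h2 := key n.toNat
  rw [Int.toNat_of_nonneg hn, hbot] at h2
  rw [finrank_bot] at h2
  omega

end std

end Groth.Agent.Lib.Helper20.SegBase
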