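import Mathlib
import Groth.Prelude.Def_GrSeg
import Groth.Agent.Lib.Helper20.SegFin1
import Groth.Agent.S18646

/-!
# The Segre product of finitely generated graded modules is finitely generated (helper20)
-/

set_option autoImplicit false
set_option linter.unusedSectionVars false
set_option linter.unusedVariables false
set_option linter.style.haveILetI false

universe u

open TensorProduct DirectSum GrLC Groth.Agent.Lib.Helper20.SegTP Groth.Agent.Lib.Helper20.SegGr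

namespace Groth.Agent.Lib.Helper20.SegCan

attribute [local instance] actModule

section tensorFinite

variable {k : Type u} [Field k] {R S : Type u} [CommRing R] [CommRing S] [Algebra k R]
  [Algebra k S]
  {M : Type u} [AddCommGroup M] [Module R M] [Module k M] [IsScalarTower k R M]
  {N : Type u} [AddCommGroup N] [Module S N] [Module k N] [IsScalarTower k S N]

/-- the tensor product of finitely generated modules is finitely generated over `R ⊗ S`. -/
theorem finite_tensor [Module.Finite R M] [Module.Finite S N] :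
    Module.Finite (R ⊗[k] S) (M ⊗[k] N) := by
  classical
  obtain ⟨sM, hsM⟩ := (Module.finite_def (R := R) (M := M)).1 inferInstance
  obtain ⟨sN, hsN⟩ := (Module.finite_def (R := S) (M := N)).1 inferInstance
  refine ⟨⟨Finset.image₂ (fun x y => x ⊗ₜ[k] y) sM sN, ?_⟩⟩
  rw [eq_top_iff]
  rintro w -
  induction w using TensorProduct.induction_on with
  | zero => exact zero_mem _
  | add a b ha hb => exact add_mem ha hb
  | tmul x y =>
    have hx : x ∈ Submodule.span R (sM : Set M) := by rw [hsM]; trivial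
    have hy : y ∈ Submodule.span S (sN : Set N) := by rw [hsN]; trivial
    refine Submodule.span_induction (p := fun x _ => x ⊗ₜ[k] y ∈
      Submodule.span (R ⊗[k] S) (↑(Finset.image₂ (fun x y => x ⊗ₜ[k] y) sM sN) : Set (M ⊗[k] N)))
      ?_ ?_ ?_ ?_ hx
    · intro x' hx'
      refine Submodule.span_induction (p := fun y _ => x' ⊗ₜ[k] y ∈
        Submodule.span (R ⊗[k] S)
          (↑(Finset.image₂ (fun x y => x ⊗ₜ[k] y) sM sN) : Set (M ⊗[k] N))) ?_ ?_ ?_ ?_ hy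
      · intro y' hy'
        apply Submodule.subset_span
        rw [Finset.coe_image₂]
        exact ⟨x', hx', y', hy', rfl⟩
      · rw [TensorProduct.tmul_zero]
        exact zero_mem _
      · intro y₁ y₂ _ _ h₁ h₂
        rw [TensorProduct.tmul_add]
        exact add_mem h₁ h₂
      · intro b y₁ _ h₁
        have : x' ⊗ₜ[k] (b • y₁) = ((1 : R) ⊗ₜ[k] b : R ⊗[k] S) • (x' ⊗ₜ[k] y₁) := by
          rw [tmul_smul_tmul, one_smul]
        rw [this]
        exact Submodule.smul_mem _ _ h₁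
    · rw [TensorProduct.zero_tmul]
      exact zero_mem _
    · intro x₁ x₂ _ _ h₁ h₂
      rw [TensorProduct.add_tmul]
      exact add_mem h₁ h₂
    · intro a x₁ _ h₁
      have : (a • x₁) ⊗ₜ[k] y = (a ⊗ₜ[k] (1 : S) : R ⊗[k] S) • (x₁ ⊗ₜ[k] y) := by
        rw [tmul_smul_tmul, one_smul]
      rw [this]
      exact Submodule.smul_mem _ _ h₁

end tensorFinite

section proj

variable {k : Type u} [Field k] {R S T : Type u} [CommRing R] [CommRing S] [CommRing T]
  [Algebra k R] [Algebra k S] [Algebra k T]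
  (𝒜 : ℤ → Submodule k R) [GradedAlgebra 𝒜] (ℬ : ℤ → Submodule k S) [GradedAlgebra ℬ]
  (𝒯 : ℤ → Submodule k T) [GradedAlgebra 𝒯] (ψ : T →ₐ[k] R ⊗[k] S)
  (hT : GrSeg.IsSegreRing 𝒜 ℬ 𝒯 ψ)
  {M : Type u} [AddCommGroup M] [Module R M] [Module k M] [IsScalarTower k R M]
  (ℳ : ℤ → AddSubgroup M) [DirectSum.Decomposition ℳ] [SetLike.GradedSMul 𝒜 ℳ]
  {N : Type u} [AddCommGroup N] [Module S N] [Module k N] [IsScalarTower k S N]
  (𝒩 : ℤ → AddSubgroup N) [DirectSum.Decomposition 𝒩] [SetLike.GradedSMul ℬ 𝒩]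

/-- the projection of `M ⊗ N` onto `M_n ⊗ N_n`. -/
noncomputable def pr (n : ℤ) : M ⊗[k] N →ₗ[k] M ⊗[k] N :=
  TensorProduct.map ((PFam.ofDec ℳ (smul_mem_piece 𝒜 ℳ)).p n)
    ((PFam.ofDec 𝒩 (smul_mem_piece ℬ 𝒩)).p n)

theorem pr_tmul_of_mem (n : ℤ) {i j : ℤ} {x : M} {y : N} (hx : x ∈ ℳ i) (hy : y ∈ 𝒩 j) :
    pr 𝒜 ℬ ℳ 𝒩 n (x ⊗ₜ[k] y) = if i = n ∧ j = n then x ⊗ₜ[k] y else 0 := by
  unfold pr
  rw [TensorProduct.map_tmul, PFam.ofDec_p, PFam.ofDec_p]
  by_cases hi : i = n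
  · by_cases hj : j = n
    · subst hi hj
      rw [if_pos ⟨rfl, rfl⟩, decompose_of_mem_same ℳ hx, decompose_of_mem_same 𝒩 hy]
    · rw [if_neg (fun h => hj h.2), decompose_of_mem_ne 𝒩 hy hj, TensorProduct.tmul_zero]
  · rw [if_neg (fun h => hi h.1), decompose_of_mem_ne ℳ hx hi, TensorProduct.zero_tmul]

theorem pr_of_mem (n : ℤ) (w : M ⊗[k] N) (hw : w ∈ GrSeg.segrePiece k ℳ 𝒩 n) :
    pr 𝒜 ℬ ℳ 𝒩 n w = w := by
  unfold GrSeg.segrePiece at hw
  induction hw using Submodule.span_induction with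
  | mem x hx =>
    obtain ⟨a, ha, b, hb, rfl⟩ := hx
    rw [pr_tmul_of_mem 𝒜 ℬ ℳ 𝒩 n ha hb, if_pos ⟨rfl, rfl⟩]
  | zero => rw [map_zero]
  | add x y _ _ hx hy => rw [map_add, hx, hy]
  | smul c x _ hx => rw [map_smul, hx]

theorem pr_smul_of_mem (n d : ℤ) {i j : ℤ} {a : R} {b : S} (ha : a ∈ 𝒜 i) (hb : b ∈ ℬ j)
    (w : M ⊗[k] N) (hw : w ∈ GrSeg.segrePiece k ℳ 𝒩 d) :
    pr 𝒜 ℬ ℳ 𝒩 n ((a ⊗ₜ[k] b : R ⊗[k] S) • w) =
      if i + d = n ∧ j + d = n then (a ⊗ₜ[k] b : R ⊗[k] S) • w else 0 := by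
  haveI := isScalarTower_base k R S M N
  unfold GrSeg.segrePiece at hw
  induction hw using Submodule.span_induction with
  | mem x hx =>
    obtain ⟨x', hx', y', hy', rfl⟩ := hx
    rw [tmul_smul_tmul]
    have h1 : a • x' ∈ ℳ (i + d) := SetLike.GradedSMul.smul_mem (A := 𝒜) (B := ℳ) ha hx'
    have h2 : b • y' ∈ 𝒩 (j + d) := SetLike.GradedSMul.smul_mem (A := ℬ) (B := 𝒩) hb hy'
    exact pr_tmul_of_mem 𝒜 ℬ ℳ 𝒩 n h1 h2
  | zero =>
    rw [smul_zero, map_zero]
    split_ifs <;> rfl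
  | add x y _ _ hx hy =>
    rw [smul_add, map_add, hx, hy]
    split_ifs
    · rfl
    · rw [add_zero]
  | smul c x _ hx =>
    rw [smul_comm, map_smul, hx]
    split_ifs
    · rfl
    · rw [smul_zero]

end proj

section fg

variable {k : Type u} [Field k] {R S T : Type u} [CommRing R] [CommRing S] [CommRing T]
  [Algebra k R] [Algebra k S] [Algebra k T]
  (𝒜 : ℤ → Submodule k R) [GradedAlgebra 𝒜] (ℬ : ℤ → Submodule k S) [GradedAlgebra ℬ]
  (𝒯 : ℤ → Submodule k T) [GradedAlgebra 𝒯] (ψ : T →ₐ[k] R ⊗[k] S)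
  (hT : GrSeg.IsSegreRing 𝒜 ℬ 𝒯 ψ)
  {M : Type u} [AddCommGroup M] [Module R M] [Module k M] [IsScalarTower k R M]
  (ℳ : ℤ → AddSubgroup M) [DirectSum.Decomposition ℳ] [SetLike.GradedSMul 𝒜 ℳ]
  {N : Type u} [AddCommGroup N] [Module S N] [Module k N] [IsScalarTower k S N]
  (𝒩 : ℤ → AddSubgroup N) [DirectSum.Decomposition 𝒩] [SetLike.GradedSMul ℬ 𝒩]
  {P : Type u} [AddCommGroup P] [Module T P] [Module k P] [IsScalarTower k T P]
  (𝒬 : ℤ → AddSubgroup P) [DirectSum.Decomposition 𝒬] [SetLike.GradedSMul 𝒯 𝒬]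
  (φ : P →ₗ[k] M ⊗[k] N) (hP : GrSeg.IsSegreMod ψ ℳ 𝒩 𝒬 φ)

include hT hP in
/-- the projection of a multiple of a homogeneous element of `M # N` is a `T`-multiple. -/
theorem exists_smul_eq_pr (n d : ℤ) (q : P) (hq : q ∈ 𝒬 d) (z : R ⊗[k] S) :
    ∃ u ∈ Submodule.span T {q}, φ u = pr 𝒜 ℬ ℳ 𝒩 n (z • φ q) := by
  have hφq : φ q ∈ GrSeg.segrePiece k ℳ 𝒩 d := by
    have : φ q ∈ (GrSeg.segrePiece k ℳ 𝒩 d : Set (M ⊗[k] N)) := by
      rw [← hP.image_piece d]
      exact ⟨q, hq, rfl⟩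
    exact this
  refine Groth.Agent.S18646.bihom_induction 𝒜 ℬ
    (P := fun z => ∃ u ∈ Submodule.span T {q}, φ u = pr 𝒜 ℬ ℳ 𝒩 n (z • φ q)) ?_ ?_ ?_ z
  · exact ⟨0, zero_mem _, by rw [zero_smul, map_zero, map_zero]⟩
  · rintro x y ⟨u, hu, hux⟩ ⟨v, hv, hvy⟩
    exact ⟨u + v, add_mem hu hv, by rw [map_add, add_smul, map_add, hux, hvy]⟩
  · intro i j c e hc he
    rw [pr_smul_of_mem 𝒜 ℬ ℳ 𝒩 n d hc he (φ q) hφq]
    split_ifs with h
    · have hij : j = i := by omega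
      subst hij
      have h1 : c ⊗ₜ[k] e ∈ GrSeg.segrePiece k 𝒜 ℬ j :=
        Submodule.subset_span ⟨c, hc, e, he, rfl⟩
      rw [← hT.2 j] at h1
      obtain ⟨t, -, ht⟩ := h1
      refine ⟨t • q, Submodule.smul_mem _ _ (Submodule.mem_span_singleton_self q), ?_⟩
      rw [hP.map_smul]
      have ht' : ψ t = c ⊗ₜ[k] e := ht
      rw [ht']
      rfl
    · exact ⟨0, zero_mem _, map_zero _⟩

include hT hP in
/-- **the Segre product of finitely generated graded modules is finitely generated.** -/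
theorem finite_segreMod [IsNoetherianRing (R ⊗[k] S)] [Module.Finite R M] [Module.Finite S N] :
    Module.Finite T P := by
  classical
  haveI := finite_tensor (k := k) (R := R) (S := S) (M := M) (N := N)
  haveI : IsNoetherian (R ⊗[k] S) (M ⊗[k] N) := isNoetherian_of_isNoetherianRing_of_finite _ _
  have hfg : (Submodule.span (R ⊗[k] S) (φ '' {p : P | ∃ n, p ∈ 𝒬 n})).FG :=
    IsNoetherian.noetherian _
  obtain ⟨s', hs'sub, hs'eq⟩ := (Submodule.fg_span_iff_fg_span_finset_subset _).1 hfg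
  have hpre : ∀ g ∈ s', ∃ q : P, (∃ d, q ∈ 𝒬 d) ∧ φ q = g := by
    intro g hg
    obtain ⟨q, hq, rfl⟩ := hs'sub hg
    exact ⟨q, hq, rfl⟩
  choose! q hq hqφ using hpre
  refine ⟨⟨s'.image q, ?_⟩⟩
  rw [eq_top_iff]
  rintro p -
  induction p using DirectSum.Decomposition.inductionOn 𝒬 with
  | zero => exact zero_mem _
  | add a b ha hb => exact add_mem ha hb
  | @homogeneous i m =>
    have h1 : φ m ∈ Submodule.span (R ⊗[k] S) (s' : Set (M ⊗[k] N)) := by
      rw [← hs'eq]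
      exact Submodule.subset_span ⟨m, ⟨i, m.2⟩, rfl⟩
    obtain ⟨f, -, hf⟩ := Submodule.mem_span_finset.1 h1
    have h2 : φ m ∈ GrSeg.segrePiece k ℳ 𝒩 i := by
      have : φ m ∈ (GrSeg.segrePiece k ℳ 𝒩 i : Set (M ⊗[k] N)) := by
        rw [← hP.image_piece i]
        exact ⟨m, m.2, rfl⟩
      exact this
    have key : ∀ g ∈ s', ∃ u ∈ Submodule.span T {q g}, φ u = pr 𝒜 ℬ ℳ 𝒩 i (f g • g) := by
      intro g hg
      obtain ⟨d, hd⟩ := hq g hg
      have := exists_smul_eq_pr 𝒜 ℬ 𝒯 ψ hT ℳ 𝒩 𝒬 φ hP i d (q g) hd (f g)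
      rw [hqφ g hg] at this
      exact this
    choose! u hu huφ using key
    have h3 : (m : P) = ∑ g ∈ s', u g := by
      apply hP.injective
      rw [map_sum, ← pr_of_mem 𝒜 ℬ ℳ 𝒩 i _ h2]
      conv_lhs => rw [← hf]
      rw [map_sum]
      exact Finset.sum_congr rfl fun g hg => (huφ g hg).symm
    rw [h3]
    refine Submodule.sum_mem _ fun g hg => ?_
    have h4 : Submodule.span T {q g} ≤ Submodule.span T (↑(s'.image q) : Set P) := by
      apply Submodule.span_mono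
      rw [Set.singleton_subset_iff]
      exact Finset.mem_coe.2 (Finset.mem_image_of_mem q hg)
    exact h4 (hu g hg)

end fg

end Groth.Agent.Lib.Helper20.SegCan
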