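import Mathlib
import Groth.Prelude.Def_GrLC
import Groth.Agent.Lib.Helper20.GrConv2
import Groth.Agent.Lib.Helper20.GrHullDual2
import Groth.Agent.Lib.Helper20.SegBase
import Groth.Agent.Lib.Helper20.SegFin1

/-!
# The trace of the `*`injective envelope of the residue field of a graded algebra over a field
(helper20)

For a graded `k`-algebra `R` with `R_0 = k` and `E` the `*`injective envelope of `R/R_+`, the
`k`-linear functional `tr : E → k` reading off the coordinate of the degree zero component with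
respect to the image of `1`.
-/

set_option autoImplicit false
set_option linter.unusedSectionVars false
set_option linter.unusedVariables false
set_option linter.style.haveILetI false

universe u

open DirectSum GrLC Groth.Agent.Lib.Helper20.GrConv Groth.Agent.Lib.Helper20.SegBase
  Groth.Agent.Lib.Helper20.GrLCBasic Groth.Agent.Lib.Helper20.SegGr

namespace Groth.Agent.Lib.Helper20.SegCan

section trace

variable {k : Type u} [Field k] {R : Type u} [CommRing R] [Nontrivial R] [Algebra k R]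
  [IsNoetherianRing R]
  (𝒜 : ℤ → Submodule k R) [GradedAlgebra 𝒜]
  (hpos : ∀ n : ℤ, n < 0 → 𝒜 n = ⊥) (h0 : 𝒜 0 = Submodule.span k {(1 : R)})
  (m : HomogeneousIdeal 𝒜)
  (hm : m.toIdeal = Ideal.span (⋃ n ∈ Set.Ioi (0 : ℤ), (𝒜 n : Set R)))
  {E : Type u} [AddCommGroup E] [Module R E] [Module k E] [IsScalarTower k R E]
  (𝓔 : ℤ → AddSubgroup E) [DirectSum.Decomposition 𝓔] [SetLike.GradedSMul 𝒜 𝓔]
  (e : (R ⧸ m.toIdeal) →ₗ[R] E) (he : IsStarInjHull 𝒜 (quotGr 𝒜 m) 𝓔 e)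

include hpos h0 hm he in
theorem e_one_ne_zero : e 1 ≠ 0 := by
  intro h6
  have h7 : (1 : R ⧸ m.toIdeal) = 0 := he.injective (by rw [h6, map_zero])
  have h8 : Ideal.Quotient.mk m.toIdeal 1 = 0 := h7
  rw [Ideal.Quotient.eq_zero_iff_mem] at h8
  exact (isMaximal 𝒜 hpos h0 m hm).ne_top ((Ideal.eq_top_iff_one _).2 h8)

include hpos h0 hm he in
theorem e_one_mem : e 1 ∈ 𝓔 0 := by
  haveI := gradedSMul_toAS 𝒜 𝓔
  exact Groth.Agent.Lib.Helper20.GrHullDual.range_le_zero' (toAS 𝒜) (hposAS 𝒜 hpos)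
    (idealTo 𝒜 m) (hmAS 𝒜 m hm) 𝓔 e (isStarInjHull_toAS 𝒜 𝓔 m e he) 1

include hpos h0 hm he in
theorem exists_eq_smul_e_one {w : E} (hw : w ∈ 𝓔 0) : ∃ c : k, w = c • e 1 := by
  haveI := gradedSMul_toAS 𝒜 𝓔
  obtain ⟨c', hc', hw'⟩ := Groth.Agent.Lib.Helper20.GrHullDual.exists_smul_eq_of_mem_zero (toAS 𝒜)
    𝓔 (hposAS 𝒜 hpos) (isField_deg0 𝒜 h0) (idealTo 𝒜 m) (hmAS 𝒜 m hm) e
    (isStarInjHull_toAS 𝒜 𝓔 m e he) hw
  have hc'' : c' ∈ 𝒜 0 := hc'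
  rw [h0, Submodule.mem_span_singleton] at hc''
  obtain ⟨c, rfl⟩ := hc''
  refine ⟨c, ?_⟩
  rw [hw', smul_assoc, one_smul]
  rfl

include hpos h0 hm he in
theorem smul_e_one_injective {c c' : k} (h : c • e 1 = c' • e 1) : c = c' := by
  have h1 : (c - c') • e 1 = 0 := by rw [sub_smul, h, sub_self]
  rcases smul_eq_zero.1 h1 with h2 | h2
  · exact sub_eq_zero.1 h2
  · exact absurd h2 (e_one_ne_zero 𝒜 hpos h0 m hm 𝓔 e he)

/-- the trace, as a function. -/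
noncomputable def trFun (x : E) : k :=
  Classical.choose (exists_eq_smul_e_one 𝒜 hpos h0 m hm 𝓔 e he
    (SetLike.coe_mem (decompose 𝓔 x 0)))

theorem trFun_spec (x : E) :
    ((decompose 𝓔 x 0 : 𝓔 0) : E) = trFun 𝒜 hpos h0 m hm 𝓔 e he x • e 1 :=
  Classical.choose_spec (exists_eq_smul_e_one 𝒜 hpos h0 m hm 𝓔 e he
    (SetLike.coe_mem (decompose 𝓔 x 0)))

theorem trFun_eq {x : E} {c : k} (h : ((decompose 𝓔 x 0 : 𝓔 0) : E) = c • e 1) :
    trFun 𝒜 hpos h0 m hm 𝓔 e he x = c := by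
  apply smul_e_one_injective 𝒜 hpos h0 m hm 𝓔 e he
  rw [← trFun_spec, h]

/-- **the trace of the envelope.** -/
noncomputable def tr : E →ₗ[k] k where
  toFun := trFun 𝒜 hpos h0 m hm 𝓔 e he
  map_add' x y := by
    apply trFun_eq 𝒜 hpos h0 m hm 𝓔 e he
    rw [decompose_add, DirectSum.add_apply, AddSubgroup.coe_add, trFun_spec 𝒜 hpos h0 m hm 𝓔 e he x,
      trFun_spec 𝒜 hpos h0 m hm 𝓔 e he y, add_smul]
  map_smul' c x := by
    apply trFun_eq 𝒜 hpos h0 m hm 𝓔 e he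
    rw [decompose_smul_k 𝓔 (smul_mem_piece 𝒜 𝓔) c x 0, trFun_spec 𝒜 hpos h0 m hm 𝓔 e he x,
      RingHom.id_apply, smul_eq_mul, mul_smul]

theorem tr_spec (x : E) :
    ((decompose 𝓔 x 0 : 𝓔 0) : E) = tr 𝒜 hpos h0 m hm 𝓔 e he x • e 1 :=
  trFun_spec 𝒜 hpos h0 m hm 𝓔 e he x

theorem tr_of_mem_ne {j : ℤ} (hj : j ≠ 0) {x : E} (hx : x ∈ 𝓔 j) :
    tr 𝒜 hpos h0 m hm 𝓔 e he x = 0 := by
  apply trFun_eq 𝒜 hpos h0 m hm 𝓔 e he
  rw [decompose_of_mem_ne 𝓔 hx hj, zero_smul]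

theorem eq_zero_of_tr_eq_zero {x : E} (hx : x ∈ 𝓔 0)
    (h : tr 𝒜 hpos h0 m hm 𝓔 e he x = 0) : x = 0 := by
  have := tr_spec 𝒜 hpos h0 m hm 𝓔 e he x
  rw [decompose_of_mem_same 𝓔 hx, h, zero_smul] at this
  exact this

theorem tr_e_one : tr 𝒜 hpos h0 m hm 𝓔 e he (e 1) = 1 := by
  apply trFun_eq 𝒜 hpos h0 m hm 𝓔 e he
  rw [decompose_of_mem_same 𝓔 (e_one_mem 𝒜 hpos h0 m hm 𝓔 e he), one_smul]

/-- the trace of a multiple by a homogeneous ring element only sees one component. -/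
theorem tr_smul_of_mem {d : ℤ} {r : R} (hr : r ∈ 𝒜 d) (x : E) :
    tr 𝒜 hpos h0 m hm 𝓔 e he (r • x) =
      tr 𝒜 hpos h0 m hm 𝓔 e he (r • ((decompose 𝓔 x (-d) : 𝓔 (-d)) : E)) := by
  haveI := gradedSMul_toAS 𝒜 𝓔
  have h1 := decompose_smul_left (toAS 𝒜) 𝓔 (c := r) (d := d) hr x (-d)
  have h2 : r • ((decompose 𝓔 x (-d) : 𝓔 (-d)) : E) ∈ 𝓔 0 := by
    have := SetLike.GradedSMul.smul_mem (A := 𝒜) (B := 𝓔) hr (SetLike.coe_mem (decompose 𝓔 x (-d)))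
    rwa [vadd_eq_add, add_neg_cancel] at this
  apply trFun_eq 𝒜 hpos h0 m hm 𝓔 e he
  have h3 : ((decompose 𝓔 (r • x) 0 : 𝓔 0) : E) = r • ((decompose 𝓔 x (-d) : 𝓔 (-d)) : E) := by
    have key : ∀ n : ℤ, n = 0 → ((decompose 𝓔 (r • x) n : 𝓔 n) : E) =
        ((decompose 𝓔 (r • x) 0 : 𝓔 0) : E) := by
      rintro n rfl
      rfl
    rw [← h1]
    exact (key _ (neg_add_cancel d)).symm
  rw [h3]
  have := tr_spec 𝒜 hpos h0 m hm 𝓔 e he (r • ((decompose 𝓔 x (-d) : 𝓔 (-d)) : E))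
  rw [decompose_of_mem_same 𝓔 h2] at this
  exact this

include hpos h0 hm he in
/-- **the trace pairing `R × E → k` is non-degenerate in `E`.** -/
theorem eq_zero_of_forall_tr_smul {x : E}
    (h : ∀ r : R, tr 𝒜 hpos h0 m hm 𝓔 e he (r • x) = 0) : x = 0 := by
  classical
  haveI := gradedSMul_toAS 𝒜 𝓔
  by_contra hx
  have h1 : ∃ j, ((decompose 𝓔 x j : 𝓔 j) : E) ≠ 0 := by
    by_contra hcon
    push_neg at hcon
    apply hx
    rw [← DirectSum.sum_support_decompose 𝓔 x]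
    exact Finset.sum_eq_zero fun j _ => hcon j
  obtain ⟨j, hj⟩ := h1
  obtain ⟨r, hr, hrx, -⟩ := Groth.Agent.Lib.Helper20.GrHullDual.exists_smul_ne_zero (toAS 𝒜)
    (hposAS 𝒜 hpos) (idealTo 𝒜 m) (hmAS 𝒜 m hm) 𝓔 e (isStarInjHull_toAS 𝒜 𝓔 m e he)
    (SetLike.coe_mem (decompose 𝓔 x j)) hj
  have hr' : r ∈ 𝒜 (-j) := hr
  have h2 := tr_smul_of_mem 𝒜 hpos h0 m hm 𝓔 e he hr' x
  rw [h r, neg_neg] at h2
  have h3 : r • ((decompose 𝓔 x j : 𝓔 j) : E) ∈ 𝓔 0 := by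
    have := SetLike.GradedSMul.smul_mem (A := 𝒜) (B := 𝓔) hr' (SetLike.coe_mem (decompose 𝓔 x j))
    rwa [vadd_eq_add, neg_add_cancel] at this
  exact hrx (eq_zero_of_tr_eq_zero 𝒜 hpos h0 m hm 𝓔 e he h3 h2.symm)

end trace

end Groth.Agent.Lib.Helper20.SegCan
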