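import Mathlib
import Groth.Prelude.Def_GrLC
import Groth.Agent.Lib.Helper20.SegCanB
import Groth.Agent.Lib.Helper20.GrDual3

/-!
# The scalar duality pairing of a canonical module (helper20)

For a graded `k`-algebra `R` with a `*`canonical module `C` (so `Hom_R(C, E) ≅ H`, `H` the top local
cohomology), the `k`-bilinear pairing `H × C → k`, `(h, c) ↦ tr ((Φ⁻¹ h) c)`.
-/

set_option autoImplicit false
set_option linter.unusedSectionVars false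
set_option linter.unusedVariables false
set_option linter.style.haveILetI false

universe u

open DirectSum GrLC Groth.Agent.Lib.Helper20.GrConv Groth.Agent.Lib.Helper20.SegBase
  Groth.Agent.Lib.Helper20.GrLCBasic Groth.Agent.Lib.Helper20.SegGr

namespace Groth.Agent.Lib.Helper20.SegCan

section beta

variable {k : Type u} [Field k] {R : Type u} [CommRing R] [Nontrivial R] [Algebra k R]
  [IsNoetherianRing R]
  (𝒜 : ℤ → Submodule k R) [GradedAlgebra 𝒜]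
  (hpos : ∀ n : ℤ, n < 0 → 𝒜 n = ⊥) (h0 : 𝒜 0 = Submodule.span k {(1 : R)})
  (m : HomogeneousIdeal 𝒜)
  (hm : m.toIdeal = Ideal.span (⋃ n ∈ Set.Ioi (0 : ℤ), (𝒜 n : Set R)))
  {E : Type u} [AddCommGroup E] [Module R E] [Module k E] [IsScalarTower k R E]
  (𝓔 : ℤ → AddSubgroup E) [DirectSum.Decomposition 𝓔] [SetLike.GradedSMul 𝒜 𝓔]
  (e : (R ⧸ m.toIdeal) →ₗ[R] E) (he : IsStarInjHull 𝒜 (quotGr 𝒜 m) 𝓔 e)
  {C : Type u} [AddCommGroup C] [Module R C] [Module k C] [IsScalarTower k R C]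
  (𝒞 : ℤ → AddSubgroup C) [DirectSum.Decomposition 𝒞] [SetLike.GradedSMul 𝒜 𝒞]
  [Module.Finite R C]
  {H : Type u} [AddCommGroup H] [Module R H] [Module k H] [IsScalarTower k R H]
  (ℋ : ℤ → AddSubgroup H) [DirectSum.Decomposition ℋ]
  (Φ : (C →ₗ[R] E) ≃ₗ[R] H)
  (hΦ : IsGrHom (fun d => (homDeg 𝒜 𝒞 𝓔 d).toAddSubgroup) ℋ Φ.toLinearMap)

/-- the duality pairing `H × C → k`. -/
noncomputable def beta : H →ₗ[k] C →ₗ[k] k :=
  LinearMap.mk₂ k (fun h c => tr 𝒜 hpos h0 m hm 𝓔 e he (Φ.symm h c))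
    (fun h h' c => by rw [map_add, LinearMap.add_apply, map_add])
    (fun a h c => by
      have h1 : Φ.symm (a • h) = algebraMap k R a • Φ.symm h := by
        rw [← algebraMap_smul R a h, LinearEquiv.map_smul]
      rw [h1, LinearMap.smul_apply, algebraMap_smul, LinearMap.map_smul])
    (fun h c c' => by rw [map_add, map_add])
    (fun a h c => by
      have h1 : Φ.symm h (a • c) = a • Φ.symm h c := by
        rw [← algebraMap_smul R a c, LinearMap.map_smul, algebraMap_smul]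
      rw [h1, LinearMap.map_smul])

theorem beta_apply (h : H) (c : C) :
    beta 𝒜 hpos h0 m hm 𝓔 e he Φ h c = tr 𝒜 hpos h0 m hm 𝓔 e he (Φ.symm h c) := rfl

theorem beta_smul (a : R) (h : H) (c : C) :
    beta 𝒜 hpos h0 m hm 𝓔 e he Φ (a • h) c = beta 𝒜 hpos h0 m hm 𝓔 e he Φ h (a • c) := by
  rw [beta_apply, beta_apply, LinearEquiv.map_smul, LinearMap.smul_apply, LinearMap.map_smul]

include hΦ in
theorem symm_mem {h : H} {d : ℤ} (hh : h ∈ ℋ d) {g : ℤ} {c : C} (hc : c ∈ 𝒞 g) :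
    Φ.symm h c ∈ 𝓔 (g + d) := by
  haveI := gradedSMul_toAS 𝒜 𝓔
  haveI := gradedSMul_toAS 𝒜 𝒞
  have hΦ' : IsGrHom (fun d => (homDeg (toAS 𝒜) 𝒞 𝓔 d).toAddSubgroup) ℋ Φ.toLinearMap :=
    fun d g hg => hΦ d g hg
  exact Groth.Agent.Lib.Helper20.GrDual.symm_mem_homDeg (toAS 𝒜) 𝒞 𝓔 ℋ Φ hΦ' hh g c hc

include hΦ in
theorem beta_eq_zero {i j : ℤ} {h : H} (hh : h ∈ ℋ i) {c : C} (hc : c ∈ 𝒞 j) (hij : i + j ≠ 0) :
    beta 𝒜 hpos h0 m hm 𝓔 e he Φ h c = 0 := by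
  rw [beta_apply]
  exact tr_of_mem_ne 𝒜 hpos h0 m hm 𝓔 e he (by omega) (symm_mem 𝒜 𝓔 𝒞 ℋ Φ hΦ hh hc)

include hΦ in
/-- non-degeneracy in the first variable. -/
theorem exists_beta_ne_zero {i : ℤ} {h : H} (hh : h ∈ ℋ i) (hh0 : h ≠ 0) :
    ∃ c ∈ 𝒞 (-i), beta 𝒜 hpos h0 m hm 𝓔 e he Φ h c ≠ 0 := by
  haveI := gradedSMul_toAS 𝒜 𝓔
  haveI := gradedSMul_toAS 𝒜 𝒞
  have hΦ' : IsGrHom (fun d => (homDeg (toAS 𝒜) 𝒞 𝓔 d).toAddSubgroup) ℋ Φ.toLinearMap :=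
    fun d g hg => hΦ d g hg
  have hf0 : Φ.symm h ≠ 0 := by
    intro h1
    apply hh0
    have := congrArg Φ h1
    rwa [Φ.apply_symm_apply, map_zero] at this
  obtain ⟨c, hc, hfc⟩ := Groth.Agent.Lib.Helper20.GrDual.exists_ne_zero_of_hom_ne_zero (toAS 𝒜)
    (hposAS 𝒜 hpos) (idealTo 𝒜 m) (hmAS 𝒜 m hm) 𝓔 e (isStarInjHull_toAS 𝒜 𝓔 m e he) 𝒞
    (Groth.Agent.Lib.Helper20.GrDual.symm_mem_homDeg (toAS 𝒜) 𝒞 𝓔 ℋ Φ hΦ' hh) hf0
  refine ⟨c, hc, fun h2 => hfc ?_⟩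
  have h3 := symm_mem 𝒜 𝓔 𝒞 ℋ Φ hΦ hh hc
  rw [neg_add_cancel] at h3
  exact eq_zero_of_tr_eq_zero 𝒜 hpos h0 m hm 𝓔 e he h3 h2

include hΦ in
/-- non-degeneracy in the second variable. -/
theorem exists_beta_ne_zero' {j : ℤ} {c : C} (hc : c ∈ 𝒞 j) (hc0 : c ≠ 0) :
    ∃ h ∈ ℋ (-j), beta 𝒜 hpos h0 m hm 𝓔 e he Φ h c ≠ 0 := by
  haveI := gradedSMul_toAS 𝒜 𝓔
  haveI := gradedSMul_toAS 𝒜 𝒞
  obtain ⟨f, hf, hfc⟩ := Groth.Agent.Lib.Helper20.GrDual.exists_hom_ne_zero (toAS 𝒜)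
    (hposAS 𝒜 hpos) (isField_deg0 𝒜 h0) (idealTo 𝒜 m) (hmAS 𝒜 m hm) 𝓔 e
    (isStarInjHull_toAS 𝒜 𝓔 m e he) 𝒞 hc hc0
  refine ⟨Φ f, hΦ (-j) f hf, fun h2 => hfc ?_⟩
  rw [beta_apply, Φ.symm_apply_apply] at h2
  have h3 : f c ∈ 𝓔 (j + -j) := hf j c hc
  rw [add_neg_cancel] at h3
  exact eq_zero_of_tr_eq_zero 𝒜 hpos h0 m hm 𝓔 e he h3 h2

end beta

end Groth.Agent.Lib.Helper20.SegCan
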