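import Mathlib

/-!
# Tensor products of non-degenerate pairings (helper20)
-/

set_option autoImplicit false
set_option linter.unusedSectionVars false
set_option linter.unusedVariables false
set_option linter.style.haveILetI false

universe u

open TensorProduct

namespace Groth.Agent.Lib.Helper20.SegCan

section LA

variable {k : Type u} [Field k] {X₁ Y₁ X₂ Y₂ : Type u}
  [AddCommGroup X₁] [Module k X₁] [AddCommGroup Y₁] [Module k Y₁]
  [AddCommGroup X₂] [Module k X₂] [AddCommGroup Y₂] [Module k Y₂]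
  (β₁ : X₁ →ₗ[k] Y₁ →ₗ[k] k) (β₂ : X₂ →ₗ[k] Y₂ →ₗ[k] k)

/-- the tensor product of two pairings. -/
noncomputable def tpair : X₁ ⊗[k] X₂ →ₗ[k] Module.Dual k (Y₁ ⊗[k] Y₂) :=
  (TensorProduct.dualDistrib k Y₁ Y₂) ∘ₗ TensorProduct.map β₁ β₂

theorem tpair_tmul (x₁ : X₁) (x₂ : X₂) (y₁ : Y₁) (y₂ : Y₂) :
    tpair β₁ β₂ (x₁ ⊗ₜ[k] x₂) (y₁ ⊗ₜ[k] y₂) = β₁ x₁ y₁ * β₂ x₂ y₂ := rfl

theorem tpair_flip (ω : X₁ ⊗[k] X₂) (ξ : Y₁ ⊗[k] Y₂) :
    tpair β₁.flip β₂.flip ξ ω = tpair β₁ β₂ ω ξ := by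
  induction ω using TensorProduct.induction_on with
  | zero => rw [map_zero, map_zero, LinearMap.zero_apply]
  | add a b ha hb => rw [map_add, map_add, LinearMap.add_apply, ha, hb]
  | tmul x₁ x₂ =>
    induction ξ using TensorProduct.induction_on with
    | zero => rw [map_zero, map_zero, LinearMap.zero_apply]
    | add a b ha hb => rw [map_add, map_add, LinearMap.add_apply, ha, hb]
    | tmul y₁ y₂ => rfl

/-- **the tensor product of two non-degenerate pairings is non-degenerate.** -/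
theorem exists_tpair_ne_zero (V₁ : Submodule k X₁) (V₂ : Submodule k X₂) (W₁ : Submodule k Y₁)
    (W₂ : Submodule k Y₂) [Module.Finite k W₁] [Module.Finite k W₂]
    (h₁ : ∀ v ∈ V₁, v ≠ 0 → ∃ w ∈ W₁, β₁ v w ≠ 0)
    (h₂ : ∀ v ∈ V₂, v ≠ 0 → ∃ w ∈ W₂, β₂ v w ≠ 0) (ω : X₁ ⊗[k] X₂)
    (hω : ω ∈ LinearMap.range (TensorProduct.mapIncl V₁ V₂)) (hω0 : ω ≠ 0) :
    ∃ w₁ ∈ W₁, ∃ w₂ ∈ W₂, tpair β₁ β₂ ω (w₁ ⊗ₜ[k] w₂) ≠ 0 := by
  classical
  let b₁ : V₁ →ₗ[k] Module.Dual k W₁ := W₁.subtype.dualMap ∘ₗ β₁ ∘ₗ V₁.subtype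
  let b₂ : V₂ →ₗ[k] Module.Dual k W₂ := W₂.subtype.dualMap ∘ₗ β₂ ∘ₗ V₂.subtype
  have hb₁ : ∀ (v : V₁) (w : W₁), b₁ v w = β₁ v w := fun v w => rfl
  have hb₂ : ∀ (v : V₂) (w : W₂), b₂ v w = β₂ v w := fun v w => rfl
  have hi₁ : Function.Injective b₁ := by
    rw [injective_iff_map_eq_zero]
    intro v hv
    by_contra hv0
    obtain ⟨w, hw, hvw⟩ := h₁ v v.2 (fun h => hv0 (Subtype.ext h))
    apply hvw
    have := LinearMap.congr_fun hv ⟨w, hw⟩
    rw [hb₁] at this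
    exact this
  have hi₂ : Function.Injective b₂ := by
    rw [injective_iff_map_eq_zero]
    intro v hv
    by_contra hv0
    obtain ⟨w, hw, hvw⟩ := h₂ v v.2 (fun h => hv0 (Subtype.ext h))
    apply hvw
    have := LinearMap.congr_fun hv ⟨w, hw⟩
    rw [hb₂] at this
    exact this
  have hinj : Function.Injective (TensorProduct.map b₁ b₂) :=
    TensorProduct.map_injective_of_flat_flat b₁ b₂ hi₁ hi₂
  obtain ⟨ω', rfl⟩ := hω
  have hω'0 : ω' ≠ 0 := by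
    rintro rfl
    exact hω0 (map_zero _)
  have compat : ∀ (ω' : V₁ ⊗[k] V₂) (w₁ : W₁) (w₂ : W₂),
      TensorProduct.dualDistribEquiv k W₁ W₂ (TensorProduct.map b₁ b₂ ω') (w₁ ⊗ₜ[k] w₂) =
        tpair β₁ β₂ (TensorProduct.mapIncl V₁ V₂ ω') ((w₁ : Y₁) ⊗ₜ[k] (w₂ : Y₂)) := by
    intro ω' w₁ w₂
    induction ω' using TensorProduct.induction_on with
    | zero => simp
    | add a b ha hb =>
      rw [map_add, map_add, LinearMap.add_apply, ha, hb, map_add, map_add, LinearMap.add_apply]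
    | tmul v₁ v₂ => rfl
  by_contra hcon
  push_neg at hcon
  have hF : TensorProduct.dualDistribEquiv k W₁ W₂ (TensorProduct.map b₁ b₂ ω') = 0 := by
    apply LinearMap.ext
    intro ξ
    induction ξ using TensorProduct.induction_on with
    | zero => simp
    | add a b ha hb => rw [map_add, ha, hb]; simp
    | tmul w₁ w₂ =>
      rw [compat, LinearMap.zero_apply]
      exact hcon w₁ w₁.2 w₂ w₂.2
  have h3 : TensorProduct.map b₁ b₂ ω' = 0 :=
    (TensorProduct.dualDistribEquiv k W₁ W₂).injective (by rw [hF, map_zero])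
  exact hω'0 (hinj (by rw [h3, map_zero]))

end LA

end Groth.Agent.Lib.Helper20.SegCan
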