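import Mathlib
import Groth.Agent.Lib.Helper20.SegMain2
import Groth.Agent.Lib.Helper20.SegStd
import Groth.Agent.Lib.Helper20.GrDual3

/-!
# Canonical modules and top local cohomology of graded rings over a field; the canonical module
of a Segre product, degree by degree (helper20)
-/

set_option autoImplicit false
set_option linter.unusedSectionVars false
set_option linter.unusedVariables false
set_option linter.style.haveILetI false

universe u

open DirectSum GrLC TensorProduct Groth.Agent.Lib.Helper20.GrConv Groth.Agent.Lib.Helper4.LC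
  Groth.Agent.Lib.Helper20.SegGr Groth.Agent.Lib.Helper20.SegKun

namespace Groth.Agent.Lib.Helper20.SegBase

section same

/-- modules over two subrings with the same elements, with the same elements. -/
theorem finrank_eq_of_same_carrier {R : Type u} [CommRing R] (R0 R0' : Subring R)
    (h : ∀ r, r ∈ R0 ↔ r ∈ R0') {X : Type u} [AddCommGroup X] [Module R X]
    (W : Submodule R0 X) (W' : Submodule R0' X) (hW : ∀ x, x ∈ W ↔ x ∈ W') :
    Module.finrank R0 W = Module.finrank R0' W' := by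
  let i : R0 → R0' := fun c => ⟨c.1, (h _).1 c.2⟩
  have hi : Function.Bijective i :=
    ⟨fun c c' hcc => Subtype.ext (by
        have := congrArg Subtype.val hcc
        exact this),
      fun c => ⟨⟨c.1, (h _).2 c.2⟩, rfl⟩⟩
  let j : ↥W ≃+ ↥W' :=
    { toFun := fun x => ⟨x.1, (hW _).1 x.2⟩
      invFun := fun x => ⟨x.1, (hW _).2 x.2⟩
      left_inv := fun _ => rfl
      right_inv := fun _ => rfl
      map_add' := fun _ _ => rfl }
  have := rank_eq_of_equiv_equiv i j hi (fun c v => rfl)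
  unfold Module.finrank
  rw [this]

end same

section canon

variable {k : Type u} [Field k] {R : Type u} [CommRing R] [Nontrivial R] [Algebra k R]
  [IsNoetherianRing R]
  (𝒜 : ℤ → Submodule k R) [GradedAlgebra 𝒜]
  (hpos : ∀ n : ℤ, n < 0 → 𝒜 n = ⊥) (h0 : 𝒜 0 = Submodule.span k {(1 : R)})
  (m : HomogeneousIdeal 𝒜)
  (hm : m.toIdeal = Ideal.span (⋃ n ∈ Set.Ioi (0 : ℤ), (𝒜 n : Set R)))

include hpos h0 hm in
/-- graded duality, degree by degree: `dim (K_R)_j = dim H^n_m(R)_{-j}`. -/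
theorem finrank_canonical_eq (n : ℕ) (I : StarInjRes 𝒜 𝒜)
    {E' : Type u} [AddCommGroup E'] [Module R E'] (𝓔 : ℤ → AddSubgroup E')
    [DirectSum.Decomposition 𝓔] [SetLike.GradedSMul 𝒜 𝓔] (e : (R ⧸ m.toIdeal) →ₗ[R] E')
    (he : IsStarInjHull 𝒜 (quotGr 𝒜 m) 𝓔 e)
    {C : Type u} [AddCommGroup C] [Module R C] (𝒞 : ℤ → AddSubgroup C)
    [DirectSum.Decomposition 𝒞] [SetLike.GradedSMul 𝒜 𝒞]
    (hC : IsStarCanonical 𝒜 𝒞 𝓔 m n I) (j : ℤ) :
    Module.finrank (deg0 𝒜) (comp 𝒜 𝒞 j) = Module.finrank (deg0 𝒜) (I.Hcomp m n (-j)) := by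
  haveI := gradedSMul_toAS 𝒜 𝓔
  haveI := gradedSMul_toAS 𝒜 𝒞
  have he' := isStarInjHull_toAS 𝒜 𝓔 m e he
  obtain ⟨hfin, Φ, hΦ⟩ := isStarCanonical_toAS 𝒜 𝓔 m 𝒞 n I hC
  haveI := hfin
  letI := Groth.Agent.Lib.Helper20.GrLES2.decH (resTo 𝒜 𝒜 I) (idealTo 𝒜 m) n
  have key := Groth.Agent.Lib.Helper20.GrDual.finrank_H_eq (toAS 𝒜) (hposAS 𝒜 hpos)
    (isField_deg0 𝒜 h0) (idealTo 𝒜 m) (hmAS 𝒜 m hm) 𝓔 e he' 𝒞
    ((resTo 𝒜 𝒜 I).Hgr (idealTo 𝒜 m) n) Φ hΦ j
  have h1 : Module.finrank (deg0 𝒜) (comp 𝒜 𝒞 j) =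
      Module.finrank (deg0 (toAS 𝒜)) (comp (toAS 𝒜) 𝒞 j) :=
    finrank_eq_of_same_carrier (deg0 𝒜) (deg0 (toAS 𝒜)) (fun _ => Iff.rfl) _ _ (fun _ => Iff.rfl)
  have h2 : Module.finrank (deg0 𝒜) (I.Hcomp m n (-j)) =
      Module.finrank (deg0 (toAS 𝒜))
        (comp (toAS 𝒜) ((resTo 𝒜 𝒜 I).Hgr (idealTo 𝒜 m) n) (-j)) :=
    finrank_eq_of_same_carrier (X := (resTo 𝒜 𝒜 I).H (idealTo 𝒜 m) n) (deg0 𝒜) (deg0 (toAS 𝒜))
      (fun _ => Iff.rfl)
      (show Submodule (deg0 𝒜) ((resTo 𝒜 𝒜 I).H (idealTo 𝒜 m) n) from I.Hcomp m n (-j))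
      (comp (toAS 𝒜) ((resTo 𝒜 𝒜 I).Hgr (idealTo 𝒜 m) n) (-j))
      (fun _ => Iff.rfl)
  rw [h1, h2, key]

end canon

section self

variable {k : Type u} [Field k] {R S T : Type u} [CommRing R] [CommRing S] [CommRing T]
  [Algebra k R] [Algebra k S] [Algebra k T]
  (𝒜 : ℤ → Submodule k R) [GradedAlgebra 𝒜] (ℬ : ℤ → Submodule k S) [GradedAlgebra ℬ]
  (𝒯 : ℤ → Submodule k T) [GradedAlgebra 𝒯] (ψ : T →ₐ[k] R ⊗[k] S)

/-- the Segre ring is the Segre product of the two rings as modules. -/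
theorem isSegreMod_self (hT : GrSeg.IsSegreRing 𝒜 ℬ 𝒯 ψ) :
    GrSeg.IsSegreMod ψ (toAS 𝒜) (toAS ℬ) (toAS 𝒯) ψ.toLinearMap where
  injective := hT.1
  image_piece n := by
    have h := hT.2 n
    have h2 := congrArg (fun X : Submodule k (R ⊗[k] S) => (X : Set (R ⊗[k] S))) h
    exact h2
  map_smul t p := by
    rw [act_self]
    exact map_mul ψ t p

end self

end Groth.Agent.Lib.Helper20.SegBase
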