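import Mathlib
import Groth.Prelude.Def_GrLC
import Groth.Agent.Lib.Helper20.GrVerGor

/-!
# The top graded local cohomology of a Gorenstein graded ring, and a Gorenstein criterion
(helper20)
-/

set_option autoImplicit false
set_option linter.unusedSectionVars false
set_option linter.unusedVariables false
set_option linter.style.haveILetI false

universe u

open DirectSum GrLC Groth.Agent.Lib.Helper20.GrLCBasic Groth.Agent.Lib.Helper20.GrLCQuot
  Groth.Agent.Lib.Helper20.GrVeronese Groth.Agent.Lib.Helper20.GrVerRing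
  Groth.Agent.Lib.Helper20.GrFieldLocal Groth.Agent.Lib.Helper20.GrVerTop
  Groth.Agent.Lib.Helper20.GrVerHull Groth.Agent.Lib.Helper20.GrHullDual
  Groth.Agent.Lib.Helper20.GrCanonShift Groth.Agent.Lib.Helper20.GrHullChar

namespace Groth.Agent.Lib.Helper20.SegGor

/-- a graded module which looks like the top local cohomology of a Gorenstein graded ring with
`a`-invariant `a`: it vanishes above degree `a`, its degree `a` piece is generated by one non-zero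
element over `R_0`, and the pairing into the top degree is left non-degenerate. -/
structure IsGorTop {R : Type u} [CommRing R] (𝒜 : ℤ → AddSubgroup R) {X : Type u}
    [AddCommGroup X] [Module R X] (𝒳 : ℤ → AddSubgroup X) (a : ℤ) : Prop where
  top : ∀ j, a < j → 𝒳 j = ⊥
  gen : ∃ u ∈ 𝒳 a, u ≠ 0 ∧ ∀ x ∈ 𝒳 a, ∃ c ∈ 𝒜 0, x = c • u
  nd : ∀ j, ∀ x ∈ 𝒳 j, x ≠ 0 → ∃ r ∈ 𝒜 (a - j), r • x ≠ 0

section A

variable (R : Type u) [CommRing R] [LocCoh.IsGorensteinRing R] (𝒜 : ℤ → AddSubgroup R)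
  [GradedRing 𝒜] (hpos : ∀ n : ℤ, n < 0 → 𝒜 n = ⊥) (h0 : IsField (GrLC.deg0 𝒜))
  (m : HomogeneousIdeal 𝒜) (hm : GrLC.IsStarLocal 𝒜 m)
  (hmsp : m.toIdeal = Ideal.span (⋃ n ∈ Set.Ioi (0 : ℤ), (𝒜 n : Set R)))
  (n : ℕ) (hn : m.toIdeal.height = n) (I : GrLC.StarInjRes 𝒜 𝒜)

include hpos h0 hm hmsp hn in
set_option maxHeartbeats 1000000 in
/-- **the top graded local cohomology of a Gorenstein graded ring over a field.** -/
theorem exists_isGorTop :
    ∃ a : ℤ, endDeg (I.Hgr m n) = ((a : WithTop ℤ) : WithBot (WithTop ℤ)) ∧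
      IsGorTop 𝒜 (I.Hgr m n) a ∧
      ∀ d, Module.finrank (deg0 𝒜) (comp 𝒜 (I.Hgr m n) (a - d)) =
        Module.finrank (deg0 𝒜) (comp 𝒜 𝒜 d) := by
  classical
  haveI : IsNoetherianRing R := inferInstance
  letI : DirectSum.Decomposition (GrLC.quotGr 𝒜 m) :=
    (isInternal_quotGr 𝒜 (m.toIdeal : Submodule R R) m.isHomogeneous).chooseDecomposition
  letI : SetLike.GradedSMul 𝒜 (GrLC.quotGr 𝒜 m) :=
    quotGr_gradedSMul (𝒜 := 𝒜) (𝓧 := 𝒜) (P := (m.toIdeal : Submodule R R))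
  obtain ⟨E', e, he⟩ := Groth.Agent.Lib.Helper20.GrLCHull.exists_starInjHull 𝒜 (GrLC.quotGr 𝒜 m)
  obtain ⟨g₀, φ₀, hφ₀⟩ := Groth.Agent.S13244.result R 𝒜 m hm n hn I E'.carrier E'.gr e he
  letI := Groth.Agent.Lib.Helper20.GrLES2.decH I m n
  have hgr : IsGrHom (I.Hgr m n) (shiftGr E'.gr g₀) φ₀.toLinearMap := fun j x hx => hφ₀ j x hx
  have hsymm : ∀ (i : ℤ) (y : E'.carrier), y ∈ E'.gr (i + g₀) → φ₀.symm y ∈ I.Hgr m n i := by
    intro i y hy
    refine mem_of_map_mem (I.Hgr m n) (shiftGr E'.gr g₀) φ₀.toLinearMap hgr φ₀.injective ?_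
    change φ₀ (φ₀.symm y) ∈ E'.gr (i + g₀)
    rw [φ₀.apply_symm_apply]
    exact hy
  have hmne : m.toIdeal ≠ ⊤ := ne_top 𝒜 hpos h0 m hmsp
  have hmpos : ∀ n : ℤ, 0 < n → ∀ x ∈ 𝒜 n, x ∈ m.toIdeal :=
    fun n hn x hx => mem_of_pos 𝒜 m hmsp hn hx
  have he1 : e 1 ≠ 0 := by
    intro h6
    have h7 : (1 : R ⧸ m.toIdeal) = 0 := he.injective (by rw [h6, map_zero])
    have h8 : Ideal.Quotient.mk m.toIdeal 1 = 0 := h7
    rw [Ideal.Quotient.eq_zero_iff_mem] at h8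
    exact hmne ((Ideal.eq_top_iff_one _).2 h8)
  have h6 : e 1 ∈ E'.gr (-g₀ + g₀) := by
    rw [neg_add_cancel]
    exact range_le_zero' 𝒜 hpos m hmsp E'.gr e he 1
  have hu : φ₀.symm (e 1) ∈ I.Hgr m n (-g₀) := hsymm (-g₀) (e 1) h6
  have hu0 : φ₀.symm (e 1) ≠ 0 := by
    intro h8
    apply he1
    have := congrArg φ₀ h8
    rwa [φ₀.apply_symm_apply, map_zero] at this
  have htop : ∀ j, -g₀ < j → I.Hgr m n j = ⊥ := by
    intro j hj
    rw [eq_bot_iff]
    intro x hx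
    have h5 := hφ₀ j x hx
    rw [hull_eq_bot_of_pos 𝒜 hpos m hmpos E'.gr e he (j + g₀) (by omega), AddSubgroup.mem_bot]
      at h5
    rw [AddSubgroup.mem_bot]
    apply φ₀.injective
    rw [map_zero]
    exact h5
  refine ⟨-g₀, ?_, ⟨htop, ⟨φ₀.symm (e 1), hu, hu0, ?_⟩, ?_⟩, ?_⟩
  · -- the a-invariant
    apply le_antisymm
    · rw [Groth.Agent.Lib.Helper20.GrReg1.endDeg_le_iff]
      intro d hd
      exact htop d hd
    · apply Groth.Agent.Lib.Helper20.GrLES2.le_endDeg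
      exact Groth.Agent.Lib.Helper20.GrAinv.ne_bot_of_mem hu hu0
  · intro x hx
    have h5 := hφ₀ (-g₀) x hx
    rw [neg_add_cancel] at h5
    obtain ⟨c, hc, hcx⟩ := exists_smul_eq_of_mem_zero 𝒜 E'.gr hpos h0 m hmsp e he h5
    refine ⟨c, hc, ?_⟩
    apply φ₀.injective
    rw [map_smul, φ₀.apply_symm_apply]
    exact hcx
  · intro j x hx hx0
    have h5 := hφ₀ j x hx
    have hy0 : φ₀ x ≠ 0 := by
      intro h
      apply hx0
      apply φ₀.injective
      rw [map_zero]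
      exact h
    obtain ⟨r, hr, hry, -⟩ := exists_smul_ne_zero 𝒜 hpos m hmsp E'.gr e he h5 hy0
    have hr' : r ∈ 𝒜 (-g₀ - j) := by
      have : -g₀ - j = -(j + g₀) := by ring
      rwa [this]
    refine ⟨r, hr', ?_⟩
    intro h
    apply hry
    rw [← map_smul, h, map_zero]
  · intro d
    have hd : -g₀ - d + g₀ = -d := by ring
    let Te : comp 𝒜 (I.Hgr m n) (-g₀ - d) ≃ₗ[deg0 𝒜] comp 𝒜 E'.gr (-d) :=
      { toFun := fun x => ⟨φ₀ x.1, by
          have := hφ₀ (-g₀ - d) x.1 x.2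
          rwa [hd] at this⟩
        map_add' := fun x y => Subtype.ext (map_add φ₀ x.1 y.1)
        map_smul' := fun c x => Subtype.ext (map_smul φ₀ (c : R) x.1)
        invFun := fun y => ⟨φ₀.symm y.1, hsymm (-g₀ - d) y.1 (by rw [hd]; exact y.2)⟩
        left_inv := fun x => Subtype.ext (φ₀.symm_apply_apply x.1)
        right_inv := fun y => Subtype.ext (φ₀.apply_symm_apply y.1) }
    rw [LinearEquiv.finrank_eq Te]
    exact finrank_comp_neg 𝒜 E'.gr hpos h0 m hmsp e he d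

end A

section C

variable {R : Type u} [CommRing R] [IsNoetherianRing R] (𝒜 : ℤ → AddSubgroup R)
  [GradedRing 𝒜] (hpos : ∀ n : ℤ, n < 0 → 𝒜 n = ⊥) (h0 : IsField (GrLC.deg0 𝒜))
  (m : HomogeneousIdeal 𝒜) (hm : GrLC.IsStarLocal 𝒜 m)
  (hmsp : m.toIdeal = Ideal.span (⋃ n ∈ Set.Ioi (0 : ℤ), (𝒜 n : Set R)))
  (n : ℕ) (F : GrLC.StarInjRes 𝒜 𝒜)

include hpos h0 hm hmsp in
set_option maxHeartbeats 1000000 in
/-- **a Gorenstein criterion**: if the graded local cohomology of `R` is concentrated in degree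
`n` and looks there like the top local cohomology of a Gorenstein ring, `R` is Gorenstein. -/
theorem isGorensteinRing_of_isGorTop (hvan : ∀ p, p ≠ n → Subsingleton (F.H m p)) (a : ℤ)
    (hG : IsGorTop 𝒜 (F.Hgr m n) a)
    (hdim : ∀ d, Module.finrank (deg0 𝒜) (comp 𝒜 𝒜 d) ≤
      Module.finrank (deg0 𝒜) (comp 𝒜 (F.Hgr m n) (a - d))) : LocCoh.IsGorensteinRing R := by
  classical
  haveI hmmax : m.toIdeal.IsMaximal := isMaximal 𝒜 hpos h0 m hmsp
  haveI hmp : m.toIdeal.IsPrime := hmmax.isPrime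
  letI : DirectSum.Decomposition (GrLC.quotGr 𝒜 m) :=
    (isInternal_quotGr 𝒜 (m.toIdeal : Submodule R R) m.isHomogeneous).chooseDecomposition
  letI : SetLike.GradedSMul 𝒜 (GrLC.quotGr 𝒜 m) :=
    quotGr_gradedSMul (𝒜 := 𝒜) (𝓧 := 𝒜) (P := (m.toIdeal : Submodule R R))
  obtain ⟨E', e, he⟩ := Groth.Agent.Lib.Helper20.GrLCHull.exists_starInjHull 𝒜 (GrLC.quotGr 𝒜 m)
  letI := Groth.Agent.Lib.Helper20.GrLES2.decH F m n
  obtain ⟨u, hu, hu0, hone⟩ := hG.gen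
  obtain ⟨ψ, hψ⟩ := exists_equiv_hull 𝒜 hpos h0 m hmsp E'.gr e he (F.Hgr m n) a u hu hu0 hG.top
    hone hG.nd hdim
  have hconc := Groth.Agent.Lib.Helper20.GrConcentrated.bassNum_eq_zero_of_concentrated 𝒜 𝒜 m n
    F hvan (Groth.Agent.Lib.Helper20.GrLCExt.shiftGMod 𝒜 E' (-a)) ψ
    (Groth.Agent.Lib.Helper20.GrLCExt.isStarInj_shift 𝒜 E'.gr he.starInj (-a))
    (fun j x hx => by
      have := hψ j x hx
      rwa [sub_eq_add_neg] at this)
  exact Groth.Agent.Lib.Helper20.GrGorCrit.isGorensteinRing_of_bassNum 𝒜 m hm n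
    (fun i hi => hconc i (by omega))

end C

end Groth.Agent.Lib.Helper20.SegGor
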