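import Mathlib
import Groth.Agent.Lib.Helper20.SegBase
import Groth.Agent.Lib.Helper20.GrModCM3
import Groth.Agent.Lib.Helper20.GrModNV3

/-!
# Graded Cohen–Macaulay modules over a graded ring defined over a field (helper20)

Wrappers of the module-level Cohen–Macaulay criterion, Grothendieck (non-)vanishing and the
arithmetic progressions of non-vanishing degrees of the top local cohomology.
-/

set_option autoImplicit false
set_option linter.unusedSectionVars false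
set_option linter.unusedVariables false
set_option linter.style.haveILetI false

universe u

open DirectSum GrLC Groth.Agent.Lib.Helper20.GrConv Groth.Agent.Lib.Helper4.LC
  Groth.Agent.Lib.Helper20.SegGr

namespace Groth.Agent.Lib.Helper20.SegBase

variable {k : Type u} [Field k] {R : Type u} [CommRing R] [Algebra k R]
  (𝒜 : ℤ → Submodule k R) [GradedAlgebra 𝒜]
  (hpos : ∀ n : ℤ, n < 0 → 𝒜 n = ⊥) (h0 : 𝒜 0 = Submodule.span k {(1 : R)})
  (m : HomogeneousIdeal 𝒜)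
  (hm : m.toIdeal = Ideal.span (⋃ n ∈ Set.Ioi (0 : ℤ), (𝒜 n : Set R)))
  [Nontrivial R] [IsNoetherianRing R]
  {M : Type u} [AddCommGroup M] [Module R M] [Module.Finite R M] (ℳ : ℤ → AddSubgroup M)
  [DirectSum.Decomposition ℳ] [SetLike.GradedSMul 𝒜 ℳ] (E : StarInjRes 𝒜 ℳ)

include hpos h0 hm in
/-- the dimension of a non-zero finite module is a natural number. -/
theorem modSupportDim_eq_nat [Nontrivial M] : ∃ e : ℕ, Module.supportDim R M = e := by
  haveI : m.toIdeal.IsPrime := (isMaximal 𝒜 hpos h0 m hm).isPrime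
  have hdim := Groth.Agent.Lib.Helper20.GrHeight2.ringKrullDim_eq_height (toAS 𝒜) (idealTo 𝒜 m)
    (isStarLocal 𝒜 hpos h0 m hm) (hposAS 𝒜 hpos)
  obtain ⟨n, hn⟩ := ENat.ne_top_iff_exists.1 (Ideal.height_ne_top_of_isPrime (I := m.toIdeal))
  have hle : Module.supportDim R M ≤ ((n : ℕ) : WithBot ℕ∞) := by
    refine le_trans (Module.supportDim_le_ringKrullDim R M) ?_
    rw [hdim]
    change ((m.toIdeal.height : ℕ∞) : WithBot ℕ∞) ≤ _
    rw [← hn]
    exact le_rfl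
  have hne : Module.supportDim R M ≠ ⊥ := Module.supportDim_ne_bot_of_nontrivial R M
  obtain ⟨x, hx⟩ := WithBot.ne_bot_iff_exists.1 hne
  rw [← hx] at hle
  have hx' : x ≤ (n : ℕ∞) := by exact_mod_cast hle
  obtain ⟨e, he⟩ := ENat.ne_top_iff_exists.1 (ne_top_of_le_ne_top (ENat.coe_ne_top n) hx')
  exact ⟨e, by rw [← hx, ← he]; rfl⟩

/-- Grothendieck vanishing for modules. -/
theorem modHcomp_eq_bot_of_gt (d : ℕ) (hd : Module.supportDim R M ≤ ((d : ℕ) : WithBot ℕ∞))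
    (i : ℕ) (hi : d < i) (n : ℤ) : E.Hcomp m i n = ⊥ := by
  apply Hcomp_eq_bot_of_HH 𝒜 m ℳ E i
  apply HH.subsingleton_of_supportDim_lt
  refine lt_of_le_of_lt hd ?_
  exact_mod_cast hi

include hpos h0 hm in
/-- a Cohen–Macaulay graded module has no local cohomology below its dimension. -/
theorem modHcomp_eq_bot_of_cm [Nontrivial M]
    (hcm : ∀ (q : Ideal R) [q.IsPrime], Subsingleton (LocalizedModule q.primeCompl M) ∨
      LocCoh.IsCohenMacaulayModule (Localization.AtPrime q) (LocalizedModule q.primeCompl M))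
    (d : ℕ) (hd : Module.supportDim R M = d) (i : ℕ) (hi : i < d) (n : ℤ) :
    E.Hcomp m i n = ⊥ := by
  haveI hp : m.toIdeal.IsPrime := (isMaximal 𝒜 hpos h0 m hm).isPrime
  apply Hcomp_eq_bot_of_HH 𝒜 m ℳ E i
  have hnt := Groth.Agent.Lib.Helper20.GrModCM.nontrivial_loc (toAS 𝒜) (hposAS 𝒜 hpos)
    (isField_deg0 𝒜 h0) (idealTo 𝒜 m) (hmAS 𝒜 m hm) (toAS ℳ)
  rcases hcm m.toIdeal with hs | hc
  · exact absurd hs (not_subsingleton_iff_nontrivial.2 hnt)
  · exact Groth.Agent.Lib.Helper20.GrModCM.HH_vanishing_of_cm (toAS 𝒜) (hposAS 𝒜 hpos)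
      (isField_deg0 𝒜 h0) (idealTo 𝒜 m) (hmAS 𝒜 m hm) (toAS ℳ) d hd hc i hi

include hpos h0 hm in
/-- **the graded Cohen–Macaulay criterion for modules.** -/
theorem modCM_of_vanishing [Nontrivial M] (d : ℕ) (hd : Module.supportDim R M = d)
    (h : ∀ i < d, ∀ n : ℤ, E.Hcomp m i n = ⊥) :
    ∀ (q : Ideal R) [q.IsPrime], Subsingleton (LocalizedModule q.primeCompl M) ∨
      LocCoh.IsCohenMacaulayModule (Localization.AtPrime q) (LocalizedModule q.primeCompl M) := by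
  apply Groth.Agent.Lib.Helper20.GrModCM.cm_of_HH_vanishing (toAS 𝒜) (hposAS 𝒜 hpos)
    (isField_deg0 𝒜 h0) (idealTo 𝒜 m) (hmAS 𝒜 m hm) (toAS ℳ) d hd
  intro i hi
  exact subsingleton_HH_of_Hcomp_eq_bot 𝒜 m ℳ E i (h i hi)

include hpos h0 hm in
/-- Grothendieck non-vanishing for graded modules. -/
theorem modHcomp_top_ne_bot [Nontrivial M] (d : ℕ) (hd : Module.supportDim R M = d) :
    ∃ n : ℤ, E.Hcomp m d n ≠ ⊥ := by
  by_contra hcon
  push Not at hcon
  have h1 := subsingleton_HH_of_Hcomp_eq_bot 𝒜 m ℳ E d hcon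
  have h2 := Groth.Agent.Lib.Helper20.GrModCM.nontrivial_HH_top (toAS 𝒜) (hposAS 𝒜 hpos)
    (isField_deg0 𝒜 h0) (idealTo 𝒜 m) (hmAS 𝒜 m hm) (toAS ℳ) d hd
  exact not_subsingleton_iff_nontrivial.2 h2 h1

include hpos h0 hm in
/-- the dimension of a non-zero graded module is the unique degree in which the local cohomology
is non-zero, provided there is only one. -/
theorem modSupportDim_eq_of_unique [Nontrivial M] (c : ℕ)
    (h : ∀ i, i ≠ c → ∀ n : ℤ, E.Hcomp m i n = ⊥) : Module.supportDim R M = c := by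
  obtain ⟨e, he⟩ := modSupportDim_eq_nat 𝒜 hpos h0 m hm (M := M)
  obtain ⟨n, hn⟩ := modHcomp_top_ne_bot 𝒜 hpos h0 m hm ℳ E e he
  by_cases hec : e = c
  · rw [he, hec]
  · exact absurd (h e hec n) hn

include hpos h0 hm in
/-- **arithmetic progressions of non-vanishing degrees** of the top local cohomology of a graded
Cohen–Macaulay module of positive dimension. -/
theorem modHcomp_progression [Nontrivial M]
    (hcm : ∀ (q : Ideal R) [q.IsPrime], Subsingleton (LocalizedModule q.primeCompl M) ∨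
      LocCoh.IsCohenMacaulayModule (Localization.AtPrime q) (LocalizedModule q.primeCompl M))
    (r : ℕ) (hr : 1 ≤ r) (hd : Module.supportDim R M = r) :
    ∃ e : ℕ, 0 < e ∧ ∀ d : ℤ, ℳ d ≠ ⊥ → ∃ n₀ : ℕ, ∀ n : ℕ, n₀ ≤ n →
      E.Hcomp m r (d - (n : ℤ) * (e : ℤ)) ≠ ⊥ := by
  have hlow : ∀ i < r, Subsingleton ((resTo 𝒜 ℳ E).H (idealTo 𝒜 m) i) := by
    intro i hi
    exact subsingleton_H_of_Hcomp_eq_bot 𝒜 m ℳ E i
      (fun n => modHcomp_eq_bot_of_cm 𝒜 hpos h0 m hm ℳ E hcm r hd i hi n)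
  obtain ⟨e, he, h⟩ := Groth.Agent.Lib.Helper20.GrModNV.nv_cor (toAS 𝒜) (hposAS 𝒜 hpos)
    (isField_deg0 𝒜 h0) (idealTo 𝒜 m) (hmAS 𝒜 m hm) r hr M (toAS ℳ) (resTo 𝒜 ℳ E) hlow hd.le
  refine ⟨e, he, fun d hd' => ?_⟩
  have hd'' : toAS ℳ d ≠ ⊥ := by
    intro hbot
    apply hd'
    rw [eq_bot_iff]
    intro x hx
    have hx' : x ∈ toAS ℳ d := hx
    rw [hbot] at hx'
    exact hx'
  obtain ⟨n₀, hn₀⟩ := h d hd''
  refine ⟨n₀, fun n hn hbot => hn₀ n hn ?_⟩
  rw [eq_bot_iff]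
  intro x hx
  have hx' : x ∈ E.Hcomp m r (d - (n : ℤ) * (e : ℤ)) := hx
  rw [hbot] at hx'
  exact hx'

end Groth.Agent.Lib.Helper20.SegBase
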