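import Mathlib
import Groth.Agent.Lib.Helper20.SegModCM
import Groth.Agent.Lib.Helper20.SegMain3
import Groth.Agent.Lib.Helper20.SegCM2

/-!
# Segre products of graded modules: basic facts (helper20)

The graded action on an abstract Segre product, its non-zero pieces, and the conversion of the
dimension count of pieces into vanishing statements.
-/

set_option autoImplicit false
set_option linter.unusedSectionVars false
set_option linter.unusedVariables false
set_option linter.style.haveILetI false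

universe u

open TensorProduct DirectSum Groth.Agent.Lib.Helper20.SegKun Groth.Agent.Lib.Helper20.SegTP
  Groth.Agent.Lib.Helper20.GrConv GrLC Groth.Agent.Lib.Helper4.LC
  Groth.Agent.Lib.Helper20.SegAcyc Groth.Agent.Lib.Helper20.GrLCBasic

namespace Groth.Agent.Lib.Helper20.SegGr

variable {k : Type u} [Field k]

section gsmul

variable {R S T : Type u} [CommRing R] [CommRing S] [CommRing T] [Algebra k R] [Algebra k S]
  [Algebra k T]
  (𝒜 : ℤ → Submodule k R) [GradedAlgebra 𝒜] (ℬ : ℤ → Submodule k S) [GradedAlgebra ℬ]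
  (𝒯 : ℤ → Submodule k T) [GradedAlgebra 𝒯] (ψ : T →ₐ[k] R ⊗[k] S)
  (hT : GrSeg.IsSegreRing 𝒜 ℬ 𝒯 ψ)
  {M : Type u} [AddCommGroup M] [Module R M] [Module k M] [IsScalarTower k R M]
  (ℳ : ℤ → AddSubgroup M) [SetLike.GradedSMul 𝒜 ℳ]
  {N : Type u} [AddCommGroup N] [Module S N] [Module k N] [IsScalarTower k S N]
  (𝒩 : ℤ → AddSubgroup N) [SetLike.GradedSMul ℬ 𝒩]
  {P : Type u} [AddCommGroup P] [Module T P] [Module k P] [IsScalarTower k T P]
  (𝒬 : ℤ → AddSubgroup P) [DirectSum.Decomposition 𝒬]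
  (φ : P →ₗ[k] M ⊗[k] N) (hP : GrSeg.IsSegreMod ψ ℳ 𝒩 𝒬 φ)

/-- the action of `R ⊗ S` on `M ⊗ N` respects the Segre pieces. -/
theorem act_mem_segrePiece (i j : ℤ) (α : R ⊗[k] S) (hα : α ∈ GrSeg.segrePiece k 𝒜 ℬ i)
    (e : M ⊗[k] N) (he : e ∈ GrSeg.segrePiece k ℳ 𝒩 j) :
    GrSeg.act k R S M N α e ∈ GrSeg.segrePiece k ℳ 𝒩 (i + j) := by
  induction hα using Submodule.span_induction with
  | mem α hα =>
    obtain ⟨x, hx, y, hy, rfl⟩ := hα
    induction he using Submodule.span_induction with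
    | mem e he =>
      obtain ⟨x', hx', y', hy', rfl⟩ := he
      rw [GrSeg.act_tmul]
      refine Submodule.subset_span ⟨_, ?_, _, ?_, rfl⟩
      · have := SetLike.GradedSMul.smul_mem (A := 𝒜) (B := ℳ) hx hx'
        rwa [vadd_eq_add] at this
      · have := SetLike.GradedSMul.smul_mem (A := ℬ) (B := 𝒩) hy hy'
        rwa [vadd_eq_add] at this
    | zero => rw [map_zero]; exact zero_mem _
    | add e e' _ _ he he' => rw [map_add]; exact add_mem he he'
    | smul c e _ he => rw [map_smul]; exact Submodule.smul_mem _ c he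
  | zero => rw [map_zero, LinearMap.zero_apply]; exact zero_mem _
  | add α α' _ _ hα hα' => rw [map_add, LinearMap.add_apply]; exact add_mem hα hα'
  | smul c α _ hα => rw [map_smul, LinearMap.smul_apply]; exact Submodule.smul_mem _ c hα

include hT hP in
/-- an abstract Segre product of graded modules is a graded module over the Segre product of the
rings. -/
theorem gradedSMul_of_isSegreMod : SetLike.GradedSMul 𝒯 𝒬 := by
  refine ⟨fun {i j t p} ht hp => ?_⟩
  have h1 : ψ t ∈ GrSeg.segrePiece k 𝒜 ℬ i := by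
    rw [← hT.2 i]
    exact Submodule.mem_map_of_mem ht
  have h2 : φ p ∈ GrSeg.segrePiece k ℳ 𝒩 j := by
    have h : φ p ∈ φ '' (𝒬 j : Set P) := ⟨p, hp, rfl⟩
    rw [hP.image_piece j] at h
    exact h
  have h3 := act_mem_segrePiece 𝒜 ℬ ℳ 𝒩 i j (ψ t) h1 (φ p) h2
  have h4 : GrSeg.act k R S M N (ψ t) (φ p) ∈ φ '' (𝒬 (i + j) : Set P) := by
    rw [hP.image_piece (i + j)]
    exact h3
  obtain ⟨p', hp', hpp⟩ := h4
  rw [← hP.map_smul] at hpp
  rw [vadd_eq_add, ← hP.injective hpp]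
  exact hp'

include hP in
/-- a non-zero Segre product has a degree in which both factors are non-zero. -/
theorem exists_pieces_ne_bot [Nontrivial P] : ∃ d : ℤ, ℳ d ≠ ⊥ ∧ 𝒩 d ≠ ⊥ := by
  classical
  obtain ⟨p, hp⟩ := exists_ne (0 : P)
  have h1 : DirectSum.decompose 𝒬 p ≠ 0 := by
    intro h
    apply hp
    have := congrArg (DirectSum.decompose 𝒬).symm h
    rwa [Equiv.symm_apply_apply, DirectSum.decompose_symm_zero] at this
  obtain ⟨d, hd⟩ : ∃ d, (DirectSum.decompose 𝒬 p) d ≠ 0 := by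
    by_contra hcon
    push Not at hcon
    exact h1 (DFinsupp.ext hcon)
  have hpd : ((DirectSum.decompose 𝒬 p) d : P) ≠ 0 := fun h => hd (Subtype.ext h)
  have hφ : φ ((DirectSum.decompose 𝒬 p) d : P) ≠ 0 := by
    intro h
    apply hpd
    apply hP.injective
    rw [h, map_zero]
  have hmem : φ ((DirectSum.decompose 𝒬 p) d : P) ∈ GrSeg.segrePiece k ℳ 𝒩 d := by
    have h : φ ((DirectSum.decompose 𝒬 p) d : P) ∈ φ '' (𝒬 d : Set P) :=
      ⟨_, ((DirectSum.decompose 𝒬 p) d).2, rfl⟩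
    rw [hP.image_piece d] at h
    exact h
  refine ⟨d, fun hbot => hφ ?_, fun hbot => hφ ?_⟩
  · have hle : GrSeg.segrePiece k ℳ 𝒩 d ≤ ⊥ := by
      apply Submodule.span_le.2
      rintro _ ⟨a, ha, b, hb, rfl⟩
      rw [hbot, AddSubgroup.mem_bot] at ha
      rw [ha, zero_tmul]
      exact zero_mem _
    exact (Submodule.mem_bot k).1 (hle hmem)
  · have hle : GrSeg.segrePiece k ℳ 𝒩 d ≤ ⊥ := by
      apply Submodule.span_le.2
      rintro _ ⟨a, ha, b, hb, rfl⟩
      rw [hbot, AddSubgroup.mem_bot] at hb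
      rw [hb, tmul_zero]
      exact zero_mem _
    exact (Submodule.mem_bot k).1 (hle hmem)

end gsmul

section finrank

variable {R : Type u} [CommRing R] [Nontrivial R] [Algebra k R] (𝒜 : ℤ → Submodule k R)
  [GradedAlgebra 𝒜] (h0 : 𝒜 0 = Submodule.span k {(1 : R)}) [IsNoetherianRing R]
  {M : Type u} [AddCommGroup M] [Module R M] [Module k M] [IsScalarTower k R M]
  (ℳ : ℤ → AddSubgroup M) [DirectSum.Decomposition ℳ] [SetLike.GradedSMul 𝒜 ℳ]
  [Module.Finite R M] (E : StarInjRes 𝒜 ℳ)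

include h0 E in
/-- a piece of a finite graded module vanishes iff its dimension is zero. -/
theorem finrank_comp_eq_zero_iff (d : ℤ) :
    Module.finrank (deg0 𝒜) (comp 𝒜 ℳ d) = 0 ↔ ℳ d = ⊥ := by
  rw [← finrank_Vd_H0 𝒜 ℳ E d h0]
  haveI := finite_Vd_H0 𝒜 ℳ E d h0
  constructor
  · intro h
    haveI : Subsingleton ((Vd (gcxOf 𝒜 ℳ E) d).H 0) := Module.finrank_zero_iff.1 h
    haveI : Subsingleton ↥((gaugOf 𝒜 ℳ E).PM.piece d) :=
      (H0Equiv (gaugOf 𝒜 ℳ E) d).toEquiv.subsingleton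
    rw [eq_bot_iff]
    intro x hx
    have : (⟨x, hx⟩ : ↥(comp 𝒜 ℳ d)) = 0 :=
      (pieceAddEquiv 𝒜 ℳ E d).symm.injective (Subsingleton.elim _ _)
    exact congrArg Subtype.val this
  · intro h
    haveI : Subsingleton ↥(comp 𝒜 ℳ d) := by
      refine ⟨fun x y => Subtype.ext ?_⟩
      have hx : x.1 ∈ ℳ d := x.2
      have hy : y.1 ∈ ℳ d := y.2
      rw [h, AddSubgroup.mem_bot] at hx hy
      rw [hx, hy]
    haveI : Subsingleton ↥((gaugOf 𝒜 ℳ E).PM.piece d) :=
      (pieceAddEquiv 𝒜 ℳ E d).toEquiv.subsingleton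
    haveI : Subsingleton ((Vd (gcxOf 𝒜 ℳ E) d).H 0) :=
      (H0Equiv (gaugOf 𝒜 ℳ E) d).symm.toEquiv.subsingleton
    exact Module.finrank_zero_of_subsingleton

end finrank

end Groth.Agent.Lib.Helper20.SegGr
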