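import Mathlib
import Groth.Agent.Lib.Helper20.GrHilbDim
import Groth.Agent.Lib.Helper20.SegModCM2
import Groth.Agent.S19750

/-!
# Hilbert functions of Segre products (helper20)
-/

set_option autoImplicit false
set_option linter.unusedSectionVars false
set_option linter.unusedVariables false
set_option linter.style.haveILetI false

universe u

open TensorProduct DirectSum GrLC Groth.Agent.Lib.Helper20.GrConv
  Groth.Agent.Lib.Helper20.LenEuler Groth.Agent.Lib.Helper20.GrHilbDeg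

namespace Groth.Agent.Lib.Helper20.SegHilb

variable {k : Type u} [Field k]

section piece

variable {R : Type u} [CommRing R] [Algebra k R] (𝒜 : ℤ → Submodule k R) [GradedAlgebra 𝒜]
  {M : Type u} [AddCommGroup M] [Module R M] [Module k M] [IsScalarTower k R M]
  (ℳ : ℤ → AddSubgroup M) [SetLike.GradedSMul 𝒜 ℳ]

/-- the piece `M_d` as a `k`-subspace. -/
def pieceK (d : ℤ) : Submodule k M where
  carrier := ℳ d
  add_mem' := add_mem
  zero_mem' := zero_mem _
  smul_mem' c x hx := by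
    have h1 : algebraMap k R c ∈ 𝒜 0 := SetLike.algebraMap_mem_graded 𝒜 c
    have h2 := SetLike.GradedSMul.smul_mem (A := 𝒜) (B := ℳ) h1 hx
    rw [vadd_eq_add, zero_add, algebraMap_smul] at h2
    exact h2

lemma mem_pieceK {d : ℤ} {x : M} : x ∈ pieceK 𝒜 ℳ d ↔ x ∈ ℳ d := Iff.rfl

end piece

section segre

variable {R S T : Type u} [CommRing R] [CommRing S] [CommRing T] [Algebra k R] [Algebra k S]
  [Algebra k T]
  (𝒜 : ℤ → Submodule k R) [GradedAlgebra 𝒜] (ℬ : ℤ → Submodule k S) [GradedAlgebra ℬ]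
  (𝒯 : ℤ → Submodule k T) [GradedAlgebra 𝒯] (ψ : T →ₐ[k] R ⊗[k] S)
  {M : Type u} [AddCommGroup M] [Module R M] [Module k M] [IsScalarTower k R M]
  (ℳ : ℤ → AddSubgroup M) [SetLike.GradedSMul 𝒜 ℳ]
  {N : Type u} [AddCommGroup N] [Module S N] [Module k N] [IsScalarTower k S N]
  (𝒩 : ℤ → AddSubgroup N) [SetLike.GradedSMul ℬ 𝒩]
  {P : Type u} [AddCommGroup P] [Module T P] [Module k P] [IsScalarTower k T P]
  (𝒬 : ℤ → AddSubgroup P) [DirectSum.Decomposition 𝒬] [SetLike.GradedSMul 𝒯 𝒬]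
  (φ : P →ₗ[k] M ⊗[k] N) (hP : GrSeg.IsSegreMod ψ ℳ 𝒩 𝒬 φ)

theorem segrePiece_eq_range (d : ℤ) :
    GrSeg.segrePiece k ℳ 𝒩 d =
      LinearMap.range (TensorProduct.mapIncl (pieceK 𝒜 ℳ d) (pieceK ℬ 𝒩 d)) := by
  rw [TensorProduct.range_mapIncl, Submodule.map₂_eq_span_image2]
  unfold GrSeg.segrePiece
  congr 1
  ext x
  constructor
  · rintro ⟨a, ha, b, hb, rfl⟩
    exact ⟨a, ha, b, hb, rfl⟩
  · rintro ⟨a, ha, b, hb, rfl⟩
    exact ⟨a, ha, b, hb, rfl⟩

theorem finrank_segrePiece (d : ℤ) :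
    Module.finrank k (GrSeg.segrePiece k ℳ 𝒩 d) =
      Module.finrank k (pieceK 𝒜 ℳ d) * Module.finrank k (pieceK ℬ 𝒩 d) := by
  rw [segrePiece_eq_range 𝒜 ℬ ℳ 𝒩 d]
  have hinj : Function.Injective (TensorProduct.mapIncl (pieceK 𝒜 ℳ d) (pieceK ℬ 𝒩 d)) :=
    TensorProduct.map_injective_of_flat_flat _ _ (Submodule.injective_subtype _)
      (Submodule.injective_subtype _)
  rw [LinearMap.finrank_range_of_inj hinj, Module.finrank_tensorProduct]

include hP in
theorem finrank_pieceK_segre (d : ℤ) :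
    Module.finrank k (pieceK 𝒯 𝒬 d) =
      Module.finrank k (pieceK 𝒜 ℳ d) * Module.finrank k (pieceK ℬ 𝒩 d) := by
  rw [← finrank_segrePiece 𝒜 ℬ ℳ 𝒩 d]
  have hmap : (pieceK 𝒯 𝒬 d).map φ = GrSeg.segrePiece k ℳ 𝒩 d := by
    apply SetLike.coe_injective
    rw [Submodule.map_coe]
    exact hP.image_piece d
  rw [← hmap]
  exact (Submodule.equivMapOfInjective φ hP.injective (pieceK 𝒯 𝒬 d)).finrank_eq

end segre

section len

variable {R : Type u} [CommRing R] [Nontrivial R] [Algebra k R] (𝒜 : ℤ → Submodule k R)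
  [GradedAlgebra 𝒜] (h0 : 𝒜 0 = Submodule.span k {(1 : R)}) [IsNoetherianRing R]
  {M : Type u} [AddCommGroup M] [Module R M] [Module k M] [IsScalarTower k R M]
  (ℳ : ℤ → AddSubgroup M) [DirectSum.Decomposition ℳ] [SetLike.GradedSMul 𝒜 ℳ]
  [Module.Finite R M]

include h0 in
/-- the length of a piece over the degree zero subring is its dimension over `k`. -/
theorem len_comp_eq (d : ℤ) :
    len (deg0 (toAS 𝒜)) (comp (toAS 𝒜) (toAS ℳ) d) =
      (Module.finrank k (pieceK 𝒜 ℳ d) : ℚ) := by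
  letI : Field (deg0 (toAS 𝒜)) :=
    (Groth.Agent.Lib.Helper20.SegBase.isField_deg0 𝒜 h0).toField
  haveI : IsNoetherian R M := isNoetherian_of_isNoetherianRing_of_finite R M
  haveI hN := Groth.Agent.Lib.Helper20.GrFin1.isNoetherian_comp (toAS 𝒜) (toAS ℳ) d
  haveI : Module.Finite (deg0 (toAS 𝒜)) ↥(comp (toAS 𝒜) (toAS ℳ) d) :=
    Module.IsNoetherian.finite _ _
  let j : ↥(pieceK 𝒜 ℳ d) ≃+ ↥(comp (toAS 𝒜) (toAS ℳ) d) :=
    { toFun := fun x => ⟨x.1, x.2⟩
      invFun := fun x => ⟨x.1, x.2⟩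
      left_inv := fun _ => rfl
      right_inv := fun _ => rfl
      map_add' := fun _ _ => rfl }
  have h1 := Groth.Agent.Lib.Helper20.SegGr.finrank_eq_of_addEquiv_sub (deg0 (toAS 𝒜))
    (Groth.Agent.Lib.Helper20.SegGr.mem_deg0_toAS_iff 𝒜 h0) (comp (toAS 𝒜) (toAS ℳ) d) j
    (fun c v => by
      change c • v.1 = algebraMap k R c • v.1
      rw [algebraMap_smul])
  unfold len
  rw [Module.length_eq_finrank, h1]
  simp

end len

end Groth.Agent.Lib.Helper20.SegHilb
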