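import Mathlib
import Groth.Agent.Lib.Helper20.SegGor1
import Groth.Agent.Lib.Helper20.SegHilb
import Groth.Agent.Lib.Helper20.SegTP2
import Groth.Agent.Lib.Helper20.SegCanon

/-!
# The Segre product of two modules which look like top local cohomology of Gorenstein rings
(helper20)
-/

set_option autoImplicit false
set_option linter.unusedSectionVars false
set_option linter.unusedVariables false
set_option linter.style.haveILetI false

universe u

open TensorProduct DirectSum GrLC Groth.Agent.Lib.Helper20.GrConv Groth.Agent.Lib.Helper20.SegTP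
  Groth.Agent.Lib.Helper20.SegHilb Groth.Agent.Lib.Helper20.SegGr

namespace Groth.Agent.Lib.Helper20.SegGor

section tensor

variable {k : Type u} [Field k] {R : Type u} [CommRing R] [Algebra k R]
  {X : Type u} [AddCommGroup X] [Module R X] [Module k X] [IsScalarTower k R X]
  {Y : Type u} [AddCommGroup Y] [Module k Y]

lemma leftEquiv_tmul_apply (x : X) (y : Y) (i : Module.Basis.ofVectorSpaceIndex k Y) :
    leftEquiv k R X Y (x ⊗ₜ[k] y) i = (Module.Basis.ofVectorSpace k Y).repr y i • x := by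
  classical
  unfold leftEquiv
  rw [LinearEquiv.trans_apply, TensorProduct.AlgebraTensorModule.congr_tmul,
    TensorProduct.finsuppScalarRight_apply_tmul_apply]
  rfl

omit [Module R X] [IsScalarTower k R X] in
/-- over a field the tensor product of two non-zero vectors is non-zero. -/
lemma tmul_ne_zero' {u : X} {v : Y} (hu : u ≠ 0) (hv : v ≠ 0) : u ⊗ₜ[k] v ≠ 0 := by
  intro h
  have h1 : (Module.Basis.ofVectorSpace k Y).repr v ≠ 0 := by
    intro h2
    exact hv ((Module.Basis.ofVectorSpace k Y).repr.map_eq_zero_iff.1 h2)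
  obtain ⟨i, hi⟩ := Finsupp.ne_iff.1 h1
  rw [Finsupp.zero_apply] at hi
  have h3 := leftEquiv_tmul_apply (R := k) u v i
  rw [h, map_zero, Finsupp.zero_apply] at h3
  exact smul_ne_zero hi hu h3.symm

end tensor

section transport

/-- transport of `IsGorTop` along equalities of pieces. -/
theorem IsGorTop.of_iff {R : Type u} [CommRing R] {𝒜 𝒜' : ℤ → AddSubgroup R} {X : Type u}
    [AddCommGroup X] [Module R X] {𝒳 𝒳' : ℤ → AddSubgroup X} {a : ℤ} (h : IsGorTop 𝒜 𝒳 a)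
    (hA : ∀ j r, r ∈ 𝒜 j ↔ r ∈ 𝒜' j) (hX : ∀ j x, x ∈ 𝒳 j ↔ x ∈ 𝒳' j) : IsGorTop 𝒜' 𝒳' a where
  top j hj := by
    rw [eq_bot_iff]
    intro x hx
    have := (hX j x).2 hx
    rw [h.top j hj] at this
    exact this
  gen := by
    obtain ⟨u, hu, hu0, hone⟩ := h.gen
    refine ⟨u, (hX a u).1 hu, hu0, fun x hx => ?_⟩
    obtain ⟨c, hc, hcx⟩ := hone x ((hX a x).2 hx)
    exact ⟨c, (hA 0 c).1 hc, hcx⟩
  nd j x hx hx0 := by
    obtain ⟨r, hr, hrx⟩ := h.nd j x ((hX j x).2 hx) hx0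
    exact ⟨r, (hA _ r).1 hr, hrx⟩

end transport

section B

attribute [local instance] actModule

variable {k : Type u} [Field k] {R S T : Type u} [CommRing R] [CommRing S] [CommRing T]
  [Algebra k R] [Algebra k S] [Algebra k T]
  (𝒜 : ℤ → Submodule k R) [GradedAlgebra 𝒜] (ℬ : ℤ → Submodule k S) [GradedAlgebra ℬ]
  (𝒯 : ℤ → Submodule k T) [GradedAlgebra 𝒯] (ψ : T →ₐ[k] R ⊗[k] S)
  (hT : GrSeg.IsSegreRing 𝒜 ℬ 𝒯 ψ)
  (h0R : 𝒜 0 = Submodule.span k {(1 : R)}) (h0S : ℬ 0 = Submodule.span k {(1 : S)})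
  {X : Type u} [AddCommGroup X] [Module R X] [Module k X] [IsScalarTower k R X]
  (𝒳 : ℤ → AddSubgroup X) [SetLike.GradedSMul 𝒜 𝒳]
  {Y : Type u} [AddCommGroup Y] [Module S Y] [Module k Y] [IsScalarTower k S Y]
  (𝒴 : ℤ → AddSubgroup Y) [SetLike.GradedSMul ℬ 𝒴]
  {P : Type u} [AddCommGroup P] [Module T P] [Module k P] [IsScalarTower k T P]
  (𝒬 : ℤ → AddSubgroup P) [DirectSum.Decomposition 𝒬]
  (φ : P →ₗ[k] X ⊗[k] Y) (hP : GrSeg.IsSegreMod ψ 𝒳 𝒴 𝒬 φ) (a : ℤ)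
  (GX : IsGorTop (toAS 𝒜) 𝒳 a) (GY : IsGorTop (toAS ℬ) 𝒴 a)

include hT h0R h0S hP GX GY in
set_option maxHeartbeats 1000000 in
/-- **the Segre product of two modules of Gorenstein top type with the same `a`-invariant is of
Gorenstein top type.** -/
theorem isGorTop_segre : IsGorTop (toAS 𝒯) 𝒬 a := by
  classical
  have hmemφ : ∀ j x, x ∈ 𝒬 j → φ x ∈ GrSeg.segrePiece k 𝒳 𝒴 j := by
    intro j x hx
    have : φ x ∈ (GrSeg.segrePiece k 𝒳 𝒴 j : Set (X ⊗[k] Y)) := by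
      rw [← hP.image_piece j]
      exact ⟨x, hx, rfl⟩
    exact this
  refine ⟨?_, ?_, ?_⟩
  · intro j hj
    rw [eq_bot_iff]
    intro x hx
    rw [AddSubgroup.mem_bot]
    apply hP.injective
    rw [map_zero]
    have h2 : GrSeg.segrePiece k 𝒳 𝒴 j ≤ ⊥ := by
      apply Submodule.span_le.2
      rintro _ ⟨x', hx', y', hy', rfl⟩
      rw [GX.top j hj, AddSubgroup.mem_bot] at hx'
      rw [hx', zero_tmul]
      exact Submodule.zero_mem _
    exact (Submodule.mem_bot k).1 (h2 (hmemφ j x hx))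
  · obtain ⟨u, hu, hu0, hone⟩ := GX.gen
    obtain ⟨v, hv, hv0, hone'⟩ := GY.gen
    have h1 : u ⊗ₜ[k] v ∈ (GrSeg.segrePiece k 𝒳 𝒴 a : Set (X ⊗[k] Y)) :=
      Submodule.subset_span ⟨u, hu, v, hv, rfl⟩
    rw [← hP.image_piece a] at h1
    obtain ⟨w, hw, hwuv⟩ := h1
    refine ⟨w, hw, ?_, ?_⟩
    · intro h
      rw [h, map_zero] at hwuv
      exact tmul_ne_zero' hu0 hv0 hwuv.symm
    · intro x hx
      have h3 : GrSeg.segrePiece k 𝒳 𝒴 a ≤ Submodule.span k {u ⊗ₜ[k] v} := by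
        apply Submodule.span_le.2
        rintro _ ⟨x', hx', y', hy', rfl⟩
        obtain ⟨c, hc, rfl⟩ := hone x' hx'
        obtain ⟨c', hc', rfl⟩ := hone' y' hy'
        have hc1 : c ∈ 𝒜 0 := hc
        have hc1' : c' ∈ ℬ 0 := hc'
        rw [h0R, Submodule.mem_span_singleton] at hc1
        rw [h0S, Submodule.mem_span_singleton] at hc1'
        obtain ⟨l, rfl⟩ := hc1
        obtain ⟨l', rfl⟩ := hc1'
        rw [SetLike.mem_coe, Submodule.mem_span_singleton]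
        refine ⟨l * l', ?_⟩
        rw [smul_assoc, one_smul, smul_assoc, one_smul, TensorProduct.smul_tmul_smul]
      obtain ⟨l, hl⟩ := Submodule.mem_span_singleton.1 (h3 (hmemφ a x hx))
      refine ⟨algebraMap k T l, SetLike.algebraMap_mem_graded 𝒯 l, ?_⟩
      apply hP.injective
      rw [algebraMap_smul, map_smul, hwuv, hl]
  · intro j x hx hx0
    obtain ⟨u, hu, hu0, hone⟩ := GX.gen
    obtain ⟨ω, hω⟩ : ∃ ω, ω = φ x := ⟨_, rfl⟩
    have hω0 : ω ≠ 0 := by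
      intro h
      apply hx0
      apply hP.injective
      rw [← hω, h, map_zero]
    have hωm : ω ∈ GrSeg.segrePiece k 𝒳 𝒴 j := by
      rw [hω]
      exact hmemφ j x hx
    have hcoord : ∀ w ∈ GrSeg.segrePiece k 𝒳 𝒴 j, ∀ i, leftEquiv k R X Y w i ∈ 𝒳 j := by
      intro w hw i
      refine Submodule.span_induction (p := fun w _ => leftEquiv k R X Y w i ∈ 𝒳 j) ?_ ?_ ?_ ?_ hw
      · rintro _ ⟨x', hx', y', hy', rfl⟩
        rw [leftEquiv_tmul_apply]
        exact (pieceK 𝒜 𝒳 j).smul_mem _ hx'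
      · rw [map_zero]
        exact zero_mem _
      · intro w w' _ _ h h'
        rw [map_add, Finsupp.add_apply]
        exact add_mem h h'
      · intro c w _ h
        rw [← algebraMap_smul R c w, map_smul, Finsupp.smul_apply, algebraMap_smul]
        exact (pieceK 𝒜 𝒳 j).smul_mem c h
    obtain ⟨i, hi⟩ : ∃ i, leftEquiv k R X Y ω i ≠ 0 := by
      by_contra hcon
      push_neg at hcon
      apply hω0
      apply (leftEquiv k R X Y).injective
      rw [map_zero]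
      exact Finsupp.ext hcon
    obtain ⟨α, hα, hαne⟩ := GX.nd j _ (hcoord ω hωm i) hi
    have hαω : α • ω ≠ 0 := by
      intro h
      apply hαne
      have h2 : leftEquiv k R X Y (α • ω) i = α • leftEquiv k R X Y ω i := by
        rw [map_smul, Finsupp.smul_apply]
      rw [← h2, h, map_zero, Finsupp.zero_apply]
    have hform : ∀ w ∈ GrSeg.segrePiece k 𝒳 𝒴 j, ∃ y' ∈ 𝒴 j, α • w = u ⊗ₜ[k] y' := by
      intro w hw
      refine Submodule.span_induction (p := fun w _ => ∃ y' ∈ 𝒴 j, α • w = u ⊗ₜ[k] y')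
        ?_ ?_ ?_ ?_ hw
      · rintro _ ⟨x', hx', y', hy', rfl⟩
        have h1 := SetLike.GradedSMul.smul_mem (A := 𝒜) (B := 𝒳) hα hx'
        rw [vadd_eq_add, sub_add_cancel] at h1
        obtain ⟨c, hc, hcx⟩ := hone _ h1
        have hc1 : c ∈ 𝒜 0 := hc
        rw [h0R, Submodule.mem_span_singleton] at hc1
        obtain ⟨l, rfl⟩ := hc1
        refine ⟨l • y', (pieceK ℬ 𝒴 j).smul_mem l hy', ?_⟩
        rw [TensorProduct.smul_tmul', hcx, smul_assoc, one_smul, TensorProduct.smul_tmul]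
      · exact ⟨0, zero_mem _, by rw [smul_zero, tmul_zero]⟩
      · rintro w w' _ _ ⟨y1, hy1, h1⟩ ⟨y2, hy2, h2⟩
        exact ⟨y1 + y2, add_mem hy1 hy2, by rw [smul_add, h1, h2, tmul_add]⟩
      · rintro c w _ ⟨y1, hy1, h1⟩
        exact ⟨c • y1, (pieceK ℬ 𝒴 j).smul_mem c hy1, by rw [smul_comm, h1, tmul_smul]⟩
    obtain ⟨y', hy', hαωy⟩ := hform ω hωm
    have hy'0 : y' ≠ 0 := by
      rintro rfl
      exact hαω (by rw [hαωy, tmul_zero])
    obtain ⟨β, hβ, hβne⟩ := GY.nd j y' hy' hy'0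
    have hαβ : α ⊗ₜ[k] β ∈ (𝒯 (a - j)).map ψ.toLinearMap := by
      rw [hT.2 (a - j)]
      exact Submodule.subset_span ⟨α, hα, β, hβ, rfl⟩
    obtain ⟨t, ht, htψ⟩ := hαβ
    refine ⟨t, ht, ?_⟩
    intro h
    have h1 : φ (t • x) = (α ⊗ₜ[k] β : R ⊗[k] S) • ω := by
      rw [hP.map_smul, smul_def, hω]
      congr 2
    have h2 : (α ⊗ₜ[k] β : R ⊗[k] S) • ω = u ⊗ₜ[k] (β • y') := by
      have h3 : (α ⊗ₜ[k] β : R ⊗[k] S) = ((1 : R) ⊗ₜ[k] β) * (α ⊗ₜ[k] (1 : S)) := by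
        rw [Algebra.TensorProduct.tmul_mul_tmul, one_mul, mul_one]
      rw [h3, mul_smul, includeLeft_smul, hαωy, tmul_smul_tmul, one_smul]
    rw [h, map_zero] at h1
    exact tmul_ne_zero' hu0 hβne (h2.symm.trans h1.symm)

omit [DirectSum.Decomposition 𝒬] in
/-- the pieces of a ring as `k`-subspaces. -/
lemma pieceK_self (d : ℤ) :
    haveI := gradedSMul_modToAS 𝒜 𝒜
    pieceK 𝒜 (toAS 𝒜) d = 𝒜 d := by
  ext x
  exact Iff.rfl

include hT hP in
/-- the dimensions of the pieces of the Segre product of two modules of Gorenstein top type. -/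
theorem finrank_pieceK_segre_top [SetLike.GradedSMul 𝒯 𝒬]
    (hdX : ∀ d, Module.finrank k (pieceK 𝒜 𝒳 (a - d)) = Module.finrank k (𝒜 d))
    (hdY : ∀ d, Module.finrank k (pieceK ℬ 𝒴 (a - d)) = Module.finrank k (ℬ d)) (d : ℤ) :
    Module.finrank k (pieceK 𝒯 𝒬 (a - d)) = Module.finrank k (𝒯 d) := by
  have := gradedSMul_modToAS 𝒜 𝒜
  have := gradedSMul_modToAS ℬ ℬ
  have := gradedSMul_modToAS 𝒯 𝒯
  rw [finrank_pieceK_segre 𝒜 ℬ 𝒯 ψ 𝒳 𝒴 𝒬 φ hP (a - d), hdX d, hdY d]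
  have h1 := finrank_pieceK_segre 𝒜 ℬ 𝒯 ψ (toAS 𝒜) (toAS ℬ) (toAS 𝒯) ψ.toLinearMap
    (Groth.Agent.Lib.Helper20.SegBase.isSegreMod_self 𝒜 ℬ 𝒯 ψ hT) d
  rw [pieceK_self 𝒜 d, pieceK_self ℬ d, pieceK_self 𝒯 d] at h1
  exact h1.symm

end B

end Groth.Agent.Lib.Helper20.SegGor
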