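import Mathlib
import Groth.Agent.Lib.Helper20.SegDeg3

/-!
# The total complex `G ⊗ H` when `H` is concentrated in degree zero (helper20)

Torsion of `X ⊗ Y` when `Y` is torsion free; the summand `(q, 0)` of the total complex.
-/

set_option autoImplicit false
set_option linter.unusedSectionVars false
set_option linter.unusedVariables false
set_option linter.style.haveILetI false

universe u

open TensorProduct DirectSum Groth.Agent.Lib.Helper20.SegKun Groth.Agent.Lib.Helper20.SegTP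
  Groth.Agent.Lib.Helper20.GrConv GrLC Groth.Agent.Lib.Helper4.LC
  Groth.Agent.Lib.Helper20.SegAcyc

namespace Groth.Agent.Lib.Helper20.SegTP

attribute [local instance] actModule

section tors

variable (k : Type u) [Field k] (R S : Type u) [CommRing R] [CommRing S] [Algebra k R]
  [Algebra k S] [IsNoetherianRing R] [IsNoetherianRing S]
  (X Y : Type u) [AddCommGroup X] [Module R X] [Module k X] [IsScalarTower k R X]
  [AddCommGroup Y] [Module S Y] [Module k Y] [IsScalarTower k S Y]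

/-- **torsion of `X ⊗ Y` when `Y` is torsion free.** -/
theorem mem_gam_iff_of_right_bot (I : Ideal R) (J : Ideal S) (𝔞 : Ideal (R ⊗[k] S))
    (h𝔞 : ∀ (N : Type u) [AddCommGroup N] [Module (R ⊗[k] S) N], GrLC.gam 𝔞 N =
      GrLC.gam (I.map (algebraMap R (R ⊗[k] S)) ⊓
        J.map (Algebra.TensorProduct.includeRight : S →ₐ[k] R ⊗[k] S)) N)
    (hY : GrLC.gam J Y = ⊥) (u : X ⊗[k] Y) :
    u ∈ GrLC.gam 𝔞 (X ⊗[k] Y) ↔
      u ∈ LinearMap.range (LinearMap.rTensor Y ((GrLC.gam I X).subtype.restrictScalars k)) := by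
  rw [h𝔞]
  constructor
  · intro hu
    have hbot := gam_tensor_eq_bot k R S (X ⧸ GrLC.gam I X) Y I J
      (LCFinite.torsionSub_quotient_eq_bot I X) hY
    let q : X ⊗[k] Y →ₗ[R ⊗[k] S] (X ⧸ GrLC.gam I X) ⊗[k] Y :=
      mapA (k := k) (GrLC.gam I X).mkQ (LinearMap.id : Y →ₗ[S] Y)
    have h1 := map_mem_gam q hu
    rw [hbot, Submodule.mem_bot] at h1
    have hex : Function.Exact ((GrLC.gam I X).subtype.restrictScalars k)
        ((GrLC.gam I X).mkQ.restrictScalars k) := by
      intro x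
      change (GrLC.gam I X).mkQ x = 0 ↔ x ∈ Set.range (GrLC.gam I X).subtype
      rw [Submodule.mkQ_apply, Submodule.Quotient.mk_eq_zero]
      constructor
      · intro hx
        exact ⟨⟨x, hx⟩, rfl⟩
      · rintro ⟨y, rfl⟩
        exact y.2
    have hex2 := Module.Flat.rTensor_exact Y hex
    exact (hex2 u).1 h1
  · rintro ⟨w, rfl⟩
    apply gam_mono (inf_le_left) (X ⊗[k] Y)
    induction w using TensorProduct.induction_on with
    | zero => rw [map_zero]; exact zero_mem _
    | add a b ha hb => rw [map_add]; exact add_mem ha hb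
    | tmul x y =>
      change ((x : X) ⊗ₜ[k] y) ∈ _
      exact tmul_mem_gam_left I x.2 y

end tors

section cocyc

variable {k : Type u} [Field k] {X X' Y : Type u} [AddCommGroup X] [Module k X]
  [AddCommGroup X'] [Module k X'] [AddCommGroup Y] [Module k Y]

/-- elements of `A ⊗ Y` killed by `f ⊗ 1` come from `(A ⊓ ker f) ⊗ Y`. -/
theorem mem_range_inf_ker (f : X →ₗ[k] X') (A : Submodule k X) (u : X ⊗[k] Y)
    (hu : u ∈ LinearMap.range (LinearMap.rTensor Y A.subtype))
    (hf : LinearMap.rTensor Y f u = 0) :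
    u ∈ LinearMap.range (LinearMap.rTensor Y (A ⊓ LinearMap.ker f).subtype) := by
  obtain ⟨u', rfl⟩ := hu
  have h1 : LinearMap.rTensor Y (f ∘ₗ A.subtype) u' = 0 := by
    rw [LinearMap.rTensor_comp]
    exact hf
  have hex : Function.Exact (LinearMap.ker (f ∘ₗ A.subtype)).subtype (f ∘ₗ A.subtype) :=
    LinearMap.exact_subtype_ker_map _
  obtain ⟨u'', rfl⟩ := (Module.Flat.rTensor_exact Y hex u').1 h1
  let g : ↥(LinearMap.ker (f ∘ₗ A.subtype)) →ₗ[k] ↥(A ⊓ LinearMap.ker f) :=
    { toFun := fun x => ⟨x.1.1, ⟨x.1.2, x.2⟩⟩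
      map_add' := fun _ _ => rfl
      map_smul' := fun _ _ => rfl }
  refine ⟨LinearMap.rTensor Y g u'', ?_⟩
  rw [← LinearMap.comp_apply, ← LinearMap.rTensor_comp, ← LinearMap.comp_apply,
    ← LinearMap.rTensor_comp]
  rfl

end cocyc

end Groth.Agent.Lib.Helper20.SegTP

namespace Groth.Agent.Lib.Helper20.SegGr

attribute [local instance] actModule smulCommClass_base isScalarTower_base

variable {k : Type u} [Field k]
  {R S : Type u} [CommRing R] [CommRing S] [Algebra k R] [Algebra k S]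
  {𝒜 : ℤ → Submodule k R} {ℬ : ℤ → Submodule k S}
  (G : GCx k R 𝒜) (H : GCx k S ℬ) (hH0 : ∀ b, Subsingleton (H.X (b + 1)))

/-- the inclusion of the summand `(q, 0)`. -/
noncomputable abbrev inj0 (q : ℕ) : G.X q ⊗[k] H.X 0 →ₗ[k] TX G H q :=
  inj G.toVCx H.toVCx q 0 (add_zero q)

include hH0 in
lemma tx_eq_inj0 (q : ℕ) (z : TX G H q) : ∃ u, z = inj0 G H q u := by
  induction z using tot_induction with
  | zero => exact ⟨0, (map_zero _).symm⟩
  | add z z' hz hz' =>
    obtain ⟨w, rfl⟩ := hz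
    obtain ⟨w', rfl⟩ := hz'
    exact ⟨w + w', (map_add _ _ _).symm⟩
  | tmul a b h x y =>
    cases b with
    | zero =>
      have : a = q := by omega
      subst this
      exact ⟨x ⊗ₜ[k] y, rfl⟩
    | succ b =>
      haveI := hH0 b
      have hy : y = 0 := Subsingleton.elim _ _
      refine ⟨0, ?_⟩
      rw [hy, tmul_zero, map_zero, map_zero]

lemma inj0_injective (q : ℕ) : Function.Injective (inj0 G H q) := inj_injective q 0 (add_zero q)

include hH0 in
lemma totD_inj0 (q : ℕ) (u : G.X q ⊗[k] H.X 0) :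
    totD G.toVCx H.toVCx q (inj0 G H q u) =
      inj0 G H (q + 1) (LinearMap.rTensor (H.X 0) (G.toVCx.d q) u) := by
  induction u using TensorProduct.induction_on with
  | zero => simp only [map_zero]
  | add u u' hu hu' => simp only [map_add, hu, hu']
  | tmul x y =>
    rw [totD_inj_tmul]
    haveI := hH0 0
    have hy : H.toVCx.d 0 y = 0 := Subsingleton.elim _ _
    rw [hy, tmul_zero, map_zero, smul_zero, add_zero]
    rfl

lemma inj0_smul (q : ℕ) (α : R ⊗[k] S) (u : G.X q ⊗[k] H.X 0) :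
    inj0 G H q (α • u) = α • inj0 G H q u := inj_smul G H q 0 (add_zero q) α u

lemma pL_inj0 (q : ℕ) (e : ℤ) (u : G.X q ⊗[k] H.X 0) :
    pL G H q e (inj0 G H q u) = inj0 G H q ((tensL (G.P q) (H.X 0)).p e u) := by
  induction u using TensorProduct.induction_on with
  | zero => simp only [map_zero]
  | add u u' hu hu' => simp only [map_add, hu, hu']
  | tmul x y => rw [pL_inj_tmul, tensL_p_tmul]

lemma pR_inj0 (q : ℕ) (e : ℤ) (u : G.X q ⊗[k] H.X 0) :
    pR G H q e (inj0 G H q u) = inj0 G H q ((tensR (G.X q) (H.P 0)).p e u) := by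
  induction u using TensorProduct.induction_on with
  | zero => simp only [map_zero]
  | add u u' hu hu' => simp only [map_add, hu, hu']
  | tmul x y => rw [pR_inj_tmul, tensR_p_tmul]

lemma Δ_inj0 (q : ℕ) (u : G.X q ⊗[k] H.X 0) :
    Δ G H q (inj0 G H q u) =
      inj0 G H q (PFam.diag (tensL (G.P q) (H.X 0)) (tensR (G.X q) (H.P 0)) u) :=
  (PFam.diag_map (tensL (G.P q) (H.X 0)) (tensR (G.X q) (H.P 0)) (totL G H q) (totR G H q)
    (inj0 G H q) (fun e u => (pL_inj0 G H q e u).symm) (fun e u => (pR_inj0 G H q e u).symm) u).symm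

/-- torsion of an element of the summand `(q, 0)`. -/
lemma inj0_mem_gam_iff (q : ℕ) (𝔞 : Ideal (R ⊗[k] S)) (u : G.X q ⊗[k] H.X 0) :
    inj0 G H q u ∈ GrLC.gam 𝔞 (TX G H q) ↔ u ∈ GrLC.gam 𝔞 (G.X q ⊗[k] H.X 0) := by
  constructor
  · intro h
    have h2 := map_mem_gam (DirectSum.component (R ⊗[k] S) (Idx q)
      (fun p => G.X p.1.1 ⊗[k] H.X p.1.2) ⟨(q, 0), add_zero q⟩) h
    have h3 : DirectSum.component (R ⊗[k] S) (Idx q)
        (fun p => G.X p.1.1 ⊗[k] H.X p.1.2) ⟨(q, 0), add_zero q⟩ (inj0 G H q u) = u := by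
      change (DirectSum.lof k (Idx q) (fun p => G.X p.1.1 ⊗[k] H.X p.1.2)
        ⟨(q, 0), add_zero q⟩ u) ⟨(q, 0), add_zero q⟩ = u
      rw [DirectSum.lof_eq_of, DirectSum.of_eq_same]
    rw [h3] at h2
    exact h2
  · intro h
    exact map_mem_gam (DirectSum.lof (R ⊗[k] S) (Idx q)
      (fun p => G.X p.1.1 ⊗[k] H.X p.1.2) ⟨(q, 0), add_zero q⟩) h

end Groth.Agent.Lib.Helper20.SegGr
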