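import Mathlib
import Groth.Agent.Lib.Helper20.SegN0a

/-!
# Graded local cohomology of `M # N` when `N` is acyclic and torsion free: cocycles (helper20)
-/

set_option autoImplicit false
set_option linter.unusedSectionVars false
set_option linter.unusedVariables false
set_option linter.style.haveILetI false

universe u

open TensorProduct DirectSum Groth.Agent.Lib.Helper20.SegKun Groth.Agent.Lib.Helper20.SegTP
  Groth.Agent.Lib.Helper20.GrConv GrLC Groth.Agent.Lib.Helper4.LC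
  Groth.Agent.Lib.Helper20.SegAcyc Groth.Agent.Lib.Helper20.ResCmp

namespace Groth.Agent.Lib.Helper20.SegGr

attribute [local instance] actModule smulCommClass_base isScalarTower_base

variable {k : Type u} [Field k]
  {R S T : Type u} [CommRing R] [CommRing S] [CommRing T] [Algebra k R] [Algebra k S] [Algebra k T]
  {𝒜 : ℤ → Submodule k R} {ℬ : ℤ → Submodule k S}

section defs

variable (G : GCx k R 𝒜) (mR : Ideal R)

/-- the cocycles of `Γ(G)`. -/
def zG (q : ℕ) : Submodule R (G.X q) := GrLC.gam mR (G.X q) ⊓ LinearMap.ker (G.d q)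

/-- the coboundaries of `Γ(G)`. -/
def bG : (q : ℕ) → Submodule R (G.X q)
  | 0 => ⊥
  | n + 1 => (GrLC.gam mR (G.X n)).map (G.d n)

/-- the differential from `Γ(G^n)` to the cocycles. -/
noncomputable def βG (n : ℕ) : ↥(GrLC.gam mR (G.X n)) →ₗ[R] ↥(zG G mR (n + 1)) where
  toFun x := ⟨G.d n x.1, ⟨map_mem_gam (G.d n) x.2, G.d_comp_d n x.1⟩⟩
  map_add' x y := Subtype.ext (map_add (G.d n) x.1 y.1)
  map_smul' r x := Subtype.ext (map_smul (G.d n) r x.1)

lemma βG_coe (n : ℕ) (x : ↥(GrLC.gam mR (G.X n))) : ((βG G mR n x : ↥(zG G mR (n + 1))) : G.X (n + 1)) =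
    G.d n x.1 := rfl

end defs

section jz

variable (G : GCx k R 𝒜) (H : GCx k S ℬ) (mR : Ideal R) (q : ℕ)

/-- the map from `Z ⊗ Y` to the total complex. -/
noncomputable def jZ : ↥(zG G mR q) ⊗[k] H.X 0 →ₗ[k] TX G H q :=
  inj0 G H q ∘ₗ LinearMap.rTensor (H.X 0) ((zG G mR q).subtype.restrictScalars k)

lemma jZ_apply (w : ↥(zG G mR q) ⊗[k] H.X 0) :
    jZ G H mR q w =
      inj0 G H q (LinearMap.rTensor (H.X 0) ((zG G mR q).subtype.restrictScalars k) w) := rfl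

lemma jZ_tmul (z : ↥(zG G mR q)) (y : H.X 0) :
    jZ G H mR q (z ⊗ₜ[k] y) = inj0 G H q ((z : G.X q) ⊗ₜ[k] y) := rfl

lemma jZ_injective : Function.Injective (jZ G H mR q) := by
  apply (inj0_injective G H q).comp
  exact Module.Flat.rTensor_preserves_injective_linearMap _
    (fun a b h => Subtype.ext h)

lemma jZ_smul (α : R ⊗[k] S) (w : ↥(zG G mR q) ⊗[k] H.X 0) :
    jZ G H mR q (α • w) = α • jZ G H mR q w := by
  rw [jZ_apply, jZ_apply, ← inj0_smul]
  congr 1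
  exact (mapA (k := k) (zG G mR q).subtype (LinearMap.id : H.X 0 →ₗ[S] H.X 0)).map_smul α w

variable (hH0 : ∀ b, Subsingleton (H.X (b + 1)))

include hH0 in
lemma totD_jZ (w : ↥(zG G mR q) ⊗[k] H.X 0) :
    totD G.toVCx H.toVCx q (jZ G H mR q w) = 0 := by
  rw [jZ_apply, totD_inj0 G H hH0]
  have : LinearMap.rTensor (H.X 0) (G.toVCx.d q)
      (LinearMap.rTensor (H.X 0) ((zG G mR q).subtype.restrictScalars k) w) = 0 := by
    rw [← LinearMap.comp_apply, ← LinearMap.rTensor_comp]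
    have h0 : G.toVCx.d q ∘ₗ (zG G mR q).subtype.restrictScalars k = 0 := by
      ext z
      exact z.2.2
    rw [h0, LinearMap.rTensor_zero]
    rfl
  rw [this, map_zero]

end jz


section main

variable (𝒯 : ℤ → Submodule k T) [GradedAlgebra 𝒯]
  (ψ : T →ₐ[k] R ⊗[k] S) (hψ : ∀ i t, t ∈ 𝒯 i → ψ t ∈ GrSeg.segrePiece k 𝒜 ℬ i)
  {G : GCx k R 𝒜} {H : GCx k S ℬ}
  {M : Type u} [AddCommGroup M] [Module R M] [Module k M] [IsScalarTower k R M]
  {N : Type u} [AddCommGroup N] [Module S N] [Module k N] [IsScalarTower k S N]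
  (εM : GAug G M) (εN : GAug H N)
  {P : Type u} [AddCommGroup P] [Module T P] [Module k P]
  (𝒬 : ℤ → AddSubgroup P) (φ : P →ₗ[k] M ⊗[k] N)
  (hP : PData ψ εM εN 𝒬 φ)
  [DirectSum.Decomposition 𝒬] [SetLike.GradedSMul (toAS 𝒯) 𝒬]
  (hex : ∀ n, (Tot G.toVCx H.toVCx).ExactAt (n + 1))
  [IsNoetherianRing R] [IsNoetherianRing S] [IsNoetherianRing T] [IsNoetherianRing (R ⊗[k] S)]
  (mR : Ideal R) (mS : Ideal S) (a : HomogeneousIdeal (toAS 𝒯))
  (hgam : ∀ (N : Type u) [AddCommGroup N] [Module (R ⊗[k] S) N],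
    GrLC.gam (a.toIdeal.map ψ) N = GrLC.gam (mR.map (algebraMap R (R ⊗[k] S)) ⊓
      mS.map (Algebra.TensorProduct.includeRight : S →ₐ[k] R ⊗[k] S)) N)
  (hG : ∀ a q, Subsingleton (HH mR (ModuleCat.of R (G.X a)) (q + 1)))
  (hH : ∀ b q, Subsingleton (HH mS (ModuleCat.of S (H.X b)) (q + 1)))
  (hH0 : ∀ b, Subsingleton (H.X (b + 1))) (hΓ : GrLC.gam mS (H.X 0) = ⊥)

/-- the diagonal acyclic resolution. -/
noncomputable def XRes : Res a.toIdeal P :=
  SegCmp.exToRes (exRes 𝒯 ψ hψ εM εN 𝒬 φ hP hex) a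
    (fun n q => subsingleton_HH_CD 𝒯 ψ hψ G H mR mS a.toIdeal hgam hG hH n q)

omit [IsNoetherianRing T] in
include hgam hΓ in
/-- torsion of an element of the summand `(n, 0)`. -/
lemma inj0_mem_gam_iff' (n : ℕ) (u : G.X n ⊗[k] H.X 0) :
    inj0 G H n u ∈ GrLC.gam (a.toIdeal.map ψ) (TX G H n) ↔
      u ∈ LinearMap.range (LinearMap.rTensor (H.X 0)
        ((GrLC.gam mR (G.X n)).subtype.restrictScalars k)) := by
  rw [inj0_mem_gam_iff]
  exact mem_gam_iff_of_right_bot k R S (G.X n) (H.X 0) mR mS _ hgam hΓ u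

omit [IsNoetherianRing T] in
include hgam hΓ in
lemma jZ_mem_gam (q : ℕ) (w : ↥(zG G mR q) ⊗[k] H.X 0) :
    jZ G H mR q w ∈ GrLC.gam (a.toIdeal.map ψ) (TX G H q) := by
  rw [jZ_apply, inj0_mem_gam_iff' 𝒯 ψ mR mS a hgam hΓ]
  let i : ↥(zG G mR q) →ₗ[k] ↥(GrLC.gam mR (G.X q)) :=
    { toFun := fun z => ⟨z.1, z.2.1⟩
      map_add' := fun _ _ => rfl
      map_smul' := fun _ _ => rfl }
  refine ⟨LinearMap.rTensor (H.X 0) i w, ?_⟩
  rw [← LinearMap.comp_apply, ← LinearMap.rTensor_comp]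
  rfl

end main

end Groth.Agent.Lib.Helper20.SegGr
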