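import Mathlib
import Groth.Agent.Lib.Helper20.SegN0b

/-!
# Graded local cohomology of `M # N` when `N` is acyclic and torsion free: the cocycles of the
diagonal resolution (helper20)
-/

set_option autoImplicit false
set_option linter.unusedSectionVars false
set_option linter.unusedVariables false
set_option linter.style.haveILetI false

universe u

open TensorProduct DirectSum Groth.Agent.Lib.Helper20.SegKun Groth.Agent.Lib.Helper20.SegTP
  Groth.Agent.Lib.Helper20.GrConv GrLC Groth.Agent.Lib.Helper4.LC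
  Groth.Agent.Lib.Helper20.SegAcyc Groth.Agent.Lib.Helper20.ResCmp

namespace Groth.Agent.Lib.Helper20.SegGr

attribute [local instance] actModule smulCommClass_base isScalarTower_base

variable {k : Type u} [Field k]
  {R S T : Type u} [CommRing R] [CommRing S] [CommRing T] [Algebra k R] [Algebra k S] [Algebra k T]
  {𝒜 : ℤ → Submodule k R} {ℬ : ℤ → Submodule k S}
  (𝒯 : ℤ → Submodule k T) [GradedAlgebra 𝒯]
  (ψ : T →ₐ[k] R ⊗[k] S) (hψ : ∀ i t, t ∈ 𝒯 i → ψ t ∈ GrSeg.segrePiece k 𝒜 ℬ i)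
  {G : GCx k R 𝒜} {H : GCx k S ℬ}
  {M : Type u} [AddCommGroup M] [Module R M] [Module k M] [IsScalarTower k R M]
  {N : Type u} [AddCommGroup N] [Module S N] [Module k N] [IsScalarTower k S N]
  (εM : GAug G M) (εN : GAug H N)
  {P : Type u} [AddCommGroup P] [Module T P] [Module k P]
  (𝒬 : ℤ → AddSubgroup P) (φ : P →ₗ[k] M ⊗[k] N)
  (hP : PData ψ εM εN 𝒬 φ)
  [DirectSum.Decomposition 𝒬] [SetLike.GradedSMul (toAS 𝒯) 𝒬]
  (hex : ∀ n, (Tot G.toVCx H.toVCx).ExactAt (n + 1))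
  [IsNoetherianRing R] [IsNoetherianRing S] [IsNoetherianRing T] [IsNoetherianRing (R ⊗[k] S)]
  (mR : Ideal R) (mS : Ideal S) (a : HomogeneousIdeal (toAS 𝒯))
  (hgam : ∀ (N : Type u) [AddCommGroup N] [Module (R ⊗[k] S) N],
    GrLC.gam (a.toIdeal.map ψ) N = GrLC.gam (mR.map (algebraMap R (R ⊗[k] S)) ⊓
      mS.map (Algebra.TensorProduct.includeRight : S →ₐ[k] R ⊗[k] S)) N)
  (hG : ∀ a q, Subsingleton (HH mR (ModuleCat.of R (G.X a)) (q + 1)))
  (hH : ∀ b q, Subsingleton (HH mS (ModuleCat.of S (H.X b)) (q + 1)))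
  (hH0 : ∀ b, Subsingleton (H.X (b + 1))) (hΓ : GrLC.gam mS (H.X 0) = ⊥)

local notation "XR" => XRes 𝒯 ψ hψ εM εN 𝒬 φ hP hex mR mS a hgam hG hH

include hH0 hΓ in
/-- the cocycle of the diagonal resolution attached to a diagonal element of `Z ⊗ Y`. -/
lemma jZ_mem_cocyc (q : ℕ) (w : ↥(zG G mR q) ⊗[k] H.X 0)
    (hw : Δ G H q (jZ G H mR q w) = jZ G H mR q w) :
    (show (XR).X q from ⟨jZ G H mR q w, (mem_diagSub_iff 𝒯 ψ hψ G H q _).2 hw⟩) ∈
      (XR).cocyc q := by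
  refine ⟨(mem_gam_CD_iff 𝒯 ψ hψ G H a.toIdeal q _).2 (jZ_mem_gam 𝒯 ψ mR mS a hgam hΓ q w), ?_⟩
  change dD 𝒯 ψ hψ G H q _ = 0
  apply Subtype.ext
  change totD G.toVCx H.toVCx q (jZ G H mR q w) = 0
  exact totD_jZ G H mR q hH0 w

include hH0 hΓ in
/-- **every cocycle of the diagonal resolution comes from `Z ⊗ Y`.** -/
lemma exists_jZ_eq (q : ℕ) (z : (XR).cocyc q) :
    ∃ w : ↥(zG G mR q) ⊗[k] H.X 0, jZ G H mR q w = (show ↥(diagSub 𝒯 ψ hψ G H q) from z.1).1 := by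
  obtain ⟨u, hu⟩ := tx_eq_inj0 G H hH0 q (show ↥(diagSub 𝒯 ψ hψ G H q) from z.1).1
  have htor : inj0 G H q u ∈ GrLC.gam (a.toIdeal.map ψ) (TX G H q) := by
    rw [← hu]
    exact (mem_gam_CD_iff 𝒯 ψ hψ G H a.toIdeal q z.1).1 z.2.1
  rw [inj0_mem_gam_iff' 𝒯 ψ mR mS a hgam hΓ] at htor
  have hcoc : totD G.toVCx H.toVCx q (inj0 G H q u) = 0 := by
    rw [← hu]
    exact congrArg Subtype.val (show dD 𝒯 ψ hψ G H q z.1 = 0 from z.2.2)
  rw [totD_inj0 G H hH0] at hcoc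
  have hcoc' : LinearMap.rTensor (H.X 0) (G.toVCx.d q) u = 0 :=
    inj0_injective G H (q + 1) (hcoc.trans (map_zero _).symm)
  have h1 := mem_range_inf_ker (G.toVCx.d q) ((GrLC.gam mR (G.X q)).restrictScalars k) u htor hcoc'
  obtain ⟨u', hu'⟩ := h1
  let c : ↥(((GrLC.gam mR (G.X q)).restrictScalars k) ⊓ LinearMap.ker (G.toVCx.d q)) →ₗ[k]
      ↥(zG G mR q) :=
    { toFun := fun x => ⟨x.1, ⟨x.2.1, x.2.2⟩⟩
      map_add' := fun _ _ => rfl
      map_smul' := fun _ _ => rfl }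
  refine ⟨LinearMap.rTensor (H.X 0) c u', ?_⟩
  rw [hu, jZ_apply]
  congr 1
  rw [← hu', ← LinearMap.comp_apply, ← LinearMap.rTensor_comp]
  rfl


section kernel

variable {HM : Type u} [AddCommGroup HM] [Module R HM] [Module k HM] [IsScalarTower k R HM]
  (q : ℕ) (cl : ↥(zG G mR q) →ₗ[R] HM)
  (hker : ∀ z : ↥(zG G mR q), cl z = 0 ↔ (z : G.X q) ∈ bG G mR q)

include hH0 hΓ hker in
/-- **the class of the cocycle attached to `w` vanishes iff `(cl ⊗ 1) w = 0`.** -/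
lemma toH_eq_zero_iff (w : ↥(zG G mR q) ⊗[k] H.X 0)
    (hw : Δ G H q (jZ G H mR q w) = jZ G H mR q w) :
    (XR).toH q ⟨_, jZ_mem_cocyc 𝒯 ψ hψ εM εN 𝒬 φ hP hex mR mS a hgam hG hH hH0 hΓ q w hw⟩ = 0 ↔
      LinearMap.rTensor (H.X 0) (cl.restrictScalars k) w = 0 := by
  rw [Submodule.mkQ_apply, Submodule.Quotient.mk_eq_zero, Submodule.mem_comap]
  change (show (XR).X q from ⟨jZ G H mR q w, (mem_diagSub_iff 𝒯 ψ hψ G H q _).2 hw⟩) ∈
    (XR).cobdy q ↔ _
  cases q with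
  | zero =>
    change _ ∈ (⊥ : Submodule T _) ↔ _
    rw [Submodule.mem_bot]
    constructor
    · intro h
      have h1 : jZ G H mR 0 w = 0 := congrArg Subtype.val h
      have h2 : w = 0 := jZ_injective G H mR 0 (h1.trans (map_zero _).symm)
      rw [h2, map_zero]
    · intro h
      have hinj : Function.Injective (cl.restrictScalars k) := by
        intro z z' hzz
        have h3 : cl (z - z') = 0 := by
          rw [map_sub]
          exact sub_eq_zero.2 hzz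
        have h4 : ((z - z' : ↥(zG G mR 0)) : G.X 0) = 0 := (hker _).1 h3
        exact sub_eq_zero.1 (Subtype.ext h4)
      have h2 : w = 0 := Module.Flat.rTensor_preserves_injective_linearMap _ hinj
        (h.trans (map_zero _).symm)
      apply Subtype.ext
      change jZ G H mR 0 w = 0
      rw [h2, map_zero]
  | succ n =>
    change _ ∈ (GrLC.gam a.toIdeal ((XR).X n)).map ((XR).d n) ↔ _
    constructor
    · rintro ⟨κ, hκ, hdκ⟩
      have hκ' : (show ↥(diagSub 𝒯 ψ hψ G H n) from κ).1 ∈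
          GrLC.gam (a.toIdeal.map ψ) (TX G H n) :=
        (mem_gam_CD_iff 𝒯 ψ hψ G H a.toIdeal n κ).1 hκ
      obtain ⟨v, hv⟩ := tx_eq_inj0 G H hH0 n (show ↥(diagSub 𝒯 ψ hψ G H n) from κ).1
      have hvt : inj0 G H n v ∈ GrLC.gam (a.toIdeal.map ψ) (TX G H n) := by
        rw [← hv]
        exact hκ'
      rw [inj0_mem_gam_iff' 𝒯 ψ mR mS a hgam hΓ] at hvt
      obtain ⟨v', rfl⟩ := hvt
      have hd : totD G.toVCx H.toVCx n (inj0 G H n (LinearMap.rTensor (H.X 0)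
          ((GrLC.gam mR (G.X n)).subtype.restrictScalars k) v')) = jZ G H mR (n + 1) w := by
        rw [← hv]
        exact congrArg Subtype.val hdκ
      rw [totD_inj0 G H hH0, jZ_apply] at hd
      have hd' := inj0_injective G H (n + 1) hd
      have hβ : LinearMap.rTensor (H.X 0) ((zG G mR (n + 1)).subtype.restrictScalars k)
          (LinearMap.rTensor (H.X 0) ((βG G mR n).restrictScalars k) v') =
          LinearMap.rTensor (H.X 0) (G.toVCx.d n) (LinearMap.rTensor (H.X 0)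
            ((GrLC.gam mR (G.X n)).subtype.restrictScalars k) v') := by
        rw [← LinearMap.comp_apply, ← LinearMap.rTensor_comp, ← LinearMap.comp_apply,
          ← LinearMap.rTensor_comp]
        rfl
      have hsi : Function.Injective (LinearMap.rTensor (H.X 0)
          ((zG G mR (n + 1)).subtype.restrictScalars k)) :=
        Module.Flat.rTensor_preserves_injective_linearMap _ (fun a b h => Subtype.ext h)
      have hw' : w = LinearMap.rTensor (H.X 0) ((βG G mR n).restrictScalars k) v' :=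
        hsi (hd'.symm.trans hβ.symm)
      rw [hw', ← LinearMap.comp_apply, ← LinearMap.rTensor_comp]
      have h0 : cl.restrictScalars k ∘ₗ (βG G mR n).restrictScalars k = 0 := by
        ext x
        exact (hker _).2 ⟨x.1, x.2, rfl⟩
      rw [h0, LinearMap.rTensor_zero]
      rfl
    · intro h
      have hex' : Function.Exact (LinearMap.ker (cl.restrictScalars k)).subtype
          (cl.restrictScalars k) := LinearMap.exact_subtype_ker_map _
      obtain ⟨w₁, rfl⟩ := (Module.Flat.rTensor_exact (H.X 0) hex' w).1 h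
      let β' : ↥(GrLC.gam mR (G.X n)) →ₗ[k] ↥(LinearMap.ker (cl.restrictScalars k)) :=
        { toFun := fun x => ⟨βG G mR n x, (hker _).2 ⟨x.1, x.2, rfl⟩⟩
          map_add' := fun x y => Subtype.ext (map_add (βG G mR n) x y)
          map_smul' := fun c x => Subtype.ext (Subtype.ext (map_smul (G.toVCx.d n) c x.1)) }
      have hβ's : Function.Surjective β' := by
        rintro ⟨z, hz⟩
        obtain ⟨x, hx, hxz⟩ := (hker z).1 hz
        exact ⟨⟨x, hx⟩, Subtype.ext (Subtype.ext hxz)⟩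
      obtain ⟨v', rfl⟩ := LinearMap.rTensor_surjective (H.X 0) hβ's w₁
      set κ₀ : TX G H n := inj0 G H n (LinearMap.rTensor (H.X 0)
        ((GrLC.gam mR (G.X n)).subtype.restrictScalars k) v') with hκ₀
      have hκ₀t : κ₀ ∈ GrLC.gam (a.toIdeal.map ψ) (TX G H n) :=
        (inj0_mem_gam_iff' 𝒯 ψ mR mS a hgam hΓ n _).2 ⟨v', rfl⟩
      have hDκ₀ : totD G.toVCx H.toVCx n κ₀ = jZ G H mR (n + 1)
          (LinearMap.rTensor (H.X 0) (LinearMap.ker (cl.restrictScalars k)).subtype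
            (LinearMap.rTensor (H.X 0) β' v')) := by
        rw [hκ₀, totD_inj0 G H hH0, jZ_apply]
        congr 1
        simp only [← LinearMap.comp_apply, ← LinearMap.rTensor_comp]
        rfl
      refine ⟨⟨Δ G H n κ₀, ⟨κ₀, rfl⟩⟩, ?_, ?_⟩
      · refine (mem_gam_CD_iff 𝒯 ψ hψ G H a.toIdeal n
          (show ↥(diagSub 𝒯 ψ hψ G H n) from ⟨Δ G H n κ₀, ⟨κ₀, rfl⟩⟩)).2 ?_
        exact (mem_gam_CA_iff 𝒯 ψ hψ G H a.toIdeal n (Δ G H n κ₀)).1
          (map_mem_gam (ΔT 𝒯 ψ hψ G H n) ((mem_gam_CA_iff 𝒯 ψ hψ G H a.toIdeal n κ₀).2 hκ₀t))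
      · apply Subtype.ext
        change totD G.toVCx H.toVCx n (Δ G H n κ₀) = jZ G H mR (n + 1) _
        rw [totD_Δ, hDκ₀, hw]

end kernel


section cval

/-- the underlying element of the total complex of a cocycle of the diagonal resolution. -/
def cval (q : ℕ) (z : (XR).cocyc q) : TX G H q := (show ↥(diagSub 𝒯 ψ hψ G H q) from z.1).1

local notation "cv" => cval 𝒯 ψ hψ εM εN 𝒬 φ hP hex mR mS a hgam hG hH

lemma cval_add (q : ℕ) (z z' : (XR).cocyc q) : cv q (z + z') = cv q z + cv q z' := rfl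

lemma cval_smul (q : ℕ) (t : T) (z : (XR).cocyc q) : cv q (t • z) = ψ t • cv q z := rfl

lemma cval_injective (q : ℕ) : Function.Injective (cv q) :=
  fun z z' h => Subtype.ext (Subtype.ext h)

lemma Δ_cval (q : ℕ) (z : (XR).cocyc q) : Δ G H q (cv q z) = cv q z :=
  (mem_diagSub_iff 𝒯 ψ hψ G H q _).1 (show ↥(diagSub 𝒯 ψ hψ G H q) from z.1).2

lemma cval_mem_piece_iff (q : ℕ) (z : (XR).cocyc q) (d : ℤ) :
    (show ↥(diagSub 𝒯 ψ hψ G H q) from z.1).1 ∈ (totL G H q).piece d ↔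
      cv q z ∈ (totL G H q).piece d := Iff.rfl

include hH0 hΓ in
lemma exists_cval_eq_jZ (q : ℕ) (w : ↥(zG G mR q) ⊗[k] H.X 0)
    (hw : Δ G H q (jZ G H mR q w) = jZ G H mR q w) :
    ∃ z : (XR).cocyc q, cv q z = jZ G H mR q w :=
  ⟨⟨_, jZ_mem_cocyc 𝒯 ψ hψ εM εN 𝒬 φ hP hex mR mS a hgam hG hH hH0 hΓ q w hw⟩, rfl⟩

variable {HM : Type u} [AddCommGroup HM] [Module R HM] [Module k HM] [IsScalarTower k R HM]
  (q : ℕ) (cl : ↥(zG G mR q) →ₗ[R] HM)
  (hker : ∀ z : ↥(zG G mR q), cl z = 0 ↔ (z : G.X q) ∈ bG G mR q)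

include hH0 hΓ hker in
lemma toH_eq_zero_iff' (w : ↥(zG G mR q) ⊗[k] H.X 0) (z : (XR).cocyc q)
    (hz : cv q z = jZ G H mR q w) :
    (XR).toH q z = 0 ↔ LinearMap.rTensor (H.X 0) (cl.restrictScalars k) w = 0 := by
  have hw : Δ G H q (jZ G H mR q w) = jZ G H mR q w := by
    rw [← hz]
    exact Δ_cval 𝒯 ψ hψ εM εN 𝒬 φ hP hex mR mS a hgam hG hH q z
  have hzz : z = ⟨_, jZ_mem_cocyc 𝒯 ψ hψ εM εN 𝒬 φ hP hex mR mS a hgam hG hH hH0 hΓ q w hw⟩ :=
    cval_injective 𝒯 ψ hψ εM εN 𝒬 φ hP hex mR mS a hgam hG hH q hz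
  rw [hzz]
  exact toH_eq_zero_iff 𝒯 ψ hψ εM εN 𝒬 φ hP hex mR mS a hgam hG hH hH0 hΓ q cl hker w hw

end cval

end Groth.Agent.Lib.Helper20.SegGr
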