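import Mathlib
import Groth.Agent.Lib.Helper20.SegN0c

/-!
# Graded local cohomology of `M # N` when `N` is acyclic and torsion free: the isomorphism
`H^q_{T_+}(M # N) ≅ H^q_m(M) # N` (helper20)
-/

set_option autoImplicit false
set_option linter.unusedSectionVars false
set_option linter.unusedVariables false
set_option linter.style.haveILetI false

universe u

open TensorProduct DirectSum Groth.Agent.Lib.Helper20.SegKun Groth.Agent.Lib.Helper20.SegTP
  Groth.Agent.Lib.Helper20.GrConv GrLC Groth.Agent.Lib.Helper4.LC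
  Groth.Agent.Lib.Helper20.SegAcyc Groth.Agent.Lib.Helper20.ResCmp

namespace Groth.Agent.Lib.Helper20.SegGr

attribute [local instance] actModule smulCommClass_base isScalarTower_base

variable {k : Type u} [Field k]
  {R S T : Type u} [CommRing R] [CommRing S] [CommRing T] [Algebra k R] [Algebra k S] [Algebra k T]
  {𝒜 : ℤ → Submodule k R} {ℬ : ℤ → Submodule k S}

section pz

variable (G : GCx k R 𝒜) (mR : Ideal R) (q : ℕ)
  (hpΓ : ∀ (e : ℤ) (x : G.X q), x ∈ GrLC.gam mR (G.X q) → (G.P q).p e x ∈ GrLC.gam mR (G.X q))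

/-- the homogeneous components of a cocycle. -/
noncomputable def pZ (d : ℤ) : ↥(zG G mR q) →ₗ[k] ↥(zG G mR q) where
  toFun z := ⟨(G.P q).p d z.1, ⟨hpΓ d z.1 z.2.1, by
    show G.d q ((G.P q).p d z.1) = 0
    rw [G.d_p q d z.1]
    have : G.d q z.1 = 0 := z.2.2
    rw [this, map_zero]⟩⟩
  map_add' z z' := Subtype.ext (map_add ((G.P q).p d) z.1 z'.1)
  map_smul' c z := Subtype.ext (map_smul ((G.P q).p d) c z.1)

lemma pZ_coe (d : ℤ) (z : ↥(zG G mR q)) : ((pZ G mR q hpΓ d z : ↥(zG G mR q)) : G.X q) =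
    (G.P q).p d z.1 := rfl

end pz

section general

/-- a presentation argument: two maps out of `W` with the same kernel, the first one surjective. -/
lemma exists_lift_of_ker_eq {K W A B : Type*} [Field K] [AddCommGroup W] [Module K W]
    [AddCommGroup A] [Module K A] [AddCommGroup B] [Module K B]
    (f : W →ₗ[K] A) (g : W →ₗ[K] B) (hf : Function.Surjective f)
    (hk : LinearMap.ker f = LinearMap.ker g) :
    ∃ φ : A →ₗ[K] B, (∀ w, φ (f w) = g w) ∧ Function.Injective φ := by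
  have hφ : ∀ w, ((LinearMap.ker f).liftQ g (le_of_eq hk) ∘ₗ
      (f.quotKerEquivOfSurjective hf).symm.toLinearMap) (f w) = g w := by
    intro w
    change (LinearMap.ker f).liftQ g (le_of_eq hk)
      ((f.quotKerEquivOfSurjective hf).symm (f w)) = g w
    rw [LinearMap.quotKerEquivOfSurjective_symm_apply]
    rfl
  refine ⟨_, hφ, ?_⟩
  rw [injective_iff_map_eq_zero]
  intro x hx
  obtain ⟨w, rfl⟩ := hf x
  rw [hφ] at hx
  have : w ∈ LinearMap.ker f := by
    rw [hk]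
    exact hx
  exact this

end general

section wdelta

variable (G : GCx k R 𝒜) (H : GCx k S ℬ) (mR : Ideal R) (q : ℕ)

/-- the diagonal part of `Z ⊗ Y`. -/
noncomputable def WΔ : Submodule k (↥(zG G mR q) ⊗[k] H.X 0) :=
  LinearMap.ker (Δ G H q ∘ₗ jZ G H mR q - jZ G H mR q)

lemma mem_WΔ_iff (w : ↥(zG G mR q) ⊗[k] H.X 0) :
    w ∈ WΔ G H mR q ↔ Δ G H q (jZ G H mR q w) = jZ G H mR q w := by
  unfold WΔ
  rw [LinearMap.mem_ker, LinearMap.sub_apply, sub_eq_zero, LinearMap.comp_apply]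

end wdelta

section main

variable (𝒯 : ℤ → Submodule k T) [GradedAlgebra 𝒯]
  (ψ : T →ₐ[k] R ⊗[k] S) (hψ : ∀ i t, t ∈ 𝒯 i → ψ t ∈ GrSeg.segrePiece k 𝒜 ℬ i)
  {G : GCx k R 𝒜} {H : GCx k S ℬ}
  {M : Type u} [AddCommGroup M] [Module R M] [Module k M] [IsScalarTower k R M]
  {N : Type u} [AddCommGroup N] [Module S N] [Module k N] [IsScalarTower k S N]
  (εM : GAug G M) (εN : GAug H N)
  {P : Type u} [AddCommGroup P] [Module T P] [Module k P]
  (𝒬 : ℤ → AddSubgroup P) (φ : P →ₗ[k] M ⊗[k] N)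
  (hP : PData ψ εM εN 𝒬 φ)
  [DirectSum.Decomposition 𝒬] [SetLike.GradedSMul (toAS 𝒯) 𝒬]
  (hex : ∀ n, (Tot G.toVCx H.toVCx).ExactAt (n + 1))
  [IsNoetherianRing R] [IsNoetherianRing S] [IsNoetherianRing T] [IsNoetherianRing (R ⊗[k] S)]
  (mR : Ideal R) (mS : Ideal S) (a : HomogeneousIdeal (toAS 𝒯))
  (hgam : ∀ (N : Type u) [AddCommGroup N] [Module (R ⊗[k] S) N],
    GrLC.gam (a.toIdeal.map ψ) N = GrLC.gam (mR.map (algebraMap R (R ⊗[k] S)) ⊓
      mS.map (Algebra.TensorProduct.includeRight : S →ₐ[k] R ⊗[k] S)) N)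
  (hG : ∀ a q, Subsingleton (HH mR (ModuleCat.of R (G.X a)) (q + 1)))
  (hH : ∀ b q, Subsingleton (HH mS (ModuleCat.of S (H.X b)) (q + 1)))
  (hH0 : ∀ b, Subsingleton (H.X (b + 1))) (hΓ : GrLC.gam mS (H.X 0) = ⊥)
  {HM : Type u} [AddCommGroup HM] [Module R HM] [Module k HM] [IsScalarTower k R HM]
  (q : ℕ) (cl : ↥(zG G mR q) →ₗ[R] HM)
  (hker : ∀ z : ↥(zG G mR q), cl z = 0 ↔ (z : G.X q) ∈ bG G mR q)
  (hpΓ : ∀ (e : ℤ) (x : G.X q), x ∈ GrLC.gam mR (G.X q) → (G.P q).p e x ∈ GrLC.gam mR (G.X q))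
  (E : StarInjRes (toAS 𝒯) 𝒬) [Module k (E.H a q)] [IsScalarTower k T (E.H a q)]

local notation "XR" => XRes 𝒯 ψ hψ εM εN 𝒬 φ hP hex mR mS a hgam hG hH
local notation "cv" => cval 𝒯 ψ hψ εM εN 𝒬 φ hP hex mR mS a hgam hG hH

omit [IsNoetherianRing R] [IsNoetherianRing S] [IsNoetherianRing T]
  [IsNoetherianRing (R ⊗[k] S)] in
lemma jZ_map_pZ (d : ℤ) (w : ↥(zG G mR q) ⊗[k] H.X 0) :
    jZ G H mR q (TensorProduct.map (pZ G mR q hpΓ d) ((H.P 0).p d) w) =
      pR G H q d (pL G H q d (jZ G H mR q w)) := by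
  induction w using TensorProduct.induction_on with
  | zero => simp only [map_zero]
  | add w w' hw hw' => simp only [map_add, hw, hw']
  | tmul z y =>
    rw [TensorProduct.map_tmul, jZ_tmul, jZ_tmul, pL_inj_tmul, pR_inj_tmul]
    rfl

set_option maxHeartbeats 400000 in
include hψ εM εN φ hP hex hgam hG hH hH0 hΓ hker hpΓ in
/-- **`H^q_{T_+}(M # N) ≅ H^q_m(M) # N`**, abstract form. -/
theorem exists_segre_iso_of_concentrated :
    ∃ φ' : E.H a q →ₗ[k] HM ⊗[k] H.X 0,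
      Function.Injective φ' ∧
      (∀ d : ℤ, φ' '' (E.Hcomp a q d : Set (E.H a q)) =
        (Submodule.span k {x : HM ⊗[k] H.X 0 | ∃ z : ↥(zG G mR q),
          (z : G.X q) ∈ (G.P q).piece d ∧ ∃ y ∈ (H.P 0).piece d, x = cl z ⊗ₜ[k] y} :
          Set (HM ⊗[k] H.X 0))) ∧
      (∀ (t : T) (x : E.H a q), φ' (t • x) = ψ t • φ' x) := by
  classical
  obtain ⟨Θ, hΘ1, hΘ2⟩ : ∃ Θ : (XR).H q ≃ₗ[T] E.H a q,
      (∀ (g : ℤ) (z : (XR).cocyc q), cv q z ∈ (totL G H q).piece g →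
        Θ ((XR).toH q z) ∈ E.Hcomp a q g) ∧
      (∀ (g : ℤ), ∀ y ∈ E.Hcomp a q g, ∃ z : (XR).cocyc q,
        cv q z ∈ (totL G H q).piece g ∧ Θ ((XR).toH q z) = y) :=
    SegCmp.exists_cmp (exRes 𝒯 ψ hψ εM εN 𝒬 φ hP hex) E a
      (fun n q => subsingleton_HH_CD 𝒯 ψ hψ G H mR mS a.toIdeal hgam hG hH n q) q
  have hW := mem_WΔ_iff G H mR q
  have hcvinj := cval_injective 𝒯 ψ hψ εM εN 𝒬 φ hP hex mR mS a hgam hG hH q
  choose cz hcz using fun w : ↥(WΔ G H mR q) =>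
    exists_cval_eq_jZ 𝒯 ψ hψ εM εN 𝒬 φ hP hex mR mS a hgam hG hH hH0 hΓ q w.1 ((hW w.1).1 w.2)
  obtain ⟨f, hf⟩ : ∃ f : ↥(WΔ G H mR q) →ₗ[k] E.H a q, ∀ w, f w = Θ ((XR).toH q (cz w)) := by
    refine ⟨{ toFun := fun w => Θ ((XR).toH q (cz w))
              map_add' := fun w w' => ?_
              map_smul' := fun c w => ?_ }, fun w => rfl⟩
    · have : cz (w + w') = cz w + cz w' := by
        apply hcvinj
        rw [cval_add, hcz, hcz, hcz]
        exact map_add _ _ _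
      rw [this, map_add, map_add]
    · have : cz (c • w) = algebraMap k T c • cz w := by
        apply hcvinj
        rw [cval_smul, hcz, hcz, AlgHom.commutes, algebraMap_smul]
        exact map_smul _ _ _
      rw [this, map_smul, map_smul, algebraMap_smul]
      rfl
  obtain ⟨g, hg⟩ : ∃ g : ↥(WΔ G H mR q) →ₗ[k] HM ⊗[k] H.X 0,
      ∀ w, g w = LinearMap.rTensor (H.X 0) (cl.restrictScalars k) w.1 :=
    ⟨LinearMap.rTensor (H.X 0) (cl.restrictScalars k) ∘ₗ (WΔ G H mR q).subtype, fun w => rfl⟩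
  -- surjectivity
  have hsurjz : ∀ z : (XR).cocyc q, ∃ w : ↥(WΔ G H mR q), cz w = z := by
    intro z
    obtain ⟨w, hw⟩ := exists_jZ_eq 𝒯 ψ hψ εM εN 𝒬 φ hP hex mR mS a hgam hG hH hH0 hΓ q z
    have hw' : jZ G H mR q w = cv q z := hw
    have hwW : w ∈ WΔ G H mR q := by
      rw [hW, hw']
      exact Δ_cval 𝒯 ψ hψ εM εN 𝒬 φ hP hex mR mS a hgam hG hH q z
    exact ⟨⟨w, hwW⟩, hcvinj ((hcz _).trans hw')⟩
  have hfsurj : Function.Surjective f := by
    intro y
    obtain ⟨z, hz⟩ := Submodule.mkQ_surjective _ (Θ.symm y)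
    obtain ⟨w, rfl⟩ := hsurjz z
    refine ⟨w, ?_⟩
    rw [hf]
    change Θ (Submodule.mkQ _ (cz w)) = y
    rw [hz, LinearEquiv.apply_symm_apply]
  -- kernels
  have hkerfg : LinearMap.ker f = LinearMap.ker g := by
    ext w
    rw [LinearMap.mem_ker, LinearMap.mem_ker, hf, hg, LinearEquiv.map_eq_zero_iff]
    exact toH_eq_zero_iff' 𝒯 ψ hψ εM εN 𝒬 φ hP hex mR mS a hgam hG hH hH0 hΓ q cl hker w.1
      (cz w) (hcz w)
  obtain ⟨φ', hφ', hinj⟩ := exists_lift_of_ker_eq (K := k) (W := ↥(WΔ G H mR q)) (A := E.H a q)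
    (B := HM ⊗[k] H.X 0) f g hfsurj hkerfg
  refine ⟨φ', hinj, ?_, ?_⟩
  · -- pieces
    intro d
    apply Set.Subset.antisymm
    · rintro _ ⟨x, hx, rfl⟩
      obtain ⟨z, hzd, rfl⟩ := hΘ2 d x hx
      obtain ⟨w, rfl⟩ := hsurjz z
      rw [← hf, hφ', hg]
      rw [hcz] at hzd
      -- `w` is of bidegree `(d, d)`
      have hL : pL G H q d (jZ G H mR q w.1) = jZ G H mR q w.1 :=
        (totL G H q).p_of_mem hzd
      have hR : pR G H q d (jZ G H mR q w.1) = jZ G H mR q w.1 := by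
        have := (PFam.diag_eq_self_iff (totL G H q) (totR G H q) (pL_pR G H q) hzd).1
          ((hW w.1).1 w.2)
        exact (totR G H q).p_of_mem this
      have hwd : TensorProduct.map (pZ G mR q hpΓ d) ((H.P 0).p d) w.1 = w.1 := by
        apply jZ_injective G H mR q
        rw [jZ_map_pZ, hL, hR]
      rw [← hwd]
      generalize (w.1 : ↥(zG G mR q) ⊗[k] H.X 0) = w₀
      induction w₀ using TensorProduct.induction_on with
      | zero => simp only [map_zero]; exact zero_mem _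
      | add u u' hu hu' => simp only [map_add]; exact add_mem hu hu'
      | tmul z y =>
        apply Submodule.subset_span
        exact ⟨pZ G mR q hpΓ d z, (G.P q).p_mem d z.1, (H.P 0).p d y, (H.P 0).p_mem d y, rfl⟩
    · -- generators
      have hsm : ∀ (c : k) (x : E.H a q), x ∈ E.Hcomp a q d → c • x ∈ E.Hcomp a q d := by
        intro c x hx
        rw [← algebraMap_smul T c x]
        exact (E.Hcomp a q d).smul_mem
          (⟨algebraMap k T c, SetLike.algebraMap_mem_graded 𝒯 c⟩ : GrLC.deg0 (toAS 𝒯)) hx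
      intro x hx
      induction hx using Submodule.span_induction with
      | mem x hx =>
        obtain ⟨z, hz, y, hy, rfl⟩ := hx
        have hseg : (z : G.X q) ⊗ₜ[k] y ∈ segSub (G.P q) (H.P 0) d :=
          Submodule.subset_span ⟨z.1, hz, y, hy, rfl⟩
        have hwW : z ⊗ₜ[k] y ∈ WΔ G H mR q := by
          rw [hW, jZ_tmul, Δ_inj0, diag_of_mem_segSub _ _ hseg]
        refine ⟨f ⟨z ⊗ₜ[k] y, hwW⟩, ?_, ?_⟩
        · rw [hf]
          apply hΘ1 d
          rw [hcz]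
          change jZ G H mR q (z ⊗ₜ[k] y) ∈ _
          rw [jZ_tmul, PFam.mem_piece_iff, totL_p, pL_inj_tmul, (G.P q).p_of_mem hz]
        · rw [hφ', hg]
          rfl
      | zero => exact ⟨0, zero_mem _, map_zero _⟩
      | add x y _ _ hx hy =>
        obtain ⟨x', hx', rfl⟩ := hx
        obtain ⟨y', hy', rfl⟩ := hy
        exact ⟨x' + y', add_mem hx' hy', map_add _ _ _⟩
      | smul c x _ hx =>
        obtain ⟨x', hx', rfl⟩ := hx
        exact ⟨c • x', hsm c x' hx', map_smul _ _ _⟩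
  · -- semilinearity
    intro t x
    obtain ⟨w, rfl⟩ := hfsurj x
    have hwt : ψ t • w.1 ∈ WΔ G H mR q := by
      rw [hW, jZ_smul, Δ_smul 𝒯 ψ hψ G H q t, (hW w.1).1 w.2]
    have h1 : t • f w = f ⟨ψ t • w.1, hwt⟩ := by
      rw [hf, hf, ← map_smul, ← map_smul]
      congr 2
      apply hcvinj
      rw [cval_smul, hcz, hcz, jZ_smul]
    rw [h1, hφ', hφ', hg, hg]
    exact (mapA (k := k) cl (LinearMap.id : H.X 0 →ₗ[S] H.X 0)).map_smul (ψ t) w.1

end main

end Groth.Agent.Lib.Helper20.SegGr
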