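import Mathlib
import Groth.Agent.Lib.Helper20.SegN0d
import Groth.Agent.Lib.Helper20.SegCM2
import Groth.Agent.Lib.Helper20.LCTorsion
import Groth.Agent.S13225

/-!
# A graded module concentrated in cohomological degree zero, as a graded complex (helper20)
-/

set_option autoImplicit false
set_option linter.unusedSectionVars false
set_option linter.unusedVariables false
set_option linter.style.haveILetI false

universe u

open TensorProduct DirectSum Groth.Agent.Lib.Helper20.SegKun Groth.Agent.Lib.Helper20.SegTP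
  Groth.Agent.Lib.Helper20.GrConv GrLC Groth.Agent.Lib.Helper4.LC
  Groth.Agent.Lib.Helper20.SegAcyc Groth.Agent.Lib.Helper20.ResCmp
  Groth.Agent.Lib.Helper20.GrLCBasic

namespace Groth.Agent.Lib.Helper20.SegGr

attribute [local instance] actModule smulCommClass_base isScalarTower_base

variable {k : Type u} [Field k]

section restrict

variable {S : Type u} [CommRing S] [Algebra k S]
  {L : Type u} [AddCommGroup L] [Module S L] [Module k L] [IsScalarTower k S L]

/-- the restriction of a projection family to a stable submodule. -/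
noncomputable def PFam.restrictSub (P : PFam k L) (V : Submodule S L)
    (hV : ∀ e x, x ∈ V → P.p e x ∈ V) : PFam k ↥V where
  p e :=
    { toFun := fun x => ⟨P.p e x.1, hV e x.1 x.2⟩
      map_add' := fun x y => Subtype.ext (map_add (P.p e) x.1 y.1)
      map_smul' := fun c x => Subtype.ext (map_smul (P.p e) c x.1) }
  idem e x := Subtype.ext (P.idem e x.1)
  orth e e' x he := Subtype.ext (P.orth e e' x.1 he)
  span x := by
    classical
    have hx : (x : L) = ∑ e ∈ (DirectSum.decompose P.piece (x : L)).support, P.p e (x : L) := by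
      conv_lhs => rw [← DirectSum.sum_support_decompose P.piece (x : L)]
      exact Finset.sum_congr rfl (fun e _ => P.decompose_eq (x : L) e)
    have hx' : x = ∑ e ∈ (DirectSum.decompose P.piece (x : L)).support,
        (⟨P.p e x.1, hV e x.1 x.2⟩ : ↥V) := by
      apply Subtype.ext
      rw [Submodule.coe_sum]
      exact hx
    rw [hx']
    apply Submodule.sum_mem
    intro e _
    exact Submodule.mem_iSup_of_mem e ⟨x, rfl⟩

lemma PFam.restrictSub_p (P : PFam k L) (V : Submodule S L)
    (hV : ∀ e x, x ∈ V → P.p e x ∈ V) (e : ℤ) (x : ↥V) :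
    (((P.restrictSub V hV).p e x : ↥V) : L) = P.p e x.1 := rfl

lemma PFam.mem_piece_restrictSub (P : PFam k L) (V : Submodule S L)
    (hV : ∀ e x, x ∈ V → P.p e x ∈ V) (e : ℤ) (x : ↥V) :
    x ∈ (P.restrictSub V hV).piece e ↔ (x : L) ∈ P.piece e := by
  rw [PFam.mem_piece_iff, PFam.mem_piece_iff]
  constructor
  · intro h
    exact congrArg Subtype.val h
  · intro h
    exact Subtype.ext h

end restrict

section conc

variable {S : Type u} [CommRing S] [Algebra k S] (ℬ : ℤ → Submodule k S) [GradedAlgebra ℬ]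
  {N : Type u} [AddCommGroup N] [Module S N] [Module k N] [IsScalarTower k S N]
  (𝒩 : ℤ → AddSubgroup N) [DirectSum.Decomposition 𝒩] [SetLike.GradedSMul ℬ 𝒩]

/-- the terms of the complex `N[0]`, as submodules of `N`. -/
def nsub (S : Type u) [CommRing S] (N : Type u) [AddCommGroup N] [Module S N] :
    ℕ → Submodule S N
  | 0 => ⊤
  | _ + 1 => ⊥

lemma nsub_stable (P : PFam k N) (a : ℕ) (e : ℤ) (x : N) (hx : x ∈ nsub S N a) :
    P.p e x ∈ nsub S N a := by
  cases a with
  | zero => exact Submodule.mem_top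
  | succ a =>
    have hx0 : x = 0 := (Submodule.mem_bot S).1 hx
    rw [hx0, map_zero]
    exact zero_mem _

/-- the graded complex `N[0]`. -/
noncomputable def gcx0 : GCx k S ℬ :=
  haveI : SetLike.GradedSMul (toAS ℬ) 𝒩 := gradedSMul_toAS ℬ 𝒩
  { X := fun a => ↥(nsub S N a)
    d := fun a => 0
    d_comp_d := fun a x => rfl
    P := fun a => (PFam.ofDec 𝒩 (smul_mem_piece ℬ 𝒩)).restrictSub (nsub S N a)
      (nsub_stable (PFam.ofDec 𝒩 (smul_mem_piece ℬ 𝒩)) a)
    d_p := fun a e x => by
      rw [LinearMap.zero_apply, LinearMap.zero_apply, map_zero]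
    smul_p := fun a i e r hr x => Subtype.ext
      (decompose_smul_left (toAS ℬ) 𝒩 (show r ∈ toAS ℬ i from hr) x.1 e) }

/-- the augmentation of `N[0]`. -/
noncomputable def gaug0 : GAug (gcx0 ℬ 𝒩) N where
  PM := PFam.ofDec 𝒩 (smul_mem_piece ℬ 𝒩)
  ε := (Submodule.topEquiv (R := S) (M := N)).symm.toLinearMap
  ε_p e x := Subtype.ext rfl
  ε_inj := (Submodule.topEquiv (R := S) (M := N)).symm.injective
  exact_zero := by
    apply le_antisymm
    · intro x _
      exact ⟨x.1, Subtype.ext rfl⟩
    · intro x _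
      exact LinearMap.mem_ker.2 rfl

lemma gcx0_exact (n : ℕ) : (gcx0 ℬ 𝒩).toVCx.ExactAt (n + 1) := by
  intro x hx
  have hx0 : x = 0 := Subtype.ext ((Submodule.mem_bot S).1 x.2)
  rw [hx0]
  exact zero_mem _

lemma gcx0_subsingleton (b : ℕ) : Subsingleton ((gcx0 ℬ 𝒩).X (b + 1)) :=
  ⟨fun x y => Subtype.ext (((Submodule.mem_bot S).1 x.2).trans ((Submodule.mem_bot S).1 y.2).symm)⟩

/-- every term of `N[0]` is a retract of `N`. -/
lemma gcx0_retract (b : ℕ) : ∃ r : N →ₗ[S] ↥(nsub S N b), ∀ x, r ((nsub S N b).subtype x) = x := by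
  cases b with
  | zero => exact ⟨(Submodule.topEquiv (R := S) (M := N)).symm.toLinearMap, fun x => Subtype.ext rfl⟩
  | succ b => exact ⟨0, fun x => Subtype.ext ((Submodule.mem_bot S).1 x.2).symm⟩

lemma gcx0_acyclic (mS : Ideal S) (g : S) (hg : g ∈ mS)
    (hgN : Function.Bijective (fun y : N => g • y)) (b q : ℕ) :
    Subsingleton (HH mS (ModuleCat.of S ((gcx0 ℬ 𝒩).X b)) (q + 1)) := by
  obtain ⟨r, hr⟩ := gcx0_retract (S := S) (N := N) b
  exact subsingleton_HH_of_retract mS (nsub S N b).subtype r hr (q + 1)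
    (LCTorsion.subsingleton_of_bijective_smul mS N g hg hgN (q + 1))

lemma gcx0_gam (mS : Ideal S) (g : S) (hg : g ∈ mS)
    (hgN : Function.Injective (fun y : N => g • y)) :
    GrLC.gam mS ((gcx0 ℬ 𝒩).X 0) = ⊥ := by
  rw [eq_bot_iff]
  rintro x ⟨n, hn⟩
  have h1 : g ^ n • x = 0 := hn _ (Ideal.pow_mem_pow hg n)
  have h2 : ∀ (m : ℕ) (y : N), g ^ m • y = 0 → y = 0 := by
    intro m
    induction m with
    | zero => intro y hy; simpa using hy
    | succ m ih =>
      intro y hy
      apply ih
      apply hgN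
      change g • (g ^ m • y) = g • 0
      rw [smul_zero, smul_smul, ← pow_succ']
      exact hy
  have h3 : ((show ↥(nsub S N 0) from x) : N) = 0 :=
    h2 n (show ↥(nsub S N 0) from x).1 (congrArg Subtype.val h1)
  exact (Submodule.mem_bot S).2 (Subtype.ext h3)

end conc

end Groth.Agent.Lib.Helper20.SegGr
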