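import Mathlib
import Groth.Agent.Lib.Helper20.SegN0e
import Groth.Agent.Lib.Helper20.SegMain

/-!
# `H^q_{T_+}(M # N) ≅ H^q_m(M) # N` when a homogeneous element of positive degree acts bijectively
on `N` (helper20)
-/

set_option autoImplicit false
set_option linter.unusedSectionVars false
set_option linter.unusedVariables false
set_option linter.style.haveILetI false

universe u

open TensorProduct DirectSum Groth.Agent.Lib.Helper20.SegKun Groth.Agent.Lib.Helper20.SegTP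
  Groth.Agent.Lib.Helper20.GrConv GrLC Groth.Agent.Lib.Helper4.LC
  Groth.Agent.Lib.Helper20.SegAcyc Groth.Agent.Lib.Helper20.ResCmp
  Groth.Agent.Lib.Helper20.GrLCBasic

namespace Groth.Agent.Lib.Helper20.SegGr

attribute [local instance] actModule smulCommClass_base isScalarTower_base

variable {k : Type u} [Field k]

section aux

variable {R : Type u} [CommRing R] [Algebra k R] (𝒜 : ℤ → Submodule k R) [GradedAlgebra 𝒜]
  {M : Type u} [AddCommGroup M] [Module R M] [Module k M] [IsScalarTower k R M]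
  (ℳ : ℤ → AddSubgroup M) [DirectSum.Decomposition ℳ] [SetLike.GradedSMul 𝒜 ℳ]
  (EM : StarInjRes 𝒜 ℳ) (mR : HomogeneousIdeal 𝒜)

lemma bG_gcxOf (q : ℕ) : bG (gcxOf 𝒜 ℳ EM) mR.toIdeal q = EM.cobdy mR q := by
  cases q <;> rfl

lemma zG_gcxOf (q : ℕ) : zG (gcxOf 𝒜 ℳ EM) mR.toIdeal q = EM.cocyc mR q := rfl

lemma gam_p_gcxOf (q : ℕ) (e : ℤ) (x : (gcxOf 𝒜 ℳ EM).X q)
    (hx : x ∈ GrLC.gam mR.toIdeal ((gcxOf 𝒜 ℳ EM).X q)) :
    ((gcxOf 𝒜 ℳ EM).P q).p e x ∈ GrLC.gam mR.toIdeal ((gcxOf 𝒜 ℳ EM).X q) := by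
  haveI := gradedSMul_toAS 𝒜 (EM.X q).gr
  exact Groth.Agent.S13225.gam_isHomogeneous (toAS 𝒜) (EM.X q).gr (idealTo 𝒜 mR) e hx

end aux

section main

open GrSeg

set_option maxHeartbeats 1000000 in
/-- **`H^q_{T_+}(M # N) ≅ H^q_m(M) # N`** when a homogeneous element of positive degree acts
bijectively on `N`. -/
theorem exists_isSegreMod_H_of_bijective (k : Type u) [Field k] (R : Type u) [CommRing R]
    [Algebra k R]
    (𝒜 : ℤ → Submodule k R) [GradedAlgebra 𝒜] (hposR : ∀ n : ℤ, n < 0 → 𝒜 n = ⊥)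
    (h0R : 𝒜 0 = Submodule.span k {(1 : R)}) [Algebra.FiniteType k R]
    (S : Type u) [CommRing S] [Algebra k S] (ℬ : ℤ → Submodule k S)
    [GradedAlgebra ℬ] (hposS : ∀ n : ℤ, n < 0 → ℬ n = ⊥)
    (h0S : ℬ 0 = Submodule.span k {(1 : S)}) [Algebra.FiniteType k S]
    (T : Type u) [CommRing T] [Algebra k T] (𝒯 : ℤ → Submodule k T) [GradedAlgebra 𝒯]
    (ψ : T →ₐ[k] TensorProduct k R S) (hT : GrSeg.IsSegreRing 𝒜 ℬ 𝒯 ψ)
    (mR : HomogeneousIdeal 𝒜)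
    (hmR : mR.toIdeal = Ideal.span (⋃ n ∈ Set.Ioi (0 : ℤ), (𝒜 n : Set R)))
    (mT : HomogeneousIdeal 𝒯)
    (hmT : mT.toIdeal = Ideal.span (⋃ n ∈ Set.Ioi (0 : ℤ), (𝒯 n : Set T)))
    (M : Type u) [AddCommGroup M] [Module R M] [Module k M] [IsScalarTower k R M]
    (ℳ : ℤ → AddSubgroup M) [DirectSum.Decomposition ℳ] [SetLike.GradedSMul 𝒜 ℳ]
    (EM : GrLC.StarInjRes 𝒜 ℳ)
    (N : Type u) [AddCommGroup N] [Module S N] [Module k N] [IsScalarTower k S N]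
    (𝒩 : ℤ → AddSubgroup N) [DirectSum.Decomposition 𝒩] [SetLike.GradedSMul ℬ 𝒩]
    (e : ℕ) (he : 0 < e) (g : S) (hg : g ∈ ℬ (e : ℤ))
    (hgN : Function.Bijective (fun y : N => g • y))
    (P : Type u) [AddCommGroup P] [Module T P] [Module k P] [IsScalarTower k T P]
    (𝒬 : ℤ → AddSubgroup P) [DirectSum.Decomposition 𝒬] [SetLike.GradedSMul 𝒯 𝒬]
    (φ : P →ₗ[k] TensorProduct k M N) (hP : GrSeg.IsSegreMod ψ ℳ 𝒩 𝒬 φ)
    (EP : GrLC.StarInjRes 𝒯 𝒬) (q : ℕ)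
    [Module k (EM.H mR q)] [IsScalarTower k R (EM.H mR q)]
    [Module k (EP.H mT q)] [IsScalarTower k T (EP.H mT q)]
    [DirectSum.Decomposition (EP.Hgr mT q)] :
    ∃ φ' : EP.H mT q →ₗ[k] TensorProduct k (EM.H mR q) N,
      GrSeg.IsSegreMod ψ (EM.Hgr mR q) 𝒩 (EP.Hgr mT q) φ' := by
  classical
  haveI : IsNoetherianRing R := Algebra.FiniteType.isNoetherianRing k R
  haveI : IsNoetherianRing S := Algebra.FiniteType.isNoetherianRing k S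
  haveI hft : Algebra.FiniteType k (R ⊗[k] S) :=
    Algebra.FiniteType.trans (S := R) inferInstance inferInstance
  haveI : IsNoetherianRing (R ⊗[k] S) := Algebra.FiniteType.isNoetherianRing k _
  haveI : IsNoetherianRing T :=
    Groth.Agent.S18646.result k R 𝒜 hposR h0R S ℬ hposS h0S T 𝒯 ψ hT.1 hT.2
  have hψ := SegRad.ψ_mem_segrePiece 𝒜 ℬ 𝒯 ψ hT
  obtain ⟨EN⟩ := SegBase.nonempty_starInjRes ℬ 𝒩
  have hPD0 := pdata_of_isSegreMod 𝒜 ℬ ψ ℳ EM 𝒩 EN 𝒬 φ hP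
  have hPD : PData ψ (gaugOf 𝒜 ℳ EM) (gaug0 ℬ 𝒩) (toAS 𝒬) φ :=
    ⟨hPD0.inj, hPD0.smul, hPD0.diag, hPD0.surj, hPD0.deg⟩
  have hmS := SegBase.irr_toIdeal ℬ
  have hgm : g ∈ (SegBase.irr ℬ).toIdeal := by
    rw [hmS]
    exact Ideal.subset_span (Set.mem_iUnion₂.2 ⟨(e : ℤ), by
      rw [Set.mem_Ioi]
      exact_mod_cast he, hg⟩)
  have hex : ∀ n, (Tot (gcxOf 𝒜 ℳ EM).toVCx (gcx0 ℬ 𝒩).toVCx).ExactAt (n + 1) :=
    tot_exactAt_succ _ _ (gcxOf_exact 𝒜 ℳ EM) (gcx0_exact ℬ 𝒩)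
  have hgam : ∀ (N' : Type u) [AddCommGroup N'] [Module (R ⊗[k] S) N'],
      GrLC.gam ((idealTo 𝒯 mT).toIdeal.map ψ) N' =
        GrLC.gam (mR.toIdeal.map (algebraMap R (R ⊗[k] S)) ⊓
          (SegBase.irr ℬ).toIdeal.map
            (Algebra.TensorProduct.includeRight : S →ₐ[k] R ⊗[k] S)) N' :=
    fun N' _ _ => SegRad.gam_eq 𝒜 ℬ 𝒯 ψ hT mR.toIdeal hmR (SegBase.irr ℬ).toIdeal hmS
      mT.toIdeal hmT N'
  obtain ⟨cl, hcl⟩ : ∃ cl : ↥(zG (gcxOf 𝒜 ℳ EM) mR.toIdeal q) →ₗ[R] EM.H mR q,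
      ∀ z, cl z = EM.toH mR q z := ⟨EM.toH mR q, fun _ => rfl⟩
  have hker : ∀ z : ↥(zG (gcxOf 𝒜 ℳ EM) mR.toIdeal q),
      cl z = 0 ↔ (z : (gcxOf 𝒜 ℳ EM).X q) ∈ bG (gcxOf 𝒜 ℳ EM) mR.toIdeal q := by
    intro z
    rw [hcl, bG_gcxOf, Submodule.mkQ_apply, Submodule.Quotient.mk_eq_zero, Submodule.mem_comap]
    rfl
  letI : Module k ((resTo 𝒯 𝒬 EP).H (idealTo 𝒯 mT) q) := ‹Module k (EP.H mT q)›
  haveI : IsScalarTower k T ((resTo 𝒯 𝒬 EP).H (idealTo 𝒯 mT) q) :=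
    ‹IsScalarTower k T (EP.H mT q)›
  obtain ⟨φ₀, hinj, hpiece, hsmul⟩ := exists_segre_iso_of_concentrated 𝒯 ψ hψ (gaugOf 𝒜 ℳ EM)
    (gaug0 ℬ 𝒩) (toAS 𝒬) φ hPD hex mR.toIdeal (SegBase.irr ℬ).toIdeal (idealTo 𝒯 mT) hgam
    (gcxOf_acyclic 𝒜 ℳ EM mR) (gcx0_acyclic ℬ 𝒩 (SegBase.irr ℬ).toIdeal g hgm hgN)
    (gcx0_subsingleton ℬ 𝒩) (gcx0_gam ℬ 𝒩 (SegBase.irr ℬ).toIdeal g hgm hgN.1) q cl hker
    (gam_p_gcxOf 𝒜 ℳ EM mR q) (resTo 𝒯 𝒬 EP)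
  -- the comparison `H ⊗ N[0]^0 → H ⊗ N`
  obtain ⟨Lθ, hLθ, hLθinj, hLθsmul⟩ : ∃ Lθ : EM.H mR q ⊗[k] (gcx0 ℬ 𝒩).X 0 →ₗ[k]
      EM.H mR q ⊗[k] N,
      (∀ (x : EM.H mR q) (y : (gcx0 ℬ 𝒩).X 0),
        Lθ (x ⊗ₜ[k] y) = x ⊗ₜ[k] ((show ↥(nsub S N 0) from y) : N)) ∧
      Function.Injective Lθ ∧ ∀ (a : R ⊗[k] S) w, Lθ (a • w) = a • Lθ w := by
    refine ⟨(mapA (k := k) (LinearMap.id : EM.H mR q →ₗ[R] EM.H mR q)
      (nsub S N 0).subtype).restrictScalars k, fun x y => rfl, ?_, fun a w =>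
        (mapA (k := k) (LinearMap.id : EM.H mR q →ₗ[R] EM.H mR q)
          (nsub S N 0).subtype).map_smul a w⟩
    have hsub : Function.Injective ((nsub S N 0).subtype.restrictScalars k) :=
      fun a b h => Subtype.ext h
    have h2 := Module.Flat.lTensor_preserves_injective_linearMap (M := EM.H mR q) _ hsub
    have h3 : ((mapA (k := k) (LinearMap.id : EM.H mR q →ₗ[R] EM.H mR q)
        (nsub S N 0).subtype).restrictScalars k) =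
        LinearMap.lTensor (EM.H mR q) ((nsub S N 0).subtype.restrictScalars k) :=
      TensorProduct.ext' (fun x y => rfl)
    rw [h3]
    exact h2
  obtain ⟨φ', hφ'⟩ : ∃ φ' : EP.H mT q →ₗ[k] EM.H mR q ⊗[k] N, ∀ x, φ' x = Lθ (φ₀ x) :=
    ⟨Lθ ∘ₗ φ₀, fun _ => rfl⟩
  have hsm : ∀ (d : ℤ) (c : k) (x : EP.H mT q), x ∈ EP.Hgr mT q d → c • x ∈ EP.Hgr mT q d := by
    intro d c x hx
    rw [← algebraMap_smul T c x]
    exact (EP.Hcomp mT q d).smul_mem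
      (⟨algebraMap k T c, SetLike.algebraMap_mem_graded 𝒯 c⟩ : GrLC.deg0 𝒯) hx
  refine ⟨φ', ⟨?_, ?_, ?_⟩⟩
  · intro x y h
    rw [hφ', hφ'] at h
    exact hinj (hLθinj h)
  · intro d
    apply Set.Subset.antisymm
    · rintro _ ⟨x, hx, rfl⟩
      have hx' : x ∈ (resTo 𝒯 𝒬 EP).Hcomp (idealTo 𝒯 mT) q d := hx
      have h2 : φ₀ x ∈ φ₀ '' ((resTo 𝒯 𝒬 EP).Hcomp (idealTo 𝒯 mT) q d : Set _) :=
        ⟨x, hx', rfl⟩
      rw [hpiece d] at h2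
      rw [hφ']
      generalize φ₀ x = u at h2 ⊢
      induction h2 using Submodule.span_induction with
      | mem u hu =>
        obtain ⟨z, hz, y, hy, rfl⟩ := hu
        rw [hLθ]
        refine Submodule.subset_span ⟨cl z, ?_, _, ?_, rfl⟩
        · rw [hcl]
          exact ⟨z, (mem_piece_gcxOf 𝒜 ℳ EM q d z.1).1 hz, rfl⟩
        · have h3 := (PFam.mem_piece_restrictSub (PFam.ofDec 𝒩 (smul_mem_piece ℬ 𝒩))
            (nsub S N 0) (nsub_stable (PFam.ofDec 𝒩 (smul_mem_piece ℬ 𝒩)) 0) d y).1 hy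
          exact (PFam.mem_piece_ofDec 𝒩 (smul_mem_piece ℬ 𝒩) d _).1 h3
      | zero => rw [map_zero]; exact zero_mem _
      | add u v _ _ hu hv => rw [map_add]; exact add_mem hu hv
      | smul c u _ hu => rw [map_smul]; exact Submodule.smul_mem _ c hu
    · have key : ∀ w ∈ Submodule.span k {x : EM.H mR q ⊗[k] N | ∃ a ∈ EM.Hgr mR q d,
          ∃ b ∈ 𝒩 d, x = a ⊗ₜ[k] b}, w ∈ φ' '' (EP.Hgr mT q d : Set (EP.H mT q)) := by
        intro w hw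
        induction hw using Submodule.span_induction with
        | mem w hw =>
          obtain ⟨a, ha, b, hb, rfl⟩ := hw
          obtain ⟨z, hz, rfl⟩ := ha
          have hzz : (show ↥(zG (gcxOf 𝒜 ℳ EM) mR.toIdeal q) from z : (gcxOf 𝒜 ℳ EM).X q) ∈
              ((gcxOf 𝒜 ℳ EM).P q).piece d := (mem_piece_gcxOf 𝒜 ℳ EM q d z.1).2 hz
          have hy : (show (gcx0 ℬ 𝒩).X 0 from (⟨b, Submodule.mem_top⟩ : ↥(nsub S N 0))) ∈
              ((gcx0 ℬ 𝒩).P 0).piece d :=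
            (PFam.mem_piece_restrictSub (PFam.ofDec 𝒩 (smul_mem_piece ℬ 𝒩))
              (nsub S N 0) (nsub_stable (PFam.ofDec 𝒩 (smul_mem_piece ℬ 𝒩)) 0) d
              (⟨b, Submodule.mem_top⟩ : ↥(nsub S N 0))).2
              ((PFam.mem_piece_ofDec 𝒩 (smul_mem_piece ℬ 𝒩) d b).2 hb)
          have h2 : cl (show ↥(zG (gcxOf 𝒜 ℳ EM) mR.toIdeal q) from z) ⊗ₜ[k]
              (show (gcx0 ℬ 𝒩).X 0 from (⟨b, Submodule.mem_top⟩ : ↥(nsub S N 0))) ∈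
              φ₀ '' ((resTo 𝒯 𝒬 EP).Hcomp (idealTo 𝒯 mT) q d : Set _) := by
            rw [hpiece d]
            exact Submodule.subset_span ⟨_, hzz, _, hy, rfl⟩
          obtain ⟨x, hx, hxe⟩ := h2
          refine ⟨x, hx, ?_⟩
          rw [hφ', hxe, hLθ, hcl]
        | zero => exact ⟨0, zero_mem _, map_zero _⟩
        | add x y _ _ hx hy =>
          obtain ⟨x', hx', rfl⟩ := hx
          obtain ⟨y', hy', rfl⟩ := hy
          exact ⟨x' + y', add_mem hx' hy', map_add _ _ _⟩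
        | smul c x _ hx =>
          obtain ⟨x', hx', rfl⟩ := hx
          exact ⟨c • x', hsm d c x' hx', map_smul _ _ _⟩
      exact fun w hw => key w hw
  · intro t x
    rw [hφ', hφ']
    exact (congrArg Lθ (hsmul t x)).trans (hLθsmul _ _)

end main

end Groth.Agent.Lib.Helper20.SegGr
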