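import Mathlib
import Groth.Agent.Lib.Helper20.SegN0e

/-!
# The top graded local cohomology of a Segre product, `T`-linearly: preliminaries (helper20)
-/

set_option autoImplicit false
set_option linter.unusedSectionVars false
set_option linter.unusedVariables false
set_option linter.style.haveILetI false

universe u

open TensorProduct DirectSum Groth.Agent.Lib.Helper20.SegKun Groth.Agent.Lib.Helper20.SegTP
  Groth.Agent.Lib.Helper20.GrConv GrLC Groth.Agent.Lib.Helper4.LC
  Groth.Agent.Lib.Helper20.SegAcyc Groth.Agent.Lib.Helper20.ResCmp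
  Groth.Agent.Lib.Helper20.GrLCBasic

namespace Groth.Agent.Lib.Helper20.SegGr

attribute [local instance] actModule smulCommClass_base isScalarTower_base

section general

/-- factoring a linear map through a surjection with smaller kernel. -/
lemma exists_factor_of_ker_le {K W A B : Type*} [Field K] [AddCommGroup W] [Module K W]
    [AddCommGroup A] [Module K A] [AddCommGroup B] [Module K B]
    (f : W →ₗ[K] A) (g : W →ₗ[K] B) (hf : Function.Surjective f)
    (hk : LinearMap.ker f ≤ LinearMap.ker g) :
    ∃ φ : A →ₗ[K] B, ∀ w, φ (f w) = g w := by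
  refine ⟨(LinearMap.ker f).liftQ g hk ∘ₗ (f.quotKerEquivOfSurjective hf).symm.toLinearMap,
    fun w => ?_⟩
  change (LinearMap.ker f).liftQ g hk ((f.quotKerEquivOfSurjective hf).symm (f w)) = g w
  rw [LinearMap.quotKerEquivOfSurjective_symm_apply]
  rfl

/-- a tensor product of maps kills the kernel of a tensor product of surjections with smaller
kernels. -/
lemma map_eq_zero_of_ker_le {K : Type*} [Field K] {A A' B B' C C' : Type*}
    [AddCommGroup A] [Module K A] [AddCommGroup A'] [Module K A']
    [AddCommGroup B] [Module K B] [AddCommGroup B'] [Module K B']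
    [AddCommGroup C] [Module K C] [AddCommGroup C'] [Module K C']
    (p : A →ₗ[K] B) (p' : A' →ₗ[K] B') (c : A →ₗ[K] C) (c' : A' →ₗ[K] C')
    (hp : Function.Surjective p) (hp' : Function.Surjective p')
    (hk : LinearMap.ker p ≤ LinearMap.ker c) (hk' : LinearMap.ker p' ≤ LinearMap.ker c')
    (w : A ⊗[K] A') (hw : TensorProduct.map p p' w = 0) : TensorProduct.map c c' w = 0 := by
  obtain ⟨φ, hφ⟩ := exists_factor_of_ker_le p c hp hk
  obtain ⟨φ', hφ'⟩ := exists_factor_of_ker_le p' c' hp' hk'
  have h1 : TensorProduct.map c c' = TensorProduct.map φ φ' ∘ₗ TensorProduct.map p p' := by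
    apply TensorProduct.ext'
    intro x y
    rw [LinearMap.comp_apply, TensorProduct.map_tmul, TensorProduct.map_tmul,
      TensorProduct.map_tmul, hφ, hφ']
  rw [h1, LinearMap.comp_apply, hw, map_zero]

/-- an element of a direct sum all of whose summands but one are trivial. -/
lemma directSum_eq_lof_of_subsingleton {K : Type*} [Semiring K] {ι : Type} [DecidableEq ι]
    (X : ι → Type u) [∀ i, AddCommMonoid (X i)] [∀ i, Module K (X i)] (i₀ : ι)
    (h : ∀ i, i ≠ i₀ → Subsingleton (X i)) (x : ⨁ i, X i) :
    x = DirectSum.lof K ι X i₀ (x i₀) := by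
  apply DFinsupp.ext
  intro i
  by_cases hi : i = i₀
  · subst hi
    exact (DirectSum.of_eq_same i (x i)).symm
  · haveI := h i hi
    exact Subsingleton.elim _ _

end general

section torsion

variable (k : Type u) [Field k] (R S : Type u) [CommRing R] [CommRing S] [Algebra k R]
  [Algebra k S] [IsNoetherianRing R] [IsNoetherianRing S]
  (X Y : Type u) [AddCommGroup X] [Module R X] [Module k X] [IsScalarTower k R X]
  [AddCommGroup Y] [Module S Y] [Module k Y] [IsScalarTower k S Y]

/-- **the torsion of a tensor product.** -/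
theorem mem_gam_tensor_iff (I : Ideal R) (J : Ideal S) (𝔞 : Ideal (R ⊗[k] S))
    (h𝔞 : ∀ (N : Type u) [AddCommGroup N] [Module (R ⊗[k] S) N], GrLC.gam 𝔞 N =
      GrLC.gam (I.map (algebraMap R (R ⊗[k] S)) ⊓
        J.map (Algebra.TensorProduct.includeRight : S →ₐ[k] R ⊗[k] S)) N)
    (u : X ⊗[k] Y) :
    u ∈ GrLC.gam 𝔞 (X ⊗[k] Y) ↔
      TensorProduct.map ((GrLC.gam I X).restrictScalars k).mkQ
        ((GrLC.gam J Y).restrictScalars k).mkQ u = 0 := by
  have key := map_subtype_mem_gam_iff k R S X Y I J 𝔞 h𝔞 ⊤ ⊤
    (((GrLC.gam I X).restrictScalars k).comap (⊤ : Submodule k X).subtype)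
    (((GrLC.gam J Y).restrictScalars k).comap (⊤ : Submodule k Y).subtype)
    (fun v => Iff.rfl) (fun w => Iff.rfl)
    (TensorProduct.map (Submodule.topEquiv (R := k) (M := X)).symm.toLinearMap
      (Submodule.topEquiv (R := k) (M := Y)).symm.toLinearMap u)
  have h1 : TensorProduct.map (⊤ : Submodule k X).subtype (⊤ : Submodule k Y).subtype
      (TensorProduct.map (Submodule.topEquiv (R := k) (M := X)).symm.toLinearMap
        (Submodule.topEquiv (R := k) (M := Y)).symm.toLinearMap u) = u := by
    rw [← LinearMap.comp_apply, ← TensorProduct.map_comp]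
    have : (⊤ : Submodule k X).subtype ∘ₗ
        (Submodule.topEquiv (R := k) (M := X)).symm.toLinearMap = LinearMap.id := rfl
    have h' : (⊤ : Submodule k Y).subtype ∘ₗ
        (Submodule.topEquiv (R := k) (M := Y)).symm.toLinearMap = LinearMap.id := rfl
    rw [this, h', TensorProduct.map_id, LinearMap.id_apply]
  rw [h1] at key
  rw [key]
  -- compare the two quotient maps
  let eX : (↥(⊤ : Submodule k X) ⧸ ((GrLC.gam I X).restrictScalars k).comap
      (⊤ : Submodule k X).subtype) →ₗ[k] X ⧸ (GrLC.gam I X).restrictScalars k :=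
    Submodule.mapQ _ _ (⊤ : Submodule k X).subtype (fun v hv => hv)
  let eY : (↥(⊤ : Submodule k Y) ⧸ ((GrLC.gam J Y).restrictScalars k).comap
      (⊤ : Submodule k Y).subtype) →ₗ[k] Y ⧸ (GrLC.gam J Y).restrictScalars k :=
    Submodule.mapQ _ _ (⊤ : Submodule k Y).subtype (fun v hv => hv)
  have heX : Function.Injective eX := by
    rw [← LinearMap.ker_eq_bot, LinearMap.ker_eq_bot']
    intro v hv
    obtain ⟨v, rfl⟩ := Submodule.mkQ_surjective _ v
    have h2 : (v : X) ∈ (GrLC.gam I X).restrictScalars k :=
      (Submodule.Quotient.mk_eq_zero _).1 hv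
    exact (Submodule.Quotient.mk_eq_zero _).2 h2
  have heY : Function.Injective eY := by
    rw [← LinearMap.ker_eq_bot, LinearMap.ker_eq_bot']
    intro v hv
    obtain ⟨v, rfl⟩ := Submodule.mkQ_surjective _ v
    have h2 : (v : Y) ∈ (GrLC.gam J Y).restrictScalars k :=
      (Submodule.Quotient.mk_eq_zero _).1 hv
    exact (Submodule.Quotient.mk_eq_zero _).2 h2
  have hinj : Function.Injective (TensorProduct.map eX eY) :=
    TensorProduct.map_injective_of_flat_flat _ _ heX heY
  have hsq : ∀ u' : X ⊗[k] Y, TensorProduct.map eX eY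
      (TensorProduct.map (Submodule.mkQ _) (Submodule.mkQ _)
        (TensorProduct.map (Submodule.topEquiv (R := k) (M := X)).symm.toLinearMap
          (Submodule.topEquiv (R := k) (M := Y)).symm.toLinearMap u')) =
      TensorProduct.map ((GrLC.gam I X).restrictScalars k).mkQ
        ((GrLC.gam J Y).restrictScalars k).mkQ u' := by
    intro u'
    induction u' using TensorProduct.induction_on with
    | zero => simp only [map_zero]
    | add a b ha hb => simp only [map_add, ha, hb]
    | tmul x y => rfl
  rw [← hsq u]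
  constructor
  · intro h
    rw [h, map_zero]
  · intro h
    exact hinj (h.trans (map_zero _).symm)

end torsion

end Groth.Agent.Lib.Helper20.SegGr
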