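import Mathlib
import Groth.Agent.Lib.Helper20.SegTop1

/-!
# The top graded local cohomology of a Segre product, `T`-linearly: the quotient complexes
(helper20)
-/

set_option autoImplicit false
set_option linter.unusedSectionVars false
set_option linter.unusedVariables false
set_option linter.style.haveILetI false

universe u

open TensorProduct DirectSum Groth.Agent.Lib.Helper20.SegKun Groth.Agent.Lib.Helper20.SegTP
  Groth.Agent.Lib.Helper20.GrConv GrLC Groth.Agent.Lib.Helper4.LC
  Groth.Agent.Lib.Helper20.SegAcyc Groth.Agent.Lib.Helper20.ResCmp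
  Groth.Agent.Lib.Helper20.GrLCBasic

namespace Groth.Agent.Lib.Helper20.SegGr

attribute [local instance] actModule smulCommClass_base isScalarTower_base

variable {k : Type u} [Field k]
  {R S : Type u} [CommRing R] [CommRing S] [Algebra k R] [Algebra k S]
  {𝒜 : ℤ → Submodule k R} {ℬ : ℤ → Submodule k S}

section quot

variable (G : GCx k R 𝒜) (H : GCx k S ℬ) (mR : Ideal R) (mS : Ideal S)

/-- the torsion subspaces of the terms of a graded complex. -/
def gamFam (n : ℕ) : Submodule k (G.X n) := (GrLC.gam mR (G.X n)).restrictScalars k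

lemma mem_gamFam (n : ℕ) (x : G.X n) : x ∈ gamFam G mR n ↔ x ∈ GrLC.gam mR (G.X n) := Iff.rfl

lemma gamFam_stable : G.toVCx.Stable (gamFam G mR) := fun n x hx => map_mem_gam (G.d n) hx

/-- the quotient complex `G / Γ(G)`. -/
noncomputable abbrev Gq : VCx k := G.toVCx.quot (gamFam G mR) (gamFam_stable G mR)

/-- the torsion subcomplex `Γ(G)`. -/
noncomputable abbrev Gs : VCx k := G.toVCx.sub (gamFam G mR) (gamFam_stable G mR)

/-- the quotient map of total complexes. -/
noncomputable abbrev QT : VHom (Tot G.toVCx H.toVCx) (Tot (Gq G mR) (Gq H mS)) :=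
  quotTotHom G.toVCx H.toVCx (gamFam G mR) (gamFam_stable G mR) (gamFam H mS) (gamFam_stable H mS)

variable [IsNoetherianRing R] [IsNoetherianRing S]

/-- **the torsion of the total complex.** -/
theorem mem_gam_TX_iff (𝔞 : Ideal (R ⊗[k] S))
    (hgam : ∀ (N : Type u) [AddCommGroup N] [Module (R ⊗[k] S) N],
      GrLC.gam 𝔞 N = GrLC.gam (mR.map (algebraMap R (R ⊗[k] S)) ⊓
        mS.map (Algebra.TensorProduct.includeRight : S →ₐ[k] R ⊗[k] S)) N)
    (n : ℕ) (z : TX G H n) :
    z ∈ GrLC.gam 𝔞 (TX G H n) ↔ (QT G H mR mS).f n z = 0 := by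
  have key := totMap_eq_zero_iff (G.toVCx.quotHom (gamFam G mR) (gamFam_stable G mR)).f
    (H.toVCx.quotHom (gamFam H mS) (gamFam_stable H mS)).f n z
  refine Iff.trans ?_ key.symm
  rw [mem_gam_directSum_iff (fun p : Idx n => G.X p.1.1 ⊗[k] H.X p.1.2) 𝔞]
  refine forall_congr' (fun p => ?_)
  exact mem_gam_tensor_iff k R S (G.X p.1.1) (H.X p.1.2) mR mS 𝔞 hgam (z p)

end quot

end Groth.Agent.Lib.Helper20.SegGr
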