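import Mathlib
import Groth.Agent.Lib.Helper20.SegTop2

/-!
# The top graded local cohomology of a Segre product, `T`-linearly: the presenting modules
(helper20)
-/

set_option autoImplicit false
set_option linter.unusedSectionVars false
set_option linter.unusedVariables false
set_option linter.style.haveILetI false

universe u

open TensorProduct DirectSum Groth.Agent.Lib.Helper20.SegKun Groth.Agent.Lib.Helper20.SegTP
  Groth.Agent.Lib.Helper20.GrConv GrLC Groth.Agent.Lib.Helper4.LC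
  Groth.Agent.Lib.Helper20.SegAcyc Groth.Agent.Lib.Helper20.ResCmp
  Groth.Agent.Lib.Helper20.GrLCBasic

namespace Groth.Agent.Lib.Helper20.SegGr

attribute [local instance] actModule smulCommClass_base isScalarTower_base

variable {k : Type u} [Field k]
  {R S : Type u} [CommRing R] [CommRing S] [Algebra k R] [Algebra k S]
  {𝒜 : ℤ → Submodule k R} {ℬ : ℤ → Submodule k S}

section AG

variable (G : GCx k R 𝒜) (mR : Ideal R) (a₀ : ℕ)

/-- the elements of `G^{a₀}` whose differential is torsion. -/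
def AG : Submodule R (G.X a₀) := (GrLC.gam mR (G.X (a₀ + 1))).comap (G.d a₀)

lemma mem_AG (x : G.X a₀) : x ∈ AG G mR a₀ ↔ G.d a₀ x ∈ GrLC.gam mR (G.X (a₀ + 1)) := Iff.rfl

/-- the differential `A → Z(Γ G)^{a₀+1}`. -/
noncomputable def δG : ↥(AG G mR a₀) →ₗ[R] ↥(zG G mR (a₀ + 1)) where
  toFun x := ⟨G.d a₀ x.1, ⟨x.2, G.d_comp_d a₀ x.1⟩⟩
  map_add' x y := Subtype.ext (map_add (G.d a₀) x.1 y.1)
  map_smul' r x := Subtype.ext (map_smul (G.d a₀) r x.1)

lemma δG_coe (x : ↥(AG G mR a₀)) :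
    ((δG G mR a₀ x : ↥(zG G mR (a₀ + 1))) : G.X (a₀ + 1)) = G.d a₀ x.1 := rfl

lemma δG_surjective (hex : G.toVCx.ExactAt (a₀ + 1)) : Function.Surjective (δG G mR a₀) := by
  intro z
  obtain ⟨y, hy⟩ := hex z.1 z.2.2
  have hy' : G.d a₀ y = z.1 := hy
  refine ⟨⟨y, ?_⟩, Subtype.ext hy'⟩
  rw [mem_AG, hy']
  exact z.2.1

/-- the quotient map `A → Z(G/ΓG)^{a₀}`. -/
noncomputable def ρG : ↥(AG G mR a₀) →ₗ[k] ↥((Gq G mR).Z a₀) where
  toFun x := ⟨(gamFam G mR a₀).mkQ x.1, by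
    rw [VCx.mem_Z]
    change Submodule.Quotient.mk (G.d a₀ x.1) = 0
    rw [Submodule.Quotient.mk_eq_zero]
    exact x.2⟩
  map_add' x y := Subtype.ext (map_add (gamFam G mR a₀).mkQ x.1 y.1)
  map_smul' c x := Subtype.ext (map_smul (gamFam G mR a₀).mkQ c x.1)

lemma ρG_coe (x : ↥(AG G mR a₀)) :
    ((ρG G mR a₀ x : ↥((Gq G mR).Z a₀)) : (Gq G mR).X a₀) = (gamFam G mR a₀).mkQ x.1 := rfl

lemma ρG_surjective : Function.Surjective (ρG G mR a₀) := by
  rintro ⟨z, hz⟩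
  obtain ⟨x, rfl⟩ := Submodule.mkQ_surjective _ z
  rw [VCx.mem_Z] at hz
  have hz' : (Submodule.Quotient.mk (G.d a₀ x) : G.X (a₀ + 1) ⧸ gamFam G mR (a₀ + 1)) = 0 := hz
  rw [Submodule.Quotient.mk_eq_zero] at hz'
  exact ⟨⟨x, hz'⟩, Subtype.ext rfl⟩

/-- the class map `A → H^{a₀}(G/ΓG)`. -/
noncomputable def pG : ↥(AG G mR a₀) →ₗ[k] (Gq G mR).H a₀ := (Gq G mR).cls a₀ ∘ₗ ρG G mR a₀

lemma pG_surjective : Function.Surjective (pG G mR a₀) :=
  ((Gq G mR).cls_surjective a₀).comp (ρG_surjective G mR a₀)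

end AG

section ker

variable (G : GCx k R 𝒜) (mR : Ideal R) (a₁ : ℕ)
  {HM : Type u} [AddCommGroup HM] [Module R HM] [Module k HM] [IsScalarTower k R HM]
  (cl : ↥(zG G mR (a₁ + 2)) →ₗ[R] HM)
  (hker : ∀ z : ↥(zG G mR (a₁ + 2)), cl z = 0 ↔ (z : G.X (a₁ + 2)) ∈ bG G mR (a₁ + 2))

include hker in
/-- the class in `H(G/ΓG)` determines the class of the differential. -/
lemma ker_pG_le : LinearMap.ker (pG G mR (a₁ + 1)) ≤
    LinearMap.ker ((cl ∘ₗ δG G mR (a₁ + 1)).restrictScalars k) := by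
  intro x hx
  rw [LinearMap.mem_ker] at hx ⊢
  change (Gq G mR).cls (a₁ + 1) (ρG G mR (a₁ + 1) x) = 0 at hx
  rw [VCx.cls_eq_zero_iff] at hx
  obtain ⟨y, hy⟩ := hx
  obtain ⟨y, rfl⟩ := Submodule.mkQ_surjective _ y
  have hy' : (Submodule.Quotient.mk (G.d a₁ y) : G.X (a₁ + 1) ⧸ gamFam G mR (a₁ + 1)) =
      Submodule.Quotient.mk x.1 := hy
  rw [Submodule.Quotient.eq] at hy'
  -- `d y - x ∈ Γ`
  change cl (δG G mR (a₁ + 1) x) = 0
  rw [hker]
  refine ⟨x.1 - G.d a₁ y, ?_, ?_⟩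
  · have := (GrLC.gam mR (G.X (a₁ + 1))).neg_mem hy'
    rw [neg_sub] at this
    exact this
  · rw [map_sub, G.d_comp_d, sub_zero]
    rfl

end ker

end Groth.Agent.Lib.Helper20.SegGr
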