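import Mathlib
import Groth.Agent.Lib.Helper20.SegTop3

/-!
# The top graded local cohomology of a Segre product, `T`-linearly: the map `A ⊗ A' → Tot`
(helper20)
-/

set_option autoImplicit false
set_option linter.unusedSectionVars false
set_option linter.unusedVariables false
set_option linter.style.haveILetI false

universe u

open TensorProduct DirectSum Groth.Agent.Lib.Helper20.SegKun Groth.Agent.Lib.Helper20.SegTP
  Groth.Agent.Lib.Helper20.GrConv GrLC Groth.Agent.Lib.Helper4.LC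
  Groth.Agent.Lib.Helper20.SegAcyc Groth.Agent.Lib.Helper20.ResCmp
  Groth.Agent.Lib.Helper20.GrLCBasic

namespace Groth.Agent.Lib.Helper20.SegGr

attribute [local instance] actModule smulCommClass_base isScalarTower_base

variable {k : Type u} [Field k]
  {R S : Type u} [CommRing R] [CommRing S] [Algebra k R] [Algebra k S]
  {𝒜 : ℤ → Submodule k R} {ℬ : ℤ → Submodule k S}

section cocyc

variable (V W : VCx k)

/-- a tensor of cocycles is a cocycle of the total complex. -/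
lemma totD_inj_map_Z {n : ℕ} (a b : ℕ) (h : a + b = n) (w : ↥(V.Z a) ⊗[k] ↥(W.Z b)) :
    totD V W n (inj V W a b h (TensorProduct.map (V.Z a).subtype (W.Z b).subtype w)) = 0 := by
  induction w using TensorProduct.induction_on with
  | zero => simp only [map_zero]
  | add w w' hw hw' => simp only [map_add, hw, hw', add_zero]
  | tmul x y =>
    rw [TensorProduct.map_tmul, totD_inj_tmul]
    have hx : V.d a x.1 = 0 := x.2
    have hy : W.d b y.1 = 0 := y.2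
    rw [Submodule.subtype_apply, Submodule.subtype_apply, hx, hy, zero_tmul, tmul_zero, map_zero,
      map_zero, smul_zero, add_zero]

end cocyc

section jA

variable (G : GCx k R 𝒜) (H : GCx k S ℬ) (mR : Ideal R) (mS : Ideal S) (a₀ b₀ n : ℕ)
  (h : a₀ + b₀ = n)

/-- the map from `A ⊗ A'` to the total complex. -/
noncomputable def jA : ↥(AG G mR a₀) ⊗[k] ↥(AG H mS b₀) →ₗ[k] TX G H n :=
  inj G.toVCx H.toVCx a₀ b₀ h ∘ₗ
    TensorProduct.map ((AG G mR a₀).subtype.restrictScalars k)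
      ((AG H mS b₀).subtype.restrictScalars k)

lemma jA_apply (w : ↥(AG G mR a₀) ⊗[k] ↥(AG H mS b₀)) :
    jA G H mR mS a₀ b₀ n h w = inj G.toVCx H.toVCx a₀ b₀ h
      (TensorProduct.map ((AG G mR a₀).subtype.restrictScalars k)
        ((AG H mS b₀).subtype.restrictScalars k) w) := rfl

lemma jA_tmul (x : ↥(AG G mR a₀)) (y : ↥(AG H mS b₀)) :
    jA G H mR mS a₀ b₀ n h (x ⊗ₜ[k] y) =
      inj G.toVCx H.toVCx a₀ b₀ h ((x : G.X a₀) ⊗ₜ[k] (y : H.X b₀)) := rfl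

lemma jA_injective : Function.Injective (jA G H mR mS a₀ b₀ n h) := by
  apply (inj_injective a₀ b₀ h).comp
  exact TensorProduct.map_injective_of_flat_flat _ _ (fun a b h => Subtype.ext h)
    (fun a b h => Subtype.ext h)

lemma jA_smul (α : R ⊗[k] S) (w : ↥(AG G mR a₀) ⊗[k] ↥(AG H mS b₀)) :
    jA G H mR mS a₀ b₀ n h (α • w) = α • jA G H mR mS a₀ b₀ n h w := by
  rw [jA_apply, jA_apply, ← inj_smul]
  congr 1
  exact (mapA (k := k) (AG G mR a₀).subtype (AG H mS b₀).subtype).map_smul α w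

/-- the image of `jA` in the quotient total complex. -/
lemma QT_jA (w : ↥(AG G mR a₀) ⊗[k] ↥(AG H mS b₀)) :
    (QT G H mR mS).f n (jA G H mR mS a₀ b₀ n h w) =
      inj (Gq G mR) (Gq H mS) a₀ b₀ h
        (TensorProduct.map ((Gq G mR).Z a₀).subtype ((Gq H mS).Z b₀).subtype
          (TensorProduct.map (ρG G mR a₀) (ρG H mS b₀) w)) := by
  have key : (QT G H mR mS).f n ∘ₗ jA G H mR mS a₀ b₀ n h =
      inj (Gq G mR) (Gq H mS) a₀ b₀ h ∘ₗ
        (TensorProduct.map ((Gq G mR).Z a₀).subtype ((Gq H mS).Z b₀).subtype ∘ₗ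
          TensorProduct.map (ρG G mR a₀) (ρG H mS b₀)) := by
    apply TensorProduct.ext'
    intro x y
    exact totMap_inj_tmul (G.toVCx.quotHom (gamFam G mR) (gamFam_stable G mR)).f
      (H.toVCx.quotHom (gamFam H mS) (gamFam_stable H mS)).f a₀ b₀ h x.1 y.1
  exact LinearMap.congr_fun key w

variable [IsNoetherianRing R] [IsNoetherianRing S]

/-- the differential of `jA w` is torsion. -/
lemma totD_jA_mem_gam (𝔞 : Ideal (R ⊗[k] S))
    (hgam : ∀ (N : Type u) [AddCommGroup N] [Module (R ⊗[k] S) N],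
      GrLC.gam 𝔞 N = GrLC.gam (mR.map (algebraMap R (R ⊗[k] S)) ⊓
        mS.map (Algebra.TensorProduct.includeRight : S →ₐ[k] R ⊗[k] S)) N)
    (w : ↥(AG G mR a₀) ⊗[k] ↥(AG H mS b₀)) :
    totD G.toVCx H.toVCx n (jA G H mR mS a₀ b₀ n h w) ∈
      GrLC.gam 𝔞 (TX G H (n + 1)) := by
  rw [mem_gam_TX_iff G H mR mS 𝔞 hgam]
  have h1 := (QT G H mR mS).comm n (jA G H mR mS a₀ b₀ n h w)
  refine h1.trans ?_
  rw [QT_jA]
  exact totD_inj_map_Z (Gq G mR) (Gq H mS) a₀ b₀ h _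

end jA

section grading

variable (G : GCx k R 𝒜) (H : GCx k S ℬ) (mR : Ideal R) (mS : Ideal S) (a₀ b₀ n : ℕ)
  (h : a₀ + b₀ = n)
  (hpG : ∀ (n : ℕ) (e : ℤ) (x : G.X n), x ∈ GrLC.gam mR (G.X n) →
    (G.P n).p e x ∈ GrLC.gam mR (G.X n))
  (hpH : ∀ (n : ℕ) (e : ℤ) (x : H.X n), x ∈ GrLC.gam mS (H.X n) →
    (H.P n).p e x ∈ GrLC.gam mS (H.X n))

include hpG in
lemma AG_stable (e : ℤ) (x : G.X a₀) (hx : x ∈ AG G mR a₀) : (G.P a₀).p e x ∈ AG G mR a₀ := by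
  rw [mem_AG, G.d_p]
  exact hpG _ e _ hx

/-- the grading of `A`. -/
noncomputable def PA : PFam k ↥(AG G mR a₀) :=
  (G.P a₀).restrictSub (AG G mR a₀) (AG_stable G mR a₀ hpG)

lemma PA_p_coe (e : ℤ) (x : ↥(AG G mR a₀)) :
    (((PA G mR a₀ hpG).p e x : ↥(AG G mR a₀)) : G.X a₀) = (G.P a₀).p e x.1 := rfl

lemma mem_piece_PA (e : ℤ) (x : ↥(AG G mR a₀)) :
    x ∈ (PA G mR a₀ hpG).piece e ↔ (x : G.X a₀) ∈ (G.P a₀).piece e :=
  PFam.mem_piece_restrictSub (G.P a₀) (AG G mR a₀) (AG_stable G mR a₀ hpG) e x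

/-- the diagonal projection of `A ⊗ A'`. -/
noncomputable def ΔA : ↥(AG G mR a₀) ⊗[k] ↥(AG H mS b₀) →ₗ[k] ↥(AG G mR a₀) ⊗[k] ↥(AG H mS b₀) :=
  PFam.diag (tensL (PA G mR a₀ hpG) ↥(AG H mS b₀)) (tensR ↥(AG G mR a₀) (PA H mS b₀ hpH))

lemma jA_pL (e : ℤ) (w : ↥(AG G mR a₀) ⊗[k] ↥(AG H mS b₀)) :
    jA G H mR mS a₀ b₀ n h ((tensL (PA G mR a₀ hpG) ↥(AG H mS b₀)).p e w) =
      pL G H n e (jA G H mR mS a₀ b₀ n h w) := by
  have key : jA G H mR mS a₀ b₀ n h ∘ₗ (tensL (PA G mR a₀ hpG) ↥(AG H mS b₀)).p e =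
      pL G H n e ∘ₗ jA G H mR mS a₀ b₀ n h := by
    apply TensorProduct.ext'
    intro x y
    rw [LinearMap.comp_apply, LinearMap.comp_apply, tensL_p_tmul, jA_tmul, jA_tmul, pL_inj_tmul]
    rfl
  exact LinearMap.congr_fun key w

lemma jA_pR (e : ℤ) (w : ↥(AG G mR a₀) ⊗[k] ↥(AG H mS b₀)) :
    jA G H mR mS a₀ b₀ n h ((tensR ↥(AG G mR a₀) (PA H mS b₀ hpH)).p e w) =
      pR G H n e (jA G H mR mS a₀ b₀ n h w) := by
  have key : jA G H mR mS a₀ b₀ n h ∘ₗ (tensR ↥(AG G mR a₀) (PA H mS b₀ hpH)).p e =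
      pR G H n e ∘ₗ jA G H mR mS a₀ b₀ n h := by
    apply TensorProduct.ext'
    intro x y
    rw [LinearMap.comp_apply, LinearMap.comp_apply, tensR_p_tmul, jA_tmul, jA_tmul, pR_inj_tmul]
    rfl
  exact LinearMap.congr_fun key w

lemma jA_ΔA (w : ↥(AG G mR a₀) ⊗[k] ↥(AG H mS b₀)) :
    jA G H mR mS a₀ b₀ n h (ΔA G H mR mS a₀ b₀ hpG hpH w) =
      Δ G H n (jA G H mR mS a₀ b₀ n h w) :=
  PFam.diag_map _ _ (totL G H n) (totR G H n) (jA G H mR mS a₀ b₀ n h)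
    (jA_pL G H mR mS a₀ b₀ n h hpG) (jA_pR G H mR mS a₀ b₀ n h hpH) w

lemma Δ_jA_ΔA (w : ↥(AG G mR a₀) ⊗[k] ↥(AG H mS b₀)) :
    Δ G H n (jA G H mR mS a₀ b₀ n h (ΔA G H mR mS a₀ b₀ hpG hpH w)) =
      jA G H mR mS a₀ b₀ n h (ΔA G H mR mS a₀ b₀ hpG hpH w) := by
  rw [jA_ΔA, Δ_Δ]

end grading

end Groth.Agent.Lib.Helper20.SegGr
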