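import Mathlib
import Groth.Agent.Lib.Helper20.SegTop4

/-!
# The top graded local cohomology of a Segre product, `T`-linearly: cocycles and the kernel
(helper20)
-/

set_option autoImplicit false
set_option linter.unusedSectionVars false
set_option linter.unusedVariables false
set_option linter.style.haveILetI false

universe u

open TensorProduct DirectSum Groth.Agent.Lib.Helper20.SegKun Groth.Agent.Lib.Helper20.SegTP
  Groth.Agent.Lib.Helper20.GrConv GrLC Groth.Agent.Lib.Helper4.LC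
  Groth.Agent.Lib.Helper20.SegAcyc Groth.Agent.Lib.Helper20.ResCmp
  Groth.Agent.Lib.Helper20.GrLCBasic

namespace Groth.Agent.Lib.Helper20.SegGr

attribute [local instance] actModule smulCommClass_base isScalarTower_base

variable {k : Type u} [Field k]
  {R S T : Type u} [CommRing R] [CommRing S] [CommRing T] [Algebra k R] [Algebra k S] [Algebra k T]
  {𝒜 : ℤ → Submodule k R} {ℬ : ℤ → Submodule k S}

section left

variable (G : GCx k R 𝒜) (H : GCx k S ℬ) (mR : Ideal R) (mS : Ideal S) (a₁ b₀ m : ℕ)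
  (h : (a₁ + 1) + b₀ = m + 1)
  {HM : Type u} [AddCommGroup HM] [Module R HM] [Module k HM] [IsScalarTower k R HM]
  (cl : ↥(zG G mR (a₁ + 2)) →ₗ[R] HM)
  (hker : ∀ z : ↥(zG G mR (a₁ + 2)), cl z = 0 ↔ (z : G.X (a₁ + 2)) ∈ bG G mR (a₁ + 2))
  (hGex : ∀ n, G.toVCx.ExactAt (n + 1))
  [IsNoetherianRing R] [IsNoetherianRing S]
  (𝔞 : Ideal (R ⊗[k] S))
  (hgam : ∀ (N : Type u) [AddCommGroup N] [Module (R ⊗[k] S) N],
    GrLC.gam 𝔞 N = GrLC.gam (mR.map (algebraMap R (R ⊗[k] S)) ⊓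
      mS.map (Algebra.TensorProduct.includeRight : S →ₐ[k] R ⊗[k] S)) N)

include hker hGex hgam in
/-- the differential of `jA w` is the differential of a torsion element when `w` lies in
`ker (cl ∘ δ) ⊗ A'`. -/
lemma exists_gam_totD_eq_left
    (w₁ : ↥(LinearMap.ker ((cl ∘ₗ δG G mR (a₁ + 1)).restrictScalars k)) ⊗[k] ↥(AG H mS b₀)) :
    ∃ κ ∈ GrLC.gam 𝔞 (TX G H (m + 1)),
      totD G.toVCx H.toVCx (m + 1) (jA G H mR mS (a₁ + 1) b₀ (m + 1) h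
        (LinearMap.rTensor ↥(AG H mS b₀)
          (LinearMap.ker ((cl ∘ₗ δG G mR (a₁ + 1)).restrictScalars k)).subtype w₁)) =
      totD G.toVCx H.toVCx (m + 1) κ := by
  have hI : GrLC.gam (mR.map (algebraMap R (R ⊗[k] S)) ⊓
      mS.map (Algebra.TensorProduct.includeRight : S →ₐ[k] R ⊗[k] S)) (TX G H (m + 1)) =
      GrLC.gam 𝔞 (TX G H (m + 1)) := (hgam _).symm
  induction w₁ using TensorProduct.induction_on with
  | zero => exact ⟨0, zero_mem _, by simp only [map_zero]⟩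
  | add w w' hw hw' =>
    obtain ⟨κ, hκ, h1⟩ := hw
    obtain ⟨κ', hκ', h2⟩ := hw'
    exact ⟨κ + κ', add_mem hκ hκ', by simp only [map_add, h1, h2]⟩
  | tmul x y =>
    have hx : cl (δG G mR (a₁ + 1) x.1) = 0 := x.2
    rw [hker] at hx
    obtain ⟨γ, hγ, hγd⟩ := hx
    have hγd' : G.d (a₁ + 1) γ = G.d (a₁ + 1) x.1.1 := hγd
    have hz : G.toVCx.d (a₁ + 1) (x.1.1 - γ) = 0 := by
      change G.d (a₁ + 1) (x.1.1 - γ) = 0
      rw [map_sub, hγd', sub_self]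
    obtain ⟨a', ha'⟩ := hGex a₁ _ hz
    have ha'' : G.toVCx.d a₁ a' = x.1.1 - γ := ha'
    have hy : H.toVCx.d b₀ y.1 ∈ GrLC.gam mS (H.X (b₀ + 1)) := y.2
    refine ⟨inj G.toVCx H.toVCx (a₁ + 1) b₀ h (γ ⊗ₜ[k] y.1) -
      ((-1 : k) ^ a₁) • inj G.toVCx H.toVCx a₁ (b₀ + 1) (by omega) (a' ⊗ₜ[k] H.toVCx.d b₀ y.1),
      ?_, ?_⟩
    · rw [← hI]
      apply sub_mem
      · apply map_mem_gam (DirectSum.lof (R ⊗[k] S) (Idx (m + 1))
          (fun p => G.X p.1.1 ⊗[k] H.X p.1.2) ⟨(a₁ + 1, b₀), h⟩)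
        exact gam_mono inf_le_left _ (tmul_mem_gam_left (k := k) mR hγ y.1)
      · rw [← algebraMap_smul (R ⊗[k] S)]
        apply Submodule.smul_mem
        apply map_mem_gam (DirectSum.lof (R ⊗[k] S) (Idx (m + 1))
          (fun p => G.X p.1.1 ⊗[k] H.X p.1.2) ⟨(a₁, b₀ + 1), by omega⟩)
        exact gam_mono inf_le_right _ (tmul_mem_gam_right (k := k) mS a' hy)
    · have h3 := totD_inj_tmul G.toVCx H.toVCx a₁ b₀ (show a₁ + b₀ = m by omega) a' y.1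
      rw [ha''] at h3
      have h4 : jA G H mR mS (a₁ + 1) b₀ (m + 1) h
          (LinearMap.rTensor ↥(AG H mS b₀)
            (LinearMap.ker ((cl ∘ₗ δG G mR (a₁ + 1)).restrictScalars k)).subtype (x ⊗ₜ[k] y)) =
          inj G.toVCx H.toVCx (a₁ + 1) b₀ h (x.1.1 ⊗ₜ[k] y.1) := rfl
      rw [h4]
      have h5 : inj G.toVCx H.toVCx (a₁ + 1) b₀ h (x.1.1 ⊗ₜ[k] y.1) =
          inj G.toVCx H.toVCx (a₁ + 1) b₀ h (γ ⊗ₜ[k] y.1) +
            inj G.toVCx H.toVCx (a₁ + 1) b₀ h ((x.1.1 - γ) ⊗ₜ[k] y.1) := by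
        rw [← map_add, ← add_tmul, add_sub_cancel]
      have h6 : inj G.toVCx H.toVCx (a₁ + 1) b₀ h ((x.1.1 - γ) ⊗ₜ[k] y.1) =
          totD G.toVCx H.toVCx m (inj G.toVCx H.toVCx a₁ b₀ (by omega) (a' ⊗ₜ[k] y.1)) -
            ((-1 : k) ^ a₁) • inj G.toVCx H.toVCx a₁ (b₀ + 1) (by omega)
              (a' ⊗ₜ[k] H.toVCx.d b₀ y.1) := by
        rw [h3, add_sub_cancel_right]
      rw [h5, h6, map_add, map_sub, map_sub, totD_comp_totD, zero_sub, sub_eq_add_neg]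

end left

section right

variable (G : GCx k R 𝒜) (H : GCx k S ℬ) (mR : Ideal R) (mS : Ideal S) (a₀ b₁ m : ℕ)
  (h : a₀ + (b₁ + 1) = m + 1)
  {HN : Type u} [AddCommGroup HN] [Module S HN] [Module k HN] [IsScalarTower k S HN]
  (cl : ↥(zG H mS (b₁ + 2)) →ₗ[S] HN)
  (hker : ∀ z : ↥(zG H mS (b₁ + 2)), cl z = 0 ↔ (z : H.X (b₁ + 2)) ∈ bG H mS (b₁ + 2))
  (hHex : ∀ n, H.toVCx.ExactAt (n + 1))
  [IsNoetherianRing R] [IsNoetherianRing S]
  (𝔞 : Ideal (R ⊗[k] S))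
  (hgam : ∀ (N : Type u) [AddCommGroup N] [Module (R ⊗[k] S) N],
    GrLC.gam 𝔞 N = GrLC.gam (mR.map (algebraMap R (R ⊗[k] S)) ⊓
      mS.map (Algebra.TensorProduct.includeRight : S →ₐ[k] R ⊗[k] S)) N)

include hker hHex hgam in
/-- the differential of `jA w` is the differential of a torsion element when `w` lies in
`A ⊗ ker (cl ∘ δ)`. -/
lemma exists_gam_totD_eq_right
    (w₂ : ↥(AG G mR a₀) ⊗[k] ↥(LinearMap.ker ((cl ∘ₗ δG H mS (b₁ + 1)).restrictScalars k))) :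
    ∃ κ ∈ GrLC.gam 𝔞 (TX G H (m + 1)),
      totD G.toVCx H.toVCx (m + 1) (jA G H mR mS a₀ (b₁ + 1) (m + 1) h
        (LinearMap.lTensor ↥(AG G mR a₀)
          (LinearMap.ker ((cl ∘ₗ δG H mS (b₁ + 1)).restrictScalars k)).subtype w₂)) =
      totD G.toVCx H.toVCx (m + 1) κ := by
  have hI : GrLC.gam (mR.map (algebraMap R (R ⊗[k] S)) ⊓
      mS.map (Algebra.TensorProduct.includeRight : S →ₐ[k] R ⊗[k] S)) (TX G H (m + 1)) =
      GrLC.gam 𝔞 (TX G H (m + 1)) := (hgam _).symm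
  induction w₂ using TensorProduct.induction_on with
  | zero => exact ⟨0, zero_mem _, by simp only [map_zero]⟩
  | add w w' hw hw' =>
    obtain ⟨κ, hκ, h1⟩ := hw
    obtain ⟨κ', hκ', h2⟩ := hw'
    exact ⟨κ + κ', add_mem hκ hκ', by simp only [map_add, h1, h2]⟩
  | tmul x y =>
    have hy : cl (δG H mS (b₁ + 1) y.1) = 0 := y.2
    rw [hker] at hy
    obtain ⟨γ, hγ, hγd⟩ := hy
    have hγd' : H.d (b₁ + 1) γ = H.d (b₁ + 1) y.1.1 := hγd
    have hz : H.toVCx.d (b₁ + 1) (y.1.1 - γ) = 0 := by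
      change H.d (b₁ + 1) (y.1.1 - γ) = 0
      rw [map_sub, hγd', sub_self]
    obtain ⟨b', hb'⟩ := hHex b₁ _ hz
    have hb'' : H.toVCx.d b₁ b' = y.1.1 - γ := hb'
    have hx : G.toVCx.d a₀ x.1 ∈ GrLC.gam mR (G.X (a₀ + 1)) := x.2
    refine ⟨inj G.toVCx H.toVCx a₀ (b₁ + 1) h (x.1 ⊗ₜ[k] γ) -
      ((-1 : k) ^ a₀) • inj G.toVCx H.toVCx (a₀ + 1) b₁ (by omega) (G.toVCx.d a₀ x.1 ⊗ₜ[k] b'),
      ?_, ?_⟩
    · rw [← hI]
      apply sub_mem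
      · apply map_mem_gam (DirectSum.lof (R ⊗[k] S) (Idx (m + 1))
          (fun p => G.X p.1.1 ⊗[k] H.X p.1.2) ⟨(a₀, b₁ + 1), h⟩)
        exact gam_mono inf_le_right _ (tmul_mem_gam_right (k := k) mS x.1 hγ)
      · rw [← algebraMap_smul (R ⊗[k] S)]
        apply Submodule.smul_mem
        apply map_mem_gam (DirectSum.lof (R ⊗[k] S) (Idx (m + 1))
          (fun p => G.X p.1.1 ⊗[k] H.X p.1.2) ⟨(a₀ + 1, b₁), by omega⟩)
        exact gam_mono inf_le_left _ (tmul_mem_gam_left (k := k) mR hx b')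
    · have h3 := totD_inj_tmul G.toVCx H.toVCx a₀ b₁ (show a₀ + b₁ = m by omega) x.1 b'
      rw [hb''] at h3
      have h4 : jA G H mR mS a₀ (b₁ + 1) (m + 1) h
          (LinearMap.lTensor ↥(AG G mR a₀)
            (LinearMap.ker ((cl ∘ₗ δG H mS (b₁ + 1)).restrictScalars k)).subtype (x ⊗ₜ[k] y)) =
          inj G.toVCx H.toVCx a₀ (b₁ + 1) h (x.1 ⊗ₜ[k] y.1.1) := rfl
      rw [h4]
      have h5 : inj G.toVCx H.toVCx a₀ (b₁ + 1) h (x.1 ⊗ₜ[k] y.1.1) =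
          inj G.toVCx H.toVCx a₀ (b₁ + 1) h (x.1 ⊗ₜ[k] γ) +
            inj G.toVCx H.toVCx a₀ (b₁ + 1) h (x.1 ⊗ₜ[k] (y.1.1 - γ)) := by
        rw [← map_add, ← tmul_add, add_sub_cancel]
      have hsq : ((-1 : k) ^ a₀) * ((-1 : k) ^ a₀) = 1 := by
        rw [← mul_pow, neg_one_mul, neg_neg, one_pow]
      have h6 : inj G.toVCx H.toVCx a₀ (b₁ + 1) h (x.1 ⊗ₜ[k] (y.1.1 - γ)) =
          ((-1 : k) ^ a₀) • totD G.toVCx H.toVCx m
              (inj G.toVCx H.toVCx a₀ b₁ (by omega) (x.1 ⊗ₜ[k] b')) -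
            ((-1 : k) ^ a₀) • inj G.toVCx H.toVCx (a₀ + 1) b₁ (by omega)
              (G.toVCx.d a₀ x.1 ⊗ₜ[k] b') := by
        rw [h3, smul_add, smul_smul, hsq, one_smul, add_sub_cancel_left]
      rw [h5, h6, map_add, map_sub, map_sub, map_smul, totD_comp_totD, smul_zero, zero_sub,
        sub_eq_add_neg]

end right

section both

variable (G : GCx k R 𝒜) (H : GCx k S ℬ) (mR : Ideal R) (mS : Ideal S) (a₁ b₁ m : ℕ)
  (h : (a₁ + 1) + (b₁ + 1) = m + 1)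
  {HM : Type u} [AddCommGroup HM] [Module R HM] [Module k HM] [IsScalarTower k R HM]
  (clM : ↥(zG G mR (a₁ + 2)) →ₗ[R] HM)
  (hkerM : ∀ z : ↥(zG G mR (a₁ + 2)), clM z = 0 ↔ (z : G.X (a₁ + 2)) ∈ bG G mR (a₁ + 2))
  (hsurjM : Function.Surjective clM)
  {HN : Type u} [AddCommGroup HN] [Module S HN] [Module k HN] [IsScalarTower k S HN]
  (clN : ↥(zG H mS (b₁ + 2)) →ₗ[S] HN)
  (hkerN : ∀ z : ↥(zG H mS (b₁ + 2)), clN z = 0 ↔ (z : H.X (b₁ + 2)) ∈ bG H mS (b₁ + 2))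
  (hsurjN : Function.Surjective clN)
  (hGex : ∀ n, G.toVCx.ExactAt (n + 1)) (hHex : ∀ n, H.toVCx.ExactAt (n + 1))
  [IsNoetherianRing R] [IsNoetherianRing S]
  (𝔞 : Ideal (R ⊗[k] S))
  (hgam : ∀ (N : Type u) [AddCommGroup N] [Module (R ⊗[k] S) N],
    GrLC.gam 𝔞 N = GrLC.gam (mR.map (algebraMap R (R ⊗[k] S)) ⊓
      mS.map (Algebra.TensorProduct.includeRight : S →ₐ[k] R ⊗[k] S)) N)

/-- the presentation map `A ⊗ A' → H ⊗ H'`. -/
noncomputable def gA : ↥(AG G mR (a₁ + 1)) ⊗[k] ↥(AG H mS (b₁ + 1)) →ₗ[R ⊗[k] S] HM ⊗[k] HN :=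
  mapA (k := k) (clM ∘ₗ δG G mR (a₁ + 1)) (clN ∘ₗ δG H mS (b₁ + 1))

lemma gA_tmul (x : ↥(AG G mR (a₁ + 1))) (y : ↥(AG H mS (b₁ + 1))) :
    gA G H mR mS a₁ b₁ clM clN (x ⊗ₜ[k] y) =
      clM (δG G mR (a₁ + 1) x) ⊗ₜ[k] clN (δG H mS (b₁ + 1) y) := rfl

lemma gA_apply (w : ↥(AG G mR (a₁ + 1)) ⊗[k] ↥(AG H mS (b₁ + 1))) :
    gA G H mR mS a₁ b₁ clM clN w =
      TensorProduct.map ((clM ∘ₗ δG G mR (a₁ + 1)).restrictScalars k)
        ((clN ∘ₗ δG H mS (b₁ + 1)).restrictScalars k) w := rfl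

include hkerM hsurjM hkerN hsurjN hGex hHex hgam in
/-- **if `w` dies in `H ⊗ H'`, the differential of `jA w` is the differential of a torsion
element.** -/
lemma exists_gam_totD_eq (w : ↥(AG G mR (a₁ + 1)) ⊗[k] ↥(AG H mS (b₁ + 1)))
    (hw : gA G H mR mS a₁ b₁ clM clN w = 0) :
    ∃ κ ∈ GrLC.gam 𝔞 (TX G H (m + 1)),
      totD G.toVCx H.toVCx (m + 1) (jA G H mR mS (a₁ + 1) (b₁ + 1) (m + 1) h w) =
      totD G.toVCx H.toVCx (m + 1) κ := by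
  have hsE : Function.Surjective ((clM ∘ₗ δG G mR (a₁ + 1)).restrictScalars k) :=
    hsurjM.comp (δG_surjective G mR (a₁ + 1) (hGex (a₁ + 1)))
  have hsF : Function.Surjective ((clN ∘ₗ δG H mS (b₁ + 1)).restrictScalars k) :=
    hsurjN.comp (δG_surjective H mS (b₁ + 1) (hHex (b₁ + 1)))
  have hk := TensorProduct.map_ker
    (LinearMap.exact_subtype_ker_map ((clM ∘ₗ δG G mR (a₁ + 1)).restrictScalars k)) hsE
    (LinearMap.exact_subtype_ker_map ((clN ∘ₗ δG H mS (b₁ + 1)).restrictScalars k)) hsF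
  have hw' : w ∈ LinearMap.ker (TensorProduct.map ((clM ∘ₗ δG G mR (a₁ + 1)).restrictScalars k)
      ((clN ∘ₗ δG H mS (b₁ + 1)).restrictScalars k)) := hw
  rw [hk] at hw'
  obtain ⟨u, ⟨w₂, rfl⟩, v, ⟨w₁, rfl⟩, rfl⟩ := Submodule.mem_sup.1 hw'
  obtain ⟨κ₂, hκ₂, h2⟩ := exists_gam_totD_eq_right G H mR mS (a₁ + 1) b₁ m h clN hkerN hHex 𝔞
    hgam w₂
  obtain ⟨κ₁, hκ₁, h1⟩ := exists_gam_totD_eq_left G H mR mS a₁ (b₁ + 1) m h clM hkerM hGex 𝔞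
    hgam w₁
  refine ⟨κ₂ + κ₁, add_mem hκ₂ hκ₁, ?_⟩
  rw [map_add, map_add, map_add, h1, h2]

end both

section conv

variable {V W : VCx k} (r : HRx V V.H) (s : HRx W W.H)
  (hr : ∀ (a : ℕ) (z : V.Z a), r.π a z = V.cls a z)
  (hs : ∀ (b : ℕ) (z : W.Z b), s.π b z = W.cls b z)

include hr hs in
/-- the Künneth projection of a tensor of cocycles. -/
lemma totπ_inj_map_Z {n : ℕ} (a b : ℕ) (h : a + b = n) (u : ↥(V.Z a) ⊗[k] ↥(W.Z b)) :
    totπ r s n (inj V W a b h (TensorProduct.map (V.Z a).subtype (W.Z b).subtype u)) =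
      DirectSum.lof k (Idx n) (fun p => V.H p.1.1 ⊗[k] W.H p.1.2) ⟨(a, b), h⟩
        (TensorProduct.map (V.cls a) (W.cls b) u) := by
  have key : totπ r s n ∘ₗ inj V W a b h ∘ₗ
      TensorProduct.map (V.Z a).subtype (W.Z b).subtype =
      DirectSum.lof k (Idx n) (fun p => V.H p.1.1 ⊗[k] W.H p.1.2) ⟨(a, b), h⟩ ∘ₗ
        TensorProduct.map (V.cls a) (W.cls b) := by
    apply TensorProduct.ext'
    intro x y
    rw [LinearMap.comp_apply, LinearMap.comp_apply, LinearMap.comp_apply,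
      TensorProduct.map_tmul, TensorProduct.map_tmul, Submodule.subtype_apply,
      Submodule.subtype_apply, totπ_inj, hr, hs]
  exact LinearMap.congr_fun key u

end conv

section converse

variable (G : GCx k R 𝒜) (H : GCx k S ℬ) (mR : Ideal R) (mS : Ideal S) (a₁ b₁ m : ℕ)
  (h : (a₁ + 1) + (b₁ + 1) = m + 1)
  {HM : Type u} [AddCommGroup HM] [Module R HM] [Module k HM] [IsScalarTower k R HM]
  (clM : ↥(zG G mR (a₁ + 2)) →ₗ[R] HM)
  (hkerM : ∀ z : ↥(zG G mR (a₁ + 2)), clM z = 0 ↔ (z : G.X (a₁ + 2)) ∈ bG G mR (a₁ + 2))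
  {HN : Type u} [AddCommGroup HN] [Module S HN] [Module k HN] [IsScalarTower k S HN]
  (clN : ↥(zG H mS (b₁ + 2)) →ₗ[S] HN)
  (hkerN : ∀ z : ↥(zG H mS (b₁ + 2)), clN z = 0 ↔ (z : H.X (b₁ + 2)) ∈ bG H mS (b₁ + 2))
  [IsNoetherianRing R] [IsNoetherianRing S]
  (𝔞 : Ideal (R ⊗[k] S))
  (hgam : ∀ (N : Type u) [AddCommGroup N] [Module (R ⊗[k] S) N],
    GrLC.gam 𝔞 N = GrLC.gam (mR.map (algebraMap R (R ⊗[k] S)) ⊓
      mS.map (Algebra.TensorProduct.includeRight : S →ₐ[k] R ⊗[k] S)) N)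
  (hex : (Tot G.toVCx H.toVCx).ExactAt (m + 1))

include hkerM hkerN hgam hex in
/-- **if the differential of `jA w` is the differential of a torsion element, `w` dies in
`H ⊗ H'`.** -/
lemma gA_eq_zero_of_totD_eq (w : ↥(AG G mR (a₁ + 1)) ⊗[k] ↥(AG H mS (b₁ + 1)))
    (κ : TX G H (m + 1)) (hκ : κ ∈ GrLC.gam 𝔞 (TX G H (m + 1)))
    (hd : totD G.toVCx H.toVCx (m + 1) (jA G H mR mS (a₁ + 1) (b₁ + 1) (m + 1) h w) =
      totD G.toVCx H.toVCx (m + 1) κ) :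
    gA G H mR mS a₁ b₁ clM clN w = 0 := by
  have hz : (Tot G.toVCx H.toVCx).d (m + 1)
      (jA G H mR mS (a₁ + 1) (b₁ + 1) (m + 1) h w - κ) = 0 := by
    change totD G.toVCx H.toVCx (m + 1) _ = 0
    rw [map_sub, hd, sub_self]
  obtain ⟨l, hl⟩ := hex _ hz
  have hl' : totD G.toVCx H.toVCx m l = jA G H mR mS (a₁ + 1) (b₁ + 1) (m + 1) h w - κ := hl
  have hκ0 : (QT G H mR mS).f (m + 1) κ = 0 := (mem_gam_TX_iff G H mR mS 𝔞 hgam (m + 1) κ).1 hκ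
  have h1 : (QT G H mR mS).f (m + 1) (jA G H mR mS (a₁ + 1) (b₁ + 1) (m + 1) h w) =
      totD (Gq G mR) (Gq H mS) m ((QT G H mR mS).f m l) := by
    have hc := (QT G H mR mS).comm m l
    have hs : (QT G H mR mS).f (m + 1) (jA G H mR mS (a₁ + 1) (b₁ + 1) (m + 1) h w - κ) =
        (QT G H mR mS).f (m + 1) (jA G H mR mS (a₁ + 1) (b₁ + 1) (m + 1) h w) -
          (QT G H mR mS).f (m + 1) κ := map_sub _ _ _
    have hc' : (QT G H mR mS).f (m + 1) (jA G H mR mS (a₁ + 1) (b₁ + 1) (m + 1) h w - κ) =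
        totD (Gq G mR) (Gq H mS) m ((QT G H mR mS).f m l) := by
      rw [← hl']
      exact hc
    rw [hs, hκ0, sub_zero] at hc'
    exact hc'
  obtain ⟨rE, hrE⟩ := exists_HRx (Gq G mR)
  obtain ⟨rF, hrF⟩ := exists_HRx (Gq H mS)
  have h2 := congrArg (totπ rE rF (m + 1)) h1
  rw [totπ_totD, QT_jA, totπ_inj_map_Z rE rF hrE hrF] at h2
  have h3 : TensorProduct.map ((Gq G mR).cls (a₁ + 1)) ((Gq H mS).cls (b₁ + 1))
      (TensorProduct.map (ρG G mR (a₁ + 1)) (ρG H mS (b₁ + 1)) w) = 0 :=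
    DirectSum.of_injective (β := fun p : Idx (m + 1) => (Gq G mR).H p.1.1 ⊗[k] (Gq H mS).H p.1.2)
      ⟨(a₁ + 1, b₁ + 1), h⟩ (h2.trans (map_zero _).symm)
  rw [← LinearMap.comp_apply, ← TensorProduct.map_comp] at h3
  exact map_eq_zero_of_ker_le (pG G mR (a₁ + 1)) (pG H mS (b₁ + 1))
    ((clM ∘ₗ δG G mR (a₁ + 1)).restrictScalars k) ((clN ∘ₗ δG H mS (b₁ + 1)).restrictScalars k)
    (pG_surjective G mR (a₁ + 1)) (pG_surjective H mS (b₁ + 1))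
    (ker_pG_le G mR a₁ clM hkerM) (ker_pG_le H mS b₁ clN hkerN) w h3

end converse

end Groth.Agent.Lib.Helper20.SegGr
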