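import Mathlib
import Groth.Agent.Lib.Helper20.SegTop5

/-!
# The top graded local cohomology of a Segre product, `T`-linearly: every cocycle comes from
`A ⊗ A'` (helper20)
-/

set_option autoImplicit false
set_option linter.unusedSectionVars false
set_option linter.unusedVariables false
set_option linter.style.haveILetI false

universe u

open TensorProduct DirectSum Groth.Agent.Lib.Helper20.SegKun Groth.Agent.Lib.Helper20.SegTP
  Groth.Agent.Lib.Helper20.GrConv GrLC Groth.Agent.Lib.Helper4.LC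
  Groth.Agent.Lib.Helper20.SegAcyc Groth.Agent.Lib.Helper20.ResCmp
  Groth.Agent.Lib.Helper20.GrLCBasic

namespace Groth.Agent.Lib.Helper20.SegGr

attribute [local instance] actModule smulCommClass_base isScalarTower_base

variable {k : Type u} [Field k]
  {R S T : Type u} [CommRing R] [CommRing S] [CommRing T] [Algebra k R] [Algebra k S] [Algebra k T]
  {𝒜 : ℤ → Submodule k R} {ℬ : ℤ → Submodule k S}

section surj

variable (G : GCx k R 𝒜) (H : GCx k S ℬ) (mR : Ideal R) (mS : Ideal S) (a₁ b₁ m : ℕ)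
  (h : (a₁ + 1) + (b₁ + 1) = m + 1)
  [IsNoetherianRing R] [IsNoetherianRing S]
  (𝔞 : Ideal (R ⊗[k] S))
  (hgam : ∀ (N : Type u) [AddCommGroup N] [Module (R ⊗[k] S) N],
    GrLC.gam 𝔞 N = GrLC.gam (mR.map (algebraMap R (R ⊗[k] S)) ⊓
      mS.map (Algebra.TensorProduct.includeRight : S →ₐ[k] R ⊗[k] S)) N)
  (hex : (Tot G.toVCx H.toVCx).ExactAt (m + 2))
  (hqG : ∀ a, a₁ + 2 ≤ a → Subsingleton ((Gq G mR).H a))
  (hqH : ∀ b, b₁ + 2 ≤ b → Subsingleton ((Gq H mS).H b))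

include hgam hex hqG hqH in
/-- **every torsion cocycle of degree `r + s - 1` is, up to the differential of a torsion
element, the differential of an element of `A ⊗ A'`.** -/
lemma exists_jA_of_cocycle (z : TX G H (m + 2)) (hz : z ∈ GrLC.gam 𝔞 (TX G H (m + 2)))
    (hd : totD G.toVCx H.toVCx (m + 2) z = 0) :
    ∃ (w : ↥(AG G mR (a₁ + 1)) ⊗[k] ↥(AG H mS (b₁ + 1))) (κ : TX G H (m + 1)),
      κ ∈ GrLC.gam 𝔞 (TX G H (m + 1)) ∧
      z = totD G.toVCx H.toVCx (m + 1) (jA G H mR mS (a₁ + 1) (b₁ + 1) (m + 1) h w) +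
        totD G.toVCx H.toVCx (m + 1) κ := by
  classical
  obtain ⟨μ, hμ'⟩ : ∃ μ : TX G H (m + 1), totD G.toVCx H.toVCx (m + 1) μ = z := hex z hd
  have hz0 : (QT G H mR mS).f (m + 2) z = 0 := (mem_gam_TX_iff G H mR mS 𝔞 hgam (m + 2) z).1 hz
  have hQμ : totD (Gq G mR) (Gq H mS) (m + 1) ((QT G H mR mS).f (m + 1) μ) = 0 := by
    have hc := (QT G H mR mS).comm (m + 1) μ
    have hc' : (QT G H mR mS).f (m + 2) z =
        totD (Gq G mR) (Gq H mS) (m + 1) ((QT G H mR mS).f (m + 1) μ) := by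
      rw [← hμ']
      exact hc
    exact hc'.symm.trans hz0
  obtain ⟨rE, hrE⟩ := exists_HRx (Gq G mR)
  obtain ⟨rF, hrF⟩ := exists_HRx (Gq H mS)
  have hhs := tot_hs rE rF m ((QT G H mR mS).f (m + 1) μ)
  rw [hQμ, map_zero, add_zero] at hhs
  -- the Künneth class is concentrated in one summand
  have hsub : ∀ p : Idx (m + 1), p ≠ ⟨(a₁ + 1, b₁ + 1), h⟩ →
      Subsingleton ((Gq G mR).H p.1.1 ⊗[k] (Gq H mS).H p.1.2) := by
    rintro ⟨⟨a, b⟩, hab⟩ hne
    have hab' : a + b = m + 1 := hab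
    by_cases ha : a₁ + 2 ≤ a
    · haveI := hqG a ha
      infer_instance
    · have hb : b₁ + 2 ≤ b := by
        by_contra hb
        apply hne
        have h1 : a = a₁ + 1 := by omega
        have h2 : b = b₁ + 1 := by omega
        subst h1 h2
        rfl
      haveI := hqH b hb
      infer_instance
  have hη := directSum_eq_lof_of_subsingleton (K := k)
    (fun p : Idx (m + 1) => (Gq G mR).H p.1.1 ⊗[k] (Gq H mS).H p.1.2)
    ⟨(a₁ + 1, b₁ + 1), h⟩ hsub (totπ rE rF (m + 1) ((QT G H mR mS).f (m + 1) μ))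
  set η₀ := (totπ rE rF (m + 1) ((QT G H mR mS).f (m + 1) μ)) ⟨(a₁ + 1, b₁ + 1), h⟩ with hη₀
  -- lift to `A ⊗ A'`
  let ιE : (Gq G mR).H (a₁ + 1) →ₗ[k] ↥((Gq G mR).Z (a₁ + 1)) :=
    LinearMap.codRestrict _ (rE.ι (a₁ + 1)) (fun y => rE.d_ι (a₁ + 1) y)
  let ιF : (Gq H mS).H (b₁ + 1) →ₗ[k] ↥((Gq H mS).Z (b₁ + 1)) :=
    LinearMap.codRestrict _ (rF.ι (b₁ + 1)) (fun y => rF.d_ι (b₁ + 1) y)
  obtain ⟨w, hw⟩ := TensorProduct.map_surjective (ρG_surjective G mR (a₁ + 1))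
    (ρG_surjective H mS (b₁ + 1)) (TensorProduct.map ιE ιF η₀)
  have h1 : (QT G H mR mS).f (m + 1) (jA G H mR mS (a₁ + 1) (b₁ + 1) (m + 1) h w) =
      totι rE rF (m + 1) (totπ rE rF (m + 1) ((QT G H mR mS).f (m + 1) μ)) := by
    rw [QT_jA, hw, hη]
    have key : totι rE rF (m + 1) ∘ₗ DirectSum.lof k (Idx (m + 1))
        (fun p => (Gq G mR).H p.1.1 ⊗[k] (Gq H mS).H p.1.2) ⟨(a₁ + 1, b₁ + 1), h⟩ =
        inj (Gq G mR) (Gq H mS) (a₁ + 1) (b₁ + 1) h ∘ₗ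
          (TensorProduct.map ((Gq G mR).Z (a₁ + 1)).subtype ((Gq H mS).Z (b₁ + 1)).subtype ∘ₗ
            TensorProduct.map ιE ιF) := by
      apply TensorProduct.ext'
      intro x y
      rw [LinearMap.comp_apply, totι_lof]
      rfl
    exact (LinearMap.congr_fun key η₀).symm
  obtain ⟨ν, hν⟩ : ∃ ν : TX G H m,
      (QT G H mR mS).f m ν = toth rE rF m ((QT G H mR mS).f (m + 1) μ) :=
    quotTotHom_surjective G.toVCx H.toVCx (gamFam G mR) (gamFam_stable G mR)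
      (gamFam H mS) (gamFam_stable H mS) m (toth rE rF m ((QT G H mR mS).f (m + 1) μ))
  obtain ⟨Q1, hQ1⟩ : ∃ Q1 : TX G H (m + 1) →ₗ[k] TotX (Gq G mR) (Gq H mS) (m + 1),
      ∀ x, Q1 x = (QT G H mR mS).f (m + 1) x := ⟨(QT G H mR mS).f (m + 1), fun _ => rfl⟩
  have e_jA : Q1 (jA G H mR mS (a₁ + 1) (b₁ + 1) (m + 1) h w) =
      totι rE rF (m + 1) (totπ rE rF (m + 1) (Q1 μ)) := by
    rw [hQ1, hQ1]
    exact h1
  have e_D : Q1 (totD G.toVCx H.toVCx m ν) =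
      totD (Gq G mR) (Gq H mS) m (toth rE rF m (Q1 μ)) := by
    rw [hQ1, hQ1, ← hν]
    exact (QT G H mR mS).comm m ν
  have e_hs : Q1 μ - totι rE rF (m + 1) (totπ rE rF (m + 1) (Q1 μ)) =
      totD (Gq G mR) (Gq H mS) m (toth rE rF m (Q1 μ)) := by
    rw [hQ1]
    exact hhs
  refine ⟨w, μ - jA G H mR mS (a₁ + 1) (b₁ + 1) (m + 1) h w - totD G.toVCx H.toVCx m ν, ?_, ?_⟩
  · rw [mem_gam_TX_iff G H mR mS 𝔞 hgam]
    refine (hQ1 _).symm.trans ?_
    rw [map_sub, map_sub, e_jA, e_D, e_hs, sub_self]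
    rfl
  · rw [map_sub, map_sub, totD_comp_totD, sub_zero, add_sub_cancel, hμ']

end surj

end Groth.Agent.Lib.Helper20.SegGr
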