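import Mathlib
import Groth.Agent.Lib.Helper20.SegTop6

/-!
# The top graded local cohomology of a Segre product, `T`-linearly: classes of the diagonal
resolution (helper20)
-/

set_option autoImplicit false
set_option linter.unusedSectionVars false
set_option linter.unusedVariables false
set_option linter.style.haveILetI false

universe u

open TensorProduct DirectSum Groth.Agent.Lib.Helper20.SegKun Groth.Agent.Lib.Helper20.SegTP
  Groth.Agent.Lib.Helper20.GrConv GrLC Groth.Agent.Lib.Helper4.LC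
  Groth.Agent.Lib.Helper20.SegAcyc Groth.Agent.Lib.Helper20.ResCmp
  Groth.Agent.Lib.Helper20.GrLCBasic

namespace Groth.Agent.Lib.Helper20.SegGr

attribute [local instance] actModule smulCommClass_base isScalarTower_base

variable {k : Type u} [Field k]
  {R S T : Type u} [CommRing R] [CommRing S] [CommRing T] [Algebra k R] [Algebra k S] [Algebra k T]
  {𝒜 : ℤ → Submodule k R} {ℬ : ℤ → Submodule k S}
  (𝒯 : ℤ → Submodule k T) [GradedAlgebra 𝒯]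
  (ψ : T →ₐ[k] R ⊗[k] S) (hψ : ∀ i t, t ∈ 𝒯 i → ψ t ∈ GrSeg.segrePiece k 𝒜 ℬ i)
  {G : GCx k R 𝒜} {H : GCx k S ℬ}
  {M : Type u} [AddCommGroup M] [Module R M] [Module k M] [IsScalarTower k R M]
  {N : Type u} [AddCommGroup N] [Module S N] [Module k N] [IsScalarTower k S N]
  (εM : GAug G M) (εN : GAug H N)
  {P : Type u} [AddCommGroup P] [Module T P] [Module k P]
  (𝒬 : ℤ → AddSubgroup P) (φ : P →ₗ[k] M ⊗[k] N)
  (hP : PData ψ εM εN 𝒬 φ)
  [DirectSum.Decomposition 𝒬] [SetLike.GradedSMul (toAS 𝒯) 𝒬]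
  (hex : ∀ n, (Tot G.toVCx H.toVCx).ExactAt (n + 1))
  [IsNoetherianRing R] [IsNoetherianRing S] [IsNoetherianRing T] [IsNoetherianRing (R ⊗[k] S)]
  (mR : Ideal R) (mS : Ideal S) (a : HomogeneousIdeal (toAS 𝒯))
  (hgam : ∀ (N : Type u) [AddCommGroup N] [Module (R ⊗[k] S) N],
    GrLC.gam (a.toIdeal.map ψ) N = GrLC.gam (mR.map (algebraMap R (R ⊗[k] S)) ⊓
      mS.map (Algebra.TensorProduct.includeRight : S →ₐ[k] R ⊗[k] S)) N)
  (hG : ∀ a q, Subsingleton (HH mR (ModuleCat.of R (G.X a)) (q + 1)))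
  (hH : ∀ b q, Subsingleton (HH mS (ModuleCat.of S (H.X b)) (q + 1)))

local notation "XR" => XRes 𝒯 ψ hψ εM εN 𝒬 φ hP hex mR mS a hgam hG hH
local notation "cv" => cval 𝒯 ψ hψ εM εN 𝒬 φ hP hex mR mS a hgam hG hH

/-- a cocycle of the diagonal resolution from a diagonal torsion cocycle of the total complex. -/
lemma exists_cval_eq (q : ℕ) (z : TX G H q) (hΔ : Δ G H q z = z)
    (hz : z ∈ GrLC.gam (a.toIdeal.map ψ) (TX G H q)) (hd : totD G.toVCx H.toVCx q z = 0) :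
    ∃ c : (XR).cocyc q, cv q c = z := by
  refine ⟨⟨(show (XR).X q from ⟨z, (mem_diagSub_iff 𝒯 ψ hψ G H q _).2 hΔ⟩), ⟨?_, ?_⟩⟩, rfl⟩
  · exact (mem_gam_CD_iff 𝒯 ψ hψ G H a.toIdeal q _).2 hz
  · change dD 𝒯 ψ hψ G H q _ = 0
    apply Subtype.ext
    exact hd

/-- **a class of the diagonal resolution vanishes iff the cocycle is the differential of a
torsion element of the total complex.** -/
lemma toH_eq_zero_iff_exists (n : ℕ) (z : (XR).cocyc (n + 1)) :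
    (XR).toH (n + 1) z = 0 ↔ ∃ κ ∈ GrLC.gam (a.toIdeal.map ψ) (TX G H n),
      cv (n + 1) z = totD G.toVCx H.toVCx n κ := by
  rw [Submodule.mkQ_apply, Submodule.Quotient.mk_eq_zero, Submodule.mem_comap]
  change (z.1 : (XR).X (n + 1)) ∈ (GrLC.gam a.toIdeal ((XR).X n)).map ((XR).d n) ↔ _
  constructor
  · rintro ⟨κ, hκ, hdκ⟩
    refine ⟨(show ↥(diagSub 𝒯 ψ hψ G H n) from κ).1,
      (mem_gam_CD_iff 𝒯 ψ hψ G H a.toIdeal n κ).1 hκ, ?_⟩
    exact (congrArg Subtype.val hdκ).symm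
  · rintro ⟨κ, hκ, hκd⟩
    have hΔz := Δ_cval 𝒯 ψ hψ εM εN 𝒬 φ hP hex mR mS a hgam hG hH (n + 1) z
    refine ⟨⟨Δ G H n κ, ⟨κ, rfl⟩⟩, ?_, ?_⟩
    · refine (mem_gam_CD_iff 𝒯 ψ hψ G H a.toIdeal n
        (show ↥(diagSub 𝒯 ψ hψ G H n) from ⟨Δ G H n κ, ⟨κ, rfl⟩⟩)).2 ?_
      exact (mem_gam_CA_iff 𝒯 ψ hψ G H a.toIdeal n (Δ G H n κ)).1
        (map_mem_gam (ΔT 𝒯 ψ hψ G H n) ((mem_gam_CA_iff 𝒯 ψ hψ G H a.toIdeal n κ).2 hκ))
    · apply Subtype.ext
      change totD G.toVCx H.toVCx n (Δ G H n κ) = cv (n + 1) z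
      rw [totD_Δ, ← hκd, hΔz]

lemma cval_sub (q : ℕ) (z z' : (XR).cocyc q) : cv q (z - z') = cv q z - cv q z' := rfl

lemma cval_mem_gam (q : ℕ) (z : (XR).cocyc q) :
    cv q z ∈ GrLC.gam (a.toIdeal.map ψ) (TX G H q) :=
  (mem_gam_CD_iff 𝒯 ψ hψ G H a.toIdeal q z.1).1 z.2.1

lemma totD_cval (q : ℕ) (z : (XR).cocyc q) : totD G.toVCx H.toVCx q (cv q z) = 0 :=
  congrArg Subtype.val (show dD 𝒯 ψ hψ G H q z.1 = 0 from z.2.2)

/-- two cocycles differing by the differential of a torsion element have the same class. -/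
lemma toH_eq_of_cval_sub (n : ℕ) (z z' : (XR).cocyc (n + 1)) (κ : TX G H n)
    (hκ : κ ∈ GrLC.gam (a.toIdeal.map ψ) (TX G H n))
    (hd : cv (n + 1) z = cv (n + 1) z' + totD G.toVCx H.toVCx n κ) :
    (XR).toH (n + 1) z = (XR).toH (n + 1) z' := by
  rw [← sub_eq_zero, ← map_sub,
    toH_eq_zero_iff_exists 𝒯 ψ hψ εM εN 𝒬 φ hP hex mR mS a hgam hG hH n (z - z')]
  refine ⟨κ, hκ, ?_⟩
  rw [cval_sub, hd, add_sub_cancel_left]

include hψ in
/-- the homogeneous components of a torsion element are torsion. -/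
lemma pL_mem_gam' (n : ℕ) (d : ℤ) (z : TX G H n)
    (hz : z ∈ GrLC.gam (a.toIdeal.map ψ) (TX G H n)) :
    pL G H n d z ∈ GrLC.gam (a.toIdeal.map ψ) (TX G H n) :=
  (mem_gam_CA_iff 𝒯 ψ hψ G H a.toIdeal n _).1
    (pL_mem_gam 𝒯 ψ hψ G H d a n z ((mem_gam_CA_iff 𝒯 ψ hψ G H a.toIdeal n z).2 hz))

include hψ in
/-- the diagonal part of a torsion element is torsion. -/
lemma Δ_mem_gam' (n : ℕ) (z : TX G H n)
    (hz : z ∈ GrLC.gam (a.toIdeal.map ψ) (TX G H n)) :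
    Δ G H n z ∈ GrLC.gam (a.toIdeal.map ψ) (TX G H n) :=
  (mem_gam_CA_iff 𝒯 ψ hψ G H a.toIdeal n (Δ G H n z)).1
    (map_mem_gam (ΔT 𝒯 ψ hψ G H n) ((mem_gam_CA_iff 𝒯 ψ hψ G H a.toIdeal n z).2 hz))

end Groth.Agent.Lib.Helper20.SegGr
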