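import Mathlib
import Groth.Agent.Lib.Helper20.SegTop7

/-!
# The top graded local cohomology of a Segre product, `T`-linearly: the abstract isomorphism
(helper20)
-/

set_option autoImplicit false
set_option linter.unusedSectionVars false
set_option linter.unusedVariables false
set_option linter.style.haveILetI false

universe u

open TensorProduct DirectSum Groth.Agent.Lib.Helper20.SegKun Groth.Agent.Lib.Helper20.SegTP
  Groth.Agent.Lib.Helper20.GrConv GrLC Groth.Agent.Lib.Helper4.LC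
  Groth.Agent.Lib.Helper20.SegAcyc Groth.Agent.Lib.Helper20.ResCmp
  Groth.Agent.Lib.Helper20.GrLCBasic

namespace Groth.Agent.Lib.Helper20.SegGr

attribute [local instance] actModule smulCommClass_base isScalarTower_base

variable {k : Type u} [Field k]
  {R S T : Type u} [CommRing R] [CommRing S] [CommRing T] [Algebra k R] [Algebra k S] [Algebra k T]
  {𝒜 : ℤ → Submodule k R} {ℬ : ℤ → Submodule k S}
  (𝒯 : ℤ → Submodule k T) [GradedAlgebra 𝒯]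
  (ψ : T →ₐ[k] R ⊗[k] S) (hψ : ∀ i t, t ∈ 𝒯 i → ψ t ∈ GrSeg.segrePiece k 𝒜 ℬ i)
  {G : GCx k R 𝒜} {H : GCx k S ℬ}
  {M : Type u} [AddCommGroup M] [Module R M] [Module k M] [IsScalarTower k R M]
  {N : Type u} [AddCommGroup N] [Module S N] [Module k N] [IsScalarTower k S N]
  (εM : GAug G M) (εN : GAug H N)
  {P : Type u} [AddCommGroup P] [Module T P] [Module k P]
  (𝒬 : ℤ → AddSubgroup P) (φ : P →ₗ[k] M ⊗[k] N)
  (hP : PData ψ εM εN 𝒬 φ)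
  [DirectSum.Decomposition 𝒬] [SetLike.GradedSMul (toAS 𝒯) 𝒬]
  (hex : ∀ n, (Tot G.toVCx H.toVCx).ExactAt (n + 1))
  [IsNoetherianRing R] [IsNoetherianRing S] [IsNoetherianRing T] [IsNoetherianRing (R ⊗[k] S)]
  (mR : Ideal R) (mS : Ideal S) (a : HomogeneousIdeal (toAS 𝒯))
  (hgam : ∀ (N : Type u) [AddCommGroup N] [Module (R ⊗[k] S) N],
    GrLC.gam (a.toIdeal.map ψ) N = GrLC.gam (mR.map (algebraMap R (R ⊗[k] S)) ⊓
      mS.map (Algebra.TensorProduct.includeRight : S →ₐ[k] R ⊗[k] S)) N)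
  (hG : ∀ a q, Subsingleton (HH mR (ModuleCat.of R (G.X a)) (q + 1)))
  (hH : ∀ b q, Subsingleton (HH mS (ModuleCat.of S (H.X b)) (q + 1)))
  (a₁ b₁ m : ℕ) (h : (a₁ + 1) + (b₁ + 1) = m + 1)
  (hqG : ∀ i, a₁ + 2 ≤ i → Subsingleton ((Gq G mR).H i))
  (hqH : ∀ j, b₁ + 2 ≤ j → Subsingleton ((Gq H mS).H j))
  (hpG : ∀ (n : ℕ) (e : ℤ) (x : G.X n), x ∈ GrLC.gam mR (G.X n) →
    (G.P n).p e x ∈ GrLC.gam mR (G.X n))
  (hpH : ∀ (n : ℕ) (e : ℤ) (x : H.X n), x ∈ GrLC.gam mS (H.X n) →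
    (H.P n).p e x ∈ GrLC.gam mS (H.X n))

local notation "XR" => XRes 𝒯 ψ hψ εM εN 𝒬 φ hP hex mR mS a hgam hG hH
local notation "cv" => cval 𝒯 ψ hψ εM εN 𝒬 φ hP hex mR mS a hgam hG hH
local notation "jAm" => jA G H mR mS (a₁ + 1) (b₁ + 1) (m + 1) h
local notation "PAG" => PA G mR (a₁ + 1) hpG
local notation "PAH" => PA H mS (b₁ + 1) hpH

omit [IsNoetherianRing T] [IsNoetherianRing (R ⊗[k] S)] in
/-- the bihomogeneous component of bidegree `(d, d)` of an element of `A ⊗ A'`. -/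
lemma jA_pp (d : ℤ) (w : ↥(AG G mR (a₁ + 1)) ⊗[k] ↥(AG H mS (b₁ + 1))) :
    jAm ((tensR ↥(AG G mR (a₁ + 1)) PAH).p d ((tensL PAG ↥(AG H mS (b₁ + 1))).p d w)) =
      pR G H (m + 1) d (pL G H (m + 1) d (jAm w)) := by
  rw [jA_pR, jA_pL]

include hqG hqH hpG hpH in
/-- **every cocycle of the diagonal resolution comes from a diagonal element of `A ⊗ A'`.** -/
lemma exists_jA_cval (c : (XR).cocyc (m + 2)) :
    ∃ (w : ↥(AG G mR (a₁ + 1)) ⊗[k] ↥(AG H mS (b₁ + 1))) (κ : TX G H (m + 1)),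
      Δ G H (m + 1) (jAm w) = jAm w ∧
      κ ∈ GrLC.gam (a.toIdeal.map ψ) (TX G H (m + 1)) ∧
      cv (m + 2) c = totD G.toVCx H.toVCx (m + 1) (jAm w) + totD G.toVCx H.toVCx (m + 1) κ := by
  obtain ⟨w₀, κ, hκ, hc⟩ := exists_jA_of_cocycle G H mR mS a₁ b₁ m h (a.toIdeal.map ψ) hgam
    (hex (m + 1)) hqG hqH (cv (m + 2) c)
    (cval_mem_gam 𝒯 ψ hψ εM εN 𝒬 φ hP hex mR mS a hgam hG hH (m + 2) c)
    (totD_cval 𝒯 ψ hψ εM εN 𝒬 φ hP hex mR mS a hgam hG hH (m + 2) c)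
  refine ⟨ΔA G H mR mS (a₁ + 1) (b₁ + 1) hpG hpH w₀, Δ G H (m + 1) κ,
    Δ_jA_ΔA G H mR mS (a₁ + 1) (b₁ + 1) (m + 1) h hpG hpH w₀,
    Δ_mem_gam' 𝒯 ψ hψ a (m + 1) κ hκ, ?_⟩
  have hΔ := Δ_cval 𝒯 ψ hψ εM εN 𝒬 φ hP hex mR mS a hgam hG hH (m + 2) c
  rw [jA_ΔA, totD_Δ, totD_Δ, ← map_add, ← hc, hΔ]

include hqG hqH in
/-- the graded version. -/
lemma exists_jA_cval_piece (d : ℤ) (c : (XR).cocyc (m + 2))
    (hcd : cv (m + 2) c ∈ (totL G H (m + 2)).piece d) :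
    ∃ (w : ↥(AG G mR (a₁ + 1)) ⊗[k] ↥(AG H mS (b₁ + 1))) (κ : TX G H (m + 1)),
      Δ G H (m + 1)
        (jAm ((tensR ↥(AG G mR (a₁ + 1)) PAH).p d ((tensL PAG ↥(AG H mS (b₁ + 1))).p d w))) =
        jAm ((tensR ↥(AG G mR (a₁ + 1)) PAH).p d ((tensL PAG ↥(AG H mS (b₁ + 1))).p d w)) ∧
      κ ∈ GrLC.gam (a.toIdeal.map ψ) (TX G H (m + 1)) ∧
      cv (m + 2) c = totD G.toVCx H.toVCx (m + 1)
        (jAm ((tensR ↥(AG G mR (a₁ + 1)) PAH).p d ((tensL PAG ↥(AG H mS (b₁ + 1))).p d w))) +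
        totD G.toVCx H.toVCx (m + 1) κ := by
  obtain ⟨w, κ, hw, hκ, hc⟩ := exists_jA_cval 𝒯 ψ hψ εM εN 𝒬 φ hP hex mR mS a hgam hG hH a₁ b₁ m h
    hqG hqH hpG hpH c
  have hLR : pR G H (m + 1) d (pL G H (m + 1) d (jAm w)) = pL G H (m + 1) d (jAm w) := by
    have h1 := PFam.p_diag (totL G H (m + 1)) (totR G H (m + 1)) (pL_pR G H (m + 1)) d (jAm w)
    rw [← Δ, hw] at h1
    exact h1.symm
  refine ⟨w, pL G H (m + 1) d κ, ?_, pL_mem_gam' 𝒯 ψ hψ a (m + 1) d κ hκ, ?_⟩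
  · rw [jA_pp, hLR]
    exact PFam.diag_of_mem_of_mem (totL G H (m + 1)) (totR G H (m + 1)) (pL_pR G H (m + 1))
      ((totL G H (m + 1)).p_mem d _) (by
        rw [← hLR]
        exact (totR G H (m + 1)).p_mem d _)
  · rw [jA_pp, hLR, totD_pL, totD_pL, ← map_add, ← hc]
    exact ((totL G H (m + 2)).p_of_mem hcd).symm

end Groth.Agent.Lib.Helper20.SegGr
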