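import Mathlib
import Groth.Agent.Lib.Helper20.SegTop8

/-!
# The top graded local cohomology of a Segre product, `T`-linearly: the abstract isomorphism
`H^{r+s-1}_{T_+}(M # N) ≅ H^r_m(M) # H^s_n(N)` (helper20)
-/

set_option autoImplicit false
set_option linter.unusedSectionVars false
set_option linter.unusedVariables false
set_option linter.style.haveILetI false

universe u

open TensorProduct DirectSum Groth.Agent.Lib.Helper20.SegKun Groth.Agent.Lib.Helper20.SegTP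
  Groth.Agent.Lib.Helper20.GrConv GrLC Groth.Agent.Lib.Helper4.LC
  Groth.Agent.Lib.Helper20.SegAcyc Groth.Agent.Lib.Helper20.ResCmp
  Groth.Agent.Lib.Helper20.GrLCBasic

namespace Groth.Agent.Lib.Helper20.SegGr

attribute [local instance] actModule smulCommClass_base isScalarTower_base

variable {k : Type u} [Field k]
  {R S T : Type u} [CommRing R] [CommRing S] [CommRing T] [Algebra k R] [Algebra k S] [Algebra k T]
  {𝒜 : ℤ → Submodule k R} {ℬ : ℤ → Submodule k S}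
  (𝒯 : ℤ → Submodule k T) [GradedAlgebra 𝒯]
  (ψ : T →ₐ[k] R ⊗[k] S) (hψ : ∀ i t, t ∈ 𝒯 i → ψ t ∈ GrSeg.segrePiece k 𝒜 ℬ i)
  {G : GCx k R 𝒜} {H : GCx k S ℬ}
  {M : Type u} [AddCommGroup M] [Module R M] [Module k M] [IsScalarTower k R M]
  {N : Type u} [AddCommGroup N] [Module S N] [Module k N] [IsScalarTower k S N]
  (εM : GAug G M) (εN : GAug H N)
  {P : Type u} [AddCommGroup P] [Module T P] [Module k P]
  (𝒬 : ℤ → AddSubgroup P) (φ : P →ₗ[k] M ⊗[k] N)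
  (hP : PData ψ εM εN 𝒬 φ)
  [DirectSum.Decomposition 𝒬] [SetLike.GradedSMul (toAS 𝒯) 𝒬]
  (hex : ∀ n, (Tot G.toVCx H.toVCx).ExactAt (n + 1))
  [IsNoetherianRing R] [IsNoetherianRing S] [IsNoetherianRing T] [IsNoetherianRing (R ⊗[k] S)]
  (mR : Ideal R) (mS : Ideal S) (a : HomogeneousIdeal (toAS 𝒯))
  (hgam : ∀ (N : Type u) [AddCommGroup N] [Module (R ⊗[k] S) N],
    GrLC.gam (a.toIdeal.map ψ) N = GrLC.gam (mR.map (algebraMap R (R ⊗[k] S)) ⊓
      mS.map (Algebra.TensorProduct.includeRight : S →ₐ[k] R ⊗[k] S)) N)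
  (hG : ∀ a q, Subsingleton (HH mR (ModuleCat.of R (G.X a)) (q + 1)))
  (hH : ∀ b q, Subsingleton (HH mS (ModuleCat.of S (H.X b)) (q + 1)))
  (hGex : ∀ n, G.toVCx.ExactAt (n + 1)) (hHex : ∀ n, H.toVCx.ExactAt (n + 1))
  (a₁ b₁ m : ℕ) (h : (a₁ + 1) + (b₁ + 1) = m + 1)
  (hqG : ∀ i, a₁ + 2 ≤ i → Subsingleton ((Gq G mR).H i))
  (hqH : ∀ j, b₁ + 2 ≤ j → Subsingleton ((Gq H mS).H j))
  (hpG : ∀ (n : ℕ) (e : ℤ) (x : G.X n), x ∈ GrLC.gam mR (G.X n) →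
    (G.P n).p e x ∈ GrLC.gam mR (G.X n))
  (hpH : ∀ (n : ℕ) (e : ℤ) (x : H.X n), x ∈ GrLC.gam mS (H.X n) →
    (H.P n).p e x ∈ GrLC.gam mS (H.X n))
  {HM : Type u} [AddCommGroup HM] [Module R HM] [Module k HM] [IsScalarTower k R HM]
  (clM : ↥(zG G mR (a₁ + 2)) →ₗ[R] HM)
  (hkerM : ∀ z : ↥(zG G mR (a₁ + 2)), clM z = 0 ↔ (z : G.X (a₁ + 2)) ∈ bG G mR (a₁ + 2))
  (hsurjM : Function.Surjective clM)
  {HN : Type u} [AddCommGroup HN] [Module S HN] [Module k HN] [IsScalarTower k S HN]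
  (clN : ↥(zG H mS (b₁ + 2)) →ₗ[S] HN)
  (hkerN : ∀ z : ↥(zG H mS (b₁ + 2)), clN z = 0 ↔ (z : H.X (b₁ + 2)) ∈ bG H mS (b₁ + 2))
  (hsurjN : Function.Surjective clN)
  (E : StarInjRes (toAS 𝒯) 𝒬) [Module k (E.H a (m + 2))] [IsScalarTower k T (E.H a (m + 2))]

local notation "XR" => XRes 𝒯 ψ hψ εM εN 𝒬 φ hP hex mR mS a hgam hG hH
local notation "cv" => cval 𝒯 ψ hψ εM εN 𝒬 φ hP hex mR mS a hgam hG hH
local notation "jAm" => jA G H mR mS (a₁ + 1) (b₁ + 1) (m + 1) h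
local notation "PAG" => PA G mR (a₁ + 1) hpG
local notation "PAH" => PA H mS (b₁ + 1) hpH
set_option quotPrecheck false in
local notation "AA" => ↥(AG G mR (a₁ + 1)) ⊗[k] ↥(AG H mS (b₁ + 1))

omit [IsNoetherianRing T] [IsNoetherianRing (R ⊗[k] S)] in
/-- the image of a bihomogeneous element in `H ⊗ H'`. -/
lemma gA_pp_mem (d : ℤ) (w : AA) :
    gA G H mR mS a₁ b₁ clM clN
      ((tensR ↥(AG G mR (a₁ + 1)) PAH).p d ((tensL PAG ↥(AG H mS (b₁ + 1))).p d w)) ∈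
    Submodule.span k {x : HM ⊗[k] HN | ∃ z : ↥(zG G mR (a₁ + 2)),
      (z : G.X (a₁ + 2)) ∈ (G.P (a₁ + 2)).piece d ∧ ∃ z' : ↥(zG H mS (b₁ + 2)),
        (z' : H.X (b₁ + 2)) ∈ (H.P (b₁ + 2)).piece d ∧ x = clM z ⊗ₜ[k] clN z'} := by
  induction w using TensorProduct.induction_on with
  | zero => simp only [map_zero]; exact zero_mem _
  | add u u' hu hu' => simp only [map_add]; exact add_mem hu hu'
  | tmul x y =>
    rw [tensL_p_tmul, tensR_p_tmul, gA_tmul]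
    apply Submodule.subset_span
    refine ⟨δG G mR (a₁ + 1) ((PAG).p d x), ?_, δG H mS (b₁ + 1) ((PAH).p d y), ?_, rfl⟩
    · rw [δG_coe, PA_p_coe, G.d_p]
      exact (G.P (a₁ + 1 + 1)).p_mem d _
    · rw [δG_coe, PA_p_coe, H.d_p]
      exact (H.P (b₁ + 1 + 1)).p_mem d _

set_option maxHeartbeats 1000000 in
include hψ εM εN φ hP hex hgam hG hH hGex hHex h hqG hqH hpG hpH hkerM hsurjM hkerN hsurjN in
/-- **`H^{r+s-1}_{T_+}(M # N) ≅ H^r_m(M) # H^s_n(N)`**, abstract form. -/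
theorem exists_segre_iso_top :
    ∃ φ' : E.H a (m + 2) →ₗ[k] HM ⊗[k] HN,
      Function.Injective φ' ∧
      (∀ d : ℤ, φ' '' (E.Hcomp a (m + 2) d : Set (E.H a (m + 2))) =
        (Submodule.span k {x : HM ⊗[k] HN | ∃ z : ↥(zG G mR (a₁ + 2)),
          (z : G.X (a₁ + 2)) ∈ (G.P (a₁ + 2)).piece d ∧ ∃ z' : ↥(zG H mS (b₁ + 2)),
            (z' : H.X (b₁ + 2)) ∈ (H.P (b₁ + 2)).piece d ∧ x = clM z ⊗ₜ[k] clN z'} :
          Set (HM ⊗[k] HN))) ∧
      (∀ (t : T) (x : E.H a (m + 2)), φ' (t • x) = ψ t • φ' x) := by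
  classical
  obtain ⟨Θ, hΘ1, hΘ2⟩ : ∃ Θ : (XR).H (m + 2) ≃ₗ[T] E.H a (m + 2),
      (∀ (g : ℤ) (z : (XR).cocyc (m + 2)), cv (m + 2) z ∈ (totL G H (m + 2)).piece g →
        Θ ((XR).toH (m + 2) z) ∈ E.Hcomp a (m + 2) g) ∧
      (∀ (g : ℤ), ∀ y ∈ E.Hcomp a (m + 2) g, ∃ z : (XR).cocyc (m + 2),
        cv (m + 2) z ∈ (totL G H (m + 2)).piece g ∧ Θ ((XR).toH (m + 2) z) = y) :=
    SegCmp.exists_cmp (exRes 𝒯 ψ hψ εM εN 𝒬 φ hP hex) E a
      (fun n q => subsingleton_HH_CD 𝒯 ψ hψ G H mR mS a.toIdeal hgam hG hH n q) (m + 2)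
  have hcvinj := cval_injective 𝒯 ψ hψ εM εN 𝒬 φ hP hex mR mS a hgam hG hH (m + 2)
  -- the diagonal part of `A ⊗ A'`
  obtain ⟨W, hW⟩ : ∃ W : Submodule k AA,
      ∀ w, w ∈ W ↔ Δ G H (m + 1) (jAm w) = jAm w := by
    refine ⟨LinearMap.ker (Δ G H (m + 1) ∘ₗ jAm - jAm), fun w => ?_⟩
    rw [LinearMap.mem_ker, LinearMap.sub_apply, sub_eq_zero, LinearMap.comp_apply]
  have hczex : ∀ w : W, ∃ c : (XR).cocyc (m + 2),
      cv (m + 2) c = totD G.toVCx H.toVCx (m + 1) (jAm w.1) := fun w =>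
    exists_cval_eq 𝒯 ψ hψ εM εN 𝒬 φ hP hex mR mS a hgam hG hH (m + 2) _
      (by rw [← totD_Δ, (hW w.1).1 w.2])
      (totD_jA_mem_gam G H mR mS (a₁ + 1) (b₁ + 1) (m + 1) h (a.toIdeal.map ψ) hgam w.1)
      (totD_comp_totD _ _ _ _)
  choose cz hcz using hczex
  obtain ⟨f, hf⟩ : ∃ f : W →ₗ[k] E.H a (m + 2), ∀ w, f w = Θ ((XR).toH (m + 2) (cz w)) := by
    refine ⟨{ toFun := fun w => Θ ((XR).toH (m + 2) (cz w))
              map_add' := fun w w' => ?_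
              map_smul' := fun c w => ?_ }, fun w => rfl⟩
    · have : cz (w + w') = cz w + cz w' := by
        apply hcvinj
        rw [cval_add, hcz, hcz, hcz]
        change totD G.toVCx H.toVCx (m + 1) (jAm (w.1 + w'.1)) = _
        rw [map_add, map_add]
      rw [this, map_add, map_add]
    · have : cz (c • w) = algebraMap k T c • cz w := by
        apply hcvinj
        rw [cval_smul, hcz, hcz, AlgHom.commutes, algebraMap_smul]
        change totD G.toVCx H.toVCx (m + 1) (jAm (c • w.1)) = _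
        rw [map_smul, map_smul]
      rw [this, map_smul, map_smul, algebraMap_smul]
      rfl
  obtain ⟨g, hg⟩ : ∃ g : W →ₗ[k] HM ⊗[k] HN, ∀ w, g w = gA G H mR mS a₁ b₁ clM clN w.1 :=
    ⟨(gA G H mR mS a₁ b₁ clM clN).restrictScalars k ∘ₗ W.subtype, fun w => rfl⟩
  -- surjectivity
  have hfsurj : Function.Surjective f := by
    intro y
    obtain ⟨c, hc⟩ := Submodule.mkQ_surjective _ (Θ.symm y)
    obtain ⟨w, κ, hw, hκ, hcw⟩ := exists_jA_cval 𝒯 ψ hψ εM εN 𝒬 φ hP hex mR mS a hgam hG hH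
      a₁ b₁ m h hqG hqH hpG hpH c
    refine ⟨⟨w, (hW w).2 hw⟩, ?_⟩
    rw [hf]
    have h1 : (XR).toH (m + 2) c = (XR).toH (m + 2) (cz ⟨w, (hW w).2 hw⟩) :=
      toH_eq_of_cval_sub 𝒯 ψ hψ εM εN 𝒬 φ hP hex mR mS a hgam hG hH (m + 1) c _ κ hκ (by
        rw [hcz]
        exact hcw)
    rw [← h1]
    change Θ (Submodule.mkQ _ c) = y
    rw [hc, LinearEquiv.apply_symm_apply]
  -- kernels
  have hkerfg : LinearMap.ker f = LinearMap.ker g := by
    ext w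
    rw [LinearMap.mem_ker, LinearMap.mem_ker, hf, hg, LinearEquiv.map_eq_zero_iff,
      toH_eq_zero_iff_exists 𝒯 ψ hψ εM εN 𝒬 φ hP hex mR mS a hgam hG hH (m + 1) (cz w), hcz]
    constructor
    · rintro ⟨κ, hκ, hd⟩
      exact gA_eq_zero_of_totD_eq G H mR mS a₁ b₁ m h clM hkerM clN hkerN (a.toIdeal.map ψ) hgam
        (hex m) w.1 κ hκ hd
    · intro hg0
      exact exists_gam_totD_eq G H mR mS a₁ b₁ m h clM hkerM hsurjM clN hkerN hsurjN hGex hHex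
        (a.toIdeal.map ψ) hgam w.1 hg0
  obtain ⟨φ', hφ', hinj⟩ := exists_lift_of_ker_eq (K := k) (W := ↥W) (A := E.H a (m + 2))
    (B := HM ⊗[k] HN) f g hfsurj hkerfg
  refine ⟨φ', hinj, ?_, ?_⟩
  · -- pieces
    intro d
    apply Set.Subset.antisymm
    · rintro _ ⟨x, hx, rfl⟩
      obtain ⟨c, hcd, rfl⟩ := hΘ2 d x hx
      obtain ⟨w, κ, hw, hκ, hcw⟩ := exists_jA_cval_piece 𝒯 ψ hψ εM εN 𝒬 φ hP hex mR mS a hgam hG
        hH a₁ b₁ m h hqG hqH hpG hpH d c hcd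
      have h1 : (XR).toH (m + 2) c = (XR).toH (m + 2) (cz ⟨_, (hW _).2 hw⟩) :=
        toH_eq_of_cval_sub 𝒯 ψ hψ εM εN 𝒬 φ hP hex mR mS a hgam hG hH (m + 1) c _ κ hκ (by
          rw [hcz]
          exact hcw)
      rw [h1, ← hf, hφ', hg]
      exact gA_pp_mem mR mS a₁ b₁ hpG hpH clM clN d w
    · -- generators
      have hsm : ∀ (c : k) (x : E.H a (m + 2)), x ∈ E.Hcomp a (m + 2) d →
          c • x ∈ E.Hcomp a (m + 2) d := by
        intro c x hx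
        rw [← algebraMap_smul T c x]
        exact (E.Hcomp a (m + 2) d).smul_mem
          (⟨algebraMap k T c, SetLike.algebraMap_mem_graded 𝒯 c⟩ : GrLC.deg0 (toAS 𝒯)) hx
      intro x hx
      induction hx using Submodule.span_induction with
      | mem x hx =>
        obtain ⟨z, hz, z', hz', rfl⟩ := hx
        -- lift the cocycles to homogeneous elements of `A`, `A'`
        obtain ⟨x₀, hx₀⟩ := δG_surjective G mR (a₁ + 1) (hGex (a₁ + 1)) z
        obtain ⟨y₀, hy₀⟩ := δG_surjective H mS (b₁ + 1) (hHex (b₁ + 1)) z'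
        have hxd : δG G mR (a₁ + 1) ((PAG).p d x₀) = z := by
          apply Subtype.ext
          rw [δG_coe, PA_p_coe, G.d_p, ← δG_coe, hx₀]
          exact (G.P (a₁ + 1 + 1)).p_of_mem hz
        have hyd : δG H mS (b₁ + 1) ((PAH).p d y₀) = z' := by
          apply Subtype.ext
          rw [δG_coe, PA_p_coe, H.d_p, ← δG_coe, hy₀]
          exact (H.P (b₁ + 1 + 1)).p_of_mem hz'
        have hseg : ((PAG).p d x₀) ⊗ₜ[k] ((PAH).p d y₀) ∈ segSub (PAG) (PAH) d :=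
          Submodule.subset_span ⟨_, (PAG).p_mem d x₀, _, (PAH).p_mem d y₀, rfl⟩
        have hwW : ((PAG).p d x₀) ⊗ₜ[k] ((PAH).p d y₀) ∈ W := by
          rw [hW, ← jA_ΔA G H mR mS (a₁ + 1) (b₁ + 1) (m + 1) h hpG hpH]
          congr 1
          exact diag_of_mem_segSub _ _ hseg
        refine ⟨f ⟨_, hwW⟩, ?_, ?_⟩
        · rw [hf]
          apply hΘ1 d
          rw [hcz, PFam.mem_piece_iff, totL_p, ← totD_pL, ← jA_pL G H mR mS (a₁ + 1) (b₁ + 1)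
            (m + 1) h hpG, tensL_p_tmul, (PAG).idem]
        · rw [hφ', hg, gA_tmul, hxd, hyd]
      | zero => exact ⟨0, zero_mem _, map_zero _⟩
      | add x y _ _ hx hy =>
        obtain ⟨x', hx', rfl⟩ := hx
        obtain ⟨y', hy', rfl⟩ := hy
        exact ⟨x' + y', add_mem hx' hy', map_add _ _ _⟩
      | smul c x _ hx =>
        obtain ⟨x', hx', rfl⟩ := hx
        exact ⟨c • x', hsm c x' hx', map_smul _ _ _⟩
  · -- semilinearity
    intro t x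
    obtain ⟨w, rfl⟩ := hfsurj x
    have hwt : ψ t • w.1 ∈ W := by
      rw [hW, jA_smul, Δ_smul 𝒯 ψ hψ G H (m + 1) t, (hW w.1).1 w.2]
    have h1 : t • f w = f ⟨ψ t • w.1, hwt⟩ := by
      rw [hf, hf, ← map_smul, ← map_smul]
      congr 2
      apply hcvinj
      rw [cval_smul, hcz, hcz, jA_smul, totD_smul]
    rw [h1, hφ', hφ', hg, hg]
    exact (gA G H mR mS a₁ b₁ clM clN).map_smul (ψ t) w.1

end Groth.Agent.Lib.Helper20.SegGr
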