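import Mathlib
import Groth.Agent.Lib.Helper20.SegTop9
import Groth.Agent.Lib.Helper20.SegN0f

/-!
# The top graded local cohomology of a Segre product as a Segre product (helper20)
-/

set_option autoImplicit false
set_option linter.unusedSectionVars false
set_option linter.unusedVariables false
set_option linter.style.haveILetI false

universe u

open TensorProduct DirectSum Groth.Agent.Lib.Helper20.SegKun Groth.Agent.Lib.Helper20.SegTP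
  Groth.Agent.Lib.Helper20.GrConv GrLC Groth.Agent.Lib.Helper4.LC
  Groth.Agent.Lib.Helper20.SegAcyc Groth.Agent.Lib.Helper20.ResCmp
  Groth.Agent.Lib.Helper20.GrLCBasic

namespace Groth.Agent.Lib.Helper20.SegGr

attribute [local instance] actModule smulCommClass_base isScalarTower_base

variable {k : Type u} [Field k]

section aux

variable {R : Type u} [CommRing R] [Algebra k R] (𝒜 : ℤ → Submodule k R) [GradedAlgebra 𝒜]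
  {M : Type u} [AddCommGroup M] [Module R M] [Module k M] [IsScalarTower k R M]
  (ℳ : ℤ → AddSubgroup M) [DirectSum.Decomposition ℳ] [SetLike.GradedSMul 𝒜 ℳ]
  (EM : StarInjRes 𝒜 ℳ) (mR : HomogeneousIdeal 𝒜)

/-- vanishing of graded local cohomology gives exactness of the torsion subcomplex. -/
lemma Gs_exactAt_of_subsingleton (i : ℕ) (hsub : Subsingleton (EM.H mR (i + 1))) :
    (Gs (gcxOf 𝒜 ℳ EM) mR.toIdeal).ExactAt (i + 1) := by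
  intro x hx
  have hx1 : (x.1 : (EM.X (i + 1)).carrier) ∈ EM.cocyc mR (i + 1) :=
    ⟨x.2, congrArg Subtype.val hx⟩
  have h0 : EM.toH mR (i + 1) ⟨x.1, hx1⟩ = 0 := Subsingleton.elim _ _
  rw [Submodule.mkQ_apply, Submodule.Quotient.mk_eq_zero, Submodule.mem_comap] at h0
  obtain ⟨y, hy, hyx⟩ := h0
  exact ⟨⟨y, hy⟩, Subtype.ext hyx⟩

/-- vanishing of graded local cohomology above `r` gives vanishing of the cohomology of the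
quotient complex from `r` on. -/
lemma subsingleton_Gq_H (r : ℕ) (hv : ∀ i, r + 1 < i → Subsingleton (EM.H mR i)) (i : ℕ)
    (hi : r + 1 ≤ i) : Subsingleton ((Gq (gcxOf 𝒜 ℳ EM) mR.toIdeal).H i) := by
  obtain ⟨i', rfl⟩ : ∃ i', i = i' + 1 := ⟨i - 1, by omega⟩
  obtain ⟨e⟩ := nonempty_quot_H_succ_equiv (gcxOf 𝒜 ℳ EM).toVCx (gamFam (gcxOf 𝒜 ℳ EM) mR.toIdeal)
    (gamFam_stable (gcxOf 𝒜 ℳ EM) mR.toIdeal) (gcxOf_exact 𝒜 ℳ EM) i'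
  haveI : Subsingleton ((Gs (gcxOf 𝒜 ℳ EM) mR.toIdeal).H (i' + 2)) :=
    (VCx.exactAt_iff_subsingleton _ (i' + 2)).1
      (Gs_exactAt_of_subsingleton 𝒜 ℳ EM mR (i' + 1) (hv (i' + 2) (by omega)))
  exact e.toEquiv.subsingleton

end aux

section main

open GrSeg

set_option maxHeartbeats 1000000 in
/-- **the top graded local cohomology of a Segre product is the Segre product of the top graded
local cohomologies**: `H^{r+s-1}_{T_+}(M # N) ≅ H^r_m(M) # H^s_n(N)` for `r = a₁ + 2`,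
`s = b₁ + 2`, when `H^i_m(M) = 0` for `i > r` and `H^j_n(N) = 0` for `j > s`. -/
theorem exists_isSegreMod_H_top (k : Type u) [Field k] (R : Type u) [CommRing R]
    [Algebra k R]
    (𝒜 : ℤ → Submodule k R) [GradedAlgebra 𝒜] (hposR : ∀ n : ℤ, n < 0 → 𝒜 n = ⊥)
    (h0R : 𝒜 0 = Submodule.span k {(1 : R)}) [Algebra.FiniteType k R]
    (S : Type u) [CommRing S] [Algebra k S] (ℬ : ℤ → Submodule k S)
    [GradedAlgebra ℬ] (hposS : ∀ n : ℤ, n < 0 → ℬ n = ⊥)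
    (h0S : ℬ 0 = Submodule.span k {(1 : S)}) [Algebra.FiniteType k S]
    (T : Type u) [CommRing T] [Algebra k T] (𝒯 : ℤ → Submodule k T) [GradedAlgebra 𝒯]
    (ψ : T →ₐ[k] TensorProduct k R S) (hT : GrSeg.IsSegreRing 𝒜 ℬ 𝒯 ψ)
    (mR : HomogeneousIdeal 𝒜)
    (hmR : mR.toIdeal = Ideal.span (⋃ n ∈ Set.Ioi (0 : ℤ), (𝒜 n : Set R)))
    (mS : HomogeneousIdeal ℬ)
    (hmS : mS.toIdeal = Ideal.span (⋃ n ∈ Set.Ioi (0 : ℤ), (ℬ n : Set S)))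
    (mT : HomogeneousIdeal 𝒯)
    (hmT : mT.toIdeal = Ideal.span (⋃ n ∈ Set.Ioi (0 : ℤ), (𝒯 n : Set T)))
    (M : Type u) [AddCommGroup M] [Module R M] [Module k M] [IsScalarTower k R M]
    (ℳ : ℤ → AddSubgroup M) [DirectSum.Decomposition ℳ] [SetLike.GradedSMul 𝒜 ℳ]
    (EM : GrLC.StarInjRes 𝒜 ℳ)
    (N : Type u) [AddCommGroup N] [Module S N] [Module k N] [IsScalarTower k S N]
    (𝒩 : ℤ → AddSubgroup N) [DirectSum.Decomposition 𝒩] [SetLike.GradedSMul ℬ 𝒩]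
    (EN : GrLC.StarInjRes ℬ 𝒩)
    (P : Type u) [AddCommGroup P] [Module T P] [Module k P] [IsScalarTower k T P]
    (𝒬 : ℤ → AddSubgroup P) [DirectSum.Decomposition 𝒬] [SetLike.GradedSMul 𝒯 𝒬]
    (φ : P →ₗ[k] TensorProduct k M N) (hP : GrSeg.IsSegreMod ψ ℳ 𝒩 𝒬 φ)
    (EP : GrLC.StarInjRes 𝒯 𝒬) (a₁ b₁ m : ℕ) (h : (a₁ + 1) + (b₁ + 1) = m + 1)
    (hvM : ∀ i, a₁ + 2 < i → Subsingleton (EM.H mR i))
    (hvN : ∀ j, b₁ + 2 < j → Subsingleton (EN.H mS j))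
    [Module k (EM.H mR (a₁ + 2))] [IsScalarTower k R (EM.H mR (a₁ + 2))]
    [Module k (EN.H mS (b₁ + 2))] [IsScalarTower k S (EN.H mS (b₁ + 2))]
    [Module k (EP.H mT (m + 2))] [IsScalarTower k T (EP.H mT (m + 2))]
    [DirectSum.Decomposition (EP.Hgr mT (m + 2))] :
    ∃ φ' : EP.H mT (m + 2) →ₗ[k] TensorProduct k (EM.H mR (a₁ + 2)) (EN.H mS (b₁ + 2)),
      GrSeg.IsSegreMod ψ (EM.Hgr mR (a₁ + 2)) (EN.Hgr mS (b₁ + 2)) (EP.Hgr mT (m + 2)) φ' := by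
  classical
  haveI : IsNoetherianRing R := Algebra.FiniteType.isNoetherianRing k R
  haveI : IsNoetherianRing S := Algebra.FiniteType.isNoetherianRing k S
  haveI hft : Algebra.FiniteType k (R ⊗[k] S) :=
    Algebra.FiniteType.trans (S := R) inferInstance inferInstance
  haveI : IsNoetherianRing (R ⊗[k] S) := Algebra.FiniteType.isNoetherianRing k _
  haveI : IsNoetherianRing T :=
    Groth.Agent.S18646.result k R 𝒜 hposR h0R S ℬ hposS h0S T 𝒯 ψ hT.1 hT.2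
  have hψ := SegRad.ψ_mem_segrePiece 𝒜 ℬ 𝒯 ψ hT
  have hPD := pdata_of_isSegreMod 𝒜 ℬ ψ ℳ EM 𝒩 EN 𝒬 φ hP
  have hex : ∀ n, (Tot (gcxOf 𝒜 ℳ EM).toVCx (gcxOf ℬ 𝒩 EN).toVCx).ExactAt (n + 1) :=
    tot_exactAt_succ _ _ (gcxOf_exact 𝒜 ℳ EM) (gcxOf_exact ℬ 𝒩 EN)
  have hgam : ∀ (N' : Type u) [AddCommGroup N'] [Module (R ⊗[k] S) N'],
      GrLC.gam ((idealTo 𝒯 mT).toIdeal.map ψ) N' =
        GrLC.gam (mR.toIdeal.map (algebraMap R (R ⊗[k] S)) ⊓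
          mS.toIdeal.map (Algebra.TensorProduct.includeRight : S →ₐ[k] R ⊗[k] S)) N' :=
    fun N' _ _ => SegRad.gam_eq 𝒜 ℬ 𝒯 ψ hT mR.toIdeal hmR mS.toIdeal hmS mT.toIdeal hmT N'
  obtain ⟨clM, hclM⟩ : ∃ cl : ↥(zG (gcxOf 𝒜 ℳ EM) mR.toIdeal (a₁ + 2)) →ₗ[R] EM.H mR (a₁ + 2),
      ∀ z, cl z = EM.toH mR (a₁ + 2) z := ⟨EM.toH mR (a₁ + 2), fun _ => rfl⟩
  obtain ⟨clN, hclN⟩ : ∃ cl : ↥(zG (gcxOf ℬ 𝒩 EN) mS.toIdeal (b₁ + 2)) →ₗ[S] EN.H mS (b₁ + 2),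
      ∀ z, cl z = EN.toH mS (b₁ + 2) z := ⟨EN.toH mS (b₁ + 2), fun _ => rfl⟩
  have hkerM : ∀ z : ↥(zG (gcxOf 𝒜 ℳ EM) mR.toIdeal (a₁ + 2)),
      clM z = 0 ↔ (z : (gcxOf 𝒜 ℳ EM).X (a₁ + 2)) ∈ bG (gcxOf 𝒜 ℳ EM) mR.toIdeal (a₁ + 2) := by
    intro z
    rw [hclM, bG_gcxOf, Submodule.mkQ_apply, Submodule.Quotient.mk_eq_zero, Submodule.mem_comap]
    rfl
  have hkerN : ∀ z : ↥(zG (gcxOf ℬ 𝒩 EN) mS.toIdeal (b₁ + 2)),
      clN z = 0 ↔ (z : (gcxOf ℬ 𝒩 EN).X (b₁ + 2)) ∈ bG (gcxOf ℬ 𝒩 EN) mS.toIdeal (b₁ + 2) := by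
    intro z
    rw [hclN, bG_gcxOf, Submodule.mkQ_apply, Submodule.Quotient.mk_eq_zero, Submodule.mem_comap]
    rfl
  have hsurjM : Function.Surjective clM := by
    intro y
    obtain ⟨z, hz⟩ := Submodule.mkQ_surjective _ y
    exact ⟨z, (hclM z).trans hz⟩
  have hsurjN : Function.Surjective clN := by
    intro y
    obtain ⟨z, hz⟩ := Submodule.mkQ_surjective _ y
    exact ⟨z, (hclN z).trans hz⟩
  letI : Module k ((resTo 𝒯 𝒬 EP).H (idealTo 𝒯 mT) (m + 2)) := ‹Module k (EP.H mT (m + 2))›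
  haveI : IsScalarTower k T ((resTo 𝒯 𝒬 EP).H (idealTo 𝒯 mT) (m + 2)) :=
    ‹IsScalarTower k T (EP.H mT (m + 2))›
  obtain ⟨φ₀, hinj, hpiece, hsmul⟩ := exists_segre_iso_top 𝒯 ψ hψ (gaugOf 𝒜 ℳ EM)
    (gaugOf ℬ 𝒩 EN) (toAS 𝒬) φ hPD hex mR.toIdeal mS.toIdeal (idealTo 𝒯 mT) hgam
    (gcxOf_acyclic 𝒜 ℳ EM mR) (gcxOf_acyclic ℬ 𝒩 EN mS) (gcxOf_exact 𝒜 ℳ EM)
    (gcxOf_exact ℬ 𝒩 EN) a₁ b₁ m h
    (subsingleton_Gq_H 𝒜 ℳ EM mR (a₁ + 1) hvM) (subsingleton_Gq_H ℬ 𝒩 EN mS (b₁ + 1) hvN)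
    (gam_p_gcxOf 𝒜 ℳ EM mR) (gam_p_gcxOf ℬ 𝒩 EN mS) clM hkerM hsurjM clN hkerN hsurjN
    (resTo 𝒯 𝒬 EP)
  obtain ⟨φ', hφ'⟩ : ∃ φ' : EP.H mT (m + 2) →ₗ[k] EM.H mR (a₁ + 2) ⊗[k] EN.H mS (b₁ + 2),
      ∀ x, φ' x = φ₀ x := ⟨φ₀, fun _ => rfl⟩
  refine ⟨φ', ⟨?_, ?_, ?_⟩⟩
  · intro x y hxy
    rw [hφ', hφ'] at hxy
    exact hinj hxy
  · intro d
    have hset : φ' '' (EP.Hgr mT (m + 2) d : Set (EP.H mT (m + 2))) =
        φ₀ '' ((resTo 𝒯 𝒬 EP).Hcomp (idealTo 𝒯 mT) (m + 2) d : Set _) := by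
      ext w
      constructor
      · rintro ⟨x, hx, rfl⟩
        exact ⟨x, hx, (hφ' x).symm⟩
      · rintro ⟨x, hx, rfl⟩
        exact ⟨x, hx, hφ' x⟩
    rw [hset, hpiece d]
    unfold GrSeg.segrePiece
    congr 2
    ext w
    constructor
    · rintro ⟨z, hz, z', hz', rfl⟩
      refine ⟨clM z, ?_, clN z', ?_, rfl⟩
      · rw [hclM]
        exact ⟨z, (mem_piece_gcxOf 𝒜 ℳ EM (a₁ + 2) d z.1).1 hz, rfl⟩
      · rw [hclN]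
        exact ⟨z', (mem_piece_gcxOf ℬ 𝒩 EN (b₁ + 2) d z'.1).1 hz', rfl⟩
    · rintro ⟨x, ⟨z, hz, rfl⟩, y, ⟨z', hz', rfl⟩, rfl⟩
      refine ⟨z, (mem_piece_gcxOf 𝒜 ℳ EM (a₁ + 2) d z.1).2 hz, z',
        (mem_piece_gcxOf ℬ 𝒩 EN (b₁ + 2) d z'.1).2 hz', ?_⟩
      rw [hclM, hclN]
  · intro t x
    rw [hφ', hφ']
    exact hsmul t x

end main

end Groth.Agent.Lib.Helper20.SegGr
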