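import Mathlib
import Groth.Agent.Lib.Helper20.SegGor2
import Groth.Agent.Lib.Helper20.SegTop10
import Groth.Agent.Lib.Helper20.SegCM4
import Groth.Agent.S18647

/-!
# Segre products of Gorenstein graded rings with the same `a`-invariant (helper20)
-/

set_option autoImplicit false
set_option linter.unusedSectionVars false
set_option linter.unusedVariables false
set_option linter.style.haveILetI false

universe u

open TensorProduct DirectSum GrLC Groth.Agent.Lib.Helper20.GrConv Groth.Agent.Lib.Helper20.SegTP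
  Groth.Agent.Lib.Helper20.SegHilb Groth.Agent.Lib.Helper20.SegGr
  Groth.Agent.Lib.Helper20.SegBase

namespace Groth.Agent.Lib.Helper20.SegGor

section conv

variable {k : Type u} [Field k] {R : Type u} [CommRing R] [Nontrivial R] [Algebra k R]
  (𝒜 : ℤ → Submodule k R) [GradedAlgebra 𝒜] (h0 : 𝒜 0 = Submodule.span k {(1 : R)})
  {X : Type u} [AddCommGroup X] [Module R X] [Module k X] [IsScalarTower k R X]
  (𝒳 : ℤ → AddSubgroup X) [SetLike.GradedSMul 𝒜 𝒳]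
  (𝒳' : ℤ → AddSubgroup X)

include h0 in
/-- dimensions of pieces over the degree zero subring and over `k`. -/
theorem finrank_comp_eq_pieceK (h2 : SetLike.GradedSMul (toAS 𝒜) 𝒳')
    (h : ∀ j x, x ∈ 𝒳' j ↔ x ∈ 𝒳 j) (d : ℤ) :
    Module.finrank (deg0 (toAS 𝒜)) (comp (toAS 𝒜) 𝒳' d) = Module.finrank k (pieceK 𝒜 𝒳 d) := by
  let j : ↥(pieceK 𝒜 𝒳 d) ≃+ ↥(comp (toAS 𝒜) 𝒳' d) :=
    { toFun := fun x => ⟨x.1, (h d x.1).2 x.2⟩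
      invFun := fun x => ⟨x.1, (h d x.1).1 x.2⟩
      left_inv := fun _ => rfl
      right_inv := fun _ => rfl
      map_add' := fun _ _ => rfl }
  exact (finrank_eq_of_addEquiv_sub (deg0 (toAS 𝒜)) (mem_deg0_toAS_iff 𝒜 h0)
    (comp (toAS 𝒜) 𝒳' d) j (fun c v => by
      change c • v.1 = algebraMap k R c • v.1
      rw [algebraMap_smul])).symm

include h0 in
/-- the ring case. -/
theorem finrank_comp_self' (d : ℤ) :
    Module.finrank (deg0 (toAS 𝒜)) (comp (toAS 𝒜) (toAS 𝒜) d) = Module.finrank k (𝒜 d) := by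
  haveI := gradedSMul_modToAS 𝒜 𝒜
  rw [finrank_comp_eq_pieceK 𝒜 h0 (toAS 𝒜) (toAS 𝒜) inferInstance (fun _ _ => Iff.rfl) d]
  have h1 : pieceK 𝒜 (toAS 𝒜) d = 𝒜 d := by
    ext x
    exact Iff.rfl
  rw [h1]

end conv

section gsm

variable {R : Type u} [CommRing R] {σ : Type u} [SetLike σ R] [AddSubgroupClass σ R]
  (𝒜 : ℤ → σ) [GradedRing 𝒜]
  {M : Type u} [AddCommGroup M] [Module R M] {τ : Type u} [SetLike τ M] [AddSubgroupClass τ M]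
  (ℳ : ℤ → τ) [DirectSum.Decomposition ℳ] [SetLike.GradedSMul 𝒜 ℳ]

/-- graded local cohomology is a graded module, for any kind of pieces. -/
lemma gradedSMul_Hgr (E : StarInjRes 𝒜 ℳ) (a : HomogeneousIdeal 𝒜) (i : ℕ) :
    SetLike.GradedSMul 𝒜 (E.Hgr a i) where
  smul_mem := by
    intro k j x h hx hh
    rw [vadd_eq_add]
    obtain ⟨z, hz, rfl⟩ := hh
    refine ⟨x • z, ?_, map_smul _ _ _⟩
    have h := SetLike.GradedSMul.smul_mem (A := 𝒜) (B := (E.X i).gr) hx hz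
    rw [vadd_eq_add] at h
    exact h

end gsm

section main

set_option maxHeartbeats 2000000 in
/-- **Goto–Watanabe**: the Segre product of two Gorenstein graded rings of dimension at least two
with the same `a`-invariant is Gorenstein as soon as it is Cohen–Macaulay. -/
theorem isGorensteinRing_segre (k : Type u) [Field k] (R : Type u) [CommRing R] [Algebra k R]
    (𝒜 : ℤ → Submodule k R) [GradedAlgebra 𝒜] (hposR : ∀ n : ℤ, n < 0 → 𝒜 n = ⊥)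
    (h0R : 𝒜 0 = Submodule.span k {(1 : R)}) [Algebra.FiniteType k R] (S : Type u) [CommRing S]
    [Algebra k S] (ℬ : ℤ → Submodule k S) [GradedAlgebra ℬ] (hposS : ∀ n : ℤ, n < 0 → ℬ n = ⊥)
    (h0S : ℬ 0 = Submodule.span k {(1 : S)}) [Algebra.FiniteType k S] (T : Type u) [CommRing T]
    [Algebra k T] (𝒯 : ℤ → Submodule k T) [GradedAlgebra 𝒯] (ψ : T →ₐ[k] TensorProduct k R S)
    (hψ : Function.Injective ψ)
    (hdegT : ∀ n : ℤ, (𝒯 n).map ψ.toLinearMap =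
      Submodule.span k {x : TensorProduct k R S | ∃ a ∈ 𝒜 n, ∃ b ∈ ℬ n, x = a ⊗ₜ[k] b})
    [LocCoh.IsGorensteinRing R] [LocCoh.IsGorensteinRing S] (mR : HomogeneousIdeal 𝒜)
    (hmR : mR.toIdeal = Ideal.span (⋃ n ∈ Set.Ioi (0 : ℤ), (𝒜 n : Set R)))
    (I : GrLC.StarInjRes 𝒜 𝒜) (mS : HomogeneousIdeal ℬ)
    (hmS : mS.toIdeal = Ideal.span (⋃ n ∈ Set.Ioi (0 : ℤ), (ℬ n : Set S)))
    (J : GrLC.StarInjRes ℬ ℬ) (r s : ℕ) (hr : ringKrullDim R = r) (hs : ringKrullDim S = s)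
    (h2r : 2 ≤ r) (h2s : 2 ≤ s)
    (haeq : GrLC.endDeg (I.Hgr mR r) = GrLC.endDeg (J.Hgr mS s))
    [LocCoh.IsCohenMacaulayRing T] : LocCoh.IsGorensteinRing T := by
  classical
  have hT : GrSeg.IsSegreRing 𝒜 ℬ 𝒯 ψ := ⟨hψ, hdegT⟩
  haveI : Nontrivial R := by
    by_contra h
    rw [not_nontrivial_iff_subsingleton] at h
    rw [ringKrullDim_eq_bot_of_subsingleton] at hr
    exact WithBot.bot_ne_coe hr
  haveI : Nontrivial S := by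
    by_contra h
    rw [not_nontrivial_iff_subsingleton] at h
    rw [ringKrullDim_eq_bot_of_subsingleton] at hs
    exact WithBot.bot_ne_coe hs
  haveI : IsNoetherianRing R := Algebra.FiniteType.isNoetherianRing k R
  haveI : IsNoetherianRing S := Algebra.FiniteType.isNoetherianRing k S
  haveI : Nontrivial T := nontrivial_segre 𝒜 ℬ 𝒯 ψ hT
  haveI : IsNoetherianRing T :=
    Groth.Agent.S18646.result k R 𝒜 hposR h0R S ℬ hposS h0S T 𝒯 ψ hT.1 hT.2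
  have hposT := segre_pos 𝒜 ℬ 𝒯 ψ hT hposR
  have h0T := segre_zero 𝒜 ℬ 𝒯 ψ hT h0R h0S
  obtain ⟨IT⟩ := nonempty_starInjRes 𝒯 𝒯
  have hmT := irr_toIdeal 𝒯
  have hdimT : ringKrullDim T = ((r + s - 1 : ℕ) : WithBot ℕ∞) :=
    Groth.Agent.S18647.result k R 𝒜 hposR h0R S ℬ hposS h0S T 𝒯 ψ hψ hdegT r s hr hs
      (by omega) (by omega)
  have hgA := gradedSMul_modToAS 𝒜 𝒜
  have hgB := gradedSMul_modToAS ℬ ℬ
  have hgT := gradedSMul_modToAS 𝒯 𝒯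
  -- the top local cohomology of `R` and of `S`
  obtain ⟨aR, hendR, GR, dimR⟩ := exists_isGorTop R (toAS 𝒜) (hposAS 𝒜 hposR)
    (isField_deg0 𝒜 h0R) (idealTo 𝒜 mR) (isStarLocal 𝒜 hposR h0R mR hmR) (hmAS 𝒜 mR hmR) r
    (height_eq 𝒜 hposR h0R mR hmR r hr) (resTo 𝒜 𝒜 I)
  obtain ⟨aS, hendS, GS, dimS⟩ := exists_isGorTop S (toAS ℬ) (hposAS ℬ hposS)
    (isField_deg0 ℬ h0S) (idealTo ℬ mS) (isStarLocal ℬ hposS h0S mS hmS) (hmAS ℬ mS hmS) s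
    (height_eq ℬ hposS h0S mS hmS s hs) (resTo ℬ ℬ J)
  have haRS : aR = aS := by
    have h1 : endDeg (I.Hgr mR r) = ((aR : WithTop ℤ) : WithBot (WithTop ℤ)) := hendR
    have h2 : endDeg (J.Hgr mS s) = ((aS : WithTop ℤ) : WithBot (WithTop ℤ)) := hendS
    rw [h1, h2] at haeq
    exact_mod_cast haeq
  subst haRS
  obtain ⟨a₁, rfl⟩ : ∃ a₁, r = a₁ + 2 := ⟨r - 2, by omega⟩
  obtain ⟨b₁, rfl⟩ : ∃ b₁, s = b₁ + 2 := ⟨s - 2, by omega⟩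
  have hn : a₁ + 2 + (b₁ + 2) - 1 = a₁ + b₁ + 1 + 2 := by omega
  rw [hn] at hdimT
  -- the module structures over `k`
  letI : Module k ((resModTo 𝒜 𝒜 I).H mR (a₁ + 2)) := Module.compHom _ (algebraMap k R)
  haveI : IsScalarTower k R ((resModTo 𝒜 𝒜 I).H mR (a₁ + 2)) :=
    IsScalarTower.of_algebraMap_smul (fun c x => rfl)
  letI : Module k ((resModTo ℬ ℬ J).H mS (b₁ + 2)) := Module.compHom _ (algebraMap k S)
  haveI : IsScalarTower k S ((resModTo ℬ ℬ J).H mS (b₁ + 2)) :=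
    IsScalarTower.of_algebraMap_smul (fun c x => rfl)
  letI : Module k ((resModTo 𝒯 𝒯 IT).H (irr 𝒯) (a₁ + b₁ + 1 + 2)) :=
    Module.compHom _ (algebraMap k T)
  haveI : IsScalarTower k T ((resModTo 𝒯 𝒯 IT).H (irr 𝒯) (a₁ + b₁ + 1 + 2)) :=
    IsScalarTower.of_algebraMap_smul (fun c x => rfl)
  letI : DirectSum.Decomposition ((resModTo 𝒯 𝒯 IT).Hgr (irr 𝒯) (a₁ + b₁ + 1 + 2)) :=
    Groth.Agent.Lib.Helper20.GrLES2.decH (resTo 𝒯 𝒯 IT) (idealTo 𝒯 (irr 𝒯)) (a₁ + b₁ + 1 + 2)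
  haveI := gradedSMul_Hgr 𝒜 (toAS 𝒜) (resModTo 𝒜 𝒜 I) mR (a₁ + 2)
  haveI := gradedSMul_Hgr ℬ (toAS ℬ) (resModTo ℬ ℬ J) mS (b₁ + 2)
  haveI := gradedSMul_Hgr 𝒯 (toAS 𝒯) (resModTo 𝒯 𝒯 IT) (irr 𝒯) (a₁ + b₁ + 1 + 2)
  have hvM : ∀ i, a₁ + 2 < i → Subsingleton ((resModTo 𝒜 𝒜 I).H mR i) := fun i hi =>
    subsingleton_H_of_Hcomp_eq_bot 𝒜 mR (toAS 𝒜) (resModTo 𝒜 𝒜 I) i
      (fun d => Hcomp_eq_bot_of_gt 𝒜 hposR h0R mR hmR (toAS 𝒜) (resModTo 𝒜 𝒜 I) (a₁ + 2) hr i hi d)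
  have hvN : ∀ i, b₁ + 2 < i → Subsingleton ((resModTo ℬ ℬ J).H mS i) := fun i hi =>
    subsingleton_H_of_Hcomp_eq_bot ℬ mS (toAS ℬ) (resModTo ℬ ℬ J) i
      (fun d => Hcomp_eq_bot_of_gt ℬ hposS h0S mS hmS (toAS ℬ) (resModTo ℬ ℬ J) (b₁ + 2) hs i hi d)
  obtain ⟨φ', hφ'⟩ := exists_isSegreMod_H_top k R 𝒜 hposR h0R S ℬ hposS h0S T 𝒯 ψ hT mR hmR mS
    hmS (irr 𝒯) hmT R (toAS 𝒜) (resModTo 𝒜 𝒜 I) S (toAS ℬ) (resModTo ℬ ℬ J) T (toAS 𝒯)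
    ψ.toLinearMap (isSegreMod_self 𝒜 ℬ 𝒯 ψ hT) (resModTo 𝒯 𝒯 IT) a₁ b₁ (a₁ + b₁ + 1) (by omega)
    hvM hvN
  -- the Segre product of the two top local cohomology modules
  have GX : IsGorTop (toAS 𝒜) ((resModTo 𝒜 𝒜 I).Hgr mR (a₁ + 2)) aR :=
    GR.of_iff (fun _ _ => Iff.rfl) (fun _ _ => Iff.rfl)
  have GY : IsGorTop (toAS ℬ) ((resModTo ℬ ℬ J).Hgr mS (b₁ + 2)) aR :=
    GS.of_iff (fun _ _ => Iff.rfl) (fun _ _ => Iff.rfl)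
  have GP := isGorTop_segre 𝒜 ℬ 𝒯 ψ hT h0R h0S ((resModTo 𝒜 𝒜 I).Hgr mR (a₁ + 2))
    ((resModTo ℬ ℬ J).Hgr mS (b₁ + 2)) ((resModTo 𝒯 𝒯 IT).Hgr (irr 𝒯) (a₁ + b₁ + 1 + 2)) φ' hφ' aR
    GX GY
  have hdX : ∀ d, Module.finrank k (pieceK 𝒜 ((resModTo 𝒜 𝒜 I).Hgr mR (a₁ + 2)) (aR - d)) =
      Module.finrank k (𝒜 d) := by
    intro d
    exact (finrank_comp_eq_pieceK 𝒜 h0R ((resModTo 𝒜 𝒜 I).Hgr mR (a₁ + 2))
      ((resTo 𝒜 𝒜 I).Hgr (idealTo 𝒜 mR) (a₁ + 2))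
      (Groth.Agent.Lib.Helper20.GrLES2.gsmulH (resTo 𝒜 𝒜 I) (idealTo 𝒜 mR) (a₁ + 2))
      (fun _ _ => Iff.rfl) (aR - d)).symm.trans ((dimR d).trans (finrank_comp_self' 𝒜 h0R d))
  have hdY : ∀ d, Module.finrank k (pieceK ℬ ((resModTo ℬ ℬ J).Hgr mS (b₁ + 2)) (aR - d)) =
      Module.finrank k (ℬ d) := by
    intro d
    exact (finrank_comp_eq_pieceK ℬ h0S ((resModTo ℬ ℬ J).Hgr mS (b₁ + 2))
      ((resTo ℬ ℬ J).Hgr (idealTo ℬ mS) (b₁ + 2))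
      (Groth.Agent.Lib.Helper20.GrLES2.gsmulH (resTo ℬ ℬ J) (idealTo ℬ mS) (b₁ + 2))
      (fun _ _ => Iff.rfl) (aR - d)).symm.trans ((dimS d).trans (finrank_comp_self' ℬ h0S d))
  have hdP := finrank_pieceK_segre_top 𝒜 ℬ 𝒯 ψ hT ((resModTo 𝒜 𝒜 I).Hgr mR (a₁ + 2))
    ((resModTo ℬ ℬ J).Hgr mS (b₁ + 2)) ((resModTo 𝒯 𝒯 IT).Hgr (irr 𝒯) (a₁ + b₁ + 1 + 2)) φ' hφ' aR
    hdX hdY
  -- the criterion
  refine isGorensteinRing_of_isGorTop (toAS 𝒯) (hposAS 𝒯 hposT) (isField_deg0 𝒯 h0T)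
    (idealTo 𝒯 (irr 𝒯)) (isStarLocal 𝒯 hposT h0T (irr 𝒯) hmT) (hmAS 𝒯 (irr 𝒯) hmT)
    (a₁ + b₁ + 1 + 2) (resTo 𝒯 𝒯 IT) ?_ aR (GP.of_iff (fun _ _ => Iff.rfl) (fun _ _ => Iff.rfl)) ?_
  · intro p hp
    exact subsingleton_H_of_Hcomp_eq_bot 𝒯 (irr 𝒯) 𝒯 IT p
      (fun d => Hcomp_eq_bot_of_ne 𝒯 hposT h0T (irr 𝒯) hmT IT (a₁ + b₁ + 1 + 2) hdimT p hp d)
  · intro d
    rw [finrank_comp_self' 𝒯 h0T d, ← hdP d]
    exact le_of_eq (finrank_comp_eq_pieceK 𝒯 h0T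
      ((resModTo 𝒯 𝒯 IT).Hgr (irr 𝒯) (a₁ + b₁ + 1 + 2))
      ((resTo 𝒯 𝒯 IT).Hgr (idealTo 𝒯 (irr 𝒯)) (a₁ + b₁ + 1 + 2))
      (Groth.Agent.Lib.Helper20.GrLES2.gsmulH (resTo 𝒯 𝒯 IT) (idealTo 𝒯 (irr 𝒯))
        (a₁ + b₁ + 1 + 2)) (fun _ _ => Iff.rfl)
      (aR - d)).symm

end main

end Groth.Agent.Lib.Helper20.SegGor
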