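import Mathlib
import Groth.Agent.Lib.Helper20.SegGor3
import Groth.Agent.Lib.Helper20.GrVerType

/-!
# The socle of the Segre product of two modules of Gorenstein top type (helper20)
-/

set_option autoImplicit false
set_option linter.unusedSectionVars false
set_option linter.unusedVariables false
set_option linter.style.haveILetI false

universe u

open DirectSum GrLC Groth.Agent.Lib.Helper20.GrLCBasic Groth.Agent.Lib.Helper20.GrLCQuot
  Groth.Agent.Lib.Helper20.GrVeronese Groth.Agent.Lib.Helper20.GrVerRing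
  Groth.Agent.Lib.Helper20.GrFieldLocal Groth.Agent.Lib.Helper20.GrVerTop
  Groth.Agent.Lib.Helper20.GrVerHull Groth.Agent.Lib.Helper20.GrHullDual
  Groth.Agent.Lib.Helper20.GrCanonShift Groth.Agent.Lib.Helper20.GrHullChar

namespace Groth.Agent.Lib.Helper20.SegGor

section A

variable (R : Type u) [CommRing R] [LocCoh.IsGorensteinRing R] (𝒜 : ℤ → AddSubgroup R)
  [GradedRing 𝒜] (hpos : ∀ n : ℤ, n < 0 → 𝒜 n = ⊥) (h0 : IsField (GrLC.deg0 𝒜))
  (m : HomogeneousIdeal 𝒜) (hm : GrLC.IsStarLocal 𝒜 m)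
  (hmsp : m.toIdeal = Ideal.span (⋃ n ∈ Set.Ioi (0 : ℤ), (𝒜 n : Set R)))
  (n : ℕ) (hn : m.toIdeal.height = n) (I : GrLC.StarInjRes 𝒜 𝒜)

include hpos h0 hm hmsp hn in
set_option maxHeartbeats 1000000 in
/-- **the top graded local cohomology of a Gorenstein graded ring over a field.** -/
theorem exists_isGorTop' :
    ∃ a : ℤ, endDeg (I.Hgr m n) = ((a : WithTop ℤ) : WithBot (WithTop ℤ)) ∧
      IsGorTop 𝒜 (I.Hgr m n) a ∧
      (∀ d, Module.finrank (deg0 𝒜) (comp 𝒜 (I.Hgr m n) (a - d)) =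
        Module.finrank (deg0 𝒜) (comp 𝒜 𝒜 d)) ∧
      ∀ d, Module.Finite (deg0 𝒜) (comp 𝒜 (I.Hgr m n) (a - d)) := by
  classical
  haveI : IsNoetherianRing R := inferInstance
  letI : DirectSum.Decomposition (GrLC.quotGr 𝒜 m) :=
    (isInternal_quotGr 𝒜 (m.toIdeal : Submodule R R) m.isHomogeneous).chooseDecomposition
  letI : SetLike.GradedSMul 𝒜 (GrLC.quotGr 𝒜 m) :=
    quotGr_gradedSMul (𝒜 := 𝒜) (𝓧 := 𝒜) (P := (m.toIdeal : Submodule R R))
  obtain ⟨E', e, he⟩ := Groth.Agent.Lib.Helper20.GrLCHull.exists_starInjHull 𝒜 (GrLC.quotGr 𝒜 m)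
  obtain ⟨g₀, φ₀, hφ₀⟩ := Groth.Agent.S13244.result R 𝒜 m hm n hn I E'.carrier E'.gr e he
  letI := Groth.Agent.Lib.Helper20.GrLES2.decH I m n
  have hgr : IsGrHom (I.Hgr m n) (shiftGr E'.gr g₀) φ₀.toLinearMap := fun j x hx => hφ₀ j x hx
  have hsymm : ∀ (i : ℤ) (y : E'.carrier), y ∈ E'.gr (i + g₀) → φ₀.symm y ∈ I.Hgr m n i := by
    intro i y hy
    refine mem_of_map_mem (I.Hgr m n) (shiftGr E'.gr g₀) φ₀.toLinearMap hgr φ₀.injective ?_
    change φ₀ (φ₀.symm y) ∈ E'.gr (i + g₀)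
    rw [φ₀.apply_symm_apply]
    exact hy
  have hmne : m.toIdeal ≠ ⊤ := ne_top 𝒜 hpos h0 m hmsp
  have hmpos : ∀ n : ℤ, 0 < n → ∀ x ∈ 𝒜 n, x ∈ m.toIdeal :=
    fun n hn x hx => mem_of_pos 𝒜 m hmsp hn hx
  have he1 : e 1 ≠ 0 := by
    intro h6
    have h7 : (1 : R ⧸ m.toIdeal) = 0 := he.injective (by rw [h6, map_zero])
    have h8 : Ideal.Quotient.mk m.toIdeal 1 = 0 := h7
    rw [Ideal.Quotient.eq_zero_iff_mem] at h8
    exact hmne ((Ideal.eq_top_iff_one _).2 h8)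
  have h6 : e 1 ∈ E'.gr (-g₀ + g₀) := by
    rw [neg_add_cancel]
    exact range_le_zero' 𝒜 hpos m hmsp E'.gr e he 1
  have hu : φ₀.symm (e 1) ∈ I.Hgr m n (-g₀) := hsymm (-g₀) (e 1) h6
  have hu0 : φ₀.symm (e 1) ≠ 0 := by
    intro h8
    apply he1
    have := congrArg φ₀ h8
    rwa [φ₀.apply_symm_apply, map_zero] at this
  have htop : ∀ j, -g₀ < j → I.Hgr m n j = ⊥ := by
    intro j hj
    rw [eq_bot_iff]
    intro x hx
    have h5 := hφ₀ j x hx
    rw [hull_eq_bot_of_pos 𝒜 hpos m hmpos E'.gr e he (j + g₀) (by omega), AddSubgroup.mem_bot]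
      at h5
    rw [AddSubgroup.mem_bot]
    apply φ₀.injective
    rw [map_zero]
    exact h5
  have hTe : ∀ d : ℤ, Nonempty (comp 𝒜 (I.Hgr m n) (-g₀ - d) ≃ₗ[deg0 𝒜] comp 𝒜 E'.gr (-d)) := by
    intro d
    have hd : -g₀ - d + g₀ = -d := by ring
    have hmem : ∀ x : comp 𝒜 (I.Hgr m n) (-g₀ - d), φ₀ x.1 ∈ E'.gr (-d) := by
      intro x
      have := hφ₀ (-g₀ - d) x.1 x.2
      rwa [hd] at this
    let Te : comp 𝒜 (I.Hgr m n) (-g₀ - d) ≃ₗ[deg0 𝒜] comp 𝒜 E'.gr (-d) :=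
      { toFun := fun x => ⟨φ₀ x.1, hmem x⟩
        map_add' := fun x y => Subtype.ext (map_add φ₀ x.1 y.1)
        map_smul' := fun c x => Subtype.ext (map_smul φ₀ (c : R) x.1)
        invFun := fun y => ⟨φ₀.symm y.1, hsymm (-g₀ - d) y.1 (by rw [hd]; exact y.2)⟩
        left_inv := fun x => Subtype.ext (φ₀.symm_apply_apply x.1)
        right_inv := fun y => Subtype.ext (φ₀.apply_symm_apply y.1) }
    exact ⟨Te⟩
  refine ⟨-g₀, ?_, ⟨htop, ⟨φ₀.symm (e 1), hu, hu0, ?_⟩, ?_⟩, ?_, ?_⟩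
  · -- the a-invariant
    apply le_antisymm
    · rw [Groth.Agent.Lib.Helper20.GrReg1.endDeg_le_iff]
      intro d hd
      exact htop d hd
    · apply Groth.Agent.Lib.Helper20.GrLES2.le_endDeg
      exact Groth.Agent.Lib.Helper20.GrAinv.ne_bot_of_mem hu hu0
  · intro x hx
    have h5 := hφ₀ (-g₀) x hx
    rw [neg_add_cancel] at h5
    obtain ⟨c, hc, hcx⟩ := exists_smul_eq_of_mem_zero 𝒜 E'.gr hpos h0 m hmsp e he h5
    refine ⟨c, hc, ?_⟩
    apply φ₀.injective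
    rw [map_smul, φ₀.apply_symm_apply]
    exact hcx
  · intro j x hx hx0
    have h5 := hφ₀ j x hx
    have hy0 : φ₀ x ≠ 0 := by
      intro h
      apply hx0
      apply φ₀.injective
      rw [map_zero]
      exact h
    obtain ⟨r, hr, hry, -⟩ := exists_smul_ne_zero 𝒜 hpos m hmsp E'.gr e he h5 hy0
    have hr' : r ∈ 𝒜 (-g₀ - j) := by
      have : -g₀ - j = -(j + g₀) := by ring
      rwa [this]
    refine ⟨r, hr', ?_⟩
    intro h
    apply hry
    rw [← map_smul, h, map_zero]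
  · intro d
    obtain ⟨Te⟩ := hTe d
    rw [LinearEquiv.finrank_eq Te]
    exact finrank_comp_neg 𝒜 E'.gr hpos h0 m hmsp e he d
  · intro d
    obtain ⟨Te⟩ := hTe d
    haveI := finite_comp_neg 𝒜 E'.gr hpos h0 m hmsp e he d
    exact Module.Finite.equiv Te.symm

end A

open TensorProduct Groth.Agent.Lib.Helper20.GrConv Groth.Agent.Lib.Helper20.SegTP
  Groth.Agent.Lib.Helper20.SegHilb Groth.Agent.Lib.Helper20.SegGr
  Groth.Agent.Lib.Helper20.GrExtGraded

section onesided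

variable {k : Type u} [Field k] {R : Type u} [CommRing R] [Algebra k R]
  {X : Type u} [AddCommGroup X] [Module R X] [Module k X] [IsScalarTower k R X]
  {Y : Type u} [AddCommGroup Y] [Module k Y]

/-- a non-zero tensor all of whose left coordinates lie in a subspace on which a set of ring
elements acts faithfully is moved by one of these ring elements. -/
lemma exists_smul_ne_zero_left (V : Submodule k X) (W : Set Y) (A : Set R)
    (hV : ∀ x ∈ V, x ≠ 0 → ∃ α ∈ A, α • x ≠ 0) (ω : X ⊗[k] Y)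
    (hω : ω ∈ Submodule.span k {w : X ⊗[k] Y | ∃ x ∈ V, ∃ y ∈ W, w = x ⊗ₜ[k] y})
    (hω0 : ω ≠ 0) : ∃ α ∈ A, α • ω ≠ 0 := by
  classical
  have hcoord : ∀ w ∈ Submodule.span k {w : X ⊗[k] Y | ∃ x ∈ V, ∃ y ∈ W, w = x ⊗ₜ[k] y},
      ∀ i, leftEquiv k R X Y w i ∈ V := by
    intro w hw i
    refine Submodule.span_induction (p := fun w _ => leftEquiv k R X Y w i ∈ V) ?_ ?_ ?_ ?_ hw
    · rintro _ ⟨x', hx', y', hy', rfl⟩
      rw [leftEquiv_tmul_apply]
      exact V.smul_mem _ hx'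
    · rw [map_zero]
      exact zero_mem _
    · intro w w' _ _ h h'
      rw [map_add, Finsupp.add_apply]
      exact add_mem h h'
    · intro c w _ h
      rw [← algebraMap_smul R c w, map_smul, Finsupp.smul_apply, algebraMap_smul]
      exact V.smul_mem c h
  obtain ⟨i, hi⟩ : ∃ i, leftEquiv k R X Y ω i ≠ 0 := by
    by_contra hcon
    push_neg at hcon
    apply hω0
    apply (leftEquiv k R X Y).injective
    rw [map_zero]
    exact Finsupp.ext hcon
  obtain ⟨α, hα, hαne⟩ := hV _ (hcoord ω hω i) hi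
  refine ⟨α, hα, ?_⟩
  intro h
  apply hαne
  have h2 : leftEquiv k R X Y (α • ω) i = α • leftEquiv k R X Y ω i := by
    rw [map_smul, Finsupp.smul_apply]
  rw [← h2, h, map_zero, Finsupp.zero_apply]

end onesided

section twosided

attribute [local instance] actModule

variable {k : Type u} [Field k] {R S : Type u} [CommRing R] [CommRing S]
  [Algebra k R] [Algebra k S]
  (𝒜 : ℤ → Submodule k R) [GradedAlgebra 𝒜] (ℬ : ℤ → Submodule k S) [GradedAlgebra ℬ]
  {X : Type u} [AddCommGroup X] [Module R X] [Module k X] [IsScalarTower k R X]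
  (𝒳 : ℤ → AddSubgroup X) [SetLike.GradedSMul 𝒜 𝒳]
  {Y : Type u} [AddCommGroup Y] [Module S Y] [Module k Y] [IsScalarTower k S Y]
  (𝒴 : ℤ → AddSubgroup Y) [SetLike.GradedSMul ℬ 𝒴]

lemma comm_smul_right {k : Type u} [Field k] {R S : Type u} [CommRing R] [CommRing S]
    [Algebra k R] [Algebra k S]
    {X : Type u} [AddCommGroup X] [Module R X] [Module k X] [IsScalarTower k R X]
    {Y : Type u} [AddCommGroup Y] [Module S Y] [Module k Y] [IsScalarTower k S Y]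
    (β : S) (w : X ⊗[k] Y) :
    TensorProduct.comm k X Y (((1 : R) ⊗ₜ[k] β : R ⊗[k] S) • w) =
      β • TensorProduct.comm k X Y w := by
  induction w using TensorProduct.induction_on with
  | zero => rw [smul_zero, map_zero, smul_zero]
  | add w w' hw hw' => rw [smul_add, map_add, hw, hw', map_add, smul_add]
  | tmul x y =>
    rw [tmul_smul_tmul, TensorProduct.comm_tmul, TensorProduct.comm_tmul, one_smul,
      TensorProduct.smul_tmul']

include 𝒜 ℬ in
/-- **faithfulness of the action of `R_d ⊗ S_{d'}` on a piece of a Segre product.** -/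
theorem exists_tmul_smul_ne_zero (j : ℤ) (A : Set R) (B : Set S)
    (hX : ∀ x ∈ 𝒳 j, x ≠ 0 → ∃ α ∈ A, α • x ≠ 0)
    (hY : ∀ y ∈ 𝒴 j, y ≠ 0 → ∃ β ∈ B, β • y ≠ 0) (ω : X ⊗[k] Y)
    (hω : ω ∈ GrSeg.segrePiece k 𝒳 𝒴 j) (hω0 : ω ≠ 0) :
    ∃ α ∈ A, ∃ β ∈ B, (α ⊗ₜ[k] β : R ⊗[k] S) • ω ≠ 0 := by
  classical
  obtain ⟨α, hα, hαω⟩ := exists_smul_ne_zero_left (pieceK 𝒜 𝒳 j) (𝒴 j : Set Y) A hX ω hω hω0
  have hmem : ∀ w ∈ GrSeg.segrePiece k 𝒳 𝒴 j, TensorProduct.comm k X Y (α • w) ∈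
      Submodule.span k {w : Y ⊗[k] X | ∃ y ∈ pieceK ℬ 𝒴 j, ∃ x ∈ (Set.univ : Set X),
        w = y ⊗ₜ[k] x} := by
    intro w hw
    refine Submodule.span_induction (p := fun w _ => TensorProduct.comm k X Y (α • w) ∈
      Submodule.span k {w : Y ⊗[k] X | ∃ y ∈ pieceK ℬ 𝒴 j, ∃ x ∈ (Set.univ : Set X),
        w = y ⊗ₜ[k] x}) ?_ ?_ ?_ ?_ hw
    · rintro _ ⟨x', hx', y', hy', rfl⟩
      rw [TensorProduct.smul_tmul', TensorProduct.comm_tmul]
      exact Submodule.subset_span ⟨y', hy', α • x', Set.mem_univ _, rfl⟩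
    · rw [smul_zero, map_zero]
      exact zero_mem _
    · intro w w' _ _ h h'
      rw [smul_add, map_add]
      exact add_mem h h'
    · intro c w _ h
      rw [smul_comm, map_smul]
      exact Submodule.smul_mem _ c h
  have hω'0 : TensorProduct.comm k X Y (α • ω) ≠ 0 := by
    intro h
    exact hαω ((TensorProduct.comm k X Y).map_eq_zero_iff.1 h)
  obtain ⟨β, hβ, hβω⟩ := exists_smul_ne_zero_left (pieceK ℬ 𝒴 j) (Set.univ : Set X) B hY _
    (hmem ω hω) hω'0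
  refine ⟨α, hα, β, hβ, ?_⟩
  intro h
  apply hβω
  have h3 : (α ⊗ₜ[k] β : R ⊗[k] S) = ((1 : R) ⊗ₜ[k] β) * (α ⊗ₜ[k] (1 : S)) := by
    rw [Algebra.TensorProduct.tmul_mul_tmul, one_mul, mul_one]
  rw [h3, mul_smul, includeLeft_smul] at h
  rw [← comm_smul_right (R := R), h, map_zero]

end twosided

section socle

attribute [local instance] actModule

variable {k : Type u} [Field k] {R S T : Type u} [CommRing R] [CommRing S] [CommRing T]
  [Algebra k R] [Algebra k S] [Algebra k T]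
  (𝒜 : ℤ → Submodule k R) [GradedAlgebra 𝒜] (ℬ : ℤ → Submodule k S) [GradedAlgebra ℬ]
  (𝒯 : ℤ → Submodule k T) [GradedAlgebra 𝒯] (ψ : T →ₐ[k] R ⊗[k] S)
  (hT : GrSeg.IsSegreRing 𝒜 ℬ 𝒯 ψ)
  {X : Type u} [AddCommGroup X] [Module R X] [Module k X] [IsScalarTower k R X]
  (𝒳 : ℤ → AddSubgroup X) [SetLike.GradedSMul 𝒜 𝒳]
  {Y : Type u} [AddCommGroup Y] [Module S Y] [Module k Y] [IsScalarTower k S Y]
  (𝒴 : ℤ → AddSubgroup Y) [SetLike.GradedSMul ℬ 𝒴]
  {P : Type u} [AddCommGroup P] [Module T P] [Module k P] [IsScalarTower k T P]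
  (𝒬 : ℤ → AddSubgroup P) [DirectSum.Decomposition 𝒬] [SetLike.GradedSMul 𝒯 𝒬]
  (φ : P →ₗ[k] X ⊗[k] Y) (hP : GrSeg.IsSegreMod ψ 𝒳 𝒴 𝒬 φ)
  (mT : HomogeneousIdeal 𝒯)
  (hmT : mT.toIdeal = Ideal.span (⋃ n ∈ Set.Ioi (0 : ℤ), (𝒯 n : Set T)))

include hT hP hmT in
set_option maxHeartbeats 1000000 in
/-- **the socle of a Segre product** whose factors have no socle below degree `b`, the second
factor vanishing above degree `b`, is its piece of degree `b`. -/
theorem mem_tor_iff_segre (b : ℤ)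
    (hX1 : ∀ j, j < b → ∀ x ∈ 𝒳 j, x ≠ 0 → ∃ α ∈ (𝒜 1 : Set R), α • x ≠ 0)
    (hY1 : ∀ j, j < b → ∀ y ∈ 𝒴 j, y ≠ 0 → ∃ β ∈ (ℬ 1 : Set S), β • y ≠ 0)
    (hYtop : ∀ j, b < j → 𝒴 j = ⊥) (x : P) :
    x ∈ tor mT.toIdeal P ↔ x ∈ 𝒬 b := by
  classical
  haveI := gradedSMul_toAS 𝒯 𝒬
  have hmemφ : ∀ j x, x ∈ 𝒬 j → φ x ∈ GrSeg.segrePiece k 𝒳 𝒴 j := by
    intro j x hx
    have : φ x ∈ (GrSeg.segrePiece k 𝒳 𝒴 j : Set (X ⊗[k] Y)) := by
      rw [← hP.image_piece j]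
      exact ⟨x, hx, rfl⟩
    exact this
  have hQtop : ∀ j, b < j → ∀ y ∈ 𝒬 j, y = 0 := by
    intro j hj y hy
    apply hP.injective
    rw [map_zero]
    have h2 : GrSeg.segrePiece k 𝒳 𝒴 j ≤ ⊥ := by
      apply Submodule.span_le.2
      rintro _ ⟨x', hx', y', hy', rfl⟩
      rw [hYtop j hj, AddSubgroup.mem_bot] at hy'
      rw [hy', tmul_zero]
      exact Submodule.zero_mem _
    exact (Submodule.mem_bot k).1 (h2 (hmemφ j y hy))
  constructor
  · intro hx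
    have hcomp : ∀ j, j ≠ b → ((decompose 𝒬 x j : 𝒬 j) : P) = 0 := by
      intro j hjb
      rcases lt_or_gt_of_ne hjb with hlt | hgt
      · by_contra hne
        have hω0 : φ ((decompose 𝒬 x j : 𝒬 j) : P) ≠ 0 := by
          intro h
          exact hne (hP.injective (h.trans (map_zero φ).symm))
        obtain ⟨α, hα, β, hβ, hne2⟩ := exists_tmul_smul_ne_zero 𝒜 ℬ 𝒳 𝒴 j (𝒜 1 : Set R)
          (ℬ 1 : Set S) (hX1 j hlt) (hY1 j hlt) _
          (hmemφ j _ (SetLike.coe_mem (decompose 𝒬 x j))) hω0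
        have hαβ : α ⊗ₜ[k] β ∈ (𝒯 1).map ψ.toLinearMap := by
          rw [hT.2 1]
          exact Submodule.subset_span ⟨α, hα, β, hβ, rfl⟩
        obtain ⟨t, ht, htψ⟩ := hαβ
        have htm : t ∈ mT.toIdeal := by
          rw [hmT]
          apply Ideal.subset_span
          simp only [Set.mem_iUnion, Set.mem_Ioi]
          exact ⟨1, by norm_num, ht⟩
        have h1 : t • x = 0 := hx t htm
        have h2 := decompose_smul_left (toAS 𝒯) 𝒬 (c := t) (d := 1) ht x j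
        rw [h1, decompose_zero, DirectSum.zero_apply, AddSubgroup.coe_zero] at h2
        apply hne2
        have h3 : φ (t • ((decompose 𝒬 x j : 𝒬 j) : P)) =
            (α ⊗ₜ[k] β : R ⊗[k] S) • φ ((decompose 𝒬 x j : 𝒬 j) : P) := by
          rw [hP.map_smul, smul_def]
          congr 2
        rw [← h3, ← h2, map_zero]
      · exact hQtop j hgt _ (SetLike.coe_mem _)
    rw [← DirectSum.sum_support_decompose 𝒬 x]
    refine AddSubgroup.sum_mem _ fun j _ => ?_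
    by_cases hjb : j = b
    · rw [hjb]
      exact SetLike.coe_mem _
    · rw [hcomp j hjb]
      exact zero_mem _
  · intro hx r hr
    rw [hmT] at hr
    refine Submodule.span_induction (p := fun r _ => r • x = 0) ?_ ?_ ?_ ?_ hr
    · intro r hr
      simp only [Set.mem_iUnion, Set.mem_Ioi] at hr
      obtain ⟨d, hd, hrd⟩ := hr
      have hmem := SetLike.GradedSMul.smul_mem (A := 𝒯) (B := 𝒬) hrd hx
      rw [vadd_eq_add] at hmem
      exact hQtop (d + b) (by omega) _ hmem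
    · exact zero_smul _ _
    · intro a b' _ _ ha hb
      rw [add_smul, ha, hb, add_zero]
    · intro a b' _ hb
      rw [smul_eq_mul, mul_smul, hb, smul_zero]

end socle

section nd1

variable {k : Type u} [Field k] {R : Type u} [CommRing R] [Algebra k R]
  (𝒜 : ℤ → Submodule k R) [GradedAlgebra 𝒜]
  (hstd : Ideal.span (⋃ n ∈ Set.Ioi (0 : ℤ), (𝒜 n : Set R)) =
    Ideal.span ((𝒜 1 : Submodule k R) : Set R))
  {X : Type u} [AddCommGroup X] [Module R X] (𝒳 : ℤ → AddSubgroup X) (a : ℤ)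

include hstd in
/-- over a standard graded ring a module of Gorenstein top type has no socle below the top. -/
theorem IsGorTop.exists_one_smul_ne_zero (G : IsGorTop (toAS 𝒜) 𝒳 a) (j : ℤ) (hj : j < a)
    (x : X) (hx : x ∈ 𝒳 j) (hx0 : x ≠ 0) : ∃ α ∈ (𝒜 1 : Set R), α • x ≠ 0 := by
  by_contra hcon
  push_neg at hcon
  obtain ⟨r, hr, hrx⟩ := G.nd j x hx hx0
  have hrm : r ∈ Ideal.span (⋃ n ∈ Set.Ioi (0 : ℤ), (𝒜 n : Set R)) := by
    apply Ideal.subset_span
    simp only [Set.mem_iUnion, Set.mem_Ioi]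
    exact ⟨a - j, by omega, hr⟩
  rw [hstd] at hrm
  apply hrx
  refine Submodule.span_induction (p := fun r _ => r • x = 0) ?_ ?_ ?_ ?_ hrm
  · intro y hy
    exact hcon y hy
  · exact zero_smul _ _
  · intro y z _ _ hy hz
    rw [add_smul, hy, hz, add_zero]
  · intro c y _ hy
    rw [smul_eq_mul, mul_smul, hy, smul_zero]

end nd1

end Groth.Agent.Lib.Helper20.SegGor
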