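import Mathlib
import Groth.Agent.Lib.Helper20.SegGor4

/-!
# The type of the Segre product of two standard graded Gorenstein rings (helper20)
-/

set_option autoImplicit false
set_option linter.unusedSectionVars false
set_option linter.unusedVariables false
set_option linter.style.haveILetI false

universe u

open TensorProduct DirectSum GrLC Groth.Agent.Lib.Helper20.GrConv Groth.Agent.Lib.Helper20.SegTP
  Groth.Agent.Lib.Helper20.SegHilb Groth.Agent.Lib.Helper20.SegGr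
  Groth.Agent.Lib.Helper20.SegBase Groth.Agent.Lib.Helper20.GrExtGraded
  Groth.Agent.Lib.Helper20.SocleLen Groth.Agent.Lib.Helper20.GrStarLocalBass
  Groth.Agent.Lib.Helper20.GrConcentrated Groth.Agent.Lib.Helper20.GrVerType

namespace Groth.Agent.Lib.Helper20.SegGor

section conv

variable {k : Type u} [Field k] {R : Type u} [CommRing R] [Nontrivial R] [Algebra k R]
  (𝒜 : ℤ → Submodule k R) [GradedAlgebra 𝒜] (h0 : 𝒜 0 = Submodule.span k {(1 : R)})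
  {X : Type u} [AddCommGroup X] [Module R X] [Module k X] [IsScalarTower k R X]
  (𝒳 : ℤ → AddSubgroup X) [SetLike.GradedSMul 𝒜 𝒳]
  (𝒳' : ℤ → AddSubgroup X)

/-- the identification of a piece as a `k`-space and as a module over the degree zero subring. -/
def pieceAddEquiv (h2 : SetLike.GradedSMul (toAS 𝒜) 𝒳') (h : ∀ j x, x ∈ 𝒳' j ↔ x ∈ 𝒳 j)
    (d : ℤ) : ↥(pieceK 𝒜 𝒳 d) ≃+ ↥(comp (toAS 𝒜) 𝒳' d) :=
  { toFun := fun x => ⟨x.1, (h d x.1).2 x.2⟩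
    invFun := fun x => ⟨x.1, (h d x.1).1 x.2⟩
    left_inv := fun _ => rfl
    right_inv := fun _ => rfl
    map_add' := fun _ _ => rfl }

include h0 in
theorem finite_pieceK (h2 : SetLike.GradedSMul (toAS 𝒜) 𝒳') (h : ∀ j x, x ∈ 𝒳' j ↔ x ∈ 𝒳 j)
    (d : ℤ) (hfin : Module.Finite (deg0 (toAS 𝒜)) (comp (toAS 𝒜) 𝒳' d)) :
    Module.Finite k (pieceK 𝒜 𝒳 d) :=
  finite_of_addEquiv_sub (deg0 (toAS 𝒜)) (mem_deg0_toAS_iff 𝒜 h0) (comp (toAS 𝒜) 𝒳' d)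
    (pieceAddEquiv 𝒜 𝒳 𝒳' h2 h d) (fun c v => by
      change c • v.1 = algebraMap k R c • v.1
      rw [algebraMap_smul])

include h0 in
theorem length_comp_eq_finrank_pieceK (h2 : SetLike.GradedSMul (toAS 𝒜) 𝒳')
    (h : ∀ j x, x ∈ 𝒳' j ↔ x ∈ 𝒳 j) (d : ℤ) [Module.Finite k (pieceK 𝒜 𝒳 d)] :
    Module.length (deg0 (toAS 𝒜)) (comp (toAS 𝒜) 𝒳' d) =
      (Module.finrank k (pieceK 𝒜 𝒳 d) : ℕ∞) := by
  letI : Field (deg0 (toAS 𝒜)) := (isField_deg0 𝒜 h0).toField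
  rw [Module.length_eq_rank]
  have hr := rank_eq_of_addEquiv_sub (deg0 (toAS 𝒜)) (mem_deg0_toAS_iff 𝒜 h0)
    (comp (toAS 𝒜) 𝒳' d) (pieceAddEquiv 𝒜 𝒳 𝒳' h2 h d) (fun c v => by
      change c • v.1 = algebraMap k R c • v.1
      rw [algebraMap_smul])
  rw [← hr, ← Module.finrank_eq_rank k (pieceK 𝒜 𝒳 d)]
  exact Cardinal.toENat_nat _

end conv

section fin

variable {k : Type u} [Field k] {R S T : Type u} [CommRing R] [CommRing S] [CommRing T]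
  [Algebra k R] [Algebra k S] [Algebra k T]
  (𝒜 : ℤ → Submodule k R) [GradedAlgebra 𝒜] (ℬ : ℤ → Submodule k S) [GradedAlgebra ℬ]
  (𝒯 : ℤ → Submodule k T) [GradedAlgebra 𝒯] (ψ : T →ₐ[k] R ⊗[k] S)
  {M : Type u} [AddCommGroup M] [Module R M] [Module k M] [IsScalarTower k R M]
  (ℳ : ℤ → AddSubgroup M) [SetLike.GradedSMul 𝒜 ℳ]
  {N : Type u} [AddCommGroup N] [Module S N] [Module k N] [IsScalarTower k S N]
  (𝒩 : ℤ → AddSubgroup N) [SetLike.GradedSMul ℬ 𝒩]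
  {P : Type u} [AddCommGroup P] [Module T P] [Module k P] [IsScalarTower k T P]
  (𝒬 : ℤ → AddSubgroup P) [DirectSum.Decomposition 𝒬] [SetLike.GradedSMul 𝒯 𝒬]
  (φ : P →ₗ[k] M ⊗[k] N) (hP : GrSeg.IsSegreMod ψ ℳ 𝒩 𝒬 φ)

include hP in
/-- a piece of a Segre product of modules with finite dimensional pieces is finite
dimensional. -/
theorem finite_pieceK_segre (d : ℤ) [Module.Finite k (pieceK 𝒜 ℳ d)]
    [Module.Finite k (pieceK ℬ 𝒩 d)] : Module.Finite k (pieceK 𝒯 𝒬 d) := by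
  have hmap : (pieceK 𝒯 𝒬 d).map φ = GrSeg.segrePiece k ℳ 𝒩 d := by
    apply SetLike.coe_injective
    rw [Submodule.map_coe]
    exact hP.image_piece d
  haveI : Module.Finite k ((pieceK 𝒯 𝒬 d).map φ) := by
    rw [hmap, segrePiece_eq_range 𝒜 ℬ ℳ 𝒩 d]
    exact Module.Finite.range _
  exact Module.Finite.equiv (Submodule.equivMapOfInjective φ hP.injective (pieceK 𝒯 𝒬 d)).symm

end fin

section main

set_option maxHeartbeats 4000000 in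
/-- **Goto–Watanabe**: the type of the Segre product of two standard graded Gorenstein rings of
dimension at least two with `a(R) ≥ a(S)`, when it is Cohen–Macaulay, is `dim_k R_{a(R)-a(S)}`. -/
theorem bassNum_segre (k : Type u) [Field k] (R : Type u) [CommRing R] [Algebra k R]
    (𝒜 : ℤ → Submodule k R) [GradedAlgebra 𝒜] (hposR : ∀ n : ℤ, n < 0 → 𝒜 n = ⊥)
    (h0R : 𝒜 0 = Submodule.span k {(1 : R)}) [Algebra.FiniteType k R] (S : Type u) [CommRing S]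
    [Algebra k S] (ℬ : ℤ → Submodule k S) [GradedAlgebra ℬ] (hposS : ∀ n : ℤ, n < 0 → ℬ n = ⊥)
    (h0S : ℬ 0 = Submodule.span k {(1 : S)}) [Algebra.FiniteType k S] (T : Type u) [CommRing T]
    [Algebra k T] (𝒯 : ℤ → Submodule k T) [GradedAlgebra 𝒯] (ψ : T →ₐ[k] TensorProduct k R S)
    (hψ : Function.Injective ψ)
    (hdegT : ∀ n : ℤ, (𝒯 n).map ψ.toLinearMap =
      Submodule.span k {x : TensorProduct k R S | ∃ a ∈ 𝒜 n, ∃ b ∈ ℬ n, x = a ⊗ₜ[k] b})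
    [LocCoh.IsGorensteinRing R] [LocCoh.IsGorensteinRing S] (mR : HomogeneousIdeal 𝒜)
    (hmR : mR.toIdeal = Ideal.span (⋃ n ∈ Set.Ioi (0 : ℤ), (𝒜 n : Set R)))
    (hstdR : Ideal.span (⋃ n ∈ Set.Ioi (0 : ℤ), (𝒜 n : Set R)) =
      Ideal.span ((𝒜 1 : Submodule k R) : Set R))
    (I : GrLC.StarInjRes 𝒜 𝒜) (mS : HomogeneousIdeal ℬ)
    (hmS : mS.toIdeal = Ideal.span (⋃ n ∈ Set.Ioi (0 : ℤ), (ℬ n : Set S)))
    (hstdS : Ideal.span (⋃ n ∈ Set.Ioi (0 : ℤ), (ℬ n : Set S)) =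
      Ideal.span ((ℬ 1 : Submodule k S) : Set S))
    (J : GrLC.StarInjRes ℬ ℬ) (r s : ℕ) (hr : ringKrullDim R = r) (hs : ringKrullDim S = s)
    (h2r : 2 ≤ r) (h2s : 2 ≤ s) (a b : ℤ)
    (ha : GrLC.endDeg (I.Hgr mR r) = ((a : WithTop ℤ) : WithBot (WithTop ℤ)))
    (hb : GrLC.endDeg (J.Hgr mS s) = ((b : WithTop ℤ) : WithBot (WithTop ℤ))) (hab : b ≤ a)
    [LocCoh.IsCohenMacaulayRing T] (mT : HomogeneousIdeal 𝒯) [mT.toIdeal.IsMaximal]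
    (hmT : mT.toIdeal = Ideal.span (⋃ n ∈ Set.Ioi (0 : ℤ), (𝒯 n : Set T))) :
    GrLC.bassNum mT.toIdeal T (r + s - 1) = (Module.finrank k (𝒜 (a - b)) : ℕ∞) := by
  classical
  have hT : GrSeg.IsSegreRing 𝒜 ℬ 𝒯 ψ := ⟨hψ, hdegT⟩
  haveI : Nontrivial R := by
    by_contra h
    rw [not_nontrivial_iff_subsingleton] at h
    rw [ringKrullDim_eq_bot_of_subsingleton] at hr
    exact WithBot.bot_ne_coe hr
  haveI : Nontrivial S := by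
    by_contra h
    rw [not_nontrivial_iff_subsingleton] at h
    rw [ringKrullDim_eq_bot_of_subsingleton] at hs
    exact WithBot.bot_ne_coe hs
  haveI : IsNoetherianRing R := Algebra.FiniteType.isNoetherianRing k R
  haveI : IsNoetherianRing S := Algebra.FiniteType.isNoetherianRing k S
  haveI : Nontrivial T := nontrivial_segre 𝒜 ℬ 𝒯 ψ hT
  haveI : IsNoetherianRing T :=
    Groth.Agent.S18646.result k R 𝒜 hposR h0R S ℬ hposS h0S T 𝒯 ψ hT.1 hT.2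
  have hposT := segre_pos 𝒜 ℬ 𝒯 ψ hT hposR
  have h0T := segre_zero 𝒜 ℬ 𝒯 ψ hT h0R h0S
  have hdimT : ringKrullDim T = ((r + s - 1 : ℕ) : WithBot ℕ∞) :=
    Groth.Agent.S18647.result k R 𝒜 hposR h0R S ℬ hposS h0S T 𝒯 ψ hψ hdegT r s hr hs
      (by omega) (by omega)
  have hgA := gradedSMul_modToAS 𝒜 𝒜
  have hgB := gradedSMul_modToAS ℬ ℬ
  have hgT := gradedSMul_modToAS 𝒯 𝒯
  -- the top local cohomology of `R` and of `S`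
  obtain ⟨aR, hendR, GR, dimR, finR⟩ := exists_isGorTop' R (toAS 𝒜) (hposAS 𝒜 hposR)
    (isField_deg0 𝒜 h0R) (idealTo 𝒜 mR) (isStarLocal 𝒜 hposR h0R mR hmR) (hmAS 𝒜 mR hmR) r
    (height_eq 𝒜 hposR h0R mR hmR r hr) (resTo 𝒜 𝒜 I)
  obtain ⟨aS, hendS, GS, dimS, finS⟩ := exists_isGorTop' S (toAS ℬ) (hposAS ℬ hposS)
    (isField_deg0 ℬ h0S) (idealTo ℬ mS) (isStarLocal ℬ hposS h0S mS hmS) (hmAS ℬ mS hmS) s
    (height_eq ℬ hposS h0S mS hmS s hs) (resTo ℬ ℬ J)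
  have haR : aR = a := by
    have h1 : endDeg (I.Hgr mR r) = ((aR : WithTop ℤ) : WithBot (WithTop ℤ)) := hendR
    rw [h1] at ha
    exact_mod_cast ha
  have haS : aS = b := by
    have h1 : endDeg (J.Hgr mS s) = ((aS : WithTop ℤ) : WithBot (WithTop ℤ)) := hendS
    rw [h1] at hb
    exact_mod_cast hb
  subst haR
  subst haS
  obtain ⟨a₁, rfl⟩ : ∃ a₁, r = a₁ + 2 := ⟨r - 2, by omega⟩
  obtain ⟨b₁, rfl⟩ : ∃ b₁, s = b₁ + 2 := ⟨s - 2, by omega⟩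
  have hn : a₁ + 2 + (b₁ + 2) - 1 = a₁ + b₁ + 1 + 2 := by omega
  rw [hn] at hdimT ⊢
  -- a minimal resolution of `T`
  obtain ⟨F, hmin0, hmin⟩ := Groth.Agent.Lib.Helper20.GrMinRes.exists_minimal (toAS 𝒯) (toAS 𝒯)
  obtain ⟨IT, hIT⟩ : ∃ IT : StarInjRes 𝒯 𝒯, IT = resOf 𝒯 𝒯 F := ⟨_, rfl⟩
  -- the module structures over `k`
  letI : Module k ((resModTo 𝒜 𝒜 I).H mR (a₁ + 2)) := Module.compHom _ (algebraMap k R)
  haveI : IsScalarTower k R ((resModTo 𝒜 𝒜 I).H mR (a₁ + 2)) :=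
    IsScalarTower.of_algebraMap_smul (fun c x => rfl)
  letI : Module k ((resModTo ℬ ℬ J).H mS (b₁ + 2)) := Module.compHom _ (algebraMap k S)
  haveI : IsScalarTower k S ((resModTo ℬ ℬ J).H mS (b₁ + 2)) :=
    IsScalarTower.of_algebraMap_smul (fun c x => rfl)
  letI : Module k ((resModTo 𝒯 𝒯 IT).H mT (a₁ + b₁ + 1 + 2)) :=
    Module.compHom _ (algebraMap k T)
  haveI : IsScalarTower k T ((resModTo 𝒯 𝒯 IT).H mT (a₁ + b₁ + 1 + 2)) :=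
    IsScalarTower.of_algebraMap_smul (fun c x => rfl)
  letI : DirectSum.Decomposition ((resModTo 𝒯 𝒯 IT).Hgr mT (a₁ + b₁ + 1 + 2)) :=
    Groth.Agent.Lib.Helper20.GrLES2.decH (resTo 𝒯 𝒯 IT) (idealTo 𝒯 mT) (a₁ + b₁ + 1 + 2)
  haveI := gradedSMul_Hgr 𝒜 (toAS 𝒜) (resModTo 𝒜 𝒜 I) mR (a₁ + 2)
  haveI := gradedSMul_Hgr ℬ (toAS ℬ) (resModTo ℬ ℬ J) mS (b₁ + 2)
  haveI := gradedSMul_Hgr 𝒯 (toAS 𝒯) (resModTo 𝒯 𝒯 IT) mT (a₁ + b₁ + 1 + 2)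
  have hvM : ∀ i, a₁ + 2 < i → Subsingleton ((resModTo 𝒜 𝒜 I).H mR i) := fun i hi =>
    subsingleton_H_of_Hcomp_eq_bot 𝒜 mR (toAS 𝒜) (resModTo 𝒜 𝒜 I) i
      (fun d => Hcomp_eq_bot_of_gt 𝒜 hposR h0R mR hmR (toAS 𝒜) (resModTo 𝒜 𝒜 I) (a₁ + 2) hr i hi d)
  have hvN : ∀ i, b₁ + 2 < i → Subsingleton ((resModTo ℬ ℬ J).H mS i) := fun i hi =>
    subsingleton_H_of_Hcomp_eq_bot ℬ mS (toAS ℬ) (resModTo ℬ ℬ J) i
      (fun d => Hcomp_eq_bot_of_gt ℬ hposS h0S mS hmS (toAS ℬ) (resModTo ℬ ℬ J) (b₁ + 2) hs i hi d)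
  obtain ⟨φ', hφ'⟩ := exists_isSegreMod_H_top k R 𝒜 hposR h0R S ℬ hposS h0S T 𝒯 ψ hT mR hmR mS
    hmS mT hmT R (toAS 𝒜) (resModTo 𝒜 𝒜 I) S (toAS ℬ) (resModTo ℬ ℬ J) T (toAS 𝒯)
    ψ.toLinearMap (isSegreMod_self 𝒜 ℬ 𝒯 ψ hT) (resModTo 𝒯 𝒯 IT) a₁ b₁ (a₁ + b₁ + 1) (by omega)
    hvM hvN
  -- the pieces
  have GX : IsGorTop (toAS 𝒜) ((resModTo 𝒜 𝒜 I).Hgr mR (a₁ + 2)) aR :=
    GR.of_iff (fun _ _ => Iff.rfl) (fun _ _ => Iff.rfl)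
  have GY : IsGorTop (toAS ℬ) ((resModTo ℬ ℬ J).Hgr mS (b₁ + 2)) aS :=
    GS.of_iff (fun _ _ => Iff.rfl) (fun _ _ => Iff.rfl)
  have hmem := mem_tor_iff_segre 𝒜 ℬ 𝒯 ψ hT ((resModTo 𝒜 𝒜 I).Hgr mR (a₁ + 2))
    ((resModTo ℬ ℬ J).Hgr mS (b₁ + 2)) ((resModTo 𝒯 𝒯 IT).Hgr mT (a₁ + b₁ + 1 + 2)) φ' hφ' mT hmT
    aS (fun j hj => GX.exists_one_smul_ne_zero 𝒜 hstdR _ aR j (by omega))
    (fun j hj => GY.exists_one_smul_ne_zero ℬ hstdS _ aS j hj) GY.top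
  -- finiteness and dimensions
  haveI hfX : Module.Finite k (pieceK 𝒜 ((resModTo 𝒜 𝒜 I).Hgr mR (a₁ + 2)) aS) := by
    have h1 := finR (aR - aS)
    rw [sub_sub_cancel] at h1
    exact finite_pieceK 𝒜 h0R ((resModTo 𝒜 𝒜 I).Hgr mR (a₁ + 2))
      ((resTo 𝒜 𝒜 I).Hgr (idealTo 𝒜 mR) (a₁ + 2))
      (Groth.Agent.Lib.Helper20.GrLES2.gsmulH (resTo 𝒜 𝒜 I) (idealTo 𝒜 mR) (a₁ + 2))
      (fun _ _ => Iff.rfl) aS h1
  haveI hfY : Module.Finite k (pieceK ℬ ((resModTo ℬ ℬ J).Hgr mS (b₁ + 2)) aS) := by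
    have h1 := finS 0
    rw [sub_zero] at h1
    exact finite_pieceK ℬ h0S ((resModTo ℬ ℬ J).Hgr mS (b₁ + 2))
      ((resTo ℬ ℬ J).Hgr (idealTo ℬ mS) (b₁ + 2))
      (Groth.Agent.Lib.Helper20.GrLES2.gsmulH (resTo ℬ ℬ J) (idealTo ℬ mS) (b₁ + 2))
      (fun _ _ => Iff.rfl) aS h1
  haveI hfP : Module.Finite k
      (pieceK 𝒯 ((resModTo 𝒯 𝒯 IT).Hgr mT (a₁ + b₁ + 1 + 2)) aS) :=
    finite_pieceK_segre 𝒜 ℬ 𝒯 ψ ((resModTo 𝒜 𝒜 I).Hgr mR (a₁ + 2))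
      ((resModTo ℬ ℬ J).Hgr mS (b₁ + 2)) ((resModTo 𝒯 𝒯 IT).Hgr mT (a₁ + b₁ + 1 + 2)) φ' hφ' aS
  have hdX : Module.finrank k (pieceK 𝒜 ((resModTo 𝒜 𝒜 I).Hgr mR (a₁ + 2)) aS) =
      Module.finrank k (𝒜 (aR - aS)) := by
    have h1 := dimR (aR - aS)
    rw [sub_sub_cancel] at h1
    exact (finrank_comp_eq_pieceK 𝒜 h0R ((resModTo 𝒜 𝒜 I).Hgr mR (a₁ + 2))
      ((resTo 𝒜 𝒜 I).Hgr (idealTo 𝒜 mR) (a₁ + 2))
      (Groth.Agent.Lib.Helper20.GrLES2.gsmulH (resTo 𝒜 𝒜 I) (idealTo 𝒜 mR) (a₁ + 2))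
      (fun _ _ => Iff.rfl) aS).symm.trans (h1.trans (finrank_comp_self' 𝒜 h0R (aR - aS)))
  have hdY : Module.finrank k (pieceK ℬ ((resModTo ℬ ℬ J).Hgr mS (b₁ + 2)) aS) = 1 := by
    have h1 := dimS 0
    rw [sub_zero] at h1
    have h2 : Module.finrank k (ℬ 0) = 1 := by
      rw [h0S]
      exact finrank_span_singleton one_ne_zero
    exact (finrank_comp_eq_pieceK ℬ h0S ((resModTo ℬ ℬ J).Hgr mS (b₁ + 2))
      ((resTo ℬ ℬ J).Hgr (idealTo ℬ mS) (b₁ + 2))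
      (Groth.Agent.Lib.Helper20.GrLES2.gsmulH (resTo ℬ ℬ J) (idealTo ℬ mS) (b₁ + 2))
      (fun _ _ => Iff.rfl) aS).symm.trans (h1.trans ((finrank_comp_self' ℬ h0S 0).trans h2))
  have hdP : Module.finrank k (pieceK 𝒯 ((resModTo 𝒯 𝒯 IT).Hgr mT (a₁ + b₁ + 1 + 2)) aS) =
      Module.finrank k (𝒜 (aR - aS)) := by
    rw [finrank_pieceK_segre 𝒜 ℬ 𝒯 ψ ((resModTo 𝒜 𝒜 I).Hgr mR (a₁ + 2))
      ((resModTo ℬ ℬ J).Hgr mS (b₁ + 2)) ((resModTo 𝒯 𝒯 IT).Hgr mT (a₁ + b₁ + 1 + 2)) φ' hφ' aS,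
      hdX, hdY, mul_one]
  -- vanishing
  have hH : ∀ p, p ≠ a₁ + b₁ + 1 + 2 → Subsingleton (F.H (idealTo 𝒯 mT) p) := by
    intro p hp
    have h1 := subsingleton_H_of_Hcomp_eq_bot 𝒯 mT 𝒯 IT p
      (fun d => Hcomp_eq_bot_of_ne 𝒯 hposT h0T mT hmT IT (a₁ + b₁ + 1 + 2) hdimT p hp d)
    rw [hIT] at h1
    exact h1
  haveI hp' : (idealTo 𝒯 mT).toIdeal.IsPrime := (inferInstance : mT.toIdeal.IsPrime)
  haveI hmax' : (idealTo 𝒯 mT).toIdeal.IsMaximal := (inferInstance : mT.toIdeal.IsMaximal)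
  have hlow := gam_eq_bot_below (toAS 𝒯) F hmin0 hmin (idealTo 𝒯 mT) (a₁ + b₁ + 1 + 2)
    (fun i hi => hH i (ne_of_lt hi))
  have hlo : ∀ k', k' + 1 = a₁ + b₁ + 1 + 2 →
      GrLC.gam (idealTo 𝒯 mT).toIdeal (F.X k').carrier = ⊥ :=
    fun k' hk => hlow k' (by omega)
  have e1 : GrLC.bassNum mT.toIdeal T (a₁ + b₁ + 1 + 2) =
      GrLC.bassNum (idealTo 𝒯 mT).toIdeal (F.X (a₁ + b₁ + 1 + 2)).carrier 0 :=
    (bassNum_X_zero (toAS 𝒯) F hmin0 hmin (idealTo 𝒯 mT).toIdeal (idealTo 𝒯 mT).isHomogeneous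
      (a₁ + b₁ + 1 + 2)).symm
  rw [e1, bassNum_zero_eq_length_tor (idealTo 𝒯 mT).toIdeal (F.X (a₁ + b₁ + 1 + 2)).carrier,
    length_tor_H (toAS 𝒯) (hposAS 𝒯 hposT) (isField_deg0 𝒯 h0T) (idealTo 𝒯 mT) (hmAS 𝒯 mT hmT) F
      hmin0 hmin (a₁ + b₁ + 1 + 2) hlo,
    length_eq_length_deg0 (toAS 𝒯) (hposAS 𝒯 hposT) (isField_deg0 𝒯 h0T) (idealTo 𝒯 mT)
      (hmAS 𝒯 mT hmT) (↥(tor (idealTo 𝒯 mT).toIdeal (F.H (idealTo 𝒯 mT) (a₁ + b₁ + 1 + 2))))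
      (fun r hr x => Subtype.ext (x.2 r hr)),
    ← hdP]
  have hmem' : ∀ x : F.H (idealTo 𝒯 mT) (a₁ + b₁ + 1 + 2),
      x ∈ tor (idealTo 𝒯 mT).toIdeal (F.H (idealTo 𝒯 mT) (a₁ + b₁ + 1 + 2)) ↔
        x ∈ F.Hgr (idealTo 𝒯 mT) (a₁ + b₁ + 1 + 2) aS := by
    intro x
    have h1 := hmem
    rw [hIT] at h1
    exact h1 x
  rw [← length_comp_eq_finrank_pieceK 𝒯 h0T ((resModTo 𝒯 𝒯 IT).Hgr mT (a₁ + b₁ + 1 + 2))
    ((resTo 𝒯 𝒯 IT).Hgr (idealTo 𝒯 mT) (a₁ + b₁ + 1 + 2))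
    (Groth.Agent.Lib.Helper20.GrLES2.gsmulH (resTo 𝒯 𝒯 IT) (idealTo 𝒯 mT) (a₁ + b₁ + 1 + 2))
    (fun _ _ => Iff.rfl) aS]
  let Te : tor (idealTo 𝒯 mT).toIdeal (F.H (idealTo 𝒯 mT) (a₁ + b₁ + 1 + 2)) ≃ₗ[deg0 (toAS 𝒯)]
      comp (toAS 𝒯) (F.Hgr (idealTo 𝒯 mT) (a₁ + b₁ + 1 + 2)) aS :=
    { toFun := fun x => ⟨x.1, (hmem' x.1).1 x.2⟩
      map_add' := fun x y => rfl
      map_smul' := fun r x => rfl
      invFun := fun y => ⟨y.1, (hmem' y.1).2 y.2⟩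
      left_inv := fun x => rfl
      right_inv := fun y => rfl }
  have h3 := Te.length_eq
  rw [h3]
  subst hIT
  rfl

end main

end Groth.Agent.Lib.Helper20.SegGor
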