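import Mathlib
import Groth.Prelude.Def_GrLC
import Groth.Agent.Lib.Helper20.SegCanB
import Groth.Agent.Lib.Helper20.GrDual3
import Groth.Agent.Lib.Helper20.SegGor5

/-!
# From a perfect graded pairing to a canonical module (helper20)

Let `T` be a graded algebra over a field `k` with `T_0 = k`, `E` the `*`injective envelope of its
residue field, `P` a finitely generated graded module and `H` a graded module with a balanced,
graded, non-degenerate pairing `H × P → k`.  Then `Hom_T(P, E) ≅ H`, homogeneously.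
-/

set_option autoImplicit false
set_option linter.unusedSectionVars false
set_option linter.unusedVariables false
set_option linter.style.haveILetI false

universe u

open DirectSum GrLC Groth.Agent.Lib.Helper20.GrConv Groth.Agent.Lib.Helper20.SegBase
  Groth.Agent.Lib.Helper20.GrLCBasic Groth.Agent.Lib.Helper20.SegGr
  Groth.Agent.Lib.Helper20.SegHilb

namespace Groth.Agent.Lib.Helper20.SegCan

section main

variable {k : Type u} [Field k] {T : Type u} [CommRing T] [Nontrivial T] [Algebra k T]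
  [IsNoetherianRing T]
  (𝒯 : ℤ → Submodule k T) [GradedAlgebra 𝒯]
  (hpos : ∀ n : ℤ, n < 0 → 𝒯 n = ⊥) (h0 : 𝒯 0 = Submodule.span k {(1 : T)})
  (m : HomogeneousIdeal 𝒯)
  (hm : m.toIdeal = Ideal.span (⋃ n ∈ Set.Ioi (0 : ℤ), (𝒯 n : Set T)))
  {E : Type u} [AddCommGroup E] [Module T E] [Module k E] [IsScalarTower k T E]
  (𝓔 : ℤ → AddSubgroup E) [DirectSum.Decomposition 𝓔] [SetLike.GradedSMul 𝒯 𝓔]
  (e : (T ⧸ m.toIdeal) →ₗ[T] E) (he : IsStarInjHull 𝒯 (quotGr 𝒯 m) 𝓔 e)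
  {P : Type u} [AddCommGroup P] [Module T P] [Module k P] [IsScalarTower k T P]
  (𝒬 : ℤ → AddSubgroup P) [DirectSum.Decomposition 𝒬] [SetLike.GradedSMul 𝒯 𝒬]
  [Module.Finite T P]
  {H : Type u} [AddCommGroup H] [Module T H] [Module k H] [IsScalarTower k T H]
  (ℋ : ℤ → AddSubgroup H) [DirectSum.Decomposition ℋ] [SetLike.GradedSMul 𝒯 ℋ]
  (B : H →ₗ[k] P →ₗ[k] k)
  (hB1 : ∀ (t : T) (h : H) (p : P), B (t • h) p = B h (t • p))
  (hB2 : ∀ (i j : ℤ) (h : H) (p : P), h ∈ ℋ i → p ∈ 𝒬 j → i + j ≠ 0 → B h p = 0)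
  (hB3 : ∀ (i : ℤ) (h : H), h ∈ ℋ i → h ≠ 0 → ∃ p ∈ 𝒬 (-i), B h p ≠ 0)
  (hB3' : ∀ (j : ℤ) (p : P), p ∈ 𝒬 j → p ≠ 0 → ∃ h ∈ ℋ (-j), B h p ≠ 0)

include h0 in
theorem finite_pieceK_of_finite (j : ℤ) : Module.Finite k (pieceK 𝒯 𝒬 j) := by
  haveI := gradedSMul_toAS 𝒯 𝒬
  haveI : IsNoetherian T P := isNoetherian_of_isNoetherianRing_of_finite T P
  have hN := Groth.Agent.Lib.Helper20.GrFin1.isNoetherian_comp (toAS 𝒯) 𝒬 j
  haveI : Module.Finite (deg0 (toAS 𝒯)) (comp (toAS 𝒯) 𝒬 j) := Module.IsNoetherian.finite _ _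
  exact Groth.Agent.Lib.Helper20.SegGor.finite_pieceK 𝒯 h0 𝒬 𝒬 inferInstance
    (fun _ _ => Iff.rfl) j inferInstance

include hB2 in
theorem B_decompose (h : H) (i : ℤ) (p : P) (hp : p ∈ 𝒬 (-i)) :
    B h p = B ((decompose ℋ h i : ℋ i) : H) p := by
  classical
  conv_lhs => rw [← DirectSum.sum_support_decompose ℋ h]
  rw [map_sum, LinearMap.sum_apply]
  by_cases hi : i ∈ (decompose ℋ h).support
  · rw [Finset.sum_eq_single_of_mem i hi]
    intro j _ hji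
    exact hB2 j (-i) _ p (SetLike.coe_mem _) hp (by omega)
  · rw [DFinsupp.notMem_support_iff] at hi
    rw [hi, ZeroMemClass.coe_zero, map_zero, LinearMap.zero_apply]
    apply Finset.sum_eq_zero
    intro j hj
    have hji : j ≠ i := by
      rintro rfl
      exact (DFinsupp.mem_support_iff.1 hj) hi
    exact hB2 j (-i) _ p (SetLike.coe_mem _) hp (by omega)

include hB2 hB3 in
theorem B_injective (h : H) (hh : ∀ p, B h p = 0) : h = 0 := by
  classical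
  rw [← DirectSum.sum_support_decompose ℋ h]
  apply Finset.sum_eq_zero
  intro i _
  by_contra hne
  obtain ⟨p, hp, hne'⟩ := hB3 i _ (SetLike.coe_mem (decompose ℋ h i)) hne
  apply hne'
  rw [← B_decompose 𝒬 ℋ B hB2 h i p hp]
  exact hh p

include h0 hB3 hB3' in
/-- the pairing between pieces of opposite degrees is perfect. -/
theorem isPerfPair_piece (i j : ℤ) (hij : i + j = 0) :
    (B.domRestrict₁₂ (pieceK 𝒯 ℋ i) (pieceK 𝒯 𝒬 j)).IsPerfPair := by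
  haveI : Module.Finite k (pieceK 𝒯 𝒬 j) := finite_pieceK_of_finite 𝒯 h0 𝒬 j
  have hj : j = -i := by omega
  have hi : i = -j := by omega
  apply LinearMap.IsPerfPair.of_injective'
  · rw [injective_iff_map_eq_zero]
    intro x hx
    by_contra hx0
    obtain ⟨p, hp, hne⟩ := hB3 i x.1 x.2 (fun h => hx0 (Subtype.ext h))
    rw [← hj] at hp
    apply hne
    have := LinearMap.congr_fun hx (⟨p, hp⟩ : pieceK 𝒯 𝒬 j)
    exact this
  · rw [injective_iff_map_eq_zero]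
    intro x hx
    by_contra hx0
    obtain ⟨h, hh, hne⟩ := hB3' j x.1 x.2 (fun h => hx0 (Subtype.ext h))
    rw [← hi] at hh
    apply hne
    have := LinearMap.congr_fun hx (⟨h, hh⟩ : pieceK 𝒯 ℋ i)
    exact this

include h0 hB2 hB3 hB3' in
/-- **representability**: a functional on `P` supported in finitely many degrees is represented by
an element of `H`. -/
theorem exists_rep (lam : P →ₗ[k] k) (F : Finset ℤ)
    (hF : ∀ j, j ∉ F → ∀ p ∈ 𝒬 j, lam p = 0) : ∃ h : H, ∀ p, B h p = lam p := by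
  classical
  have hex : ∀ j : ℤ, ∃ h ∈ ℋ (-j), ∀ p ∈ 𝒬 j, B h p = lam p := by
    intro j
    haveI := isPerfPair_piece 𝒯 h0 𝒬 ℋ B hB3 hB3' (-j) j (neg_add_cancel j)
    obtain ⟨x, hx⟩ := (LinearMap.IsPerfPair.bijective_left
      (B.domRestrict₁₂ (pieceK 𝒯 ℋ (-j)) (pieceK 𝒯 𝒬 j))).2
      (lam.domRestrict (pieceK 𝒯 𝒬 j))
    refine ⟨x.1, x.2, fun p hp => ?_⟩
    have := LinearMap.congr_fun hx (⟨p, hp⟩ : pieceK 𝒯 𝒬 j)
    exact this
  choose hd hd_mem hd_spec using hex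
  refine ⟨∑ j ∈ F, hd j, fun p => ?_⟩
  induction p using DirectSum.Decomposition.inductionOn 𝒬 with
  | zero => rw [map_zero, map_zero]
  | add a b ha hb => rw [map_add, map_add, ha, hb]
  | @homogeneous j p =>
    rw [map_sum, LinearMap.sum_apply]
    by_cases hjF : j ∈ F
    · rw [Finset.sum_eq_single_of_mem j hjF]
      · exact hd_spec j p p.2
      · intro j' _ hj'
        exact hB2 (-j') j _ p (hd_mem j') p.2 (by omega)
    · rw [hF j hjF p p.2]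
      apply Finset.sum_eq_zero
      intro j' hj'
      have : j' ≠ j := by
        rintro rfl
        exact hjF hj'
      exact hB2 (-j') j _ p (hd_mem j') p.2 (by omega)

include h0 hB2 hB3 hB3' in
theorem exists_rep_hom (f : P →ₗ[T] E) :
    ∃ h : H, ∀ p, B h p = tr 𝒯 hpos h0 m hm 𝓔 e he (f p) := by
  classical
  haveI := gradedSMul_toAS 𝒯 𝓔
  haveI := gradedSMul_toAS 𝒯 𝒬
  obtain ⟨D, hD⟩ := Groth.Agent.Lib.Helper20.GrDual.exists_sum_homPart (toAS 𝒯) 𝒬 𝓔 f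
  let lam : P →ₗ[k] k := (tr 𝒯 hpos h0 m hm 𝓔 e he) ∘ₗ (f.restrictScalars k)
  have hlam : ∀ p, lam p = tr 𝒯 hpos h0 m hm 𝓔 e he (f p) := fun p => rfl
  obtain ⟨h, hh⟩ := exists_rep 𝒯 h0 𝒬 ℋ B hB2 hB3 hB3' lam (D.image (fun d => -d)) (by
    intro j hj p hp
    rw [hlam, hD, LinearMap.sum_apply, map_sum]
    apply Finset.sum_eq_zero
    intro d hd
    have h1 := Groth.Agent.Lib.Helper20.GrDual.homPart_mem (toAS 𝒯) 𝒬 𝓔 f d j p hp
    apply tr_of_mem_ne 𝒯 hpos h0 m hm 𝓔 e he _ h1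
    intro h2
    apply hj
    rw [Finset.mem_image]
    exact ⟨d, hd, by omega⟩)
  exact ⟨h, fun p => (hh p).trans (hlam p)⟩

/-- the comparison map, as a function. -/
noncomputable def PhiFun (f : P →ₗ[T] E) : H :=
  Classical.choose (exists_rep_hom 𝒯 hpos h0 m hm 𝓔 e he 𝒬 ℋ B hB2 hB3 hB3' f)

theorem PhiFun_spec (f : P →ₗ[T] E) (p : P) :
    B (PhiFun 𝒯 hpos h0 m hm 𝓔 e he 𝒬 ℋ B hB2 hB3 hB3' f) p =
      tr 𝒯 hpos h0 m hm 𝓔 e he (f p) :=
  Classical.choose_spec (exists_rep_hom 𝒯 hpos h0 m hm 𝓔 e he 𝒬 ℋ B hB2 hB3 hB3' f) p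

include hB1 in
/-- **the comparison map `Hom_T(P, E) → H`.** -/
noncomputable def Phi : (P →ₗ[T] E) →ₗ[T] H where
  toFun := PhiFun 𝒯 hpos h0 m hm 𝓔 e he 𝒬 ℋ B hB2 hB3 hB3'
  map_add' f g := by
    rw [← sub_eq_zero]
    apply B_injective 𝒬 ℋ B hB2 hB3
    intro p
    rw [map_sub, map_add, LinearMap.sub_apply, LinearMap.add_apply, PhiFun_spec, PhiFun_spec,
      PhiFun_spec, LinearMap.add_apply, map_add, sub_self]
  map_smul' t f := by
    rw [← sub_eq_zero]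
    apply B_injective 𝒬 ℋ B hB2 hB3
    intro p
    rw [map_sub, LinearMap.sub_apply, RingHom.id_apply, hB1, PhiFun_spec, PhiFun_spec,
      LinearMap.smul_apply, LinearMap.map_smul, sub_self]

theorem Phi_spec (f : P →ₗ[T] E) (p : P) :
    B (Phi 𝒯 hpos h0 m hm 𝓔 e he 𝒬 ℋ B hB1 hB2 hB3 hB3' f) p =
      tr 𝒯 hpos h0 m hm 𝓔 e he (f p) :=
  PhiFun_spec 𝒯 hpos h0 m hm 𝓔 e he 𝒬 ℋ B hB2 hB3 hB3' f p

include hB1 in
theorem Phi_injective :
    Function.Injective (Phi 𝒯 hpos h0 m hm 𝓔 e he 𝒬 ℋ B hB1 hB2 hB3 hB3') := by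
  rw [injective_iff_map_eq_zero]
  intro f hf
  apply LinearMap.ext
  intro p
  rw [LinearMap.zero_apply]
  apply eq_zero_of_forall_tr_smul 𝒯 hpos h0 m hm 𝓔 e he
  intro r
  rw [← LinearMap.map_smul, ← Phi_spec 𝒯 hpos h0 m hm 𝓔 e he 𝒬 ℋ B hB1 hB2 hB3 hB3', hf, map_zero,
    LinearMap.zero_apply]

include hB1 in
/-- the comparison map is homogeneous. -/
theorem Phi_mem {d : ℤ} {f : P →ₗ[T] E} (hf : IsGrHomDeg 𝒬 𝓔 f d) :
    Phi 𝒯 hpos h0 m hm 𝓔 e he 𝒬 ℋ B hB1 hB2 hB3 hB3' f ∈ ℋ d := by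
  classical
  set h := Phi 𝒯 hpos h0 m hm 𝓔 e he 𝒬 ℋ B hB1 hB2 hB3 hB3' f with hh
  have hz : ∀ i, i ≠ d → ((decompose ℋ h i : ℋ i) : H) = 0 := by
    intro i hid
    by_contra hne
    obtain ⟨p, hp, hne'⟩ := hB3 i _ (SetLike.coe_mem (decompose ℋ h i)) hne
    apply hne'
    rw [← B_decompose 𝒬 ℋ B hB2 h i p hp, hh, Phi_spec]
    exact tr_of_mem_ne 𝒯 hpos h0 m hm 𝓔 e he (by omega) (hf (-i) p hp)
  have h1 : h = ((decompose ℋ h d : ℋ d) : H) := by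
    conv_lhs => rw [← DirectSum.sum_support_decompose ℋ h]
    by_cases hd : d ∈ (decompose ℋ h).support
    · rw [Finset.sum_eq_single_of_mem d hd]
      intro i _ hid
      exact hz i hid
    · rw [DFinsupp.notMem_support_iff] at hd
      rw [hd, ZeroMemClass.coe_zero]
      apply Finset.sum_eq_zero
      intro i hi
      apply hz
      rintro rfl
      exact (DFinsupp.mem_support_iff.1 hi) hd
  rw [h1]
  exact SetLike.coe_mem _

include hB1 in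
set_option maxHeartbeats 800000 in
theorem Phi_surjective :
    Function.Surjective (Phi 𝒯 hpos h0 m hm 𝓔 e he 𝒬 ℋ B hB1 hB2 hB3 hB3') := by
  classical
  haveI := gradedSMul_toAS 𝒯 𝓔
  haveI := gradedSMul_toAS 𝒯 𝒬
  intro h
  induction h using DirectSum.Decomposition.inductionOn ℋ with
  | zero => exact ⟨0, map_zero _⟩
  | add a b ha hb =>
    obtain ⟨f, hf⟩ := ha
    obtain ⟨g, hg⟩ := hb
    exact ⟨f + g, by rw [map_add, hf, hg]⟩
  | @homogeneous d h₀ =>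
    by_contra hcon
    -- the subspace of `H_d` reached by homogeneous maps of degree `d`
    let W : Submodule k (pieceK 𝒯 ℋ d) :=
      { carrier := {x | ∃ f : P →ₗ[T] E, IsGrHomDeg 𝒬 𝓔 f d ∧
          Phi 𝒯 hpos h0 m hm 𝓔 e he 𝒬 ℋ B hB1 hB2 hB3 hB3' f = x.1}
        add_mem' := by
          rintro x y ⟨f, hf, hfx⟩ ⟨g, hg, hgy⟩
          refine ⟨f + g, fun i p hp => ?_, ?_⟩
          · rw [LinearMap.add_apply]
            exact add_mem (hf i p hp) (hg i p hp)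
          · rw [map_add, hfx, hgy]
            rfl
        zero_mem' := ⟨0, fun i p hp => by rw [LinearMap.zero_apply]; exact zero_mem _, by
          rw [map_zero]; rfl⟩
        smul_mem' := by
          rintro c x ⟨f, hf, hfx⟩
          refine ⟨algebraMap k T c • f, fun i p hp => ?_, ?_⟩
          · rw [LinearMap.smul_apply, algebraMap_smul]
            exact smul_mem_piece 𝒯 𝓔 _ c _ (hf i p hp)
          · rw [LinearMap.map_smul, hfx, algebraMap_smul]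
            rfl }
    have hnot : (⟨h₀.1, h₀.2⟩ : pieceK 𝒯 ℋ d) ∉ W := by
      rintro ⟨f, -, hf⟩
      exact hcon ⟨f, hf⟩
    obtain ⟨ζ, hζ, hζW⟩ := Submodule.exists_dual_map_eq_bot_of_notMem hnot inferInstance
    haveI := isPerfPair_piece 𝒯 h0 𝒬 ℋ B hB3 hB3' d (-d) (add_neg_cancel d)
    obtain ⟨p, hp⟩ := (LinearMap.IsPerfPair.bijective_right
      (B.domRestrict₁₂ (pieceK 𝒯 ℋ d) (pieceK 𝒯 𝒬 (-d)))).2 ζ
    have hp' : ∀ x : pieceK 𝒯 ℋ d, B x.1 p.1 = ζ x := fun x => LinearMap.congr_fun hp x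
    have hp0 : (p : P) ≠ 0 := by
      intro h1
      apply hζ
      rw [← hp', h1, map_zero]
    obtain ⟨f, hf, hfp⟩ := Groth.Agent.Lib.Helper20.GrDual.exists_hom_ne_zero (toAS 𝒯)
      (hposAS 𝒯 hpos) (isField_deg0 𝒯 h0) (idealTo 𝒯 m) (hmAS 𝒯 m hm) 𝓔 e
      (isStarInjHull_toAS 𝒯 𝓔 m e he) 𝒬 (show (p : P) ∈ 𝒬 (-d) from p.2) hp0
    rw [neg_neg] at hf
    have hf' : IsGrHomDeg 𝒬 𝓔 f d := hf
    have hmem := Phi_mem 𝒯 hpos h0 m hm 𝓔 e he 𝒬 ℋ B hB1 hB2 hB3 hB3' hf'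
    have hW : (⟨_, hmem⟩ : pieceK 𝒯 ℋ d) ∈ W := ⟨f, hf', rfl⟩
    have h2 : ζ (⟨_, hmem⟩ : pieceK 𝒯 ℋ d) = 0 := by
      have : ζ (⟨_, hmem⟩ : pieceK 𝒯 ℋ d) ∈ W.map ζ := ⟨_, hW, rfl⟩
      rw [hζW] at this
      exact (Submodule.mem_bot k).1 this
    rw [← hp', Phi_spec] at h2
    have h3 : f p.1 ∈ 𝓔 (-d + d) := hf' (-d) p.1 p.2
    rw [neg_add_cancel] at h3
    exact hfp (eq_zero_of_tr_eq_zero 𝒯 hpos h0 m hm 𝓔 e he h3 h2)

include hpos h0 hm he hB1 hB2 hB3 hB3' in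
/-- **a perfect graded pairing `H × P → k` identifies `Hom_T(P, E)` with `H`.** -/
theorem exists_equiv_of_pairing :
    ∃ Φ : (P →ₗ[T] E) ≃ₗ[T] H,
      IsGrHom (fun d => (homDeg 𝒯 𝒬 𝓔 d).toAddSubgroup) ℋ Φ.toLinearMap :=
  ⟨LinearEquiv.ofBijective (Phi 𝒯 hpos h0 m hm 𝓔 e he 𝒬 ℋ B hB1 hB2 hB3 hB3')
    ⟨Phi_injective 𝒯 hpos h0 m hm 𝓔 e he 𝒬 ℋ B hB1 hB2 hB3 hB3',
      Phi_surjective 𝒯 hpos h0 m hm 𝓔 e he 𝒬 ℋ B hB1 hB2 hB3 hB3'⟩,
    fun d f hf => Phi_mem 𝒯 hpos h0 m hm 𝓔 e he 𝒬 ℋ B hB1 hB2 hB3 hB3' hf⟩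

end main

end Groth.Agent.Lib.Helper20.SegCan
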