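import Mathlib
import Groth.Prelude.Def_GrLC
import Groth.Prelude.Def_GrSeg
import Groth.Agent.Lib.Helper20.SegCanA
import Groth.Agent.Lib.Helper20.SegCanC
import Groth.Agent.Lib.Helper20.SegCanD
import Groth.Agent.Lib.Helper20.SegCanE

/-!
# The canonical module of a Segre product: the duality isomorphism (helper20)
-/

set_option autoImplicit false
set_option linter.unusedSectionVars false
set_option linter.unusedVariables false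
set_option linter.style.haveILetI false

universe u

open TensorProduct DirectSum GrLC Groth.Agent.Lib.Helper20.GrConv Groth.Agent.Lib.Helper20.SegBase
  Groth.Agent.Lib.Helper20.GrLCBasic Groth.Agent.Lib.Helper20.SegGr
  Groth.Agent.Lib.Helper20.SegHilb Groth.Agent.Lib.Helper20.SegTP

namespace Groth.Agent.Lib.Helper20.SegCan

attribute [local instance] actModule

section bal

variable {k : Type u} [Field k] {R S : Type u} [CommRing R] [CommRing S] [Algebra k R]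
  [Algebra k S]
  {X₁ : Type u} [AddCommGroup X₁] [Module R X₁] [Module k X₁] [IsScalarTower k R X₁]
  {Y₁ : Type u} [AddCommGroup Y₁] [Module R Y₁] [Module k Y₁] [IsScalarTower k R Y₁]
  {X₂ : Type u} [AddCommGroup X₂] [Module S X₂] [Module k X₂] [IsScalarTower k S X₂]
  {Y₂ : Type u} [AddCommGroup Y₂] [Module S Y₂] [Module k Y₂] [IsScalarTower k S Y₂]
  (β₁ : X₁ →ₗ[k] Y₁ →ₗ[k] k) (β₂ : X₂ →ₗ[k] Y₂ →ₗ[k] k)
  (hβ₁ : ∀ (a : R) x y, β₁ (a • x) y = β₁ x (a • y))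
  (hβ₂ : ∀ (b : S) x y, β₂ (b • x) y = β₂ x (b • y))

include hβ₁ hβ₂ in
/-- the tensor product of balanced pairings is balanced. -/
theorem tpair_balanced (z : R ⊗[k] S) (ω : X₁ ⊗[k] X₂) (ξ : Y₁ ⊗[k] Y₂) :
    tpair β₁ β₂ (z • ω) ξ = tpair β₁ β₂ ω (z • ξ) := by
  induction z using TensorProduct.induction_on with
  | zero => rw [zero_smul, zero_smul, map_zero, map_zero, LinearMap.zero_apply]
  | add z z' hz hz' => rw [add_smul, add_smul, map_add, map_add, LinearMap.add_apply, hz, hz']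
  | tmul a b =>
    induction ω using TensorProduct.induction_on with
    | zero => rw [smul_zero, map_zero, LinearMap.zero_apply, LinearMap.zero_apply]
    | add ω ω' hω hω' => rw [smul_add, map_add, map_add, LinearMap.add_apply, hω, hω',
        LinearMap.add_apply]
    | tmul x₁ x₂ =>
      induction ξ using TensorProduct.induction_on with
      | zero => rw [smul_zero, map_zero, map_zero]
      | add ξ ξ' hξ hξ' => rw [smul_add, map_add, map_add, hξ, hξ']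
      | tmul y₁ y₂ =>
        rw [tmul_smul_tmul, tmul_smul_tmul, tpair_tmul, tpair_tmul, hβ₁, hβ₂]

omit [Algebra k R] [Algebra k S] [Module R X₁] [IsScalarTower k R X₁] [Module R Y₁]
  [IsScalarTower k R Y₁] [Module S X₂] [IsScalarTower k S X₂] [Module S Y₂]
  [IsScalarTower k S Y₂] in
/-- vanishing of the tensor pairing on spans. -/
theorem tpair_eq_zero_of_mem (A₁ : Set X₁) (A₂ : Set X₂) (B₁ : Set Y₁) (B₂ : Set Y₂)
    (h : ∀ x ∈ A₁, ∀ y ∈ B₁, β₁ x y = 0) (ω : X₁ ⊗[k] X₂)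
    (hω : ω ∈ Submodule.span k {w : X₁ ⊗[k] X₂ | ∃ x ∈ A₁, ∃ x' ∈ A₂, w = x ⊗ₜ[k] x'})
    (ξ : Y₁ ⊗[k] Y₂)
    (hξ : ξ ∈ Submodule.span k {w : Y₁ ⊗[k] Y₂ | ∃ y ∈ B₁, ∃ y' ∈ B₂, w = y ⊗ₜ[k] y'}) :
    tpair β₁ β₂ ω ξ = 0 := by
  induction hω using Submodule.span_induction with
  | mem w hw =>
    obtain ⟨x, hx, x', hx', rfl⟩ := hw
    induction hξ using Submodule.span_induction with
    | mem v hv =>
      obtain ⟨y, hy, y', hy', rfl⟩ := hv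
      rw [tpair_tmul, h x hx y hy, zero_mul]
    | zero => rw [map_zero]
    | add a b _ _ ha hb => rw [map_add, ha, hb, add_zero]
    | smul c a _ ha => rw [map_smul, ha, smul_zero]
  | zero => rw [map_zero, LinearMap.zero_apply]
  | add a b _ _ ha hb => rw [map_add, LinearMap.add_apply, ha, hb, add_zero]
  | smul c a _ ha => rw [map_smul, LinearMap.smul_apply, ha, smul_zero]

end bal

section finH

variable {k : Type u} [Field k] {R : Type u} [CommRing R] [Nontrivial R] [Algebra k R]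
  [IsNoetherianRing R]
  (𝒜 : ℤ → Submodule k R) [GradedAlgebra 𝒜]
  (hpos : ∀ n : ℤ, n < 0 → 𝒜 n = ⊥) (h0 : 𝒜 0 = Submodule.span k {(1 : R)})
  (m : HomogeneousIdeal 𝒜)
  (hm : m.toIdeal = Ideal.span (⋃ n ∈ Set.Ioi (0 : ℤ), (𝒜 n : Set R)))
  {E : Type u} [AddCommGroup E] [Module R E] [Module k E] [IsScalarTower k R E]
  (𝓔 : ℤ → AddSubgroup E) [DirectSum.Decomposition 𝓔] [SetLike.GradedSMul 𝒜 𝓔]
  (e : (R ⧸ m.toIdeal) →ₗ[R] E) (he : IsStarInjHull 𝒜 (quotGr 𝒜 m) 𝓔 e)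
  {C : Type u} [AddCommGroup C] [Module R C] [Module k C] [IsScalarTower k R C]
  (𝒞 : ℤ → AddSubgroup C) [DirectSum.Decomposition 𝒞] [SetLike.GradedSMul 𝒜 𝒞]
  [Module.Finite R C]
  {H : Type u} [AddCommGroup H] [Module R H] [Module k H] [IsScalarTower k R H]
  (ℋ : ℤ → AddSubgroup H) [DirectSum.Decomposition ℋ] [SetLike.GradedSMul 𝒜 ℋ]
  (Φ : (C →ₗ[R] E) ≃ₗ[R] H)
  (hΦ : IsGrHom (fun d => (homDeg 𝒜 𝒞 𝓔 d).toAddSubgroup) ℋ Φ.toLinearMap)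

include hpos h0 hm he hΦ in
/-- the pieces of the top local cohomology are finite dimensional. -/
theorem finite_pieceK_H (i : ℤ) : Module.Finite k (pieceK 𝒜 ℋ i) := by
  haveI : Module.Finite k (pieceK 𝒜 𝒞 (-i)) := finite_pieceK_of_finite 𝒜 h0 𝒞 (-i)
  let b : pieceK 𝒜 ℋ i →ₗ[k] Module.Dual k (pieceK 𝒜 𝒞 (-i)) :=
    (beta 𝒜 hpos h0 m hm 𝓔 e he Φ).domRestrict₁₂ (pieceK 𝒜 ℋ i) (pieceK 𝒜 𝒞 (-i))
  have hb : Function.Injective b := by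
    rw [injective_iff_map_eq_zero]
    intro x hx
    by_contra hx0
    obtain ⟨c, hc, hne⟩ := exists_beta_ne_zero 𝒜 hpos h0 m hm 𝓔 e he 𝒞 ℋ Φ hΦ x.2
      (fun h => hx0 (Subtype.ext h))
    apply hne
    have := LinearMap.congr_fun hx (⟨c, hc⟩ : pieceK 𝒜 𝒞 (-i))
    exact this
  exact Module.Finite.of_injective b hb

end finH

section segre

variable {k : Type u} [Field k] {R S T : Type u} [CommRing R] [CommRing S] [CommRing T]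
  [Nontrivial R] [Nontrivial S] [Nontrivial T]
  [Algebra k R] [Algebra k S] [Algebra k T]
  [IsNoetherianRing R] [IsNoetherianRing S] [IsNoetherianRing T]
  (𝒜 : ℤ → Submodule k R) [GradedAlgebra 𝒜] (ℬ : ℤ → Submodule k S) [GradedAlgebra ℬ]
  (𝒯 : ℤ → Submodule k T) [GradedAlgebra 𝒯] (ψ : T →ₐ[k] R ⊗[k] S)
  (hposR : ∀ n : ℤ, n < 0 → 𝒜 n = ⊥) (h0R : 𝒜 0 = Submodule.span k {(1 : R)})
  (mR : HomogeneousIdeal 𝒜)
  (hmR : mR.toIdeal = Ideal.span (⋃ n ∈ Set.Ioi (0 : ℤ), (𝒜 n : Set R)))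
  (hposS : ∀ n : ℤ, n < 0 → ℬ n = ⊥) (h0S : ℬ 0 = Submodule.span k {(1 : S)})
  (mS : HomogeneousIdeal ℬ)
  (hmS : mS.toIdeal = Ideal.span (⋃ n ∈ Set.Ioi (0 : ℤ), (ℬ n : Set S)))
  (hposT : ∀ n : ℤ, n < 0 → 𝒯 n = ⊥) (h0T : 𝒯 0 = Submodule.span k {(1 : T)})
  (mT : HomogeneousIdeal 𝒯)
  (hmT : mT.toIdeal = Ideal.span (⋃ n ∈ Set.Ioi (0 : ℤ), (𝒯 n : Set T)))
  {ER : Type u} [AddCommGroup ER] [Module R ER] [Module k ER] [IsScalarTower k R ER]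
  (𝓔R : ℤ → AddSubgroup ER) [DirectSum.Decomposition 𝓔R] [SetLike.GradedSMul 𝒜 𝓔R]
  (eR : (R ⧸ mR.toIdeal) →ₗ[R] ER) (heR : IsStarInjHull 𝒜 (quotGr 𝒜 mR) 𝓔R eR)
  {ES : Type u} [AddCommGroup ES] [Module S ES] [Module k ES] [IsScalarTower k S ES]
  (𝓔S : ℤ → AddSubgroup ES) [DirectSum.Decomposition 𝓔S] [SetLike.GradedSMul ℬ 𝓔S]
  (eS : (S ⧸ mS.toIdeal) →ₗ[S] ES) (heS : IsStarInjHull ℬ (quotGr ℬ mS) 𝓔S eS)
  {ET : Type u} [AddCommGroup ET] [Module T ET] [Module k ET] [IsScalarTower k T ET]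
  (𝓔T : ℤ → AddSubgroup ET) [DirectSum.Decomposition 𝓔T] [SetLike.GradedSMul 𝒯 𝓔T]
  (eT : (T ⧸ mT.toIdeal) →ₗ[T] ET) (heT : IsStarInjHull 𝒯 (quotGr 𝒯 mT) 𝓔T eT)
  {CR : Type u} [AddCommGroup CR] [Module R CR] [Module k CR] [IsScalarTower k R CR]
  (𝒞R : ℤ → AddSubgroup CR) [DirectSum.Decomposition 𝒞R] [SetLike.GradedSMul 𝒜 𝒞R]
  [Module.Finite R CR]
  {CS : Type u} [AddCommGroup CS] [Module S CS] [Module k CS] [IsScalarTower k S CS]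
  (𝒞S : ℤ → AddSubgroup CS) [DirectSum.Decomposition 𝒞S] [SetLike.GradedSMul ℬ 𝒞S]
  [Module.Finite S CS]
  {HR : Type u} [AddCommGroup HR] [Module R HR] [Module k HR] [IsScalarTower k R HR]
  (ℋR : ℤ → AddSubgroup HR) [DirectSum.Decomposition ℋR] [SetLike.GradedSMul 𝒜 ℋR]
  (ΦR : (CR →ₗ[R] ER) ≃ₗ[R] HR)
  (hΦR : IsGrHom (fun d => (homDeg 𝒜 𝒞R 𝓔R d).toAddSubgroup) ℋR ΦR.toLinearMap)
  {HS : Type u} [AddCommGroup HS] [Module S HS] [Module k HS] [IsScalarTower k S HS]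
  (ℋS : ℤ → AddSubgroup HS) [DirectSum.Decomposition ℋS] [SetLike.GradedSMul ℬ ℋS]
  (ΦS : (CS →ₗ[S] ES) ≃ₗ[S] HS)
  (hΦS : IsGrHom (fun d => (homDeg ℬ 𝒞S 𝓔S d).toAddSubgroup) ℋS ΦS.toLinearMap)
  {P : Type u} [AddCommGroup P] [Module T P] [Module k P] [IsScalarTower k T P]
  (𝒬 : ℤ → AddSubgroup P) [DirectSum.Decomposition 𝒬] [SetLike.GradedSMul 𝒯 𝒬]
  [Module.Finite T P]
  (φ : P →ₗ[k] CR ⊗[k] CS) (hP : GrSeg.IsSegreMod ψ 𝒞R 𝒞S 𝒬 φ)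
  {HT : Type u} [AddCommGroup HT] [Module T HT] [Module k HT] [IsScalarTower k T HT]
  (ℋT : ℤ → AddSubgroup HT) [DirectSum.Decomposition ℋT] [SetLike.GradedSMul 𝒯 ℋT]
  (φ' : HT →ₗ[k] HR ⊗[k] HS) (hH : GrSeg.IsSegreMod ψ ℋR ℋS ℋT φ')

include hposR h0R hmR hposS h0S hmS hposT h0T hmT heR heS heT hΦR hΦS hP hH in
set_option maxHeartbeats 1600000 in
/-- **the Segre product of canonical modules is dual to the Segre product of the top local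
cohomology modules.** -/
theorem exists_equiv_segre :
    ∃ Φ : (P →ₗ[T] ET) ≃ₗ[T] HT,
      IsGrHom (fun d => (homDeg 𝒯 𝒬 𝓔T d).toAddSubgroup) ℋT Φ.toLinearMap := by
  classical
  let βR := beta 𝒜 hposR h0R mR hmR 𝓔R eR heR ΦR
  let βS := beta ℬ hposS h0S mS hmS 𝓔S eS heS ΦS
  let B : HT →ₗ[k] P →ₗ[k] k := (tpair βR βS).compl₁₂ φ' φ
  have hBdef : ∀ h p, B h p = tpair βR βS (φ' h) (φ p) := fun h p => rfl
  have hφ'mem : ∀ i h, h ∈ ℋT i → φ' h ∈ GrSeg.segrePiece k ℋR ℋS i := by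
    intro i h hh
    have : φ' h ∈ (GrSeg.segrePiece k ℋR ℋS i : Set (HR ⊗[k] HS)) := by
      rw [← hH.image_piece i]
      exact ⟨h, hh, rfl⟩
    exact this
  have hφmem : ∀ j p, p ∈ 𝒬 j → φ p ∈ GrSeg.segrePiece k 𝒞R 𝒞S j := by
    intro j p hp
    have : φ p ∈ (GrSeg.segrePiece k 𝒞R 𝒞S j : Set (CR ⊗[k] CS)) := by
      rw [← hP.image_piece j]
      exact ⟨p, hp, rfl⟩
    exact this
  refine exists_equiv_of_pairing 𝒯 hposT h0T mT hmT 𝓔T eT heT 𝒬 ℋT B ?_ ?_ ?_ ?_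
  · intro t h p
    rw [hBdef, hBdef, hH.map_smul, hP.map_smul]
    exact tpair_balanced βR βS (beta_smul 𝒜 hposR h0R mR hmR 𝓔R eR heR ΦR)
      (beta_smul ℬ hposS h0S mS hmS 𝓔S eS heS ΦS) (ψ t) (φ' h) (φ p)
  · intro i j h p hh hp hij
    rw [hBdef]
    exact tpair_eq_zero_of_mem βR βS (ℋR i) (ℋS i) (𝒞R j) (𝒞S j)
      (fun x hx y hy => beta_eq_zero 𝒜 hposR h0R mR hmR 𝓔R eR heR 𝒞R ℋR ΦR hΦR hx hy hij)
      _ (hφ'mem i h hh) _ (hφmem j p hp)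
  · intro i h hh hne
    have hω0 : φ' h ≠ 0 := fun h0 => hne (hH.injective (by rw [h0, map_zero]))
    have hω := hφ'mem i h hh
    rw [segrePiece_eq_range 𝒜 ℬ ℋR ℋS i] at hω
    haveI : Module.Finite k (pieceK 𝒜 𝒞R (-i)) := finite_pieceK_of_finite 𝒜 h0R 𝒞R (-i)
    haveI : Module.Finite k (pieceK ℬ 𝒞S (-i)) := finite_pieceK_of_finite ℬ h0S 𝒞S (-i)
    obtain ⟨c₁, hc₁, c₂, hc₂, hne'⟩ := exists_tpair_ne_zero βR βS (pieceK 𝒜 ℋR i)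
      (pieceK ℬ ℋS i) (pieceK 𝒜 𝒞R (-i)) (pieceK ℬ 𝒞S (-i))
      (fun v hv hv0 => exists_beta_ne_zero 𝒜 hposR h0R mR hmR 𝓔R eR heR 𝒞R ℋR ΦR hΦR hv hv0)
      (fun v hv hv0 => exists_beta_ne_zero ℬ hposS h0S mS hmS 𝓔S eS heS 𝒞S ℋS ΦS hΦS hv hv0)
      (φ' h) hω hω0
    have hmem : c₁ ⊗ₜ[k] c₂ ∈ (GrSeg.segrePiece k 𝒞R 𝒞S (-i) : Set (CR ⊗[k] CS)) :=
      Submodule.subset_span ⟨c₁, hc₁, c₂, hc₂, rfl⟩
    rw [← hP.image_piece (-i)] at hmem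
    obtain ⟨p, hp, hpφ⟩ := hmem
    refine ⟨p, hp, ?_⟩
    rw [hBdef, hpφ]
    exact hne'
  · intro j p hp hne
    have hξ0 : φ p ≠ 0 := fun h0 => hne (hP.injective (by rw [h0, map_zero]))
    have hξ := hφmem j p hp
    rw [segrePiece_eq_range 𝒜 ℬ 𝒞R 𝒞S j] at hξ
    haveI : Module.Finite k (pieceK 𝒜 ℋR (-j)) :=
      finite_pieceK_H 𝒜 hposR h0R mR hmR 𝓔R eR heR 𝒞R ℋR ΦR hΦR (-j)
    haveI : Module.Finite k (pieceK ℬ ℋS (-j)) :=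
      finite_pieceK_H ℬ hposS h0S mS hmS 𝓔S eS heS 𝒞S ℋS ΦS hΦS (-j)
    obtain ⟨h₁, hh₁, h₂, hh₂, hne'⟩ := exists_tpair_ne_zero βR.flip βS.flip (pieceK 𝒜 𝒞R j)
      (pieceK ℬ 𝒞S j) (pieceK 𝒜 ℋR (-j)) (pieceK ℬ ℋS (-j))
      (fun v hv hv0 => exists_beta_ne_zero' 𝒜 hposR h0R mR hmR 𝓔R eR heR 𝒞R ℋR ΦR hΦR hv hv0)
      (fun v hv hv0 => exists_beta_ne_zero' ℬ hposS h0S mS hmS 𝓔S eS heS 𝒞S ℋS ΦS hΦS hv hv0)
      (φ p) hξ hξ0
    rw [tpair_flip] at hne'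
    have hmem : h₁ ⊗ₜ[k] h₂ ∈ (GrSeg.segrePiece k ℋR ℋS (-j) : Set (HR ⊗[k] HS)) :=
      Submodule.subset_span ⟨h₁, hh₁, h₂, hh₂, rfl⟩
    rw [← hH.image_piece (-j)] at hmem
    obtain ⟨h, hh, hhφ⟩ := hmem
    refine ⟨h, hh, ?_⟩
    rw [hBdef, hhφ]
    exact hne'

end segre

end Groth.Agent.Lib.Helper20.SegCan
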