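import Mathlib
import Groth.Agent.Lib.Helper20.SegCanF
import Groth.Agent.Lib.Helper20.SegGor3

/-!
# Goto–Watanabe: `K_{R # S} ≅ K_R # K_S` (module form) (helper20)
-/

set_option autoImplicit false
set_option linter.unusedSectionVars false
set_option linter.unusedVariables false
set_option linter.style.haveILetI false

universe u

open TensorProduct DirectSum GrLC Groth.Agent.Lib.Helper20.GrConv Groth.Agent.Lib.Helper20.SegTP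
  Groth.Agent.Lib.Helper20.SegHilb Groth.Agent.Lib.Helper20.SegGr
  Groth.Agent.Lib.Helper20.SegBase Groth.Agent.Lib.Helper20.SegGor

namespace Groth.Agent.Lib.Helper20.SegCan

section main

set_option maxHeartbeats 4000000 in
/-- **Goto–Watanabe**: the Segre product of canonical modules is a canonical module of the Segre
product. -/
theorem isStarCanonical_segre (k : Type u) [Field k] (R : Type u) [CommRing R] [Algebra k R]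
    (𝒜 : ℤ → Submodule k R) [GradedAlgebra 𝒜] (hposR : ∀ n : ℤ, n < 0 → 𝒜 n = ⊥)
    (h0R : 𝒜 0 = Submodule.span k {(1 : R)}) [Algebra.FiniteType k R] (S : Type u) [CommRing S]
    [Algebra k S] (ℬ : ℤ → Submodule k S) [GradedAlgebra ℬ] (hposS : ∀ n : ℤ, n < 0 → ℬ n = ⊥)
    (h0S : ℬ 0 = Submodule.span k {(1 : S)}) [Algebra.FiniteType k S] (T : Type u) [CommRing T]
    [Algebra k T] (𝒯 : ℤ → Submodule k T) [GradedAlgebra 𝒯] (ψ : T →ₐ[k] TensorProduct k R S)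
    (hT : GrSeg.IsSegreRing 𝒜 ℬ 𝒯 ψ) (mR : HomogeneousIdeal 𝒜)
    (hmR : mR.toIdeal = Ideal.span (⋃ n ∈ Set.Ioi (0 : ℤ), (𝒜 n : Set R)))
    (I : GrLC.StarInjRes 𝒜 𝒜) (mS : HomogeneousIdeal ℬ)
    (hmS : mS.toIdeal = Ideal.span (⋃ n ∈ Set.Ioi (0 : ℤ), (ℬ n : Set S)))
    (J : GrLC.StarInjRes ℬ ℬ) (mT : HomogeneousIdeal 𝒯)
    (hmT : mT.toIdeal = Ideal.span (⋃ n ∈ Set.Ioi (0 : ℤ), (𝒯 n : Set T)))
    (IT : GrLC.StarInjRes 𝒯 𝒯) (r s : ℕ) (hr : ringKrullDim R = r) (hs : ringKrullDim S = s)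
    (h2r : 2 ≤ r) (h2s : 2 ≤ s) (ER : Type u) [AddCommGroup ER] [Module R ER]
    (𝓔R : ℤ → AddSubgroup ER) [DirectSum.Decomposition 𝓔R] [SetLike.GradedSMul 𝒜 𝓔R]
    (eR : (R ⧸ mR.toIdeal) →ₗ[R] ER) (heR : GrLC.IsStarInjHull 𝒜 (GrLC.quotGr 𝒜 mR) 𝓔R eR)
    (CR : Type u) [AddCommGroup CR] [Module R CR] [Module k CR] [IsScalarTower k R CR]
    (𝒞R : ℤ → AddSubgroup CR) [DirectSum.Decomposition 𝒞R] [SetLike.GradedSMul 𝒜 𝒞R]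
    (hCR : GrLC.IsStarCanonical 𝒜 𝒞R 𝓔R mR r I) (ES : Type u) [AddCommGroup ES] [Module S ES]
    (𝓔S : ℤ → AddSubgroup ES) [DirectSum.Decomposition 𝓔S] [SetLike.GradedSMul ℬ 𝓔S]
    (eS : (S ⧸ mS.toIdeal) →ₗ[S] ES) (heS : GrLC.IsStarInjHull ℬ (GrLC.quotGr ℬ mS) 𝓔S eS)
    (CS : Type u) [AddCommGroup CS] [Module S CS] [Module k CS] [IsScalarTower k S CS]
    (𝒞S : ℤ → AddSubgroup CS) [DirectSum.Decomposition 𝒞S] [SetLike.GradedSMul ℬ 𝒞S]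
    (hCS : GrLC.IsStarCanonical ℬ 𝒞S 𝓔S mS s J) (ET : Type u) [AddCommGroup ET] [Module T ET]
    (𝓔T : ℤ → AddSubgroup ET) [DirectSum.Decomposition 𝓔T] [SetLike.GradedSMul 𝒯 𝓔T]
    (eT : (T ⧸ mT.toIdeal) →ₗ[T] ET) (heT : GrLC.IsStarInjHull 𝒯 (GrLC.quotGr 𝒯 mT) 𝓔T eT)
    (P : Type u) [AddCommGroup P] [Module T P] [Module k P] [IsScalarTower k T P]
    (𝒬 : ℤ → AddSubgroup P) [DirectSum.Decomposition 𝒬] [SetLike.GradedSMul 𝒯 𝒬]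
    (φ : P →ₗ[k] TensorProduct k CR CS) (hP : GrSeg.IsSegreMod ψ 𝒞R 𝒞S 𝒬 φ) :
    GrLC.IsStarCanonical 𝒯 𝒬 𝓔T mT (r + s - 1) IT := by
  classical
  haveI : Nontrivial R := by
    by_contra h
    rw [not_nontrivial_iff_subsingleton] at h
    rw [ringKrullDim_eq_bot_of_subsingleton] at hr
    exact WithBot.bot_ne_coe hr
  haveI : Nontrivial S := by
    by_contra h
    rw [not_nontrivial_iff_subsingleton] at h
    rw [ringKrullDim_eq_bot_of_subsingleton] at hs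
    exact WithBot.bot_ne_coe hs
  haveI : IsNoetherianRing R := Algebra.FiniteType.isNoetherianRing k R
  haveI : IsNoetherianRing S := Algebra.FiniteType.isNoetherianRing k S
  haveI hft : Algebra.FiniteType k (R ⊗[k] S) :=
    Algebra.FiniteType.trans (S := R) inferInstance inferInstance
  haveI : IsNoetherianRing (R ⊗[k] S) := Algebra.FiniteType.isNoetherianRing k _
  haveI : Nontrivial T := nontrivial_segre 𝒜 ℬ 𝒯 ψ hT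
  haveI : IsNoetherianRing T :=
    Groth.Agent.S18646.result k R 𝒜 hposR h0R S ℬ hposS h0S T 𝒯 ψ hT.1 hT.2
  have hposT := segre_pos 𝒜 ℬ 𝒯 ψ hT hposR
  have h0T := segre_zero 𝒜 ℬ 𝒯 ψ hT h0R h0S
  obtain ⟨hfinR, ΦR, hΦR⟩ := hCR
  obtain ⟨hfinS, ΦS, hΦS⟩ := hCS
  haveI := hfinR
  haveI := hfinS
  haveI hfinP : Module.Finite T P := finite_segreMod 𝒜 ℬ 𝒯 ψ hT 𝒞R 𝒞S 𝒬 φ hP
  refine ⟨hfinP, ?_⟩
  obtain ⟨a₁, rfl⟩ : ∃ a₁, r = a₁ + 2 := ⟨r - 2, by omega⟩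
  obtain ⟨b₁, rfl⟩ : ∃ b₁, s = b₁ + 2 := ⟨s - 2, by omega⟩
  have hn : a₁ + 2 + (b₁ + 2) - 1 = a₁ + b₁ + 1 + 2 := by omega
  rw [hn]
  have hgA := gradedSMul_modToAS 𝒜 𝒜
  have hgB := gradedSMul_modToAS ℬ ℬ
  have hgT := gradedSMul_modToAS 𝒯 𝒯
  -- the module structures over `k`
  letI : Module k ER := Module.compHom ER (algebraMap k R)
  haveI : IsScalarTower k R ER := IsScalarTower.of_algebraMap_smul (fun c x => rfl)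
  letI : Module k ES := Module.compHom ES (algebraMap k S)
  haveI : IsScalarTower k S ES := IsScalarTower.of_algebraMap_smul (fun c x => rfl)
  letI : Module k ET := Module.compHom ET (algebraMap k T)
  haveI : IsScalarTower k T ET := IsScalarTower.of_algebraMap_smul (fun c x => rfl)
  letI : Module k ((resModTo 𝒜 𝒜 I).H mR (a₁ + 2)) := Module.compHom _ (algebraMap k R)
  haveI : IsScalarTower k R ((resModTo 𝒜 𝒜 I).H mR (a₁ + 2)) :=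
    IsScalarTower.of_algebraMap_smul (fun c x => rfl)
  letI : Module k ((resModTo ℬ ℬ J).H mS (b₁ + 2)) := Module.compHom _ (algebraMap k S)
  haveI : IsScalarTower k S ((resModTo ℬ ℬ J).H mS (b₁ + 2)) :=
    IsScalarTower.of_algebraMap_smul (fun c x => rfl)
  letI : Module k ((resModTo 𝒯 𝒯 IT).H mT (a₁ + b₁ + 1 + 2)) :=
    Module.compHom _ (algebraMap k T)
  haveI : IsScalarTower k T ((resModTo 𝒯 𝒯 IT).H mT (a₁ + b₁ + 1 + 2)) :=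
    IsScalarTower.of_algebraMap_smul (fun c x => rfl)
  letI : DirectSum.Decomposition ((resModTo 𝒜 𝒜 I).Hgr mR (a₁ + 2)) :=
    Groth.Agent.Lib.Helper20.GrLES2.decH (resTo 𝒜 𝒜 I) (idealTo 𝒜 mR) (a₁ + 2)
  letI : DirectSum.Decomposition ((resModTo ℬ ℬ J).Hgr mS (b₁ + 2)) :=
    Groth.Agent.Lib.Helper20.GrLES2.decH (resTo ℬ ℬ J) (idealTo ℬ mS) (b₁ + 2)
  letI : DirectSum.Decomposition ((resModTo 𝒯 𝒯 IT).Hgr mT (a₁ + b₁ + 1 + 2)) :=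
    Groth.Agent.Lib.Helper20.GrLES2.decH (resTo 𝒯 𝒯 IT) (idealTo 𝒯 mT) (a₁ + b₁ + 1 + 2)
  haveI := gradedSMul_Hgr 𝒜 (toAS 𝒜) (resModTo 𝒜 𝒜 I) mR (a₁ + 2)
  haveI := gradedSMul_Hgr ℬ (toAS ℬ) (resModTo ℬ ℬ J) mS (b₁ + 2)
  haveI := gradedSMul_Hgr 𝒯 (toAS 𝒯) (resModTo 𝒯 𝒯 IT) mT (a₁ + b₁ + 1 + 2)
  have hvM : ∀ i, a₁ + 2 < i → Subsingleton ((resModTo 𝒜 𝒜 I).H mR i) := fun i hi =>
    subsingleton_H_of_Hcomp_eq_bot 𝒜 mR (toAS 𝒜) (resModTo 𝒜 𝒜 I) i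
      (fun d => Hcomp_eq_bot_of_gt 𝒜 hposR h0R mR hmR (toAS 𝒜) (resModTo 𝒜 𝒜 I) (a₁ + 2) hr i hi d)
  have hvN : ∀ i, b₁ + 2 < i → Subsingleton ((resModTo ℬ ℬ J).H mS i) := fun i hi =>
    subsingleton_H_of_Hcomp_eq_bot ℬ mS (toAS ℬ) (resModTo ℬ ℬ J) i
      (fun d => Hcomp_eq_bot_of_gt ℬ hposS h0S mS hmS (toAS ℬ) (resModTo ℬ ℬ J) (b₁ + 2) hs i hi d)
  obtain ⟨φ', hφ'⟩ := exists_isSegreMod_H_top k R 𝒜 hposR h0R S ℬ hposS h0S T 𝒯 ψ hT mR hmR mS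
    hmS mT hmT R (toAS 𝒜) (resModTo 𝒜 𝒜 I) S (toAS ℬ) (resModTo ℬ ℬ J) T (toAS 𝒯)
    ψ.toLinearMap (isSegreMod_self 𝒜 ℬ 𝒯 ψ hT) (resModTo 𝒯 𝒯 IT) a₁ b₁ (a₁ + b₁ + 1) (by omega)
    hvM hvN
  let ΦR' : (CR →ₗ[R] ER) ≃ₗ[R] (resModTo 𝒜 𝒜 I).H mR (a₁ + 2) := ΦR
  let ΦS' : (CS →ₗ[S] ES) ≃ₗ[S] (resModTo ℬ ℬ J).H mS (b₁ + 2) := ΦS
  obtain ⟨Φ, hΦ⟩ := exists_equiv_segre (HR := (resModTo 𝒜 𝒜 I).H mR (a₁ + 2))
    (HS := (resModTo ℬ ℬ J).H mS (b₁ + 2)) (HT := (resModTo 𝒯 𝒯 IT).H mT (a₁ + b₁ + 1 + 2))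
    𝒜 ℬ 𝒯 ψ hposR h0R mR hmR hposS h0S mS hmS hposT h0T mT
    hmT 𝓔R eR heR 𝓔S eS heS 𝓔T eT heT 𝒞R 𝒞S ((resModTo 𝒜 𝒜 I).Hgr mR (a₁ + 2)) ΦR'
    (fun d f hf => hΦR d f hf) ((resModTo ℬ ℬ J).Hgr mS (b₁ + 2)) ΦS' (fun d f hf => hΦS d f hf)
    𝒬 φ hP ((resModTo 𝒯 𝒯 IT).Hgr mT (a₁ + b₁ + 1 + 2)) φ' hφ'
  exact ⟨Φ, fun d f hf => hΦ d f hf⟩

end main

end Groth.Agent.Lib.Helper20.SegCan
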