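import Mathlib
import Groth.Agent.Lib.Helper20.SegModCM2
import Groth.Agent.S19747
import Groth.Agent.S18646

/-!
# The Cohen–Macaulay property of Segre products of Cohen–Macaulay graded modules (helper20)
-/

set_option autoImplicit false
set_option linter.unusedSectionVars false
set_option linter.unusedVariables false
set_option linter.style.haveILetI false

universe u

open TensorProduct DirectSum Groth.Agent.Lib.Helper20.SegKun Groth.Agent.Lib.Helper20.SegTP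
  Groth.Agent.Lib.Helper20.GrConv GrLC Groth.Agent.Lib.Helper4.LC
  Groth.Agent.Lib.Helper20.SegAcyc Groth.Agent.Lib.Helper20.GrLCBasic

namespace Groth.Agent.Lib.Helper20.SegGr

open GrSeg

/-- **Segre products of Cohen–Macaulay graded modules**: the dimension is `r + s - 1`, and the
Cohen–Macaulay property is equivalent to the vanishing of `M # H^q(N)` and `H^q(M) # N` for
`q < r + s - 1`. -/
theorem segreMod_master (k : Type u) [Field k] (R : Type u) [CommRing R] [Algebra k R]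
    (𝒜 : ℤ → Submodule k R) [GradedAlgebra 𝒜] (hposR : ∀ n : ℤ, n < 0 → 𝒜 n = ⊥)
    (h0R : 𝒜 0 = Submodule.span k {(1 : R)}) [Algebra.FiniteType k R]
    (S : Type u) [CommRing S] [Algebra k S] (ℬ : ℤ → Submodule k S)
    [GradedAlgebra ℬ] (hposS : ∀ n : ℤ, n < 0 → ℬ n = ⊥)
    (h0S : ℬ 0 = Submodule.span k {(1 : S)}) [Algebra.FiniteType k S]
    (T : Type u) [CommRing T] [Algebra k T] (𝒯 : ℤ → Submodule k T) [GradedAlgebra 𝒯]
    (ψ : T →ₐ[k] TensorProduct k R S) (hT : GrSeg.IsSegreRing 𝒜 ℬ 𝒯 ψ)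
    (mR : HomogeneousIdeal 𝒜)
    (hmR : mR.toIdeal = Ideal.span (⋃ n ∈ Set.Ioi (0 : ℤ), (𝒜 n : Set R)))
    (mS : HomogeneousIdeal ℬ)
    (hmS : mS.toIdeal = Ideal.span (⋃ n ∈ Set.Ioi (0 : ℤ), (ℬ n : Set S)))
    (M : Type u) [AddCommGroup M] [Module R M] [Module k M] [IsScalarTower k R M]
    (ℳ : ℤ → AddSubgroup M) [DirectSum.Decomposition ℳ] [SetLike.GradedSMul 𝒜 ℳ]
    [Module.Finite R M] (EM : GrLC.StarInjRes 𝒜 ℳ)
    (N : Type u) [AddCommGroup N] [Module S N] [Module k N] [IsScalarTower k S N]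
    (𝒩 : ℤ → AddSubgroup N) [DirectSum.Decomposition 𝒩] [SetLike.GradedSMul ℬ 𝒩]
    [Module.Finite S N] (EN : GrLC.StarInjRes ℬ 𝒩)
    (P : Type u) [AddCommGroup P] [Module T P] [Module k P] [IsScalarTower k T P]
    (𝒬 : ℤ → AddSubgroup P) [DirectSum.Decomposition 𝒬]
    (φ : P →ₗ[k] TensorProduct k M N) (hP : GrSeg.IsSegreMod ψ ℳ 𝒩 𝒬 φ) [Nontrivial P]
    (r s : ℕ) (h1r : 1 ≤ r) (h1s : 1 ≤ s) (hdM : Module.supportDim R M = r)
    (hdN : Module.supportDim S N = s)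
    (hMcm : ∀ (q : Ideal R) [q.IsPrime], Subsingleton (LocalizedModule q.primeCompl M) ∨
      LocCoh.IsCohenMacaulayModule (Localization.AtPrime q) (LocalizedModule q.primeCompl M))
    (hNcm : ∀ (q : Ideal S) [q.IsPrime], Subsingleton (LocalizedModule q.primeCompl N) ∨
      LocCoh.IsCohenMacaulayModule (Localization.AtPrime q) (LocalizedModule q.primeCompl N)) :
    Module.supportDim T P = ((r + s - 1 : ℕ) : WithBot ℕ∞) ∧
      ((∀ (q : Ideal T) [q.IsPrime], Subsingleton (LocalizedModule q.primeCompl P) ∨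
        LocCoh.IsCohenMacaulayModule (Localization.AtPrime q)
          (LocalizedModule q.primeCompl P)) ↔
        ∀ q < r + s - 1, ∀ d : ℤ, (ℳ d = ⊥ ∨ EN.Hcomp mS q d = ⊥) ∧
          (EM.Hcomp mR q d = ⊥ ∨ 𝒩 d = ⊥)) := by
  classical
  haveI : IsNoetherianRing R := Algebra.FiniteType.isNoetherianRing k R
  haveI : IsNoetherianRing S := Algebra.FiniteType.isNoetherianRing k S
  obtain ⟨d₀, hMd₀, hNd₀⟩ := exists_pieces_ne_bot ψ ℳ 𝒩 𝒬 φ hP
  haveI : Nontrivial M := by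
    obtain ⟨x, hx, hx0⟩ := Groth.Agent.Lib.Helper20.GrAinv.exists_ne_zero_of_ne_bot hMd₀
    exact ⟨⟨x, 0, hx0⟩⟩
  haveI : Nontrivial N := by
    obtain ⟨x, hx, hx0⟩ := Groth.Agent.Lib.Helper20.GrAinv.exists_ne_zero_of_ne_bot hNd₀
    exact ⟨⟨x, 0, hx0⟩⟩
  haveI : Nontrivial R := Module.nontrivial R M
  haveI : Nontrivial S := Module.nontrivial S N
  haveI : IsNoetherianRing T :=
    Groth.Agent.S18646.result k R 𝒜 hposR h0R S ℬ hposS h0S T 𝒯 ψ hT.1 hT.2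
  haveI : Nontrivial T := nontrivial_segre 𝒜 ℬ 𝒯 ψ hT
  have h0T : 𝒯 0 = Submodule.span k {(1 : T)} := segre_zero 𝒜 ℬ 𝒯 ψ hT h0R h0S
  have hposT : ∀ n : ℤ, n < 0 → 𝒯 n = ⊥ := SegBase.segre_pos 𝒜 ℬ 𝒯 ψ hT hposR
  haveI : SetLike.GradedSMul 𝒯 𝒬 := gradedSMul_of_isSegreMod 𝒜 ℬ 𝒯 ψ hT ℳ 𝒩 𝒬 φ hP
  haveI : Module.Finite T P :=
    Groth.Agent.S19747.result k R 𝒜 hposR h0R S ℬ hposS h0S T 𝒯 ψ hT M ℳ N 𝒩 P 𝒬 φ hP
  set mT : HomogeneousIdeal 𝒯 := SegBase.irr 𝒯 with hmTdef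
  have hmT : mT.toIdeal = Ideal.span (⋃ n ∈ Set.Ioi (0 : ℤ), (𝒯 n : Set T)) :=
    SegBase.irr_toIdeal 𝒯
  obtain ⟨EP⟩ := SegBase.nonempty_starInjRes 𝒯 𝒬
  -- vanishing for `M` and `N`
  have hMv : ∀ i, i ≠ r → ∀ d, EM.Hcomp mR i d = ⊥ := by
    intro i hi d
    rcases lt_or_gt_of_ne hi with h | h
    · exact SegBase.modHcomp_eq_bot_of_cm 𝒜 hposR h0R mR hmR ℳ EM hMcm r hdM i h d
    · exact SegBase.modHcomp_eq_bot_of_gt 𝒜 mR ℳ EM r hdM.le i h d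
  have hNv : ∀ i, i ≠ s → ∀ d, EN.Hcomp mS i d = ⊥ := by
    intro i hi d
    rcases lt_or_gt_of_ne hi with h | h
    · exact SegBase.modHcomp_eq_bot_of_cm ℬ hposS h0S mS hmS 𝒩 EN hNcm s hdN i h d
    · exact SegBase.modHcomp_eq_bot_of_gt ℬ mS 𝒩 EN s hdN.le i h d
  have hM0 : ∀ d, EM.Hcomp mR 0 d = ⊥ := fun d => hMv 0 (by omega) d
  have hN0 : ∀ d, EN.Hcomp mS 0 d = ⊥ := fun d => hNv 0 (by omega) d
  -- the Künneth formula, in terms of vanishing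
  have hiff : ∀ q d, EP.Hcomp mT q d = ⊥ ↔ (ℳ d = ⊥ ∨ EN.Hcomp mS q d = ⊥) ∧
      (EM.Hcomp mR q d = ⊥ ∨ 𝒩 d = ⊥) ∧
      (q + 1 = r + s → EM.Hcomp mR r d = ⊥ ∨ EN.Hcomp mS s d = ⊥) := by
    intro q d
    have hK := kunneth' k R 𝒜 hposR h0R S ℬ hposS h0S T 𝒯 ψ hT mR hmR mS hmS mT hmT M ℳ EM
      N 𝒩 EN P 𝒬 φ hP EP hM0 hN0 q d
    have cM : ∀ i, Module.finrank (deg0 𝒜) (EM.Hcomp mR i d) = 0 ↔ EM.Hcomp mR i d = ⊥ :=
      fun i => (SegBase.Hcomp_eq_bot_iff_finrank 𝒜 h0R mR hmR ℳ EM i d).symm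
    have cN : ∀ i, Module.finrank (deg0 ℬ) (EN.Hcomp mS i d) = 0 ↔ EN.Hcomp mS i d = ⊥ :=
      fun i => (SegBase.Hcomp_eq_bot_iff_finrank ℬ h0S mS hmS 𝒩 EN i d).symm
    rw [SegBase.Hcomp_eq_bot_iff_finrank 𝒯 h0T mT hmT 𝒬 EP q d, hK]
    simp only [Nat.add_eq_zero_iff, Nat.mul_eq_zero, Finset.sum_eq_zero_iff, Finset.mem_range,
      cM, cN, finrank_comp_eq_zero_iff 𝒜 h0R ℳ EM d, finrank_comp_eq_zero_iff ℬ h0S 𝒩 EN d]
    constructor
    · rintro ⟨⟨hA, hB⟩, hC⟩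
      refine ⟨hA, hB, fun hq => ?_⟩
      have := hC r (by omega)
      have e1 : q + 1 - r = s := by omega
      rwa [e1] at this
    · rintro ⟨hA, hB, hC⟩
      refine ⟨⟨hA, hB⟩, fun i hi => ?_⟩
      by_cases hir : i = r
      · by_cases hjs : q + 1 - i = s
        · rw [hir] at hjs ⊢
          rw [hjs]
          exact hC (by omega)
        · exact Or.inr (hNv _ hjs d)
      · exact Or.inl (hMv i hir d)
  -- a common non-vanishing degree of the top local cohomologies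
  obtain ⟨eM, heM, hprogM⟩ :=
    SegBase.modHcomp_progression 𝒜 hposR h0R mR hmR ℳ EM hMcm r h1r hdM
  obtain ⟨eN, heN, hprogN⟩ :=
    SegBase.modHcomp_progression ℬ hposS h0S mS hmS 𝒩 EN hNcm s h1s hdN
  obtain ⟨nM, hnM⟩ := hprogM d₀ hMd₀
  obtain ⟨nN, hnN⟩ := hprogN d₀ hNd₀
  have hδM := hnM (max nM nN * eN) (le_trans (le_max_left nM nN)
    (Nat.le_mul_of_pos_right _ heN))
  have hδN := hnN (max nM nN * eM) (le_trans (le_max_right nM nN)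
    (Nat.le_mul_of_pos_right _ heM))
  have e2 : d₀ - ((max nM nN * eM : ℕ) : ℤ) * (eN : ℤ) =
      d₀ - ((max nM nN * eN : ℕ) : ℤ) * (eM : ℤ) := by
    push_cast
    ring
  rw [e2] at hδN
  set δ : ℤ := d₀ - ((max nM nN * eN : ℕ) : ℤ) * (eM : ℤ) with hδdef
  have hδ : EP.Hcomp mT (r + s - 1) δ ≠ ⊥ := by
    intro hbot
    rcases ((hiff (r + s - 1) δ).1 hbot).2.2 (by omega) with h | h
    · exact hδM h
    · exact hδN h
  -- vanishing above `r + s - 1`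
  have habove : ∀ q, r + s - 1 < q → ∀ d, EP.Hcomp mT q d = ⊥ := by
    intro q hq d
    exact (hiff q d).2 ⟨Or.inr (hNv q (by omega) d), Or.inl (hMv q (by omega) d),
      fun h => absurd h (by omega)⟩
  -- the dimension
  have hdimP : Module.supportDim T P = ((r + s - 1 : ℕ) : WithBot ℕ∞) := by
    obtain ⟨e, he⟩ := SegBase.modSupportDim_eq_nat 𝒯 hposT h0T mT hmT (M := P)
    obtain ⟨n, hn⟩ := SegBase.modHcomp_top_ne_bot 𝒯 hposT h0T mT hmT 𝒬 EP e he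
    rcases lt_trichotomy e (r + s - 1) with h | h | h
    · exact absurd (SegBase.modHcomp_eq_bot_of_gt 𝒯 mT 𝒬 EP e he.le (r + s - 1) h δ) hδ
    · rw [he, h]
    · exact absurd (habove e h n) hn
  refine ⟨hdimP, ?_, ?_⟩
  · intro hcm q hq d
    have := (hiff q d).1
      (SegBase.modHcomp_eq_bot_of_cm 𝒯 hposT h0T mT hmT 𝒬 EP hcm (r + s - 1) hdimP q hq d)
    exact ⟨this.1, this.2.1⟩
  · intro h
    exact SegBase.modCM_of_vanishing 𝒯 hposT h0T mT hmT 𝒬 EP (r + s - 1) hdimP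
      (fun q hq d => (hiff q d).2 ⟨(h q hq d).1, (h q hq d).2, fun hq' => absurd hq' (by omega)⟩)

end Groth.Agent.Lib.Helper20.SegGr
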