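import Mathlib
import Groth.Agent.Lib.Helper20.SegHilb
import Groth.Agent.Lib.Helper20.SegModCM3

/-!
# The dimension of a Segre product of graded modules over standard graded rings (helper20)
-/

set_option autoImplicit false
set_option linter.unusedSectionVars false
set_option linter.unusedVariables false
set_option linter.style.haveILetI false

universe u

open TensorProduct DirectSum GrLC Groth.Agent.Lib.Helper20.GrConv
  Groth.Agent.Lib.Helper20.LenEuler Groth.Agent.Lib.Helper20.GrHilbDeg
  Groth.Agent.Lib.Helper20.GrHilbDim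

namespace Groth.Agent.Lib.Helper20.SegHilb

section artin

variable {R : Type u} [CommRing R] [IsNoetherianRing R] {M : Type u} [AddCommGroup M] [Module R M]
  [Module.Finite R M]

/-- a finite module of dimension at most zero over a Noetherian ring is Artinian. -/
theorem isArtinian_of_supportDim_le_zero (hdim : Module.supportDim R M ≤ 0) : IsArtinian R M := by
  rw [Module.supportDim_eq_ringKrullDim_quotient_annihilator] at hdim
  haveI : Ring.KrullDimLE 0 (R ⧸ Module.annihilator R M) := by
    rw [Ring.krullDimLE_iff]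
    exact hdim
  haveI : IsArtinianRing (R ⧸ Module.annihilator R M) :=
    IsNoetherianRing.isArtinianRing_of_krullDimLE_zero
  letI : Module (R ⧸ Module.annihilator R M) M := Module.quotientAnnihilator
  haveI : IsScalarTower R (R ⧸ Module.annihilator R M) M :=
    (Module.isTorsionBySet_annihilator R M).isScalarTower
  haveI : Module.Finite (R ⧸ Module.annihilator R M) M :=
    Module.Finite.of_restrictScalars_finite R _ M
  haveI : IsArtinian (R ⧸ Module.annihilator R M) M := inferInstance
  exact isArtinian_of_surjective_algebraMap (R := R ⧸ Module.annihilator R M)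
    (Ideal.Quotient.mk_surjective)

end artin

section deg

variable {R : Type u} [CommRing R] [IsNoetherianRing R] (𝒜 : ℤ → AddSubgroup R) [GradedRing 𝒜]
  (hpos : ∀ n : ℤ, n < 0 → 𝒜 n = ⊥) (h0 : IsField (deg0 𝒜))
  (a : HomogeneousIdeal 𝒜)
  (ha : a.toIdeal = Ideal.span (⋃ n ∈ Set.Ioi (0 : ℤ), (𝒜 n : Set R)))
  (hhom : a.toIdeal = Ideal.span ((𝒜 1 : AddSubgroup R) : Set R))
  {M : Type u} [AddCommGroup M] [Module R M] [Module.Finite R M] (ℳ : ℤ → AddSubgroup M)
  [DirectSum.Decomposition ℳ] [SetLike.GradedSMul 𝒜 ℳ]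

include hpos h0 ha hhom in
/-- **the degree of the Hilbert polynomial is the dimension minus one.** -/
theorem degree_eq_of_supportDim (d : ℕ) (hd : 1 ≤ d)
    (hdim : Module.supportDim R M = ((d : ℕ) : WithBot ℕ∞)) (P : Polynomial ℚ)
    (hP : IsHP 𝒜 ℳ P) : P.degree = ((d - 1 : ℕ) : WithBot ℕ) := by
  letI : Field (deg0 𝒜) := h0.toField
  haveI : IsArtinianRing (deg0 𝒜) := inferInstance
  have h1 := degree_lt a ha hhom hpos d M ℳ P hdim.le hP
  have h2 : ¬ P.degree < ((d - 1 : ℕ) : WithBot ℕ) := by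
    intro hlt
    have h3 := supportDim_le_of_degree_lt 𝒜 hpos h0 a ha hhom (d - 1) M ℳ P hP hlt
    rw [hdim] at h3
    have h4 : d ≤ d - 1 := by exact_mod_cast h3
    omega
  induction hx : P.degree using WithBot.recBotCoe with
  | bot =>
    rw [hx] at h2
    exact absurd (WithBot.bot_lt_coe _) h2
  | coe n =>
    rw [hx] at h1 h2
    have h5 : n < d := WithBot.coe_lt_coe.1 h1
    have h6 : ¬ n < d - 1 := fun h => h2 (WithBot.coe_lt_coe.2 h)
    have h7 : n = d - 1 := by omega
    rw [h7]
    rfl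

end deg

section std

variable {k : Type u} [Field k] {R S T : Type u} [CommRing R] [CommRing S] [CommRing T]
  [Algebra k R] [Algebra k S] [Algebra k T]
  (𝒜 : ℤ → Submodule k R) [GradedAlgebra 𝒜] (ℬ : ℤ → Submodule k S) [GradedAlgebra ℬ]
  (𝒯 : ℤ → Submodule k T) [GradedAlgebra 𝒯] (ψ : T →ₐ[k] R ⊗[k] S)
  (hT : GrSeg.IsSegreRing 𝒜 ℬ 𝒯 ψ)
  (hstdR : Ideal.span (⋃ n ∈ Set.Ioi (0 : ℤ), (𝒜 n : Set R)) =
    Ideal.span ((𝒜 1 : Submodule k R) : Set R))
  (hstdS : Ideal.span (⋃ n ∈ Set.Ioi (0 : ℤ), (ℬ n : Set S)) =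
    Ideal.span ((ℬ 1 : Submodule k S) : Set S))

include hT hstdR hstdS in
/-- the Segre product of standard graded rings is standard graded. -/
theorem segre_std : Ideal.span (⋃ n ∈ Set.Ioi (0 : ℤ), (𝒯 n : Set T)) =
    Ideal.span ((𝒯 1 : Submodule k T) : Set T) := by
  apply le_antisymm
  · rw [Ideal.span_le]
    intro t ht
    obtain ⟨n, hn, htn⟩ := Set.mem_iUnion₂.1 ht
    rw [Set.mem_Ioi] at hn
    have htn' : t ∈ 𝒯 n := htn
    set W : Submodule k T := (Ideal.span ((𝒯 1 : Submodule k T) : Set T)).restrictScalars k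
      with hW
    have key : ∀ a ∈ Submodule.span k {x : R | ∃ u ∈ 𝒜 1, ∃ a' ∈ 𝒜 (n - 1), x = u * a'},
        ∀ b ∈ Submodule.span k {x : S | ∃ v ∈ ℬ 1, ∃ b' ∈ ℬ (n - 1), x = v * b'},
        a ⊗ₜ[k] b ∈ W.map ψ.toLinearMap := by
      intro a ha'
      induction ha' using Submodule.span_induction with
      | mem a ha'' =>
        obtain ⟨u, hu, a', ha', rfl⟩ := ha''
        intro b hb'
        induction hb' using Submodule.span_induction with
        | mem b hb'' =>
          obtain ⟨v, hv, b', hb', rfl⟩ := hb''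
          have h1 : u ⊗ₜ[k] v ∈ (𝒯 1).map ψ.toLinearMap := by
            rw [hT.2 1]
            exact Submodule.subset_span ⟨u, hu, v, hv, rfl⟩
          have h2 : a' ⊗ₜ[k] b' ∈ (𝒯 (n - 1)).map ψ.toLinearMap := by
            rw [hT.2 (n - 1)]
            exact Submodule.subset_span ⟨a', ha', b', hb', rfl⟩
          obtain ⟨t₁, ht₁, ht₁'⟩ := h1
          obtain ⟨t', ht', ht''⟩ := h2
          refine ⟨t₁ * t', ?_, ?_⟩
          · exact Ideal.mul_mem_right _ _ (Ideal.subset_span ht₁)
          · change ψ (t₁ * t') = _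
            rw [map_mul]
            change ψ.toLinearMap t₁ * ψ.toLinearMap t' = _
            rw [ht₁', ht'', Algebra.TensorProduct.tmul_mul_tmul]
        | zero => rw [tmul_zero]; exact zero_mem _
        | add b b' _ _ ihb ihb' => rw [tmul_add]; exact add_mem ihb ihb'
        | smul c b _ ihb => rw [tmul_smul]; exact Submodule.smul_mem _ c ihb
      | zero => intro b _; rw [zero_tmul]; exact zero_mem _
      | add a a' _ _ iha iha' => intro b hb; rw [add_tmul]; exact add_mem (iha b hb) (iha' b hb)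
      | smul c a _ iha => intro b hb; rw [← smul_tmul']; exact Submodule.smul_mem _ c (iha b hb)
    have hle : GrSeg.segrePiece k 𝒜 ℬ n ≤ W.map ψ.toLinearMap := by
      apply Submodule.span_le.2
      rintro _ ⟨a, ha, b, hb, rfl⟩
      exact key a (Aux19750.mem_span_mul_of_std 𝒜 hstdR hn ha) b
        (Aux19750.mem_span_mul_of_std ℬ hstdS hn hb)
    have h3 : ψ t ∈ (𝒯 n).map ψ.toLinearMap := ⟨t, htn', rfl⟩
    rw [hT.2 n] at h3
    obtain ⟨w, hw, hwt⟩ := hle h3
    have : w = t := hT.1 hwt
    rw [← this]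
    exact hw
  · apply Ideal.span_mono
    intro t ht
    exact Set.mem_iUnion₂.2 ⟨1, by simp, ht⟩

end std

end Groth.Agent.Lib.Helper20.SegHilb
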