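import Mathlib
import Groth.Prelude.Def_GrLC
import Groth.Agent.Lib.Helper20.GrAinvPoly
import Groth.Agent.Lib.Helper20.SegHilb2
import Groth.Agent.Lib.Helper20.SegGor1

/-!
# Serre's formula for one-dimensional Cohen–Macaulay standard graded rings (helper20)
-/

set_option autoImplicit false
set_option linter.unusedSectionVars false
set_option linter.unusedVariables false
set_option linter.style.haveILetI false

universe u

open DirectSum GrLC Groth.Agent.Lib.Helper20.LenEuler Groth.Agent.Lib.Helper20.GrHilbDeg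
  Groth.Agent.Lib.Helper20.GrHilbDim

namespace Groth.Agent.Lib.Helper20.SegDimOne

section len

variable {K : Type u} [Field K] (X : Type u) [AddCommGroup X] [Module K X]

theorem len_eq_finrank : len K X = (Module.finrank K X : ℚ) := by
  unfold len
  rw [Module.length_eq_rank, Cardinal.toNat_toENat]
  rfl

end len

section A

variable {R : Type u} [CommRing R] [LocCoh.IsCohenMacaulayRing R] (𝒜 : ℤ → AddSubgroup R)
  [GradedRing 𝒜] (hpos : ∀ n : ℤ, n < 0 → 𝒜 n = ⊥)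
  (hstd : Ideal.span (⋃ n ∈ Set.Ioi (0 : ℤ), (𝒜 n : Set R)) =
    Ideal.span ((𝒜 1 : AddSubgroup R) : Set R))
  (h0 : IsField (deg0 𝒜)) (m : HomogeneousIdeal 𝒜) (hm : IsStarLocal 𝒜 m)
  (hmsp : m.toIdeal = Ideal.span (⋃ n ∈ Set.Ioi (0 : ℤ), (𝒜 n : Set R)))
  (hr : ringKrullDim R = 1) (I : StarInjRes 𝒜 𝒜)

include hpos hstd h0 hm hmsp hr in
/-- **Serre's formula in dimension one**: `dim R_n + dim H^1(R)_n = e` for all `n`. -/
theorem serre_dim_one :
    ∃ e : ℕ, (∃ N : ℤ, ∀ n, N ≤ n → Module.finrank (deg0 𝒜) (comp 𝒜 𝒜 n) = e) ∧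
      ∀ n : ℤ, Module.finrank (deg0 𝒜) (comp 𝒜 𝒜 n) +
        Module.finrank (deg0 𝒜) (I.Hcomp m 1 n) = e := by
  classical
  letI : Field (deg0 𝒜) := h0.toField
  haveI : IsArtinianRing (deg0 𝒜) := inferInstance
  haveI : IsNoetherianRing R := inferInstance
  obtain ⟨P, hP⟩ := exists_isHP m hmsp (hmsp.trans hstd) (M := R) 𝒜
  have hdeg : P.degree = ((1 - 1 : ℕ) : WithBot ℕ) :=
    Groth.Agent.Lib.Helper20.SegHilb.degree_eq_of_supportDim 𝒜 hpos h0 m hmsp (hmsp.trans hstd) 𝒜 1 le_rfl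
      (by rw [Module.supportDim_self_eq_ringKrullDim, hr]; rfl) P hP
  have hC : P = Polynomial.C (P.coeff 0) := Polynomial.eq_C_of_degree_eq_zero hdeg
  have hr' : ringKrullDim R = ((1 : ℕ) : WithBot ℕ∞) := by rw [hr]; rfl
  have key : ∀ n : ℤ, (Module.finrank (deg0 𝒜) (comp 𝒜 𝒜 n) : ℚ) - P.coeff 0 =
      - (Module.finrank (deg0 𝒜) (I.Hcomp m 1 n) : ℚ) := by
    intro n
    have h1 := Groth.Agent.Lib.Helper20.GrAinvPoly.serre_cm 𝒜 hpos hstd m hm 1 hr' I P hP n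
    rw [hC, Polynomial.eval_C, len_eq_finrank, len_eq_finrank] at h1
    rw [h1]
    ring
  obtain ⟨N, hN⟩ := hP
  have hq : P.coeff 0 = (Module.finrank (deg0 𝒜) (comp 𝒜 𝒜 N) : ℚ) := by
    have h2 := hN N le_rfl
    rw [hC, Polynomial.eval_C, len_eq_finrank] at h2
    exact h2
  refine ⟨Module.finrank (deg0 𝒜) (comp 𝒜 𝒜 N), ⟨N, fun n hn => ?_⟩, fun n => ?_⟩
  · have h2 := hN n hn
    rw [hC, Polynomial.eval_C, len_eq_finrank, hq] at h2
    exact_mod_cast h2.symm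
  · have h3 := key n
    rw [hq] at h3
    have h4 : (Module.finrank (deg0 𝒜) (comp 𝒜 𝒜 n) : ℚ) +
        (Module.finrank (deg0 𝒜) (I.Hcomp m 1 n) : ℚ) =
        (Module.finrank (deg0 𝒜) (comp 𝒜 𝒜 N) : ℚ) := by linarith
    exact_mod_cast h4

end A

end Groth.Agent.Lib.Helper20.SegDimOne

namespace Groth.Agent.Lib.Helper20.SegDimOne

section B

variable (R : Type u) [CommRing R] [LocCoh.IsGorensteinRing R] (𝒜 : ℤ → AddSubgroup R)
  [GradedRing 𝒜] (hpos : ∀ n : ℤ, n < 0 → 𝒜 n = ⊥) (h0 : IsField (GrLC.deg0 𝒜))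
  (m : HomogeneousIdeal 𝒜) (hm : GrLC.IsStarLocal 𝒜 m)
  (hmsp : m.toIdeal = Ideal.span (⋃ n ∈ Set.Ioi (0 : ℤ), (𝒜 n : Set R)))
  (n : ℕ) (hn : m.toIdeal.height = n) (I : GrLC.StarInjRes 𝒜 𝒜)

include hpos h0 hm hmsp hn in
/-- the graded duality of the top local cohomology of a Gorenstein graded ring, dimensions. -/
theorem gor_symm :
    ∃ c : ℤ, ∀ d, Module.finrank (deg0 𝒜) (I.Hcomp m n (c - d)) =
      Module.finrank (deg0 𝒜) (comp 𝒜 𝒜 d) := by
  obtain ⟨c, -, -, h⟩ := Groth.Agent.Lib.Helper20.SegGor.exists_isGorTop R 𝒜 hpos h0 m hm hmsp n hn I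
  refine ⟨c, fun d => ?_⟩
  rw [← h d]
  rfl

end B

end Groth.Agent.Lib.Helper20.SegDimOne
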