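import Mathlib
import Groth.Prelude.Def_GrLC
import Groth.Agent.Lib.Helper20.GrPolyIso
import Groth.Agent.Lib.Helper20.SegStd
import Groth.Agent.Lib.Helper20.SegCM2

/-!
# A one-dimensional standard graded algebra whose degree-one piece is a line is a polynomial ring
(helper20)
-/

set_option autoImplicit false
set_option linter.unusedSectionVars false
set_option linter.unusedVariables false
set_option linter.style.haveILetI false

universe u

open DirectSum GrLC Groth.Agent.Lib.Helper20.GrConv Groth.Agent.Lib.Helper20.SegBase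

namespace Groth.Agent.Lib.Helper20.SegDimOne

section P

variable {k : Type u} [Field k] {S : Type u} [CommRing S] [Nontrivial S] [Algebra k S]
  (ℬ : ℤ → Submodule k S) [GradedAlgebra ℬ]
  (hpos : ∀ n : ℤ, n < 0 → ℬ n = ⊥) (h0 : ℬ 0 = Submodule.span k {(1 : S)})
  (hstd : Ideal.span (⋃ n ∈ Set.Ioi (0 : ℤ), (ℬ n : Set S)) =
    Ideal.span ((ℬ 1 : Submodule k S) : Set S))
  [IsNoetherianRing S]

include hpos h0 hstd in
theorem aeval_surjective (y : S) (hy : y ∈ ℬ 1) (hspan : ∀ x ∈ ℬ 1, ∃ c : k, x = c • y) :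
    Function.Surjective (Polynomial.aeval (R := k) y) := by
  classical
  have hsurj := Groth.Agent.Lib.Helper20.GrPolyIso.phi_surjective (toAS ℬ)
    (fun _ : Fin 1 => y) (hposAS ℬ hpos) hstd (by
      intro x hx
      obtain ⟨c, rfl⟩ := hspan x hx
      refine ⟨fun _ => ⟨algebraMap k S c, SetLike.algebraMap_mem_graded ℬ c⟩, ?_⟩
      rw [Fin.sum_univ_one, Algebra.smul_def])
  have key : ∀ F : MvPolynomial (Fin 1) (deg0 (toAS ℬ)),
      ∃ q : Polynomial k, Polynomial.aeval (R := k) y q =
        Groth.Agent.Lib.Helper20.GrPolyIso.phi (toAS ℬ) (fun _ : Fin 1 => y) F := by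
    intro F
    induction F using MvPolynomial.induction_on with
    | C a =>
      have ha : (a : S) ∈ ℬ 0 := a.2
      rw [h0, Submodule.mem_span_singleton] at ha
      obtain ⟨c, hc⟩ := ha
      refine ⟨Polynomial.C c, ?_⟩
      unfold Groth.Agent.Lib.Helper20.GrPolyIso.phi
      rw [Polynomial.aeval_C, MvPolynomial.aeval_C, Algebra.algebraMap_eq_smul_one, hc]
      rfl
    | add p q hp hq =>
      obtain ⟨p', hp'⟩ := hp
      obtain ⟨q', hq'⟩ := hq
      exact ⟨p' + q', by rw [map_add, map_add, hp', hq']⟩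
    | mul_X p i hp =>
      obtain ⟨q, hq⟩ := hp
      refine ⟨q * Polynomial.X, ?_⟩
      rw [map_mul, map_mul, Polynomial.aeval_X, hq]
      unfold Groth.Agent.Lib.Helper20.GrPolyIso.phi
      rw [MvPolynomial.aeval_X]
  intro s
  obtain ⟨F, rfl⟩ := hsurj s
  exact key F

theorem aeval_injective (y : S) (hsurj : Function.Surjective (Polynomial.aeval (R := k) y))
    (hdim : ringKrullDim S = 1) : Function.Injective (Polynomial.aeval (R := k) y) := by
  classical
  rw [injective_iff_map_eq_zero]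
  intro f hf
  by_contra hne
  have hdimA : ringKrullDim (Polynomial k) = 1 := by
    rw [Polynomial.ringKrullDim_of_isNoetherianRing, ringKrullDim_eq_zero_of_field, zero_add]
  have hnzd : f ∈ nonZeroDivisors (Polynomial k) := mem_nonZeroDivisors_of_ne_zero hne
  have h1 := ringKrullDim_quotient_succ_le_of_nonZeroDivisor hnzd
  let ψ : (Polynomial k ⧸ Ideal.span {f}) →+* S :=
    Ideal.Quotient.lift (Ideal.span {f}) (Polynomial.aeval (R := k) y).toRingHom (by
      intro a ha
      obtain ⟨b, rfl⟩ := Ideal.mem_span_singleton'.1 ha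
      show Polynomial.aeval (R := k) y (b * f) = 0
      rw [map_mul, hf, mul_zero])
  have hψ : Function.Surjective ψ := by
    intro s
    obtain ⟨g, rfl⟩ := hsurj s
    exact ⟨Ideal.Quotient.mk _ g, rfl⟩
  have h2 := ringKrullDim_le_of_surjective
    (R := Polynomial k ⧸ Ideal.span {f}) (S := S) ψ hψ
  rw [hdim] at h2
  rw [hdimA] at h1
  have h3 : (1 : WithBot ℕ∞) + 1 ≤ 1 := le_trans (add_le_add_left h2 1) h1
  have h4 : ((1 + 1 : ℕ) : WithBot ℕ∞) ≤ ((1 : ℕ) : WithBot ℕ∞) := by
    push_cast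
    exact h3
  have h5 : 1 + 1 ≤ 1 := by exact_mod_cast h4
  omega

include hpos h0 hstd in
/-- a one-dimensional standard graded algebra over a field with `dim S_1 ≤ 1` is a polynomial
ring. -/
theorem nonempty_algEquiv_polynomial (hdim : ringKrullDim S = 1)
    (h1 : Module.finrank k (ℬ 1) ≤ 1) : Nonempty (S ≃ₐ[k] Polynomial k) := by
  classical
  haveI : Module.Finite k (ℬ 1) := finite_piece ℬ h0 1
  obtain ⟨v, hv⟩ := (finrank_le_one_iff (K := k) (V := ℬ 1)).1 h1
  have hspan : ∀ x ∈ ℬ 1, ∃ c : k, x = c • (v : S) := by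
    intro x hx
    obtain ⟨c, hc⟩ := hv ⟨x, hx⟩
    exact ⟨c, (congrArg Subtype.val hc).symm⟩
  have hs := aeval_surjective ℬ hpos h0 hstd (v : S) v.2 hspan
  have hi := aeval_injective (k := k) (v : S) hs hdim
  exact ⟨(AlgEquiv.ofBijective (Polynomial.aeval (R := k) (v : S)) ⟨hi, hs⟩).symm⟩

end P

end Groth.Agent.Lib.Helper20.SegDimOne
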