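import Mathlib
import Groth.Prelude.Def_GrLC
import Groth.Prelude.Def_GrSeg
import Groth.Agent.Lib.Helper20.SegDimOne2
import Groth.Agent.Lib.Helper20.SegFin5

/-!
# The Segre product with a polynomial ring in one variable (helper20)

If `S = k[y]` with `y` of degree one then `R # S ≅ R`.
-/

set_option autoImplicit false
set_option linter.unusedSectionVars false
set_option linter.unusedVariables false
set_option linter.style.haveILetI false

universe u

open DirectSum TensorProduct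

namespace Groth.Agent.Lib.Helper20.SegDimOne

section Y

variable {k : Type u} [Field k] {S : Type u} [CommRing S] [Algebra k S]
  (ℬ : ℤ → Submodule k S) [GradedAlgebra ℬ]
  (y : S) (hy : y ∈ ℬ 1) (hbij : Function.Bijective (Polynomial.aeval (R := k) y))

/-- evaluation at `y = 1`. -/
noncomputable def eps : S →ₐ[k] k :=
  (Polynomial.aeval (R := k) (1 : k)).comp
    ((AlgEquiv.ofBijective (Polynomial.aeval (R := k) y) hbij).symm : S →ₐ[k] Polynomial k)

theorem eps_aeval (p : Polynomial k) :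
    eps y hbij (Polynomial.aeval (R := k) y p) = Polynomial.aeval (R := k) (1 : k) p := by
  unfold eps
  rw [AlgHom.comp_apply]
  congr 1
  exact (AlgEquiv.ofBijective (Polynomial.aeval (R := k) y) hbij).symm_apply_apply p

theorem eps_y_pow (n : ℕ) : eps y hbij (y ^ n) = 1 := by
  have h := eps_aeval y hbij (Polynomial.X ^ n)
  simp only [map_pow, Polynomial.aeval_X, one_pow] at h
  rw [map_pow]
  exact h

include hy in
theorem y_pow_mem (n : ℕ) : y ^ n ∈ ℬ (n : ℤ) := by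
  have := SetLike.pow_mem_graded (A := ℬ) n hy
  rw [nsmul_eq_mul, mul_one] at this
  exact this

include hy in
/-- `S_n = k y^n`. -/
theorem eq_eps_smul (n : ℕ) (b : S) (hb : b ∈ ℬ (n : ℤ)) : b = eps y hbij b • y ^ n := by
  classical
  obtain ⟨p, rfl⟩ := hbij.2 b
  have h1 : Polynomial.aeval (R := k) y p =
      ((decompose ℬ (Polynomial.aeval (R := k) y p) (n : ℤ) : ℬ (n : ℤ)) : S) := by
    rw [decompose_of_mem_same ℬ hb]
  have h2 : ((decompose ℬ (Polynomial.aeval (R := k) y p) (n : ℤ) : ℬ (n : ℤ)) : S) =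
      p.coeff n • y ^ n := by
    rw [Polynomial.aeval_eq_sum_range, decompose_sum, DFinsupp.finsetSum_apply,
      AddSubmonoidClass.coe_finsetSum]
    rw [Finset.sum_eq_single n]
    · rw [decompose_of_mem_same ℬ ((ℬ (n : ℤ)).smul_mem _ (y_pow_mem ℬ y hy n))]
    · intro i _ hi
      rw [decompose_of_mem_ne ℬ ((ℬ (i : ℤ)).smul_mem _ (y_pow_mem ℬ y hy i))
        (by exact_mod_cast hi)]
    · intro hn
      have : p.coeff n = 0 := by
        apply Polynomial.coeff_eq_zero_of_natDegree_lt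
        rw [Finset.mem_range, not_lt] at hn
        omega
      rw [this, zero_smul, decompose_zero]
      rfl
  have h3 : Polynomial.aeval (R := k) y p = p.coeff n • y ^ n := h1.trans h2
  have h4 : eps y hbij (Polynomial.aeval (R := k) y p) = p.coeff n := by
    rw [h3, map_smul, eps_y_pow, smul_eq_mul, mul_one]
  rw [h4]
  exact h3

end Y

section Z

variable {k : Type u} [Field k] {R S T : Type u} [CommRing R] [CommRing S] [CommRing T]
  [Algebra k R] [Algebra k S] [Algebra k T]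
  (𝒜 : ℤ → Submodule k R) [GradedAlgebra 𝒜] (ℬ : ℤ → Submodule k S) [GradedAlgebra ℬ]
  (𝒯 : ℤ → Submodule k T) [GradedAlgebra 𝒯] (ψ : T →ₐ[k] R ⊗[k] S)
  (hT : GrSeg.IsSegreRing 𝒜 ℬ 𝒯 ψ)
  (hposR : ∀ n : ℤ, n < 0 → 𝒜 n = ⊥)
  (y : S) (hy : y ∈ ℬ 1) (hbij : Function.Bijective (Polynomial.aeval (R := k) y))

/-- the map `R ⊗ S → R`, `a ⊗ b ↦ ε(b) a`. -/
noncomputable def redMap : R ⊗[k] S →ₐ[k] R :=
  ((Algebra.TensorProduct.rid k k R) : R ⊗[k] k →ₐ[k] R).comp
    (Algebra.TensorProduct.map (AlgHom.id k R) (eps y hbij))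

theorem redMap_tmul (a : R) (b : S) :
    redMap (R := R) y hbij (a ⊗ₜ[k] b) = eps y hbij b • a := by
  unfold redMap
  rw [AlgHom.comp_apply, Algebra.TensorProduct.map_tmul]
  simp

include hy in
theorem redMap_spec (n : ℕ) (w : R ⊗[k] S) (hw : w ∈ GrSeg.segrePiece k 𝒜 ℬ (n : ℤ)) :
    redMap (R := R) y hbij w ∈ 𝒜 (n : ℤ) ∧ w = redMap (R := R) y hbij w ⊗ₜ[k] (y ^ n) := by
  unfold GrSeg.segrePiece at hw
  induction hw using Submodule.span_induction with
  | mem x hx =>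
    obtain ⟨a, ha, b, hb, rfl⟩ := hx
    rw [redMap_tmul]
    refine ⟨(𝒜 n).smul_mem _ ha, ?_⟩
    conv_lhs => rw [eq_eps_smul ℬ y hy hbij n b hb]
    rw [TensorProduct.tmul_smul, TensorProduct.smul_tmul']
  | zero =>
    rw [map_zero, TensorProduct.zero_tmul]
    exact ⟨zero_mem _, rfl⟩
  | add x z _ _ hx hz =>
    rw [map_add]
    refine ⟨add_mem hx.1 hz.1, ?_⟩
    rw [TensorProduct.add_tmul, ← hx.2, ← hz.2]
  | smul c x _ hx =>
    rw [map_smul]
    refine ⟨(𝒜 n).smul_mem _ hx.1, ?_⟩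
    rw [← TensorProduct.smul_tmul', ← hx.2]

/-- the isomorphism `R # k[y] → R`. -/
noncomputable def redT : T →ₐ[k] R := (redMap (R := R) y hbij).comp ψ

include hT hposR hy in
theorem redT_mem (n : ℤ) (t : T) (ht : t ∈ 𝒯 n) : redT ψ y hbij t ∈ 𝒜 n := by
  by_cases hn : n < 0
  · have h1 := Groth.Agent.Lib.Helper20.SegBase.segre_pos 𝒜 ℬ 𝒯 ψ hT hposR n hn
    rw [h1, Submodule.mem_bot] at ht
    rw [ht, map_zero]
    exact zero_mem _
  · obtain ⟨N, rfl⟩ := Int.eq_ofNat_of_zero_le (not_lt.1 hn)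
    have h1 : ψ t ∈ (𝒯 (N : ℤ)).map ψ.toLinearMap := ⟨t, ht, rfl⟩
    rw [hT.2] at h1
    exact (redMap_spec 𝒜 ℬ y hy hbij N _ h1).1

omit [Field k] in
/-- a graded linear map commutes with the projections. -/
theorem map_decompose {k : Type u} [CommRing k] {R T : Type u} [CommRing R] [CommRing T]
    [Algebra k R] [Algebra k T] (𝒜 : ℤ → Submodule k R) [GradedAlgebra 𝒜]
    (𝒯 : ℤ → Submodule k T) [GradedAlgebra 𝒯] (f : T →ₗ[k] R)
    (hf : ∀ n, ∀ t ∈ 𝒯 n, f t ∈ 𝒜 n) (t : T) (n : ℤ) :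
    f ((decompose 𝒯 t n : 𝒯 n) : T) = ((decompose 𝒜 (f t) n : 𝒜 n) : R) := by
  classical
  conv_rhs => rw [← DirectSum.sum_support_decompose 𝒯 t]
  rw [map_sum, decompose_sum, DFinsupp.finsetSum_apply, AddSubmonoidClass.coe_finsetSum]
  rw [Finset.sum_eq_single n]
  · rw [decompose_of_mem_same 𝒜 (hf n _ (SetLike.coe_mem _))]
  · intro i _ hi
    rw [decompose_of_mem_ne 𝒜 (hf i _ (SetLike.coe_mem _)) hi]
  · intro hn
    rw [DFinsupp.notMem_support_iff] at hn
    rw [hn, ZeroMemClass.coe_zero, map_zero, decompose_zero]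
    rfl

include hT hposR hy in
theorem redT_injective : Function.Injective (redT (R := R) ψ y hbij) := by
  classical
  rw [injective_iff_map_eq_zero]
  intro t ht
  have hcomp : ∀ n : ℤ, ((decompose 𝒯 t n : 𝒯 n) : T) = 0 := by
    intro n
    have h1 := map_decompose 𝒜 𝒯 (redT (R := R) ψ y hbij).toLinearMap
      (fun n t ht => redT_mem 𝒜 ℬ 𝒯 ψ hT hposR y hy hbij n t ht) t n
    rw [AlgHom.toLinearMap_apply, AlgHom.toLinearMap_apply, ht, decompose_zero] at h1
    have h2 : redT (R := R) ψ y hbij ((decompose 𝒯 t n : 𝒯 n) : T) = 0 := h1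
    by_cases hn : n < 0
    · have h3 := Groth.Agent.Lib.Helper20.SegBase.segre_pos 𝒜 ℬ 𝒯 ψ hT hposR n hn
      have h4 : ((decompose 𝒯 t n : 𝒯 n) : T) ∈ (⊥ : Submodule k T) :=
        h3.le (SetLike.coe_mem _)
      exact (Submodule.mem_bot k).1 h4
    · obtain ⟨N, rfl⟩ := Int.eq_ofNat_of_zero_le (not_lt.1 hn)
      have h3 : ψ ((decompose 𝒯 t (N : ℤ) : 𝒯 (N : ℤ)) : T) ∈
          (𝒯 (N : ℤ)).map ψ.toLinearMap := ⟨_, SetLike.coe_mem _, rfl⟩
      rw [hT.2] at h3
      have h4 := (redMap_spec 𝒜 ℬ y hy hbij N _ h3).2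
      have h5 : redMap (R := R) y hbij (ψ ((decompose 𝒯 t (N : ℤ) : 𝒯 (N : ℤ)) : T)) = 0 := h2
      rw [h5, TensorProduct.zero_tmul] at h4
      exact hT.1 (h4.trans (map_zero ψ).symm)
  rw [← DirectSum.sum_support_decompose 𝒯 t]
  exact Finset.sum_eq_zero fun i _ => hcomp i

include hT hposR hy in
theorem redT_surjective : Function.Surjective (redT (R := R) ψ y hbij) := by
  classical
  intro a
  rw [← DirectSum.sum_support_decompose 𝒜 a]
  have : ∀ i : ℤ, ∃ t, redT (R := R) ψ y hbij t = ((decompose 𝒜 a i : 𝒜 i) : R) := by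
    intro i
    by_cases hi : i < 0
    · refine ⟨0, ?_⟩
      have h4 : ((decompose 𝒜 a i : 𝒜 i) : R) ∈ (⊥ : Submodule k R) :=
        (hposR i hi).le (SetLike.coe_mem _)
      rw [(Submodule.mem_bot k).1 h4, map_zero]
    · obtain ⟨N, rfl⟩ := Int.eq_ofNat_of_zero_le (not_lt.1 hi)
      have h1 : ((decompose 𝒜 a (N : ℤ) : 𝒜 (N : ℤ)) : R) ⊗ₜ[k] (y ^ N) ∈
          GrSeg.segrePiece k 𝒜 ℬ (N : ℤ) :=
        Submodule.subset_span ⟨_, SetLike.coe_mem _, _, y_pow_mem ℬ y hy N, rfl⟩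
      rw [← hT.2] at h1
      obtain ⟨t, -, ht⟩ := h1
      refine ⟨t, ?_⟩
      have h2 : ψ t = ((decompose 𝒜 a (N : ℤ) : 𝒜 (N : ℤ)) : R) ⊗ₜ[k] (y ^ N) := ht
      show redMap (R := R) y hbij (ψ t) = _
      rw [h2, redMap_tmul, eps_y_pow, one_smul]
  choose f hf using this
  refine ⟨∑ i ∈ (decompose 𝒜 a).support, f i, ?_⟩
  rw [map_sum]
  exact Finset.sum_congr rfl fun i _ => hf i

end Z

end Groth.Agent.Lib.Helper20.SegDimOne
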