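import Mathlib
import Groth.Agent.Lib.Helper20.SegGor5
import Groth.Agent.Lib.Helper20.GrGorVer6

/-!
# Segre products: from a Gorenstein Segre product to its factors (helper20)
-/

set_option autoImplicit false
set_option linter.unusedSectionVars false
set_option linter.unusedVariables false
set_option linter.style.haveILetI false

universe u

open DirectSum GrLC Groth.Agent.Lib.Helper20.GrLCBasic Groth.Agent.Lib.Helper20.GrLCQuot
  Groth.Agent.Lib.Helper20.GrVeronese Groth.Agent.Lib.Helper20.GrVerRing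
  Groth.Agent.Lib.Helper20.GrFieldLocal Groth.Agent.Lib.Helper20.GrVerTop
  Groth.Agent.Lib.Helper20.GrVerHull Groth.Agent.Lib.Helper20.GrHullDual
  Groth.Agent.Lib.Helper20.GrCanonShift Groth.Agent.Lib.Helper20.GrHullChar

namespace Groth.Agent.Lib.Helper20.SegGor

section A

variable (R : Type u) [CommRing R] [LocCoh.IsGorensteinRing R] (𝒜 : ℤ → AddSubgroup R)
  [GradedRing 𝒜] (hpos : ∀ n : ℤ, n < 0 → 𝒜 n = ⊥) (h0 : IsField (GrLC.deg0 𝒜))
  (m : HomogeneousIdeal 𝒜) (hm : GrLC.IsStarLocal 𝒜 m)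
  (hmsp : m.toIdeal = Ideal.span (⋃ n ∈ Set.Ioi (0 : ℤ), (𝒜 n : Set R)))
  (n : ℕ) (hn : m.toIdeal.height = n) (I : GrLC.StarInjRes 𝒜 𝒜)

include hpos h0 hm hmsp hn in
set_option maxHeartbeats 1000000 in
/-- **the top graded local cohomology of a Gorenstein graded ring over a field.** -/
theorem exists_isGorTop_rnd :
    ∃ a : ℤ, endDeg (I.Hgr m n) = ((a : WithTop ℤ) : WithBot (WithTop ℤ)) ∧
      IsGorTop 𝒜 (I.Hgr m n) a ∧
      ∀ t, ∀ r ∈ 𝒜 t, r ≠ 0 → ∃ x ∈ I.Hgr m n (a - t), r • x ≠ 0 := by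
  classical
  haveI : IsNoetherianRing R := inferInstance
  letI : DirectSum.Decomposition (GrLC.quotGr 𝒜 m) :=
    (isInternal_quotGr 𝒜 (m.toIdeal : Submodule R R) m.isHomogeneous).chooseDecomposition
  letI : SetLike.GradedSMul 𝒜 (GrLC.quotGr 𝒜 m) :=
    quotGr_gradedSMul (𝒜 := 𝒜) (𝓧 := 𝒜) (P := (m.toIdeal : Submodule R R))
  obtain ⟨E', e, he⟩ := Groth.Agent.Lib.Helper20.GrLCHull.exists_starInjHull 𝒜 (GrLC.quotGr 𝒜 m)
  obtain ⟨g₀, φ₀, hφ₀⟩ := Groth.Agent.S13244.result R 𝒜 m hm n hn I E'.carrier E'.gr e he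
  letI := Groth.Agent.Lib.Helper20.GrLES2.decH I m n
  have hgr : IsGrHom (I.Hgr m n) (shiftGr E'.gr g₀) φ₀.toLinearMap := fun j x hx => hφ₀ j x hx
  have hsymm : ∀ (i : ℤ) (y : E'.carrier), y ∈ E'.gr (i + g₀) → φ₀.symm y ∈ I.Hgr m n i := by
    intro i y hy
    refine mem_of_map_mem (I.Hgr m n) (shiftGr E'.gr g₀) φ₀.toLinearMap hgr φ₀.injective ?_
    change φ₀ (φ₀.symm y) ∈ E'.gr (i + g₀)
    rw [φ₀.apply_symm_apply]
    exact hy
  have hmne : m.toIdeal ≠ ⊤ := ne_top 𝒜 hpos h0 m hmsp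
  have hmpos : ∀ n : ℤ, 0 < n → ∀ x ∈ 𝒜 n, x ∈ m.toIdeal :=
    fun n hn x hx => mem_of_pos 𝒜 m hmsp hn hx
  have he1 : e 1 ≠ 0 := by
    intro h6
    have h7 : (1 : R ⧸ m.toIdeal) = 0 := he.injective (by rw [h6, map_zero])
    have h8 : Ideal.Quotient.mk m.toIdeal 1 = 0 := h7
    rw [Ideal.Quotient.eq_zero_iff_mem] at h8
    exact hmne ((Ideal.eq_top_iff_one _).2 h8)
  have h6 : e 1 ∈ E'.gr (-g₀ + g₀) := by
    rw [neg_add_cancel]
    exact range_le_zero' 𝒜 hpos m hmsp E'.gr e he 1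
  have hu : φ₀.symm (e 1) ∈ I.Hgr m n (-g₀) := hsymm (-g₀) (e 1) h6
  have hu0 : φ₀.symm (e 1) ≠ 0 := by
    intro h8
    apply he1
    have := congrArg φ₀ h8
    rwa [φ₀.apply_symm_apply, map_zero] at this
  have htop : ∀ j, -g₀ < j → I.Hgr m n j = ⊥ := by
    intro j hj
    rw [eq_bot_iff]
    intro x hx
    have h5 := hφ₀ j x hx
    rw [hull_eq_bot_of_pos 𝒜 hpos m hmpos E'.gr e he (j + g₀) (by omega), AddSubgroup.mem_bot]
      at h5
    rw [AddSubgroup.mem_bot]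
    apply φ₀.injective
    rw [map_zero]
    exact h5
  refine ⟨-g₀, ?_, ⟨htop, ⟨φ₀.symm (e 1), hu, hu0, ?_⟩, ?_⟩, ?_⟩
  · -- the a-invariant
    apply le_antisymm
    · rw [Groth.Agent.Lib.Helper20.GrReg1.endDeg_le_iff]
      intro d hd
      exact htop d hd
    · apply Groth.Agent.Lib.Helper20.GrLES2.le_endDeg
      exact Groth.Agent.Lib.Helper20.GrAinv.ne_bot_of_mem hu hu0
  · intro x hx
    have h5 := hφ₀ (-g₀) x hx
    rw [neg_add_cancel] at h5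
    obtain ⟨c, hc, hcx⟩ := exists_smul_eq_of_mem_zero 𝒜 E'.gr hpos h0 m hmsp e he h5
    refine ⟨c, hc, ?_⟩
    apply φ₀.injective
    rw [map_smul, φ₀.apply_symm_apply]
    exact hcx
  · intro j x hx hx0
    have h5 := hφ₀ j x hx
    have hy0 : φ₀ x ≠ 0 := by
      intro h
      apply hx0
      apply φ₀.injective
      rw [map_zero]
      exact h
    obtain ⟨r, hr, hry, -⟩ := exists_smul_ne_zero 𝒜 hpos m hmsp E'.gr e he h5 hy0
    have hr' : r ∈ 𝒜 (-g₀ - j) := by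
      have : -g₀ - j = -(j + g₀) := by ring
      rwa [this]
    refine ⟨r, hr', ?_⟩
    intro h
    apply hry
    rw [← map_smul, h, map_zero]
  · intro t r hr hr0
    obtain ⟨x, hx, hrx⟩ := exists_smul_ne_zero' 𝒜 hpos h0 m hmsp E'.gr e he hr hr0
    refine ⟨φ₀.symm x, hsymm (-g₀ - t) x (by
      have hd : -g₀ - t + g₀ = -t := by ring
      rw [hd]
      exact hx), ?_⟩
    intro h
    apply hrx
    have := congrArg φ₀ h
    rwa [map_smul, φ₀.apply_symm_apply, map_zero] at this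

end A
section Cr

open Groth.Agent.Lib.Helper20.GrGorVer3

variable {R : Type u} [CommRing R] [IsNoetherianRing R] (𝒜 : ℤ → AddSubgroup R)
  [GradedRing 𝒜] (hpos : ∀ n : ℤ, n < 0 → 𝒜 n = ⊥) (h0 : IsField (GrLC.deg0 𝒜))
  (m : HomogeneousIdeal 𝒜) (hm : GrLC.IsStarLocal 𝒜 m)
  (hmsp : m.toIdeal = Ideal.span (⋃ n ∈ Set.Ioi (0 : ℤ), (𝒜 n : Set R)))
  (n : ℕ) (F : GrLC.StarInjRes 𝒜 𝒜)

include hpos h0 hm hmsp in
set_option maxHeartbeats 1000000 in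
/-- **a Gorenstein criterion with two-sided nondegeneracy.** -/
theorem isGorensteinRing_of_isGorTop_rnd (hvan : ∀ p, p ≠ n → Subsingleton (F.H m p)) (a : ℤ)
    (hG : IsGorTop 𝒜 (F.Hgr m n) a)
    (hrnd : ∀ t, ∀ c ∈ 𝒜 t, c ≠ 0 → ∃ h ∈ F.Hgr m n (a - t), c • h ≠ 0) :
    LocCoh.IsGorensteinRing R := by
  classical
  letI : DirectSum.Decomposition (GrLC.quotGr 𝒜 m) :=
    (isInternal_quotGr 𝒜 (m.toIdeal : Submodule R R) m.isHomogeneous).chooseDecomposition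
  letI : SetLike.GradedSMul 𝒜 (GrLC.quotGr 𝒜 m) :=
    quotGr_gradedSMul (𝒜 := 𝒜) (𝓧 := 𝒜) (P := (m.toIdeal : Submodule R R))
  obtain ⟨E', e, he⟩ := Groth.Agent.Lib.Helper20.GrLCHull.exists_starInjHull 𝒜 (GrLC.quotGr 𝒜 m)
  letI := Groth.Agent.Lib.Helper20.GrLES2.decH F m n
  letI : Field (deg0 𝒜) := h0.toField
  obtain ⟨u, hu, hu0, hone⟩ := hG.gen
  obtain ⟨ρ, hρ, hρu⟩ := exists_rho 𝒜 hpos h0 m hmsp E'.gr e he (F.Hgr m n) a u hu hu0 hG.top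
  refine isGorensteinRing_of_isGorTop 𝒜 hpos h0 m hm hmsp n F hvan a hG ?_
  intro d
  have htj : d + (a - d) = a := by ring
  have hnd2 : ∀ h ∈ F.Hgr m n (a - d), h ≠ 0 → ∃ c ∈ 𝒜 d, c • h ≠ 0 := by
    intro h hh hh0
    obtain ⟨r, hr, hne⟩ := hG.nd (a - d) h hh hh0
    have hidx : a - (a - d) = d := by ring
    rw [hidx] at hr
    exact ⟨r, hr, hne⟩
  have hnd1 : ∀ c ∈ 𝒜 d, c ≠ 0 → ∃ h ∈ F.Hgr m n (a - d), c • h ≠ 0 := hrnd d
  obtain ⟨hfin, -⟩ := finite_of_flip_injective 𝒜 hpos h0 m hmsp E'.gr e he (F.Hgr m n) a u hone ρ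
    hρ hρu htj hnd2
  haveI := hfin
  haveI : IsNoetherian R R := inferInstance
  haveI hV : IsNoetherian (deg0 𝒜) (comp 𝒜 𝒜 d) :=
    Groth.Agent.Lib.Helper20.GrFin1.isNoetherian_comp 𝒜 𝒜 d
  haveI : Module.Finite (deg0 𝒜) (comp 𝒜 𝒜 d) := Module.IsNoetherian.finite _ _
  have hL : Module.finrank (deg0 𝒜) (comp 𝒜 E'.gr 0) = 1 :=
    finrank_comp_zero 𝒜 E'.gr hpos h0 m hmsp e he
  haveI : Module.Finite (deg0 𝒜) (comp 𝒜 E'.gr 0) := Module.finite_of_finrank_eq_succ hL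
  have hiA := pairA_injective 𝒜 hpos h0 m hmsp E'.gr e he (F.Hgr m n) a u hone ρ hρ hρu htj hnd1
  have h1 := LinearMap.finrank_le_finrank_of_injective hiA
  rwa [Module.finrank_linearMap, hL, mul_one] at h1

end Cr

end Groth.Agent.Lib.Helper20.SegGor
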