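import Mathlib
import Groth.Agent.Lib.Helper20.SegGorConv1

/-!
# Segre products: the factors of a Segre product of Gorenstein top type (helper20)
-/

set_option autoImplicit false
set_option linter.unusedSectionVars false
set_option linter.unusedVariables false
set_option linter.style.haveILetI false

universe u

open TensorProduct DirectSum GrLC Groth.Agent.Lib.Helper20.GrConv Groth.Agent.Lib.Helper20.SegTP
  Groth.Agent.Lib.Helper20.SegHilb Groth.Agent.Lib.Helper20.SegGr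

namespace Groth.Agent.Lib.Helper20.SegGor

attribute [local instance] actModule smulCommClass_base isScalarTower_base

section swap

variable {k : Type u} [Field k] {R S T : Type u} [CommRing R] [CommRing S] [CommRing T]
  [Algebra k R] [Algebra k S] [Algebra k T]
  (𝒜 : ℤ → Submodule k R) [GradedAlgebra 𝒜] (ℬ : ℤ → Submodule k S) [GradedAlgebra ℬ]
  (𝒯 : ℤ → Submodule k T) [GradedAlgebra 𝒯] (ψ : T →ₐ[k] R ⊗[k] S)
  (hT : GrSeg.IsSegreRing 𝒜 ℬ 𝒯 ψ)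
  {X : Type u} [AddCommGroup X] [Module R X] [Module k X] [IsScalarTower k R X]
  (𝒳 : ℤ → AddSubgroup X)
  {Y : Type u} [AddCommGroup Y] [Module S Y] [Module k Y] [IsScalarTower k S Y]
  (𝒴 : ℤ → AddSubgroup Y)
  {P : Type u} [AddCommGroup P] [Module T P] [Module k P] [IsScalarTower k T P]
  (𝒬 : ℤ → AddSubgroup P) [DirectSum.Decomposition 𝒬]
  (φ : P →ₗ[k] X ⊗[k] Y) (hP : GrSeg.IsSegreMod ψ 𝒳 𝒴 𝒬 φ)

/-- the swapped presentation of the Segre product. -/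
noncomputable def ψswap : T →ₐ[k] S ⊗[k] R :=
  (Algebra.TensorProduct.comm k R S).toAlgHom.comp ψ

lemma ψswap_apply (t : T) : ψswap ψ t = Algebra.TensorProduct.comm k R S (ψ t) := rfl

/-- the swapped presentation of a Segre module. -/
noncomputable def φswap : P →ₗ[k] Y ⊗[k] X :=
  (TensorProduct.comm k X Y).toLinearMap ∘ₗ φ

omit [DirectSum.Decomposition 𝒬] in
lemma φswap_apply (p : P) : φswap φ p = TensorProduct.comm k X Y (φ p) := rfl

lemma comm_act (z : R ⊗[k] S) (w : X ⊗[k] Y) :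
    TensorProduct.comm k X Y (GrSeg.act k R S X Y z w) =
      GrSeg.act k S R Y X (Algebra.TensorProduct.comm k R S z) (TensorProduct.comm k X Y w) := by
  induction z using TensorProduct.induction_on with
  | zero => simp
  | add z z' hz hz' =>
    rw [map_add, LinearMap.add_apply, map_add, hz, hz', map_add, map_add, LinearMap.add_apply]
  | tmul r s =>
    induction w using TensorProduct.induction_on with
    | zero => simp
    | add w w' hw hw' => rw [map_add, map_add, hw, hw', map_add, map_add]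
    | tmul x y =>
      rw [GrSeg.act_tmul, TensorProduct.comm_tmul, Algebra.TensorProduct.comm_tmul,
        TensorProduct.comm_tmul, GrSeg.act_tmul]

lemma map_comm_segrePiece (n : ℤ) :
    (GrSeg.segrePiece k 𝒳 𝒴 n).map (TensorProduct.comm k X Y).toLinearMap =
      GrSeg.segrePiece k 𝒴 𝒳 n := by
  unfold GrSeg.segrePiece
  rw [Submodule.map_span]
  congr 1
  ext w
  constructor
  · rintro ⟨_, ⟨a, ha, b, hb, rfl⟩, rfl⟩
    exact ⟨b, hb, a, ha, rfl⟩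
  · rintro ⟨b, hb, a, ha, rfl⟩
    exact ⟨a ⊗ₜ[k] b, ⟨a, ha, b, hb, rfl⟩, rfl⟩

include hT in
theorem isSegreRing_swap : GrSeg.IsSegreRing ℬ 𝒜 𝒯 (ψswap ψ) := by
  refine ⟨?_, ?_⟩
  · intro t t' h
    apply hT.1
    exact (Algebra.TensorProduct.comm k R S).injective h
  · intro n
    apply le_antisymm
    · rintro _ ⟨t, ht, rfl⟩
      have h1 : ψ t ∈ GrSeg.segrePiece k 𝒜 ℬ n := by
        rw [← hT.2 n]
        exact ⟨t, ht, rfl⟩
      change Algebra.TensorProduct.comm k R S (ψ t) ∈ GrSeg.segrePiece k ℬ 𝒜 n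
      refine Submodule.span_induction
        (p := fun z _ => Algebra.TensorProduct.comm k R S z ∈ GrSeg.segrePiece k ℬ 𝒜 n)
        ?_ ?_ ?_ ?_ h1
      · rintro _ ⟨a, ha, b, hb, rfl⟩
        rw [Algebra.TensorProduct.comm_tmul]
        exact Submodule.subset_span ⟨b, hb, a, ha, rfl⟩
      · rw [map_zero]
        exact zero_mem _
      · intro z z' _ _ h h'
        rw [map_add]
        exact add_mem h h'
      · intro l z _ h
        rw [map_smul]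
        exact Submodule.smul_mem _ l h
    · apply Submodule.span_le.2
      rintro _ ⟨b, hb, a, ha, rfl⟩
      have h1 : a ⊗ₜ[k] b ∈ (𝒯 n).map ψ.toLinearMap := by
        rw [hT.2 n]
        exact Submodule.subset_span ⟨a, ha, b, hb, rfl⟩
      obtain ⟨t, ht, htψ⟩ := h1
      refine ⟨t, ht, ?_⟩
      change Algebra.TensorProduct.comm k R S (ψ t) = b ⊗ₜ[k] a
      have htψ' : ψ t = a ⊗ₜ[k] b := htψ
      rw [htψ', Algebra.TensorProduct.comm_tmul]

include hP in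
theorem isSegreMod_swap : GrSeg.IsSegreMod (ψswap ψ) 𝒴 𝒳 𝒬 (φswap φ) := by
  refine ⟨?_, ?_, ?_⟩
  · intro p p' h
    apply hP.injective
    exact (TensorProduct.comm k X Y).injective h
  · intro n
    have h1 : (φswap φ) '' (𝒬 n : Set P) =
        (TensorProduct.comm k X Y) '' (φ '' (𝒬 n : Set P)) := by
      rw [Set.image_image]
      rfl
    rw [h1, hP.image_piece n, ← map_comm_segrePiece 𝒳 𝒴 n]
    rfl
  · intro t p
    rw [φswap_apply, hP.map_smul, comm_act]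
    rfl

end swap

section left

variable {k : Type u} [Field k] {R S T : Type u} [CommRing R] [CommRing S] [CommRing T]
  [Algebra k R] [Algebra k S] [Algebra k T]
  (𝒜 : ℤ → Submodule k R) [GradedAlgebra 𝒜] (ℬ : ℤ → Submodule k S) [GradedAlgebra ℬ]
  (𝒯 : ℤ → Submodule k T) [GradedAlgebra 𝒯] (ψ : T →ₐ[k] R ⊗[k] S)
  (hT : GrSeg.IsSegreRing 𝒜 ℬ 𝒯 ψ)
  (h0T : 𝒯 0 = Submodule.span k {(1 : T)})
  {X : Type u} [AddCommGroup X] [Module R X] [Module k X] [IsScalarTower k R X]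
  (𝒳 : ℤ → AddSubgroup X)
  {Y : Type u} [AddCommGroup Y] [Module S Y] [Module k Y] [IsScalarTower k S Y]
  (𝒴 : ℤ → AddSubgroup Y)
  {P : Type u} [AddCommGroup P] [Module T P] [Module k P] [IsScalarTower k T P]
  (𝒬 : ℤ → AddSubgroup P) [DirectSum.Decomposition 𝒬]
  (φ : P →ₗ[k] X ⊗[k] Y) (hP : GrSeg.IsSegreMod ψ 𝒳 𝒴 𝒬 φ) (c : ℤ)
  (GT : IsGorTop (toAS 𝒯) 𝒬 c)

include hP in
lemma mem_segrePiece_of_mem (j : ℤ) (p : P) (hp : p ∈ 𝒬 j) :
    φ p ∈ GrSeg.segrePiece k 𝒳 𝒴 j := by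
  have : φ p ∈ (GrSeg.segrePiece k 𝒳 𝒴 j : Set (X ⊗[k] Y)) := by
    rw [← hP.image_piece j]
    exact ⟨p, hp, rfl⟩
  exact this

include hP in
lemma exists_of_mem_segrePiece (j : ℤ) (w : X ⊗[k] Y) (hw : w ∈ GrSeg.segrePiece k 𝒳 𝒴 j) :
    ∃ p ∈ 𝒬 j, φ p = w := by
  have : w ∈ (GrSeg.segrePiece k 𝒳 𝒴 j : Set (X ⊗[k] Y)) := hw
  rw [← hP.image_piece j] at this
  exact this

include h0T hP GT in
/-- the top piece of the left factor is spanned by one element. -/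
theorem gen_left : ∃ u ∈ 𝒳 c, u ≠ 0 ∧ ∀ x ∈ 𝒳 c, ∃ cc ∈ toAS 𝒜 0, x = cc • u := by
  classical
  obtain ⟨w, hw, hw0, hone⟩ := GT.gen
  have hφw0 : φ w ≠ 0 := fun h => hw0 (hP.injective (h.trans (map_zero φ).symm))
  have hφw := mem_segrePiece_of_mem ψ 𝒳 𝒴 𝒬 φ hP c w hw
  obtain ⟨u, hu, hu0⟩ : ∃ u ∈ 𝒳 c, u ≠ 0 := by
    by_contra hcon
    push_neg at hcon
    apply hφw0
    have h2 : GrSeg.segrePiece k 𝒳 𝒴 c ≤ ⊥ := by
      apply Submodule.span_le.2
      rintro _ ⟨x', hx', y', hy', rfl⟩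
      rw [hcon x' hx', zero_tmul]
      exact Submodule.zero_mem _
    exact (Submodule.mem_bot k).1 (h2 hφw)
  obtain ⟨v, hv, hv0⟩ : ∃ v ∈ 𝒴 c, v ≠ 0 := by
    by_contra hcon
    push_neg at hcon
    apply hφw0
    have h2 : GrSeg.segrePiece k 𝒳 𝒴 c ≤ ⊥ := by
      apply Submodule.span_le.2
      rintro _ ⟨x', hx', y', hy', rfl⟩
      rw [hcon y' hy', tmul_zero]
      exact Submodule.zero_mem _
    exact (Submodule.mem_bot k).1 (h2 hφw)
  have hscal : ∀ x ∈ 𝒳 c, ∃ l : k, x ⊗ₜ[k] v = l • φ w := by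
    intro x hx
    obtain ⟨p, hp, hpx⟩ := exists_of_mem_segrePiece ψ 𝒳 𝒴 𝒬 φ hP c (x ⊗ₜ[k] v)
      (Submodule.subset_span ⟨x, hx, v, hv, rfl⟩)
    obtain ⟨cc, hcc, rfl⟩ := hone p hp
    have hcc1 : cc ∈ 𝒯 0 := hcc
    rw [h0T, Submodule.mem_span_singleton] at hcc1
    obtain ⟨l, rfl⟩ := hcc1
    refine ⟨l, ?_⟩
    rw [← hpx, smul_assoc, one_smul, map_smul]
  refine ⟨u, hu, hu0, ?_⟩
  intro x hx
  obtain ⟨l, hl⟩ := hscal x hx
  obtain ⟨l', hl'⟩ := hscal u hu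
  have hl'0 : l' ≠ 0 := by
    rintro rfl
    rw [zero_smul] at hl'
    exact tmul_ne_zero' hu0 hv0 hl'
  refine ⟨algebraMap k R (l / l'), SetLike.algebraMap_mem_graded 𝒜 _, ?_⟩
  rw [algebraMap_smul]
  by_contra hne
  have h1 : (x - (l / l') • u) ⊗ₜ[k] v = 0 := by
    rw [sub_tmul, ← TensorProduct.smul_tmul', hl, hl', smul_smul, div_mul_cancel₀ l hl'0, sub_self]
  exact tmul_ne_zero' (sub_ne_zero.2 hne) hv0 h1

include hT hP GT in
/-- left nondegeneracy of the left factor. -/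
theorem nd_left (j : ℤ) (hY : 𝒴 j ≠ ⊥) (x : X) (hx : x ∈ 𝒳 j) (hx0 : x ≠ 0) :
    ∃ α ∈ 𝒜 (c - j), α • x ≠ 0 := by
  classical
  obtain ⟨y, hy, hy0⟩ := Groth.Agent.Lib.Helper20.GrAinv.exists_ne_zero_of_ne_bot hY
  obtain ⟨p, hp, hpxy⟩ := exists_of_mem_segrePiece ψ 𝒳 𝒴 𝒬 φ hP j (x ⊗ₜ[k] y)
    (Submodule.subset_span ⟨x, hx, y, hy, rfl⟩)
  have hp0 : p ≠ 0 := by
    rintro rfl
    rw [map_zero] at hpxy
    exact tmul_ne_zero' hx0 hy0 hpxy.symm
  obtain ⟨t, ht, htp⟩ := GT.nd j p hp hp0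
  by_contra hcon
  push_neg at hcon
  apply htp
  apply hP.injective
  rw [map_zero, hP.map_smul, hpxy]
  have hψt : ψ t ∈ GrSeg.segrePiece k 𝒜 ℬ (c - j) := by
    rw [← hT.2 (c - j)]
    exact ⟨t, ht, rfl⟩
  have key : ∀ z ∈ GrSeg.segrePiece k 𝒜 ℬ (c - j),
      GrSeg.act k R S X Y z (x ⊗ₜ[k] y) = 0 := by
    intro z hz
    refine Submodule.span_induction
      (p := fun z _ => GrSeg.act k R S X Y z (x ⊗ₜ[k] y) = 0) ?_ ?_ ?_ ?_ hz
    · rintro _ ⟨α, hα, β, hβ, rfl⟩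
      rw [GrSeg.act_tmul, hcon α hα, zero_tmul]
    · rw [map_zero, LinearMap.zero_apply]
    · intro z z' _ _ h h'
      rw [map_add, LinearMap.add_apply, h, h', add_zero]
    · intro l z _ h
      rw [map_smul, LinearMap.smul_apply, h, smul_zero]
  exact key _ hψt

include hT hP in
/-- right nondegeneracy of the left factor. -/
theorem rnd_left (hrT : ∀ t, ∀ τ ∈ 𝒯 t, τ ≠ 0 → ∃ p ∈ 𝒬 (c - t), τ • p ≠ 0) (t : ℤ)
    (β : S) (hβ : β ∈ ℬ t) (hβ0 : β ≠ 0) (α : R) (hα : α ∈ 𝒜 t) (hα0 : α ≠ 0) :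
    ∃ x ∈ 𝒳 (c - t), α • x ≠ 0 := by
  classical
  have hαβ : α ⊗ₜ[k] β ∈ (𝒯 t).map ψ.toLinearMap := by
    rw [hT.2 t]
    exact Submodule.subset_span ⟨α, hα, β, hβ, rfl⟩
  obtain ⟨τ, hτ, hτψ⟩ := hαβ
  have hτψ' : ψ τ = α ⊗ₜ[k] β := hτψ
  have hτ0 : τ ≠ 0 := by
    rintro rfl
    rw [map_zero] at hτψ'
    exact tmul_ne_zero' hα0 hβ0 hτψ'.symm
  obtain ⟨p, hp, hτp⟩ := hrT t τ hτ hτ0
  by_contra hcon
  push_neg at hcon
  apply hτp
  apply hP.injective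
  rw [map_zero, hP.map_smul, hτψ']
  have hφp := mem_segrePiece_of_mem ψ 𝒳 𝒴 𝒬 φ hP (c - t) p hp
  refine Submodule.span_induction
    (p := fun w _ => GrSeg.act k R S X Y (α ⊗ₜ[k] β) w = 0) ?_ ?_ ?_ ?_ hφp
  · rintro _ ⟨x, hx, y, hy, rfl⟩
    rw [GrSeg.act_tmul, hcon x hx, zero_tmul]
  · rw [map_zero]
  · intro w w' _ _ h h'
    rw [map_add, h, h', add_zero]
  · intro l w _ h
    rw [map_smul, h, smul_zero]

end left

end Groth.Agent.Lib.Helper20.SegGor
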