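import Mathlib
import Groth.Agent.Lib.Helper20.SegGorConv2
import Groth.Agent.S18648
import Groth.Agent.S0341

/-!
# Goto–Watanabe: if `R # S` is Gorenstein then `R` and `S` are Gorenstein with the same
`a`-invariant (helper20)
-/

set_option autoImplicit false
set_option linter.unusedSectionVars false
set_option linter.unusedVariables false
set_option linter.style.haveILetI false

universe u

open TensorProduct DirectSum GrLC Groth.Agent.Lib.Helper20.GrConv Groth.Agent.Lib.Helper20.SegTP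
  Groth.Agent.Lib.Helper20.SegHilb Groth.Agent.Lib.Helper20.SegGr
  Groth.Agent.Lib.Helper20.SegBase Groth.Agent.Lib.Helper20.GrGorVer3
  Groth.Agent.Lib.Helper20.GrCanonDim

namespace Groth.Agent.Lib.Helper20.SegGor

/-- a Gorenstein ring is Cohen–Macaulay. -/
theorem cm_of_gorenstein' {A : Type u} [CommRing A] [LocCoh.IsGorensteinRing A] :
    LocCoh.IsCohenMacaulayRing A where
  isCohenMacaulayLocalRing_localization := fun p _ => by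
    haveI := LocCoh.IsGorensteinRing.isGorensteinLocalRing_localization (A := A) p
    exact Groth.Agent.S0341.result (Localization.AtPrime p)

section chain

variable {R : Type u} [CommRing R] (𝒜 : ℤ → AddSubgroup R) [GradedRing 𝒜]
  (hpos : ∀ n : ℤ, n < 0 → 𝒜 n = ⊥) (h0 : IsField (deg0 𝒜))
  (hstd : Ideal.span (⋃ n ∈ Set.Ioi (0 : ℤ), (𝒜 n : Set R)) =
    Ideal.span ((𝒜 1 : AddSubgroup R) : Set R))
  {H : Type u} [AddCommGroup H] [Module R H] (ℋ : ℤ → AddSubgroup H)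
  [DirectSum.Decomposition ℋ] [SetLike.GradedSMul 𝒜 ℋ]
  (hP : ∀ J : Ideal R, ringKrullDim (R ⧸ J) ≤ 1 → ∀ h : H, h ∈ (J • ⊤ : Submodule R H))

include hpos h0 hstd hP in
/-- non-vanishing propagates downwards. -/
theorem ne_bot_of_le (a : ℤ) (ha : ℋ a ≠ ⊥) (j : ℤ) (hj : j ≤ a) : ℋ j ≠ ⊥ := by
  obtain ⟨n, rfl⟩ : ∃ n : ℕ, j = a - n := ⟨(a - j).toNat, by
    rw [Int.toNat_of_nonneg (by omega)]
    ring⟩
  clear hj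
  induction n with
  | zero =>
    rw [Nat.cast_zero, sub_zero]
    exact ha
  | succ n ih =>
    apply ne_bot_pred 𝒜 hpos h0 hstd ℋ hP
    have : a - ((n + 1 : ℕ) : ℤ) + 1 = a - n := by push_cast; ring
    rw [this]
    exact ih

end chain

section main

set_option maxHeartbeats 4000000 in
/-- **Goto–Watanabe**: if the Segre product of two standard graded Cohen–Macaulay rings of dimension
at least two is Gorenstein, both factors are Gorenstein, with the same negative `a`-invariant. -/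
theorem gorenstein_of_segre (k : Type u) [Field k] (R : Type u) [CommRing R] [Algebra k R]
    (𝒜 : ℤ → Submodule k R) [GradedAlgebra 𝒜] (hposR : ∀ n : ℤ, n < 0 → 𝒜 n = ⊥)
    (h0R : 𝒜 0 = Submodule.span k {(1 : R)}) [Algebra.FiniteType k R] (S : Type u) [CommRing S]
    [Algebra k S] (ℬ : ℤ → Submodule k S) [GradedAlgebra ℬ] (hposS : ∀ n : ℤ, n < 0 → ℬ n = ⊥)
    (h0S : ℬ 0 = Submodule.span k {(1 : S)}) [Algebra.FiniteType k S] (T : Type u) [CommRing T]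
    [Algebra k T] (𝒯 : ℤ → Submodule k T) [GradedAlgebra 𝒯] (ψ : T →ₐ[k] TensorProduct k R S)
    (hψ : Function.Injective ψ)
    (hdegT : ∀ n : ℤ, (𝒯 n).map ψ.toLinearMap =
      Submodule.span k {x : TensorProduct k R S | ∃ a ∈ 𝒜 n, ∃ b ∈ ℬ n, x = a ⊗ₜ[k] b})
    [LocCoh.IsCohenMacaulayRing R] [LocCoh.IsCohenMacaulayRing S] (mR : HomogeneousIdeal 𝒜)
    (hmR : mR.toIdeal = Ideal.span (⋃ n ∈ Set.Ioi (0 : ℤ), (𝒜 n : Set R)))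
    (hstdR : Ideal.span (⋃ n ∈ Set.Ioi (0 : ℤ), (𝒜 n : Set R)) =
      Ideal.span ((𝒜 1 : Submodule k R) : Set R))
    (I : GrLC.StarInjRes 𝒜 𝒜) (mS : HomogeneousIdeal ℬ)
    (hmS : mS.toIdeal = Ideal.span (⋃ n ∈ Set.Ioi (0 : ℤ), (ℬ n : Set S)))
    (hstdS : Ideal.span (⋃ n ∈ Set.Ioi (0 : ℤ), (ℬ n : Set S)) =
      Ideal.span ((ℬ 1 : Submodule k S) : Set S))
    (J : GrLC.StarInjRes ℬ ℬ) (r s : ℕ) (hr : ringKrullDim R = r) (hs : ringKrullDim S = s)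
    (h2r : 2 ≤ r) (h2s : 2 ≤ s) [LocCoh.IsGorensteinRing T] :
    LocCoh.IsGorensteinRing R ∧ LocCoh.IsGorensteinRing S ∧
      GrLC.endDeg (I.Hgr mR r) = GrLC.endDeg (J.Hgr mS s) ∧ GrLC.endDeg (I.Hgr mR r) < 0 := by
  classical
  have hT : GrSeg.IsSegreRing 𝒜 ℬ 𝒯 ψ := ⟨hψ, hdegT⟩
  haveI : Nontrivial R := by
    by_contra h
    rw [not_nontrivial_iff_subsingleton] at h
    rw [ringKrullDim_eq_bot_of_subsingleton] at hr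
    exact WithBot.bot_ne_coe hr
  haveI : Nontrivial S := by
    by_contra h
    rw [not_nontrivial_iff_subsingleton] at h
    rw [ringKrullDim_eq_bot_of_subsingleton] at hs
    exact WithBot.bot_ne_coe hs
  haveI : IsNoetherianRing R := Algebra.FiniteType.isNoetherianRing k R
  haveI : IsNoetherianRing S := Algebra.FiniteType.isNoetherianRing k S
  haveI : Nontrivial T := nontrivial_segre 𝒜 ℬ 𝒯 ψ hT
  haveI : IsNoetherianRing T :=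
    Groth.Agent.S18646.result k R 𝒜 hposR h0R S ℬ hposS h0S T 𝒯 ψ hT.1 hT.2
  haveI hCMT : LocCoh.IsCohenMacaulayRing T := cm_of_gorenstein'
  have hneg := (Groth.Agent.S18648.result k R 𝒜 hposR h0R S ℬ hposS h0S T 𝒯 ψ hψ hdegT mR hmR
    hstdR I mS hmS hstdS J r s hr hs h2r h2s).1 hCMT
  have hposT := segre_pos 𝒜 ℬ 𝒯 ψ hT hposR
  have h0T := segre_zero 𝒜 ℬ 𝒯 ψ hT h0R h0S
  obtain ⟨IT⟩ := nonempty_starInjRes 𝒯 𝒯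
  have hmT := irr_toIdeal 𝒯
  have hdimT : ringKrullDim T = ((r + s - 1 : ℕ) : WithBot ℕ∞) :=
    Groth.Agent.S18647.result k R 𝒜 hposR h0R S ℬ hposS h0S T 𝒯 ψ hψ hdegT r s hr hs
      (by omega) (by omega)
  have hgA := gradedSMul_modToAS 𝒜 𝒜
  have hgB := gradedSMul_modToAS ℬ ℬ
  have hgT := gradedSMul_modToAS 𝒯 𝒯
  obtain ⟨a₁, rfl⟩ : ∃ a₁, r = a₁ + 2 := ⟨r - 2, by omega⟩
  obtain ⟨b₁, rfl⟩ : ∃ b₁, s = b₁ + 2 := ⟨s - 2, by omega⟩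
  have hn : a₁ + 2 + (b₁ + 2) - 1 = a₁ + b₁ + 1 + 2 := by omega
  rw [hn] at hdimT
  -- the top local cohomology of `T`
  obtain ⟨c, hendT, GT0, rndT0⟩ := exists_isGorTop_rnd T (toAS 𝒯) (hposAS 𝒯 hposT)
    (isField_deg0 𝒯 h0T) (idealTo 𝒯 (irr 𝒯)) (isStarLocal 𝒯 hposT h0T (irr 𝒯) hmT)
    (hmAS 𝒯 (irr 𝒯) hmT) (a₁ + b₁ + 1 + 2)
    (height_eq 𝒯 hposT h0T (irr 𝒯) hmT (a₁ + b₁ + 1 + 2) hdimT) (resTo 𝒯 𝒯 IT)
  -- the module structures over `k`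
  letI : Module k ((resModTo 𝒜 𝒜 I).H mR (a₁ + 2)) := Module.compHom _ (algebraMap k R)
  haveI : IsScalarTower k R ((resModTo 𝒜 𝒜 I).H mR (a₁ + 2)) :=
    IsScalarTower.of_algebraMap_smul (fun c x => rfl)
  letI : Module k ((resModTo ℬ ℬ J).H mS (b₁ + 2)) := Module.compHom _ (algebraMap k S)
  haveI : IsScalarTower k S ((resModTo ℬ ℬ J).H mS (b₁ + 2)) :=
    IsScalarTower.of_algebraMap_smul (fun c x => rfl)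
  letI : Module k ((resModTo 𝒯 𝒯 IT).H (irr 𝒯) (a₁ + b₁ + 1 + 2)) :=
    Module.compHom _ (algebraMap k T)
  haveI : IsScalarTower k T ((resModTo 𝒯 𝒯 IT).H (irr 𝒯) (a₁ + b₁ + 1 + 2)) :=
    IsScalarTower.of_algebraMap_smul (fun c x => rfl)
  letI : DirectSum.Decomposition ((resModTo 𝒯 𝒯 IT).Hgr (irr 𝒯) (a₁ + b₁ + 1 + 2)) :=
    Groth.Agent.Lib.Helper20.GrLES2.decH (resTo 𝒯 𝒯 IT) (idealTo 𝒯 (irr 𝒯)) (a₁ + b₁ + 1 + 2)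
  haveI := gradedSMul_Hgr 𝒜 (toAS 𝒜) (resModTo 𝒜 𝒜 I) mR (a₁ + 2)
  haveI := gradedSMul_Hgr ℬ (toAS ℬ) (resModTo ℬ ℬ J) mS (b₁ + 2)
  haveI := gradedSMul_Hgr 𝒯 (toAS 𝒯) (resModTo 𝒯 𝒯 IT) (irr 𝒯) (a₁ + b₁ + 1 + 2)
  have hvM : ∀ i, a₁ + 2 < i → Subsingleton ((resModTo 𝒜 𝒜 I).H mR i) := fun i hi =>
    subsingleton_H_of_Hcomp_eq_bot 𝒜 mR (toAS 𝒜) (resModTo 𝒜 𝒜 I) i
      (fun d => Hcomp_eq_bot_of_gt 𝒜 hposR h0R mR hmR (toAS 𝒜) (resModTo 𝒜 𝒜 I) (a₁ + 2) hr i hi d)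
  have hvN : ∀ i, b₁ + 2 < i → Subsingleton ((resModTo ℬ ℬ J).H mS i) := fun i hi =>
    subsingleton_H_of_Hcomp_eq_bot ℬ mS (toAS ℬ) (resModTo ℬ ℬ J) i
      (fun d => Hcomp_eq_bot_of_gt ℬ hposS h0S mS hmS (toAS ℬ) (resModTo ℬ ℬ J) (b₁ + 2) hs i hi d)
  obtain ⟨φ', hφ'⟩ := exists_isSegreMod_H_top k R 𝒜 hposR h0R S ℬ hposS h0S T 𝒯 ψ hT mR hmR mS
    hmS (irr 𝒯) hmT R (toAS 𝒜) (resModTo 𝒜 𝒜 I) S (toAS ℬ) (resModTo ℬ ℬ J) T (toAS 𝒯)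
    ψ.toLinearMap (isSegreMod_self 𝒜 ℬ 𝒯 ψ hT) (resModTo 𝒯 𝒯 IT) a₁ b₁ (a₁ + b₁ + 1) (by omega)
    hvM hvN
  have GT : IsGorTop (toAS 𝒯) ((resModTo 𝒯 𝒯 IT).Hgr (irr 𝒯) (a₁ + b₁ + 1 + 2)) c :=
    GT0.of_iff (fun _ _ => Iff.rfl) (fun _ _ => Iff.rfl)
  have rndT : ∀ t, ∀ τ ∈ 𝒯 t, τ ≠ 0 →
      ∃ p ∈ (resModTo 𝒯 𝒯 IT).Hgr (irr 𝒯) (a₁ + b₁ + 1 + 2) (c - t), τ • p ≠ 0 :=
    fun t τ hτ hτ0 => rndT0 t τ hτ hτ0
  -- the swapped presentation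
  have hT' := isSegreRing_swap 𝒜 ℬ 𝒯 ψ hT
  have hφs := isSegreMod_swap ψ ((resModTo 𝒜 𝒜 I).Hgr mR (a₁ + 2))
    ((resModTo ℬ ℬ J).Hgr mS (b₁ + 2)) ((resModTo 𝒯 𝒯 IT).Hgr (irr 𝒯) (a₁ + b₁ + 1 + 2)) φ' hφ'
  -- the top pieces
  obtain ⟨u, hu, hu0, honeX⟩ := gen_left 𝒜 𝒯 ψ h0T ((resModTo 𝒜 𝒜 I).Hgr mR (a₁ + 2))
    ((resModTo ℬ ℬ J).Hgr mS (b₁ + 2)) ((resModTo 𝒯 𝒯 IT).Hgr (irr 𝒯) (a₁ + b₁ + 1 + 2)) φ' hφ' c GT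
  obtain ⟨v, hv, hv0, honeY⟩ := gen_left ℬ 𝒯 (ψswap ψ) h0T ((resModTo ℬ ℬ J).Hgr mS (b₁ + 2))
    ((resModTo 𝒜 𝒜 I).Hgr mR (a₁ + 2)) ((resModTo 𝒯 𝒯 IT).Hgr (irr 𝒯) (a₁ + b₁ + 1 + 2))
    (φswap φ') hφs c GT
  -- `J · H = H`
  have hPX : ∀ J' : Ideal R, ringKrullDim (R ⧸ J') ≤ 1 →
      ∀ h : (resTo 𝒜 𝒜 I).H (idealTo 𝒜 mR) (a₁ + 2),
        h ∈ (J' • ⊤ : Submodule R ((resTo 𝒜 𝒜 I).H (idealTo 𝒜 mR) (a₁ + 2))) := by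
    intro J' hJ' h
    refine mem_smul_top_H₂ (resTo 𝒜 𝒜 I) (idealTo 𝒜 mR) J' (a₁ + 2) hr.le
      (lt_of_le_of_lt hJ' ?_) h
    exact_mod_cast (by omega : 1 < a₁ + 2)
  have hPY : ∀ J' : Ideal S, ringKrullDim (S ⧸ J') ≤ 1 →
      ∀ h : (resTo ℬ ℬ J).H (idealTo ℬ mS) (b₁ + 2),
        h ∈ (J' • ⊤ : Submodule S ((resTo ℬ ℬ J).H (idealTo ℬ mS) (b₁ + 2))) := by
    intro J' hJ' h
    refine mem_smul_top_H₂ (resTo ℬ ℬ J) (idealTo ℬ mS) J' (b₁ + 2) hs.le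
      (lt_of_le_of_lt hJ' ?_) h
    exact_mod_cast (by omega : 1 < b₁ + 2)
  letI := Groth.Agent.Lib.Helper20.GrLES2.decH (resTo 𝒜 𝒜 I) (idealTo 𝒜 mR) (a₁ + 2)
  letI := Groth.Agent.Lib.Helper20.GrLES2.decH (resTo ℬ ℬ J) (idealTo ℬ mS) (b₁ + 2)
  have htopX : ∀ j, c < j → (resTo 𝒜 𝒜 I).Hgr (idealTo 𝒜 mR) (a₁ + 2) j = ⊥ := fun j hj =>
    eq_bot_of_gt (toAS 𝒜) (hposAS 𝒜 hposR) (isField_deg0 𝒜 h0R) hstdR
      ((resTo 𝒜 𝒜 I).Hgr (idealTo 𝒜 mR) (a₁ + 2)) hPX c u hu honeX j hj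
  have htopY : ∀ j, c < j → (resTo ℬ ℬ J).Hgr (idealTo ℬ mS) (b₁ + 2) j = ⊥ := fun j hj =>
    eq_bot_of_gt (toAS ℬ) (hposAS ℬ hposS) (isField_deg0 ℬ h0S) hstdS
      ((resTo ℬ ℬ J).Hgr (idealTo ℬ mS) (b₁ + 2)) hPY c v hv honeY j hj
  have hneX : ∀ j, j ≤ c → (resTo 𝒜 𝒜 I).Hgr (idealTo 𝒜 mR) (a₁ + 2) j ≠ ⊥ := fun j hj =>
    ne_bot_of_le (toAS 𝒜) (hposAS 𝒜 hposR) (isField_deg0 𝒜 h0R) hstdR
      ((resTo 𝒜 𝒜 I).Hgr (idealTo 𝒜 mR) (a₁ + 2)) hPX c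
      (Groth.Agent.Lib.Helper20.GrAinv.ne_bot_of_mem hu hu0) j hj
  have hneY : ∀ j, j ≤ c → (resTo ℬ ℬ J).Hgr (idealTo ℬ mS) (b₁ + 2) j ≠ ⊥ := fun j hj =>
    ne_bot_of_le (toAS ℬ) (hposAS ℬ hposS) (isField_deg0 ℬ h0S) hstdS
      ((resTo ℬ ℬ J).Hgr (idealTo ℬ mS) (b₁ + 2)) hPY c
      (Groth.Agent.Lib.Helper20.GrAinv.ne_bot_of_mem hv hv0) j hj
  -- left nondegeneracy
  have ndX : ∀ j, ∀ x ∈ (resTo 𝒜 𝒜 I).Hgr (idealTo 𝒜 mR) (a₁ + 2) j, x ≠ 0 →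
      ∃ α ∈ toAS 𝒜 (c - j), α • x ≠ 0 := by
    intro j x hx hx0
    by_cases hj : j ≤ c
    · exact nd_left 𝒜 ℬ 𝒯 ψ hT ((resModTo 𝒜 𝒜 I).Hgr mR (a₁ + 2))
        ((resModTo ℬ ℬ J).Hgr mS (b₁ + 2)) ((resModTo 𝒯 𝒯 IT).Hgr (irr 𝒯) (a₁ + b₁ + 1 + 2)) φ' hφ'
        c GT j (hneY j hj) x hx hx0
    · exfalso
      rw [htopX j (by omega), AddSubgroup.mem_bot] at hx
      exact hx0 hx
  have ndY : ∀ j, ∀ y ∈ (resTo ℬ ℬ J).Hgr (idealTo ℬ mS) (b₁ + 2) j, y ≠ 0 →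
      ∃ β ∈ toAS ℬ (c - j), β • y ≠ 0 := by
    intro j y hy hy0
    by_cases hj : j ≤ c
    · exact nd_left ℬ 𝒜 𝒯 (ψswap ψ) hT' ((resModTo ℬ ℬ J).Hgr mS (b₁ + 2))
        ((resModTo 𝒜 𝒜 I).Hgr mR (a₁ + 2)) ((resModTo 𝒯 𝒯 IT).Hgr (irr 𝒯) (a₁ + b₁ + 1 + 2))
        (φswap φ') hφs c GT j (hneX j hj) y hy hy0
    · exfalso
      rw [htopY j (by omega), AddSubgroup.mem_bot] at hy
      exact hy0 hy
  -- non-zero elements of every non-negative degree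
  have hAne : ∀ t : ℤ, 0 ≤ t → ∃ α ∈ 𝒜 t, α ≠ 0 := by
    intro t ht
    obtain ⟨x, hx, hx0⟩ := Groth.Agent.Lib.Helper20.GrAinv.exists_ne_zero_of_ne_bot
      (hneX (c - t) (by omega))
    obtain ⟨α, hα, hαx⟩ := ndX (c - t) x hx hx0
    rw [sub_sub_cancel] at hα
    refine ⟨α, hα, ?_⟩
    rintro rfl
    exact hαx (zero_smul _ _)
  have hBne : ∀ t : ℤ, 0 ≤ t → ∃ β ∈ ℬ t, β ≠ 0 := by
    intro t ht
    obtain ⟨y, hy, hy0⟩ := Groth.Agent.Lib.Helper20.GrAinv.exists_ne_zero_of_ne_bot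
      (hneY (c - t) (by omega))
    obtain ⟨β, hβ, hβy⟩ := ndY (c - t) y hy hy0
    rw [sub_sub_cancel] at hβ
    refine ⟨β, hβ, ?_⟩
    rintro rfl
    exact hβy (zero_smul _ _)
  -- right nondegeneracy
  have rndX : ∀ t, ∀ α ∈ toAS 𝒜 t, α ≠ 0 →
      ∃ x ∈ (resTo 𝒜 𝒜 I).Hgr (idealTo 𝒜 mR) (a₁ + 2) (c - t), α • x ≠ 0 := by
    intro t α hα hα0
    have ht : 0 ≤ t := by
      by_contra hlt
      have h1 : α ∈ 𝒜 t := hα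
      rw [hposR t (by omega), Submodule.mem_bot] at h1
      exact hα0 h1
    obtain ⟨β, hβ, hβ0⟩ := hBne t ht
    exact rnd_left 𝒜 ℬ 𝒯 ψ hT ((resModTo 𝒜 𝒜 I).Hgr mR (a₁ + 2))
      ((resModTo ℬ ℬ J).Hgr mS (b₁ + 2)) ((resModTo 𝒯 𝒯 IT).Hgr (irr 𝒯) (a₁ + b₁ + 1 + 2)) φ' hφ'
      c rndT t β hβ hβ0 α hα hα0
  have rndY : ∀ t, ∀ β ∈ toAS ℬ t, β ≠ 0 →
      ∃ y ∈ (resTo ℬ ℬ J).Hgr (idealTo ℬ mS) (b₁ + 2) (c - t), β • y ≠ 0 := by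
    intro t β hβ hβ0
    have ht : 0 ≤ t := by
      by_contra hlt
      have h1 : β ∈ ℬ t := hβ
      rw [hposS t (by omega), Submodule.mem_bot] at h1
      exact hβ0 h1
    obtain ⟨α, hα, hα0⟩ := hAne t ht
    exact rnd_left ℬ 𝒜 𝒯 (ψswap ψ) hT' ((resModTo ℬ ℬ J).Hgr mS (b₁ + 2))
      ((resModTo 𝒜 𝒜 I).Hgr mR (a₁ + 2)) ((resModTo 𝒯 𝒯 IT).Hgr (irr 𝒯) (a₁ + b₁ + 1 + 2))
      (φswap φ') hφs c rndT t α hα hα0 β hβ hβ0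
  -- conclusions
  have hvanR : ∀ p, p ≠ a₁ + 2 → Subsingleton ((resTo 𝒜 𝒜 I).H (idealTo 𝒜 mR) p) := fun p hp =>
    subsingleton_H_of_Hcomp_eq_bot 𝒜 mR 𝒜 I p
      (fun d => Hcomp_eq_bot_of_ne 𝒜 hposR h0R mR hmR I (a₁ + 2) hr p hp d)
  have hvanS : ∀ p, p ≠ b₁ + 2 → Subsingleton ((resTo ℬ ℬ J).H (idealTo ℬ mS) p) := fun p hp =>
    subsingleton_H_of_Hcomp_eq_bot ℬ mS ℬ J p
      (fun d => Hcomp_eq_bot_of_ne ℬ hposS h0S mS hmS J (b₁ + 2) hs p hp d)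
  have hendR : endDeg (I.Hgr mR (a₁ + 2)) = ((c : WithTop ℤ) : WithBot (WithTop ℤ)) := by
    apply le_antisymm
    · exact (Groth.Agent.Lib.Helper20.GrReg1.endDeg_le_iff _ c).2 htopX
    · apply Groth.Agent.Lib.Helper20.GrLES2.le_endDeg
      exact Groth.Agent.Lib.Helper20.GrAinv.ne_bot_of_mem hu hu0
  have hendS : endDeg (J.Hgr mS (b₁ + 2)) = ((c : WithTop ℤ) : WithBot (WithTop ℤ)) := by
    apply le_antisymm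
    · exact (Groth.Agent.Lib.Helper20.GrReg1.endDeg_le_iff _ c).2 htopY
    · apply Groth.Agent.Lib.Helper20.GrLES2.le_endDeg
      exact Groth.Agent.Lib.Helper20.GrAinv.ne_bot_of_mem hv hv0
  refine ⟨?_, ?_, hendR.trans hendS.symm, hneg.1⟩
  · exact isGorensteinRing_of_isGorTop_rnd (toAS 𝒜) (hposAS 𝒜 hposR) (isField_deg0 𝒜 h0R)
      (idealTo 𝒜 mR) (isStarLocal 𝒜 hposR h0R mR hmR) (hmAS 𝒜 mR hmR) (a₁ + 2) (resTo 𝒜 𝒜 I)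
      hvanR c ⟨htopX, ⟨u, hu, hu0, honeX⟩, ndX⟩ rndX
  · exact isGorensteinRing_of_isGorTop_rnd (toAS ℬ) (hposAS ℬ hposS) (isField_deg0 ℬ h0S)
      (idealTo ℬ mS) (isStarLocal ℬ hposS h0S mS hmS) (hmAS ℬ mS hmS) (b₁ + 2) (resTo ℬ ℬ J)
      hvanS c ⟨htopY, ⟨v, hv, hv0, honeY⟩, ndY⟩ rndY

end main

end Groth.Agent.Lib.Helper20.SegGor
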