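import Mathlib
import Groth.Agent.Lib.Helper20.SegDimOne1
import Groth.Agent.Lib.Helper20.SegDimOne3
import Groth.Agent.Lib.Helper20.SegGorConv3
import Groth.Agent.Lib.Helper4.GorRing

/-!
# Goto–Watanabe in dimension one: if `R # S` is Gorenstein, `dim R = dim S = 1` and `R` is not a
polynomial ring, then `S` is a polynomial ring and `R` is Gorenstein (helper20)
-/

set_option autoImplicit false
set_option linter.unusedSectionVars false
set_option linter.unusedVariables false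
set_option linter.style.haveILetI false

universe u

open TensorProduct DirectSum GrLC Groth.Agent.Lib.Helper20.GrConv Groth.Agent.Lib.Helper20.SegTP
  Groth.Agent.Lib.Helper20.SegHilb Groth.Agent.Lib.Helper20.SegGr
  Groth.Agent.Lib.Helper20.SegBase Groth.Agent.Lib.Helper20.SegGor

namespace Groth.Agent.Lib.Helper20.SegDimOne

section fin

variable {k : Type u} [Field k] {R S T : Type u} [CommRing R] [CommRing S] [CommRing T]
  [Algebra k R] [Algebra k S] [Algebra k T]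
  (𝒜 : ℤ → Submodule k R) [GradedAlgebra 𝒜] (ℬ : ℤ → Submodule k S) [GradedAlgebra ℬ]
  (𝒯 : ℤ → Submodule k T) [GradedAlgebra 𝒯] (ψ : T →ₐ[k] R ⊗[k] S)
  (hT : GrSeg.IsSegreRing 𝒜 ℬ 𝒯 ψ)

include hT in
theorem finrank_segre_ring (n : ℤ) :
    Module.finrank k (𝒯 n) = Module.finrank k (𝒜 n) * Module.finrank k (ℬ n) := by
  have h1 : Module.finrank k ((𝒯 n).map ψ.toLinearMap) = Module.finrank k (𝒯 n) :=
    (Submodule.equivMapOfInjective ψ.toLinearMap hT.1 (𝒯 n)).finrank_eq.symm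
  rw [← h1, hT.2 n]
  have h2 : GrSeg.segrePiece k 𝒜 ℬ n = LinearMap.range (TensorProduct.mapIncl (𝒜 n) (ℬ n)) := by
    rw [TensorProduct.range_mapIncl, Submodule.map₂_eq_span_image2]
    unfold GrSeg.segrePiece
    congr 1
    ext x
    constructor
    · rintro ⟨a, ha, b, hb, rfl⟩
      exact ⟨a, ha, b, hb, rfl⟩
    · rintro ⟨a, ha, b, hb, rfl⟩
      exact ⟨a, ha, b, hb, rfl⟩
  have hinj : Function.Injective (TensorProduct.mapIncl (𝒜 n) (ℬ n)) :=
    TensorProduct.map_injective_of_flat_flat _ _ (Submodule.injective_subtype _)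
      (Submodule.injective_subtype _)
  rw [h2, LinearMap.finrank_range_of_inj hinj, Module.finrank_tensorProduct]

end fin

section num

/-- the numerical heart of the dimension one case. -/
theorem num_key (eR eS a b : ℕ) (h1R : 1 ≤ eR) (h1S : 1 ≤ eS) (ha : a ≤ eR) (hb : b ≤ eS)
    (h : a * b + 1 = eR * eS) : eR = 1 ∨ eS = 1 := by
  by_cases haR : a = eR
  · by_cases hbS : b = eS
    · subst haR hbS
      omega
    · left
      have hb' : b + 1 ≤ eS := by omega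
      have h2 : a * (b + 1) ≤ eR * eS := by
        rw [haR]
        exact Nat.mul_le_mul_left _ hb'
      have h3 : a * (b + 1) = a * b + a := by ring
      rw [h3, ← h] at h2
      omega
  · right
    have ha' : a + 1 ≤ eR := by omega
    have h2 : (a + 1) * b ≤ eR * eS := Nat.mul_le_mul ha' hb
    have h3 : (a + 1) * b = a * b + b := by ring
    rw [h3, ← h] at h2
    have h4 : b ≤ 1 := by omega
    have h5 : (a + 1) * eS ≤ eR * eS := Nat.mul_le_mul_right _ ha'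
    have h6 : (a + 1) * eS = a * eS + eS := by ring
    have h7 : a * b ≤ a * eS := Nat.mul_le_mul_left _ hb
    by_contra hne
    have h8 : 2 ≤ eS := by omega
    -- a b + 1 = eR eS ≥ (a+1) eS = a eS + eS ≥ a b + 2
    omega

end num

section main

set_option maxHeartbeats 2000000 in
/-- **Goto–Watanabe, dimension one**. -/
theorem segre_dim_one (k : Type u) [Field k] (R : Type u) [CommRing R] [Algebra k R]
    (𝒜 : ℤ → Submodule k R) [GradedAlgebra 𝒜] (hposR : ∀ n : ℤ, n < 0 → 𝒜 n = ⊥)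
    (h0R : 𝒜 0 = Submodule.span k {(1 : R)}) [Algebra.FiniteType k R] (S : Type u) [CommRing S]
    [Algebra k S] (ℬ : ℤ → Submodule k S) [GradedAlgebra ℬ] (hposS : ∀ n : ℤ, n < 0 → ℬ n = ⊥)
    (h0S : ℬ 0 = Submodule.span k {(1 : S)}) [Algebra.FiniteType k S] (T : Type u) [CommRing T]
    [Algebra k T] (𝒯 : ℤ → Submodule k T) [GradedAlgebra 𝒯] (ψ : T →ₐ[k] TensorProduct k R S)
    (hψ : Function.Injective ψ)
    (hdegT : ∀ n : ℤ, (𝒯 n).map ψ.toLinearMap =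
      Submodule.span k {x : TensorProduct k R S | ∃ a ∈ 𝒜 n, ∃ b ∈ ℬ n, x = a ⊗ₜ[k] b})
    [LocCoh.IsCohenMacaulayRing R] [LocCoh.IsCohenMacaulayRing S]
    (hstdR : Ideal.span (⋃ n ∈ Set.Ioi (0 : ℤ), (𝒜 n : Set R)) =
      Ideal.span ((𝒜 1 : Submodule k R) : Set R))
    (hstdS : Ideal.span (⋃ n ∈ Set.Ioi (0 : ℤ), (ℬ n : Set S)) =
      Ideal.span ((ℬ 1 : Submodule k S) : Set S))
    (hr : ringKrullDim R = 1) (hs : ringKrullDim S = 1)
    (hR : IsEmpty (R ≃ₐ[k] Polynomial k)) [LocCoh.IsGorensteinRing T] :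
    Nonempty (S ≃ₐ[k] Polynomial k) ∧ LocCoh.IsGorensteinRing R := by
  classical
  have hT : GrSeg.IsSegreRing 𝒜 ℬ 𝒯 ψ := ⟨hψ, hdegT⟩
  haveI : Nontrivial R := by
    by_contra h
    rw [not_nontrivial_iff_subsingleton] at h
    rw [ringKrullDim_eq_bot_of_subsingleton] at hr
    exact WithBot.bot_ne_one hr
  haveI : Nontrivial S := by
    by_contra h
    rw [not_nontrivial_iff_subsingleton] at h
    rw [ringKrullDim_eq_bot_of_subsingleton] at hs
    exact WithBot.bot_ne_one hs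
  haveI : IsNoetherianRing R := Algebra.FiniteType.isNoetherianRing k R
  haveI : IsNoetherianRing S := Algebra.FiniteType.isNoetherianRing k S
  haveI : Nontrivial T := nontrivial_segre 𝒜 ℬ 𝒯 ψ hT
  haveI : IsNoetherianRing T :=
    Groth.Agent.S18646.result k R 𝒜 hposR h0R S ℬ hposS h0S T 𝒯 ψ hT.1 hT.2
  haveI hCMT : LocCoh.IsCohenMacaulayRing T := cm_of_gorenstein'
  have hposT := segre_pos 𝒜 ℬ 𝒯 ψ hT hposR
  have h0T := segre_zero 𝒜 ℬ 𝒯 ψ hT h0R h0S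
  have hstdT := segre_std 𝒜 ℬ 𝒯 ψ hT hstdR hstdS
  obtain ⟨IR⟩ := nonempty_starInjRes 𝒜 𝒜
  obtain ⟨IS⟩ := nonempty_starInjRes ℬ ℬ
  obtain ⟨IT⟩ := nonempty_starInjRes 𝒯 𝒯
  have hr' : ringKrullDim R = ((1 : ℕ) : WithBot ℕ∞) := by rw [hr]; rfl
  have hs' : ringKrullDim S = ((1 : ℕ) : WithBot ℕ∞) := by rw [hs]; rfl
  have hdimT : ringKrullDim T = ((1 + 1 - 1 : ℕ) : WithBot ℕ∞) :=
    Groth.Agent.S18647.result k R 𝒜 hposR h0R S ℬ hposS h0S T 𝒯 ψ hψ hdegT 1 1 hr' hs'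
      le_rfl le_rfl
  have hdimT1 : ringKrullDim T = 1 := by rw [hdimT]; rfl
  -- Serre's formula
  obtain ⟨eR, ⟨NR, hNR⟩, hserR⟩ := serre_dim_one (toAS 𝒜) (hposAS 𝒜 hposR) hstdR
    (isField_deg0 𝒜 h0R) (idealTo 𝒜 (irr 𝒜)) (isStarLocal 𝒜 hposR h0R (irr 𝒜) (irr_toIdeal 𝒜))
    (hmAS 𝒜 (irr 𝒜) (irr_toIdeal 𝒜)) hr (resTo 𝒜 𝒜 IR)
  obtain ⟨eS, ⟨NS, hNS⟩, hserS⟩ := serre_dim_one (toAS ℬ) (hposAS ℬ hposS) hstdS
    (isField_deg0 ℬ h0S) (idealTo ℬ (irr ℬ)) (isStarLocal ℬ hposS h0S (irr ℬ) (irr_toIdeal ℬ))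
    (hmAS ℬ (irr ℬ) (irr_toIdeal ℬ)) hs (resTo ℬ ℬ IS)
  obtain ⟨eT, ⟨NT, hNT⟩, hserT⟩ := serre_dim_one (toAS 𝒯) (hposAS 𝒯 hposT) hstdT
    (isField_deg0 𝒯 h0T) (idealTo 𝒯 (irr 𝒯)) (isStarLocal 𝒯 hposT h0T (irr 𝒯) (irr_toIdeal 𝒯))
    (hmAS 𝒯 (irr 𝒯) (irr_toIdeal 𝒯)) hdimT1 (resTo 𝒯 𝒯 IT)
  obtain ⟨c, hc⟩ := gor_symm T (toAS 𝒯) (hposAS 𝒯 hposT) (isField_deg0 𝒯 h0T)
    (idealTo 𝒯 (irr 𝒯)) (isStarLocal 𝒯 hposT h0T (irr 𝒯) (irr_toIdeal 𝒯))
    (hmAS 𝒯 (irr 𝒯) (irr_toIdeal 𝒯)) 1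
    (height_eq 𝒯 hposT h0T (irr 𝒯) (irr_toIdeal 𝒯) 1 (by rw [hdimT1]; rfl)) (resTo 𝒯 𝒯 IT)
  simp only [finrank_comp_toAS 𝒜 h0R] at hNR hserR
  simp only [finrank_comp_toAS ℬ h0S] at hNS hserS
  simp only [finrank_comp_toAS 𝒯 h0T] at hNT hserT hc
  have hmul := finrank_segre_ring 𝒜 ℬ 𝒯 ψ hT
  -- numerics
  have hR0 : Module.finrank k (𝒜 0) = 1 := by
    rw [h0R]
    exact finrank_span_singleton one_ne_zero
  have hS0 : Module.finrank k (ℬ 0) = 1 := by
    rw [h0S]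
    exact finrank_span_singleton one_ne_zero
  have hT0 : Module.finrank k (𝒯 0) = 1 := by rw [hmul 0, hR0, hS0]
  have h1R : 1 ≤ eR := by have := hserR 0; omega
  have h1S : 1 ≤ eS := by have := hserS 0; omega
  have heT : eT = eR * eS := by
    have h1 := hNT (max NT (max NR NS)) (le_max_left _ _)
    have h2 := hNR (max NT (max NR NS)) (le_trans (le_max_left _ _) (le_max_right _ _))
    have h3 := hNS (max NT (max NR NS)) (le_trans (le_max_right _ _) (le_max_right _ _))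
    rw [← h1, hmul, h2, h3]
  have hcc : Module.finrank k (𝒯 c) + 1 = eT := by
    have h1 := hserT c
    have h2 := hc 0
    rw [sub_zero, hT0] at h2
    rw [h2] at h1
    exact h1
  rw [hmul c, heT] at hcc
  have haR : Module.finrank k (𝒜 c) ≤ eR := by have := hserR c; omega
  have hbS : Module.finrank k (ℬ c) ≤ eS := by have := hserS c; omega
  have hcase := num_key eR eS _ _ h1R h1S haR hbS hcc
  have hnotR : eR ≠ 1 := by
    intro h1
    have h2 : Module.finrank k (𝒜 1) ≤ 1 := by have := hserR 1; omega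
    exact hR.false (nonempty_algEquiv_polynomial 𝒜 hposR h0R hstdR hr h2).some
  have heS : eS = 1 := by
    rcases hcase with h | h
    · exact absurd h hnotR
    · exact h
  have h2S : Module.finrank k (ℬ 1) ≤ 1 := by have := hserS 1; omega
  refine ⟨nonempty_algEquiv_polynomial ℬ hposS h0S hstdS hs h2S, ?_⟩
  -- `T ≅ R`
  haveI : Module.Finite k (ℬ 1) := finite_piece ℬ h0S 1
  obtain ⟨v, hv⟩ := (finrank_le_one_iff (K := k) (V := ℬ 1)).1 h2S
  have hspan : ∀ x ∈ ℬ 1, ∃ c : k, x = c • (v : S) := by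
    intro x hx
    obtain ⟨c, hc⟩ := hv ⟨x, hx⟩
    exact ⟨c, (congrArg Subtype.val hc).symm⟩
  have hsur := aeval_surjective ℬ hposS h0S hstdS (v : S) v.2 hspan
  have hinj := aeval_injective (k := k) (v : S) hsur hs
  have hbij : Function.Bijective (Polynomial.aeval (R := k) (v : S)) := ⟨hinj, hsur⟩
  have e : T ≃+* R := RingEquiv.ofBijective (redT (R := R) ψ (v : S) hbij).toRingHom
    ⟨redT_injective 𝒜 ℬ 𝒯 ψ hT hposR (v : S) v.2 hbij,
      redT_surjective 𝒜 ℬ 𝒯 ψ hT hposR (v : S) v.2 hbij⟩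
  exact Groth.Agent.Lib.Helper4.GorRing.gorRing_of_ringEquiv e inferInstance

end main

end Groth.Agent.Lib.Helper20.SegDimOne
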