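import Mathlib
import Groth.Agent.Lib.Helper20.SegHilb2

/-!
# dim (M # N) = dim M + dim N − 1 over standard graded rings (helper20)
-/

set_option autoImplicit false
set_option linter.unusedSectionVars false
set_option linter.unusedVariables false
set_option linter.style.haveILetI false

universe u

open TensorProduct DirectSum GrLC Groth.Agent.Lib.Helper20.GrConv
  Groth.Agent.Lib.Helper20.LenEuler Groth.Agent.Lib.Helper20.GrHilbDeg
  Groth.Agent.Lib.Helper20.GrHilbDim Groth.Agent.Lib.Helper20.SegGr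

namespace Groth.Agent.Lib.Helper20.SegHilb

/-- arithmetic in `WithBot ℕ∞`: squeeze. -/
theorem eq_of_le_of_not_le (s : WithBot ℕ∞) (n : ℕ) (hn : 1 ≤ n)
    (h1 : s ≤ ((n : ℕ) : WithBot ℕ∞)) (h2 : ¬ s ≤ ((n - 1 : ℕ) : WithBot ℕ∞)) :
    s = ((n : ℕ) : WithBot ℕ∞) := by
  induction s using WithBot.recBotCoe with
  | bot => exact absurd bot_le h2
  | coe e =>
    induction e using ENat.recTopCoe with
    | top =>
      exfalso
      have h' : ((⊤ : ℕ∞) : WithBot ℕ∞) ≤ (((n : ℕ) : ℕ∞) : WithBot ℕ∞) := h1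
      rw [WithBot.coe_le_coe, top_le_iff] at h'
      exact ENat.coe_ne_top _ h'
    | coe m =>
      have h1' : (((m : ℕ) : ℕ∞) : WithBot ℕ∞) ≤ (((n : ℕ) : ℕ∞) : WithBot ℕ∞) := h1
      rw [WithBot.coe_le_coe, Nat.cast_le] at h1'
      have h2' : ¬ m ≤ n - 1 := by
        intro h
        apply h2
        have : (((m : ℕ) : ℕ∞) : WithBot ℕ∞) ≤ (((n - 1 : ℕ) : ℕ∞) : WithBot ℕ∞) := by
          rw [WithBot.coe_le_coe, Nat.cast_le]
          exact h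
        exact this
      have : m = n := by omega
      rw [this]
      rfl

theorem segre_supportDim (k : Type u) [Field k] (R : Type u) [CommRing R] [Algebra k R]
    (𝒜 : ℤ → Submodule k R) [GradedAlgebra 𝒜] (hposR : ∀ n : ℤ, n < 0 → 𝒜 n = ⊥)
    (h0R : 𝒜 0 = Submodule.span k {(1 : R)}) [Algebra.FiniteType k R]
    (S : Type u) [CommRing S] [Algebra k S] (ℬ : ℤ → Submodule k S)
    [GradedAlgebra ℬ] (hposS : ∀ n : ℤ, n < 0 → ℬ n = ⊥)
    (h0S : ℬ 0 = Submodule.span k {(1 : S)}) [Algebra.FiniteType k S]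
    (T : Type u) [CommRing T] [Algebra k T] (𝒯 : ℤ → Submodule k T) [GradedAlgebra 𝒯]
    (ψ : T →ₐ[k] TensorProduct k R S) (hT : GrSeg.IsSegreRing 𝒜 ℬ 𝒯 ψ)
    (hstdR : Ideal.span (⋃ n ∈ Set.Ioi (0 : ℤ), (𝒜 n : Set R)) =
      Ideal.span ((𝒜 1 : Submodule k R) : Set R))
    (hstdS : Ideal.span (⋃ n ∈ Set.Ioi (0 : ℤ), (ℬ n : Set S)) =
      Ideal.span ((ℬ 1 : Submodule k S) : Set S))
    (M : Type u) [AddCommGroup M] [Module R M] [Module k M] [IsScalarTower k R M]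
    (ℳ : ℤ → AddSubgroup M) [DirectSum.Decomposition ℳ] [SetLike.GradedSMul 𝒜 ℳ]
    [Module.Finite R M]
    (N : Type u) [AddCommGroup N] [Module S N] [Module k N] [IsScalarTower k S N]
    (𝒩 : ℤ → AddSubgroup N) [DirectSum.Decomposition 𝒩] [SetLike.GradedSMul ℬ 𝒩]
    [Module.Finite S N]
    (P : Type u) [AddCommGroup P] [Module T P] [Module k P] [IsScalarTower k T P]
    (𝒬 : ℤ → AddSubgroup P) [DirectSum.Decomposition 𝒬]
    (φ : P →ₗ[k] TensorProduct k M N) (hP : GrSeg.IsSegreMod ψ ℳ 𝒩 𝒬 φ)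
    (dM dN : ℕ) (hdM : Module.supportDim R M = dM) (hdN : Module.supportDim S N = dN)
    (hMA : ¬ IsArtinian R M) (hNA : ¬ IsArtinian S N) :
    Module.supportDim T P = ((dM + dN - 1 : ℕ) : WithBot ℕ∞) := by
  classical
  haveI : IsNoetherianRing R := Algebra.FiniteType.isNoetherianRing k R
  haveI : IsNoetherianRing S := Algebra.FiniteType.isNoetherianRing k S
  haveI : Nontrivial M := by
    by_contra h
    rw [not_nontrivial_iff_subsingleton] at h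
    exact hMA inferInstance
  haveI : Nontrivial N := by
    by_contra h
    rw [not_nontrivial_iff_subsingleton] at h
    exact hNA inferInstance
  haveI : Nontrivial R := Module.nontrivial R M
  haveI : Nontrivial S := Module.nontrivial S N
  haveI : IsNoetherianRing T :=
    Groth.Agent.S18646.result k R 𝒜 hposR h0R S ℬ hposS h0S T 𝒯 ψ hT.1 hT.2
  haveI : Nontrivial T := nontrivial_segre 𝒜 ℬ 𝒯 ψ hT
  have h0T : 𝒯 0 = Submodule.span k {(1 : T)} := segre_zero 𝒜 ℬ 𝒯 ψ hT h0R h0S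
  have hposT : ∀ n : ℤ, n < 0 → 𝒯 n = ⊥ := SegBase.segre_pos 𝒜 ℬ 𝒯 ψ hT hposR
  haveI : SetLike.GradedSMul 𝒯 𝒬 := gradedSMul_of_isSegreMod 𝒜 ℬ 𝒯 ψ hT ℳ 𝒩 𝒬 φ hP
  haveI : Module.Finite T P :=
    Groth.Agent.S19747.result k R 𝒜 hposR h0R S ℬ hposS h0S T 𝒯 ψ hT M ℳ N 𝒩 P 𝒬 φ hP
  have hdM1 : 1 ≤ dM := by
    by_contra h
    have h0 : dM = 0 := by omega
    apply hMA
    apply isArtinian_of_supportDim_le_zero
    rw [hdM, h0]
    rfl
  have hdN1 : 1 ≤ dN := by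
    by_contra h
    have h0 : dN = 0 := by omega
    apply hNA
    apply isArtinian_of_supportDim_le_zero
    rw [hdN, h0]
    rfl
  have hstdT := segre_std 𝒜 ℬ 𝒯 ψ hT hstdR hstdS
  -- the irrelevant ideals
  have hmR := SegBase.irr_toIdeal 𝒜
  have hmS := SegBase.irr_toIdeal ℬ
  have hmT := SegBase.irr_toIdeal 𝒯
  have hhomR : (idealTo 𝒜 (SegBase.irr 𝒜)).toIdeal =
      Ideal.span ((toAS 𝒜 1 : AddSubgroup R) : Set R) := hmR.trans hstdR
  have hhomS : (idealTo ℬ (SegBase.irr ℬ)).toIdeal =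
      Ideal.span ((toAS ℬ 1 : AddSubgroup S) : Set S) := hmS.trans hstdS
  have hhomT : (idealTo 𝒯 (SegBase.irr 𝒯)).toIdeal =
      Ideal.span ((toAS 𝒯 1 : AddSubgroup T) : Set T) := hmT.trans hstdT
  have hfR := SegBase.isField_deg0 𝒜 h0R
  have hfS := SegBase.isField_deg0 ℬ h0S
  have hfT := SegBase.isField_deg0 𝒯 h0T
  haveI : IsArtinianRing (deg0 (toAS 𝒜)) := by
    letI : Field (deg0 (toAS 𝒜)) := hfR.toField
    infer_instance
  haveI : IsArtinianRing (deg0 (toAS ℬ)) := by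
    letI : Field (deg0 (toAS ℬ)) := hfS.toField
    infer_instance
  haveI : IsArtinianRing (deg0 (toAS 𝒯)) := by
    letI : Field (deg0 (toAS 𝒯)) := hfT.toField
    infer_instance
  obtain ⟨PM, hPM⟩ := exists_isHP (idealTo 𝒜 (SegBase.irr 𝒜))
    (SegBase.hmAS 𝒜 (SegBase.irr 𝒜) hmR) hhomR (toAS ℳ)
  obtain ⟨PN, hPN⟩ := exists_isHP (idealTo ℬ (SegBase.irr ℬ))
    (SegBase.hmAS ℬ (SegBase.irr ℬ) hmS) hhomS (toAS 𝒩)
  have hdegM := degree_eq_of_supportDim (toAS 𝒜) (SegBase.hposAS 𝒜 hposR) hfR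
    (idealTo 𝒜 (SegBase.irr 𝒜)) (SegBase.hmAS 𝒜 (SegBase.irr 𝒜) hmR) hhomR (toAS ℳ) dM hdM1
    hdM PM hPM
  have hdegN := degree_eq_of_supportDim (toAS ℬ) (SegBase.hposAS ℬ hposS) hfS
    (idealTo ℬ (SegBase.irr ℬ)) (SegBase.hmAS ℬ (SegBase.irr ℬ) hmS) hhomS (toAS 𝒩) dN hdN1
    hdN PN hPN
  have hHP : IsHP (toAS 𝒯) (toAS 𝒬) (PM * PN) := by
    obtain ⟨N₁, h₁⟩ := hPM
    obtain ⟨N₂, h₂⟩ := hPN
    refine ⟨N₁ ⊔ N₂, fun n hn => ?_⟩
    rw [Polynomial.eval_mul, h₁ n (le_trans le_sup_left hn), h₂ n (le_trans le_sup_right hn),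
      len_comp_eq 𝒜 h0R ℳ n, len_comp_eq ℬ h0S 𝒩 n, len_comp_eq 𝒯 h0T 𝒬 n,
      finrank_pieceK_segre 𝒜 ℬ 𝒯 ψ ℳ 𝒩 𝒬 φ hP n]
    push_cast
    rfl
  have hdeg : (PM * PN).degree = ((dM + dN - 2 : ℕ) : WithBot ℕ) := by
    rw [Polynomial.degree_mul, hdegM, hdegN, ← Nat.cast_add]
    congr 1
    omega
  apply eq_of_le_of_not_le _ _ (by omega)
  · apply supportDim_le_of_degree_lt (toAS 𝒯) (SegBase.hposAS 𝒯 hposT) hfT
      (idealTo 𝒯 (SegBase.irr 𝒯)) (SegBase.hmAS 𝒯 (SegBase.irr 𝒯) hmT) hhomT (dM + dN - 1) P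
      (toAS 𝒬) (PM * PN) hHP
    rw [hdeg]
    rw [Nat.cast_lt]
    omega
  · intro hle
    have := degree_lt (idealTo 𝒯 (SegBase.irr 𝒯)) (SegBase.hmAS 𝒯 (SegBase.irr 𝒯) hmT) hhomT
      (SegBase.hposAS 𝒯 hposT) (dM + dN - 1 - 1) P (toAS 𝒬) (PM * PN) hle hHP
    rw [hdeg, Nat.cast_lt] at this
    omega

end Groth.Agent.Lib.Helper20.SegHilb
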