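import Mathlib
import Groth.Agent.Lib.Helper20.SegModCM3

/-!
# Local cohomology of Segre products of modules with a single non-vanishing local cohomology, and
depth via local cohomology (helper20)
-/

set_option autoImplicit false
set_option linter.unusedSectionVars false
set_option linter.unusedVariables false
set_option linter.style.haveILetI false

universe u

open TensorProduct DirectSum Groth.Agent.Lib.Helper20.SegKun Groth.Agent.Lib.Helper20.SegTP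
  Groth.Agent.Lib.Helper20.GrConv GrLC Groth.Agent.Lib.Helper4.LC
  Groth.Agent.Lib.Helper20.SegAcyc Groth.Agent.Lib.Helper20.GrLCBasic

namespace Groth.Agent.Lib.Helper20.SegGr

open GrSeg

/-- the Künneth formula in terms of vanishing, when `M` and `N` have only one non-vanishing local
cohomology module each (in degrees `r ≥ 1` and `s ≥ 1`). -/
theorem segreMod_Hcomp_eq_bot_iff (k : Type u) [Field k] (R : Type u) [CommRing R] [Nontrivial R]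
    [Algebra k R]
    (𝒜 : ℤ → Submodule k R) [GradedAlgebra 𝒜] (hposR : ∀ n : ℤ, n < 0 → 𝒜 n = ⊥)
    (h0R : 𝒜 0 = Submodule.span k {(1 : R)}) [Algebra.FiniteType k R]
    (S : Type u) [CommRing S] [Nontrivial S] [Algebra k S] (ℬ : ℤ → Submodule k S)
    [GradedAlgebra ℬ] (hposS : ∀ n : ℤ, n < 0 → ℬ n = ⊥)
    (h0S : ℬ 0 = Submodule.span k {(1 : S)}) [Algebra.FiniteType k S]
    (T : Type u) [CommRing T] [Algebra k T] (𝒯 : ℤ → Submodule k T) [GradedAlgebra 𝒯]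
    (ψ : T →ₐ[k] TensorProduct k R S) (hT : GrSeg.IsSegreRing 𝒜 ℬ 𝒯 ψ)
    (mR : HomogeneousIdeal 𝒜)
    (hmR : mR.toIdeal = Ideal.span (⋃ n ∈ Set.Ioi (0 : ℤ), (𝒜 n : Set R)))
    (mS : HomogeneousIdeal ℬ)
    (hmS : mS.toIdeal = Ideal.span (⋃ n ∈ Set.Ioi (0 : ℤ), (ℬ n : Set S)))
    (mT : HomogeneousIdeal 𝒯)
    (hmT : mT.toIdeal = Ideal.span (⋃ n ∈ Set.Ioi (0 : ℤ), (𝒯 n : Set T)))
    (M : Type u) [AddCommGroup M] [Module R M] [Module k M] [IsScalarTower k R M]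
    (ℳ : ℤ → AddSubgroup M) [DirectSum.Decomposition ℳ] [SetLike.GradedSMul 𝒜 ℳ]
    [Module.Finite R M] (EM : GrLC.StarInjRes 𝒜 ℳ)
    (N : Type u) [AddCommGroup N] [Module S N] [Module k N] [IsScalarTower k S N]
    (𝒩 : ℤ → AddSubgroup N) [DirectSum.Decomposition 𝒩] [SetLike.GradedSMul ℬ 𝒩]
    [Module.Finite S N] (EN : GrLC.StarInjRes ℬ 𝒩)
    (P : Type u) [AddCommGroup P] [Module T P] [Module k P] [IsScalarTower k T P]
    (𝒬 : ℤ → AddSubgroup P) [DirectSum.Decomposition 𝒬] [SetLike.GradedSMul 𝒯 𝒬]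
    (φ : P →ₗ[k] TensorProduct k M N) (hP : GrSeg.IsSegreMod ψ ℳ 𝒩 𝒬 φ)
    (EP : GrLC.StarInjRes 𝒯 𝒬)
    (r s : ℕ) (h1r : 1 ≤ r) (h1s : 1 ≤ s)
    (hMv : ∀ i, i ≠ r → ∀ d, EM.Hcomp mR i d = ⊥)
    (hNv : ∀ i, i ≠ s → ∀ d, EN.Hcomp mS i d = ⊥) (q : ℕ) (d : ℤ) :
    EP.Hcomp mT q d = ⊥ ↔ (ℳ d = ⊥ ∨ EN.Hcomp mS q d = ⊥) ∧
      (EM.Hcomp mR q d = ⊥ ∨ 𝒩 d = ⊥) ∧
      (q + 1 = r + s → EM.Hcomp mR r d = ⊥ ∨ EN.Hcomp mS s d = ⊥) := by
  classical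
  haveI : IsNoetherianRing R := Algebra.FiniteType.isNoetherianRing k R
  haveI : IsNoetherianRing S := Algebra.FiniteType.isNoetherianRing k S
  haveI : IsNoetherianRing T :=
    Groth.Agent.S18646.result k R 𝒜 hposR h0R S ℬ hposS h0S T 𝒯 ψ hT.1 hT.2
  haveI : Nontrivial T := nontrivial_segre 𝒜 ℬ 𝒯 ψ hT
  have h0T : 𝒯 0 = Submodule.span k {(1 : T)} := segre_zero 𝒜 ℬ 𝒯 ψ hT h0R h0S
  haveI : Module.Finite T P :=
    Groth.Agent.S19747.result k R 𝒜 hposR h0R S ℬ hposS h0S T 𝒯 ψ hT M ℳ N 𝒩 P 𝒬 φ hP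
  have hM0 : ∀ d, EM.Hcomp mR 0 d = ⊥ := fun d => hMv 0 (by omega) d
  have hN0 : ∀ d, EN.Hcomp mS 0 d = ⊥ := fun d => hNv 0 (by omega) d
  have hK := kunneth' k R 𝒜 hposR h0R S ℬ hposS h0S T 𝒯 ψ hT mR hmR mS hmS mT hmT M ℳ EM
    N 𝒩 EN P 𝒬 φ hP EP hM0 hN0 q d
  have cM : ∀ i, Module.finrank (deg0 𝒜) (EM.Hcomp mR i d) = 0 ↔ EM.Hcomp mR i d = ⊥ :=
    fun i => (SegBase.Hcomp_eq_bot_iff_finrank 𝒜 h0R mR hmR ℳ EM i d).symm
  have cN : ∀ i, Module.finrank (deg0 ℬ) (EN.Hcomp mS i d) = 0 ↔ EN.Hcomp mS i d = ⊥ :=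
    fun i => (SegBase.Hcomp_eq_bot_iff_finrank ℬ h0S mS hmS 𝒩 EN i d).symm
  rw [SegBase.Hcomp_eq_bot_iff_finrank 𝒯 h0T mT hmT 𝒬 EP q d, hK]
  simp only [Nat.add_eq_zero_iff, Nat.mul_eq_zero, Finset.sum_eq_zero_iff, Finset.mem_range,
    cM, cN, finrank_comp_eq_zero_iff 𝒜 h0R ℳ EM d, finrank_comp_eq_zero_iff ℬ h0S 𝒩 EN d]
  constructor
  · rintro ⟨⟨hA, hB⟩, hC⟩
    refine ⟨hA, hB, fun hq => ?_⟩
    have := hC r (by omega)
    have e1 : q + 1 - r = s := by omega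
    rwa [e1] at this
  · rintro ⟨hA, hB, hC⟩
    refine ⟨⟨hA, hB⟩, fun i hi => ?_⟩
    by_cases hir : i = r
    · by_cases hjs : q + 1 - i = s
      · rw [hir] at hjs ⊢
        rw [hjs]
        exact hC (by omega)
      · exact Or.inr (hNv _ hjs d)
    · exact Or.inl (hMv i hir d)

end Groth.Agent.Lib.Helper20.SegGr

namespace Groth.Agent.Lib.Helper20.SegBase

variable {k : Type u} [Field k] {R : Type u} [CommRing R] [Algebra k R]
  (𝒜 : ℤ → Submodule k R) [GradedAlgebra 𝒜]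
  (m : HomogeneousIdeal 𝒜)
  [IsNoetherianRing R]
  {M : Type u} [AddCommGroup M] [Module R M] [Module.Finite R M] (ℳ : ℤ → AddSubgroup M)
  [DirectSum.Decomposition ℳ] [SetLike.GradedSMul 𝒜 ℳ] (E : StarInjRes 𝒜 ℳ)

/-- **depth via local cohomology**: the depth with respect to `m` is the least degree of
non-vanishing local cohomology. -/
theorem idealDepth_eq_of_vanishing (n : ℕ) (hlow : ∀ i < n, ∀ d : ℤ, E.Hcomp m i d = ⊥)
    (hn : ∃ d : ℤ, E.Hcomp m n d ≠ ⊥) : LocCoh.idealDepth m.toIdeal M = (n : ℕ∞) := by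
  apply le_antisymm
  · by_contra hlt
    push Not at hlt
    obtain ⟨d, hd⟩ := hn
    exact hd (Hcomp_eq_bot_of_HH 𝒜 m ℳ E n (HH.subsingleton_of_lt_idealDepth m.toIdeal M n hlt) d)
  · apply Groth.Agent.Lib.Helper20.GrModCM.le_idealDepth_of_HH_vanishing m.toIdeal M n
    intro i hi
    exact subsingleton_HH_of_Hcomp_eq_bot 𝒜 m ℳ E i (hlow i hi)

end Groth.Agent.Lib.Helper20.SegBase
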