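import Mathlib
import Groth.Agent.Lib.Helper20.SegCM4
import Groth.Agent.Lib.Helper20.GrAinvPoly2
import Groth.Agent.Lib.Helper20.GrPolyIso
import Groth.Agent.S18644
import Groth.Agent.S17771

/-!
# One-dimensional standard graded Cohen–Macaulay rings over a field with negative a-invariant
are polynomial rings (helper20)
-/

set_option autoImplicit false
set_option linter.unusedSectionVars false
set_option linter.unusedVariables false
set_option linter.style.haveILetI false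

universe u

open DirectSum GrLC TensorProduct Groth.Agent.Lib.Helper20.GrConv Groth.Agent.Lib.Helper4.LC
  Groth.Agent.Lib.Helper20.SegGr Groth.Agent.Lib.Helper20.SegKun

namespace Groth.Agent.Lib.Helper20.SegBase

section poly

variable {k : Type u} [Field k] {R : Type u} [CommRing R] [Nontrivial R] [Algebra k R]
  [IsNoetherianRing R] [LocCoh.IsCohenMacaulayRing R]
  (𝒜 : ℤ → Submodule k R) [GradedAlgebra 𝒜]
  (hpos : ∀ n : ℤ, n < 0 → 𝒜 n = ⊥) (h0 : 𝒜 0 = Submodule.span k {(1 : R)})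
  (m : HomogeneousIdeal 𝒜)
  (hm : m.toIdeal = Ideal.span (⋃ n ∈ Set.Ioi (0 : ℤ), (𝒜 n : Set R)))
  (I : StarInjRes 𝒜 𝒜)
  (hstd : Ideal.span (⋃ n ∈ Set.Ioi (0 : ℤ), (𝒜 n : Set R)) =
    Ideal.span ((𝒜 1 : Submodule k R) : Set R))
  (hr : ringKrullDim R = ((1 : ℕ) : WithBot ℕ∞))

include hpos h0 hm hstd hr in
/-- vanishing of the top local cohomology in non-negative degrees forces a polynomial ring. -/
theorem nonempty_algEquiv_of_vanishing (h : ∀ n : ℤ, 0 ≤ n → I.Hcomp m 1 n = ⊥) :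
    Nonempty (R ≃ₐ[k] Polynomial k) := by
  classical
  have h0' := isField_deg0 𝒜 h0
  have hm' := isStarLocal 𝒜 hpos h0 m hm
  have hpos' := hposAS 𝒜 hpos
  haveI : IsArtinianRing (GrLC.deg0 (toAS 𝒜)) := by
    letI : Field (GrLC.deg0 (toAS 𝒜)) := h0'.toField
    infer_instance
  have hend : endDeg ((resTo 𝒜 𝒜 I).Hgr (idealTo 𝒜 m) 1) ≤
      (((-((1 : ℕ) : ℤ) : ℤ) : WithTop ℤ) : WithBot (WithTop ℤ)) := by
    apply iSup₂_le
    intro n hn
    have hn0 : n < 0 := by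
      by_contra hcon
      apply hn
      have h1 := (Hcomp_eq_bot_iff 𝒜 𝒜 I m 1 n).2 (h n (not_lt.1 hcon))
      rw [AddSubgroup.eq_bot_iff_forall]
      intro x hx
      have hx' : x ∈ (resTo 𝒜 𝒜 I).Hcomp (idealTo 𝒜 m) 1 n := hx
      rw [h1] at hx'
      exact hx'
    exact_mod_cast (by omega : n ≤ -1)
  have hlen := Groth.Agent.Lib.Helper20.GrAinvPoly.len_one_eq (toAS 𝒜) hpos' hstd (idealTo 𝒜 m)
    hm' 1 hr (resTo 𝒜 𝒜 I) h0' hend
  obtain ⟨ℓ, hℓ, hspan⟩ := Groth.Agent.Lib.Helper20.GrAinvPoly.exists_spanning (toAS 𝒜) (r := 1)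
    h0' (Groth.Agent.Lib.Helper20.GrSerre.length_comp_ne_top (𝒜 := toAS 𝒜) (toAS 𝒜) 1) hlen
  have hsurj := Groth.Agent.Lib.Helper20.GrPolyIso.phi_surjective (toAS 𝒜) ℓ hpos' hstd hspan
  let g : Polynomial k →ₐ[k] R := Polynomial.aeval (ℓ 0)
  have hgs : Function.Surjective g := by
    intro y
    obtain ⟨f, rfl⟩ := hsurj y
    induction f using MvPolynomial.induction_on with
    | C a =>
      obtain ⟨c, hc⟩ := (mem_deg0_toAS_iff 𝒜 h0 a.1).1 a.2
      refine ⟨Polynomial.C c, ?_⟩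
      show Polynomial.aeval (ℓ 0) (Polynomial.C c) = MvPolynomial.aeval ℓ (MvPolynomial.C a)
      rw [Polynomial.aeval_C, MvPolynomial.aeval_C, hc]
      rfl
    | add p q hp hq =>
      obtain ⟨p', hp'⟩ := hp
      obtain ⟨q', hq'⟩ := hq
      exact ⟨p' + q', by rw [map_add, hp', hq', map_add]⟩
    | mul_X p i hp =>
      obtain ⟨p', hp'⟩ := hp
      refine ⟨p' * Polynomial.X, ?_⟩
      rw [map_mul, hp', map_mul]
      congr 1
      show Polynomial.aeval (ℓ 0) Polynomial.X = MvPolynomial.aeval ℓ (MvPolynomial.X i)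
      rw [Polynomial.aeval_X, MvPolynomial.aeval_X, Subsingleton.elim i 0]
  have hgi : Function.Injective g := by
    rw [injective_iff_map_eq_zero]
    intro f hf
    by_contra hne
    have hdimA : ringKrullDim (Polynomial k) = ((1 : ℕ) : WithBot ℕ∞) := by
      rw [Polynomial.ringKrullDim_of_isNoetherianRing, ringKrullDim_eq_zero_of_field, zero_add]
      rfl
    have hnzd : f ∈ nonZeroDivisors (Polynomial k) := mem_nonZeroDivisors_of_ne_zero hne
    have h1 := ringKrullDim_quotient_succ_le_of_nonZeroDivisor hnzd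
    let ψ : (Polynomial k ⧸ Ideal.span {f}) →+* R :=
      Ideal.Quotient.lift (Ideal.span {f}) g.toRingHom (by
        intro a ha
        obtain ⟨b, rfl⟩ := Ideal.mem_span_singleton'.1 ha
        show g (b * f) = 0
        rw [map_mul, hf, mul_zero])
    have hψ : Function.Surjective ψ := by
      intro y
      obtain ⟨p, rfl⟩ := hgs y
      exact ⟨Ideal.Quotient.mk _ p, rfl⟩
    have h2 := ringKrullDim_le_of_surjective
      (R := Polynomial k ⧸ Ideal.span {f}) (S := R) ψ hψ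
    rw [hr] at h2
    rw [hdimA] at h1
    have h3 : ((1 : ℕ) : WithBot ℕ∞) + 1 ≤ ((1 : ℕ) : WithBot ℕ∞) :=
      le_trans (add_le_add_left h2 1) h1
    have h4 : 1 + 1 ≤ 1 := by exact_mod_cast h3
    omega
  exact ⟨(AlgEquiv.ofBijective g ⟨hgi, hgs⟩).symm⟩

include h0 in
/-- the degree zero subring is a copy of `k`. -/
theorem nonempty_ringEquiv_deg0 : Nonempty (k ≃+* GrLC.deg0 (toAS 𝒜)) := by
  let f : k →+* GrLC.deg0 (toAS 𝒜) :=
    (algebraMap k R).codRestrict (GrLC.deg0 (toAS 𝒜))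
      (fun c => (mem_deg0_toAS_iff 𝒜 h0 _).2 ⟨c, rfl⟩)
  refine ⟨RingEquiv.ofBijective f ⟨?_, ?_⟩⟩
  · intro a b hab
    have : algebraMap k R a = algebraMap k R b := congrArg Subtype.val hab
    exact (algebraMap k R).injective this
  · intro x
    obtain ⟨c, hc⟩ := (mem_deg0_toAS_iff 𝒜 h0 x.1).1 x.2
    exact ⟨c, Subtype.ext hc⟩

include hpos h0 hm hstd hr in
/-- a polynomial ring has top local cohomology concentrated in negative degrees. -/
theorem vanishing_of_algEquiv (e : R ≃ₐ[k] Polynomial k) (n : ℤ) (hn : 0 ≤ n) :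
    I.Hcomp m 1 n = ⊥ := by
  classical
  have h0' := isField_deg0 𝒜 h0
  have hm' := isStarLocal 𝒜 hpos h0 m hm
  have hpos' := hposAS 𝒜 hpos
  obtain ⟨κ⟩ := nonempty_ringEquiv_deg0 𝒜 h0
  let e' : R ≃+* MvPolynomial (Fin 1) (GrLC.deg0 (toAS 𝒜)) :=
    e.toRingEquiv.trans ((Polynomial.mapEquiv κ).trans
      (MvPolynomial.uniqueAlgEquiv (GrLC.deg0 (toAS 𝒜)) (Fin 1)).symm.toRingEquiv)
  have hend := (Groth.Agent.S18644.result R (toAS 𝒜) hpos' h0' (idealTo 𝒜 m) hm' (hmAS 𝒜 m hm) hstd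
    1 hr (resTo 𝒜 𝒜 I)).2 ⟨e'⟩
  have hbot : (resTo 𝒜 𝒜 I).Hgr (idealTo 𝒜 m) 1 n = ⊥ := by
    apply Groth.Agent.Lib.Helper20.GrLES2.eq_bot_of_endDeg_lt
    rw [hend]
    exact_mod_cast (by omega : -((1 : ℕ) : ℤ) < n)
  rw [← Hcomp_eq_bot_iff 𝒜 𝒜 I m 1 n, Submodule.eq_bot_iff]
  intro x hx
  have hx' : x ∈ (resTo 𝒜 𝒜 I).Hgr (idealTo 𝒜 m) 1 n := hx
  rw [hbot] at hx'
  exact hx'

end poly

end Groth.Agent.Lib.Helper20.SegBase
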