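import Mathlib
import Groth.Agent.Lib.Helper20.SegBase
import Groth.Agent.Lib.Helper20.SegCM2
import Groth.Agent.Lib.Helper20.GrLCExt

/-!
# Shifts of *injective resolutions (helper20)
-/

set_option autoImplicit false
set_option linter.unusedSectionVars false
set_option linter.unusedVariables false
set_option linter.style.haveILetI false

universe u

open DirectSum GrLC Groth.Agent.Lib.Helper20.GrConv Groth.Agent.Lib.Helper4.LC
  Groth.Agent.Lib.Helper20.GrLCBasic Groth.Agent.Lib.Helper20.GrLCExt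

namespace Groth.Agent.Lib.Helper20.SegShift

section AS

variable {R : Type u} [CommRing R] (𝒜 : ℤ → AddSubgroup R) [GradedRing 𝒜]
  {M : Type u} [AddCommGroup M] [Module R M] (ℳ : ℤ → AddSubgroup M)
  [DirectSum.Decomposition ℳ] [SetLike.GradedSMul 𝒜 ℳ]

/-- the shift of a *injective resolution is a *injective resolution of the shifted module. -/
noncomputable def shiftRes (E : StarInjRes 𝒜 ℳ) (g : ℤ) : StarInjRes 𝒜 (shiftGr ℳ g) where
  X n := shiftGMod 𝒜 (E.X n) g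
  d := E.d
  ε := E.ε
  d_grHom := fun n j x hx => E.d_grHom n (j + g) x hx
  ε_grHom := fun j m hm => E.ε_grHom (j + g) m hm
  ε_injective := E.ε_injective
  exact_zero := E.exact_zero
  exact_succ := E.exact_succ
  starInj n := isStarInj_shift 𝒜 (E.X n).gr (E.starInj n) g

theorem shiftRes_Hcomp_eq_bot_iff (E : StarInjRes 𝒜 ℳ) (g : ℤ) (a : HomogeneousIdeal 𝒜)
    (i : ℕ) (d : ℤ) :
    (shiftRes 𝒜 ℳ E g).Hcomp a i d = ⊥ ↔ E.Hcomp a i (d + g) = ⊥ := by
  constructor
  · intro h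
    rw [Submodule.eq_bot_iff] at h ⊢
    intro x hx
    exact h x hx
  · intro h
    rw [Submodule.eq_bot_iff] at h ⊢
    intro x hx
    exact h x hx

end AS

section K

variable {k : Type u} [Field k] {R : Type u} [CommRing R] [Algebra k R]
  (𝒜 : ℤ → Submodule k R) [GradedAlgebra 𝒜]

/-- the shifted ring as a graded module over the ring graded by `k`-subspaces. -/
instance shiftGradedSMulK (a : ℤ) : SetLike.GradedSMul 𝒜 (shiftGr (toAS 𝒜) a) :=
  gradedSMul_of_toAS 𝒜 (shiftGr (toAS 𝒜) a)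

/-- a *injective resolution of the shifted ring `R(a)`. -/
noncomputable def shiftResK (I : StarInjRes 𝒜 𝒜) (a : ℤ) :
    StarInjRes 𝒜 (shiftGr (toAS 𝒜) a) where
  X n := gmodOf 𝒜 ((shiftRes (toAS 𝒜) (toAS 𝒜) (resTo 𝒜 𝒜 I) a).X n)
  d := I.d
  ε := I.ε
  d_grHom := fun n j x hx => I.d_grHom n (j + a) x hx
  ε_grHom := fun j m hm => I.ε_grHom (j + a) m hm
  ε_injective := I.ε_injective
  exact_zero := I.exact_zero
  exact_succ := I.exact_succ
  starInj n :=
    haveI := gradedSMul_of_toAS 𝒜 ((shiftRes (toAS 𝒜) (toAS 𝒜) (resTo 𝒜 𝒜 I) a).X n).gr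
    Groth.Agent.Lib.Helper20.SegBase.isStarInj_of_toAS 𝒜
      ((shiftRes (toAS 𝒜) (toAS 𝒜) (resTo 𝒜 𝒜 I) a).X n).gr
      ((shiftRes (toAS 𝒜) (toAS 𝒜) (resTo 𝒜 𝒜 I) a).starInj n)

theorem shiftResK_Hcomp_eq_bot_iff (I : StarInjRes 𝒜 𝒜) (a : ℤ) (m : HomogeneousIdeal 𝒜)
    (i : ℕ) (d : ℤ) :
    (shiftResK 𝒜 I a).Hcomp m i d = ⊥ ↔ I.Hcomp m i (d + a) = ⊥ := by
  constructor
  · intro h
    rw [Submodule.eq_bot_iff] at h ⊢
    intro x hx
    exact h x hx
  · intro h
    rw [Submodule.eq_bot_iff] at h ⊢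
    intro x hx
    exact h x hx

end K

end Groth.Agent.Lib.Helper20.SegShift
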