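import Mathlib
import Groth.Agent.Lib.Helper20.GrPolyTop
import Groth.Agent.Lib.Helper20.SegCM4
import Groth.Agent.Lib.Helper20.SegShift
import Groth.Agent.Lib.Helper28.Reflexive

/-!
# The standard graded polynomial ring over a field, graded by `k`-subspaces (helper20)
-/

set_option autoImplicit false
set_option linter.unusedSectionVars false
set_option linter.unusedVariables false
set_option linter.style.haveILetI false

universe u

attribute [local instance] MvPolynomial.weightedGradedAlgebra

open DirectSum GrLC MvPolynomial Groth.Agent.Lib.Helper20.GrConv Groth.Agent.Lib.Helper4.LC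
  Groth.Agent.Lib.Helper20.GrWeightedPoly Groth.Agent.Lib.Helper20.GrPolyTop

namespace Groth.Agent.Lib.Helper20.SegPolyLC

section cmself

variable (R : Type u) [CommRing R] [LocCoh.IsCohenMacaulayRing R]

/-- a Cohen–Macaulay ring is Cohen–Macaulay as a module over itself, at all primes. -/
theorem cm_self : ∀ (q : Ideal R) [q.IsPrime],
    Subsingleton (LocalizedModule q.primeCompl R) ∨
      LocCoh.IsCohenMacaulayModule (Localization.AtPrime q) (LocalizedModule q.primeCompl R) := by
  intro q hq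
  right
  have hCM := LocCoh.IsCohenMacaulayRing.isCohenMacaulayLocalRing_localization (R := R) q
  have h1 := hCM.supportDim_eq_depth
  unfold LocCoh.IsCohenMacaulayModule
  rw [Module.supportDim_eq_of_equiv
    (Groth.Agent.Lib.Helper28.localizedSelfEquiv (A := R) q.primeCompl)]
  unfold LocCoh.depth at h1 ⊢
  rw [Groth.Agent.Lib.Helper28.idealDepth_congr
    (Groth.Agent.Lib.Helper28.localizedSelfEquiv (A := R) q.primeCompl)]
  exact h1

end cmself

variable (k : Type u) [Field k] (N : ℕ)

/-- the standard grading by `k`-subspaces. -/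
noncomputable abbrev A1 : ℤ → Submodule k (MvPolynomial (Fin N) k) :=
  weightedHomogeneousSubmodule k (fun _ : Fin N => (1 : ℤ))

theorem A1_neg (n : ℤ) (hn : n < 0) : A1 k N n = ⊥ := by
  have h := WA_neg k N (w₁ N) (fun _ => one_pos) n hn
  rw [Submodule.eq_bot_iff]
  intro x hx
  have hx' : x ∈ WA k N (w₁ N) n := hx
  rw [h] at hx'
  exact hx'

theorem A1_zero : A1 k N 0 = Submodule.span k {(1 : MvPolynomial (Fin N) k)} := by
  apply le_antisymm
  · intro p hp
    have hp' : p ∈ WA k N (w₁ N) 0 := hp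
    have h := eq_C_of_mem_zero k N (w₁ N) (fun _ => one_pos) hp'
    rw [h, Submodule.mem_span_singleton]
    refine ⟨coeff 0 p, ?_⟩
    rw [MvPolynomial.smul_eq_C_mul, mul_one]
  · rw [Submodule.span_le]
    rintro _ rfl
    exact SetLike.GradedOne.one_mem

theorem A1_ne_bot_iff (hN : 1 ≤ N) (j : ℤ) : A1 k N j ≠ ⊥ ↔ 0 ≤ j := by
  constructor
  · intro h
    by_contra hlt
    push Not at hlt
    exact h (A1_neg k N j hlt)
  · intro hj h
    obtain ⟨t, rfl⟩ : ∃ t : ℕ, j = t := ⟨j.toNat, by omega⟩
    have h1 : (X (⟨0, by omega⟩ : Fin N) : MvPolynomial (Fin N) k) ^ t ∈ A1 k N (t : ℤ) := by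
      have := (isWeightedHomogeneous_X k (fun _ : Fin N => (1 : ℤ)) (⟨0, by omega⟩ : Fin N)).pow t
      simpa using this
    rw [h, Submodule.mem_bot] at h1
    exact pow_ne_zero t (X_ne_zero _) h1

theorem supportDim_self :
    Module.supportDim (MvPolynomial (Fin N) k) (MvPolynomial (Fin N) k) =
      ((N : ℕ) : WithBot ℕ∞) := by
  rw [Module.supportDim_self_eq_ringKrullDim, ringKrullDim_eq k N]

variable (m : HomogeneousIdeal (A1 k N))
  (hm : m.toIdeal = Ideal.span (⋃ n ∈ Set.Ioi (0 : ℤ),
    (A1 k N n : Set (MvPolynomial (Fin N) k))))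
  (I : StarInjRes (A1 k N) (A1 k N))

include hm in
/-- the top local cohomology of the polynomial ring lives exactly in degrees `≤ -N`. -/
theorem Hcomp_top_ne_bot_iff (hN : 1 ≤ N) (j : ℤ) : I.Hcomp m N j ≠ ⊥ ↔ j ≤ -(N : ℤ) := by
  rw [← Hgr_top_ne_bot_iff k N (idealTo (A1 k N) m) hm (resTo (A1 k N) (A1 k N) I) hN j]
  constructor
  · intro h hbot
    apply h
    rw [Submodule.eq_bot_iff]
    intro x hx
    have hx' : x ∈ (resTo (A1 k N) (A1 k N) I).Hgr (idealTo (A1 k N) m) N j := hx
    rw [hbot] at hx'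
    exact hx'
  · intro h hbot
    apply h
    rw [eq_bot_iff]
    intro x hx
    have hx' : x ∈ I.Hcomp m N j := hx
    rw [hbot] at hx'
    exact hx'

include hm in
/-- the local cohomology of the polynomial ring vanishes outside degree `N`. -/
theorem Hcomp_eq_bot_of_ne (i : ℕ) (hi : i ≠ N) (j : ℤ) : I.Hcomp m i j = ⊥ :=
  Groth.Agent.Lib.Helper20.SegBase.Hcomp_eq_bot_of_ne (A1 k N) (A1_neg k N) (A1_zero k N) m hm I N
    (ringKrullDim_eq k N) i hi j

end Groth.Agent.Lib.Helper20.SegPolyLC
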