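import Mathlib
import Groth.Agent.Lib.Helper20.SegPolyLC
import Groth.Agent.Lib.Helper20.SegModCM4

/-!
# Segre products of shifted polynomial rings (helper20)
-/

set_option autoImplicit false
set_option linter.unusedSectionVars false
set_option linter.unusedVariables false
set_option linter.style.haveILetI false

universe u

attribute [local instance] MvPolynomial.weightedGradedAlgebra

open TensorProduct DirectSum GrLC MvPolynomial Groth.Agent.Lib.Helper20.GrConv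
  Groth.Agent.Lib.Helper4.LC Groth.Agent.Lib.Helper20.GrLCBasic
  Groth.Agent.Lib.Helper20.SegPolyLC Groth.Agent.Lib.Helper20.SegShift

namespace Groth.Agent.Lib.Helper20.SegPolyShift

/-- a pure tensor of non-zero vectors is non-zero. -/
theorem tmul_ne_zero {k : Type u} [Field k] {V W : Type u} [AddCommGroup V] [Module k V]
    [AddCommGroup W] [Module k W] {x : V} {y : W} (hx : x ≠ 0) (hy : y ≠ 0) :
    x ⊗ₜ[k] y ≠ 0 := by
  obtain ⟨f, hf⟩ := Module.Projective.exists_dual_ne_zero k hx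
  obtain ⟨g, hg⟩ := Module.Projective.exists_dual_ne_zero k hy
  intro h
  have h1 := congrArg (fun z => TensorProduct.lid k k (TensorProduct.map f g z)) h
  simp only [TensorProduct.map_tmul, TensorProduct.lid_tmul, map_zero, smul_eq_mul] at h1
  exact mul_ne_zero hf hg h1

/-- the vanishing condition for the local cohomology of `R(a) # S(b)`. -/
def cond (r s : ℕ) (a b : ℤ) (q : ℕ) (d : ℤ) : Prop :=
  (¬ (0 ≤ d + a) ∨ ¬ (q = s ∧ d + b ≤ -(s : ℤ))) ∧
    (¬ (q = r ∧ d + a ≤ -(r : ℤ)) ∨ ¬ (0 ≤ d + b)) ∧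
    (q + 1 = r + s → ¬ (d + a ≤ -(r : ℤ)) ∨ ¬ (d + b ≤ -(s : ℤ)))

theorem polyShift_main (k : Type u) [Field k] (r s : ℕ) (h1r : 1 ≤ r) (h1s : 1 ≤ s)
    (T : Type u) [CommRing T] [Algebra k T] (𝒯 : ℤ → Submodule k T) [GradedAlgebra 𝒯]
    (ψ : T →ₐ[k] TensorProduct k (MvPolynomial (Fin r) k) (MvPolynomial (Fin s) k))
    (hT : GrSeg.IsSegreRing (MvPolynomial.weightedHomogeneousSubmodule k (fun _ : Fin r => (1 : ℤ)))
      (MvPolynomial.weightedHomogeneousSubmodule k (fun _ : Fin s => (1 : ℤ))) 𝒯 ψ)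
    (mT : HomogeneousIdeal 𝒯)
    (hmT : mT.toIdeal = Ideal.span (⋃ n ∈ Set.Ioi (0 : ℤ), (𝒯 n : Set T))) (a b : ℤ)
    (P : Type u) [AddCommGroup P] [Module T P] [Module k P] [IsScalarTower k T P]
    (𝒬 : ℤ → AddSubgroup P) [DirectSum.Decomposition 𝒬]
    (φ : P →ₗ[k] TensorProduct k (MvPolynomial (Fin r) k) (MvPolynomial (Fin s) k))
    (hP : GrSeg.IsSegreMod ψ
      (fun n : ℤ => (MvPolynomial.weightedHomogeneousSubmodule k (fun _ : Fin r => (1 : ℤ))) (n + a))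
      (fun n : ℤ => (MvPolynomial.weightedHomogeneousSubmodule k (fun _ : Fin s => (1 : ℤ))) (n + b))
      𝒬 φ) :
    ((∀ (q : Ideal T) [q.IsPrime], Subsingleton (LocalizedModule q.primeCompl P) ∨
        LocCoh.IsCohenMacaulayModule (Localization.AtPrime q)
          (LocalizedModule q.primeCompl P)) ↔
      ∀ q < r + s - 1, ∀ d : ℤ, cond r s a b q d) ∧
    (∀ n : ℕ, (∀ i < n, ∀ d : ℤ, cond r s a b i d) → (∃ d : ℤ, ¬ cond r s a b n d) →
      LocCoh.idealDepth mT.toIdeal P = (n : ℕ∞)) := by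
  classical
  -- notation
  set 𝒜 := A1 k r with h𝒜
  set ℬ := A1 k s with hℬ
  have hposR := A1_neg k r
  have hposS := A1_neg k s
  have h0R := A1_zero k r
  have h0S := A1_zero k s
  set mR := Groth.Agent.Lib.Helper20.SegBase.irr 𝒜 with hmRdef
  set mS := Groth.Agent.Lib.Helper20.SegBase.irr ℬ with hmSdef
  have hmR := Groth.Agent.Lib.Helper20.SegBase.irr_toIdeal 𝒜
  have hmS := Groth.Agent.Lib.Helper20.SegBase.irr_toIdeal ℬ
  obtain ⟨I⟩ := Groth.Agent.Lib.Helper20.SegBase.nonempty_starInjRes 𝒜 𝒜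
  obtain ⟨J⟩ := Groth.Agent.Lib.Helper20.SegBase.nonempty_starInjRes ℬ ℬ
  -- the Segre module structure for the shifted families of subgroups
  have hP' : GrSeg.IsSegreMod ψ (shiftGr (toAS 𝒜) a) (shiftGr (toAS ℬ) b) 𝒬 φ :=
    ⟨hP.injective, fun n => hP.image_piece n, hP.map_smul⟩
  -- pieces
  have hMpiece : ∀ d : ℤ, shiftGr (toAS 𝒜) a d = ⊥ ↔ ¬ (0 ≤ d + a) := by
    intro d
    rw [← A1_ne_bot_iff k r h1r (d + a), not_not]
    constructor
    · intro h
      rw [Submodule.eq_bot_iff]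
      intro x hx
      have hx' : x ∈ shiftGr (toAS 𝒜) a d := hx
      rw [h] at hx'
      exact hx'
    · intro h
      rw [eq_bot_iff]
      intro x hx
      have hx' : x ∈ A1 k r (d + a) := hx
      rw [h] at hx'
      exact hx'
  have hNpiece : ∀ d : ℤ, shiftGr (toAS ℬ) b d = ⊥ ↔ ¬ (0 ≤ d + b) := by
    intro d
    rw [← A1_ne_bot_iff k s h1s (d + b), not_not]
    constructor
    · intro h
      rw [Submodule.eq_bot_iff]
      intro x hx
      have hx' : x ∈ shiftGr (toAS ℬ) b d := hx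
      rw [h] at hx'
      exact hx'
    · intro h
      rw [eq_bot_iff]
      intro x hx
      have hx' : x ∈ A1 k s (d + b) := hx
      rw [h] at hx'
      exact hx'
  -- local cohomology of the shifted rings
  have hMH : ∀ (q : ℕ) (d : ℤ), (shiftResK 𝒜 I a).Hcomp mR q d = ⊥ ↔
      ¬ (q = r ∧ d + a ≤ -(r : ℤ)) := by
    intro q d
    rw [shiftResK_Hcomp_eq_bot_iff]
    by_cases hq : q = r
    · subst hq
      rw [← Hcomp_top_ne_bot_iff k q mR hmR I h1r (d + a)]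
      simp
    · simp only [hq, false_and, not_false_eq_true, iff_true]
      exact Hcomp_eq_bot_of_ne k r mR hmR I q hq (d + a)
  have hNH : ∀ (q : ℕ) (d : ℤ), (shiftResK ℬ J b).Hcomp mS q d = ⊥ ↔
      ¬ (q = s ∧ d + b ≤ -(s : ℤ)) := by
    intro q d
    rw [shiftResK_Hcomp_eq_bot_iff]
    by_cases hq : q = s
    · subst hq
      rw [← Hcomp_top_ne_bot_iff k q mS hmS J h1s (d + b)]
      simp
    · simp only [hq, false_and, not_false_eq_true, iff_true]
      exact Hcomp_eq_bot_of_ne k s mS hmS J q hq (d + b)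
  have hMv : ∀ i, i ≠ r → ∀ d, (shiftResK 𝒜 I a).Hcomp mR i d = ⊥ := by
    intro i hi d
    rw [hMH]
    exact fun h => hi h.1
  have hNv : ∀ i, i ≠ s → ∀ d, (shiftResK ℬ J b).Hcomp mS i d = ⊥ := by
    intro i hi d
    rw [hNH]
    exact fun h => hi h.1
  -- `P` is non-zero
  haveI : Nontrivial P := by
    set n : ℤ := max (-a) (-b) with hn
    have hna : 0 ≤ n + a := by
      have := le_max_left (-a) (-b)
      omega
    have hnb : 0 ≤ n + b := by
      have := le_max_right (-a) (-b)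
      omega
    have hMn : shiftGr (toAS 𝒜) a n ≠ ⊥ := fun h => (hMpiece n).1 h hna
    have hNn : shiftGr (toAS ℬ) b n ≠ ⊥ := fun h => (hNpiece n).1 h hnb
    obtain ⟨x, hx, hx0⟩ := Groth.Agent.Lib.Helper20.GrAinv.exists_ne_zero_of_ne_bot hMn
    obtain ⟨y, hy, hy0⟩ := Groth.Agent.Lib.Helper20.GrAinv.exists_ne_zero_of_ne_bot hNn
    have hmem : x ⊗ₜ[k] y ∈ GrSeg.segrePiece k (shiftGr (toAS 𝒜) a) (shiftGr (toAS ℬ) b) n :=
      Submodule.subset_span ⟨x, hx, y, hy, rfl⟩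
    have hmem' : x ⊗ₜ[k] y ∈ φ '' (𝒬 n : Set P) := by
      rw [hP'.image_piece n]
      exact hmem
    obtain ⟨p, -, hp⟩ := hmem'
    refine ⟨⟨p, 0, fun h => ?_⟩⟩
    rw [h, map_zero] at hp
    exact tmul_ne_zero hx0 hy0 hp.symm
  haveI : IsNoetherianRing (MvPolynomial (Fin r) k) := inferInstance
  haveI : IsNoetherianRing (MvPolynomial (Fin s) k) := inferInstance
  have hmaster := Groth.Agent.Lib.Helper20.SegGr.segreMod_master k (MvPolynomial (Fin r) k) 𝒜
    hposR h0R (MvPolynomial (Fin s) k) ℬ hposS h0S T 𝒯 ψ hT mR hmR mS hmS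
    (MvPolynomial (Fin r) k) (shiftGr (toAS 𝒜) a) (shiftResK 𝒜 I a)
    (MvPolynomial (Fin s) k) (shiftGr (toAS ℬ) b) (shiftResK ℬ J b) P 𝒬 φ hP' r s h1r h1s
    (supportDim_self k r) (supportDim_self k s) (cm_self _) (cm_self _)
  refine ⟨?_, ?_⟩
  · rw [hmaster.2]
    constructor
    · intro h q hq d
      obtain ⟨h1, h2⟩ := h q hq d
      rw [hMpiece, hNH] at h1
      rw [hMH, hNpiece] at h2
      exact ⟨h1, h2, fun hq' => absurd hq' (by omega)⟩
    · intro h q hq d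
      obtain ⟨h1, h2, -⟩ := h q hq d
      rw [hMpiece, hNH, hMH, hNpiece]
      exact ⟨h1, h2⟩
  · intro n hlow hn
    haveI : IsNoetherianRing T :=
      Groth.Agent.S18646.result k (MvPolynomial (Fin r) k) 𝒜 hposR h0R (MvPolynomial (Fin s) k) ℬ
        hposS h0S T 𝒯 ψ hT.1 hT.2
    haveI : SetLike.GradedSMul 𝒯 𝒬 :=
      Groth.Agent.Lib.Helper20.SegGr.gradedSMul_of_isSegreMod 𝒜 ℬ 𝒯 ψ hT
        (shiftGr (toAS 𝒜) a) (shiftGr (toAS ℬ) b) 𝒬 φ hP'
    haveI : Module.Finite T P :=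
      Groth.Agent.S19747.result k (MvPolynomial (Fin r) k) 𝒜 hposR h0R (MvPolynomial (Fin s) k) ℬ
        hposS h0S T 𝒯 ψ hT (MvPolynomial (Fin r) k) (shiftGr (toAS 𝒜) a)
        (MvPolynomial (Fin s) k) (shiftGr (toAS ℬ) b) P 𝒬 φ hP'
    obtain ⟨EP⟩ := Groth.Agent.Lib.Helper20.SegBase.nonempty_starInjRes 𝒯 𝒬
    have hiff : ∀ q d, EP.Hcomp mT q d = ⊥ ↔ cond r s a b q d := by
      intro q d
      rw [Groth.Agent.Lib.Helper20.SegGr.segreMod_Hcomp_eq_bot_iff k (MvPolynomial (Fin r) k) 𝒜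
        hposR h0R (MvPolynomial (Fin s) k) ℬ hposS h0S T 𝒯 ψ hT mR hmR mS hmS mT hmT
        (MvPolynomial (Fin r) k) (shiftGr (toAS 𝒜) a) (shiftResK 𝒜 I a)
        (MvPolynomial (Fin s) k) (shiftGr (toAS ℬ) b) (shiftResK ℬ J b) P 𝒬 φ hP' EP r s h1r h1s
        hMv hNv q d]
      unfold cond
      rw [hMpiece, hNH, hMH, hNpiece, hMH, hNH]
      simp
    apply Groth.Agent.Lib.Helper20.SegBase.idealDepth_eq_of_vanishing 𝒯 mT 𝒬 EP n
    · intro i hi d
      exact (hiff i d).2 (hlow i hi d)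
    · obtain ⟨d, hd⟩ := hn
      exact ⟨d, fun h => hd ((hiff n d).1 h)⟩

end Groth.Agent.Lib.Helper20.SegPolyShift
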