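import Mathlib

/-!
# A socle element modulo a proper non-maximal ideal of an Artinian local ring (helper20, for helper25 / S12254)
-/

set_option autoImplicit false
set_option linter.style.haveILetI false
universe u

namespace Groth.Agent.Lib.Helper20.SocleMod

/-- (RB) socle element modulo a proper non-maximal ideal of an Artinian local ring. -/
theorem RB {A : Type u} [CommRing A] [IsLocalRing A] [IsArtinianRing A] (I : Ideal A)
    (hI : I < IsLocalRing.maximalIdeal A) :
    ∃ t ∈ IsLocalRing.maximalIdeal A, t ∉ I ∧ ∀ μ ∈ IsLocalRing.maximalIdeal A, μ * t ∈ I := by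
  classical
  set m := IsLocalRing.maximalIdeal A with hm
  have hnil : IsNilpotent m := by
    have h := IsArtinianRing.isNilpotent_jacobson_bot (R := A)
    rwa [IsLocalRing.jacobson_eq_maximalIdeal ⊥ bot_ne_top] at h
  obtain ⟨N, hN⟩ := hnil
  have hex : ∃ n : ℕ, m ^ n ≤ I := ⟨N, by rw [hN]; exact bot_le⟩
  set n := Nat.find hex with hn
  have hnI : m ^ n ≤ I := Nat.find_spec hex
  have hmin : ∀ k, k < n → ¬ m ^ k ≤ I := fun k hk => Nat.find_min hex hk
  have hn0 : n ≠ 0 := by
    intro h0
    rw [h0, pow_zero] at hnI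
    have : I = ⊤ := top_le_iff.mp (by simpa using hnI)
    exact (lt_irrefl _ (lt_of_lt_of_le hI (by rw [this]; exact le_top))).elim
  have hn1 : n ≠ 1 := by
    intro h1
    rw [h1, pow_one] at hnI
    exact (lt_irrefl _ (lt_of_lt_of_le hI hnI)).elim
  have h2 : 2 ≤ n := by omega
  have hlt : n - 1 < n := by omega
  have hnot := hmin (n - 1) hlt
  obtain ⟨t, htm, htI⟩ := SetLike.not_le_iff_exists.mp hnot
  refine ⟨t, ?_, htI, ?_⟩
  · have : m ^ (n - 1) ≤ m := Ideal.pow_le_self (by omega)
    exact this htm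
  · intro μ hμ
    apply hnI
    have : n = (n - 1) + 1 := by omega
    rw [this, pow_succ']
    exact Ideal.mul_mem_mul hμ htm

end Groth.Agent.Lib.Helper20.SocleMod
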