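import Groth.Agent.Lib.Helper20.NewtonNu
import Groth.Agent.S8684
import Groth.Agent.S8685

/-!
# A pre-λ-ring without ℤ-torsion whose Adams operations are unital, multiplicative and compose
multiplicatively is a λ-ring in the strict sense.
-/

set_option autoImplicit false
universe u

namespace Groth.Agent.Lib.Helper20.SpecialOfAdams

open LambdaRing MvPolynomial Groth.Agent.Lib.Helper20.NewtonNu Groth.Agent.Lib.Helper20.SymFT
  Groth.Agent.Lib.Helper20.SymStab Groth.Agent.Lib.Helper20

/-- the Newton polynomials determine the `c j` as soon as positive integers are regular -/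
theorem nu_injective' {R : Type*} [CommRing R]
    (hreg : ∀ n : ℕ, ∀ a b : R, ((n : R) + 1) * a = ((n : R) + 1) * b → a = b)
    (c c' : ℕ → R) (n : ℕ)
    (h : ∀ m, 1 ≤ m → m ≤ n → nu c m = nu c' m) : ∀ j, 1 ≤ j → j ≤ n → c j = c' j := by
  intro j
  induction j using Nat.strong_induction_on with
  | _ j ih =>
    intro h1 hn
    obtain ⟨k, rfl⟩ : ∃ k, j = k + 1 := ⟨j - 1, by omega⟩
    have e := h (k + 1) h1 hn
    rw [nu_succ, nu_succ] at e
    have hs : ∑ i ∈ Finset.range k, (-1 : R) ^ (i + 1) * c (i + 1) * nu c (k - i) =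
        ∑ i ∈ Finset.range k, (-1 : R) ^ (i + 1) * c' (i + 1) * nu c' (k - i) := by
      apply Finset.sum_congr rfl
      intro i hi
      rw [Finset.mem_range] at hi
      rw [ih (i + 1) (by omega) (by omega) (by omega), h (k - i) (by omega) (by omega)]
    rw [hs] at e
    have e2 : (-1 : R) ^ k * ((k : R) + 1) * c (k + 1) = (-1) ^ k * ((k : R) + 1) * c' (k + 1) :=
      sub_left_injective e
    have h2 : (-1 : R) ^ k * (-1) ^ k = 1 := by rw [← mul_pow]; simp
    apply hreg k
    calc ((k : R) + 1) * c (k + 1) = (-1) ^ k * ((-1 : R) ^ k * ((k : R) + 1) * c (k + 1)) := by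
          rw [← mul_assoc, ← mul_assoc, h2, one_mul]
      _ = (-1) ^ k * ((-1 : R) ^ k * ((k : R) + 1) * c' (k + 1)) := by rw [e2]
      _ = ((k : R) + 1) * c' (k + 1) := by rw [← mul_assoc, ← mul_assoc, h2, one_mul]

theorem isSpecial_of_adamsOp (K : Type u) [CommRing K] [LambdaRing.LambdaOps K]
    (hreg : ∀ n : ℕ, ∀ a b : K, ((n : K) + 1) * a = ((n : K) + 1) * b → a = b)
    (h1 : ∀ k : ℕ, 1 ≤ k → LambdaRing.adamsOp k (1 : K) = 1)
    (hmul : ∀ k : ℕ, 1 ≤ k → ∀ x y : K, LambdaRing.adamsOp k (x * y) = LambdaRing.adamsOp k x * LambdaRing.adamsOp k y)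
    (hcomp : ∀ k k' : ℕ, 1 ≤ k → 1 ≤ k' → ∀ x : K,
      LambdaRing.adamsOp k (LambdaRing.adamsOp k' x) = LambdaRing.adamsOp (k * k') x) :
    LambdaRing.IsSpecial K := by
  classical
  refine ⟨?_, ?_, ?_⟩
  · -- `λ^n(1) = 0` for `n ≥ 2`
    intro n hn
    have key : ∀ m, 1 ≤ m → m ≤ n → nu (fun j => LambdaOps.lam j (1 : K)) m =
        nu (fun j => if j = 1 then (1 : K) else 0) m := by
      intro m hm1 _
      rw [← adamsOp_eq_nu, h1 m hm1,
        nu_of_one (fun j => if j = 1 then (1 : K) else 0) (by simp)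
          (fun j hj => by rw [if_neg]; omega) m hm1]
    have h := nu_injective' hreg _ _ n key n (by omega) le_rfl
    rw [h, if_neg (by omega)]
  · -- `λ^n(xy) = P_n(…)`
    intro n P hP x y
    rcases Nat.eq_zero_or_pos n with rfl | hn
    · rw [LambdaOps.lam_zero]
      have hid : Phi 0 0 = AlgHom.id ℤ _ :=
        MvPolynomial.algHom_ext (fun i => by rcases i with i | i <;> exact i.elim0)
      have hP1 : P = mulGen 0 0 := by
        have h : Phi 0 0 P = mulGen 0 0 := hP.1
        rwa [hid, AlgHom.id_apply] at h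
      rw [hP1, mulGen_zero, map_one]
    · choose P' hP' using Groth.Agent.S8684.result
      obtain ⟨G, hGdef⟩ : ∃ G : ℕ → MvPolynomial (Fin n ⊕ Fin n) ℤ, ∀ j (h : j ≤ n),
          G j = rename (Sum.map (Fin.castLE h) (Fin.castLE h)) (P' j) :=
        ⟨fun j => if h : j ≤ n then rename (Sum.map (Fin.castLE h) (Fin.castLE h)) (P' j) else 0,
          fun j h => dif_pos h⟩
      obtain ⟨ev, hev⟩ : ∃ ev : MvPolynomial (Fin n ⊕ Fin n) ℤ →ₐ[ℤ] K,
          ev = aeval (Sum.elim (fun i : Fin n => LambdaOps.lam ((i : ℕ) + 1) x)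
            (fun i : Fin n => LambdaOps.lam ((i : ℕ) + 1) y)) := ⟨_, rfl⟩
      have hB : ∀ j, 1 ≤ j → j ≤ n → Phi n n (G j) = mulGen n j := by
        intro j _ h
        rw [hGdef j h, Phi_rename_castLE h, Phi_eq_mulGen_of_isMulPoly h (hP' j)]
      have hXl : ∀ m, m ≤ n → nu (fun j => ev (Xl n j)) m = adamsOp m x := by
        intro m hm
        rw [adamsOp_eq_nu]
        apply nu_congr
        intro j hj1 hj2
        show ev (Xl n j) = _
        rw [hev, aeval_Xl n j hj1 (hj2.trans hm)]
        show LambdaOps.lam (j - 1 + 1) x = _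
        rw [Nat.sub_add_cancel hj1]
      have hXr : ∀ m, m ≤ n → nu (fun j => ev (Xr n j)) m = adamsOp m y := by
        intro m hm
        rw [adamsOp_eq_nu]
        apply nu_congr
        intro j hj1 hj2
        show ev (Xr n j) = _
        rw [hev, aeval_Xr n j hj1 (hj2.trans hm)]
        show LambdaOps.lam (j - 1 + 1) y = _
        rw [Nat.sub_add_cancel hj1]
      have key : ∀ m, 1 ≤ m → m ≤ n → nu (fun j => ev (G j)) m =
          nu (fun j => LambdaOps.lam j (x * y)) m := by
        intro m hm1 hm2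
        rw [← map_nu ev G m, nu_mul_identity n m hm1 hm2 G (fun j h1 h2 => hB j h1 (h2.trans hm2)),
          map_mul, map_nu, map_nu, hXl m hm2, hXr m hm2, ← adamsOp_eq_nu, hmul m hm1]
      have h := nu_injective' hreg _ _ n key n hn le_rfl
      have hPP : P' n = P := by
        apply Phi_injective (le_refl n)
        have e1 : Phi n n (P' n) = mulGen n n := (hP' n).1
        have e2 : Phi n n P = mulGen n n := hP.1
        rw [e1, e2]
      rw [← h, hGdef n le_rfl, hev, aeval_rename, hPP]
      refine congrArg (fun f => aeval f P) (funext fun i => ?_)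
      rcases i with i | i <;> rfl
  · -- `λ^j(λ^i x) = Q_{i,j}(…)`
    intro i j Q hQ x
    rcases Nat.eq_zero_or_pos j with rfl | hj
    · rw [LambdaOps.lam_zero]
      have hid : epsU (i * 0) (i * 0) = AlgHom.id ℤ _ :=
        MvPolynomial.algHom_ext (fun a => a.elim0)
      have hQ1 : Q = compGen (i * 0) i 0 := by
        have h : epsU (i * 0) (i * 0) Q = compGen (i * 0) i 0 := hQ.1
        rwa [hid, AlgHom.id_apply] at h
      rw [hQ1, compGen_zero, map_one]
    · choose Q' hQ' using Groth.Agent.S8685.result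
      obtain ⟨G, hGdef⟩ : ∃ G : ℕ → MvPolynomial (Fin (i * j)) ℤ, ∀ t (h : i * t ≤ i * j),
          G t = rename (Fin.castLE h) (Q' i t) :=
        ⟨fun t => if h : i * t ≤ i * j then rename (Fin.castLE h) (Q' i t) else 0,
          fun t h => dif_pos h⟩
      obtain ⟨ev, hev⟩ : ∃ ev : MvPolynomial (Fin (i * j)) ℤ →ₐ[ℤ] K,
          ev = aeval (fun a : Fin (i * j) => LambdaOps.lam ((a : ℕ) + 1) x) := ⟨_, rfl⟩
      choose W hW using fun m r => exists_epsU_eq_theta (i * j) m r
      have hXev : ∀ m, m ≤ i * j → nu (fun r => ev (X1 (i * j) r)) m = adamsOp m x := by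
        intro m hm
        rw [adamsOp_eq_nu]
        apply nu_congr
        intro r hr1 hr2
        show ev (X1 (i * j) r) = _
        rw [hev, aeval_X1 (i * j) r hr1 (hr2.trans hm)]
        show LambdaOps.lam (r - 1 + 1) x = _
        rw [Nat.sub_add_cancel hr1]
      -- `ψ^m(λ^r x)` as a polynomial in the `λ^k x`
      have claim1 : ∀ m, 1 ≤ m → ∀ r, m * r ≤ i * j →
          adamsOp m (LambdaOps.lam r x) = ev (W m r) := by
        intro m hm r hr
        rcases Nat.eq_zero_or_pos r with rfl | hr1
        · rw [LambdaOps.lam_zero, h1 m hm]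
          have hW0 : W m 0 = 1 := by
            apply epsU_injective (le_refl (i * j))
            rw [hW, esymm_zero, map_one, map_one]
          rw [hW0, map_one]
        · have key : ∀ s, 1 ≤ s → s ≤ i * j / m →
              nu (fun r => adamsOp m (LambdaOps.lam r x)) s = nu (fun r => ev (W m r)) s := by
            intro s hs1 hs2
            have hms : m * s ≤ i * j :=
              (Nat.mul_le_mul_left m hs2).trans (Nat.mul_div_le (i * j) m)
            rw [← map_nu_of_ringHomLike (adamsOp m) (h1 m hm) (hmul m hm) (LamBasic.adamsOp_add m)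
              (fun r => LambdaOps.lam r x) s, ← adamsOp_eq_nu, hcomp m s hm hs1 x,
              ← map_nu ev (W m) s,
              nu_theta_identity (i * j) m s hm hs1 hms (W m) (fun r _ _ => hW m r),
              map_nu, hXev (m * s) hms]
          exact nu_injective' hreg _ _ (i * j / m) key r hr1
            ((Nat.le_div_iff_mul_le hm).mpr (by rwa [mul_comm] at hr))
      have hB : ∀ t, 1 ≤ t → t ≤ j → epsU (i * j) (i * j) (G t) = compGen (i * j) i t := by
        intro t _ ht
        have h : i * t ≤ i * j := Nat.mul_le_mul_left i ht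
        rw [hGdef t h, epsU_rename_castLE, epsU_eq_compGen_of_isCompPoly h (hQ' i t)]
      have key2 : ∀ m, 1 ≤ m → m ≤ j →
          nu (fun t => LambdaOps.lam t (LambdaOps.lam i x)) m = nu (fun t => ev (G t)) m := by
        intro m hm1 hm2
        rw [← adamsOp_eq_nu,
          claim1 m hm1 i (by rw [mul_comm]; exact Nat.mul_le_mul_left i hm2),
          ← map_nu ev G m,
          nu_comp_identity' (i * j) i m hm1 G (fun t h1 h2 => hB t h1 (h2.trans hm2)) (W m i)
            (hW m i)]
      have h := nu_injective' hreg _ _ j key2 j hj le_rfl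
      have hQQ : Q' i j = Q := by
        apply epsU_injective (le_refl (i * j))
        have e1 : epsU (i * j) (i * j) (Q' i j) = compGen (i * j) i j := (hQ' i j).1
        have e2 : epsU (i * j) (i * j) Q = compGen (i * j) i j := hQ.1
        rw [e1, e2]
      rw [h, hGdef j le_rfl, hev, aeval_rename, hQQ]
      rfl


end Groth.Agent.Lib.Helper20.SpecialOfAdams
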