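import Mathlib
import Groth.Prelude.Def_SiteCmp
import Groth.Prelude.Def_WeakSerre
import Groth.Prelude.Def_CohCx
import Groth.Prelude.Def_FreeSh
import Groth.Agent.Lib.Helper29.WS9074B

/-!
# Helper20: the torsion subsheaf of an abelian sheaf is a coreflection (for helper13, S9063)
-/

set_option autoImplicit false
set_option linter.style.haveILetI false
universe u
open CategoryTheory CategoryTheory.Limits Opposite

noncomputable section

namespace Groth.Agent.Lib.Helper20.TorsCorefl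

open Groth.Agent.Lib.Helper29.WS9074A Groth.Agent.Lib.Helper29.WS9074B

variable {C : Type u} [SmallCategory C] (J : GrothendieckTopology C)

/-- a section is locally of finite order -/
def LocTors (F : Cᵒᵖ ⥤ AddCommGrpCat.{u}) (U : C) (s : F.obj (op U)) : Prop :=
  ∃ S ∈ J U, ∀ ⦃V : C⦄ (g : V ⟶ U), S g → IsOfFinAddOrder (rs F g s)

lemma locTors_zero (F : Cᵒᵖ ⥤ AddCommGrpCat.{u}) (U : C) : LocTors J F U 0 :=
  ⟨⊤, J.top_mem U, fun V g _ => by rw [map_zero]; exact IsOfFinAddOrder.zero⟩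

lemma locTors_add (F : Cᵒᵖ ⥤ AddCommGrpCat.{u}) (U : C) {a b : F.obj (op U)}
    (ha : LocTors J F U a) (hb : LocTors J F U b) : LocTors J F U (a + b) := by
  obtain ⟨S, hS, h1⟩ := ha
  obtain ⟨S', hS', h2⟩ := hb
  refine ⟨S ⊓ S', J.intersection_covering hS hS', fun V g hg => ?_⟩
  rw [map_add]
  exact (h1 g hg.1).add (h2 g hg.2)

lemma locTors_neg (F : Cᵒᵖ ⥤ AddCommGrpCat.{u}) (U : C) {a : F.obj (op U)}
    (ha : LocTors J F U a) : LocTors J F U (-a) := by
  obtain ⟨S, hS, h1⟩ := ha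
  refine ⟨S, hS, fun V g hg => ?_⟩
  rw [map_neg]
  exact (h1 g hg).neg

lemma locTors_rs (F : Cᵒᵖ ⥤ AddCommGrpCat.{u}) {U V : C} (h : V ⟶ U) {a : F.obj (op U)}
    (ha : LocTors J F U a) : LocTors J F V (rs F h a) := by
  obtain ⟨S, hS, h1⟩ := ha
  refine ⟨S.pullback h, J.pullback_stable h hS, fun W g hg => ?_⟩
  rw [← rs_comp]
  exact h1 (g ≫ h) hg

/-- a section which is locally locally of finite order is locally of finite order -/
lemma locTors_of_locally (F : Cᵒᵖ ⥤ AddCommGrpCat.{u}) (U : C) (a : F.obj (op U))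
    (R : Sieve U) (hR : R ∈ J U)
    (h : ∀ ⦃V : C⦄ (g : V ⟶ U), R g → LocTors J F V (rs F g a)) : LocTors J F U a := by
  classical
  let S : ∀ ⦃V : C⦄ ⦃g : V ⟶ U⦄, R g → Sieve V := fun V g hg => (h g hg).choose
  have hS : ∀ ⦃V : C⦄ ⦃g : V ⟶ U⦄ (hg : R g), S hg ∈ J V := fun V g hg => (h g hg).choose_spec.1
  have hS2 : ∀ ⦃V : C⦄ ⦃g : V ⟶ U⦄ (hg : R g) ⦃W : C⦄ (k : W ⟶ V), S hg k →
      IsOfFinAddOrder (rs F k (rs F g a)) := fun V g hg => (h g hg).choose_spec.2
  refine ⟨Sieve.bind R S, J.bind_covering hR (fun V g hg => hS hg), fun W k hk => ?_⟩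
  obtain ⟨V, k', g, hg, hk', rfl⟩ := hk
  rw [rs_comp]
  exact hS2 hg k' hk'

lemma locTors_app {F G : Cᵒᵖ ⥤ AddCommGrpCat.{u}} (φ : F ⟶ G) (U : C) {a : F.obj (op U)}
    (ha : LocTors J F U a) : LocTors J G U ((φ.app (op U)).hom a) := by
  obtain ⟨S, hS, h1⟩ := ha
  refine ⟨S, hS, fun V g hg => ?_⟩
  rw [← rs_nat φ]
  exact (φ.app (op V)).hom.isOfFinAddOrder (h1 g hg)

/-- the subgroup of sections locally of finite order -/
def torsSub (F : Cᵒᵖ ⥤ AddCommGrpCat.{u}) (U : C) : AddSubgroup (F.obj (op U)) where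
  carrier := {s | LocTors J F U s}
  zero_mem' := locTors_zero J F U
  add_mem' := fun ha hb => locTors_add J F U ha hb
  neg_mem' := fun ha => locTors_neg J F U ha

lemma mem_torsSub (F : Cᵒᵖ ⥤ AddCommGrpCat.{u}) (U : C) (s : F.obj (op U)) :
    s ∈ torsSub J F U ↔ LocTors J F U s := Iff.rfl

/-- the presheaf of sections locally of finite order -/
def torsPre (F : Cᵒᵖ ⥤ AddCommGrpCat.{u}) : Cᵒᵖ ⥤ AddCommGrpCat.{u} where
  obj U := AddCommGrpCat.of (torsSub J F U.unop)
  map {U V} φ := AddCommGrpCat.ofHom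
    (((F.map φ).hom.comp (torsSub J F U.unop).subtype).codRestrict (torsSub J F V.unop)
      (fun s => locTors_rs J F φ.unop s.2))
  map_id U := by
    ext ⟨s, hs⟩
    simp
  map_comp φ ψ := by
    ext ⟨s, hs⟩
    simp

/-- the inclusion -/
def torsPreι (F : Cᵒᵖ ⥤ AddCommGrpCat.{u}) : torsPre J F ⟶ F where
  app U := AddCommGrpCat.ofHom (torsSub J F U.unop).subtype

lemma torsPreι_app (F : Cᵒᵖ ⥤ AddCommGrpCat.{u}) (U : C) (s : (torsPre J F).obj (op U)) :
    ((torsPreι J F).app (op U)).hom s = (s : torsSub J F U).1 := rfl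

/-- the presheaf of sections locally of finite order of a sheaf is a sheaf -/
lemma torsPre_isSheaf (F : Sheaf J AddCommGrpCat.{u}) :
    Presheaf.IsSheaf J (torsPre J F.obj) := by
  have hF' := (Presheaf.isSheaf_iff_isSheaf_forget J F.obj (forget AddCommGrpCat.{u})).1 F.property
  have hFs := (isSheaf_iff_isSheaf_of_type J _).1 hF'
  refine (Presheaf.isSheaf_iff_isSheaf_forget J (torsPre J F.obj)
    (forget AddCommGrpCat.{u})).2 ?_
  refine (isSheaf_iff_isSheaf_of_type J _).2 ?_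
  intro U R hR x hx
  let y : Presieve.FamilyOfElements (F.obj ⋙ forget AddCommGrpCat.{u}) R.arrows :=
    fun V g hg => ((torsPreι J F.obj).app (op V)).hom (x g hg)
  have hy : y.Compatible := by
    intro Y₁ Y₂ Z g₁ g₂ f₁ f₂ h₁ h₂ comm
    have h0 : rs (torsPre J F.obj) g₁ (x f₁ h₁) = rs (torsPre J F.obj) g₂ (x f₂ h₂) :=
      hx g₁ g₂ h₁ h₂ comm
    change rs F.obj g₁ (((torsPreι J F.obj).app (op Y₁)).hom (x f₁ h₁)) =
      rs F.obj g₂ (((torsPreι J F.obj).app (op Y₂)).hom (x f₂ h₂))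
    rw [← rs_nat (torsPreι J F.obj), ← rs_nat (torsPreι J F.obj), h0]
  have ht : ∀ {V : C} (g : V ⟶ U) (hg : R g),
      rs F.obj g ((hFs R hR).amalgamate y hy) = y g hg :=
    fun g hg => (hFs R hR).valid_glue hy g hg
  have htmem : LocTors J F.obj U ((hFs R hR).amalgamate y hy) := by
    refine locTors_of_locally J F.obj U _ R hR (fun V g hg => ?_)
    rw [ht g hg]
    exact (x g hg : torsSub J F.obj V).2
  refine ⟨(⟨(hFs R hR).amalgamate y hy, htmem⟩ : torsSub J F.obj U), ?_, ?_⟩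
  · intro V g hg
    change rs (torsPre J F.obj) g (⟨(hFs R hR).amalgamate y hy, htmem⟩ : torsSub J F.obj U) =
      x g hg
    apply Subtype.ext
    exact ht g hg
  · intro t' ht'
    apply Subtype.ext
    refine ((Presieve.IsSheaf.isSeparated hFs) R hR).ext ?_
    intro V g hg
    change rs F.obj g (t' : torsSub J F.obj U).1 = rs F.obj g ((hFs R hR).amalgamate y hy)
    rw [ht g hg]
    have h1 : rs (torsPre J F.obj) g t' = x g hg := ht' g hg
    exact congrArg (fun z : torsSub J F.obj V => z.1) h1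

/-- the torsion subsheaf -/
def torsSheaf (F : Sheaf J AddCommGrpCat.{u}) : Sheaf J AddCommGrpCat.{u} :=
  ⟨torsPre J F.obj, torsPre_isSheaf J F⟩

/-- the inclusion of the torsion subsheaf -/
def torsSheafι (F : Sheaf J AddCommGrpCat.{u}) : torsSheaf J F ⟶ F :=
  ⟨torsPreι J F.obj⟩

lemma torsSheaf_isTorsion (F : Sheaf J AddCommGrpCat.{u}) :
    SiteCmp.IsTorsionSh J (torsSheaf J F) := by
  intro U s
  obtain ⟨S, hS, h1⟩ := (s : torsSub J F.obj U).2
  refine ⟨S, hS, fun V g hg => ?_⟩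
  exact (Function.Injective.isOfFinAddOrder_iff (f := (torsSub J F.obj V).subtype)
    (AddSubgroup.subtype_injective _)).1 (h1 g hg)

instance torsSheafι_mono (F : Sheaf J AddCommGrpCat.{u}) : Mono (torsSheafι J F) :=
  mono_of_app_injective _ (fun U => AddSubgroup.subtype_injective (torsSub J F.obj U))

/-- the lift of a map from a torsion sheaf -/
def torsLift {F G : Sheaf J AddCommGrpCat.{u}} (g : G ⟶ F) (hG : SiteCmp.IsTorsionSh J G) :
    G ⟶ torsSheaf J F :=
  ⟨{ app := fun U => AddCommGrpCat.ofHom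
        ((g.hom.app U).hom.codRestrict (torsSub J F.obj U.unop)
          (fun s => locTors_app J g.hom U.unop (hG U.unop s)))
     naturality := by
        intro U V φ
        ext s
        apply Subtype.ext
        exact ConcreteCategory.congr_hom (g.hom.naturality φ) s }⟩

lemma torsLift_ι {F G : Sheaf J AddCommGrpCat.{u}} (g : G ⟶ F) (hG : SiteCmp.IsTorsionSh J G) :
    torsLift J g hG ≫ torsSheafι J F = g := by
  apply Sheaf.hom_ext
  ext U s
  rfl

/-- **TA**: the torsion subsheaf is a coreflection onto torsion sheaves. -/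
theorem exists_torsion_coreflection (F : Sheaf J AddCommGrpCat.{u}) :
    ∃ (T : Sheaf J AddCommGrpCat.{u}) (ε : T ⟶ F), SiteCmp.IsTorsionSh J T ∧ Mono ε ∧
      ∀ (G : Sheaf J AddCommGrpCat.{u}) (g : G ⟶ F), SiteCmp.IsTorsionSh J G →
        ∃ g' : G ⟶ T, g' ≫ ε = g :=
  ⟨torsSheaf J F, torsSheafι J F, torsSheaf_isTorsion J F, torsSheafι_mono J F,
    fun _ g hG => ⟨torsLift J g hG, torsLift_ι J g hG⟩⟩

end Groth.Agent.Lib.Helper20.TorsCorefl
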