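import Mathlib

/-!
# Formally unramified from a localization and a quotient (helper20, for helper27 / S15283)
-/

set_option autoImplicit false
set_option linter.style.haveILetI false
universe u

open KaehlerDifferential TensorProduct

namespace Groth.Agent.Lib.Helper20.UnramAwayQuot

/-- A finite module in which every element is killed by a power of `t` and is divisible by `t`
vanishes. -/
theorem subsingleton_of_pow_smul_eq_zero_of_divisible {W M : Type*} [CommRing W] [AddCommGroup M]
    [Module W M] [Module.Finite W M] (t : W) (h1 : ∀ m : M, ∃ n : ℕ, t ^ n • m = 0)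
    (h2 : ∀ m : M, ∃ m' : M, m = t • m') : Subsingleton M := by
  classical
  obtain ⟨S, hS⟩ := (Module.Finite.fg_top (R := W) (M := M))
  choose n hn using h1
  let N := S.sup n
  have hkill : ∀ m : M, t ^ N • m = 0 := by
    intro m
    have hm : m ∈ Submodule.span W (S : Set M) := by rw [hS]; exact Submodule.mem_top
    refine Submodule.span_induction ?_ ?_ ?_ ?_ hm
    · intro g hg
      have hle : n g ≤ N := Finset.le_sup (f := n) hg
      obtain ⟨k, hk⟩ := Nat.exists_eq_add_of_le hle
      rw [hk, pow_add, mul_comm, mul_smul, hn g, smul_zero]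
    · exact smul_zero _
    · intro a b _ _ ha hb
      rw [smul_add, ha, hb, add_zero]
    · intro c a _ ha
      rw [smul_comm, ha, smul_zero]
  have hdiv : ∀ k : ℕ, ∀ m : M, ∃ m' : M, m = t ^ k • m' := by
    intro k
    induction k with
    | zero => intro m; exact ⟨m, by simp⟩
    | succ k ih =>
      intro m
      obtain ⟨m₁, hm₁⟩ := ih m
      obtain ⟨m₂, hm₂⟩ := h2 m₁
      exact ⟨m₂, by rw [hm₁, hm₂, pow_succ, mul_smul]⟩
  refine ⟨fun a b => ?_⟩
  suffices h0 : ∀ m : M, m = 0 by rw [h0 a, h0 b]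
  intro m
  obtain ⟨m', hm'⟩ := hdiv N m
  rw [hm', hkill]

/-- (V4) -/
theorem formallyUnramified_of_away_of_quotient {V W : Type u} [CommRing V] [CommRing W]
    [Algebra V W] [Algebra.FiniteType V W] (P : Ideal W) (s : V) (Wp : Type u) [CommRing Wp]
    [Algebra W Wp] [Algebra V Wp] [IsScalarTower V W Wp]
    [IsLocalization.Away (algebraMap V W s) Wp] [Algebra.FormallyUnramified V Wp]
    [Algebra.FormallyUnramified V (W ⧸ P)]
    (hPs : ∀ x ∈ P, ∃ y ∈ P, x = algebraMap V W s * y) : Algebra.FormallyUnramified V W := by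
  classical
  set t : W := algebraMap V W s with ht
  haveI : Module.Finite W Ω[W⁄V] := inferInstance
  -- every differential is killed by a power of `t`
  have h1 : ∀ ω : Ω[W⁄V], ∃ n : ℕ, t ^ n • ω = 0 := by
    intro ω
    haveI hloc : IsLocalizedModule (Submonoid.powers t) (KaehlerDifferential.map V V W Wp) :=
      KaehlerDifferential.isLocalizedModule_map V W Wp (Submonoid.powers t)
    have h0 : KaehlerDifferential.map V V W Wp ω = 0 := Subsingleton.elim _ _
    obtain ⟨⟨c, n, rfl⟩, hc⟩ :=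
      (IsLocalizedModule.eq_zero_iff (Submonoid.powers t) (KaehlerDifferential.map V V W Wp)).mp h0
    exact ⟨n, hc⟩
  -- `D x` is divisible by `t` for `x ∈ P`
  have hD : ∀ x ∈ P, ∃ ω' : Ω[W⁄V], D V W x = t • ω' := by
    intro x hx
    obtain ⟨y, -, rfl⟩ := hPs x hx
    refine ⟨D V W y, ?_⟩
    rw [Derivation.leibniz, ht, Derivation.map_algebraMap, smul_zero, add_zero]
  -- elements of `P • ⊤` are divisible by `t`
  have hPtop : ∀ η ∈ (P • (⊤ : Submodule W Ω[W⁄V])), ∃ ω' : Ω[W⁄V], η = t • ω' := by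
    intro η hη
    refine Submodule.smul_induction_on hη ?_ ?_
    · intro p hp m _
      obtain ⟨y, -, rfl⟩ := hPs p hp
      exact ⟨y • m, by rw [mul_smul]⟩
    · rintro a b ⟨a', rfl⟩ ⟨b', rfl⟩
      exact ⟨a' + b', by rw [smul_add]⟩
  -- every differential is divisible by `t`
  have h2 : ∀ ω : Ω[W⁄V], ∃ ω' : Ω[W⁄V], ω = t • ω' := by
    intro ω
    have hsurj : Function.Surjective (algebraMap W (W ⧸ P)) := Ideal.Quotient.mk_surjective
    have hex := KaehlerDifferential.exact_kerCotangentToTensor_mapBaseChange V W (W ⧸ P) hsurj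
    have hz : KaehlerDifferential.mapBaseChange V W (W ⧸ P) ((1 : W ⧸ P) ⊗ₜ[W] ω) = 0 :=
      Subsingleton.elim _ _
    obtain ⟨c, hc⟩ := (hex _).mp hz
    obtain ⟨x, rfl⟩ := Ideal.toCotangent_surjective _ c
    rw [KaehlerDifferential.kerCotangentToTensor_toCotangent] at hc
    have hxP : (x : W) ∈ P := by
      have h3 : algebraMap W (W ⧸ P) (x : W) = 0 := RingHom.mem_ker.mp x.2
      exact Ideal.Quotient.eq_zero_iff_mem.mp h3
    have hdiff : ((1 : W ⧸ P) ⊗ₜ[W] (ω - D V W (x : W)) : (W ⧸ P) ⊗[W] Ω[W⁄V]) = 0 := by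
      rw [TensorProduct.tmul_sub, ← hc, sub_self]
    have hmem : ω - D V W (x : W) ∈ (P • (⊤ : Submodule W Ω[W⁄V])) := by
      have := congrArg (TensorProduct.quotTensorEquivQuotSMul Ω[W⁄V] P) hdiff
      rw [TensorProduct.quotTensorEquivQuotSMul_mk_one_tmul, map_zero] at this
      exact (Submodule.Quotient.mk_eq_zero _).mp this
    obtain ⟨ω₁, hω₁⟩ := hPtop _ hmem
    obtain ⟨ω₂, hω₂⟩ := hD x hxP
    refine ⟨ω₁ + ω₂, ?_⟩
    rw [smul_add, ← hω₁, ← hω₂, sub_add_cancel]
  exact ⟨subsingleton_of_pow_smul_eq_zero_of_divisible t h1 h2⟩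

end Groth.Agent.Lib.Helper20.UnramAwayQuot
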