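import Groth.Prelude.Def_W4c1liftfrobW2
import Mathlib

/-!
# Helper library (helper20): Witt vectors of length two over a perfect field, flatness over them,
and flat liftings (`FrobAlg.IsLift`).
-/

set_option autoImplicit false
universe u v

namespace Groth.Agent.Lib.Helper20

open FrobAlg

section coeff

variable (p : ℕ) [Fact p.Prime] (R : Type u) [CommRing R] [CharP R p]

theorem coeff_p_mul_zero (y : W2 p R) : ((p : W2 p R) * y).coeff 0 = 0 := by
  obtain ⟨Y, rfl⟩ := WittVector.truncate_surjective p 2 R y
  have hp : (p : W2 p R) = WittVector.truncate 2 (p : WittVector p R) := (map_natCast _ p).symm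
  rw [hp, ← map_mul, WittVector.coeff_truncate, mul_comm]
  exact WittVector.mul_charP_coeff_zero Y

theorem coeff_p_mul_one (y : W2 p R) : ((p : W2 p R) * y).coeff 1 = (y.coeff 0) ^ p := by
  obtain ⟨Y, rfl⟩ := WittVector.truncate_surjective p 2 R y
  have hp : (p : W2 p R) = WittVector.truncate 2 (p : WittVector p R) := (map_natCast _ p).symm
  rw [hp, ← map_mul, WittVector.coeff_truncate, WittVector.coeff_truncate, mul_comm]
  exact WittVector.mul_charP_coeff_succ Y 0

theorem coeff_p_zero : ((p : W2 p R)).coeff 0 = 0 := by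
  have := coeff_p_mul_zero p R 1
  rwa [mul_one] at this

theorem p_mul_p : (p : W2 p R) * (p : W2 p R) = 0 := by
  apply TruncatedWittVector.ext
  intro i
  rw [TruncatedWittVector.coeff_zero]
  fin_cases i
  · exact coeff_p_mul_zero p R _
  · change ((p : W2 p R) * (p : W2 p R)).coeff 1 = 0
    rw [coeff_p_mul_one, coeff_p_zero, zero_pow (Fact.out : p.Prime).ne_zero]

end coeff

section perfect

variable (p : ℕ) [Fact p.Prime] (k : Type u) [CommRing k] [CharP k p] [PerfectRing k p]

theorem ker_res : RingHom.ker (res p k) = Ideal.span {(p : W2 p k)} := by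
  ext x
  rw [RingHom.mem_ker, res_apply, Ideal.mem_span_singleton]
  constructor
  · intro hx
    refine ⟨TruncatedWittVector.mk p ![(frobeniusEquiv k p).symm (x.coeff 1), 0], ?_⟩
    apply TruncatedWittVector.ext
    intro i
    fin_cases i
    · change x.coeff 0 = ((p : W2 p k) * _).coeff 0
      rw [coeff_p_mul_zero, hx]
    · change x.coeff 1 = ((p : W2 p k) * _).coeff 1
      rw [coeff_p_mul_one, TruncatedWittVector.coeff_mk]
      simp [frobeniusEquiv_symm_pow_p]
  · rintro ⟨y, rfl⟩
    exact coeff_p_mul_zero p k y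

end perfect

section field

variable (p : ℕ) [Fact p.Prime] (k : Type u) [Field k] [CharP k p] [PerfectRing k p]

theorem mem_span_p_of_p_mul_eq_zero (x : W2 p k) (h : (p : W2 p k) * x = 0) :
    x ∈ Ideal.span {(p : W2 p k)} := by
  rw [← ker_res, RingHom.mem_ker, res_apply]
  have := coeff_p_mul_one p k x
  rw [h, TruncatedWittVector.coeff_zero] at this
  exact (pow_eq_zero_iff (Fact.out : p.Prime).ne_zero).mp this.symm

omit [PerfectRing k p] in
theorem isUnit_of_coeff_zero_ne_zero (x : W2 p k) (h : x.coeff 0 ≠ 0) : IsUnit x := by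
  obtain ⟨X, rfl⟩ := WittVector.truncate_surjective p 2 k x
  rw [WittVector.coeff_truncate] at h
  exact (WittVector.isUnit_of_coeff_zero_ne_zero X h).map (WittVector.truncate 2)

theorem ideal_cases (I : Ideal (W2 p k)) :
    I = ⊥ ∨ I = Ideal.span {(p : W2 p k)} ∨ I = ⊤ := by
  by_cases htop : I = ⊤
  · exact Or.inr (Or.inr htop)
  have hle : I ≤ Ideal.span {(p : W2 p k)} := by
    intro x hx
    rw [← ker_res, RingHom.mem_ker, res_apply]
    by_contra hne
    exact htop (Ideal.eq_top_of_isUnit_mem _ hx (isUnit_of_coeff_zero_ne_zero p k x hne))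
  by_cases hbot : I = ⊥
  · exact Or.inl hbot
  right; left
  apply le_antisymm hle
  obtain ⟨x, hx, hx0⟩ := Submodule.exists_mem_ne_zero_of_ne_bot hbot
  obtain ⟨y, rfl⟩ := Ideal.mem_span_singleton.mp (hle hx)
  have hy : IsUnit y := by
    apply isUnit_of_coeff_zero_ne_zero
    intro h0
    apply hx0
    have : y ∈ Ideal.span {(p : W2 p k)} := by
      rw [← ker_res, RingHom.mem_ker, res_apply]; exact h0
    obtain ⟨z, rfl⟩ := Ideal.mem_span_singleton.mp this
    rw [← mul_assoc, p_mul_p, zero_mul]
  rw [Ideal.span_singleton_le_iff_mem]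
  obtain ⟨u, rfl⟩ := hy
  have : (p : W2 p k) = ((p : W2 p k) * u) * ↑u⁻¹ := by rw [mul_assoc, Units.mul_inv, mul_one]
  rw [this]
  exact I.mul_mem_right _ hx

/-- Flatness over `W₂(k)`: `M` is flat iff every element killed by `p` is a multiple of `p`. -/
theorem flat_iff (M : Type v) [AddCommGroup M] [Module (W2 p k) M] :
    Module.Flat (W2 p k) M ↔
      ∀ m : M, (p : W2 p k) • m = 0 → ∃ m' : M, m = (p : W2 p k) • m' := by
  constructor
  · intro hflat m hm
    have hrel : ∑ i : Fin 1, (fun _ => (p : W2 p k)) i • (fun _ => m) i = 0 := by simpa using hm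
    obtain ⟨n, a, y, hxy, hfa⟩ := Module.Flat.isTrivialRelation_of_sum_smul_eq_zero hrel
    have ha : ∀ j, ∃ c, a 0 j = (p : W2 p k) * c := by
      intro j
      have h0 := hfa j
      simp only [Fin.sum_univ_one] at h0
      exact Ideal.mem_span_singleton.mp (mem_span_p_of_p_mul_eq_zero p k _ h0)
    choose c hc using ha
    refine ⟨∑ j, c j • y j, ?_⟩
    have h0 : m = ∑ j, a 0 j • y j := hxy 0
    rw [Finset.smul_sum]
    refine h0.trans (Finset.sum_congr rfl (fun j _ => ?_))
    rw [hc j, mul_smul]
  · intro h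
    rw [Module.Flat.iff_rTensor_injective']
    intro I
    rcases ideal_cases p k I with rfl | rfl | rfl
    · intro x y _
      exact Subsingleton.elim _ _
    · -- the ideal `(p)`
      have hpmem : (p : W2 p k) ∈ Ideal.span {(p : W2 p k)} := Ideal.subset_span rfl
      have hform : ∀ z : TensorProduct (W2 p k) (Ideal.span {(p : W2 p k)}) M,
          ∃ m : M, z = (⟨(p : W2 p k), hpmem⟩ : Ideal.span {(p : W2 p k)}) ⊗ₜ[W2 p k] m := by
        intro z
        induction z using TensorProduct.induction_on with
        | zero => exact ⟨0, by simp⟩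
        | tmul i m =>
          obtain ⟨w, hw⟩ := Ideal.mem_span_singleton'.mp i.2
          refine ⟨w • m, ?_⟩
          rw [← TensorProduct.smul_tmul]
          congr 1
          ext
          simp [hw]
        | add z₁ z₂ h₁ h₂ =>
          obtain ⟨m₁, rfl⟩ := h₁
          obtain ⟨m₂, rfl⟩ := h₂
          exact ⟨m₁ + m₂, by rw [TensorProduct.tmul_add]⟩
      rw [injective_iff_map_eq_zero]
      intro z hz
      obtain ⟨m, rfl⟩ := hform z
      rw [LinearMap.rTensor_tmul, Submodule.subtype_apply] at hz
      have hm : (p : W2 p k) • m = 0 := by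
        have := congrArg (TensorProduct.lid (W2 p k) M) hz
        simpa using this
      obtain ⟨m', rfl⟩ := h m hm
      rw [TensorProduct.tmul_smul, TensorProduct.smul_tmul']
      have : (p : W2 p k) • (⟨(p : W2 p k), hpmem⟩ : Ideal.span {(p : W2 p k)}) = 0 := by
        ext
        simp [p_mul_p]
      rw [this, TensorProduct.zero_tmul]
    · have : (⊤ : Ideal (W2 p k)).subtype = (Submodule.topEquiv : _ ≃ₗ[W2 p k] W2 p k).toLinearMap := rfl
      rw [this]
      exact (LinearEquiv.rTensor M Submodule.topEquiv).injective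

end field

end Groth.Agent.Lib.Helper20
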