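import Groth.Agent.Lib.Helper20.Lift

/-!
# Helper library (helper20): explicit formulas for the first two components of sums and products of
Witt vectors.
-/

set_option autoImplicit false
universe u v

namespace Groth.Agent.Lib.Helper20

open FrobAlg

section universal

variable (p : ℕ) [Fact p.Prime]

theorem ghost_one {R : Type*} [CommRing R] (z : WittVector p R) :
    WittVector.ghostComponent 1 z = (p : R) * z.coeff 1 + z.coeff 0 ^ p := by
  rw [WittVector.ghostComponent_apply, wittPolynomial_one]
  simp

theorem witt_add_coeff_one_of_regular {R : Type*} [CommRing R]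
    (hpR : ∀ a : R, (p : R) * a = 0 → a = 0) (x y : WittVector p R) :
    (x + y).coeff 1 = x.coeff 1 + y.coeff 1 - Wp p (x.coeff 0) (y.coeff 0) := by
  have h := map_add (WittVector.ghostComponent (p := p) (R := R) 1) x y
  rw [ghost_one, ghost_one, ghost_one, WittVector.add_coeff_zero,
    add_pow_eq_Wp (Fact.out : p.Prime)] at h
  have h2 : (p : R) * ((x + y).coeff 1 - (x.coeff 1 + y.coeff 1 - Wp p (x.coeff 0) (y.coeff 0))) = 0 := by
    linear_combination h
  exact sub_eq_zero.mp (hpR _ h2)

theorem witt_mul_coeff_one_of_regular {R : Type*} [CommRing R]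
    (hpR : ∀ a : R, (p : R) * a = 0 → a = 0) (x y : WittVector p R) :
    (x * y).coeff 1 = x.coeff 0 ^ p * y.coeff 1 + x.coeff 1 * y.coeff 0 ^ p +
      (p : R) * x.coeff 1 * y.coeff 1 := by
  have h := map_mul (WittVector.ghostComponent (p := p) (R := R) 1) x y
  rw [ghost_one, ghost_one, ghost_one, WittVector.mul_coeff_zero, mul_pow] at h
  have h2 : (p : R) * ((x * y).coeff 1 - (x.coeff 0 ^ p * y.coeff 1 + x.coeff 1 * y.coeff 0 ^ p +
      (p : R) * x.coeff 1 * y.coeff 1)) = 0 := by
    linear_combination h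
  exact sub_eq_zero.mp (hpR _ h2)

/-- The generic pair of Witt vectors and the specialisation map. -/
theorem exists_generic {R : Type*} [CommRing R] (x y : WittVector p R) :
    ∃ (X Y : WittVector p (MvPolynomial (Fin 2 × ℕ) ℤ)) (f : MvPolynomial (Fin 2 × ℕ) ℤ →+* R),
      WittVector.map f X = x ∧ WittVector.map f Y = y := by
  refine ⟨WittVector.mk p (fun n => MvPolynomial.X (0, n)),
    WittVector.mk p (fun n => MvPolynomial.X (1, n)),
    (MvPolynomial.aeval (fun q : Fin 2 × ℕ => if q.1 = 0 then x.coeff q.2 else y.coeff q.2)).toRingHom,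
    ?_, ?_⟩
  · ext n
    simp [WittVector.map_coeff]
  · ext n
    simp [WittVector.map_coeff]

theorem regular_p_mvPolynomial (σ : Type*) :
    ∀ a : MvPolynomial σ ℤ, (p : MvPolynomial σ ℤ) * a = 0 → a = 0 := by
  intro a ha
  have hp0 : (p : MvPolynomial σ ℤ) ≠ 0 := by
    exact_mod_cast (Fact.out : p.Prime).ne_zero
  exact (mul_eq_zero.mp ha).resolve_left hp0

theorem witt_add_coeff_one {R : Type*} [CommRing R] (x y : WittVector p R) :
    (x + y).coeff 1 = x.coeff 1 + y.coeff 1 - Wp p (x.coeff 0) (y.coeff 0) := by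
  obtain ⟨X, Y, f, rfl, rfl⟩ := exists_generic p x y
  rw [← map_add, WittVector.map_coeff, WittVector.map_coeff, WittVector.map_coeff,
    WittVector.map_coeff, WittVector.map_coeff,
    witt_add_coeff_one_of_regular p (regular_p_mvPolynomial p _) X Y, map_sub, map_add, map_Wp]

theorem witt_mul_coeff_one {R : Type*} [CommRing R] (x y : WittVector p R) :
    (x * y).coeff 1 = x.coeff 0 ^ p * y.coeff 1 + x.coeff 1 * y.coeff 0 ^ p +
      (p : R) * x.coeff 1 * y.coeff 1 := by
  obtain ⟨X, Y, f, rfl, rfl⟩ := exists_generic p x y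
  rw [← map_mul, WittVector.map_coeff, WittVector.map_coeff, WittVector.map_coeff,
    WittVector.map_coeff, WittVector.map_coeff,
    witt_mul_coeff_one_of_regular p (regular_p_mvPolynomial p _) X Y]
  simp only [map_add, map_mul, map_pow, map_natCast]

end universal

section truncated

variable (p : ℕ) [Fact p.Prime] (R : Type u) [CommRing R]

theorem w2_add_coeff_zero (x y : W2 p R) : (x + y).coeff 0 = x.coeff 0 + y.coeff 0 := by
  obtain ⟨X, rfl⟩ := WittVector.truncate_surjective p 2 R x
  obtain ⟨Y, rfl⟩ := WittVector.truncate_surjective p 2 R y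
  rw [← map_add, WittVector.coeff_truncate, WittVector.coeff_truncate, WittVector.coeff_truncate]
  exact WittVector.add_coeff_zero X Y

theorem w2_mul_coeff_zero (x y : W2 p R) : (x * y).coeff 0 = x.coeff 0 * y.coeff 0 := by
  obtain ⟨X, rfl⟩ := WittVector.truncate_surjective p 2 R x
  obtain ⟨Y, rfl⟩ := WittVector.truncate_surjective p 2 R y
  rw [← map_mul, WittVector.coeff_truncate, WittVector.coeff_truncate, WittVector.coeff_truncate]
  exact WittVector.mul_coeff_zero X Y

theorem w2_add_coeff_one (x y : W2 p R) :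
    (x + y).coeff 1 = x.coeff 1 + y.coeff 1 - Wp p (x.coeff 0) (y.coeff 0) := by
  obtain ⟨X, rfl⟩ := WittVector.truncate_surjective p 2 R x
  obtain ⟨Y, rfl⟩ := WittVector.truncate_surjective p 2 R y
  rw [← map_add]
  simp only [WittVector.coeff_truncate]
  exact witt_add_coeff_one p X Y

theorem w2_mul_coeff_one (x y : W2 p R) :
    (x * y).coeff 1 = x.coeff 0 ^ p * y.coeff 1 + x.coeff 1 * y.coeff 0 ^ p +
      (p : R) * x.coeff 1 * y.coeff 1 := by
  obtain ⟨X, rfl⟩ := WittVector.truncate_surjective p 2 R x
  obtain ⟨Y, rfl⟩ := WittVector.truncate_surjective p 2 R y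
  rw [← map_mul]
  simp only [WittVector.coeff_truncate]
  exact witt_mul_coeff_one p X Y

theorem w2_one_coeff_zero : (1 : W2 p R).coeff 0 = 1 := by
  rw [← map_one (WittVector.truncate (p := p) (R := R) 2), WittVector.coeff_truncate]
  exact WittVector.one_coeff_zero p R

theorem w2_one_coeff_one : (1 : W2 p R).coeff 1 = 0 := by
  rw [← map_one (WittVector.truncate (p := p) (R := R) 2), WittVector.coeff_truncate]
  exact WittVector.one_coeff_eq_of_pos p R 1 (by norm_num)

theorem w2_ext {x y : W2 p R} (h0 : x.coeff 0 = y.coeff 0) (h1 : x.coeff 1 = y.coeff 1) : x = y := by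
  apply TruncatedWittVector.ext
  intro i
  fin_cases i
  · exact h0
  · exact h1

/-- The Witt vector of length two with components `x`, `y`. -/
def mk2 (x y : R) : W2 p R := TruncatedWittVector.mk p ![x, y]

theorem mk2_coeff_zero (x y : R) : (mk2 p R x y).coeff 0 = x := rfl

theorem mk2_coeff_one (x y : R) : (mk2 p R x y).coeff 1 = y := rfl

end truncated

end Groth.Agent.Lib.Helper20
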