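import Groth.Agent.Lib.Helper16.WhereEngine
import Groth.Agent.Lib.Helper16.FpqcQc
import Groth.Agent.Lib.Helper16.SchImg2
import Groth.Agent.Lib.Helper16.Thick
import Groth.Agent.Lib.Helper16.UnivClosed
import Groth.Agent.Lib.Helper16.AlgSt.LocQBase
import Groth.Agent.Lib.Helper17.AlgSpProper
import Groth.Agent.Lib.Helper6.ThickAlgSpN2

/-!
# Helper library (helper20): intersections of "where" loci; isomorphisms of algebraic spaces
-/

set_option autoImplicit false
universe u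
open CategoryTheory CategoryTheory.Limits AlgebraicGeometry

namespace Groth.Agent.Lib.Helper20.WhereInter

open AlgSp Groth.Agent.Lib.Helper16 Groth.Agent.Lib.Helper15

variable {S : Scheme.{u}}

/-- Intersection of two "where" loci. -/
theorem where_inter {X Y Z : AlgSp.Space S} (f : X ⟶ Y) (q : Y ⟶ Z)
    (P1 P2 : ∀ ⦃X' Y' : AlgSp.Space S⦄, (X' ⟶ Y') → Prop)
    (h1 : ∃ (W : AlgSp.Space S) (w : W ⟶ Z), RepWith @IsOpenImmersion w.hom ∧
      ∀ (Z' : AlgSp.Space S) (g : Z' ⟶ Z),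
        (∃ k : Z' ⟶ W, k ≫ w = g) ↔
          ∀ (Y' : AlgSp.Space S) (gY : Y' ⟶ Y) (q' : Y' ⟶ Z'),
            IsPullback gY.hom q'.hom q.hom g.hom →
            ∀ (X' : AlgSp.Space S) (gX : X' ⟶ X) (f' : X' ⟶ Y'),
              IsPullback gX.hom f'.hom f.hom gY.hom → P1 f')
    (h2 : ∃ (W : AlgSp.Space S) (w : W ⟶ Z), RepWith @IsOpenImmersion w.hom ∧
      ∀ (Z' : AlgSp.Space S) (g : Z' ⟶ Z),
        (∃ k : Z' ⟶ W, k ≫ w = g) ↔
          ∀ (Y' : AlgSp.Space S) (gY : Y' ⟶ Y) (q' : Y' ⟶ Z'),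
            IsPullback gY.hom q'.hom q.hom g.hom →
            ∀ (X' : AlgSp.Space S) (gX : X' ⟶ X) (f' : X' ⟶ Y'),
              IsPullback gX.hom f'.hom f.hom gY.hom → P2 f') :
    ∃ (W : AlgSp.Space S) (w : W ⟶ Z), RepWith @IsOpenImmersion w.hom ∧
      ∀ (Z' : AlgSp.Space S) (g : Z' ⟶ Z),
        (∃ k : Z' ⟶ W, k ≫ w = g) ↔
          ∀ (Y' : AlgSp.Space S) (gY : Y' ⟶ Y) (q' : Y' ⟶ Z'),
            IsPullback gY.hom q'.hom q.hom g.hom →
            ∀ (X' : AlgSp.Space S) (gX : X' ⟶ X) (f' : X' ⟶ Y'),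
              IsPullback gX.hom f'.hom f.hom gY.hom → (P1 f' ∧ P2 f') := by
  obtain ⟨W1, w1, hw1, H1⟩ := h1
  obtain ⟨W2, w2, hw2, H2⟩ := h2
  have sq := IsPullback.of_hasPullback w1.hom w2.hom
  let W : AlgSp.Space S := ⟨pullback w1.hom w2.hom,
    isAlgSpace_of_isPullback W1.property Z.property.diag W2.property sq⟩
  let a : W ⟶ W1 := ObjectProperty.homMk (pullback.fst w1.hom w2.hom)
  let b : W ⟶ W2 := ObjectProperty.homMk (pullback.snd w1.hom w2.hom)
  have hab : a ≫ w1 = b ≫ w2 := by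
    apply ObjectProperty.hom_ext
    exact pullback.condition
  refine ⟨W, a ≫ w1, ?_, fun Z' g => ⟨?_, ?_⟩⟩
  · show RepWith @IsOpenImmersion (pullback.fst w1.hom w2.hom ≫ w1.hom)
    exact (RepWith (S := S) @IsOpenImmersion).comp_mem _ _
      ((RepWith (S := S) @IsOpenImmersion).of_isPullback sq.flip hw2) hw1
  · rintro ⟨k, rfl⟩ Y' gY q' sqY X' gX f' sqX
    refine ⟨(H1 Z' (k ≫ a ≫ w1)).1 ⟨k ≫ a, by rw [Category.assoc]⟩ Y' gY q' sqY X' gX f' sqX,
      (H2 Z' (k ≫ a ≫ w1)).1 ⟨k ≫ b, by rw [Category.assoc, hab]⟩ Y' gY q' sqY X' gX f' sqX⟩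
  · intro H
    obtain ⟨k1, hk1⟩ := (H1 Z' g).2 (fun Y' gY q' sqY X' gX f' sqX => (H Y' gY q' sqY X' gX f' sqX).1)
    obtain ⟨k2, hk2⟩ := (H2 Z' g).2 (fun Y' gY q' sqY X' gX f' sqX => (H Y' gY q' sqY X' gX f' sqX).2)
    have hk : k1.hom ≫ w1.hom = k2.hom ≫ w2.hom := by
      have := congrArg (fun m => m.hom) (hk1.trans hk2.symm)
      exact this
    refine ⟨ObjectProperty.homMk (pullback.lift k1.hom k2.hom hk), ?_⟩
    apply ObjectProperty.hom_ext
    show pullback.lift k1.hom k2.hom hk ≫ pullback.fst w1.hom w2.hom ≫ w1.hom = g.hom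
    rw [pullback.lift_fst_assoc]
    exact congrArg (fun m => m.hom) hk1

/-- A morphism of algebraic spaces is an isomorphism iff it is a closed immersion, surjective and flat. -/
theorem isIso_iff_closedImmersion_surjective_flat {X Y : AlgSp.Space S} (f : X ⟶ Y) :
    (RepWith @IsClosedImmersion f.hom ∧ (IsSurjectiveMor f.hom ∧ LocP @Flat f.hom)) ↔ IsIso f.hom := by
  constructor
  · rintro ⟨hci, hs, hfl⟩
    have : Mono f.hom := Groth.Agent.Lib.Helper16.SchImg.mono_of_repWith_isClosedImmersion f.hom hci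
    have hqc : IsQuasiCompactMor f.hom :=
      isQuasiCompactMor_of_isUnivClosedMor X.property Y.property f.hom
        (Groth.Agent.Lib.Helper17.isUnivClosedMor_of_repWith_isClosedImmersion f.hom hci)
    exact isIso_of_qc_flat_surjective_mono X.property Y.property f.hom hqc hfl hs
  · intro hf
    refine ⟨Groth.Agent.Lib.Helper16.Thick.repWith_isClosedImmersion_of_isThickMor (Groth.Agent.Lib.Helper16.Thick.isThickMor_of_isIso f.hom),
      Groth.Agent.Lib.Helper6.ThickAlgSp.isSurjectiveMor_of_isIso f.hom, ?_⟩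
    have hsm := Groth.Agent.Lib.Helper16.AlgStDC.locP_smooth_of_isIso Y.property f.hom
    intro U V a b h ha hb hc
    have : Smooth h.left := hsm a b h ha hb hc
    infer_instance

end Groth.Agent.Lib.Helper20.WhereInter
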