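import Groth.Agent.Lib.Helper3.GrTildeQC
import Groth.Agent.Lib.Helper3.ModBasis
import Groth.Agent.Lib.Helper3.HomMk

/-!
# Functoriality and exactness of `M ↦ M(n)~` on `Proj` (no decomposition hypotheses)
-/

set_option autoImplicit false
set_option linter.unusedSectionVars false
universe u
open CategoryTheory CategoryTheory.Limits AlgebraicGeometry TopologicalSpace Opposite
open Scheme.Modules

namespace Groth.Agent.Lib.Helper20.ZT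

open Groth.Agent.Lib.Helper3 Groth.Agent.Lib.Helper3.QCSec Groth.Agent.Lib.Helper3.TwistBasic
  Groth.Agent.Lib.Helper3.GrTildeQC Groth.Agent.Lib.Helper3.HomMk

variable {R A : Type u} [CommRing R] [CommRing A] [Algebra R A] {𝒜 : ℕ → Submodule R A}
  [GradedAlgebra 𝒜]
  {M : Type u} [AddCommGroup M] [Module R M] [Module A M]
  {ℳ : ℕ → Submodule R M} [SetLike.GradedSMul 𝒜 ℳ]
  {N : Type u} [AddCommGroup N] [Module R N] [Module A N]
  {𝒩 : ℕ → Submodule R N} [SetLike.GradedSMul 𝒜 𝒩]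
  {P : Type u} [AddCommGroup P] [Module R P] [Module A P]
  {𝒬 : ℕ → Submodule R P} [SetLike.GradedSMul 𝒜 𝒬]

/-- the localized map at a point -/
noncomputable abbrev lmap (φ : M →ₗ[A] N) (x : ProjectiveSpectrum 𝒜) :
    GrTilde.LocMod 𝒜 (M := M) x →ₗ[Twist.Loc 𝒜 x] GrTilde.LocMod 𝒜 (M := N) x :=
  LocalizedModule.map x.asHomogeneousIdeal.toIdeal.primeCompl φ

theorem isLocMFrac_lmap (φ : M →ₗ[A] N) (hφ : ∀ i, ∀ m ∈ ℳ i, φ m ∈ 𝒩 i) {n : ℤ}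
    {U : (Proj 𝒜).Opens} {v : ∀ x : U, GrTilde.LocMod 𝒜 (M := M) x.1}
    (h : IsLocMFrac ℳ n v) : IsLocMFrac 𝒩 n (fun x => lmap φ x.1 (v x)) := by
  intro x
  obtain ⟨V, hxV, hVU, i, j, m, s, hs, hdeg, hv⟩ := h x
  refine ⟨V, hxV, hVU, i, j, ⟨φ m.1, hφ i m.1 m.2⟩, s, hs, ?_, fun y => ?_⟩
  · rcases hdeg with hd | h0
    · exact Or.inl hd
    · right
      change φ m.1 = 0
      rw [h0, map_zero]
  · change lmap φ y.1 (v ⟨y.1, hVU y.2⟩) = _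
    rw [hv y, LocalizedModule.map_mk]

/-- the morphism `M(n)~ ⟶ N(n)~` induced by a graded linear map -/
noncomputable def tmap (φ : M →ₗ[A] N) (hφ : ∀ i, ∀ m ∈ ℳ i, φ m ∈ 𝒩 i) (n : ℤ) :
    GrTilde.tilde 𝒜 ℳ n ⟶ GrTilde.tilde 𝒜 𝒩 n :=
  homMk (fun U t => mkMSec 𝒩 n U (fun x => lmap φ x.1 (mval t x))
      (isLocMFrac_lmap φ hφ (isLocMFrac_mval t)))
    (fun U s s' => mval_ext fun x => by
      rw [mval_add, mval_mkMSec, mval_mkMSec, mval_mkMSec, mval_add, map_add])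
    (fun U a s => mval_ext fun x => by
      rw [mval_smul, mval_mkMSec, mval_mkMSec, mval_smul]
      exact (lmap φ x.1).map_smul _ _)
    (fun h s => mval_ext fun x => rfl)

theorem mval_tmap (φ : M →ₗ[A] N) (hφ : ∀ i, ∀ m ∈ ℳ i, φ m ∈ 𝒩 i) (n : ℤ)
    {U : (Proj 𝒜).Opens} (t : Γ(GrTilde.tilde 𝒜 ℳ n, U)) (x : U) :
    mval ((tmap φ hφ n).app U t) x = lmap φ x.1 (mval t x) := rfl

theorem tmap_id (n : ℤ) :
    tmap (𝒜 := 𝒜) (ℳ := ℳ) (𝒩 := ℳ) LinearMap.id (fun _ _ h => h) n = 𝟙 _ := by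
  apply Scheme.Modules.hom_ext
  intro U
  ext t
  apply mval_ext
  intro x
  rw [mval_tmap]
  change lmap LinearMap.id x.1 (mval t x) = mval t x
  rw [lmap, LocalizedModule.map_id]
  rfl

theorem tmap_comp (φ : M →ₗ[A] N) (hφ : ∀ i, ∀ m ∈ ℳ i, φ m ∈ 𝒩 i)
    (ψ : N →ₗ[A] P) (hψ : ∀ i, ∀ m ∈ 𝒩 i, ψ m ∈ 𝒬 i) (n : ℤ) :
    tmap (𝒜 := 𝒜) (ψ ∘ₗ φ) (fun i m hm => hψ i _ (hφ i m hm)) n = tmap φ hφ n ≫ tmap ψ hψ n := by
  apply Scheme.Modules.hom_ext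
  intro U
  ext t
  apply mval_ext
  intro x
  change mval ((tmap (ψ ∘ₗ φ) _ n).app U t) x = mval ((tmap ψ hψ n).app U ((tmap φ hφ n).app U t)) x
  rw [mval_tmap, mval_tmap, mval_tmap]
  induction mval t x using LocalizedModule.induction_on with
  | h m s => rw [LocalizedModule.map_mk, LocalizedModule.map_mk, LocalizedModule.map_mk]; rfl

theorem tmap_add (φ ψ : M →ₗ[A] N) (hφ : ∀ i, ∀ m ∈ ℳ i, φ m ∈ 𝒩 i)
    (hψ : ∀ i, ∀ m ∈ ℳ i, ψ m ∈ 𝒩 i) (n : ℤ) :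
    tmap (𝒜 := 𝒜) (φ + ψ) (fun i m hm => add_mem (hφ i m hm) (hψ i m hm)) n =
      tmap φ hφ n + tmap ψ hψ n := by
  apply Scheme.Modules.hom_ext
  intro U
  ext t
  apply mval_ext
  intro x
  change mval ((tmap (φ + ψ) _ n).app U t) x =
    mval ((tmap φ hφ n).app U t + (tmap ψ hψ n).app U t) x
  rw [mval_add, mval_tmap, mval_tmap, mval_tmap, lmap, lmap, lmap, map_add]
  rfl

theorem tmap_zero (n : ℤ) :
    tmap (𝒜 := 𝒜) (ℳ := ℳ) (𝒩 := 𝒩) 0 (fun i _ _ => zero_mem _) n = 0 := by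
  apply Scheme.Modules.hom_ext
  intro U
  ext t
  apply mval_ext
  intro x
  change mval ((tmap (0 : M →ₗ[A] N) _ n).app U t) x = mval (0 : Γ(GrTilde.tilde 𝒜 𝒩 n, U)) x
  rw [mval_tmap, mval_zero, lmap, map_zero]
  rfl


/-! ### exactness -/

/-- a short complex of modules which is locally exact on sections is exact -/
theorem exact_of_locally_exact {X : Scheme.{u}} (S : ShortComplex X.Modules)
    (h : ∀ (W : X.Opens) (s : Γ(S.X₂, W)), S.g.app W s = 0 → ∀ x : X, x ∈ W →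
      ∃ (W' : X.Opens) (hW' : W' ≤ W), x ∈ W' ∧ ∃ t : Γ(S.X₁, W'), S.f.app W' t = res S.X₂ hW' s) :
    S.Exact := by
  rw [S.exact_iff_epi_toCycles]
  apply QCExact.epi_of_locally_surjective
  intro W c x hx
  have h1 : S.g.app W (S.iCycles.app W c) = 0 := by
    have := congrArg (fun φ => φ.app W c) S.iCycles_g
    exact this
  obtain ⟨W', hW', hxW', t, ht⟩ := h W _ h1 x hx
  refine ⟨W', hW', hxW', t, ?_⟩
  apply QCExact.injective_sections S.iCycles W'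
  have := congrArg (fun φ => φ.app W' t) S.toCycles_i
  refine this.trans (ht.trans ?_)
  exact (QCExact.app_res' S.iCycles hW' c).symm

theorem mono_tmap (φ : M →ₗ[A] N) (hφ : ∀ i, ∀ m ∈ ℳ i, φ m ∈ 𝒩 i) (n : ℤ)
    (hinj : Function.Injective φ) : Mono (tmap (𝒜 := 𝒜) φ hφ n) := by
  rw [QCProps.mono_iff_app_injective]
  intro U t t' htt
  apply mval_ext
  intro x
  have h1 := congrArg (fun s => mval s x) htt
  simp only [mval_tmap] at h1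
  exact LocalizedModule.map_injective _ φ hinj h1

theorem epi_tmap (φ : M →ₗ[A] N) (hφ : ∀ i, ∀ m ∈ ℳ i, φ m ∈ 𝒩 i) (n : ℤ)
    (hsurj : ∀ i, ∀ y ∈ 𝒩 i, ∃ m ∈ ℳ i, φ m = y) : Epi (tmap (𝒜 := 𝒜) φ hφ n) := by
  apply QCExact.epi_of_locally_surjective
  intro W s x hx
  obtain ⟨V, hxV, hVW, i, j, y, b, hb, hdeg, hv⟩ := isLocMFrac_mval s ⟨x, hx⟩
  refine ⟨V, hVW, hxV, ?_⟩
  rcases hdeg with hd | h0
  · obtain ⟨m, hm, hfm⟩ := hsurj i y.1 y.2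
    refine ⟨mfrac ℳ V ⟨m, hm⟩ b hb n hd, ?_⟩
    apply mval_ext
    intro z
    rw [mval_tmap, mval_mfrac, mval_res, LocalizedModule.map_mk, hv z, hfm]
  · refine ⟨0, ?_⟩
    apply mval_ext
    intro z
    rw [map_zero, mval_zero, mval_res, hv z, h0, LocalizedModule.zero_mk]

theorem tmap_comp_eq_zero (f : M →ₗ[A] N) (hf : ∀ i, ∀ m ∈ ℳ i, f m ∈ 𝒩 i)
    (g : N →ₗ[A] P) (hg : ∀ i, ∀ m ∈ 𝒩 i, g m ∈ 𝒬 i) (hgf : ∀ m, g (f m) = 0) (n : ℤ) :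
    tmap (𝒜 := 𝒜) f hf n ≫ tmap g hg n = 0 := by
  rw [← tmap_comp]
  have h0 : g ∘ₗ f = 0 := LinearMap.ext hgf
  apply Scheme.Modules.hom_ext
  intro U
  ext t
  apply mval_ext
  intro x
  change mval ((tmap (g ∘ₗ f) _ n).app U t) x = mval (0 : Γ(GrTilde.tilde 𝒜 𝒬 n, U)) x
  rw [mval_tmap, mval_zero, lmap, h0, map_zero]
  rfl

theorem exact_tmap (f : M →ₗ[A] N) (hf : ∀ i, ∀ m ∈ ℳ i, f m ∈ 𝒩 i)
    (g : N →ₗ[A] P) (hg : ∀ i, ∀ m ∈ 𝒩 i, g m ∈ 𝒬 i) (hgf : ∀ m, g (f m) = 0)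
    (hex : ∀ i, ∀ y ∈ 𝒩 i, g y = 0 → ∃ m ∈ ℳ i, f m = y)
    (hann : ∀ i, ∀ p ∈ 𝒬 i, ∀ u : A, u • p = 0 →
      ∀ e, (DirectSum.decompose 𝒜 u e : A) • p = 0) (n : ℤ) :
    (ShortComplex.mk (tmap (𝒜 := 𝒜) f hf n) (tmap g hg n)
      (tmap_comp_eq_zero f hf g hg hgf n)).Exact := by
  classical
  apply exact_of_locally_exact
  intro W s hs x hx
  change (tmap g hg n).app W s = 0 at hs
  obtain ⟨V, hxV, hVW, i, j, y, b, hb, hdeg, hv⟩ := isLocMFrac_mval s ⟨x, hx⟩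
  rcases hdeg with hd | h0
  · have h1 : lmap g x (mval s ⟨x, hx⟩) = 0 := by
      have := congrArg (fun t => mval t ⟨x, hx⟩) hs
      simpa only [mval_tmap, mval_zero] using this
    have h2 := hv ⟨x, hxV⟩
    change mval s ⟨x, hx⟩ = _ at h2
    rw [h2, LocalizedModule.map_mk,
      ← LocalizedModule.zero_mk (1 : x.asHomogeneousIdeal.toIdeal.primeCompl),
      LocalizedModule.mk_eq] at h1
    obtain ⟨u, hu⟩ := h1
    have hu' : (u : A) • g y.1 = 0 := by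
      have h3 : (u : A) • (1 : A) • g y.1 = (u : A) • b.1 • (0 : P) := hu
      rwa [one_smul, smul_zero, smul_zero] at h3
    obtain ⟨e, he⟩ : ∃ e, (DirectSum.decompose 𝒜 (u : A) e : A) ∉
        x.asHomogeneousIdeal.toIdeal := by
      by_contra hcon
      push Not at hcon
      apply u.2
      rw [← DirectSum.sum_support_decompose 𝒜 (u : A)]
      exact Ideal.sum_mem _ (fun k _ => hcon k)
    obtain ⟨ue, hue⟩ : ∃ ue : A, ue = (DirectSum.decompose 𝒜 (u : A) e : A) := ⟨_, rfl⟩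
    have huemem : ue ∈ 𝒜 e := by rw [hue]; exact SetLike.coe_mem _
    have hkill : ue • g y.1 = 0 := by
      rw [hue]; exact hann i (g y.1) (hg i y.1 y.2) (u : A) hu' e
    have hgz : g (ue • y.1) = 0 := by rw [LinearMap.map_smul, hkill]
    have hmem : ue • y.1 ∈ 𝒩 (e + i) := SetLike.GradedSMul.smul_mem huemem y.2
    obtain ⟨m, hm, hfm⟩ := hex (e + i) _ hmem hgz
    have hW' : V ⊓ Proj.basicOpen 𝒜 ue ≤ W := inf_le_left.trans hVW
    have hxW' : x ∈ V ⊓ Proj.basicOpen 𝒜 ue := ⟨hxV, by rw [hue]; exact he⟩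
    have hnin : ∀ z : (V ⊓ Proj.basicOpen 𝒜 ue : (Proj 𝒜).Opens),
        ue * b.1 ∉ z.1.asHomogeneousIdeal := fun z hmem' =>
      (z.1.isPrime.mem_or_mem hmem').elim z.2.2 (hb ⟨z.1, z.2.1⟩)
    refine ⟨V ⊓ Proj.basicOpen 𝒜 ue, hW', hxW', ?_⟩
    refine ⟨mfrac ℳ _ (⟨m, hm⟩ : ℳ (e + i))
      (⟨ue * b.1, SetLike.mul_mem_graded huemem b.2⟩ : 𝒜 (e + j)) hnin n
      (by push_cast; omega), ?_⟩
    apply mval_ext
    intro z
    change mval ((tmap f hf n).app _ _) z = _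
    rw [mval_tmap, mval_mfrac, mval_res, LocalizedModule.map_mk]
    have h4 := hv ⟨z.1, z.2.1⟩
    change mval s ⟨z.1, _⟩ = _ at h4
    rw [h4, LocalizedModule.mk_eq]
    refine ⟨1, ?_⟩
    rw [one_smul, one_smul]
    change b.1 • f m = (ue * b.1) • y.1
    rw [hfm, smul_smul, mul_comm]
  · refine ⟨V, hVW, hxV, 0, ?_⟩
    apply mval_ext
    intro z
    rw [map_zero, mval_zero, mval_res]
    have h4 := hv z
    change mval s ⟨z.1, _⟩ = _ at h4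
    rw [h4, h0, LocalizedModule.zero_mk]

/-- the tilde construction turns a graded short exact sequence into a short exact sequence -/
theorem shortExact_tmap (f : M →ₗ[A] N) (hf : ∀ i, ∀ m ∈ ℳ i, f m ∈ 𝒩 i)
    (g : N →ₗ[A] P) (hg : ∀ i, ∀ m ∈ 𝒩 i, g m ∈ 𝒬 i) (hgf : ∀ m, g (f m) = 0)
    (hinj : Function.Injective f)
    (hex : ∀ i, ∀ y ∈ 𝒩 i, g y = 0 → ∃ m ∈ ℳ i, f m = y)
    (hsurj : ∀ i, ∀ p ∈ 𝒬 i, ∃ y ∈ 𝒩 i, g y = p)
    (hann : ∀ i, ∀ p ∈ 𝒬 i, ∀ u : A, u • p = 0 →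
      ∀ e, (DirectSum.decompose 𝒜 u e : A) • p = 0) (n : ℤ) :
    (ShortComplex.mk (tmap (𝒜 := 𝒜) f hf n) (tmap g hg n)
      (tmap_comp_eq_zero f hf g hg hgf n)).ShortExact :=
  { exact := exact_tmap f hf g hg hgf hex hann n
    mono_f := mono_tmap f hf n hinj
    epi_g := epi_tmap g hg n hsurj }

/-- the tilde of a trivial module is a zero object -/
theorem isZero_tilde_of_subsingleton [Subsingleton M] (n : ℤ) :
    IsZero (GrTilde.tilde 𝒜 ℳ n) := by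
  rw [IsZero.iff_id_eq_zero]
  apply Scheme.Modules.hom_ext
  intro U
  ext t
  apply mval_ext
  intro x
  change mval t x = mval (0 : Γ(GrTilde.tilde 𝒜 ℳ n, U)) x
  rw [mval_zero]
  induction mval t x using LocalizedModule.induction_on with
  | h m s => rw [Subsingleton.elim m 0, LocalizedModule.zero_mk]


theorem tmap_congr {φ ψ : M →ₗ[A] N} (h : φ = ψ) (hφ : ∀ i, ∀ m ∈ ℳ i, φ m ∈ 𝒩 i)
    (hψ : ∀ i, ∀ m ∈ ℳ i, ψ m ∈ 𝒩 i) (n : ℤ) :
    tmap (𝒜 := 𝒜) φ hφ n = tmap ψ hψ n := by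
  subst h
  rfl

theorem sum_mem_of_forall {ι : Type*} (s : Finset ι) (φ : ι → (M →ₗ[A] N))
    (hφ : ∀ j, ∀ i, ∀ m ∈ ℳ i, φ j m ∈ 𝒩 i) : ∀ i, ∀ m ∈ ℳ i, (∑ j ∈ s, φ j) m ∈ 𝒩 i := by
  intro i m hm
  rw [LinearMap.sum_apply]
  exact Submodule.sum_mem _ (fun j _ => hφ j i m hm)

theorem tmap_sum {ι : Type*} (s : Finset ι) (φ : ι → (M →ₗ[A] N))
    (hφ : ∀ j, ∀ i, ∀ m ∈ ℳ i, φ j m ∈ 𝒩 i) (n : ℤ) :
    tmap (𝒜 := 𝒜) (∑ j ∈ s, φ j) (sum_mem_of_forall s φ hφ) n =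
      ∑ j ∈ s, tmap (φ j) (hφ j) n := by
  classical
  induction s using Finset.induction_on with
  | empty =>
    refine (tmap_congr Finset.sum_empty _ (fun i _ _ => zero_mem _) n).trans ?_
    rw [tmap_zero n, Finset.sum_empty]
  | insert a s ha ih =>
    refine (tmap_congr (Finset.sum_insert ha) _
      (fun i m hm => add_mem (hφ a i m hm) (sum_mem_of_forall s φ hφ i m hm)) n).trans ?_
    rw [tmap_add _ _ (hφ a) (sum_mem_of_forall s φ hφ) n, ih, Finset.sum_insert ha]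

end Groth.Agent.Lib.Helper20.ZT
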