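import Groth.Agent.Lib.Helper20.ZT1
import Groth.Agent.Lib.Helper22.GrHilb
import Groth.Agent.Lib.Helper22.GrMinRes
import Groth.Prelude.Def_GrSyz
import Groth.Prelude.Def_CohB1

/-!
# Graded modules over the standard graded polynomial ring: the two gradings, shifted copies,
free modules, annihilators of homogeneous elements
-/

set_option autoImplicit false
set_option linter.unusedSectionVars false
universe u
open CategoryTheory CategoryTheory.Limits AlgebraicGeometry TopologicalSpace Opposite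
open Scheme.Modules

namespace Groth.Agent.Lib.Helper20.ZT

open Groth.Agent.Lib.Helper3 Groth.Agent.Lib.Helper3.QCSec Groth.Agent.Lib.Helper3.TwistBasic
  Groth.Agent.Lib.Helper3.GrTildeQC Groth.Agent.Lib.Helper3.HomMk
  Groth.Agent.Lib.Helper22.GrHilb

variable (k : Type u) [Field k] (r : ℕ)

/-- the `ℕ`-grading and the `ℤ`-grading of the polynomial ring agree in non-negative degrees -/
theorem poly_eq_std (e : ℕ) :
    CohB1.polyGrading r k e = GrSyz.stdGr k (Fin (r + 1)) (e : ℤ) := by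
  ext p
  change p.IsHomogeneous e ↔ p.IsWeightedHomogeneous (fun _ : Fin (r + 1) => (1 : ℤ)) (e : ℤ)
  unfold MvPolynomial.IsHomogeneous MvPolynomial.IsWeightedHomogeneous
  have key : ∀ d : Fin (r + 1) →₀ ℕ,
      Finsupp.weight (1 : Fin (r + 1) → ℕ) d = e ↔
        Finsupp.weight (fun _ : Fin (r + 1) => (1 : ℤ)) d = (e : ℤ) := by
    intro d
    rw [weight_one]
    have h1 : Finsupp.weight (1 : Fin (r + 1) → ℕ) d = ∑ i, d i := by
      rw [Finsupp.weight_apply, Finsupp.sum_fintype _ _ (by simp)]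
      simp
    rw [h1]
    exact Nat.cast_inj.symm
  constructor
  · intro h d hd
    exact (key d).mp (h hd)
  · intro h d hd
    exact (key d).mpr (h hd)

theorem mem_std_of_mem_poly {e : ℕ} {p : MvPolynomial (Fin (r + 1)) k}
    (h : p ∈ CohB1.polyGrading r k e) : p ∈ GrSyz.stdGr k (Fin (r + 1)) (e : ℤ) := by
  rw [← poly_eq_std]; exact h

theorem mem_poly_of_mem_std {e : ℕ} {p : MvPolynomial (Fin (r + 1)) k}
    (h : p ∈ GrSyz.stdGr k (Fin (r + 1)) (e : ℤ)) : p ∈ CohB1.polyGrading r k e := by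
  rw [poly_eq_std]; exact h

theorem std_neg {n : ℤ} (hn : n < 0) {p : MvPolynomial (Fin (r + 1)) k}
    (h : p ∈ GrSyz.stdGr k (Fin (r + 1)) n) : p = 0 :=
  Groth.Agent.Lib.Helper22.GrMinRes.stdGr_neg k r n hn p h

/-- the two decompositions of a polynomial agree -/
theorem decompose_poly_eq_std (u : MvPolynomial (Fin (r + 1)) k) (e : ℕ) :
    (DirectSum.decompose (CohB1.polyGrading r k) u e : MvPolynomial (Fin (r + 1)) k) =
      (DirectSum.decompose (GrSyz.stdGr k (Fin (r + 1))) u (e : ℤ) :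
        MvPolynomial (Fin (r + 1)) k) := by
  classical
  conv_rhs => rw [← DirectSum.sum_support_decompose (CohB1.polyGrading r k) u]
  rw [DirectSum.decompose_sum, DFinsupp.finsetSum_apply, AddSubmonoidClass.coe_finsetSum]
  have hterm : ∀ e' : ℕ,
      ((DirectSum.decompose (GrSyz.stdGr k (Fin (r + 1)))
        (DirectSum.decompose (CohB1.polyGrading r k) u e' : MvPolynomial (Fin (r + 1)) k))
          (e : ℤ) : MvPolynomial (Fin (r + 1)) k) =
        if e' = e then (DirectSum.decompose (CohB1.polyGrading r k) u e' :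
          MvPolynomial (Fin (r + 1)) k) else 0 := by
    intro e'
    have hm := mem_std_of_mem_poly k r (SetLike.coe_mem (DirectSum.decompose (CohB1.polyGrading r k) u e'))
    split_ifs with h
    · subst h
      exact DirectSum.decompose_of_mem_same _ hm
    · exact DirectSum.decompose_of_mem_ne _ hm (by exact_mod_cast h)
  simp only [hterm]
  rw [Finset.sum_ite_eq']
  split_ifs with h
  · rfl
  · rw [DFinsupp.mem_support_toFun, not_not] at h
    rw [h]; rfl

/-! ### annihilators of homogeneous elements -/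

section Ann

variable {M : Type u} [AddCommGroup M] [Module k M] [Module (MvPolynomial (Fin (r + 1)) k) M]
  [IsScalarTower k (MvPolynomial (Fin (r + 1)) k) M]
  (ℳ : ℤ → Submodule k M) [DirectSum.Decomposition ℳ]
  [SetLike.GradedSMul (GrSyz.stdGr k (Fin (r + 1))) ℳ]

theorem hann_of_decomposition (i : ℤ) (p : M) (hp : p ∈ ℳ i)
    (u : MvPolynomial (Fin (r + 1)) k) (hu : u • p = 0) (e : ℕ) :
    (DirectSum.decompose (CohB1.polyGrading r k) u e : MvPolynomial (Fin (r + 1)) k) • p = 0 := by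
  have h1 := coe_decompose_smul_of_right_mem (GrSyz.stdGr k (Fin (r + 1))) ℳ u hp ((e : ℤ) + i)
  rw [hu, DirectSum.decompose_zero, DirectSum.zero_apply, ZeroMemClass.coe_zero,
    add_sub_cancel_right] at h1
  rw [decompose_poly_eq_std]
  exact h1.symm

end Ann

theorem hann_of_torsionFree {P : Type u} [AddCommGroup P] [Module (MvPolynomial (Fin (r + 1)) k) P]
    [NoZeroSMulDivisors (MvPolynomial (Fin (r + 1)) k) P] (p : P)
    (u : MvPolynomial (Fin (r + 1)) k) (hu : u • p = 0) (e : ℕ) :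
    (DirectSum.decompose (CohB1.polyGrading r k) u e : MvPolynomial (Fin (r + 1)) k) • p = 0 := by
  rcases smul_eq_zero.mp hu with h | h
  · rw [h, DirectSum.decompose_zero, DirectSum.zero_apply, ZeroMemClass.coe_zero, zero_smul]
  · rw [h, smul_zero]


/-! ### the graded pieces in non-negative degrees -/

/-- the shifted copy `A(-a)`, in degrees `≥ 0` -/
noncomputable def shiftN (a : ℤ) : ℕ → Submodule k (MvPolynomial (Fin (r + 1)) k) :=
  fun i => GrSyz.stdGr k (Fin (r + 1)) ((i : ℤ) - a)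

/-- the graded free module with basis degrees `deg`, in degrees `≥ 0` -/
noncomputable def pieceN {N : ℕ} (deg : Fin N → ℤ) : ℕ → Submodule k (Fin N → MvPolynomial (Fin (r + 1)) k) :=
  fun i => piece (GrSyz.stdGr k (Fin (r + 1))) deg (i : ℤ)

/-- the induced grading on a submodule of a graded free module, in degrees `≥ 0` -/
noncomputable def subN {N : ℕ} (deg : Fin N → ℤ)
    (K : Submodule (MvPolynomial (Fin (r + 1)) k) (Fin N → MvPolynomial (Fin (r + 1)) k)) :
    ℕ → Submodule k ↥K :=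
  fun i => (pieceN k r deg i).comap (K.subtype.restrictScalars k)

theorem mem_shiftN {a : ℤ} {i : ℕ} {p : MvPolynomial (Fin (r + 1)) k} :
    p ∈ shiftN k r a i ↔ p ∈ GrSyz.stdGr k (Fin (r + 1)) ((i : ℤ) - a) := Iff.rfl

theorem mem_pieceN {N : ℕ} {deg : Fin N → ℤ} {i : ℕ}
    {v : Fin N → MvPolynomial (Fin (r + 1)) k} :
    v ∈ pieceN k r deg i ↔ ∀ b, v b ∈ GrSyz.stdGr k (Fin (r + 1)) ((i : ℤ) - deg b) :=
  mem_piece _ deg (i : ℤ) v

theorem mem_subN {N : ℕ} {deg : Fin N → ℤ}
    {K : Submodule (MvPolynomial (Fin (r + 1)) k) (Fin N → MvPolynomial (Fin (r + 1)) k)}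
    {i : ℕ} {v : ↥K} : v ∈ subN k r deg K i ↔ (v : Fin N → MvPolynomial (Fin (r + 1)) k) ∈
      pieceN k r deg i := Iff.rfl

theorem std_mul_mem {i : ℕ} {n m : ℤ} {a b : MvPolynomial (Fin (r + 1)) k}
    (ha : a ∈ CohB1.polyGrading r k i) (hb : b ∈ GrSyz.stdGr k (Fin (r + 1)) n)
    (h : (i : ℤ) + n = m) : a * b ∈ GrSyz.stdGr k (Fin (r + 1)) m := by
  subst h
  exact SetLike.mul_mem_graded (mem_std_of_mem_poly k r ha) hb

instance shiftN_gradedSMul (a : ℤ) :
    SetLike.GradedSMul (CohB1.polyGrading r k) (shiftN k r a) where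
  smul_mem {i j ai bj} hai hbj := by
    rw [mem_shiftN] at hbj ⊢
    rw [smul_eq_mul]
    refine std_mul_mem k r hai hbj ?_
    rw [vadd_eq_add]
    push_cast
    ring

instance pieceN_gradedSMul {N : ℕ} (deg : Fin N → ℤ) :
    SetLike.GradedSMul (CohB1.polyGrading r k) (pieceN k r deg) where
  smul_mem {i j ai bj} hai hbj := by
    rw [mem_pieceN] at hbj ⊢
    intro b
    rw [Pi.smul_apply, smul_eq_mul]
    refine std_mul_mem k r hai (hbj b) ?_
    rw [vadd_eq_add]
    push_cast
    ring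

instance subN_gradedSMul {N : ℕ} (deg : Fin N → ℤ)
    (K : Submodule (MvPolynomial (Fin (r + 1)) k) (Fin N → MvPolynomial (Fin (r + 1)) k)) :
    SetLike.GradedSMul (CohB1.polyGrading r k) (subN k r deg K) where
  smul_mem {i j ai bj} hai hbj := by
    rw [mem_subN] at hbj ⊢
    rw [Submodule.coe_smul]
    exact (pieceN_gradedSMul k r deg).smul_mem hai hbj

/-! ### `A(-a)~ ≅ O(-a)` -/

theorem isLocFrac_of_isLocMFrac_shift (a : ℤ) {U : (Proj (CohB1.polyGrading r k)).Opens}
    {v : ∀ x : U, Twist.Loc (CohB1.polyGrading r k) x.1}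
    (h : IsLocMFrac (M := MvPolynomial (Fin (r + 1)) k) (shiftN k r a) 0 v) :
    IsLocFrac (-a) v := by
  intro x
  obtain ⟨V, hxV, hVU, i, j, m, s, hs, hdeg, hv⟩ := h x
  by_cases hz : (i : ℤ) = j + 0 ∧ 0 ≤ (j : ℤ) - a
  · obtain ⟨hd, hnn⟩ := hz
    have hij : i = j := by omega
    subst hij
    have hm : m.1 ∈ CohB1.polyGrading r k ((i : ℤ) - a).toNat := by
      apply mem_poly_of_mem_std
      rw [Int.toNat_of_nonneg hnn]
      exact m.2
    exact ⟨V, hxV, hVU, ((i : ℤ) - a).toNat, i, ⟨m.1, hm⟩, s, hs,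
      Or.inl (by rw [Int.toNat_of_nonneg hnn]; ring), fun y => hv y⟩
  · have hm0 : m.1 = 0 := by
      rcases hdeg with hd | h0
      · have hneg : (i : ℤ) - a < 0 := by
          by_contra hcon
          apply hz
          exact ⟨hd, by omega⟩
        exact std_neg k r hneg m.2
      · exact h0
    refine ⟨V, hxV, hVU, 0, j, ⟨0, zero_mem _⟩, s, hs, Or.inr rfl, fun y => ?_⟩
    rw [hv y, hm0]
    rfl

theorem isLocMFrac_shift_of_isLocFrac (a : ℤ) {U : (Proj (CohB1.polyGrading r k)).Opens}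
    {v : ∀ x : U, Twist.Loc (CohB1.polyGrading r k) x.1}
    (h : IsLocFrac (-a) v) :
    IsLocMFrac (M := MvPolynomial (Fin (r + 1)) k) (shiftN k r a) 0 v := by
  intro x
  obtain ⟨V, hxV, hVU, i, j, p, s, hs, hdeg, hv⟩ := h x
  have hp : p.1 ∈ shiftN k r a j := by
    rw [mem_shiftN]
    rcases hdeg with hd | h0
    · have e : (j : ℤ) - a = (i : ℤ) := by omega
      rw [e]
      exact mem_std_of_mem_poly k r p.2
    · rw [h0]; exact zero_mem _
  exact ⟨V, hxV, hVU, j, j, ⟨p.1, hp⟩, s, hs, Or.inl (by simp), fun y => hv y⟩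

/-- `A(-a)~ ≅ O(-a)` -/
noncomputable def shiftIso (a : ℤ) :
    GrTilde.tilde (CohB1.polyGrading r k) (shiftN k r a) 0 ≅
      Twist.twist (CohB1.polyGrading r k) (-a) :=
  isoMk (fun U t => mkSec (-a) U (fun x => mval t x)
      (isLocFrac_of_isLocMFrac_shift k r a (isLocMFrac_mval t)))
    (fun U t => mkMSec (shiftN k r a) 0 U (fun x => val t x)
      (isLocMFrac_shift_of_isLocFrac k r a (isLocFrac_val t)))
    (fun U s s' => val_ext fun x => rfl)
    (fun U c s => val_ext fun x => by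
      rw [val_smul, val_mkSec, val_mkSec, mval_smul]; rfl)
    (fun h s => val_ext fun x => rfl)
    (fun U s => mval_ext fun x => rfl)
    (fun U t => val_ext fun x => rfl)

/-- `A(-a)~ ≅ O(-a)` on projective space -/
noncomputable def shiftIso' (a : ℤ) :
    GrTilde.tilde (CohB1.polyGrading r k) (shiftN k r a) 0 ≅ Twist.twistProjSpace r k (-a) :=
  shiftIso k r a

end Groth.Agent.Lib.Helper20.ZT
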