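import Groth.Agent.Lib.Helper20.ZT2
import Groth.Agent.Lib.Helper7.RegRes
import Groth.Agent.Lib.Helper7.Mumford

/-!
# Cohomology of `M~(c)` on projective space: free modules and the syzygy step
-/

set_option autoImplicit false
set_option linter.unusedSectionVars false
universe u
open CategoryTheory CategoryTheory.Limits AlgebraicGeometry TopologicalSpace Opposite
open Scheme.Modules

namespace Groth.Agent.Lib.Helper20.ZT

open Groth.Agent.Lib.Helper3 Groth.Agent.Lib.Helper3.QCSec Groth.Agent.Lib.Helper3.TwistBasic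
  Groth.Agent.Lib.Helper3.GrTildeQC Groth.Agent.Lib.Helper3.HomMk
  Groth.Agent.Lib.Helper22.GrHilb Groth.Agent.Lib.Helper7.TwFun Groth.Agent.Lib.Helper7.MulSurj
  Groth.Agent.Lib.Helper7.RegRes

variable (k : Type u) [Field k] (r : ℕ)

/-- cohomology vanishing for an object which is a finite "direct sum" of objects with vanishing
cohomology -/
theorem sub_of_sum {X : Scheme.{u}} (T : X.Modules ⥤ X.Modules) [T.Additive] {F0 : X.Modules}
    {J : Type} [Fintype J] (L : J → X.Modules) (p : ∀ j, F0 ⟶ L j) (i : ∀ j, L j ⟶ F0)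
    (E : 𝟙 F0 = ∑ j, p j ≫ i j) (q : ℕ) (h : ∀ j, Subsingleton (Coh.HH X (T.obj (L j)) q)) :
    Subsingleton (Coh.HH X (T.obj F0) q) := by
  refine subsingleton_of_forall_eq 0 fun x => ?_
  have h1 : Hm (T.map (𝟙 F0)) q x = x := by
    rw [T.map_id]
    exact Hm_id _ q x
  rw [← h1, E, T.map_sum, Hm_sum]
  apply Finset.sum_eq_zero
  intro j _
  rw [T.map_comp, Hm_comp, @Subsingleton.elim _ (h j) (Hm (T.map (p j)) q x) 0, map_zero]

/-- cohomology of the (twisted) tilde of a trivial module vanishes -/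
theorem sub_of_subsingleton {M : Type u} [AddCommGroup M] [Module k M]
    [Module (MvPolynomial (Fin (r + 1)) k) M] (ℳ : ℕ → Submodule k M)
    [SetLike.GradedSMul (CohB1.polyGrading r k) ℳ] [Subsingleton M] (c : ℤ) (q : ℕ) :
    Subsingleton (Coh.HH (CohB1.ProjSpace r k)
      (CohB1.tensorMod (GrTilde.tilde (CohB1.polyGrading r k) ℳ 0)
        (Twist.twistProjSpace r k c)) q) := by
  have hz : IsZero (GrTilde.tilde (CohB1.polyGrading r k) ℳ 0) :=
    isZero_tilde_of_subsingleton (ℳ := ℳ) 0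
  have hz' : IsZero ((twR (Twist.twistProjSpace r k c)).obj
      (GrTilde.tilde (CohB1.polyGrading r k) ℳ 0)) :=
    Functor.map_isZero (twR (Twist.twistProjSpace r k c)) hz
  refine subsingleton_of_forall_eq 0 fun x => ?_
  have h1 : Hm (𝟙 ((twR (Twist.twistProjSpace r k c)).obj
      (GrTilde.tilde (CohB1.polyGrading r k) ℳ 0))) q x = x := Hm_id _ q x
  rw [← h1, hz'.eq_of_src (𝟙 _) 0]
  exact Hm_zero q x

/-- cohomology of the (twisted) tilde of a graded free module -/
theorem sub_free {N : ℕ} (deg : Fin N → ℤ) (c : ℤ) (q : ℕ)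
    (h : ∀ j, Subsingleton (Coh.HH (CohB1.ProjSpace r k)
      (CohB1.tensorMod (Twist.twistProjSpace r k (-deg j)) (Twist.twistProjSpace r k c)) q)) :
    Subsingleton (Coh.HH (CohB1.ProjSpace r k)
      (CohB1.tensorMod (GrTilde.tilde (CohB1.polyGrading r k) (pieceN k r deg) 0)
        (Twist.twistProjSpace r k c)) q) := by
  classical
  obtain ⟨π, hπdef⟩ : ∃ π : ∀ j : Fin N, (Fin N → MvPolynomial (Fin (r + 1)) k) →ₗ[MvPolynomial (Fin (r + 1)) k]
      MvPolynomial (Fin (r + 1)) k, ∀ j v, π j v = v j := ⟨fun j => LinearMap.proj j, fun _ _ => rfl⟩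
  obtain ⟨ι, hιdef⟩ : ∃ ι : ∀ j : Fin N, MvPolynomial (Fin (r + 1)) k →ₗ[MvPolynomial (Fin (r + 1)) k]
      (Fin N → MvPolynomial (Fin (r + 1)) k), ∀ j p, ι j p = Pi.single j p :=
    ⟨fun j => LinearMap.single (MvPolynomial (Fin (r + 1)) k)
      (fun _ : Fin N => MvPolynomial (Fin (r + 1)) k) j, fun _ _ => rfl⟩
  have hπ : ∀ j, ∀ i, ∀ v ∈ pieceN k r deg i, π j v ∈ shiftN k r (deg j) i := by
    intro j i v hv
    rw [hπdef]
    exact (mem_pieceN k r).mp hv j
  have hι : ∀ j, ∀ i, ∀ p ∈ shiftN k r (deg j) i, ι j p ∈ pieceN k r deg i := by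
    intro j i p hp
    rw [hιdef, mem_pieceN]
    intro b
    by_cases hb : b = j
    · subst hb
      rw [Pi.single_eq_same]
      exact hp
    · rw [Pi.single_eq_of_ne hb]
      exact zero_mem _
  have hsum : ∑ j, ι j ∘ₗ π j = LinearMap.id := by
    ext v b
    simp only [LinearMap.sum_apply, LinearMap.comp_apply, hπdef, hιdef, Finset.sum_apply,
      Pi.single_apply, Finset.sum_ite_eq, Finset.mem_univ, if_true, LinearMap.id_apply]
  have E : 𝟙 (GrTilde.tilde (CohB1.polyGrading r k) (pieceN k r deg) 0) =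
      ∑ j, tmap (π j) (hπ j) 0 ≫ tmap (ι j) (hι j) 0 := by
    rw [← tmap_id]
    refine (tmap_congr hsum.symm _ (sum_mem_of_forall Finset.univ (fun j => ι j ∘ₗ π j)
      (fun j i m hm => hι j i _ (hπ j i m hm))) 0).trans ?_
    refine (tmap_sum Finset.univ (fun j => ι j ∘ₗ π j)
      (fun j i m hm => hι j i _ (hπ j i m hm)) 0).trans ?_
    exact Finset.sum_congr rfl (fun j _ => tmap_comp (π j) (hπ j) (ι j) (hι j) 0)
  have hj : ∀ j, Subsingleton (Coh.HH (CohB1.ProjSpace r k)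
      ((twR (Twist.twistProjSpace r k c)).obj
        (GrTilde.tilde (CohB1.polyGrading r k) (shiftN k r (deg j)) 0)) q) := fun j =>
    subsingleton_HH_of_iso ((twR (Twist.twistProjSpace r k c)).mapIso (shiftIso' k r (deg j))) q
      (h j)
  exact sub_of_sum (X := CohB1.ProjSpace r k) (twR (Twist.twistProjSpace r k c))
    (fun j => GrTilde.tilde (CohB1.polyGrading r k) (shiftN k r (deg j)) 0)
    (fun j => tmap (π j) (hπ j) 0) (fun j => tmap (ι j) (hι j) 0) E q hj

/-- the syzygy step: if `F → P` is a graded surjection from a graded free module with kernel `K`,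
cohomology vanishing for `F~(c)` in degree `q` and for `K~(c)` in degree `q + 1` gives vanishing
for `P~(c)` in degree `q`. -/
theorem step {P : Type u} [AddCommGroup P] [Module k P] [Module (MvPolynomial (Fin (r + 1)) k) P]
    (𝒬 : ℕ → Submodule k P) [SetLike.GradedSMul (CohB1.polyGrading r k) 𝒬]
    {N : ℕ} (deg : Fin N → ℤ)
    (g : (Fin N → MvPolynomial (Fin (r + 1)) k) →ₗ[MvPolynomial (Fin (r + 1)) k] P)
    (hg : ∀ i, ∀ v ∈ pieceN k r deg i, g v ∈ 𝒬 i)
    (hsurj : ∀ i, ∀ p ∈ 𝒬 i, ∃ v ∈ pieceN k r deg i, g v = p)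
    (hann : ∀ i, ∀ p ∈ 𝒬 i, ∀ u : MvPolynomial (Fin (r + 1)) k, u • p = 0 →
      ∀ e, (DirectSum.decompose (CohB1.polyGrading r k) u e : MvPolynomial (Fin (r + 1)) k) • p = 0)
    (K : Submodule (MvPolynomial (Fin (r + 1)) k) (Fin N → MvPolynomial (Fin (r + 1)) k))
    (hK : ∀ v, v ∈ K ↔ g v = 0) (c : ℤ) (q : ℕ)
    (h1 : ∀ j, Subsingleton (Coh.HH (CohB1.ProjSpace r k)
      (CohB1.tensorMod (Twist.twistProjSpace r k (-deg j)) (Twist.twistProjSpace r k c)) q))
    (h2 : Subsingleton (Coh.HH (CohB1.ProjSpace r k)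
      (CohB1.tensorMod (GrTilde.tilde (CohB1.polyGrading r k) (subN k r deg K) 0)
        (Twist.twistProjSpace r k c)) (q + 1))) :
    Subsingleton (Coh.HH (CohB1.ProjSpace r k)
      (CohB1.tensorMod (GrTilde.tilde (CohB1.polyGrading r k) 𝒬 0)
        (Twist.twistProjSpace r k c)) q) := by
  have hS := shortExact_tmap (𝒜 := CohB1.polyGrading r k) (ℳ := subN k r deg K)
    (𝒩 := pieceN k r deg) (𝒬 := 𝒬) K.subtype (fun i m hm => hm) g hg
    (fun m => (hK m.1).mp m.2) Subtype.val_injective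
    (fun i y hy h0 => ⟨⟨y, (hK y).mpr h0⟩, hy, rfl⟩) hsurj hann 0
  have hSc := Groth.Agent.Lib.Helper7.Mumford.shortExact_tw r k c _ hS
  exact sub_right' _ _ _ (twR (Twist.twistProjSpace r k c)) hSc q (sub_free k r deg c q h1) h2

end Groth.Agent.Lib.Helper20.ZT
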