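import Groth.Agent.Lib.Helper20.ZT3
import Groth.Agent.Lib.Helper20.GrPolySyz

/-!
# Sheaf regularity is bounded by module regularity (`reg M~ ≤ reg M`)
-/

set_option autoImplicit false
set_option linter.unusedSectionVars false
universe u
open CategoryTheory CategoryTheory.Limits AlgebraicGeometry TopologicalSpace Opposite
open Scheme.Modules

namespace Groth.Agent.Lib.Helper20.ZT

open Groth.Agent.Lib.Helper3 Groth.Agent.Lib.Helper3.QCSec Groth.Agent.Lib.Helper3.TwistBasic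
  Groth.Agent.Lib.Helper3.GrTildeQC Groth.Agent.Lib.Helper3.HomMk
  Groth.Agent.Lib.Helper22.GrHilb Groth.Agent.Lib.Helper7.TwFun Groth.Agent.Lib.Helper7.MulSurj
  Groth.Agent.Lib.Helper7.RegRes

variable (k : Type u) [Field k] (r : ℕ)

/-- vanishing of the cohomology of `O(-a) ⊗ O(c)` in positive degrees -/
theorem sub_twist (a c : ℤ) (q : ℕ) (hq : 1 ≤ q) (h : q = r → -(r : ℤ) ≤ c - a) :
    Subsingleton (Coh.HH (CohB1.ProjSpace r k)
      (CohB1.tensorMod (Twist.twistProjSpace r k (-a)) (Twist.twistProjSpace r k c)) q) :=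
  subsingleton_HH_of_iso (mulIso' (Groth.Agent.Lib.Helper7.Mumford.hU r k) (-a) c (-a + c) rfl) q
    (Groth.Agent.S0844.result k r (-a + c) q (by rintro ⟨h1, -⟩; omega)
      (by rintro ⟨h1, h2⟩; have := h h1; omega))

/-- annihilators in submodules of free modules over the polynomial ring (a domain) -/
theorem hann_sub {N : ℕ}
    (K : Submodule (MvPolynomial (Fin (r + 1)) k) (Fin N → MvPolynomial (Fin (r + 1)) k))
    (y : ↥K) (u : MvPolynomial (Fin (r + 1)) k) (hu : u • y = 0) (e : ℕ) :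
    (DirectSum.decompose (CohB1.polyGrading r k) u e : MvPolynomial (Fin (r + 1)) k) • y = 0 := by
  by_cases h : u = 0
  · rw [h, DirectSum.decompose_zero, DirectSum.zero_apply, ZeroMemClass.coe_zero, zero_smul]
  · have hy : y = 0 := by
      apply Subtype.ext
      funext b
      have h1 : (u • y : ↥K).1 b = 0 := by rw [hu]; rfl
      have h2 : u * y.1 b = 0 := h1
      exact (mul_eq_zero.mp h2).resolve_left h
    rw [hy, smul_zero]

section Res

variable {M : Type u} [AddCommGroup M] [Module k M] [Module (MvPolynomial (Fin (r + 1)) k) M]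
  [IsScalarTower k (MvPolynomial (Fin (r + 1)) k) M]
  (ℳ : ℤ → Submodule k M) [DirectSum.Decomposition ℳ]
  [SetLike.GradedSMul (GrSyz.stdGr k (Fin (r + 1))) ℳ]
  (F : GrSyz.FreeRes (GrSyz.stdGr k (Fin (r + 1))) ℳ)

theorem aug_mem_piece (i : ℕ) (v : Fin (F.rk 0) → MvPolynomial (Fin (r + 1)) k)
    (hv : v ∈ pieceN k r (F.deg 0) i) : F.augLin v ∈ ℳ (i : ℤ) :=
  linearCombination_mem (GrSyz.stdGr k (Fin (r + 1))) ℳ (F.deg 0) F.aug F.aug_mem (i : ℤ) hv

theorem aug_surj_piece (i : ℕ) (m : M) (hm : m ∈ ℳ (i : ℤ)) :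
    ∃ v ∈ pieceN k r (F.deg 0) i, F.augLin v = m := by
  obtain ⟨w, rfl⟩ := F.aug_surjective m
  refine ⟨projF (GrSyz.stdGr k (Fin (r + 1))) (F.deg 0) (i : ℤ) w, projF_mem _ _ _ w, ?_⟩
  change Fintype.linearCombination _ F.aug (projF _ (F.deg 0) (i : ℤ) w) = _
  rw [← projM_linearCombination (GrSyz.stdGr k (Fin (r + 1))) ℳ (F.deg 0) F.aug F.aug_mem,
    projM_of_mem ℳ hm]

theorem d_mem_piece (p : ℕ) (i : ℕ) (v : Fin (F.rk (p + 1)) → MvPolynomial (Fin (r + 1)) k)
    (hv : v ∈ pieceN k r (F.deg (p + 1)) i) : F.dLin p v ∈ pieceN k r (F.deg p) i := by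
  have h := projF_mulVec (GrSyz.stdGr k (Fin (r + 1))) (F.deg p) (F.deg (p + 1)) (F.d p)
    (F.d_mem p) (i : ℤ) v
  rw [projF_of_mem _ _ _ hv] at h
  change (F.d p).mulVec v ∈ _
  rw [← h]
  exact projF_mem _ _ _ _

theorem d_surj_piece (p : ℕ) (i : ℕ) (v : Fin (F.rk (p + 1)) → MvPolynomial (Fin (r + 1)) k)
    (hv : v ∈ pieceN k r (F.deg (p + 1)) i) (h0 : F.dLin p v = 0) :
    ∃ w ∈ pieceN k r (F.deg (p + 2)) i, F.dLin (p + 1) w = v := by
  have hex := exact_piece ((F.dLin (p + 1)).restrictScalars k) ((F.dLin p).restrictScalars k)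
    (projF (GrSyz.stdGr k (Fin (r + 1))) (F.deg (p + 2)) (i : ℤ))
    (projF (GrSyz.stdGr k (Fin (r + 1))) (F.deg (p + 1)) (i : ℤ)) _ _
    (projF_mem _ _ (i : ℤ))
    (fun v hv => projF_of_mem _ _ (i : ℤ) hv) (projF_mem _ _ (i : ℤ))
    (fun v hv => projF_of_mem _ _ (i : ℤ) hv)
    (fun v => projF_mulVec _ (F.deg (p + 1)) (F.deg (p + 2)) (F.d (p + 1)) (F.d_mem (p + 1))
      (i : ℤ) v)
    (fun v => by
      have := F.exact_succ p
      have h2 : v ∈ LinearMap.ker (Matrix.mulVecLin (F.d p)) ↔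
          v ∈ LinearMap.range (Matrix.mulVecLin (F.d (p + 1))) := by rw [this]
      exact h2) v
  obtain ⟨w, hw, hwv⟩ := hex.mp ⟨hv, h0⟩
  exact ⟨w, hw, hwv⟩

theorem d0_surj_piece (i : ℕ) (v : Fin (F.rk 0) → MvPolynomial (Fin (r + 1)) k)
    (hv : v ∈ pieceN k r (F.deg 0) i) (h0 : F.augLin v = 0) :
    ∃ w ∈ pieceN k r (F.deg 1) i, F.dLin 0 w = v := by
  have hex := exact_piece ((F.dLin 0).restrictScalars k) (F.augLin.restrictScalars k)
    (projF (GrSyz.stdGr k (Fin (r + 1))) (F.deg 1) (i : ℤ))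
    (projF (GrSyz.stdGr k (Fin (r + 1))) (F.deg 0) (i : ℤ)) _ _
    (projF_mem _ _ (i : ℤ))
    (fun v hv => projF_of_mem _ _ (i : ℤ) hv) (projF_mem _ _ (i : ℤ))
    (fun v hv => projF_of_mem _ _ (i : ℤ) hv)
    (fun v => projF_mulVec _ (F.deg 0) (F.deg 1) (F.d 0) (F.d_mem 0) (i : ℤ) v)
    (fun v => by
      have := F.exact_zero
      have h2 : v ∈ LinearMap.ker (Fintype.linearCombination _ F.aug) ↔
          v ∈ LinearMap.range (Matrix.mulVecLin (F.d 0)) := by rw [this]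
      exact h2) v
  obtain ⟨w, hw, hwv⟩ := hex.mp ⟨hv, h0⟩
  exact ⟨w, hw, hwv⟩

theorem d_comp (p : ℕ) (v : Fin (F.rk (p + 2)) → MvPolynomial (Fin (r + 1)) k) :
    F.dLin p (F.dLin (p + 1) v) = 0 := by
  have h : F.dLin (p + 1) v ∈ LinearMap.range (Matrix.mulVecLin (F.d (p + 1))) := ⟨v, rfl⟩
  rw [← F.exact_succ p] at h
  exact h

theorem d0_comp (v : Fin (F.rk 1) → MvPolynomial (Fin (r + 1)) k) :
    F.augLin (F.dLin 0 v) = 0 := by
  have h : F.dLin 0 v ∈ LinearMap.range (Matrix.mulVecLin (F.d 0)) := ⟨v, rfl⟩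
  rw [← F.exact_zero] at h
  exact h

/-- the `(p+2)`-nd syzygy module, as a submodule of `F_{p+1}` -/
noncomputable def Y (p : ℕ) : Submodule (MvPolynomial (Fin (r + 1)) k)
    (Fin (F.rk (p + 1)) → MvPolynomial (Fin (r + 1)) k) :=
  LinearMap.ker (F.dLin p)

/-- the first syzygy module, as a submodule of `F_0` -/
noncomputable def Y0 : Submodule (MvPolynomial (Fin (r + 1)) k)
    (Fin (F.rk 0) → MvPolynomial (Fin (r + 1)) k) :=
  LinearMap.ker F.augLin


variable (d : ℤ)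

theorem claimY (hgen : F.IsGenLE d) (hlen : F.HasLengthLE (r + 1)) :
    ∀ (t p : ℕ), p + t = r + 1 → ∀ q : ℕ, 1 ≤ q → ∀ c : ℤ, d + p + 2 - q ≤ c →
      Subsingleton (Coh.HH (CohB1.ProjSpace r k)
        (CohB1.tensorMod (GrTilde.tilde (CohB1.polyGrading r k)
          (subN k r (F.deg (p + 1)) (Y k r ℳ F p)) 0) (Twist.twistProjSpace r k c)) q) := by
  intro t
  induction t with
  | zero =>
    intro p hp q hq c hc
    have h0 : F.rk (p + 1) = 0 := hlen (p + 1) (by omega)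
    haveI : IsEmpty (Fin (F.rk (p + 1))) := by rw [h0]; infer_instance
    haveI : Subsingleton ↥(Y k r ℳ F p) := inferInstance
    exact sub_of_subsingleton k r _ c q
  | succ t ih =>
    intro p hp q hq c hc
    refine step k r (subN k r (F.deg (p + 1)) (Y k r ℳ F p)) (F.deg (p + 2))
      ((F.dLin (p + 1)).codRestrict (Y k r ℳ F p)
        (fun v => LinearMap.mem_ker.mpr (d_comp k r ℳ F p v)))
      (fun i v hv => d_mem_piece k r ℳ F (p + 1) i v hv)
      (fun i y hy => ?_) (fun i y _ u hu e => hann_sub k r _ y u hu e)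
      (Y k r ℳ F (p + 1)) (fun v => ?_) c q (fun j => ?_) ?_
    · obtain ⟨w, hw, hwv⟩ := d_surj_piece k r ℳ F p i y.1 hy (LinearMap.mem_ker.mp y.2)
      exact ⟨w, hw, Subtype.ext hwv⟩
    · constructor
      · intro h
        exact Subtype.ext (LinearMap.mem_ker.mp h)
      · intro h
        exact LinearMap.mem_ker.mpr (congrArg Subtype.val h)
    · refine sub_twist k r (F.deg (p + 2) j) c q hq (fun hqr => ?_)
      have := hgen (p + 2) j
      push_cast at this
      omega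
    · exact ih (p + 1) (by omega) (q + 1) (by omega) c (by push_cast; omega)

theorem claimY0 (hgen : F.IsGenLE d) (hlen : F.HasLengthLE (r + 1)) (q : ℕ) (hq : 1 ≤ q) (c : ℤ)
    (hc : d + 1 - q ≤ c) :
    Subsingleton (Coh.HH (CohB1.ProjSpace r k)
      (CohB1.tensorMod (GrTilde.tilde (CohB1.polyGrading r k)
        (subN k r (F.deg 0) (Y0 k r ℳ F)) 0) (Twist.twistProjSpace r k c)) q) := by
  refine step k r (subN k r (F.deg 0) (Y0 k r ℳ F)) (F.deg 1)
    ((F.dLin 0).codRestrict (Y0 k r ℳ F)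
      (fun v => LinearMap.mem_ker.mpr (d0_comp k r ℳ F v)))
    (fun i v hv => d_mem_piece k r ℳ F 0 i v hv)
    (fun i y hy => ?_) (fun i y _ u hu e => hann_sub k r _ y u hu e)
    (Y k r ℳ F 0) (fun v => ?_) c q (fun j => ?_) ?_
  · obtain ⟨w, hw, hwv⟩ := d0_surj_piece k r ℳ F i y.1 hy (LinearMap.mem_ker.mp y.2)
    exact ⟨w, hw, Subtype.ext hwv⟩
  · constructor
    · intro h
      exact Subtype.ext (LinearMap.mem_ker.mp h)
    · intro h
      exact LinearMap.mem_ker.mpr (congrArg Subtype.val h)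
  · refine sub_twist k r (F.deg 1 j) c q hq (fun hqr => ?_)
    have := hgen 1 j
    push_cast at this
    omega
  · exact claimY k r ℳ F d hgen hlen (r + 1) 0 (by omega) (q + 1) (by omega) c
      (by push_cast; omega)

theorem claimM [SetLike.GradedSMul (CohB1.polyGrading r k) (fun n : ℕ => ℳ (n : ℤ))]
    (hgen : F.IsGenLE d) (hlen : F.HasLengthLE (r + 1)) (q : ℕ) (hq : 1 ≤ q) (c : ℤ)
    (hc : d - q ≤ c) :
    Subsingleton (Coh.HH (CohB1.ProjSpace r k)
      (CohB1.tensorMod (GrTilde.tilde (CohB1.polyGrading r k) (fun n : ℕ => ℳ (n : ℤ)) 0)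
        (Twist.twistProjSpace r k c)) q) := by
  refine step k r (fun n : ℕ => ℳ (n : ℤ)) (F.deg 0) F.augLin
    (fun i v hv => aug_mem_piece k r ℳ F i v hv)
    (fun i m hm => aug_surj_piece k r ℳ F i m hm)
    (fun i m hm u hu e => hann_of_decomposition k r ℳ (i : ℤ) m hm u hu e)
    (Y0 k r ℳ F) (fun v => LinearMap.mem_ker) c q (fun j => ?_) ?_
  · refine sub_twist k r (F.deg 0 j) c q hq (fun hqr => ?_)
    have := hgen 0 j
    push_cast at this
    omega
  · exact claimY0 k r ℳ F d hgen hlen (q + 1) (by omega) c (by push_cast; omega)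

/-- **`reg M~ ≤ reg M`**: if the module regularity is `≤ d`, the sheaf `M~` is `d`-regular. -/
theorem isMRegular_tilde [SetLike.GradedSMul (CohB1.polyGrading r k) (fun n : ℕ => ℳ (n : ℤ))]
    (hd : GrSyz.IsRegLE (GrSyz.stdGr k (Fin (r + 1))) ℳ
      (GrSyz.irrel (GrSyz.stdGr k (Fin (r + 1)))).toIdeal d) :
    Curv2.IsMRegular k r
      (GrTilde.tilde (CohB1.polyGrading r k) (fun n : ℕ => ℳ (n : ℤ)) 0) d := by
  obtain ⟨F, hmin, hgen⟩ := hd
  have hlen := Groth.Agent.Lib.Helper20.GrPolySyz.hasLengthLE_of_isMinimal k r ℳ F hmin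
  intro i hi1 _
  exact claimM k r ℳ F d hgen hlen i hi1 (d - i) le_rfl

end Res

end Groth.Agent.Lib.Helper20.ZT
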