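import Groth.Agent.Lib.Helper20.ZT4
import Groth.Agent.Lib.Helper7.PnGamma
import Groth.Agent.Lib.Helper3.GrTildeTwist
import Groth.Agent.Lib.Helper3.GrTildeFT

/-!
# Global sections `m/1` of `M(n)~`, and global sections of the tilde of a graded free module
-/

set_option autoImplicit false
set_option linter.unusedSectionVars false
universe u
open CategoryTheory CategoryTheory.Limits AlgebraicGeometry TopologicalSpace Opposite
open Scheme.Modules

namespace Groth.Agent.Lib.Helper20.ZT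

open Groth.Agent.Lib.Helper3 Groth.Agent.Lib.Helper3.QCSec Groth.Agent.Lib.Helper3.TwistBasic
  Groth.Agent.Lib.Helper3.GrTildeQC Groth.Agent.Lib.Helper3.HomMk
  Groth.Agent.Lib.Helper3.GrTildeTwist
  Groth.Agent.Lib.Helper22.GrHilb Groth.Agent.Lib.Helper7.TwFun Groth.Agent.Lib.Helper7.MulSurj
  Groth.Agent.Lib.Helper7.RegRes

section General

variable {R A : Type u} [CommRing R] [CommRing A] [Algebra R A] (𝒜 : ℕ → Submodule R A)
  [GradedAlgebra 𝒜]
  {M : Type u} [AddCommGroup M] [Module R M] [Module A M]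
  (ℳ : ℕ → Submodule R M) [SetLike.GradedSMul 𝒜 ℳ]
  {N : Type u} [AddCommGroup N] [Module R N] [Module A N]
  (𝒩 : ℕ → Submodule R N) [SetLike.GradedSMul 𝒜 𝒩]

variable {𝒜} in
theorem one_notMem' (x : ProjectiveSpectrum 𝒜) : (1 : A) ∉ x.asHomogeneousIdeal :=
  fun h => x.isPrime.ne_top ((Ideal.eq_top_iff_one _).mpr h)

/-- the global section `m/1` of `M(n)~` -/
def gsec (n : ℕ) (m : ℳ n) :
    Γ(GrTilde.tilde 𝒜 ℳ (n : ℤ), (⊤ : (Proj 𝒜).Opens)) :=
  mfrac ℳ ⊤ m (⟨1, SetLike.GradedOne.one_mem⟩ : 𝒜 0) (fun x => one_notMem' x.1) (n : ℤ) (by simp)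

theorem mval_gsec (n : ℕ) (m : ℳ n) (x : (⊤ : (Proj 𝒜).Opens)) :
    mval (gsec 𝒜 ℳ n m) x = LocalizedModule.mk m.1 ⟨1, one_notMem' x.1⟩ := rfl

theorem gsec_add (n : ℕ) (m m' : ℳ n) : gsec 𝒜 ℳ n (m + m') = gsec 𝒜 ℳ n m + gsec 𝒜 ℳ n m' := by
  apply mval_ext
  intro x
  rw [mval_add, mval_gsec, mval_gsec, mval_gsec]
  exact Groth.Agent.Lib.Helper3.GrTildeFT.mk_add_same _ _ _

theorem gsec_zero (n : ℕ) : gsec 𝒜 ℳ n 0 = 0 := by
  apply mval_ext
  intro x
  rw [mval_gsec, mval_zero]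
  exact LocalizedModule.zero_mk _

/-- `m ↦ m/1` as an additive map -/
def gsecHom (n : ℕ) : ℳ n →+ Γ(GrTilde.tilde 𝒜 ℳ (n : ℤ), (⊤ : (Proj 𝒜).Opens)) where
  toFun := gsec 𝒜 ℳ n
  map_zero' := gsec_zero 𝒜 ℳ n
  map_add' := gsec_add 𝒜 ℳ n

theorem gsecHom_apply (n : ℕ) (m : ℳ n) : gsecHom 𝒜 ℳ n m = gsec 𝒜 ℳ n m := rfl

theorem tmap_gsec (φ : M →ₗ[A] N) (hφ : ∀ i, ∀ m ∈ ℳ i, φ m ∈ 𝒩 i) (n : ℕ) (m : ℳ n) :
    (tmap (𝒜 := 𝒜) φ hφ (n : ℤ)).app ⊤ (gsec 𝒜 ℳ n m) = gsec 𝒜 𝒩 n ⟨φ m.1, hφ n m.1 m.2⟩ := by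
  apply mval_ext
  intro x
  rw [mval_tmap, mval_gsec, mval_gsec, LocalizedModule.map_mk]

theorem gsec_eq_globalOf (n : ℕ) (m : ℳ n) :
    (gsec 𝒜 ℳ n m : GrTilde.sect 𝒜 ℳ (n : ℤ) (op ⊤)) = GrTilde.globalOf 𝒜 ℳ m :=
  Subtype.ext (funext fun x => Subtype.ext rfl)

theorem sum_app {X : Scheme.{u}} {F G : X.Modules} {ι : Type*} (s : Finset ι) (φ : ι → (F ⟶ G))
    (U : X.Opens) (t : Γ(F, U)) : (∑ j ∈ s, φ j).app U t = ∑ j ∈ s, (φ j).app U t := by
  classical
  induction s using Finset.induction_on with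
  | empty => rw [Finset.sum_empty, Finset.sum_empty]; rfl
  | insert a s ha ih =>
    rw [Finset.sum_insert ha, Finset.sum_insert ha, ← ih]
    rfl

end General

section Poly

variable (k : Type u) [Field k] (r : ℕ)

/-- the `j`-th coordinate projection of a free module -/
noncomputable def projL {N : ℕ} (j : Fin N) :
    (Fin N → MvPolynomial (Fin (r + 1)) k) →ₗ[MvPolynomial (Fin (r + 1)) k]
      MvPolynomial (Fin (r + 1)) k := LinearMap.proj j

/-- the `j`-th coordinate inclusion of a free module -/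
noncomputable def singL {N : ℕ} (j : Fin N) :
    MvPolynomial (Fin (r + 1)) k →ₗ[MvPolynomial (Fin (r + 1)) k]
      (Fin N → MvPolynomial (Fin (r + 1)) k) :=
  LinearMap.single (MvPolynomial (Fin (r + 1)) k)
    (fun _ : Fin N => MvPolynomial (Fin (r + 1)) k) j

theorem projL_apply {N : ℕ} (j : Fin N) (v : Fin N → MvPolynomial (Fin (r + 1)) k) :
    projL k r j v = v j := rfl

theorem singL_apply {N : ℕ} (j : Fin N) (p : MvPolynomial (Fin (r + 1)) k) :
    singL k r j p = Pi.single j p := rfl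

theorem projL_mem {N : ℕ} (deg : Fin N → ℤ) (j : Fin N) :
    ∀ i, ∀ v ∈ pieceN k r deg i, projL k r j v ∈ shiftN k r (deg j) i :=
  fun i v hv => (mem_pieceN k r).mp hv j

theorem singL_mem {N : ℕ} (deg : Fin N → ℤ) (j : Fin N) :
    ∀ i, ∀ p ∈ shiftN k r (deg j) i, singL k r j p ∈ pieceN k r deg i := by
  classical
  intro i p hp
  rw [singL_apply, mem_pieceN]
  intro b
  by_cases hb : b = j
  · subst hb
    rw [Pi.single_eq_same]
    exact hp
  · rw [Pi.single_eq_of_ne hb]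
    exact zero_mem _

theorem sum_singL_projL {N : ℕ} :
    ∑ j : Fin N, singL k r j ∘ₗ projL k r j = LinearMap.id := by
  classical
  ext v b
  simp only [LinearMap.sum_apply, LinearMap.comp_apply, projL_apply, singL_apply, Finset.sum_apply,
    Pi.single_apply, Finset.sum_ite_eq, Finset.mem_univ, if_true, LinearMap.id_apply]

theorem id_eq_sum {N : ℕ} (deg : Fin N → ℤ) (n : ℤ) :
    𝟙 (GrTilde.tilde (CohB1.polyGrading r k) (pieceN k r deg) n) =
      ∑ j, tmap (projL k r j) (projL_mem k r deg j) n ≫ tmap (singL k r j) (singL_mem k r deg j) n := by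
  rw [← tmap_id]
  refine (tmap_congr (sum_singL_projL k r).symm _ (sum_mem_of_forall Finset.univ
    (fun j => singL k r j ∘ₗ projL k r j)
    (fun j i m hm => singL_mem k r deg j i _ (projL_mem k r deg j i m hm))) n).trans ?_
  refine (tmap_sum Finset.univ (fun j => singL k r j ∘ₗ projL k r j)
    (fun j i m hm => singL_mem k r deg j i _ (projL_mem k r deg j i m hm)) n).trans ?_
  exact Finset.sum_congr rfl (fun j _ => tmap_comp (projL k r j) (projL_mem k r deg j)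
    (singL k r j) (singL_mem k r deg j) n)

theorem isLocFrac_of_isLocMFrac_shiftN (a : ℤ) (n c : ℤ) (hc : c = n - a)
    {U : (Proj (CohB1.polyGrading r k)).Opens}
    {v : ∀ x : U, Twist.Loc (CohB1.polyGrading r k) x.1}
    (h : IsLocMFrac (M := MvPolynomial (Fin (r + 1)) k) (shiftN k r a) n v) :
    IsLocFrac c v := by
  intro x
  obtain ⟨V, hxV, hVU, i, j, m, s, hs, hdeg, hv⟩ := h x
  by_cases hz : (i : ℤ) = j + n ∧ 0 ≤ (i : ℤ) - a
  · obtain ⟨hd, hnn⟩ := hz
    have hm : m.1 ∈ CohB1.polyGrading r k ((i : ℤ) - a).toNat := by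
      apply mem_poly_of_mem_std
      rw [Int.toNat_of_nonneg hnn]
      exact m.2
    exact ⟨V, hxV, hVU, ((i : ℤ) - a).toNat, j, ⟨m.1, hm⟩, s, hs,
      Or.inl (by rw [Int.toNat_of_nonneg hnn]; omega), fun y => hv y⟩
  · have hm0 : m.1 = 0 := by
      rcases hdeg with hd | h0
      · have hneg : (i : ℤ) - a < 0 := by
          by_contra hcon
          apply hz
          exact ⟨hd, by omega⟩
        exact std_neg k r hneg m.2
      · exact h0
    refine ⟨V, hxV, hVU, 0, j, ⟨0, zero_mem _⟩, s, hs, Or.inr rfl, fun y => ?_⟩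
    rw [hv y, hm0]
    rfl

/-- global sections of `A(-a)(n)~` for `a ≤ n` are the elements of `A_{n-a}` -/
theorem exists_gsec_shift (a : ℤ) (n : ℕ) (ha : a ≤ n)
    (t : Γ(GrTilde.tilde (CohB1.polyGrading r k) (shiftN k r a) (n : ℤ),
      (⊤ : (Proj (CohB1.polyGrading r k)).Opens))) :
    ∃ p : shiftN k r a n, gsec (CohB1.polyGrading r k) (shiftN k r a) n p = t := by
  obtain ⟨d', hd'⟩ : ∃ d' : ℕ, (d' : ℤ) = n - a := ⟨((n : ℤ) - a).toNat, by omega⟩
  have hloc : IsLocFrac (d' : ℤ) (fun x : (⊤ : (Proj (CohB1.polyGrading r k)).Opens) => mval t x) :=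
    isLocFrac_of_isLocMFrac_shiftN k r a n d' hd' (isLocMFrac_mval t)
  obtain ⟨p, hp⟩ := Groth.Agent.Lib.Helper7.PnGamma.PhiHom_surjective r k d'
    (mkSec (d' : ℤ) ⊤ _ hloc)
  have hpm : p.1 ∈ shiftN k r a n := by
    rw [mem_shiftN, ← hd']
    exact mem_std_of_mem_poly k r p.2
  refine ⟨⟨p.1, hpm⟩, ?_⟩
  apply mval_ext
  intro x
  have h1 := congrArg (fun u => val u x) hp
  simp only [Groth.Agent.Lib.Helper7.PnGamma.val_PhiHom, val_mkSec] at h1
  rw [mval_gsec]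
  exact h1

/-- global sections of `F(n)~` for a graded free module with generators in degrees `≤ n` -/
theorem exists_gsec_free {N : ℕ} (deg : Fin N → ℤ) (n : ℕ) (hdeg : ∀ j, deg j ≤ n)
    (s : Γ(GrTilde.tilde (CohB1.polyGrading r k) (pieceN k r deg) (n : ℤ),
      (⊤ : (Proj (CohB1.polyGrading r k)).Opens))) :
    ∃ v : pieceN k r deg n, gsec (CohB1.polyGrading r k) (pieceN k r deg) n v = s := by
  have h1 : s = ∑ j, (tmap (singL k r j) (singL_mem k r deg j) (n : ℤ)).app ⊤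
      ((tmap (projL k r j) (projL_mem k r deg j) (n : ℤ)).app ⊤ s) := by
    have h2 := congrArg (fun φ => φ.app ⊤ s) (id_eq_sum k r deg (n : ℤ))
    simp only [sum_app] at h2
    exact h2
  choose p hp using fun j => exists_gsec_shift k r (deg j) n (hdeg j)
    ((tmap (projL k r j) (projL_mem k r deg j) (n : ℤ)).app ⊤ s)
  refine ⟨∑ j, ⟨singL k r j (p j).1, singL_mem k r deg j n _ (p j).2⟩, ?_⟩
  rw [h1, ← gsecHom_apply, map_sum]
  refine Finset.sum_congr rfl (fun j _ => ?_)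
  rw [gsecHom_apply, ← hp j, tmap_gsec]

end Poly

end Groth.Agent.Lib.Helper20.ZT
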