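import Groth.Agent.Lib.Helper20.ZT5
import Groth.Agent.Lib.Helper7.MulSurjPn
import Groth.Agent.Lib.Helper7.GrSyzIrrel

/-!
# Castelnuovo–Mumford: generation of `M` in degrees `≤ e` from regularity of `M~`
-/

set_option autoImplicit false
set_option linter.unusedSectionVars false
universe u
open CategoryTheory CategoryTheory.Limits AlgebraicGeometry TopologicalSpace Opposite
open Scheme.Modules

namespace Groth.Agent.Lib.Helper20.ZT

open Groth.Agent.Lib.Helper3 Groth.Agent.Lib.Helper3.QCSec Groth.Agent.Lib.Helper3.TwistBasic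
  Groth.Agent.Lib.Helper3.GrTildeQC Groth.Agent.Lib.Helper3.HomMk
  Groth.Agent.Lib.Helper3.GrTildeTwist Groth.Agent.Lib.Helper3.InvMonoidal
  Groth.Agent.Lib.Helper3.InvTensor
  Groth.Agent.Lib.Helper22.GrHilb Groth.Agent.Lib.Helper7.TwFun Groth.Agent.Lib.Helper7.MulSurj
  Groth.Agent.Lib.Helper7.RegRes

variable (k : Type u) [Field k] (r : ℕ)

section Span

variable {P : Type u} [AddCommGroup P] [Module k P] [Module (MvPolynomial (Fin (r + 1)) k) P]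
  (𝒬 : ℕ → Submodule k P) [SetLike.GradedSMul (CohB1.polyGrading r k) 𝒬]

/-- the product of `m/1` and `p/1` -/
theorem mmulSec_gsec (n : ℕ) (n1 : ℤ) (hn1 : (1 : ℤ) + (n : ℤ) = n1) (hn1' : n1 = ((n + 1 : ℕ) : ℤ))
    (m : 𝒬 n) (p : MvPolynomial.homogeneousSubmodule (Fin (r + 1)) k 1) :
    hn1' ▸ mmulSec hn1 (gsec (CohB1.polyGrading r k) 𝒬 n m)
      (Groth.Agent.Lib.Helper7.PnGamma.PhiHom r k 1 p) =
      gsec (CohB1.polyGrading r k) 𝒬 (n + 1)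
        ⟨p.1 • m.1, Groth.Agent.Lib.Helper3.GrTildeFT.smul_mem' (𝒜 := CohB1.polyGrading r k)
          (ℳ := 𝒬) p.2 m.2 (add_comm 1 n)⟩ := by
  subst hn1'
  apply mval_ext
  intro x
  rw [mval_mmulSec, mval_gsec, mval_gsec, Groth.Agent.Lib.Helper7.PnGamma.val_PhiHom]
  change (Localization.mk p.1 ⟨1, _⟩ : Twist.Loc (CohB1.polyGrading r k) x.1) •
    (LocalizedModule.mk m.1 ⟨1, _⟩ : GrTilde.LocMod (CohB1.polyGrading r k) (M := P) x.1) = _
  rw [LocalizedModule.mk_smul_mk]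
  congr 1
  exact Subtype.ext (mul_one _)

/-- Castelnuovo–Mumford: for `n ≥ e`, global sections of `M(n+1)~` are sums of products of global
sections of `M(n)~` with linear forms. -/
theorem gsec_span (hqc : Coh.IsQCoh (X := CohB1.ProjSpace r k)
      (GrTilde.tilde (CohB1.polyGrading r k) 𝒬 0)) (e : ℤ)
    (hreg : ∀ i : ℕ, 1 ≤ i → Subsingleton (Coh.HH (CohB1.ProjSpace r k)
      (CohB1.tensorMod (GrTilde.tilde (CohB1.polyGrading r k) 𝒬 0)
        (Twist.twistProjSpace r k (e - i))) i))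
    (n : ℤ) (hn : e ≤ n) (n1 : ℤ) (hn1 : (1 : ℤ) + n = n1)
    (s : Γ(GrTilde.tilde (CohB1.polyGrading r k) 𝒬 n1,
      (⊤ : (Proj (CohB1.polyGrading r k)).Opens))) :
    s ∈ AddSubgroup.closure {z | ∃ (s' : Γ(GrTilde.tilde (CohB1.polyGrading r k) 𝒬 n,
        (⊤ : (Proj (CohB1.polyGrading r k)).Opens)))
      (t : Γ(Twist.twist (CohB1.polyGrading r k) 1, (⊤ : (Proj (CohB1.polyGrading r k)).Opens))),
      z = mmulSec hn1 s' t} := by
  have hU := Groth.Agent.Lib.Helper7.Mumford.hU r k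
  let Ψ₁ : CohB1.tensorMod (GrTilde.tilde (CohB1.polyGrading r k) 𝒬 0)
      (Twist.twist (CohB1.polyGrading r k) n) ≅ GrTilde.tilde (CohB1.polyGrading r k) 𝒬 n :=
    mmulIso (add_zero n) (hU n)
  let Ψ₂ : CohB1.tensorMod (GrTilde.tilde (CohB1.polyGrading r k) 𝒬 n)
      (Twist.twist (CohB1.polyGrading r k) 1) ≅ GrTilde.tilde (CohB1.polyGrading r k) 𝒬 n1 :=
    mmulIso hn1 (hU 1)
  obtain ⟨z', hz'⟩ : ∃ z' : Γ(CohB1.tensorMod (CohB1.tensorMod
      (GrTilde.tilde (CohB1.polyGrading r k) 𝒬 0) (Twist.twist (CohB1.polyGrading r k) n))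
      (Twist.twist (CohB1.polyGrading r k) 1), (⊤ : (Proj (CohB1.polyGrading r k)).Opens)),
      Ψ₂.hom.app ⊤ ((tensorMap Ψ₁.hom (𝟙 (Twist.twist (CohB1.polyGrading r k) 1))).app ⊤ z') =
        s := by
    refine ⟨(tensorMap Ψ₁.inv (𝟙 (Twist.twist (CohB1.polyGrading r k) 1))).app ⊤
      (Ψ₂.inv.app ⊤ s), ?_⟩
    have h1 : (tensorMap Ψ₁.hom (𝟙 (Twist.twist (CohB1.polyGrading r k) 1))).app ⊤
        ((tensorMap Ψ₁.inv (𝟙 (Twist.twist (CohB1.polyGrading r k) 1))).app ⊤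
          (Ψ₂.inv.app ⊤ s)) = Ψ₂.inv.app ⊤ s := by
      have h2 : tensorMap Ψ₁.inv (𝟙 (Twist.twist (CohB1.polyGrading r k) 1)) ≫
          tensorMap Ψ₁.hom (𝟙 (Twist.twist (CohB1.polyGrading r k) 1)) = 𝟙 _ := by
        rw [← tensorMap_comp, Iso.inv_hom_id, Category.comp_id, tensorMap_id]
      exact congrArg (fun φ => φ.app ⊤ (Ψ₂.inv.app ⊤ s)) h2
    rw [h1]
    exact iso_hom_inv_app Ψ₂ ⊤ s
  have hmem : z' ∈ pureSpan (CohB1.tensorMod (GrTilde.tilde (CohB1.polyGrading r k) 𝒬 0)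
      (Twist.twist (CohB1.polyGrading r k) n)) (Twist.twist (CohB1.polyGrading r k) 1) :=
    Groth.Agent.Lib.Helper7.MulSurjPn.mem_pureSpan r k
      (GrTilde.tilde (CohB1.polyGrading r k) 𝒬 0) hqc e hreg n hn 1 1 (by simp) z'
  rw [← hz']
  refine closure_map_mem ((appHom Ψ₂.hom ⊤).comp
    (appHom (tensorMap Ψ₁.hom (𝟙 (Twist.twist (CohB1.polyGrading r k) 1))) ⊤)) _ _ ?_ z' hmem
  rintro _ ⟨u, t, rfl⟩
  apply AddSubgroup.subset_closure
  refine ⟨Ψ₁.hom.app ⊤ u, t, ?_⟩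
  change Ψ₂.hom.app ⊤ ((tensorMap Ψ₁.hom (𝟙 _)).app ⊤ (tm _ _ ⊤ u t)) = _
  rw [tensorMap_tm]
  exact mmulHom_tm hn1 ⊤ _ _

/-- the regularity package for a graded module, at level `e` -/
structure Phi (e : ℕ) : Prop where
  qc : Coh.IsQCoh (X := CohB1.ProjSpace r k) (GrTilde.tilde (CohB1.polyGrading r k) 𝒬 0)
  reg : ∀ i : ℕ, 1 ≤ i → Subsingleton (Coh.HH (CohB1.ProjSpace r k)
    (CohB1.tensorMod (GrTilde.tilde (CohB1.polyGrading r k) 𝒬 0)
      (Twist.twistProjSpace r k ((e : ℤ) - i))) i)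
  inj : ∀ n : ℕ, e < n → ∀ m : 𝒬 n, gsec (CohB1.polyGrading r k) 𝒬 n m = 0 → m = 0
  surj : ∀ s : Γ(GrTilde.tilde (CohB1.polyGrading r k) 𝒬 (e : ℤ),
    (⊤ : (Proj (CohB1.polyGrading r k)).Opens)), ∃ m : 𝒬 e, gsec (CohB1.polyGrading r k) 𝒬 e m = s

variable {𝒬}

/-- the products `p • m` in `Q_{n+1}` -/
def prodSet (n : ℕ) : Set (𝒬 (n + 1)) :=
  {y | ∃ (p : MvPolynomial.homogeneousSubmodule (Fin (r + 1)) k 1) (m : 𝒬 n), (y : P) = p.1 • m.1}

theorem closure_le_map {e : ℕ} (h : Phi k r 𝒬 e) (n : ℕ)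
    (hsn : ∀ s : Γ(GrTilde.tilde (CohB1.polyGrading r k) 𝒬 (n : ℤ),
      (⊤ : (Proj (CohB1.polyGrading r k)).Opens)), ∃ m : 𝒬 n, gsec (CohB1.polyGrading r k) 𝒬 n m = s) :
    AddSubgroup.closure {z | ∃ (s' : Γ(GrTilde.tilde (CohB1.polyGrading r k) 𝒬 (n : ℤ),
        (⊤ : (Proj (CohB1.polyGrading r k)).Opens)))
      (t : Γ(Twist.twist (CohB1.polyGrading r k) 1, (⊤ : (Proj (CohB1.polyGrading r k)).Opens))),
      z = mmulSec (show (1 : ℤ) + (n : ℤ) = ((n + 1 : ℕ) : ℤ) by push_cast; ring) s' t} ≤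
      (AddSubgroup.closure (prodSet k r (𝒬 := 𝒬) n)).map
        (gsecHom (CohB1.polyGrading r k) 𝒬 (n + 1)) := by
  rw [AddSubgroup.closure_le]
  rintro _ ⟨s', t, rfl⟩
  obtain ⟨m, rfl⟩ := hsn s'
  obtain ⟨p, rfl⟩ := Groth.Agent.Lib.Helper7.PnGamma.PhiHom_surjective r k 1 t
  refine ⟨⟨p.1 • m.1, Groth.Agent.Lib.Helper3.GrTildeFT.smul_mem' (𝒜 := CohB1.polyGrading r k)
    (ℳ := 𝒬) p.2 m.2 (add_comm 1 n)⟩, AddSubgroup.subset_closure ⟨p, m, rfl⟩, ?_⟩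
  rw [gsecHom_apply]
  exact (mmulSec_gsec k r 𝒬 n _ _ rfl m p).symm

/-- `Q_n → H^0(Q(n)~)` is surjective for `n ≥ e`, and `Q_{n+1}` is spanned by products -/
theorem surj_and_span {e : ℕ} (h : Phi k r 𝒬 e) (n : ℕ) (hn : e ≤ n) :
    (∀ s : Γ(GrTilde.tilde (CohB1.polyGrading r k) 𝒬 (n : ℤ),
      (⊤ : (Proj (CohB1.polyGrading r k)).Opens)), ∃ m : 𝒬 n, gsec (CohB1.polyGrading r k) 𝒬 n m = s) ∧
    ∀ m' : 𝒬 (n + 1), m' ∈ AddSubgroup.closure (prodSet k r (𝒬 := 𝒬) n) := by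
  induction n, hn using Nat.le_induction with
  | base =>
    refine ⟨h.surj, fun m' => ?_⟩
    have h1 := gsec_span k r 𝒬 h.qc (e : ℤ) h.reg (e : ℤ) le_rfl ((e + 1 : ℕ) : ℤ)
      (by push_cast; ring) (gsec (CohB1.polyGrading r k) 𝒬 (e + 1) m')
    obtain ⟨y, hy, hym⟩ := closure_le_map k r h e h.surj h1
    have h2 : gsec (CohB1.polyGrading r k) 𝒬 (e + 1) (m' - y) = 0 := by
      rw [← gsecHom_apply, map_sub, hym, gsecHom_apply, sub_self]
    have h3 := h.inj (e + 1) (Nat.lt_succ_self e) _ h2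
    rw [sub_eq_zero.mp h3]
    exact hy
  | succ n hn ih =>
    have hs : ∀ s : Γ(GrTilde.tilde (CohB1.polyGrading r k) 𝒬 ((n + 1 : ℕ) : ℤ),
        (⊤ : (Proj (CohB1.polyGrading r k)).Opens)),
        ∃ m : 𝒬 (n + 1), gsec (CohB1.polyGrading r k) 𝒬 (n + 1) m = s := by
      intro s
      have h1 := gsec_span k r 𝒬 h.qc (e : ℤ) h.reg (n : ℤ) (by exact_mod_cast hn)
        ((n + 1 : ℕ) : ℤ) (by push_cast; ring) s
      obtain ⟨y, -, hym⟩ := closure_le_map k r h n ih.1 h1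
      exact ⟨y, hym⟩
    refine ⟨hs, fun m' => ?_⟩
    have h1 := gsec_span k r 𝒬 h.qc (e : ℤ) h.reg ((n + 1 : ℕ) : ℤ)
      (by push_cast; have : (e : ℤ) ≤ n := by exact_mod_cast hn
          omega) ((n + 1 + 1 : ℕ) : ℤ)
      (by push_cast; ring) (gsec (CohB1.polyGrading r k) 𝒬 (n + 1 + 1) m')
    obtain ⟨y, hy, hym⟩ := closure_le_map k r h (n + 1) hs h1
    have h2 : gsec (CohB1.polyGrading r k) 𝒬 (n + 1 + 1) (m' - y) = 0 := by
      rw [← gsecHom_apply, map_sub, hym, gsecHom_apply, sub_self]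
    have h3 := h.inj (n + 1 + 1) (by omega) _ h2
    rw [sub_eq_zero.mp h3]
    exact hy

/-- **generation in degrees `≤ e`**: a minimal graded surjection from a graded free module onto a
module with the regularity package at level `e` has all basis degrees `≤ e`. -/
theorem gen_le {e : ℕ} (h : Phi k r 𝒬 e) {N : ℕ} (deg : Fin N → ℤ)
    (g : (Fin N → MvPolynomial (Fin (r + 1)) k) →ₗ[MvPolynomial (Fin (r + 1)) k] P)
    (hg : ∀ i, ∀ v ∈ pieceN k r deg i, g v ∈ 𝒬 i)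
    (hsurj : ∀ i, ∀ p ∈ 𝒬 i, ∃ v ∈ pieceN k r deg i, g v = p)
    (hmin : ∀ v, g v = 0 → ∀ j, v j ∈ (GrSyz.irrel (GrSyz.stdGr k (Fin (r + 1)))).toIdeal)
    (j₀ : Fin N) : deg j₀ ≤ e := by
  classical
  by_contra hcon
  push Not at hcon
  obtain ⟨n, hn⟩ : ∃ n : ℕ, (n : ℤ) + 1 = deg j₀ := ⟨(deg j₀ - 1).toNat, by omega⟩
  have hen : e ≤ n := by omega
  have hsingle : (Pi.single j₀ 1 : Fin N → MvPolynomial (Fin (r + 1)) k) ∈
      pieceN k r deg (n + 1) := by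
    rw [mem_pieceN]
    intro b
    by_cases hb : b = j₀
    · subst hb
      rw [Pi.single_eq_same]
      have e0 : ((n + 1 : ℕ) : ℤ) - deg b = 0 := by push_cast; omega
      rw [e0]
      exact SetLike.GradedOne.one_mem
    · rw [Pi.single_eq_of_ne hb]
      exact zero_mem _
  have hy := (surj_and_span k r h n hen).2 ⟨g (Pi.single j₀ 1), hg _ _ hsingle⟩
  have key : ∀ y : 𝒬 (n + 1), y ∈ AddSubgroup.closure (prodSet k r (𝒬 := 𝒬) n) →
      ∃ w : Fin N → MvPolynomial (Fin (r + 1)) k,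
        (∀ j, w j ∈ (GrSyz.irrel (GrSyz.stdGr k (Fin (r + 1)))).toIdeal) ∧ g w = y.1 := by
    intro y hy
    induction hy using AddSubgroup.closure_induction with
    | mem y hy =>
      obtain ⟨p, m, hpm⟩ := hy
      obtain ⟨v, -, hv⟩ := hsurj n m.1 m.2
      refine ⟨p.1 • v, fun j => ?_, ?_⟩
      · rw [Pi.smul_apply, smul_eq_mul]
        apply Ideal.mul_mem_right
        exact Ideal.subset_span ⟨1, one_pos, by
          have := mem_std_of_mem_poly k r (e := 1) p.2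
          simpa using this⟩
      · rw [LinearMap.map_smul, hv, hpm]
    | zero => exact ⟨0, fun j => Ideal.zero_mem _, map_zero _⟩
    | add a b _ _ ha hb =>
      obtain ⟨wa, hwa, ha'⟩ := ha
      obtain ⟨wb, hwb, hb'⟩ := hb
      exact ⟨wa + wb, fun j => Ideal.add_mem _ (hwa j) (hwb j), by
        rw [map_add, ha', hb']; rfl⟩
    | neg a _ ha =>
      obtain ⟨wa, hwa, ha'⟩ := ha
      exact ⟨-wa, fun j => (Ideal.neg_mem_iff _).mpr (hwa j), by rw [map_neg, ha']; rfl⟩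
  obtain ⟨w, hw, hgw⟩ := key _ hy
  have h0 : g (Pi.single j₀ 1 - w) = 0 := by
    rw [map_sub, hgw, sub_self]
  have h1 := hmin _ h0 j₀
  rw [Pi.sub_apply, Pi.single_eq_same] at h1
  have h2 : (1 : MvPolynomial (Fin (r + 1)) k) ∈
      (GrSyz.irrel (GrSyz.stdGr k (Fin (r + 1)))).toIdeal := by
    have := Ideal.add_mem _ h1 (hw j₀)
    rwa [sub_add_cancel] at this
  exact (Groth.Agent.Lib.Helper7.irrel_stdGr_isMaximal k (Fin (r + 1))).ne_top
    ((Ideal.eq_top_iff_one _).mpr h2)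

end Span

end Groth.Agent.Lib.Helper20.ZT
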