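import Groth.Agent.Lib.Helper20.ZT6
import Groth.Agent.Lib.Helper3.QCLim
import Groth.Agent.Lib.Helper6.ProjBasic
import Groth.Agent.Lib.Helper3.GrTildeSelf

/-!
# Quasi-coherence of tildes of presented modules, and the syzygy step for the regularity package
-/

set_option autoImplicit false
set_option linter.unusedSectionVars false
universe u
open CategoryTheory CategoryTheory.Limits AlgebraicGeometry TopologicalSpace Opposite
open Scheme.Modules

namespace Groth.Agent.Lib.Helper20.ZT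

open Groth.Agent.Lib.Helper3 Groth.Agent.Lib.Helper3.QCSec Groth.Agent.Lib.Helper3.TwistBasic
  Groth.Agent.Lib.Helper3.GrTildeQC Groth.Agent.Lib.Helper3.HomMk
  Groth.Agent.Lib.Helper3.GrTildeTwist Groth.Agent.Lib.Helper3.InvMonoidal
  Groth.Agent.Lib.Helper3.InvTensor
  Groth.Agent.Lib.Helper22.GrHilb Groth.Agent.Lib.Helper7.TwFun Groth.Agent.Lib.Helper7.MulSurj
  Groth.Agent.Lib.Helper7.RegRes

section QC

/-- a module which is a "sum" of finitely many quasi-coherent modules is quasi-coherent -/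
theorem isQCoh_of_sum {X : Scheme.{u}} {F0 : X.Modules} {N : ℕ} (L : Fin N → X.Modules)
    (p : ∀ j, F0 ⟶ L j) (i : ∀ j, L j ⟶ F0) (E : 𝟙 F0 = ∑ j, p j ≫ i j)
    (h : ∀ j, (L j).IsQuasicoherent) :
    SheafOfModules.IsQuasicoherent (R := X.ringCatSheaf) F0 := by
  haveI hB : SheafOfModules.IsQuasicoherent (R := X.ringCatSheaf) (∐ L : X.Modules) :=
    isQCoh_coprod L h
  let σ : F0 ⟶ (∐ L : X.Modules) := ∑ j, p j ≫ Sigma.ι L j
  let π : (∐ L : X.Modules) ⟶ F0 := Sigma.desc i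
  have hσπ : σ ≫ π = 𝟙 F0 := by
    rw [E, Preadditive.sum_comp]
    refine Finset.sum_congr rfl (fun j _ => ?_)
    rw [Category.assoc, Sigma.ι_desc]
  let φ : (∐ L : X.Modules) ⟶ (∐ L : X.Modules) := 𝟙 _ - π ≫ σ
  have hφπ : φ ≫ π = 0 := by
    rw [Preadditive.sub_comp, Category.id_comp, Category.assoc, hσπ, Category.comp_id, sub_self]
  have hcok : IsColimit (CokernelCofork.ofπ π hφπ) :=
    CokernelCofork.IsColimit.ofπ π hφπ (fun {Z} g _ => σ ≫ g)
      (fun {Z} g hg => by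
        have h1 : (𝟙 _ - π ≫ σ) ≫ g = 0 := hg
        rw [Preadditive.sub_comp, Category.id_comp, sub_eq_zero, Category.assoc] at h1
        exact h1.symm)
      (fun {Z} g hg m hm => by
        rw [← hm, ← Category.assoc, hσπ, Category.id_comp])
  have iso : cokernel φ ≅ F0 :=
    (colimit.isColimit _).coconePointUniqueUpToIso hcok
  exact (SheafOfModules.isQuasicoherent X.ringCatSheaf).prop_of_iso iso
    (QCProps.isQuasicoherent_cokernel φ)

end QC

variable (k : Type u) [Field k] (r : ℕ)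

/-- the twisting sheaves on projective space are quasi-coherent -/
theorem isQCoh_twist (c : ℤ) :
    SheafOfModules.IsQuasicoherent (R := (CohB1.ProjSpace r k).ringCatSheaf)
      (Twist.twistProjSpace r k c) :=
  Groth.Agent.Lib.Helper3.GrTildeSelf.isQuasicoherent_twist (𝒜 := CohB1.polyGrading r k) c

/-- the tilde of a graded free module is quasi-coherent -/
theorem isQCoh_free {N : ℕ} (deg : Fin N → ℤ) :
    Coh.IsQCoh (X := CohB1.ProjSpace r k)
      (GrTilde.tilde (CohB1.polyGrading r k) (pieceN k r deg) 0) := by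
  refine isQCoh_of_sum (X := CohB1.ProjSpace r k)
    (fun j => GrTilde.tilde (CohB1.polyGrading r k) (shiftN k r (deg j)) 0)
    (fun j => tmap (projL k r j) (projL_mem k r deg j) 0)
    (fun j => tmap (singL k r j) (singL_mem k r deg j) 0) (id_eq_sum k r deg 0) (fun j => ?_)
  exact (SheafOfModules.isQuasicoherent (CohB1.ProjSpace r k).ringCatSheaf).prop_of_iso
    (shiftIso' k r (deg j)).symm (isQCoh_twist k r (-deg j))

section Pres

variable {P : Type u} [AddCommGroup P] [Module k P] [Module (MvPolynomial (Fin (r + 1)) k) P]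
  (𝒬 : ℕ → Submodule k P) [SetLike.GradedSMul (CohB1.polyGrading r k) 𝒬]

/-- the tilde of a graded module with a finite graded free presentation is quasi-coherent -/
theorem isQCoh_of_presentation {N N' : ℕ} (deg : Fin N → ℤ) (deg' : Fin N' → ℤ)
    (g : (Fin N → MvPolynomial (Fin (r + 1)) k) →ₗ[MvPolynomial (Fin (r + 1)) k] P)
    (hg : ∀ i, ∀ v ∈ pieceN k r deg i, g v ∈ 𝒬 i)
    (hsurj : ∀ i, ∀ p ∈ 𝒬 i, ∃ v ∈ pieceN k r deg i, g v = p)
    (hann : ∀ i, ∀ p ∈ 𝒬 i, ∀ u : MvPolynomial (Fin (r + 1)) k, u • p = 0 →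
      ∀ e, (DirectSum.decompose (CohB1.polyGrading r k) u e : MvPolynomial (Fin (r + 1)) k) • p = 0)
    (f : (Fin N' → MvPolynomial (Fin (r + 1)) k) →ₗ[MvPolynomial (Fin (r + 1)) k]
      (Fin N → MvPolynomial (Fin (r + 1)) k))
    (hf : ∀ i, ∀ v ∈ pieceN k r deg' i, f v ∈ pieceN k r deg i)
    (hgf : ∀ v, g (f v) = 0)
    (hex : ∀ i, ∀ y ∈ pieceN k r deg i, g y = 0 → ∃ m ∈ pieceN k r deg' i, f m = y) :
    Coh.IsQCoh (X := CohB1.ProjSpace r k) (GrTilde.tilde (CohB1.polyGrading r k) 𝒬 0) := by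
  have hS := exact_tmap (𝒜 := CohB1.polyGrading r k) (ℳ := pieceN k r deg')
    (𝒩 := pieceN k r deg) (𝒬 := 𝒬) f hf g hg hgf hex hann 0
  haveI : Epi (tmap (𝒜 := CohB1.polyGrading r k) (ℳ := pieceN k r deg) (𝒩 := 𝒬) g hg 0) :=
    epi_tmap g hg 0 hsurj
  haveI : Epi (ShortComplex.mk (tmap (𝒜 := CohB1.polyGrading r k) f hf 0) (tmap g hg 0)
      (tmap_comp_eq_zero f hf g hg hgf 0)).g := this
  have hcok := hS.gIsCokernel
  haveI h1 : SheafOfModules.IsQuasicoherent (R := (CohB1.ProjSpace r k).ringCatSheaf)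
      (GrTilde.tilde (CohB1.polyGrading r k) (pieceN k r deg') 0) := isQCoh_free k r deg'
  haveI h2 : SheafOfModules.IsQuasicoherent (R := (CohB1.ProjSpace r k).ringCatSheaf)
      (GrTilde.tilde (CohB1.polyGrading r k) (pieceN k r deg) 0) := isQCoh_free k r deg
  have iso : cokernel (tmap (𝒜 := CohB1.polyGrading r k) (ℳ := pieceN k r deg')
      (𝒩 := pieceN k r deg) f hf 0) ≅ GrTilde.tilde (CohB1.polyGrading r k) 𝒬 0 :=
    (colimit.isColimit _).coconePointUniqueUpToIso hcok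
  exact (SheafOfModules.isQuasicoherent (CohB1.ProjSpace r k).ringCatSheaf).prop_of_iso iso
    (QCProps.isQuasicoherent_cokernel (X := CohB1.ProjSpace r k) _)

/-- transfer of cohomology vanishing between `M~ ⊗ O(c)` and `M(c)~` -/
theorem sub_tilde_iff (c : ℤ) (q : ℕ) :
    Subsingleton (Coh.HH (CohB1.ProjSpace r k)
      (CohB1.tensorMod (GrTilde.tilde (CohB1.polyGrading r k) 𝒬 0)
        (Twist.twistProjSpace r k c)) q) ↔
    Subsingleton (Coh.HH (CohB1.ProjSpace r k) (GrTilde.tilde (CohB1.polyGrading r k) 𝒬 c) q) := by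
  have Ψ : CohB1.tensorMod (GrTilde.tilde (CohB1.polyGrading r k) 𝒬 0)
      (Twist.twist (CohB1.polyGrading r k) c) ≅ GrTilde.tilde (CohB1.polyGrading r k) 𝒬 c :=
    mmulIso (add_zero c) (Groth.Agent.Lib.Helper7.Mumford.hU r k c)
  exact ⟨fun h => subsingleton_HH_of_iso (X := CohB1.ProjSpace r k) Ψ.symm q h,
    fun h => subsingleton_HH_of_iso (X := CohB1.ProjSpace r k) Ψ q h⟩

end Pres

/-- projective space over a field has a point -/
theorem exists_point : Nonempty (ProjectiveSpectrum (CohB1.polyGrading r k)) := by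
  haveI : (⊥ : Ideal (MvPolynomial (Fin (r + 1)) k)).IsPrime := Ideal.isPrime_bot
  refine ⟨Groth.Agent.Lib.Helper6.projPointOfPrime (CohB1.polyGrading r k) ⊥ (fun hle => ?_)⟩
  have hX : (MvPolynomial.X 0 : MvPolynomial (Fin (r + 1)) k) ∈
      (HomogeneousIdeal.irrelevant (CohB1.polyGrading r k)).toIdeal :=
    HomogeneousIdeal.mem_irrelevant_of_mem (CohB1.polyGrading r k) one_pos
      (MvPolynomial.isHomogeneous_X k (0 : Fin (r + 1)))
  have h0 := hle hX
  rw [Ideal.mem_bot] at h0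
  exact MvPolynomial.X_ne_zero (R := k) (0 : Fin (r + 1)) h0

/-- `K_n → H^0(K(n)~)` is injective for a submodule of a free module -/
theorem inj_sub {N : ℕ} (deg : Fin N → ℤ)
    (K : Submodule (MvPolynomial (Fin (r + 1)) k) (Fin N → MvPolynomial (Fin (r + 1)) k))
    (n : ℕ) (m : subN k r deg K n)
    (h0 : gsec (CohB1.polyGrading r k) (subN k r deg K) n m = 0) : m = 0 := by
  obtain ⟨x⟩ := exists_point k r
  have h1 := congrArg (fun s => mval s (⟨x, trivial⟩ : (⊤ : (Proj (CohB1.polyGrading r k)).Opens))) h0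
  simp only [mval_gsec, mval_zero] at h1
  rw [← LocalizedModule.zero_mk (⟨1, one_notMem' x⟩ : x.asHomogeneousIdeal.toIdeal.primeCompl),
    LocalizedModule.mk_eq] at h1
  obtain ⟨c, hc⟩ := h1
  have hc' : (c : MvPolynomial (Fin (r + 1)) k) • m.1 = 0 := by
    have h2 : (c : MvPolynomial (Fin (r + 1)) k) •
        ((1 : MvPolynomial (Fin (r + 1)) k) • m.1) =
        (c : MvPolynomial (Fin (r + 1)) k) • ((1 : MvPolynomial (Fin (r + 1)) k) • (0 : ↥K)) := hc
    rw [one_smul, one_smul, smul_zero] at h2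
    exact h2
  have hcne : (c : MvPolynomial (Fin (r + 1)) k) ≠ 0 := by
    intro hc0
    exact c.2 (hc0 ▸ Ideal.zero_mem _)
  apply Subtype.ext
  apply Subtype.ext
  funext b
  have h3 : ((c : MvPolynomial (Fin (r + 1)) k) • m.1 : ↥K).1 b = 0 := by rw [hc']; rfl
  have h4 : (c : MvPolynomial (Fin (r + 1)) k) * m.1.1 b = 0 := h3
  exact (mul_eq_zero.mp h4).resolve_left hcne

section Syz

variable {P : Type u} [AddCommGroup P] [Module k P] [Module (MvPolynomial (Fin (r + 1)) k) P]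
  {𝒬 : ℕ → Submodule k P} [SetLike.GradedSMul (CohB1.polyGrading r k) 𝒬]

/-- **the syzygy step**: the regularity package at level `e` for `Q` gives the package at level
`e + 1` for the kernel of a graded surjection `F → Q` from a graded free module generated in
degrees `≤ e`. -/
theorem phi_syz {e : ℕ} (h : Phi k r 𝒬 e) {N : ℕ} (deg : Fin N → ℤ)
    (g : (Fin N → MvPolynomial (Fin (r + 1)) k) →ₗ[MvPolynomial (Fin (r + 1)) k] P)
    (hg : ∀ i, ∀ v ∈ pieceN k r deg i, g v ∈ 𝒬 i)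
    (hsurj : ∀ i, ∀ p ∈ 𝒬 i, ∃ v ∈ pieceN k r deg i, g v = p)
    (hann : ∀ i, ∀ p ∈ 𝒬 i, ∀ u : MvPolynomial (Fin (r + 1)) k, u • p = 0 →
      ∀ e, (DirectSum.decompose (CohB1.polyGrading r k) u e : MvPolynomial (Fin (r + 1)) k) • p = 0)
    (K : Submodule (MvPolynomial (Fin (r + 1)) k) (Fin N → MvPolynomial (Fin (r + 1)) k))
    (hK : ∀ v, v ∈ K ↔ g v = 0) (hdeg : ∀ j, deg j ≤ e)
    (hqc : Coh.IsQCoh (X := CohB1.ProjSpace r k)
      (GrTilde.tilde (CohB1.polyGrading r k) (subN k r deg K) 0)) :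
    Phi k r (subN k r deg K) (e + 1) := by
  have hS := fun n : ℤ => shortExact_tmap (𝒜 := CohB1.polyGrading r k) (ℳ := subN k r deg K)
    (𝒩 := pieceN k r deg) (𝒬 := 𝒬) K.subtype (fun i m hm => hm) g hg
    (fun m => (hK m.1).mp m.2) Subtype.val_injective
    (fun i y hy h0 => ⟨⟨y, (hK y).mpr h0⟩, hy, rfl⟩) hsurj hann n
  refine ⟨hqc, ?_, fun n _ m hm => inj_sub k r deg K n m hm, ?_⟩
  · intro i hi
    rcases Nat.lt_or_ge i 2 with hi2 | hi2
    · have hi1 : i = 1 := by omega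
      subst hi1
      have e1 : (((e + 1 : ℕ) : ℤ) - ((1 : ℕ) : ℤ)) = (e : ℤ) := by push_cast; ring
      rw [e1, sub_tilde_iff]
      have key := sub_H1_left (X := CohB1.ProjSpace r k) _ (hS (e : ℤ))
      refine key ?_ ?_
      · intro s
        obtain ⟨m, rfl⟩ := h.surj s
        obtain ⟨v, hv, hgv⟩ := hsurj e m.1 m.2
        refine ⟨gsec (CohB1.polyGrading r k) (pieceN k r deg) e ⟨v, hv⟩, ?_⟩
        change (tmap (𝒜 := CohB1.polyGrading r k) g hg (e : ℤ)).app ⊤ _ = _
        rw [tmap_gsec]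
        congr 1
        exact Subtype.ext hgv
      · change Subsingleton (Coh.HH (CohB1.ProjSpace r k)
          (GrTilde.tilde (CohB1.polyGrading r k) (pieceN k r deg) (e : ℤ)) 1)
        rw [← sub_tilde_iff]
        exact sub_free k r deg (e : ℤ) 1 (fun j => sub_twist k r (deg j) e 1 le_rfl
          (fun hr => by have := hdeg j; omega))
    · obtain ⟨i', rfl⟩ : ∃ i', i = i' + 1 := ⟨i - 1, by omega⟩
      have hSc := Groth.Agent.Lib.Helper7.Mumford.shortExact_tw r k
        (((e + 1 : ℕ) : ℤ) - ((i' + 1 : ℕ) : ℤ)) _ (hS 0)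
      refine sub_left' _ _ _ (twR (Twist.twistProjSpace r k
        (((e + 1 : ℕ) : ℤ) - ((i' + 1 : ℕ) : ℤ)))) hSc i' ?_ ?_
      · have e2 : (((e + 1 : ℕ) : ℤ) - ((i' + 1 : ℕ) : ℤ)) = (e : ℤ) - (i' : ℕ) := by
          push_cast; ring
        rw [e2]
        exact h.reg i' (by omega)
      · exact sub_free k r deg _ (i' + 1) (fun j => sub_twist k r (deg j) _ (i' + 1) (by omega)
          (fun hr => by have := hdeg j; push_cast; omega))
  · intro s
    obtain ⟨v, hv⟩ := exists_gsec_free k r deg (e + 1)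
      (fun j => by have := hdeg j; push_cast; omega)
      ((tmap (𝒜 := CohB1.polyGrading r k) (ℳ := subN k r deg K) (𝒩 := pieceN k r deg)
        K.subtype (fun i m hm => hm) ((e + 1 : ℕ) : ℤ)).app ⊤ s)
    have h1 : gsec (CohB1.polyGrading r k) 𝒬 (e + 1) ⟨g v.1, hg _ _ v.2⟩ = 0 := by
      rw [← tmap_gsec (CohB1.polyGrading r k) (pieceN k r deg) 𝒬 g hg (e + 1) v, hv]
      exact congrArg (fun φ => φ.app ⊤ s)
        (tmap_comp_eq_zero (𝒜 := CohB1.polyGrading r k) (ℳ := subN k r deg K)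
          (𝒩 := pieceN k r deg) (𝒬 := 𝒬) K.subtype (fun i m hm => hm) g hg
          (fun m => (hK m.1).mp m.2) ((e + 1 : ℕ) : ℤ))
    have h2 := h.inj (e + 1) (Nat.lt_succ_self e) _ h1
    have h3 : g v.1 = 0 := congrArg Subtype.val h2
    refine ⟨⟨⟨v.1, (hK v.1).mpr h3⟩, v.2⟩, ?_⟩
    haveI := mono_tmap (𝒜 := CohB1.polyGrading r k) (ℳ := subN k r deg K)
      (𝒩 := pieceN k r deg) K.subtype (fun i m hm => hm) ((e + 1 : ℕ) : ℤ) Subtype.val_injective
    have hinj := (QCProps.mono_iff_app_injective _).mp this ⊤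
    apply hinj
    rw [tmap_gsec, ← hv]
    rfl

end Syz

end Groth.Agent.Lib.Helper20.ZT
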