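import Groth.Agent.Lib.Helper20.ZT7
import Groth.Agent.Lib.Helper20.GrChop
import Groth.Agent.Lib.Helper20.GrPolyStd

/-!
# Module regularity from sheaf regularity, vanishing of `H^0_m` and surjectivity onto sections
-/

set_option autoImplicit false
set_option linter.unusedSectionVars false
universe u
open CategoryTheory CategoryTheory.Limits AlgebraicGeometry TopologicalSpace Opposite
open Scheme.Modules

namespace Groth.Agent.Lib.Helper20.ZT

open Groth.Agent.Lib.Helper3 Groth.Agent.Lib.Helper3.QCSec Groth.Agent.Lib.Helper3.TwistBasic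
  Groth.Agent.Lib.Helper3.GrTildeQC Groth.Agent.Lib.Helper3.HomMk
  Groth.Agent.Lib.Helper3.GrTildeTwist Groth.Agent.Lib.Helper3.InvMonoidal
  Groth.Agent.Lib.Helper3.InvTensor
  Groth.Agent.Lib.Helper22.GrHilb Groth.Agent.Lib.Helper7.TwFun Groth.Agent.Lib.Helper7.MulSurj
  Groth.Agent.Lib.Helper7.RegRes

variable (k : Type u) [Field k] (r : ℕ)

section Mod

variable {M : Type u} [AddCommGroup M] [Module k M] [Module (MvPolynomial (Fin (r + 1)) k) M]
  [IsScalarTower k (MvPolynomial (Fin (r + 1)) k) M]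
  (ℳ : ℤ → Submodule k M) [DirectSum.Decomposition ℳ]
  [SetLike.GradedSMul (GrSyz.stdGr k (Fin (r + 1))) ℳ]
  [SetLike.GradedSMul (CohB1.polyGrading r k) (fun n : ℕ => ℳ (n : ℤ))]

theorem irrel_le_irrelevant :
    (GrSyz.irrel (GrSyz.stdGr k (Fin (r + 1)))).toIdeal ≤
      (HomogeneousIdeal.irrelevant (CohB1.polyGrading r k)).toIdeal := by
  change Ideal.span _ ≤ _
  rw [Ideal.span_le]
  rintro p ⟨n, hn, hp⟩
  obtain ⟨n', rfl⟩ : ∃ n' : ℕ, n = (n' : ℤ) := ⟨n.toNat, by omega⟩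
  exact HomogeneousIdeal.mem_irrelevant_of_mem (CohB1.polyGrading r k) (by exact_mod_cast hn)
    (mem_poly_of_mem_std k r hp)

/-- a homogeneous element whose section `m/1` vanishes is killed by a power of the irrelevant
ideal -/
theorem mem_gam_of_gsec_eq_zero (n : ℕ) (m : ℳ (n : ℤ))
    (h0 : gsec (CohB1.polyGrading r k) (fun n : ℕ => ℳ (n : ℤ)) n m = 0) :
    m.1 ∈ GrLC.gam (GrSyz.irrel (GrSyz.stdGr k (Fin (r + 1)))).toIdeal M := by
  classical
  have hI : ∀ a : MvPolynomial (Fin (r + 1)) k,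
      a ∈ LinearMap.ker (LinearMap.toSpanSingleton (MvPolynomial (Fin (r + 1)) k) M m.1) ↔
        a • m.1 = 0 := fun a => by
    simp [LinearMap.mem_ker, LinearMap.toSpanSingleton_apply]
  have hloc : ∀ x : ProjectiveSpectrum (CohB1.polyGrading r k),
      ∃ u : MvPolynomial (Fin (r + 1)) k, u ∉ x.asHomogeneousIdeal.toIdeal ∧ u • m.1 = 0 := by
    intro x
    have h1 := congrArg
      (fun s => mval s (⟨x, trivial⟩ : (⊤ : (Proj (CohB1.polyGrading r k)).Opens))) h0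
    simp only [mval_gsec, mval_zero] at h1
    rw [← LocalizedModule.zero_mk (⟨1, one_notMem' x⟩ : x.asHomogeneousIdeal.toIdeal.primeCompl),
      LocalizedModule.mk_eq] at h1
    obtain ⟨c, hc⟩ := h1
    refine ⟨(c : MvPolynomial (Fin (r + 1)) k), c.2, ?_⟩
    have h2 : (c : MvPolynomial (Fin (r + 1)) k) •
        ((1 : MvPolynomial (Fin (r + 1)) k) • m.1) =
        (c : MvPolynomial (Fin (r + 1)) k) • ((1 : MvPolynomial (Fin (r + 1)) k) • (0 : M)) := hc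
    rw [one_smul, one_smul, smul_zero] at h2
    exact h2
  have hle : (HomogeneousIdeal.irrelevant (CohB1.polyGrading r k)).toIdeal ≤
      Ideal.radical (LinearMap.ker
        (LinearMap.toSpanSingleton (MvPolynomial (Fin (r + 1)) k) M m.1) : Ideal _) := by
    rw [Ideal.radical_eq_sInf]
    refine le_sInf ?_
    rintro q ⟨hIq, hq⟩
    have := hq
    by_contra hle
    obtain ⟨u, hux, huw⟩ := hloc (Groth.Agent.Lib.Helper6.projPointOfPrime
      (CohB1.polyGrading r k) q hle)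
    have hcomp : ∃ j, (DirectSum.decompose (CohB1.polyGrading r k) u j :
        MvPolynomial (Fin (r + 1)) k) ∉ q := by
      by_contra hcon
      push Not at hcon
      apply hux
      change u ∈ (q.homogeneousCore (CohB1.polyGrading r k)).toIdeal
      rw [← DirectSum.sum_support_decompose (CohB1.polyGrading r k) u]
      exact Ideal.sum_mem _ fun j _ =>
        Ideal.mem_homogeneousCore_of_homogeneous_of_mem ⟨j, SetLike.coe_mem _⟩ (hcon j)
    obtain ⟨j, hj⟩ := hcomp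
    exact hj (hIq ((hI _).2 (hann_of_decomposition k r ℳ (n : ℤ) m.1 m.2 u huw j)))
  obtain ⟨N, hN⟩ := Ideal.exists_pow_le_of_le_radical_of_fg hle (IsNoetherian.noetherian _)
  refine ⟨N, fun a ha => (hI a).1 (hN (Ideal.pow_right_mono (irrel_le_irrelevant k r) N ha))⟩

section Res

open Groth.Agent.Lib.Helper20.GrPolyStd Groth.Agent.Lib.Helper20.GrConv
  Groth.Agent.Lib.Helper20.GrVan

variable (F : GrSyz.FreeRes (GrSyz.stdGr k (Fin (r + 1))) ℳ)

include F in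
/-- `M~` is quasi-coherent -/
theorem qcM : Coh.IsQCoh (X := CohB1.ProjSpace r k)
    (GrTilde.tilde (CohB1.polyGrading r k) (fun n : ℕ => ℳ (n : ℤ)) 0) :=
  isQCoh_of_presentation k r (fun n : ℕ => ℳ (n : ℤ)) (F.deg 0) (F.deg 1) F.augLin
    (fun i v hv => aug_mem_piece k r ℳ F i v hv)
    (fun i m hm => aug_surj_piece k r ℳ F i m hm)
    (fun i m hm u hu e => hann_of_decomposition k r ℳ (i : ℤ) m hm u hu e)
    (F.dLin 0) (fun i v hv => d_mem_piece k r ℳ F 0 i v hv) (d0_comp k r ℳ F)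
    (fun i v hv h0 => d0_surj_piece k r ℳ F i v hv h0)

/-- the corestriction of `d_0` to the first syzygy module -/
noncomputable def g0 : (Fin (F.rk 1) → MvPolynomial (Fin (r + 1)) k) →ₗ[MvPolynomial (Fin (r + 1)) k]
    ↥(Y0 k r ℳ F) :=
  (F.dLin 0).codRestrict (Y0 k r ℳ F) (fun v => LinearMap.mem_ker.mpr (d0_comp k r ℳ F v))

/-- the corestriction of `d_{p+1}` to the `(p+2)`-nd syzygy module -/
noncomputable def gY (p : ℕ) : (Fin (F.rk (p + 2)) → MvPolynomial (Fin (r + 1)) k)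
    →ₗ[MvPolynomial (Fin (r + 1)) k] ↥(Y k r ℳ F p) :=
  (F.dLin (p + 1)).codRestrict (Y k r ℳ F p)
    (fun v => LinearMap.mem_ker.mpr (d_comp k r ℳ F p v))

theorem g0_mem : ∀ i, ∀ v ∈ pieceN k r (F.deg 1) i,
    g0 k r ℳ F v ∈ subN k r (F.deg 0) (Y0 k r ℳ F) i :=
  fun i v hv => d_mem_piece k r ℳ F 0 i v hv

theorem gY_mem (p : ℕ) : ∀ i, ∀ v ∈ pieceN k r (F.deg (p + 2)) i,
    gY k r ℳ F p v ∈ subN k r (F.deg (p + 1)) (Y k r ℳ F p) i :=
  fun i v hv => d_mem_piece k r ℳ F (p + 1) i v hv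

theorem g0_surj : ∀ i, ∀ y ∈ subN k r (F.deg 0) (Y0 k r ℳ F) i,
    ∃ v ∈ pieceN k r (F.deg 1) i, g0 k r ℳ F v = y := by
  intro i y hy
  obtain ⟨w, hw, hwv⟩ := d0_surj_piece k r ℳ F i y.1 hy (LinearMap.mem_ker.mp y.2)
  exact ⟨w, hw, Subtype.ext hwv⟩

theorem gY_surj (p : ℕ) : ∀ i, ∀ y ∈ subN k r (F.deg (p + 1)) (Y k r ℳ F p) i,
    ∃ v ∈ pieceN k r (F.deg (p + 2)) i, gY k r ℳ F p v = y := by
  intro i y hy
  obtain ⟨w, hw, hwv⟩ := d_surj_piece k r ℳ F p i y.1 hy (LinearMap.mem_ker.mp y.2)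
  exact ⟨w, hw, Subtype.ext hwv⟩

theorem g0_ker (v : Fin (F.rk 1) → MvPolynomial (Fin (r + 1)) k) :
    v ∈ Y k r ℳ F 0 ↔ g0 k r ℳ F v = 0 :=
  ⟨fun h => Subtype.ext (LinearMap.mem_ker.mp h),
    fun h => LinearMap.mem_ker.mpr (congrArg Subtype.val h)⟩

theorem gY_ker (p : ℕ) (v : Fin (F.rk (p + 2)) → MvPolynomial (Fin (r + 1)) k) :
    v ∈ Y k r ℳ F (p + 1) ↔ gY k r ℳ F p v = 0 :=
  ⟨fun h => Subtype.ext (LinearMap.mem_ker.mp h),
    fun h => LinearMap.mem_ker.mpr (congrArg Subtype.val h)⟩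

/-- the tilde of the first syzygy module is quasi-coherent -/
theorem qcY0 : Coh.IsQCoh (X := CohB1.ProjSpace r k)
    (GrTilde.tilde (CohB1.polyGrading r k) (subN k r (F.deg 0) (Y0 k r ℳ F)) 0) :=
  isQCoh_of_presentation k r (subN k r (F.deg 0) (Y0 k r ℳ F)) (F.deg 1) (F.deg 2)
    (g0 k r ℳ F) (g0_mem k r ℳ F) (g0_surj k r ℳ F)
    (fun i y _ u hu e => hann_sub k r _ y u hu e)
    (F.dLin 1) (fun i v hv => d_mem_piece k r ℳ F 1 i v hv)
    (fun v => Subtype.ext (d_comp k r ℳ F 0 v))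
    (fun i v hv h0 => d_surj_piece k r ℳ F 0 i v hv (congrArg Subtype.val h0))

/-- the tildes of the higher syzygy modules are quasi-coherent -/
theorem qcY (p : ℕ) : Coh.IsQCoh (X := CohB1.ProjSpace r k)
    (GrTilde.tilde (CohB1.polyGrading r k) (subN k r (F.deg (p + 1)) (Y k r ℳ F p)) 0) :=
  isQCoh_of_presentation k r (subN k r (F.deg (p + 1)) (Y k r ℳ F p)) (F.deg (p + 2))
    (F.deg (p + 3))
    (gY k r ℳ F p) (gY_mem k r ℳ F p) (gY_surj k r ℳ F p)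
    (fun i y _ u hu e => hann_sub k r _ y u hu e)
    (F.dLin (p + 2)) (fun i v hv => d_mem_piece k r ℳ F (p + 2) i v hv)
    (fun v => Subtype.ext (d_comp k r ℳ F (p + 1) v))
    (fun i v hv h0 => d_surj_piece k r ℳ F (p + 1) i v hv (congrArg Subtype.val h0))

include F in
/-- the regularity package for `M` from the sheaf-theoretic conditions -/
theorem phi_of_rhs (d : ℕ)
    (h1 : Curv2.IsMRegular k r
      (GrTilde.tilde (CohB1.polyGrading r k) (fun n : ℕ => ℳ (n : ℤ)) 0) (d : ℤ))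
    (h2 : ∀ e : ℤ, (d : ℤ) < e → Van (irrelAS k r) (toAS ℳ) 0 e)
    (h3 : ∀ s : Γ(GrTilde.tilde (CohB1.polyGrading r k) (fun n : ℕ => ℳ (n : ℤ)) (d : ℤ),
      (⊤ : (Proj (CohB1.polyGrading r k)).Opens)), ∃ m : ℳ (d : ℤ),
        gsec (CohB1.polyGrading r k) (fun n : ℕ => ℳ (n : ℤ)) d m = s) :
    Phi k r (fun n : ℕ => ℳ (n : ℤ)) d := by
  have hqc := qcM k r ℳ F
  refine ⟨hqc, Groth.Agent.Lib.Helper7.MulSurjPn.regular_all r k _ hqc (d : ℤ) h1, ?_, h3⟩
  intro n hn m hm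
  have ht := mem_gam_of_gsec_eq_zero k r ℳ n m hm
  apply Subtype.ext
  exact Groth.Agent.Lib.Helper20.GrChop.eq_zero_of_van_zero (irrelAS k r) (toAS ℳ)
    (h2 (n : ℤ) (by exact_mod_cast hn)) m.2 ht

theorem mulVec_mem_of_entries {a b : ℕ}
    (D : Matrix (Fin a) (Fin b) (MvPolynomial (Fin (r + 1)) k))
    (I : Ideal (MvPolynomial (Fin (r + 1)) k)) (hD : ∀ i j, D i j ∈ I)
    (w : Fin b → MvPolynomial (Fin (r + 1)) k) (j : Fin a) : D.mulVec w j ∈ I := by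
  change ∑ b, D j b * w b ∈ I
  exact Ideal.sum_mem _ (fun b _ => Ideal.mul_mem_right _ _ (hD j b))

theorem hmin_aug (hmin : F.IsMinimal (GrSyz.irrel (GrSyz.stdGr k (Fin (r + 1)))).toIdeal)
    (v : Fin (F.rk 0) → MvPolynomial (Fin (r + 1)) k) (hv : F.augLin v = 0) (j : Fin (F.rk 0)) :
    v j ∈ (GrSyz.irrel (GrSyz.stdGr k (Fin (r + 1)))).toIdeal := by
  have h : v ∈ LinearMap.ker (Fintype.linearCombination _ F.aug) := hv
  rw [F.exact_zero] at h
  obtain ⟨w, rfl⟩ := h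
  exact mulVec_mem_of_entries k r (F.d 0) _ (hmin 0) w j

theorem hmin_d (hmin : F.IsMinimal (GrSyz.irrel (GrSyz.stdGr k (Fin (r + 1)))).toIdeal) (p : ℕ)
    (v : Fin (F.rk (p + 1)) → MvPolynomial (Fin (r + 1)) k) (hv : F.dLin p v = 0)
    (j : Fin (F.rk (p + 1))) :
    v j ∈ (GrSyz.irrel (GrSyz.stdGr k (Fin (r + 1)))).toIdeal := by
  have h : v ∈ LinearMap.ker (Matrix.mulVecLin (F.d p)) := hv
  rw [F.exact_succ p] at h
  obtain ⟨w, rfl⟩ := h
  exact mulVec_mem_of_entries k r (F.d (p + 1)) _ (hmin (p + 1)) w j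

/-- **module regularity from the regularity package** -/
theorem isGenLE_of_phi (hmin : F.IsMinimal (GrSyz.irrel (GrSyz.stdGr k (Fin (r + 1)))).toIdeal)
    (d : ℕ) (h : Phi k r (fun n : ℕ => ℳ (n : ℤ)) d) : F.IsGenLE (d : ℤ) := by
  have A0 : ∀ j, F.deg 0 j ≤ (d : ℤ) := fun j =>
    gen_le k r h (F.deg 0) F.augLin (fun i v hv => aug_mem_piece k r ℳ F i v hv)
      (fun i m hm => aug_surj_piece k r ℳ F i m hm) (hmin_aug k r ℳ F hmin) j
  have P0 : Phi k r (subN k r (F.deg 0) (Y0 k r ℳ F)) (d + 1) :=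
    phi_syz k r h (F.deg 0) F.augLin (fun i v hv => aug_mem_piece k r ℳ F i v hv)
      (fun i m hm => aug_surj_piece k r ℳ F i m hm)
      (fun i m hm u hu e => hann_of_decomposition k r ℳ (i : ℤ) m hm u hu e)
      (Y0 k r ℳ F) (fun v => LinearMap.mem_ker) A0 (qcY0 k r ℳ F)
  have A1 : ∀ j, F.deg 1 j ≤ ((d + 1 : ℕ) : ℤ) := fun j =>
    gen_le k r P0 (F.deg 1) (g0 k r ℳ F) (g0_mem k r ℳ F) (g0_surj k r ℳ F)
      (fun v hv => hmin_d k r ℳ F hmin 0 v (congrArg Subtype.val hv)) j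
  have C : ∀ p : ℕ, Phi k r (subN k r (F.deg (p + 1)) (Y k r ℳ F p)) (d + p + 2) ∧
      ∀ j, F.deg (p + 2) j ≤ ((d + p + 2 : ℕ) : ℤ) := by
    intro p
    induction p with
    | zero =>
      have P1 : Phi k r (subN k r (F.deg 1) (Y k r ℳ F 0)) (d + 1 + 1) :=
        phi_syz k r P0 (F.deg 1) (g0 k r ℳ F) (g0_mem k r ℳ F) (g0_surj k r ℳ F)
          (fun i y _ u hu e => hann_sub k r _ y u hu e) (Y k r ℳ F 0) (g0_ker k r ℳ F) A1
          (qcY k r ℳ F 0)
      exact ⟨P1, fun j => gen_le k r P1 (F.deg 2) (gY k r ℳ F 0) (gY_mem k r ℳ F 0)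
        (gY_surj k r ℳ F 0)
        (fun v hv => hmin_d k r ℳ F hmin 1 v (congrArg Subtype.val hv)) j⟩
    | succ p ih =>
      have P' : Phi k r (subN k r (F.deg (p + 2)) (Y k r ℳ F (p + 1))) (d + p + 2 + 1) :=
        phi_syz k r ih.1 (F.deg (p + 2)) (gY k r ℳ F p) (gY_mem k r ℳ F p) (gY_surj k r ℳ F p)
          (fun i y _ u hu e => hann_sub k r _ y u hu e) (Y k r ℳ F (p + 1)) (gY_ker k r ℳ F p)
          ih.2 (qcY k r ℳ F (p + 1))
      exact ⟨P', fun j => gen_le k r P' (F.deg (p + 3)) (gY k r ℳ F (p + 1))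
        (gY_mem k r ℳ F (p + 1)) (gY_surj k r ℳ F (p + 1))
        (fun v hv => hmin_d k r ℳ F hmin (p + 2) v (congrArg Subtype.val hv)) j⟩
  intro i b
  match i, b with
  | 0, b => simpa using A0 b
  | 1, b =>
    have := A1 b
    push_cast at this ⊢
    linarith
  | p + 2, b =>
    have := (C p).2 b
    push_cast at this ⊢
    linarith

/-- `M_d → H^0(M(d)~)` is surjective when `M` is `d`-regular -/
theorem surj_of_genLE (d : ℕ) (hgen : F.IsGenLE (d : ℤ)) (hlen : F.HasLengthLE (r + 1))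
    (s : Γ(GrTilde.tilde (CohB1.polyGrading r k) (fun n : ℕ => ℳ (n : ℤ)) (d : ℤ),
      (⊤ : (Proj (CohB1.polyGrading r k)).Opens))) :
    ∃ m : ℳ (d : ℤ), gsec (CohB1.polyGrading r k) (fun n : ℕ => ℳ (n : ℤ)) d m = s := by
  have hS := shortExact_tmap (𝒜 := CohB1.polyGrading r k)
    (ℳ := subN k r (F.deg 0) (Y0 k r ℳ F))
    (𝒩 := pieceN k r (F.deg 0)) (𝒬 := fun n : ℕ => ℳ (n : ℤ)) (Y0 k r ℳ F).subtype
    (fun i m hm => hm) F.augLin (fun i v hv => aug_mem_piece k r ℳ F i v hv)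
    (fun m => LinearMap.mem_ker.mp m.2) Subtype.val_injective
    (fun i y hy h0 => ⟨⟨y, LinearMap.mem_ker.mpr h0⟩, hy, rfl⟩)
    (fun i m hm => aug_surj_piece k r ℳ F i m hm)
    (fun i m hm u hu e => hann_of_decomposition k r ℳ (i : ℤ) m hm u hu e) (d : ℤ)
  have h1 : Subsingleton (Coh.HH (CohB1.ProjSpace r k)
      (GrTilde.tilde (CohB1.polyGrading r k) (subN k r (F.deg 0) (Y0 k r ℳ F)) (d : ℤ)) 1) := by
    rw [← sub_tilde_iff]
    exact claimY0 k r ℳ F (d : ℤ) hgen hlen 1 le_rfl (d : ℤ) (by push_cast; omega)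
  obtain ⟨y, hy⟩ := surj_top_mk (X := CohB1.ProjSpace r k) _ _ _ hS h1 s
  obtain ⟨v, hv⟩ := exists_gsec_free k r (F.deg 0) d
    (fun j => by have := hgen 0 j; push_cast at this; linarith) y
  refine ⟨⟨F.augLin v.1, aug_mem_piece k r ℳ F d v.1 v.2⟩, ?_⟩
  rw [← hy, ← hv]
  exact (tmap_gsec (CohB1.polyGrading r k) (pieceN k r (F.deg 0)) (fun n : ℕ => ℳ (n : ℤ))
    F.augLin (fun i v hv => aug_mem_piece k r ℳ F i v hv) d v).symm

end Res

end Mod

end Groth.Agent.Lib.Helper20.ZT
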