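import Groth.Agent.Lib.Helper20.ZT8

/-!
# Surjectivity of `M_n → H^0(M(n)~)` in terms of the sections `m/1`
-/

set_option autoImplicit false
set_option linter.unusedSectionVars false
universe u
open CategoryTheory CategoryTheory.Limits AlgebraicGeometry TopologicalSpace Opposite
open Scheme.Modules

namespace Groth.Agent.Lib.Helper20.ZT

variable {R A : Type u} [CommRing R] [CommRing A] [Algebra R A] (𝒜 : ℕ → Submodule R A)
  [GradedAlgebra 𝒜]
  {M : Type u} [AddCommGroup M] [Module R M] [Module A M]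
  (ℳ : ℕ → Submodule R M) [SetLike.GradedSMul 𝒜 ℳ]

theorem surjective_globalOf_iff (n : ℕ) :
    Function.Surjective (fun m : ℳ n => GrTilde.globalOf 𝒜 ℳ m) ↔
      ∀ s : Γ(GrTilde.tilde 𝒜 ℳ (n : ℤ), (⊤ : (Proj 𝒜).Opens)),
        ∃ m : ℳ n, gsec 𝒜 ℳ n m = s := by
  constructor
  · intro h s
    obtain ⟨m, hm⟩ := h (s : GrTilde.sect 𝒜 ℳ (n : ℤ) (op ⊤))
    exact ⟨m, (gsec_eq_globalOf 𝒜 ℳ n m).trans hm⟩
  · intro h s
    obtain ⟨m, hm⟩ := h (s : GrTilde.sect 𝒜 ℳ (n : ℤ) (op ⊤))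
    exact ⟨m, (gsec_eq_globalOf 𝒜 ℳ n m).symm.trans hm⟩

end Groth.Agent.Lib.Helper20.ZT
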